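import Groth.Statements.S5662
import Groth.Agent.Lib.CohPullLib.SecPull
import Groth.Agent.Lib.DescLocus6.Frames
import Groth.Agent.Lib.Euler.Coh

set_option autoImplicit false
universe u
open CategoryTheory CategoryTheory.Limits AlgebraicGeometry
open FlatMor

namespace Groth.Agent.S5662

open AlgebraicGeometry GrothLib
open GrothLib.BCCoh (pullRes)
open GrothLib.CohPullLib (app_res map_map_sec map_sec_self pullRes_def)

variable {X Y : Scheme.{u}} (f : X ⟶ Y)

/-- The pulled back section on the preimage. -/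
noncomputable abbrev Pl (M : Y.Modules) (U : Y.Opens) (s : Γ(M, U)) : Γ((Scheme.Modules.pullback f).obj M, f ⁻¹ᵁ U) :=
  pullRes f M U (f ⁻¹ᵁ U) le_rfl s

theorem Pl_res (M : Y.Modules) {U W : Y.Opens} (h : W ≤ U) (s : Γ(M, U)) :
    ((Scheme.Modules.pullback f).obj M).presheaf.map (homOfLE (f.preimage_mono h)).op (Pl f M U s) =
      Pl f M W (M.presheaf.map (homOfLE h).op s) :=
  BCCoh.pullRes_res f M h le_rfl le_rfl (f.preimage_mono h) s

theorem Pl_sum (M : Y.Modules) {U : Y.Opens} {n : ℕ} (b : Fin n → Γ(Y, U)) (e : Fin n → Γ(M, U)) :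
    Pl f M U (∑ i, b i • e i) = ∑ i, f.app U (b i) • Pl f M U (e i) := by
  refine (map_sum (AddMonoidHom.mk' (Pl f M U) (BCCoh.pullRes_add f M U _ le_rfl)) _ _).trans ?_
  refine Finset.sum_congr rfl fun i _ => ?_
  show Pl f M U (b i • e i) = _
  rw [Pl, BCCoh.pullRes_smul, Scheme.Hom.appLE_eq_app]

theorem eq_of_cover {T : Scheme.{u}} (F : T.Modules) {ι : Type u} {V : T.Opens} (U : ι → T.Opens) (hle : ∀ i, U i ≤ V)
    (hcov : V ≤ iSup U) (s t : Γ(F, V))
    (h : ∀ i, F.presheaf.map (homOfLE (hle i)).op s = F.presheaf.map (homOfLE (hle i)).op t) : s = t :=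
  TopCat.Sheaf.eq_of_locally_eq' (C := Ab.{u}) ⟨F.presheaf, F.isSheaf⟩ U V (fun i => homOfLE (hle i)) hcov s t h

theorem exists_frames (M : Y.Modules) (hM : FlatMod.IsFinLocFree M) (U : Y.Opens) :
    ∃ (W : U → Y.Opens) (n : U → ℕ) (e : ∀ x, Fin (n x) → Γ(M, W x)),
      (∀ x, W x ≤ U) ∧ U ≤ iSup W ∧ ∀ x, FinCov.IsFrame M (W x) (e x) := by
  choose W n e hx he using fun x : U => FinCov.exists_frame_nhd hM (x : Y)
  refine ⟨fun x => W x ⊓ U, n, fun x i => M.presheaf.map (homOfLE inf_le_left).op (e x i),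
    fun x => inf_le_right, fun y hy => TopologicalSpace.Opens.mem_iSup.2 ⟨⟨y, hy⟩, hx _, hy⟩, fun x V h => ?_⟩
  simp only [map_map_sec]
  exact he x V (h.trans inf_le_left)

theorem Pl_frame (M : Y.Modules) [M.IsQuasicoherent] {W : Y.Opens} {n : ℕ} {e : Fin n → Γ(M, W)}
    (he : FinCov.IsFrame M W e) :
    Function.Bijective fun c : Fin n → Γ(X, f ⁻¹ᵁ W) => ∑ i, c i • Pl f M W (e i) := by
  have h := DescLocus6.isFrame_pullRes f M he (V' := f ⁻¹ᵁ W) le_rfl (f ⁻¹ᵁ W) le_rfl
  simp only [map_sec_self] at h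
  exact h

theorem self_frame {M : Y.Modules} {W : Y.Opens} {n : ℕ} {e : Fin n → Γ(M, W)}
    (he : FinCov.IsFrame M W e) :
    Function.Bijective fun c : Fin n → Γ(Y, W) => ∑ i, c i • e i := by
  have h := he W le_rfl
  simp only [map_sec_self] at h
  exact h

theorem Pl_injective (hinj : ∀ U : Y.Opens, Function.Injective (f.app U)) (M : Y.Modules)
    (hM : FlatMod.IsFinLocFree M) (U : Y.Opens) : Function.Injective (Pl f M U) := by
  haveI := Euler.isQuasicoherent_of_isFinLocFree hM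
  intro s t hst
  obtain ⟨W, n, e, hle, hcov, he⟩ := exists_frames M hM U
  refine eq_of_cover M W hle hcov s t fun x => ?_
  obtain ⟨b, hb⟩ := (self_frame (he x)).2 (M.presheaf.map (homOfLE (hle x)).op s)
  obtain ⟨c, hc⟩ := (self_frame (he x)).2 (M.presheaf.map (homOfLE (hle x)).op t)
  dsimp only at hb hc
  have h := congrArg (((Scheme.Modules.pullback f).obj M).presheaf.map (homOfLE (f.preimage_mono (hle x))).op) hst
  rw [Pl_res f M (hle x), Pl_res f M (hle x), ← hb, ← hc, Pl_sum, Pl_sum] at h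
  have h2 := (Pl_frame f M (he x)).1 h
  rw [← hb, ← hc, show b = c from funext fun i => hinj _ (congrFun h2 i)]

theorem exists_local
    (hU : ∀ U : Y.Opens, (pullback.fst f f) ⁻¹ᵁ (f ⁻¹ᵁ U) = (pullback.snd f f) ⁻¹ᵁ (f ⁻¹ᵁ U))
    (hex : ∀ (U : Y.Opens) (a : Γ(X, f ⁻¹ᵁ U)),
      (pullback.fst f f).app (f ⁻¹ᵁ U) a =
        ((pullback f f).presheaf.map (eqToHom (hU U)).op) ((pullback.snd f f).app (f ⁻¹ᵁ U) a) →
      a ∈ Set.range (f.app U))
    (L M : Y.Modules) (hM : FlatMod.IsFinLocFree M)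
    (φ : (Scheme.Modules.pullback f).obj L ⟶ (Scheme.Modules.pullback f).obj M)
    (hφ : ((Scheme.Modules.pullbackComp (pullback.fst f f) f).app L).inv ≫
        (Scheme.Modules.pullback (pullback.fst f f)).map φ ≫ ((Scheme.Modules.pullbackComp (pullback.fst f f) f).app M).hom =
      ((Scheme.Modules.pullbackCongr (pullback.condition (f := f) (g := f))).app L).hom ≫
        ((Scheme.Modules.pullbackComp (pullback.snd f f) f).app L).inv ≫
        (Scheme.Modules.pullback (pullback.snd f f)).map φ ≫ ((Scheme.Modules.pullbackComp (pullback.snd f f) f).app M).hom ≫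
        ((Scheme.Modules.pullbackCongr (pullback.condition (f := f) (g := f))).app M).inv)
    {W : Y.Opens} {n : ℕ} {e : Fin n → Γ(M, W)} (he : FinCov.IsFrame M W e) (s : Γ(L, W)) :
    ∃ m : Γ(M, W), Pl f M W m = φ.app (f ⁻¹ᵁ W) (Pl f L W s) := by
  haveI := Euler.isQuasicoherent_of_isFinLocFree hM
  obtain ⟨a, ha⟩ := (Pl_frame f M he).2 (φ.app (f ⁻¹ᵁ W) (Pl f L W s))
  dsimp only at ha
  suffices H : ∀ k, a k ∈ Set.range (f.app W) by
    choose b hb using H
    refine ⟨∑ i, b i • e i, ?_⟩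
    rw [Pl_sum, ← ha]
    simp only [hb]
  set p₁ := pullback.fst f f
  set p₂ := pullback.snd f f
  let V₂ := p₁ ⁻¹ᵁ (f ⁻¹ᵁ W)
  have e₂ : V₂ ≤ p₂ ⁻¹ᵁ (f ⁻¹ᵁ W) := (hU W).le
  have e₀ : V₂ ≤ (p₁ ≫ f) ⁻¹ᵁ W := le_rfl
  have e₀' : V₂ ≤ (p₂ ≫ f) ⁻¹ᵁ W := (hU W).le
  have key : ∀ (T : Scheme.{u}) (p : T ⟶ X) (V : T.Opens) (h : V ≤ p ⁻¹ᵁ (f ⁻¹ᵁ W)) (h' : V ≤ (p ≫ f) ⁻¹ᵁ W),
      ((Scheme.Modules.pullbackComp p f).hom.app M).app V
        (((Scheme.Modules.pullback p).map φ).app V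
          (((Scheme.Modules.pullbackComp p f).inv.app L).app V (pullRes (p ≫ f) L W V h' s))) =
      ∑ i, p.appLE (f ⁻¹ᵁ W) V h (a i) • pullRes (p ≫ f) M W V h' (e i) := by
    intro T p V h h'
    have h1 : ((Scheme.Modules.pullbackComp p f).inv.app L).app V (pullRes (p ≫ f) L W V h' s) =
        pullRes p ((Scheme.Modules.pullback f).obj L) (f ⁻¹ᵁ W) V h (Pl f L W s) := by
      rw [← CohPullLib.pullbackComp_pullRes p f L W (f ⁻¹ᵁ W) V le_rfl h h' s]
      rw [← ConcreteCategory.comp_apply, ← Scheme.Modules.Hom.comp_app, Iso.hom_inv_id_app]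
      rfl
    rw [h1, CohPullLib.pullRes_map, ← ha]
    rw [show pullRes p ((Scheme.Modules.pullback f).obj M) (f ⁻¹ᵁ W) V h (∑ i, a i • Pl f M W (e i)) =
        ∑ i, p.appLE (f ⁻¹ᵁ W) V h (a i) • pullRes p ((Scheme.Modules.pullback f).obj M) (f ⁻¹ᵁ W) V h (Pl f M W (e i)) from
      (map_sum (AddMonoidHom.mk' (pullRes p ((Scheme.Modules.pullback f).obj M) (f ⁻¹ᵁ W) V h)
        (BCCoh.pullRes_add _ _ _ _ _)) _ _).trans (Finset.sum_congr rfl fun i _ => BCCoh.pullRes_smul _ _ _ _ _ _ _)]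
    rw [map_sum]
    refine Finset.sum_congr rfl fun i _ => ?_
    rw [Scheme.Modules.Hom.app_smul, CohPullLib.pullbackComp_pullRes p f M W (f ⁻¹ᵁ W) V le_rfl h h']
  have h1 := congrArg (fun t => Scheme.Modules.Hom.app t V₂ (pullRes (p₁ ≫ f) L W V₂ e₀ s)) hφ
  simp only [Iso.app_hom, Iso.app_inv, Scheme.Modules.Hom.comp_app, ConcreteCategory.comp_apply] at h1
  rw [key _ p₁ V₂ le_rfl e₀, CohPullLib.pullbackCongr_pullRes pullback.condition L W V₂ e₀ e₀' s,
    key _ p₂ V₂ e₂ e₀'] at h1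
  rw [map_sum] at h1
  have h2 : ∀ i, ((Scheme.Modules.pullbackCongr (pullback.condition (f := f) (g := f))).inv.app M).app V₂
      (p₂.appLE (f ⁻¹ᵁ W) V₂ e₂ (a i) • pullRes (p₂ ≫ f) M W V₂ e₀' (e i)) =
      p₂.appLE (f ⁻¹ᵁ W) V₂ e₂ (a i) • pullRes (p₁ ≫ f) M W V₂ e₀ (e i) := by
    intro i
    rw [Scheme.Modules.Hom.app_smul, ← CohPullLib.pullbackCongr_pullRes pullback.condition M W V₂ e₀ e₀' (e i),
      ← ConcreteCategory.comp_apply, ← Scheme.Modules.Hom.comp_app, Iso.hom_inv_id_app]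
    rfl
  simp only [h2] at h1
  have hfr := DescLocus6.isFrame_pullRes (p₁ ≫ f) M he (V' := V₂) e₀ V₂ le_rfl
  simp only [map_sec_self] at hfr
  have h3 := hfr.1 h1
  intro k
  refine hex W (a k) ?_
  have h4 := congrFun h3 k
  rw [Scheme.Hom.appLE_eq_app] at h4
  refine h4.trans ?_
  rfl

theorem exists_global
    (hinj : ∀ U : Y.Opens, Function.Injective (f.app U))
    (L M : Y.Modules) (hM : FlatMod.IsFinLocFree M)
    (φ : (Scheme.Modules.pullback f).obj L ⟶ (Scheme.Modules.pullback f).obj M)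
    (hloc : ∀ {W : Y.Opens} {n : ℕ} {e : Fin n → Γ(M, W)}, FinCov.IsFrame M W e → ∀ s : Γ(L, W),
      ∃ m : Γ(M, W), Pl f M W m = φ.app (f ⁻¹ᵁ W) (Pl f L W s))
    (U : Y.Opens) (l : Γ(L, U)) :
    ∃ m : Γ(M, U), Pl f M U m = φ.app (f ⁻¹ᵁ U) (Pl f L U l) := by
  obtain ⟨W, n, e, hle, hcov, he⟩ := exists_frames M hM U
  choose m hm using fun x => hloc (he x) (L.presheaf.map (homOfLE (hle x)).op l)
  have hcomp : ∀ x y, M.presheaf.map (homOfLE (inf_le_left : W x ⊓ W y ≤ W x)).op (m x) =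
      M.presheaf.map (homOfLE (inf_le_right : W x ⊓ W y ≤ W y)).op (m y) := by
    intro x y
    refine Pl_injective f hinj M hM _ ?_
    rw [← Pl_res f M inf_le_left, ← Pl_res f M inf_le_right, hm, hm, ← app_res, ← app_res, Pl_res f L inf_le_left,
      Pl_res f L inf_le_right, map_map_sec, map_map_sec]
  obtain ⟨g, hg, -⟩ := TopCat.Sheaf.existsUnique_gluing' (C := Ab.{u}) ⟨M.presheaf, M.isSheaf⟩ W U
    (fun x => homOfLE (hle x)) hcov m hcomp
  refine ⟨g, eq_of_cover ((Scheme.Modules.pullback f).obj M) (fun x => f ⁻¹ᵁ W x) (fun x => f.preimage_mono (hle x))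
    ((f.preimage_mono hcov).trans (Scheme.Hom.preimage_iSup f W).le) _ _ fun x => ?_⟩
  rw [Pl_res f M (hle x), ← app_res, Pl_res f L (hle x), ← hm]
  exact congrArg _ (hg x)

/-- Let f : X ⟶ Y be a morphism of schemes, p₁, p₂ : X ×_Y X ⟶ X the projections and g = p₁ ≫ f. Assume
that the sequence O_Y → f_*O_X ⇉ g_*O_{X ×_Y X} is exact, i.e. on every open U ⊆ Y the sections of
O_Y are exactly the sections of O_X over f⁻¹U whose two pullbacks to g⁻¹U agree (hypotheses hinj,
hex; hU is the bookkeeping identity of the two preimage opens). Then f is a morphism of descent for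
finite locally free modules: for finite locally free O_Y-modules L and M, every morphism φ : f^*L ⟶
f^*M whose pullbacks along p₁ and p₂ agree (compared through the canonical isomorphisms p_i^* f^* ≅
(p_i ≫ f)^* and p₁ ≫ f = p₂ ≫ f) is f^*ψ for a unique ψ : L ⟶ M. (The published statement is made
under further standing hypotheses (a surjective morphism between schemes proper and of finite
presentation over an integral Noetherian base, with flatness conditions), of which its proof uses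
only the exactness above; this row assumes only that exactness.) -/
theorem result {X Y : Scheme.{u}} (f : X ⟶ Y)
    (hU : ∀ U : Y.Opens, (pullback.fst f f) ⁻¹ᵁ (f ⁻¹ᵁ U) = (pullback.snd f f) ⁻¹ᵁ (f ⁻¹ᵁ U))
    (hinj : ∀ U : Y.Opens, Function.Injective (f.app U))
    (hex : ∀ (U : Y.Opens) (a : Γ(X, f ⁻¹ᵁ U)),
      (pullback.fst f f).app (f ⁻¹ᵁ U) a =
        ((pullback f f).presheaf.map (eqToHom (hU U)).op) ((pullback.snd f f).app (f ⁻¹ᵁ U) a) →
      a ∈ Set.range (f.app U))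
    (L M : Y.Modules) (hL : FlatMod.IsFinLocFree L) (hM : FlatMod.IsFinLocFree M)
    (φ : (Scheme.Modules.pullback f).obj L ⟶ (Scheme.Modules.pullback f).obj M)
    (hφ : ((Scheme.Modules.pullbackComp (pullback.fst f f) f).app L).inv ≫
        (Scheme.Modules.pullback (pullback.fst f f)).map φ ≫ ((Scheme.Modules.pullbackComp (pullback.fst f f) f).app M).hom =
      ((Scheme.Modules.pullbackCongr (pullback.condition (f := f) (g := f))).app L).hom ≫
        ((Scheme.Modules.pullbackComp (pullback.snd f f) f).app L).inv ≫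
        (Scheme.Modules.pullback (pullback.snd f f)).map φ ≫ ((Scheme.Modules.pullbackComp (pullback.snd f f) f).app M).hom ≫
        ((Scheme.Modules.pullbackCongr (pullback.condition (f := f) (g := f))).app M).inv) :
    ∃! ψ : L ⟶ M, (Scheme.Modules.pullback f).map ψ = φ := by
  have hloc := @exists_local _ _ f hU hex L M hM φ hφ
  have hglob := exists_global f hinj L M hM φ hloc
  choose m hm using hglob
  have inj := Pl_injective f hinj M hM
  have hres : ∀ (U V : Y.Opens) (h : V ≤ U) (l : Γ(L, U)),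
      m V (L.presheaf.map (homOfLE h).op l) = M.presheaf.map (homOfLE h).op (m U l) := by
    intro U V h l
    apply inj
    rw [hm, ← Pl_res, ← Pl_res, hm, GrothLib.CohPullLib.app_res]
  have hadd : ∀ (U : Y.Opens) (l l' : Γ(L, U)), m U (l + l') = m U l + m U l' := by
    intro U l l'
    apply inj
    simp only [Pl, GrothLib.BCCoh.pullRes_add, map_add] at hm ⊢
    rw [hm, hm, hm, GrothLib.BCCoh.pullRes_add, map_add]
  have hsmul : ∀ (U : Y.Opens) (r : Γ(Y, U)) (l : Γ(L, U)), m U (r • l) = r • m U l := by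
    intro U r l
    apply inj
    simp only [Pl] at hm ⊢
    rw [hm, GrothLib.BCCoh.pullRes_smul, GrothLib.BCCoh.pullRes_smul, Scheme.Modules.Hom.app_smul, hm]
  let ψ : L ⟶ M := ⟨PresheafOfModules.homMk
    { app := fun U => AddCommGrpCat.ofHom (AddMonoidHom.mk' (m U.unop) (hadd U.unop))
      naturality := fun U V i => by
        refine AddCommGrpCat.hom_ext (AddMonoidHom.ext fun l => ?_)
        exact hres U.unop V.unop i.unop.le l }
    (fun U r l => hsmul U.unop r l)⟩
  have hψ : ∀ U l, ψ.app U l = m U l := fun U l => rfl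
  have hval : ∀ (χ : L ⟶ M) (U : Y.Opens) (l : Γ(L, U)),
      ((Scheme.Modules.pullback f).map χ).app (f ⁻¹ᵁ U) (Pl f L U l) = Pl f M U (χ.app U l) :=
    fun χ U l => GrothLib.CohPullLib.pullRes_map f χ U _ le_rfl l
  refine ⟨ψ, ?_, fun χ hχ => ?_⟩
  · apply ((Scheme.Modules.pullbackPushforwardAdjunction f).homEquiv _ _).injective
    rw [Adjunction.homEquiv_unit, Adjunction.homEquiv_unit]
    refine Scheme.Modules.hom_ext _ _ fun U => ConcreteCategory.hom_ext _ _ fun l => ?_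
    have h := hval ψ U l
    rw [hψ, hm] at h
    simp only [Pl, pullRes_def, map_sec_self] at h
    exact h
  · refine Scheme.Modules.hom_ext _ _ fun U => ConcreteCategory.hom_ext _ _ fun l => inj U ?_
    rw [hψ, hm, ← hval χ, hχ]

end Groth.Agent.S5662
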