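import Groth.Statements.S5665
import Mathlib.Algebra.Homology.DerivedCategory.Ext.ExactSequences
import Mathlib.Algebra.Homology.DerivedCategory.Ext.Linear
import Mathlib.Algebra.Homology.DerivedCategory.Ext.EnoughProjectives
import Mathlib.RingTheory.Regular.RegularSequence
import Mathlib.Algebra.Homology.ShortComplex.ModuleCat
import Mathlib.Algebra.Category.ModuleCat.Ext.HasExt
-- import your own Groth.Agent.* helpers here

set_option autoImplicit false
universe u
open CategoryTheory
open Dual

namespace Groth.Agent.S5665

open Abelian in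
/-- Top degree Ext and vanishing above it. -/
theorem main (A : Type u) [CommRing A] (M : Type u) [AddCommGroup M] [Module A M] (xs : List A) :
    RingTheory.Sequence.IsWeaklyRegular A xs →
    (∀ i, xs.length < i → ∀ e : Ext (ModuleCat.of A (A ⧸ Ideal.ofList xs)) (ModuleCat.of A M) i, e = 0) ∧
    Nonempty (Ext (ModuleCat.of A (A ⧸ Ideal.ofList xs)) (ModuleCat.of A M) xs.length ≃ₗ[A]
      (M ⧸ (Ideal.ofList xs • (⊤ : Submodule A M)))) := by
  induction xs using List.reverseRecOn with
  | nil =>
    intro _
    have h0 : (Ideal.ofList ([] : List A)) = ⊥ := Ideal.ofList_nil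
    let e0 : (A ⧸ Ideal.ofList ([] : List A)) ≃ₗ[A] A := Submodule.quotEquivOfEqBot _ h0
    have : Module.Projective A (A ⧸ Ideal.ofList ([] : List A)) := Module.Projective.of_equiv e0.symm
    have : CategoryTheory.Projective (ModuleCat.of A (A ⧸ Ideal.ofList ([] : List A))) :=
      (IsProjective.iff_projective _).1 this
    refine ⟨fun i hi e => ?_, ⟨?_⟩⟩
    · obtain ⟨i, rfl⟩ := Nat.exists_eq_succ_of_ne_zero (Nat.ne_of_gt hi)
      exact Ext.eq_zero_of_projective e
    · exact (Ext.linearEquiv₀ (R := A)).trans (ModuleCat.homLinearEquiv.trans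
        ((LinearEquiv.congrLeft M A e0).trans ((LinearMap.ringLmapEquivSelf A A M).trans
          (Submodule.quotEquivOfEqBot _ (by rw [h0, Submodule.bot_smul])).symm)))
  | append_singleton xs x ih =>
    intro h
    rw [RingTheory.Sequence.isWeaklyRegular_append_iff, RingTheory.Sequence.isWeaklyRegular_singleton_iff] at h
    obtain ⟨hxs, hx⟩ := h
    obtain ⟨hvan, ⟨η⟩⟩ := ih hxs
    set I := Ideal.ofList xs with hI
    set J := Ideal.ofList (xs ++ [x]) with hJ
    have hJI : J = I ⊔ Ideal.span {x} := by rw [hJ, Ideal.ofList_append, Ideal.ofList_singleton]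
    let f : ModuleCat.of A (A ⧸ I) ⟶ ModuleCat.of A (A ⧸ I) := x • 𝟙 _
    let g : ModuleCat.of A (A ⧸ I) ⟶ ModuleCat.of A (A ⧸ J) :=
      ModuleCat.ofHom (Submodule.factor (show I ≤ J by rw [hJI]; exact le_sup_left))
    have hf : ∀ a, f a = x • a := fun a => rfl
    have hg : ∀ a : A, g (Submodule.Quotient.mk a) = Submodule.Quotient.mk a := fun a => rfl
    have hx' : IsSMulRegular (A ⧸ I) x := by
      have e : (A ⧸ (I • (⊤ : Submodule A A))) ≃ₗ[A] A ⧸ I :=
        Submodule.quotEquivOfEq _ _ (by rw [smul_eq_mul, Ideal.mul_top])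
      exact (e.isSMulRegular_congr x).1 hx
    have hzero : f ≫ g = 0 := by
      refine ModuleCat.hom_ext (LinearMap.ext fun a => ?_)
      obtain ⟨a, rfl⟩ := Submodule.Quotient.mk_surjective _ a
      change g (x • Submodule.Quotient.mk a) = 0
      rw [← Submodule.Quotient.mk_smul, hg, Submodule.Quotient.mk_eq_zero, hJI, smul_eq_mul]
      exact Ideal.mem_sup_right (Ideal.mul_mem_right _ _ (Ideal.mem_span_singleton_self x))
    let S := ShortComplex.mk f g hzero
    have hS : S.ShortExact :=
      { exact := by
          rw [ShortComplex.moduleCat_exact_iff]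
          intro a ha
          obtain ⟨a, rfl⟩ := Submodule.Quotient.mk_surjective _ a
          have ha' : a ∈ J := (Submodule.Quotient.mk_eq_zero _).1 ((hg a).symm.trans ha)
          rw [hJI, Submodule.mem_sup] at ha'
          obtain ⟨b, hb, c, hc, rfl⟩ := ha'
          obtain ⟨d, rfl⟩ := Ideal.mem_span_singleton.1 hc
          refine ⟨Submodule.Quotient.mk (p := I) d, ?_⟩
          change x • Submodule.Quotient.mk (p := I) d = _
          rw [← Submodule.Quotient.mk_smul, Submodule.Quotient.eq, smul_eq_mul]
          simpa using I.neg_mem hb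
        mono_f := (ModuleCat.mono_iff_injective _).2 hx'
        epi_g := (ModuleCat.epi_iff_surjective _).2 (Submodule.factor_surjective (show I ≤ J by rw [hJI]; exact le_sup_left)) }
    let δ : ∀ n, Ext (ModuleCat.of A (A ⧸ I)) (ModuleCat.of A M) n →ₗ[A]
        Ext (ModuleCat.of A (A ⧸ J)) (ModuleCat.of A M) (1 + n) := fun n =>
      { toFun := fun e => hS.extClass.comp e rfl
        map_add' := fun a b => Ext.comp_add _ _ _ _
        map_smul' := fun r a => Ext.comp_smul _ _ _ _ }
    have hsurj : ∀ n, xs.length ≤ n → Function.Surjective (δ n) := fun n hn e => by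
      obtain ⟨e', he'⟩ := Ext.contravariant_sequence_exact₃ hS (ModuleCat.of A M) e (hvan _ (by omega) _) rfl
      exact ⟨e', he'⟩
    have hlen : (xs ++ [x]).length = 1 + xs.length := by simp [add_comm]
    refine ⟨fun i hi e => ?_, ?_⟩
    · obtain ⟨n, rfl⟩ : ∃ n, i = 1 + n := Nat.exists_eq_add_of_le (by omega)
      obtain ⟨e', rfl⟩ := hsurj n (by omega) e
      rw [hvan n (by omega) e', map_zero]
    · rw [hlen]
      let q : Ext (ModuleCat.of A (A ⧸ I)) (ModuleCat.of A M) xs.length →ₗ[A] M ⧸ (J • (⊤ : Submodule A M)) :=
        (Submodule.factor (Submodule.smul_mono_left (show I ≤ J by rw [hJI]; exact le_sup_left))).comp η.toLinearMap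
      have hq : Function.Surjective q := (Submodule.factor_surjective (Submodule.smul_mono_left (show I ≤ J by rw [hJI]; exact le_sup_left))).comp η.surjective
      have hk : LinearMap.ker (δ xs.length) = LinearMap.ker q := by
        ext e
        rw [LinearMap.mem_ker, LinearMap.mem_ker]
        have key : ∀ e' : Ext (ModuleCat.of A (A ⧸ I)) (ModuleCat.of A M) xs.length,
            (Ext.mk₀ f).comp e' (zero_add _) = x • e' := fun e' => by
          rw [Ext.mk₀_smul, Ext.smul_comp, Ext.mk₀_id_comp]
        constructor
        · intro he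
          obtain ⟨e', he'⟩ := Ext.contravariant_sequence_exact₁ hS (ModuleCat.of A M) e rfl he
          rw [show e = x • e' from he'.symm.trans (key e'), map_smul]
          obtain ⟨m, hm⟩ := Submodule.Quotient.mk_surjective _ (q e')
          rw [← hm, ← Submodule.Quotient.mk_smul, Submodule.Quotient.mk_eq_zero]
          exact Submodule.smul_mem_smul (by rw [hJI]; exact Ideal.mem_sup_right (Ideal.mem_span_singleton_self x)) trivial
        · intro he
          obtain ⟨m, hm⟩ := Submodule.Quotient.mk_surjective _ (η e)
          have hm' : m ∈ J • (⊤ : Submodule A M) := by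
            rw [← Submodule.Quotient.mk_eq_zero, ← he]
            change _ = Submodule.factor (Submodule.smul_mono_left (show I ≤ J by rw [hJI]; exact le_sup_left)) (η e)
            rw [← hm]; rfl
          rw [hJI, Submodule.sup_smul, Submodule.mem_sup] at hm'
          obtain ⟨a, ha, b, hb, rfl⟩ := hm'
          rw [Submodule.ideal_span_singleton_smul, Submodule.mem_smul_pointwise_iff_exists] at hb
          obtain ⟨c, -, rfl⟩ := hb
          obtain ⟨e', he'⟩ := η.surjective (Submodule.Quotient.mk c)
          have : e = (Ext.mk₀ f).comp e' (zero_add _) := η.injective (by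
            rw [key, map_smul, he', ← hm, Submodule.Quotient.mk_add, (Submodule.Quotient.mk_eq_zero _).2 ha,
              zero_add, Submodule.Quotient.mk_smul])
          rw [this]
          change hS.extClass.comp ((Ext.mk₀ f).comp e' (zero_add _)) rfl = 0
          exact ShortComplex.ShortExact.extClass_comp_assoc hS _
      exact ⟨(LinearMap.quotKerEquivOfSurjective _ (hsurj _ le_rfl)).symm.trans
        ((Submodule.quotEquivOfEq _ _ hk).trans (LinearMap.quotKerEquivOfSurjective q hq))⟩

/-- Let `A` be a commutative ring, `xs = (x_1, …, x_p)` a sequence in `A` such that each `x_i` is a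
non-zero-divisor on `A/(x_1, …, x_{i-1})`, `J` the ideal generated by the `x_i` and `M` any
`A`-module. Then `Ext^p_A(A/J, M)` is isomorphic, as an `A`-module, to `M/JM`. (Existence of an
`A`-linear isomorphism only; the published isomorphism is the one induced by the Koszul complex of
`xs`.) -/
theorem result (A : Type u) [CommRing A] (xs : List A) (hreg : RingTheory.Sequence.IsWeaklyRegular A xs) (M : Type u) [AddCommGroup M] [Module A M] : Nonempty (Abelian.Ext (ModuleCat.of A (A ⧸ Ideal.ofList xs)) (ModuleCat.of A M) xs.length ≃ₗ[A] (M ⧸ (Ideal.ofList xs • (⊤ : Submodule A M)))) :=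
  (main A M xs hreg).2

end Groth.Agent.S5665
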