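import Groth.Statements.S5667
import Groth.Agent.Lib.DualSm27.Serre
-- import your own Groth.Agent.* helpers here

set_option autoImplicit false
universe u
open CategoryTheory CategoryTheory.Limits AlgebraicGeometry
open ProjDual

namespace Groth.Agent.S5667

/-- Let `k` be an algebraically closed field and `X` a connected nonsingular projective variety of
dimension `n` over `k` — here: a connected `k`-scheme, smooth of relative dimension `n` over `k`,
with a closed immersion into some projective space `P^r_k` over `k` — and let `L` be an `n`-th
exterior power of the sheaf of differentials of `X` over `k` (the sheaf of `n`-forms). Then `H^n(X,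
L)` is a `k`-vector space of dimension `1`. (The source says more: the fundamental class of a point
is a basis; only the dimension is stated here.) -/
theorem result (k : Type u) [Field k] [IsAlgClosed k] (n r : ℕ) (X : Scheme.{u}) [X.Over (Spec (CommRingCat.of k))] [SmoothOfRelativeDimension n (X ↘ Spec (CommRingCat.of k))] [ConnectedSpace X] (ι : X ⟶ CohB1.ProjSpace r k) [IsClosedImmersion ι] (hι : ι ≫ CohB1.ProjSpace.toSpec r k = X ↘ Spec (CommRingCat.of k)) (L : X.Modules) (hL : ExtPow.IsExtPow n (Omega.sheaf (X ↘ Spec (CommRingCat.of k))) L) : Module.finrank k (Coh.HH X L n) = 1 := by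
  exact GrothLib.DualSm27.finrank_top_eq_one k r n X ι hι L hL

end Groth.Agent.S5667
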