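import Groth.Statements.S5671
import Groth.Agent.Lib.SGA2Fin.Stalk
import Groth.Agent.Lib.LC.Compare

set_option autoImplicit false
universe u
open CategoryTheory
open Dual

namespace Groth.Agent.S5671

/-- First assertion, in the local-algebra form to which its proof reduces it: let `A` be a regular local
ring of dimension `n`, `p ≥ 0`, and `M` a finite `A`-module whose support has dimension at most `n -
p`. Then `Ext^i_A(M, A) = 0` for every `i < p`. (The geometric statement: on a nonsingular
`n`-dimensional variety the sheaves `Ext^i(F, L)` vanish for `i < p` when `F` is coherent with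
support of dimension `≤ n - p` and `L` is locally free.) -/
theorem result (A : Type u) [CommRing A] [IsRegularLocalRing A] (M : Type u) [AddCommGroup M] [Module A M] [Module.Finite A M] (p : ℕ) (hdim : Module.supportDim A M + p ≤ ringKrullDim A) (i : ℕ) (hi : i < p) : Subsingleton (Abelian.Ext (ModuleCat.of A M) (ModuleCat.of A A) i) := by
  obtain ⟨h, hh⟩ : ∃ h : ℕ, ringKrullDim A = h := by
    generalize h : ringKrullDim A = a
    induction a with
    | bot => exact absurd h ringKrullDim_ne_bot
    | coe a =>
      induction a using ENat.recTopCoe with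
      | top => exact absurd h ringKrullDim_ne_top
      | coe a => exact ⟨a, rfl⟩
  rcases subsingleton_or_nontrivial M with hM | hM
  · refine subsingleton_of_forall_eq 0 fun e => ?_
    rw [← Abelian.Ext.mk₀_id_comp e, show 𝟙 (ModuleCat.of A M) = 0 from
      ModuleCat.hom_ext (LinearMap.ext fun _ => Subsingleton.elim _ _), Abelian.Ext.mk₀_zero,
      Abelian.Ext.zero_comp]
  obtain ⟨a, ha, hap⟩ : ∃ a : ℕ, Module.supportDim A M = a ∧ a + p ≤ h := by
    have h0 : Module.supportDim A M ≠ ⊥ := Module.supportDim_ne_bot_of_nontrivial A M
    rw [hh] at hdim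
    generalize Module.supportDim A M = a at hdim h0 ⊢
    induction a with
    | bot => exact absurd rfl h0
    | coe a =>
      induction a using ENat.recTopCoe with
      | top =>
        exfalso
        rw [← WithBot.coe_natCast, ← WithBot.coe_natCast, ← WithBot.coe_add, WithBot.coe_le_coe, top_add] at hdim
        exact ENat.natCast_ne_top _ (top_le_iff.1 hdim)
      | coe a => exact ⟨a, rfl, by exact_mod_cast hdim⟩
  refine ((GrothLib.SGA2Fin.locDuality A hh (ModuleCat.of A M)).1 (h - i)).1 ?_ i (by omega)
  refine GrothLib.LC.subsingleton_of_supportDim_lt (h - i) A _ M ?_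
  rw [ha]
  exact_mod_cast (show a < h - i by omega)

end Groth.Agent.S5671
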