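import Groth.Statements.S5672
import Groth.Agent.S5671
import Mathlib.Algebra.Homology.ShortComplex.ModuleCat
import Mathlib.Algebra.Homology.DerivedCategory.Ext.ExactSequences

set_option autoImplicit false
universe u
open CategoryTheory
open Dual

namespace Groth.Agent.S5672

open Abelian in
/-- The restriction map is injective. -/
theorem inj_aux (A : Type u) [CommRing A] [IsRegularLocalRing A] (p : ℕ) (J : Ideal A)
    (hJ : ringKrullDim (A ⧸ J) + p ≤ ringKrullDim A) (M : Type u) [AddCommGroup M] [Module A M] [Module.Finite A M]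
    (hJM : J • (⊤ : Submodule A M) = ⊥) (ξ : Ext (ModuleCat.of A M) (ModuleCat.of A A) p)
    (hξ : ∀ u : (A ⧸ J) →ₗ[A] M, (Ext.mk₀ (ModuleCat.ofHom u)).comp ξ (zero_add p) = 0) : ξ = 0 := by
  classical
  obtain ⟨r, q, hq⟩ := Module.Finite.exists_fin' A M
  have hkill : ∀ a ∈ J, ∀ m : M, a • m = 0 := fun a ha m => by
    have : a • m ∈ J • (⊤ : Submodule A M) := Submodule.smul_mem_smul ha trivial
    rwa [hJM, Submodule.mem_bot] at this
  let u : Fin r → ((A ⧸ J) →ₗ[A] M) := fun k =>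
    Submodule.liftQ J (LinearMap.toSpanSingleton A M (q (Pi.single k 1))) fun a ha => hkill a ha _
  let π : (Fin r → A ⧸ J) →ₗ[A] M := ∑ k, (u k).comp (LinearMap.proj k)
  have hπ : Function.Surjective π := fun m => by
    obtain ⟨v, rfl⟩ := hq m
    refine ⟨fun k => Submodule.Quotient.mk (v k), ?_⟩
    conv_rhs => rw [pi_eq_sum_univ v]
    rw [map_sum, LinearMap.sum_apply]
    refine Finset.sum_congr rfl fun k _ => ?_
    rw [map_smul]
    simp only [LinearMap.comp_apply, LinearMap.proj_apply, u, Submodule.liftQ_apply,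
      LinearMap.toSpanSingleton_apply]
    congr 2
    funext j
    by_cases h : j = k
    · subst h; simp
    · simp [Ne.symm h, h]
  have h0 : (Ext.mk₀ (ModuleCat.ofHom π)).comp ξ (zero_add p) = 0 := by
    have e : ModuleCat.ofHom π = ∑ k, ModuleCat.ofHom (LinearMap.proj k) ≫ ModuleCat.ofHom (u k) := by
      refine ModuleCat.hom_ext ?_
      rw [ModuleCat.hom_sum]
      rfl
    rw [e, Ext.mk₀_sum, Ext.sum_comp]
    exact Finset.sum_eq_zero fun k _ => by rw [← Ext.mk₀_comp_mk₀_assoc, hξ, Ext.comp_zero]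
  let S := ShortComplex.mk (ModuleCat.ofHom (LinearMap.ker π).subtype) (ModuleCat.ofHom π)
    (ModuleCat.hom_ext (LinearMap.ext fun x => x.2))
  have hS : S.ShortExact :=
    { exact := (ShortComplex.moduleCat_exact_iff _).2 fun x hx => ⟨⟨x, hx⟩, rfl⟩
      mono_f := (ModuleCat.mono_iff_injective _).2 (Submodule.subtype_injective _)
      epi_g := (ModuleCat.epi_iff_surjective _).2 hπ }
  rcases p with - | p
  · haveI := hS.epi_g
    exact Ext.precomp_mk₀_injective_of_epi _ S.g (h0.trans (map_zero _).symm)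
  obtain ⟨y, rfl⟩ := Ext.contravariant_sequence_exact₃ hS _ ξ h0 (add_comm 1 p)
  have hle : J ≤ Module.annihilator A (LinearMap.ker π) := fun a ha => by
    rw [Module.mem_annihilator]
    intro x
    refine Subtype.ext (funext fun k => ?_)
    obtain ⟨c, hc⟩ := Submodule.Quotient.mk_surjective J ((x : Fin r → A ⧸ J) k)
    change a • (x : Fin r → A ⧸ J) k = 0
    rw [← hc, ← Submodule.Quotient.mk_smul, Submodule.Quotient.mk_eq_zero, smul_eq_mul]
    exact Ideal.mul_mem_right _ _ ha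
  have hdim : Module.supportDim A (LinearMap.ker π) + (p + 1 : ℕ) ≤ ringKrullDim A := by
    refine le_trans ?_ hJ
    gcongr
    rw [Module.supportDim_eq_ringKrullDim_quotient_annihilator]
    exact ringKrullDim_le_of_surjective (Ideal.Quotient.factor hle) (Ideal.Quotient.factor_surjective hle)
  haveI : Subsingleton (Ext S.X₁ (ModuleCat.of A A) p) :=
    Groth.Agent.S5671.result A (LinearMap.ker π) (p + 1) hdim p (Nat.lt_succ_self p)
  rw [Subsingleton.elim y 0, Ext.comp_zero]

open Abelian in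
/-- Injectivity and surjectivity. -/
theorem main (A : Type u) [CommRing A] [IsRegularLocalRing A] (p : ℕ) (J : Ideal A)
    (hJ : ringKrullDim (A ⧸ J) + p ≤ ringKrullDim A) (M : Type u) [AddCommGroup M] [Module A M] [Module.Finite A M]
    (hJM : J • (⊤ : Submodule A M) = ⊥) :
    Function.Injective (fun ξ : Ext (ModuleCat.of A M) (ModuleCat.of A A) p => fun u : (A ⧸ J) →ₗ[A] M =>
        (Ext.mk₀ (ModuleCat.ofHom u)).comp ξ (zero_add p)) ∧
      ∀ g : ((A ⧸ J) →ₗ[A] M) →ₗ[A] Ext (ModuleCat.of A (A ⧸ J)) (ModuleCat.of A A) p,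
        ∃ ξ : Ext (ModuleCat.of A M) (ModuleCat.of A A) p,
          ∀ u : (A ⧸ J) →ₗ[A] M, g u = (Ext.mk₀ (ModuleCat.ofHom u)).comp ξ (zero_add p) := by
  classical
  refine ⟨fun ξ η h => ?_, fun g => ?_⟩
  · rw [← sub_eq_zero]
    refine inj_aux A p J hJ M hJM _ fun u => ?_
    rw [sub_eq_add_neg, Ext.comp_add, Ext.comp_neg, ← sub_eq_add_neg, sub_eq_zero]
    exact congrFun h u
  obtain ⟨r, q, hq⟩ := Module.Finite.exists_fin' A M
  have hkill : ∀ a ∈ J, ∀ m : M, a • m = 0 := fun a ha m => by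
    have : a • m ∈ J • (⊤ : Submodule A M) := Submodule.smul_mem_smul ha trivial
    rwa [hJM, Submodule.mem_bot] at this
  let sp : M → ((A ⧸ J) →ₗ[A] M) := fun m =>
    Submodule.liftQ J (LinearMap.toSpanSingleton A M m) fun a ha => hkill a ha m
  let π : (Fin r → A ⧸ J) →ₗ[A] M := ∑ k, (sp (q (Pi.single k 1))).comp (LinearMap.proj k)
  have hπ : Function.Surjective π := fun m => by
    obtain ⟨v, rfl⟩ := hq m
    refine ⟨fun k => Submodule.Quotient.mk (v k), ?_⟩
    conv_rhs => rw [pi_eq_sum_univ v]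
    rw [map_sum, LinearMap.sum_apply]
    refine Finset.sum_congr rfl fun k _ => ?_
    rw [map_smul]
    simp only [LinearMap.comp_apply, LinearMap.proj_apply, sp, Submodule.liftQ_apply,
      LinearMap.toSpanSingleton_apply]
    congr 2
    funext j
    by_cases h : j = k
    · subst h; simp
    · simp [Ne.symm h, h]
  let ζ : Ext (ModuleCat.of A (Fin r → A ⧸ J)) (ModuleCat.of A A) p :=
    ∑ k, (Ext.mk₀ (ModuleCat.ofHom (LinearMap.proj k))).comp (g (sp (q (Pi.single k 1)))) (zero_add p)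
  have hζ : ∀ w : (A ⧸ J) →ₗ[A] (Fin r → A ⧸ J),
      (Ext.mk₀ (ModuleCat.ofHom w)).comp ζ (zero_add p) = g (π.comp w) := by
    intro w
    rw [Ext.comp_sum]
    rw [show π.comp w = ∑ k, ((sp (q (Pi.single k 1))).comp (LinearMap.proj k)).comp w from
      LinearMap.ext fun z => by simp [π], map_sum]
    refine Finset.sum_congr rfl fun k _ => ?_
    rw [Ext.mk₀_comp_mk₀_assoc]
    obtain ⟨c, hc⟩ := Submodule.Quotient.mk_surjective J (w (Submodule.Quotient.mk 1) k)
    have e : (LinearMap.proj k).comp w = c • LinearMap.id := by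
      refine LinearMap.ext fun z => ?_
      obtain ⟨z, rfl⟩ := Submodule.Quotient.mk_surjective _ z
      have hz : (Submodule.Quotient.mk z : A ⧸ J) = z • Submodule.Quotient.mk 1 := by
        rw [← Submodule.Quotient.mk_smul, smul_eq_mul, mul_one]
      rw [hz, map_smul, map_smul]
      congr 1
      change w (Submodule.Quotient.mk 1) k = c • (Submodule.Quotient.mk 1 : A ⧸ J)
      rw [← hc, ← Submodule.Quotient.mk_smul, smul_eq_mul, mul_one]
    rw [show ModuleCat.ofHom w ≫ ModuleCat.ofHom (LinearMap.proj k) = c • 𝟙 (ModuleCat.of A (A ⧸ J)) from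
      ModuleCat.hom_ext e, Ext.mk₀_smul, Ext.smul_comp, Ext.mk₀_id_comp, LinearMap.comp_assoc, e,
      LinearMap.comp_smul, LinearMap.comp_id, map_smul]
  let S := ShortComplex.mk (ModuleCat.ofHom (LinearMap.ker π).subtype) (ModuleCat.ofHom π)
    (ModuleCat.hom_ext (LinearMap.ext fun x => x.2))
  have hS : S.ShortExact :=
    { exact := (ShortComplex.moduleCat_exact_iff _).2 fun x hx => ⟨⟨x, hx⟩, rfl⟩
      mono_f := (ModuleCat.mono_iff_injective _).2 (Submodule.subtype_injective _)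
      epi_g := (ModuleCat.epi_iff_surjective _).2 hπ }
  have hK : J • (⊤ : Submodule A (LinearMap.ker π)) = ⊥ := by
    rw [eq_bot_iff, Submodule.smul_le]
    intro a ha x _
    rw [Submodule.mem_bot]
    refine Subtype.ext (funext fun k => ?_)
    obtain ⟨c, hc⟩ := Submodule.Quotient.mk_surjective J ((x : Fin r → A ⧸ J) k)
    change a • (x : Fin r → A ⧸ J) k = 0
    rw [← hc, ← Submodule.Quotient.mk_smul, Submodule.Quotient.mk_eq_zero, smul_eq_mul]
    exact Ideal.mul_mem_right _ _ ha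
  have h0 : (Ext.mk₀ S.f).comp ζ (zero_add p) = 0 := by
    refine inj_aux A p J hJ (LinearMap.ker π) hK _ fun u => ?_
    rw [Ext.mk₀_comp_mk₀_assoc]
    refine (hζ ((LinearMap.ker π).subtype.comp u)).trans ?_
    rw [show π.comp ((LinearMap.ker π).subtype.comp u) = 0 from LinearMap.ext fun z => (u z).2, map_zero]
  obtain ⟨ξ, hξ⟩ := Ext.contravariant_sequence_exact₂ hS _ ζ h0
  refine ⟨ξ, fun v => ?_⟩
  obtain ⟨t, ht⟩ := hπ (v (Submodule.Quotient.mk 1))
  let w : (A ⧸ J) →ₗ[A] (Fin r → A ⧸ J) := Submodule.liftQ J (LinearMap.toSpanSingleton A _ t) fun a ha => by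
    refine funext fun k => ?_
    obtain ⟨c, hc⟩ := Submodule.Quotient.mk_surjective J (t k)
    change a • t k = 0
    rw [← hc, ← Submodule.Quotient.mk_smul, Submodule.Quotient.mk_eq_zero, smul_eq_mul]
    exact Ideal.mul_mem_right _ _ ha
  have hw : π.comp w = v := by
    refine LinearMap.ext fun z => ?_
    obtain ⟨z, rfl⟩ := Submodule.Quotient.mk_surjective _ z
    change π (z • t) = v (Submodule.Quotient.mk z)
    rw [map_smul, ht, ← map_smul, ← Submodule.Quotient.mk_smul, smul_eq_mul, mul_one]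
  rw [← hw, ← hζ, ← hξ, Ext.mk₀_comp_mk₀_assoc]
  rfl

/-- Let `A` be a regular local ring of dimension `n`, `J` an ideal with `dim(A/J) ≤ n - p`, and `M` a
finite `A`-module with `JM = 0`. For `ξ ∈ Ext^p_A(M, A)` and an `A`-linear `u : A/J → M` write `u^*ξ
∈ Ext^p_A(A/J, A)` for the pullback. Then `ξ ↦ (u ↦ u^*ξ)` is injective, and every `A`-linear map
`Hom_A(A/J, M) → Ext^p_A(A/J, A)` is of the form `u ↦ u^*ξ` for some `ξ`. Since `Hom_A(A/J, M) = M`
here, this says that the canonical map `Ext^p_A(M, A) → Hom_A(M, Ext^p_A(A/J, A))` is bijective. -/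
theorem result (A : Type u) [CommRing A] [IsRegularLocalRing A] (p : ℕ) (J : Ideal A) (hJ : ringKrullDim (A ⧸ J) + p ≤ ringKrullDim A) (M : Type u) [AddCommGroup M] [Module A M] [Module.Finite A M] (hJM : J • (⊤ : Submodule A M) = ⊥) : Function.Injective (fun ξ : Abelian.Ext (ModuleCat.of A M) (ModuleCat.of A A) p => fun u : (A ⧸ J) →ₗ[A] M => (Abelian.Ext.mk₀ (ModuleCat.ofHom u)).comp ξ (zero_add p)) ∧ ∀ g : ((A ⧸ J) →ₗ[A] M) →ₗ[A] Abelian.Ext (ModuleCat.of A (A ⧸ J)) (ModuleCat.of A A) p, ∃ ξ : Abelian.Ext (ModuleCat.of A M) (ModuleCat.of A A) p, ∀ u : (A ⧸ J) →ₗ[A] M, g u = (Abelian.Ext.mk₀ (ModuleCat.ofHom u)).comp ξ (zero_add p) := by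
  obtain ⟨inj, surj⟩ := main A p J hJ M hJM
  exact ⟨inj, surj⟩

end Groth.Agent.S5672
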