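import Groth.Statements.S5673
import Groth.Agent.Lib.TorReg.Basic
import Groth.Agent.Lib.TorBal22.Basic

set_option autoImplicit false
universe u
open CategoryTheory
open Dual

namespace Groth.Agent.S5673

open RingTheory.Sequence GrothLib.TorReg GrothLib.FlatFP in
/-- Vanishing above the length, and the top degree. -/
theorem main (A : Type u) [CommRing A] (M : Type u) [AddCommGroup M] [Module A M] (xs : List A) :
    IsWeaklyRegular A xs →
    (∀ i, xs.length < i → Subsingleton (H xs (ModuleCat.of A M) i)) ∧
    Nonempty (H xs (ModuleCat.of A M) xs.length ≃ₗ[A] ((A ⧸ Ideal.ofList xs) →ₗ[A] M)) := by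
  induction xs using List.reverseRecOn with
  | nil =>
    intro _
    refine ⟨fun i hi => ?_, ⟨?_⟩⟩
    · obtain ⟨i, rfl⟩ := Nat.exists_eq_succ_of_ne_zero (Nat.ne_of_gt hi)
      exact subsingleton_nil _ i
    · exact (H0equiv ([] : List A) (ModuleCat.of A M)).trans
        ((Submodule.quotEquivOfEqBot _ (by rw [Ideal.ofList_nil, Submodule.bot_smul])).trans
          ((LinearMap.ringLmapEquivSelf A A M).symm.trans
            (LinearEquiv.congrLeft M A (Submodule.quotEquivOfEqBot _ Ideal.ofList_nil).symm)))
  | append_singleton xs x ih =>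
    intro hreg
    rw [isWeaklyRegular_append_iff, isWeaklyRegular_singleton_iff] at hreg
    obtain ⟨hvan, ⟨e⟩⟩ := ih hreg.1
    have hr : IsSMulRegular (A ⧸ Ideal.ofList xs) x :=
      ((Submodule.quotEquivOfEq _ _ (by rw [smul_eq_mul, Ideal.mul_top])).isSMulRegular_congr x).1 hreg.2
    let N := ModuleCat.of A M
    have hS := torSeq_shortExact (step xs x) (step_shortExact xs x hr) N
    let g : ∀ i, H xs N i →ₗ[A] H (xs ++ [x]) N i := fun i =>
      (HomologicalComplex.homologyMap (torSeq (step xs x) N).g i).hom
    let δ : ∀ i, H (xs ++ [x]) N (i + 1) →ₗ[A] H xs N i := fun i => (hS.δ (i + 1) i (by simp)).hom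
    have h₃ : ∀ i, Function.Exact (g (i + 1)) (δ i) := fun i =>
      (ShortComplex.ShortExact.moduleCat_exact_iff_function_exact _).1 (hS.homology_exact₃ (i + 1) i (by simp))
    have h₁ : ∀ i, Function.Exact (δ i) (fun y : H xs N i => x • y) := fun i => by
      have := (ShortComplex.ShortExact.moduleCat_exact_iff_function_exact _).1
        (hS.homology_exact₁ (i + 1) i (by simp))
      rwa [show (fun y : H xs N i => x • y) = _ from funext fun y => (map_f_eq_smul xs x N i y).symm]
    have hδ : ∀ i, xs.length ≤ i → Function.Injective (δ i) := fun i hi => by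
      refine (injective_iff_map_eq_zero _).2 fun z hz => ?_
      obtain ⟨y, rfl⟩ := (h₃ i z).1 hz
      haveI := hvan (i + 1) (by omega)
      rw [Subsingleton.elim y 0, map_zero]
    have hlen : (xs ++ [x]).length = xs.length + 1 := by simp
    refine ⟨fun i hi => ?_, ?_⟩
    · obtain ⟨n, rfl⟩ : ∃ n, i = n + 1 := ⟨i - 1, by omega⟩
      haveI := hvan n (by omega)
      exact (hδ n (by omega)).subsingleton
    · rw [hlen]
      have hle : Ideal.ofList xs ≤ Ideal.ofList (xs ++ [x]) := by rw [Ideal.ofList_append]; exact le_sup_left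
      let ι : ((A ⧸ Ideal.ofList (xs ++ [x])) →ₗ[A] M) →ₗ[A] ((A ⧸ Ideal.ofList xs) →ₗ[A] M) :=
        LinearMap.lcomp A M (Submodule.factor hle)
      have hι : Function.Injective ι :=
        LinearMap.lcomp_injective_of_surjective _ (Submodule.factor_surjective hle)
      let h : H (xs ++ [x]) N (xs.length + 1) →ₗ[A] ((A ⧸ Ideal.ofList xs) →ₗ[A] M) :=
        e.toLinearMap.comp (δ xs.length)
      have hh : Function.Injective h := e.injective.comp (hδ _ le_rfl)
      have hrange : LinearMap.range h = LinearMap.range ι := by
        ext φ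
        constructor
        · rintro ⟨z, rfl⟩
          have hx : x • h z = 0 := by
            have := (h₁ xs.length (δ xs.length z)).2 ⟨z, rfl⟩
            change x • e (δ xs.length z) = 0
            rw [← map_smul, show x • δ xs.length z = 0 from this, map_zero]
          have hc : ∀ c : A, h z (Submodule.Quotient.mk c) = c • h z (Submodule.Quotient.mk 1) := fun c => by
            rw [← map_smul, ← Submodule.Quotient.mk_smul, smul_eq_mul, mul_one]
          refine ⟨Submodule.liftQ _ (LinearMap.toSpanSingleton A M (h z (Submodule.Quotient.mk 1))) ?_, ?_⟩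
          · rw [Ideal.ofList_append, Ideal.ofList_singleton]
            refine sup_le (fun a ha => ?_) ((Submodule.span_singleton_le_iff_mem _ _).2 ?_)
            · change a • h z (Submodule.Quotient.mk 1) = 0
              rw [← hc, (Submodule.Quotient.mk_eq_zero _).2 ha, map_zero]
            · exact LinearMap.congr_fun hx (Submodule.Quotient.mk 1)
          · refine LinearMap.ext fun a => ?_
            obtain ⟨a, rfl⟩ := Submodule.Quotient.mk_surjective _ a
            exact (hc a).symm
        · rintro ⟨ψ, rfl⟩
          obtain ⟨y, hy⟩ := e.surjective (ι ψ)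
          have hxy : x • y = 0 := e.injective (by
            rw [map_smul, hy, map_zero]
            refine LinearMap.ext fun a => ?_
            obtain ⟨a, rfl⟩ := Submodule.Quotient.mk_surjective _ a
            change x • ψ (Submodule.Quotient.mk a) = 0
            rw [← map_smul, ← Submodule.Quotient.mk_smul, smul_eq_mul,
              (Submodule.Quotient.mk_eq_zero _).2 (Ideal.mul_mem_right a _ ?_), map_zero]
            rw [Ideal.ofList_append, Ideal.ofList_singleton]
            exact Ideal.mem_sup_right (Ideal.mem_span_singleton_self x))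
          obtain ⟨z, hz⟩ := (h₁ xs.length y).1 hxy
          exact ⟨z, (congrArg e hz).trans hy⟩
      exact ⟨(LinearEquiv.ofInjective h hh).trans
        ((LinearEquiv.ofEq _ _ hrange).trans (LinearEquiv.ofInjective ι hι).symm)⟩

/-- Let `A` be a commutative ring, `xs = (x_1, …, x_p)` a sequence in `A` such that each `x_i` is a
non-zero-divisor on `A/(x_1, …, x_{i-1})`, `J` the ideal generated by the `x_i` and `M` any
`A`-module. Then `Tor_p^A(A/J, M)` (Mathlib's `Tor'`, the left derived functors of `- ⊗ M` evaluated
at `A/J`, i.e. computed from a resolution of `A/J`) is isomorphic as an `A`-module to `Hom_A(A/J,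
M)`, i.e. to the elements of `M` killed by `J`. (Existence of an `A`-linear isomorphism only; the
published one is induced by the Koszul complex of `xs`.) -/
theorem result (A : Type u) [CommRing A] (xs : List A) (hreg : RingTheory.Sequence.IsWeaklyRegular A xs) (M : Type u) [AddCommGroup M] [Module A M] : Nonempty (↑(((Tor' (ModuleCat.{u} A) xs.length).obj (ModuleCat.of A (A ⧸ Ideal.ofList xs))).obj (ModuleCat.of A M)) ≃ₗ[A] ((A ⧸ Ideal.ofList xs) →ₗ[A] M)) := by
  let P := CategoryTheory.projectiveResolution (ModuleCat.of A (A ⧸ Ideal.ofList xs))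
  obtain ⟨e⟩ := GrothLib.TorBal22.nonempty_tor_iso P (ModuleCat.of A M) xs.length
  obtain ⟨e'⟩ := (main A M xs hreg).2
  exact ⟨(P.isoLeftDerivedObj ((CategoryTheory.MonoidalCategory.tensoringRight (ModuleCat.{u} A)).obj (ModuleCat.of A M))
      xs.length ≪≫ e.symm ≪≫ (CategoryTheory.projectiveResolution (ModuleCat.of A M)).isoLeftDerivedObj
        (GrothLib.FlatFP.tensorL (ModuleCat.of A (A ⧸ Ideal.ofList xs))) xs.length).toLinearEquiv.trans e'⟩

end Groth.Agent.S5673
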