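import Groth.Statements.S5677
-- import your own Groth.Agent.* helpers here
import Groth.Agent.Lib.TorsGrp26.Main

set_option autoImplicit false
universe u
open CategoryTheory CategoryTheory.Limits MonoidalCategory CartesianMonoidalCategory MonObj GrpObj AlgebraicGeometry
open FGA

set_option backward.isDefEq.respectTransparency false
set_option linter.style.haveILetI false

noncomputable section

open GrothLib

open CategoryTheory CategoryTheory.Limits AlgebraicGeometry

namespace Groth.Agent.S5677

/-- Let S be a locally Noetherian scheme and G a commutative group scheme locally of finite type over S
(not assumed separated or quasi-compact over S). Then the subset of G consisting of the points x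
such that, for some integer n ≥ 1, the n-th power morphism sends x into the connected component of
the identity of its fibre, is open in G. -/
theorem result (S : Scheme.{u}) [IsLocallyNoetherian S] (G : Over S) [GrpObj G] [IsCommMonObj G]
    [LocallyOfFiniteType G.hom] :
    IsOpen {x : ↥G.left | ∃ n : ℕ, 0 < n ∧ ((𝟙 G : G ⟶ G) ^ n).left.base x ∈ SGA3x.neutralSet G} := by
  exact GrothLib.TorsGrp26.isOpen_tau G

end Groth.Agent.S5677
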