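import Groth.Statements.S5679
-- import your own Groth.Agent.* helpers here
import Groth.Agent.Lib.TorsGrp26.OpenNeutral

set_option autoImplicit false
universe u
open CategoryTheory CategoryTheory.Limits MonoidalCategory CartesianMonoidalCategory MonObj GrpObj AlgebraicGeometry
open FGA

set_option backward.isDefEq.respectTransparency false
set_option linter.style.haveILetI false

noncomputable section

open GrothLib

open CategoryTheory CategoryTheory.Limits AlgebraicGeometry

namespace Groth.Agent.S5679

/-- Let S be a nonempty locally Noetherian scheme and G a group scheme locally of finite type over S.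
Then there are a nonempty open subset U of S, a group scheme H of finite type over U with connected
fibres, and a homomorphism from H to the base change of G to U which is an open immersion and whose
image in G is the set of points lying over U in the union of the connected components of the
identity of the fibres of G. -/
theorem result (S : Scheme.{u}) [IsLocallyNoetherian S] [Nonempty ↥S]
    (G : Over S) [GrpObj G] [LocallyOfFiniteType G.hom] :
    ∃ U : S.Opens, (U : Set ↥S).Nonempty ∧
      ∃ (H : Over (U : Scheme.{u})) (_ : GrpObj H) (i : H ⟶ Red.bc U.ι G), IsMonHom i ∧ IsOpenImmersion i.left ∧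
        QuasiCompact H.hom ∧ LocallyOfFiniteType H.hom ∧
        (∀ u : ↥(U : Scheme.{u}), _root_.IsConnected (H.hom.base ⁻¹' {u})) ∧
        Set.range (i.left ≫ pullback.fst G.hom U.ι).base = SGA3x.neutralSet G ∩ G.hom.base ⁻¹' (U : Set ↥S) := by
  obtain ⟨x⟩ := ‹Nonempty ↥S›
  obtain ⟨s, hs⟩ := QuasiSober.sober (isIrreducible_irreducibleComponent (x := x)) isClosed_irreducibleComponent
  have hmax : ∀ t : S, t ⤳ s → t = s := fun t ht => by
    have hsub : closure ({s} : Set S) ⊆ closure {t} :=
      closure_minimal (Set.singleton_subset_iff.2 (specializes_iff_mem_closure.1 ht)) isClosed_closure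
    have hirr : IsIrreducible (closure ({t} : Set S)) := isIrreducible_singleton.closure
    have hge : closure ({t} : Set S) ⊆ closure {s} := by
      rw [show closure ({s} : Set S) = irreducibleComponent x from hs]
      exact (irreducibleComponent_mem_irreducibleComponents x).2 hirr (hs ▸ hsub)
    exact (ht.antisymm (specializes_iff_mem_closure.2 (hge (subset_closure rfl)))).eq
  obtain ⟨U, hsU, hU⟩ := GrothLib.TorsGrp26.exists_opens_neutral_subset_interior G s hmax
  let π := pullback.fst G.hom U.ι
  have hπ : ∀ v, G.hom (π v) ∈ U := fun v => by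
    rw [← Scheme.Hom.comp_apply, pullback.condition, Scheme.Hom.comp_apply]
    exact ((pullback.snd G.hom U.ι) v).2
  have hE : SGA3x.neutralSet (Red.bc U.ι G) = π.base ⁻¹' interior (SGA3x.neutralSet G) := by
    rw [GrothLib.Neutral.neutralSet_bc]
    exact Set.Subset.antisymm (fun v hv => hU ⟨hv, hπ v⟩) (fun v hv => interior_subset (X := ↥G.left) hv)
  haveI : LocallyOfFiniteType (Red.bc U.ι G).hom := inferInstanceAs (LocallyOfFiniteType (pullback.snd G.hom U.ι))
  obtain ⟨H, _, i, h1, h2, h3, h4, h5, h6⟩ := GrothLib.TorsGrp26.exists_neutral_subgroup (Red.bc U.ι G)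
    (by rw [hE]; exact isOpen_interior.preimage π.continuous)
  refine ⟨U, ⟨s, hsU⟩, H, inferInstance, i, h1, h2, h3, h4, h5, ?_⟩
  rw [Scheme.Hom.comp_base, TopCat.coe_comp, Set.range_comp, h6, GrothLib.Neutral.neutralSet_bc]
  refine (Set.image_preimage_eq_inter_range).trans ?_
  congr 1
  exact (Scheme.Pullback.range_fst G.hom U.ι).trans (by rw [Scheme.Opens.range_ι])

end Groth.Agent.S5679
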