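import Groth.Statements.S5680
import Groth.Agent.Lib.TorsPic29.Divisible


set_option autoImplicit false
set_option linter.all false
set_option maxHeartbeats 1000000
set_option backward.isDefEq.respectTransparency false
universe u
open CategoryTheory CategoryTheory.Limits AlgebraicGeometry
open FGA

namespace Groth.Agent.S5680

/-- Let A be an artinian local ring with maximal ideal m and ν ≥ 1 an integer with m^(ν+1) = 0; let X be
a scheme proper and flat over Spec A, n a natural number whose image in the residue field of A is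
nonzero, L an invertible module on X and L' an invertible module on the closed subscheme X ×_A
Spec(A/m^ν) whose n-th tensor power is isomorphic to the pullback of L. Then there is an invertible
module M on X whose n-th tensor power is isomorphic to L (existence of an isomorphism). -/
theorem result (A : Type u) [CommRing A] [IsArtinianRing A] [IsLocalRing A]
    (ν : ℕ) (hν : 1 ≤ ν) (hm : IsLocalRing.maximalIdeal A ^ (ν + 1) = ⊥)
    (X : Scheme.{u}) (f : X ⟶ Spec (CommRingCat.of A)) [IsProper f] [Flat f]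
    (n : ℕ) (hn : (n : IsLocalRing.ResidueField A) ≠ 0)
    (L : X.Modules) (hL : PicF.IsInvertible L)
    (L' : (pullback f (Spec.map (CommRingCat.ofHom (Ideal.Quotient.mk (IsLocalRing.maximalIdeal A ^ ν))))).Modules)
    (hL' : PicF.IsInvertible L')
    (hroot : Nonempty (CohB1.tensorPow L' n ≅
      (Scheme.Modules.pullback (pullback.fst f (Spec.map (CommRingCat.ofHom (Ideal.Quotient.mk (IsLocalRing.maximalIdeal A ^ ν)))))).obj L)) :
    ∃ M : X.Modules, PicF.IsInvertible M ∧ Nonempty (CohB1.tensorPow M n ≅ L) := by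
  obtain ⟨φ⟩ := hroot
  haveI : X.Over (Spec (CommRingCat.of A)) := ⟨f⟩
  have hq : IsUnit (n : A) := by
    by_contra h
    exact hn (by rw [← map_natCast (IsLocalRing.residue A)]; exact (IsLocalRing.residue_eq_zero_iff _).2 h)
  let J := IsLocalRing.maximalIdeal A ^ ν
  let σ := Spec.map (CommRingCat.ofHom (Ideal.Quotient.mk J))
  haveI : IsClosedImmersion σ := IsClosedImmersion.spec_of_surjective _ Ideal.Quotient.mk_surjective
  let c : pullback f σ ⟶ X := pullback.fst f σ
  have hc : GrothLib.UnitsThick26.IsSqZero c := by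
    refine GrothLib.TorsPic29.isSqZero_of_pullback_sq (IsPullback.of_hasPullback f σ) Ideal.Quotient.mk_surjective ?_
    rw [Ideal.mk_ker, ← pow_add, eq_bot_iff, ← hm]
    exact Ideal.pow_le_pow_right (by omega)
  obtain ⟨xl, hxl⟩ := (GrothLib.PicH1.toPicHG_bijective X).2 (GrothLib.Cube.clsMod hL)
  obtain ⟨z, hz⟩ := (GrothLib.PicH1.toPicPushHG_bijective c).2 (GrothLib.Cube.clsMod hL')
  have hS := GrothLib.PicH1.thickSeq_shortExact hc
  have hzl : n • z.toAdd = GrothLib.PicH1.HGmap (UnitsSh.comap c) 1 xl.toAdd := by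
    refine congrArg Multiplicative.toAdd (GrothLib.PicH1.toPicPushHG_injective c (a₁ := z ^ n)
      (a₂ := Multiplicative.ofAdd (GrothLib.PicH1.HGmap (UnitsSh.comap c) 1 xl.toAdd)) ?_)
    rw [map_pow, hz, GrothLib.PicH1.toPicPushHG_comap, hxl, ← GrothLib.Cube.clsMod_tensorPow,
      ← GrothLib.Cube.clsMod_pullback c hL, GrothLib.Cube.clsMod_eq_iff]
    exact ⟨φ⟩
  have hδ : GrothLib.PicH1.HGdelta hS 1 2 rfl z.toAdd = 0 := by
    have h0 : n • GrothLib.PicH1.HGdelta hS 1 2 rfl z.toAdd = 0 := by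
      refine (map_nsmul _ _ _).symm.trans ?_
      rw [GrothLib.PicH1.HG_exact₃]
      exact ⟨xl.toAdd, hzl.symm⟩
    obtain ⟨u, hu⟩ := hq
    let t : Coh.HH X (GrothLib.UnitsThick26.kerMod c) 2 := GrothLib.PicH1.HGdelta hS 1 2 rfl z.toAdd
    show t = 0
    have ht : n • t = 0 := h0
    rw [← one_smul A t, ← u.inv_mul, mul_smul, hu, Nat.cast_smul_eq_nsmul, ht, smul_zero]
  obtain ⟨y, hy⟩ := (GrothLib.PicH1.HG_exact₃ hS 1 2 rfl _).1 hδ
  let y0 := GrothLib.PicH1.toPicHG X (Multiplicative.ofAdd y)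
  have hy0 : GrothLib.Cube.pull c y0 = GrothLib.Cube.clsMod hL' := by
    rw [← GrothLib.PicH1.toPicPushHG_comap, ← hz]
    exact congrArg (fun w => GrothLib.PicH1.toPicPushHG c (Multiplicative.ofAdd w)) hy
  obtain ⟨w, -, hw⟩ := GrothLib.TorsPic29.exists_root_step (A := A) c hc hq
    (y0 ^ n * (GrothLib.Cube.clsMod hL)⁻¹) (by
      rw [map_mul, map_pow, map_inv, hy0, mul_inv_eq_one, ← GrothLib.Cube.clsMod_tensorPow,
        ← GrothLib.Cube.clsMod_pullback c hL, GrothLib.Cube.clsMod_eq_iff]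
      exact ⟨φ⟩)
  obtain ⟨M, hM, hMc⟩ := GrothLib.Contract29.exists_mod (y0 * w⁻¹)
  refine ⟨M, hM, (GrothLib.Cube.clsMod_eq_iff (GrothLib.Ample.isInvertible_tensorPow hM n) hL).1 ?_⟩
  rw [GrothLib.Cube.clsMod_tensorPow hM, hMc, mul_pow, inv_pow, hw, mul_inv_rev, inv_inv,
    mul_comm (GrothLib.Cube.clsMod hL), ← mul_assoc, mul_inv_cancel, one_mul]

end Groth.Agent.S5680
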