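import Groth.Statements.S5682
import Groth.Agent.Lib.SplitRed1.RedComp
-- import your own Groth.Agent.* helpers here

set_option autoImplicit false
universe u
open CategoryTheory CategoryTheory.Limits MonoidalCategory CartesianMonoidalCategory MonObj GrpObj AlgebraicGeometry
open FGA

namespace Groth.Agent.S5682

/-- Let k be a field and G a commutative group scheme of finite type over k such that the base change of
G to an algebraic closure of k contains no closed subgroup scheme isomorphic to the additive group.
Then there is a closed subgroup scheme H of G which is smooth over k and whose underlying set is the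
connected component of the identity point of G; in other words the reduced identity component of G
is a smooth subgroup scheme. -/
theorem result (k : Type u) [Field k]
    (G : Over (Spec (CommRingCat.of k))) [GrpObj G] [IsCommMonObj G] [LocallyOfFiniteType G.hom] [QuasiCompact G.hom]
    (hGa : ∀ pt : ↥(Spec (CommRingCat.of k)), SGA7.FibreUnipotentRankZero pt G)
    (pt : ↥(Spec (CommRingCat.of k))) :
    ∃ (H : Over (Spec (CommRingCat.of k))) (_ : GrpObj H) (i : H ⟶ G), IsMonHom i ∧ IsClosedImmersion i.left ∧
      Smooth H.hom ∧ Set.range i.left.base = connectedComponent (η[G].left.base pt) := by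
  haveI : Subsingleton ↥(Spec (CommRingCat.of k)) := inferInstanceAs (Subsingleton (PrimeSpectrum k))
  obtain rfl : pt = IsLocalRing.closedPoint k := Subsingleton.elim _ _
  let pt : Spec (CommRingCat.of k) := IsLocalRing.closedPoint k
  let b : Spec (CommRingCat.of (AlgebraicClosure k)) ⟶ Spec (CommRingCat.of k) :=
    Spec.map (CommRingCat.ofHom (algebraMap k (AlgebraicClosure k)))
  let L := AlgebraicClosure ((Spec (CommRingCat.of k)).residueField pt)
  let φ : CommRingCat.of k ⟶ CommRingCat.of L := Spec.preimage (Red.geomPt pt)
  letI : Algebra k L := φ.hom.toAlgebra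
  let q : Spec (CommRingCat.of L) ⟶ Spec (CommRingCat.of (AlgebraicClosure k)) :=
    Spec.map (CommRingCat.ofHom (IsAlgClosed.lift (R := k) (S := AlgebraicClosure k) (M := L)).toRingHom)
  have hq : q ≫ b = Red.geomPt pt := by
    rw [← Spec.map_preimage (Red.geomPt pt), ← Spec.map_comp, ← CommRingCat.ofHom_comp]
    congr 1
    ext x
    exact (IsAlgClosed.lift (R := k) (S := AlgebraicClosure k) (M := L)).commutes x
  haveI : IsCommMonObj (Red.bc b G) := Functor.isCommMonObj_obj
  haveI : LocallyOfFiniteType (Red.bc b G).hom := MorphismProperty.pullback_snd G.hom b ‹_›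
  haveI : QuasiCompact (Red.bc b G).hom := MorphismProperty.pullback_snd G.hom b ‹_›
  obtain ⟨n, R, _, g, r, hg, hr, hrc, hRs, hRc, hgs, hgr, hropen⟩ := GrothLib.SplitRed1.exists_pow_image (Red.bc b G)
    (fun v hv hvc => GrothLib.SplitRed1.noGa_of_fibre G b pt q hq (hGa pt) v hv hvc)
  haveI := hg; haveI := hr; haveI := hrc; haveI := hRs; haveI := hRc; haveI := hgs
  haveI : IsSeparated G.hom := GrothLib.GrpSchField.isSeparated G
  let f : G ⟶ G := 𝟙 G ^ n
  haveI : IsMonHom f := GrothLib.GrpDeligne.isMonHom_pow (𝟙 G) n
  haveI : QuasiCompact f.left := by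
    haveI : QuasiCompact (f.left ≫ G.hom) := by rw [Over.w f]; infer_instance
    exact QuasiCompact.of_comp f.left G.hom
  obtain ⟨I, _, p, i, hp, hi, hpi, hps, hpf, hpl, hm, hI, -⟩ := GrothLib.Neutral.exists_factor_field f
  haveI := hp; haveI := hi; haveI := hps; haveI := hpf; haveI := hI; haveI := hm
  haveI := (GrothLib.Neutral.isClosedImmersion_factor f hpi).1
  haveI := (GrothLib.Neutral.isClosedImmersion_factor f hpi).2
  let P := Over.pullback b
  haveI : IsClosedImmersion (P.map i).left :=
    MorphismProperty.of_isPullback (GrothLib.SplitRed1.isPullback_map b i) ‹_›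
  haveI : Flat (P.map p).left := MorphismProperty.of_isPullback (GrothLib.SplitRed1.isPullback_map b p) hpf
  haveI : Surjective (P.map p).left := MorphismProperty.of_isPullback (GrothLib.SplitRed1.isPullback_map b p) hps
  haveI : QuasiCompact (P.map p).left :=
    MorphismProperty.of_isPullback (GrothLib.SplitRed1.isPullback_map b p) ‹QuasiCompact p.left›
  have he : P.map p ≫ P.map i = g ≫ r := by
    rw [hgr, ← P.map_comp, hpi, ← P.map_id]
    exact map_pow P.homMonoidHom (𝟙 G) n
  haveI : Mono r := Over.mono_of_mono_left r
  haveI : Mono (P.map i) := Over.mono_of_mono_left _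
  let K := pullback (P.map p) η[Red.bc b I]
  have hK : AlgGrp.IsKernel (pullback.fst (P.map p) η[Red.bc b I]) (P.map p) := by
    show IsPullback _ _ _ _
    rw [Subsingleton.elim (toUnit _) (pullback.snd (P.map p) η[Red.bc b I])]
    exact IsPullback.of_hasPullback _ _
  obtain ⟨h, hh, hph⟩ := GrothLib.GrpDeligne.exists_factor (P.map p) _ hK g (by
    rw [← cancel_mono r, Category.assoc, ← he, ← Category.assoc, hK.w, MonObj.one_comp, Category.assoc,
      IsMonHom.one_hom (f := P.map i), Hom.one_def])
  haveI : Epi (P.map p) := (Over.forget _).epi_of_epi_map (inferInstanceAs (Epi (P.map p).left))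
  have hhr : h ≫ r = P.map i := by rw [← cancel_epi (P.map p), ← Category.assoc, hph, he]
  haveI : IsClosedImmersion (h.left ≫ r.left) := by rw [← Over.comp_left, hhr]; infer_instance
  haveI : IsClosedImmersion h.left := IsClosedImmersion.of_comp h.left r.left
  haveI : Surjective h.left := by
    haveI : Surjective ((P.map p).left ≫ h.left) := by rw [← Over.comp_left, hph]; infer_instance
    exact Surjective.of_comp (P.map p).left h.left
  haveI : IsReduced R.left := GrothLib.Rigidity.isReduced_of_smooth R.hom
  haveI : IsIso h.left := isIso_of_isClosedImmersion_of_surjective h.left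
  haveI : Smooth (h.left ≫ R.hom) := inferInstance
  have hsm : Smooth (pullback.snd I.hom b) := by
    show Smooth (Red.bc b I).hom
    rw [← Over.w h]
    infer_instance
  haveI : Flat b := GrothLib.DiagGrp.flat_of_field _
  haveI : Surjective b := ⟨fun x => ⟨IsLocalRing.closedPoint _, Subsingleton.elim _ _⟩⟩
  haveI : QuasiCompact b := inferInstance
  have hdesc : Smooth I.hom :=
    MorphismProperty.of_isPullback_of_descendsAlong (Q := @Surjective ⊓ @Flat ⊓ @QuasiCompact)
      (IsPullback.of_hasPullback I.hom b).flip ⟨⟨inferInstance, inferInstance⟩, inferInstance⟩ hsm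
  refine ⟨I, inferInstance, i, hi, inferInstance, hdesc, ?_⟩
  haveI : ConnectedSpace (Red.bc b I).left := h.left.homeomorph.symm.surjective.connectedSpace h.left.homeomorph.symm.continuous
  haveI : Surjective (pullback.fst I.hom b) := inferInstance
  haveI : ConnectedSpace ↥(pullback I.hom b) := ‹ConnectedSpace (Red.bc b I).left›
  haveI : ConnectedSpace I.left := (pullback.fst I.hom b).surjective.connectedSpace (pullback.fst I.hom b).continuous
  have hmem : η[G].left pt ∈ Set.range i.left :=
    ⟨η[I].left pt, by rw [← Scheme.Hom.comp_apply, ← Over.comp_left, IsMonHom.one_hom]⟩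
  refine le_antisymm ((isConnected_range i.left.continuous).subset_connectedComponent hmem) ?_
  -- the image is open
  refine IsClopen.connectedComponent_subset ⟨i.left.isClosedEmbedding.isClosed_range, ?_⟩ hmem
  have hint : IsIntegralHom b :=
    IsIntegralHom.SpecMap_iff.mpr (algebraMap_isIntegral_iff.mpr inferInstance)
  haveI : IsIntegralHom (pullback.fst G.hom b) := MorphismProperty.pullback_fst _ _ hint
  have hpre : pullback.fst G.hom b ⁻¹' Set.range i.left = Set.range r.left := by
    rw [← GrothLib.GITQuot.range_eq_preimage (GrothLib.SplitRed1.isPullback_map b i).flip, ← hhr, Over.comp_left,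
      Scheme.Hom.comp_base, TopCat.coe_comp, Set.range_comp, h.left.surjective.range_eq, Set.image_univ]
  rw [← isClosed_compl_iff, ← Set.image_preimage_eq (Set.range i.left)ᶜ (pullback.fst G.hom b).surjective,
    Set.preimage_compl, hpre]
  exact (pullback.fst G.hom b).isClosedMap _ hropen.isClosed_compl

end Groth.Agent.S5682
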