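import Groth.Statements.S5683
import Groth.Agent.Lib.PicDirect26.Basic

set_option autoImplicit false
universe u
open CategoryTheory CategoryTheory.Limits AlgebraicGeometry
open FGA

namespace Groth.Agent.S5683

/-- Let f : X ⟶ S be a morphism of schemes such that for every open U of S the induced map from sections
of the structure sheaf of S over U to sections of the structure sheaf of X over the inverse image of
U is bijective. If L is an invertible module on S whose pullback to X is isomorphic to the structure
sheaf of X, then L is isomorphic to the structure sheaf of S: pullback of invertible modules along f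
is injective on isomorphism classes. This is exactness at Pic(S). -/
theorem result {X S : Scheme.{u}} (f : X ⟶ S)
    (hf : ∀ U : S.Opens, Function.Bijective (f.app U)) (L : S.Modules) (hL : PicF.IsInvertible L)
    (htriv : Nonempty ((Scheme.Modules.pullback f).obj L ≅ Coh.structureModule X)) :
    Nonempty (L ≅ Coh.structureModule S) := by
  obtain ⟨c, ⟨e⟩⟩ := GrothLib.Ample.exists_cocycle hL
  obtain ⟨p⟩ := c.nonempty_pullback_iso f e
  obtain ⟨t⟩ := htriv
  have h := GrothLib.PicDirect26.triv_of_triv_comap hf
    ((GrothLib.Cube.triv_iff (c.comap f)).2 ⟨p.symm ≪≫ t⟩)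
  obtain ⟨q⟩ := (GrothLib.Cube.triv_iff c).1 h
  exact ⟨e ≪≫ q⟩

end Groth.Agent.S5683
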