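import Groth.Statements.S5684
import Groth.Agent.Lib.Seesaw26.Descent

set_option autoImplicit false
universe u
open CategoryTheory CategoryTheory.Limits AlgebraicGeometry
open FGA

namespace Groth.Agent.S5684

/-- Let f : X ⟶ S be quasi-compact and separated with the induced maps from sections of the structure
sheaf of S to sections of the structure sheaf of X bijective over every open of S, and let g : S' ⟶
S be flat, surjective and quasi-compact. If L is an invertible module on X whose pullback to X ×_S
S' is isomorphic to the pullback along the second projection of some invertible module on S', then L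
is isomorphic to the pullback along f of some invertible module on S. -/
theorem result {X S S' : Scheme.{u}} (f : X ⟶ S)
    [QuasiCompact f] [IsSeparated f] (hf : ∀ U : S.Opens, Function.Bijective (f.app U))
    (g : S' ⟶ S) [Flat g] [Surjective g] [QuasiCompact g]
    (L : X.Modules) (hL : PicF.IsInvertible L)
    (hdesc : ∃ N' : S'.Modules, PicF.IsInvertible N' ∧
      Nonempty ((Scheme.Modules.pullback (pullback.fst f g)).obj L ≅ (Scheme.Modules.pullback (pullback.snd f g)).obj N')) :
    ∃ N : S.Modules, PicF.IsInvertible N ∧ Nonempty (L ≅ (Scheme.Modules.pullback f).obj N) := by
  obtain ⟨N', hN', ⟨e⟩⟩ := hdesc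
  exact GrothLib.Seesaw26.exists_base_of_flat_baseChange f hf g L hL N' hN' e

end Groth.Agent.S5684
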