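import Groth.Statements.S5686
-- import your own Groth.Agent.* helpers here
import Groth.Agent.S2794
import Groth.Agent.Lib.PicRoot26.Lift

set_option autoImplicit false
universe u
open CategoryTheory CategoryTheory.Limits AlgebraicGeometry
open FGA

set_option backward.isDefEq.respectTransparency false
set_option linter.style.haveILetI false

noncomputable section

open GrothLib

open CategoryTheory CategoryTheory.Limits AlgebraicGeometry IsLocalRing

namespace Groth.Agent.S5686

/-- Let S be a locally Noetherian scheme, f : X ⟶ S proper and flat, and suppose the relative Picard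
functor of X over S (sheafified for the etale topology) is represented by an S-scheme P, locally of
finite type over S, through the family of maps φ. Let n be a natural number and m : P ⟶ P an
S-morphism such that for every S-scheme T and every invertible module L on X ×_S T, φ applied to the
class of the n-th tensor power of L equals φ applied to the class of L followed by m (so m is the
n-th power map of the Picard scheme). Then m is etale at all points of P whose residue
characteristic is prime to n: the restriction of m to the open subset of P where n is invertible is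
etale. (Local finite type of P over S is recorded as a hypothesis.) -/
theorem result {X S : Scheme.{u}} [IsLocallyNoetherian S] (f : X ⟶ S) [IsProper f] [Flat f]
    (P : Over S) [LocallyOfFiniteType P.hom] (φ : ∀ T : Over S, PicF.Cl (PicF.XT f T) → (T ⟶ P))
    (hP : PicRel.IsRelPic f P φ) (n : ℕ) (m : P ⟶ P)
    (hm : ∀ (T : Over S) (L : (PicF.XT f T).Modules), PicF.IsInvertible L →
      φ T (PicF.cl (CohB1.tensorPow L n)) = φ T (PicF.cl L) ≫ m) :
    Etale ((P.left.basicOpen (n : Γ(P.left, ⊤))).ι ≫ m.left) := by
  haveI : IsLocallyNoetherian P.left := LocallyOfFiniteType.isLocallyNoetherian P.hom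
  haveI : LocallyOfFiniteType (m.left ≫ P.hom) := by rw [Over.w m]; infer_instance
  haveI : LocallyOfFiniteType m.left := locallyOfFiniteType_of_comp m.left P.hom
  let U := P.left.basicOpen (n : Γ(P.left, ⊤))
  let g := U.ι ≫ m.left
  haveI : LocallyOfFiniteType g := inferInstance
  have hpt : ∀ x : U, ∃ V : (U : Scheme).Opens, x ∈ V ∧ Etale (V.ι ≫ g) := by
    intro x
    refine (S2794.result g x).2 ?_
    intro A' _ _ _ h _ I hI hIm g₀ hg₀ hloc _
    haveI : Nontrivial (A' ⧸ I) := Ideal.Quotient.nontrivial_iff.2 hI
    haveI : IsLocalRing (A' ⧸ I) := IsLocalRing.of_surjective' _ Ideal.Quotient.mk_surjective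
    haveI := LiftTest.isLocalHom_of_surjective _ (Ideal.Quotient.mk_surjective (I := I))
    have h0 : I * I = ⊥ := le_bot_iff.1 ((Ideal.mul_mono le_rfl (le_maximalIdeal hI)).trans hIm.le)
    have hnP : IsUnit (n : P.left.presheaf.stalk (U.ι x)) := by
      have := (Scheme.mem_basicOpen_top _ _ (U.ι x)).1 x.2
      rwa [map_natCast] at this
    have hnU : IsUnit (n : (U : Scheme).presheaf.stalk x) := map_natCast (U.ι.stalkMap x).hom n ▸ hnP.map _
    have hn : IsUnit (n : A') := by
      refine isUnit_of_map_unit (Ideal.Quotient.mk I) _ ?_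
      rw [map_natCast]
      exact map_natCast g₀ n ▸ hnU.map g₀
    let αU : Spec (CommRingCat.of (A' ⧸ I)) ⟶ (U : Scheme) :=
      Spec.map (CommRingCat.ofHom g₀) ≫ (U : Scheme).fromSpecStalk x
    obtain ⟨γ, ⟨hγ1, hγ2⟩, huniq⟩ := GrothLib.PicRoot26.existsUnique_lift hP n m hm I hI h0 hn (αU ≫ U.ι)
      (Spec.map (CommRingCat.ofHom h) ≫ P.left.fromSpecStalk (g x)) (by
        rw [← Spec.map_comp_assoc]
        show _ = (αU ≫ U.ι) ≫ m.left
        rw [Category.assoc]
        show _ = (Spec.map (CommRingCat.ofHom g₀) ≫ (U : Scheme).fromSpecStalk x) ≫ g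
        rw [Category.assoc, ← Scheme.SpecMap_stalkMap_fromSpecStalk, ← Spec.map_comp_assoc]
        exact congrArg (fun t => Spec.map t ≫ P.left.fromSpecStalk (g x)) (CommRingCat.hom_ext hg₀.symm))
    have hpoint : ∀ z, Set.range γ ⊆ {z} ↔ γ (closedPoint A') = z := fun z =>
      ⟨fun hh => hh ⟨_, rfl⟩, fun hh => by
        rintro _ ⟨y, rfl⟩
        rw [Subsingleton.elim (α := PrimeSpectrum A') y (closedPoint A')]
        exact hh⟩
    have hclosed : γ (closedPoint A') = U.ι (αU (closedPoint (A' ⧸ I))) := by
      rw [← Scheme.Hom.comp_apply, ← hγ1, Scheme.Hom.comp_apply]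
      exact congrArg γ (Subsingleton.elim (α := PrimeSpectrum A') _ _)
    have hr : Set.range γ ⊆ Set.range U.ι := ((hpoint _).2 hclosed).trans (Set.singleton_subset_iff.2 ⟨_, rfl⟩)
    let γU := IsOpenImmersion.lift U.ι γ hr
    have hγU : γU ≫ U.ι = γ := IsOpenImmersion.lift_fac _ _ _
    have hαU : Spec.map (CommRingCat.ofHom (Ideal.Quotient.mk I)) ≫ γU = αU := by
      rw [← cancel_mono U.ι, Category.assoc, hγU, hγ1]
    haveI : IsLocalHom g₀ := ⟨fun b hb => by
      by_contra hnb
      obtain ⟨a, ha, hab⟩ := (Ideal.mem_map_iff_of_surjective _ Ideal.Quotient.mk_surjective).1 (hloc b hnb)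
      exact ha ((isUnit_map_iff (Ideal.Quotient.mk I) a).1 (hab ▸ hb))⟩
    have hx : γU (closedPoint A') = x := by
      rw [show closedPoint A' = Spec.map (CommRingCat.ofHom (Ideal.Quotient.mk I)) (closedPoint (A' ⧸ I)) from
        Subsingleton.elim (α := PrimeSpectrum A') _ _, ← Scheme.Hom.comp_apply, hαU]
      show (U : Scheme).fromSpecStalk x (Spec.map (CommRingCat.ofHom g₀) (closedPoint (A' ⧸ I))) = x
      rw [LiftTest.Spec_map_closedPoint, Scheme.fromSpecStalk_closedPoint]
    obtain ⟨k, -, hk⟩ := LiftTest.exists_fac γU x hx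
    refine ⟨k.hom, ⟨?_, ?_⟩, fun k' hk' => ?_⟩
    · have := hγ2
      rw [← hγU, ← hk, Category.assoc, Category.assoc] at this
      change Spec.map k ≫ (U : Scheme).fromSpecStalk x ≫ g = _ at this
      rw [← Scheme.SpecMap_stalkMap_fromSpecStalk, ← Spec.map_comp_assoc, cancel_mono] at this
      exact congrArg CommRingCat.Hom.hom (Spec.map_injective this)
    · have := hαU
      rw [← hk, ← Spec.map_comp_assoc, cancel_mono] at this
      exact congrArg CommRingCat.Hom.hom (Spec.map_injective this)
    · have h1 : Spec.map (CommRingCat.ofHom k') ≫ (U : Scheme).fromSpecStalk x ≫ U.ι = γ := by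
        refine huniq _ ⟨?_, ?_⟩
        · rw [← Spec.map_comp_assoc, ← Category.assoc]
          refine congrArg (fun t => (Spec.map t ≫ _) ≫ U.ι) ?_
          exact CommRingCat.hom_ext hk'.2
        · simp only [Category.assoc]
          show Spec.map (CommRingCat.ofHom k') ≫ (U : Scheme).fromSpecStalk x ≫ g = _
          rw [← Scheme.SpecMap_stalkMap_fromSpecStalk, ← Spec.map_comp_assoc]
          exact congrArg (fun t => Spec.map t ≫ P.left.fromSpecStalk (g x)) (CommRingCat.hom_ext hk'.1)
      rw [← hγU, ← hk, Category.assoc, ← Category.assoc, ← Category.assoc, cancel_mono, cancel_mono] at h1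
      exact congrArg CommRingCat.Hom.hom (Spec.map_injective h1)
  choose V hV hVe using hpt
  exact (IsZariskiLocalAtSource.iff_of_iSup_eq_top (P := @Etale) V
    (eq_top_iff.2 fun x _ => TopologicalSpace.Opens.mem_iSup.2 ⟨x, hV x⟩)).2 hVe

end Groth.Agent.S5686
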