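import Groth.Statements.S5687
-- import your own Groth.Agent.* helpers here
import Groth.Agent.Lib.PicRoot26.Smooth

set_option autoImplicit false
universe u
open CategoryTheory CategoryTheory.Limits AlgebraicGeometry
open FGA

set_option backward.isDefEq.respectTransparency false
set_option linter.style.haveILetI false

noncomputable section

open GrothLib

open CategoryTheory CategoryTheory.Limits AlgebraicGeometry IsLocalRing

namespace Groth.Agent.S5687

/-- Let S be a locally Noetherian scheme, f : X ⟶ S proper and flat, and P an S-scheme locally of finite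
type over S representing the relative Picard functor of X over S sheafified for the etale topology.
Let s be a point of S such that the second cohomology group of the structure sheaf of the fibre X_s
vanishes. Then there is an open neighbourhood U of s such that the inverse image of U in P is smooth
over S. (Local finite type of P over S is recorded as a hypothesis.) -/
theorem result {X S : Scheme.{u}} [IsLocallyNoetherian S] (f : X ⟶ S)
    [IsProper f] [Flat f] (P : Over S) [LocallyOfFiniteType P.hom] (hP : PicRel.RepresentedBy f P) (s : S)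
    (h2 : Subsingleton (Coh.HH (pullback f (S.fromSpecResidueField s)) (Coh.structureModule _) 2)) :
    ∃ U : S.Opens, s ∈ U ∧ Smooth ((P.hom ⁻¹ᵁ U).ι ≫ P.hom) := by
  obtain ⟨φ, hφ⟩ := hP
  haveI : IsLocallyNoetherian P.left := LocallyOfFiniteType.isLocallyNoetherian P.hom
  haveI : LocallyOfFinitePresentation P.hom :=
    GrothLib.LocProp.locallyOfFinitePresentation_of_isLocallyNoetherian P.hom
  haveI : ∀ y : S, IsProper (f.fiberToSpecResidueField y) := fun y =>
    inferInstanceAs (IsProper (pullback.snd f (S.fromSpecResidueField y)))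
  have hsub : ∀ y : S, CohIII.fiberRank f (Coh.structureModule X) 2 y = 0 →
      Subsingleton (Coh.HH (f.fiber y) (Coh.structureModule _) 2) := by
    intro y hy
    obtain ⟨V, hV, hyV, -⟩ := exists_isAffineOpen_mem_and_subset (x := y) (U := (⊤ : S.Opens)) trivial
    haveI : IsNoetherianRing Γ(S, V) := IsLocallyNoetherian.component_noetherian ⟨V, hV⟩
    haveI : (Coh.structureModule X).IsQuasicoherent :=
      InvExt.isQuasicoherent_of_isInvertible Euler.isInvertible_structure
    obtain ⟨m⟩ := BCCoh.nonempty_model (BCCoh.affBase f hV) ((Coh.structureModule X).restrict (f ⁻¹ᵁ V).ι)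
      (Cohom.isCoh_restrict _ (Euler.isCoh_of_isInvertible Euler.isInvertible_structure) _)
      (BCCoh.isFlatOver_affBase f hV _ (Seesaw26.isFlatOver_structure f))
    letI : (f.fiber y).Over (Spec (CommRingCat.of (S.residueField y))) := ⟨f.fiberToSpecResidueField y⟩
    haveI := m.subsingleton_fiberH f hV (Coh.structureModule X) 2 y hyV hy
    exact (Euler.hhEquiv (A := S.residueField y) (OX.pullUnitIso (f.fiberι y)) 2).symm.toEquiv.subsingleton
  let U : S.Opens :=
    ⟨{y | 1 ≤ CohIII.fiberRank f (Coh.structureModule X) 2 y}ᶜ, (Sect28.isClosed_setOf_le_fiberRank f 2 1).isOpen_compl⟩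
  refine ⟨U, ?_, ?_⟩
  · show ¬ (1 ≤ CohIII.fiberRank f (Coh.structureModule X) 2 s)
    haveI : Subsingleton (CohIII.fiberH f (Coh.structureModule X) s 2) := by
      haveI : Subsingleton (Coh.HH (f.fiber s) (Coh.structureModule _) 2) := h2
      letI : (f.fiber s).Over (Spec (CommRingCat.of (S.residueField s))) := ⟨f.fiberToSpecResidueField s⟩
      exact (Euler.hhEquiv (A := S.residueField s) (OX.pullUnitIso (f.fiberι s)) 2).toEquiv.subsingleton
    rw [BCCoh.fiberRank_eq_zero_of_subsingleton f _ 2 s inferInstance]
    omega
  · have hle : P.hom ⁻¹ᵁ U ≤ P.hom.smoothLocus := fun x hx => by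
      refine Scheme.Hom.mem_smoothLocus.2 (PicRoot26.formallySmooth_stalkMap hφ x (hsub _ ?_))
      have : ¬ (1 ≤ CohIII.fiberRank f (Coh.structureModule X) 2 (P.hom x)) := hx
      omega
    rw [← Scheme.Hom.smoothLocus_eq_top_iff]
    refine eq_top_iff.2 fun z _ => Scheme.Hom.mem_smoothLocus.2 ?_
    exact (GrothLib.LocProp.stalkMap_comp_ι_iff RingHom.FormallySmooth.respectsIso (P.hom ⁻¹ᵁ U).ι P.hom z).2
      (Scheme.Hom.mem_smoothLocus.1 (hle z.2))

end Groth.Agent.S5687
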