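import Groth.Statements.S5690
import Groth.Agent.Lib.GrpdQuot.GlueMono
-- import your own Groth.Agent.* helpers here

set_option autoImplicit false
universe u
open CategoryTheory CategoryTheory.Limits AlgebraicGeometry
open FGA

namespace Groth.Agent.S5690

/-- Let (U, R, s, t, c) be a groupoid scheme over a scheme S whose source morphism s : R ⟶ U is finite
locally free (finite, flat and locally of finite presentation), and suppose every equivalence class
t(s⁻¹(x)), x a point of U, is contained in some affine open of U. Then there are a scheme Y and a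
morphism q : U ⟶ Y with s ≫ q = t ≫ q which is a coequalizer of s and t in the category of schemes,
affine, integral and surjective, whose fibres are the equivalence classes; and if (t, s) : R ⟶ U ×_S
U is a monomorphism then q is moreover finite, flat and locally of finite presentation and (t, s) :
R ⟶ U ×_Y U is an isomorphism. Only the sufficiency of the affine-class condition is stated (the
published statement is an equivalence: the quotient with these properties exists if and only if
every class lies in an affine open). -/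
theorem result {S : Scheme.{u}} (G : Grpd.GroupoidScheme S)
    [IsFinite G.s] [Flat G.s] [LocallyOfFinitePresentation G.s]
    (haff : ∀ x : ↥G.U, ∃ V : G.U.Opens, IsAffineOpen V ∧ G.t.base '' (G.s.base ⁻¹' {x}) ⊆ (V : Set ↥G.U)) :
    ∃ (Y : Scheme.{u}) (q : G.U ⟶ Y) (w : G.s ≫ q = G.t ≫ q),
      Nonempty (IsColimit (Cofork.ofπ q w)) ∧ IsAffineHom q ∧ IsIntegralHom q ∧ Surjective q ∧
      (∀ x x' : ↥G.U, q.base x = q.base x' ↔ ∃ r : ↥G.R, G.s.base r = x ∧ G.t.base r = x') ∧
      (Mono G.j → IsFinite q ∧ Flat q ∧ LocallyOfFinitePresentation q ∧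
        IsIso (pullback.lift G.t G.s w.symm : G.R ⟶ pullback q q)) := by
  have hG : GrothLib.GrpdQuot.Covered G := fun u => by
    obtain ⟨V, hV, hV'⟩ := haff u
    exact ⟨V, hV, fun r hr => hV' ⟨r, hr, rfl⟩⟩
  haveI hint : IsIntegralHom (GrothLib.GrpdQuot.quotientπ hG) := GrothLib.GrpdQuot.isIntegralHom_quotientπ hG
  have e : ∀ {T : Scheme.{u}} (m : G.U ⟶ T) (w : G.t ≫ m = G.s ≫ m) (h : IsColimit (Cofork.ofπ m w)),
      Nonempty (IsColimit (Cofork.ofπ m w.symm)) := fun m w h =>
    ⟨Cofork.IsColimit.mk _ (fun s => h.desc (Cofork.ofπ s.π s.condition.symm))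
      (fun s => h.fac (Cofork.ofπ s.π s.condition.symm) WalkingParallelPair.one)
      (fun s k hk => Cofork.IsColimit.hom_ext h
        (hk.trans (h.fac (Cofork.ofπ s.π s.condition.symm) WalkingParallelPair.one).symm))⟩
  refine ⟨GrothLib.GrpdQuot.quotient G, GrothLib.GrpdQuot.quotientπ hG,
    (GrothLib.GrpdQuot.quotientπ_condition hG).symm,
    e _ _ (GrothLib.GrpdQuot.isColimitQuotient hG), inferInstance, hint,
    ⟨GrothLib.GrpdQuot.quotientπ_surjective hG⟩, fun x x' => ?_, fun hm => ?_⟩
  · constructor
    · intro h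
      obtain ⟨r, h1, h2⟩ := (GrothLib.GrpdQuot.quotientπ_eq_iff hG x' x).1 h.symm
      exact ⟨r, h2, h1⟩
    · rintro ⟨r, h1, h2⟩
      exact ((GrothLib.GrpdQuot.quotientπ_eq_iff hG x' x).2 ⟨r, h2, h1⟩).symm
  · haveI := hm
    obtain ⟨hf, hfl, hp⟩ := GrothLib.GrpdQuot.isFinLocFree_quotientπ hG
    refine ⟨hf, hfl, hp, ?_⟩
    have H := GrothLib.GrpdQuot.isPullback_quotientπ hG
    have : pullback.lift G.t G.s (GrothLib.GrpdQuot.quotientπ_condition hG) = H.isoPullback.hom := by
      apply pullback.hom_ext
      · rw [H.isoPullback_hom_fst]; exact pullback.lift_fst _ _ _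
      · rw [H.isoPullback_hom_snd]; exact pullback.lift_snd _ _ _
    show IsIso (pullback.lift G.t G.s (GrothLib.GrpdQuot.quotientπ_condition hG))
    rw [this]
    infer_instance

end Groth.Agent.S5690
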