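import Groth.Statements.S5693
-- import your own Groth.Agent.* helpers here
import Groth.Agent.Lib.TorsGrp26.Main

set_option autoImplicit false
universe u
open CategoryTheory CategoryTheory.Limits MonoidalCategory CartesianMonoidalCategory MonObj GrpObj AlgebraicGeometry
open FGA

set_option backward.isDefEq.respectTransparency false
set_option linter.style.haveILetI false

noncomputable section

open GrothLib

open CategoryTheory CategoryTheory.Limits AlgebraicGeometry

namespace Groth.Agent.S5693

/-- Let S be a locally Noetherian scheme, G a commutative group scheme locally of finite type over S and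
n ≥ 1 an integer. The set of points x of G for which n is the least positive integer such that the
n-th power morphism sends x into the union of the connected components of the identity of the fibres
is locally constructible in G (the order function on the torsion-component set is locally
constructible). -/
theorem result (S : Scheme.{u}) [IsLocallyNoetherian S] (G : Over S) [GrpObj G]
    [IsCommMonObj G] [LocallyOfFiniteType G.hom] (n : ℕ) (hn : 0 < n) :
    Topology.IsLocallyConstructible {x : ↥G.left | ((𝟙 G : G ⟶ G) ^ n).left.base x ∈ SGA3x.neutralSet G ∧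
      ∀ d : ℕ, 0 < d → d < n → ((𝟙 G : G ⟶ G) ^ d).left.base x ∉ SGA3x.neutralSet G} := by
  have h : {x : ↥G.left | ((𝟙 G : G ⟶ G) ^ n).left.base x ∈ SGA3x.neutralSet G ∧
      ∀ d : ℕ, 0 < d → d < n → ((𝟙 G : G ⟶ G) ^ d).left.base x ∉ SGA3x.neutralSet G} =
      GrothLib.TorsGrp26.tn G n ∩ ⋂ d : {d : Fin n // 0 < d.1}, (GrothLib.TorsGrp26.tn G d.1.1)ᶜ := by
    ext x
    simp only [Set.mem_ofPred_eq, Set.mem_inter_iff, Set.mem_iInter, Set.mem_compl_iff, GrothLib.TorsGrp26.tn,
      Subtype.forall, Fin.forall_iff]
    exact and_congr_right fun _ => ⟨fun h d h1 h2 => h d h2 h1, fun h d h1 h2 => h d h2 h1⟩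
  rw [h]
  exact (GrothLib.TorsGrp26.isLocallyConstructible_tn G n).inter (Topology.IsLocallyConstructible.iInter fun d =>
    GrothLib.Constr.isLocallyConstructible_compl (GrothLib.TorsGrp26.isLocallyConstructible_tn G _))

end Groth.Agent.S5693
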