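import Groth.Statements.S5694
-- import your own Groth.Agent.* helpers here
import Groth.Agent.Lib.TorsGrp26.Char

set_option autoImplicit false
universe u
open CategoryTheory CategoryTheory.Limits MonoidalCategory CartesianMonoidalCategory MonObj GrpObj AlgebraicGeometry
open FGA

set_option backward.isDefEq.respectTransparency false
set_option linter.style.haveILetI false

noncomputable section

open GrothLib

open CategoryTheory CategoryTheory.Limits AlgebraicGeometry

open scoped Classical

namespace Groth.Agent.S5694

/-- Let S be a locally Noetherian scheme and G a commutative group scheme locally of finite type over S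
such that the union of the connected components of the identity in the fibres of G is closed. Let
p(s) denote the characteristic exponent of the residue field of S at s. Then the set of points x of
G such that some p(s)^h-th power morphism (h ≥ 0, s the image of x in S) sends x into that union, is
closed in G. -/
theorem result (S : Scheme.{u}) [IsLocallyNoetherian S] (G : Over S) [GrpObj G]
    [IsCommMonObj G] [LocallyOfFiniteType G.hom] (h0 : IsClosed (SGA3x.neutralSet G))
    (p : ↥S → ℕ) (hp : ∀ s : ↥S, ringExpChar (S.residueField s) = p s) :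
    IsClosed {x : ↥G.left | ∃ h m : ℕ, m = p (G.hom.base x) ^ h ∧
      ((𝟙 G : G ⟶ G) ^ m).left.base x ∈ SGA3x.neutralSet G} := by
  have hp' : ∀ s, p s = 1 ∨ (p s).Prime := fun s => by
    haveI := ringExpChar.of_eq (hp s)
    exact (expChar_is_prime_or_one (S.residueField s) (p s)).symm
  refine GrothLib.TorsGrp26.isClosed_of_orders G h0 (fun d => {x | ∃ h : ℕ, d = p (G.hom.base x) ^ h})
    (fun d hd => ?_) _ ?_ ?_
  · by_cases h1 : d = 1
    · subst h1
      convert isClosed_univ using 1
      exact Set.eq_univ_of_forall fun x => ⟨0, (pow_zero _).symm⟩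
    have he : {x : ↥G.left | ∃ h : ℕ, d = p (G.hom.base x) ^ h} =
        ⋃ l ∈ d.primeFactors.filter (fun l => ∃ h : ℕ, d = l ^ h), G.hom.base ⁻¹' {s | ringExpChar (S.residueField s) = l} := by
      ext x
      simp only [Set.mem_ofPred_eq, Set.mem_iUnion, Finset.mem_filter, Set.mem_preimage, exists_prop, hp]
      constructor
      · rintro ⟨h, rfl⟩
        rcases hp' (G.hom.base x) with he | he
        · exact absurd (by rw [he, one_pow]) h1
        · refine ⟨_, ⟨Nat.mem_primeFactors.2 ⟨he, ?_, hd.ne'⟩, h, rfl⟩, rfl⟩
          exact dvd_pow_self _ fun h2 => h1 (by rw [h2, pow_zero])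
      · rintro ⟨l, ⟨-, h, hh⟩, rfl⟩
        exact ⟨h, hh⟩
    rw [he]
    exact Set.Finite.isClosed_biUnion (Finset.finite_toSet _) fun l hl =>
      (GrothLib.TorsGrp26.isClosed_expChar_eq (Nat.prime_of_mem_primeFactors (Finset.mem_filter.1 hl).1)).preimage
        G.hom.continuous
  · ext x
    simp only [GrothLib.TorsGrp26.tn, Set.mem_iUnion, Set.mem_inter_iff, Set.mem_ofPred_eq, exists_prop]
    constructor
    · rintro ⟨h, m, rfl, hm⟩
      refine ⟨_, pow_pos ?_ h, ⟨h, rfl⟩, hm⟩
      rcases hp' (G.hom.base x) with he | he
      · rw [he]; exact one_pos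
      · exact he.pos
    · rintro ⟨d, -, ⟨h, hh⟩, hm⟩
      exact ⟨h, d, hh, hm⟩
  · rintro x d N ⟨h, rfl⟩ _ _
    rcases hp' (G.hom.base x) with he | he
    · exact ⟨0, by rw [he]; simp⟩
    · obtain ⟨i, -, hi⟩ := (Nat.dvd_prime_pow he).1 (Nat.gcd_dvd_left (p (G.hom.base x) ^ h) N)
      exact ⟨i, hi⟩

end Groth.Agent.S5694
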