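import Groth.Statements.S5695
-- import your own Groth.Agent.* helpers here
import Groth.Agent.Lib.TorsGrp26.Main

set_option autoImplicit false
universe u
open CategoryTheory CategoryTheory.Limits MonoidalCategory CartesianMonoidalCategory MonObj GrpObj AlgebraicGeometry
open FGA

set_option backward.isDefEq.respectTransparency false
set_option linter.style.haveILetI false

noncomputable section

open GrothLib

open CategoryTheory CategoryTheory.Limits AlgebraicGeometry

namespace Groth.Agent.S5695

/-- Let S be a locally Noetherian scheme all of whose residue fields have the same characteristic p (so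
the characteristic exponent is max(p, 1)), and G a commutative group scheme locally of finite type
over S such that the union of the connected components of the identity in the fibres of G is closed.
Then the set of points x of G such that for some integer n ≥ 1 prime to max(p, 1) the n-th power
morphism sends x into that union, is closed in G. -/
theorem result (S : Scheme.{u}) [IsLocallyNoetherian S]
    (p : ℕ) (hS : ∀ s : ↥S, ringChar (S.residueField s) = p)
    (G : Over S) [GrpObj G] [IsCommMonObj G] [LocallyOfFiniteType G.hom] (h0 : IsClosed (SGA3x.neutralSet G)) :
    IsClosed {x : ↥G.left | ∃ n : ℕ, 0 < n ∧ Nat.Coprime n (max p 1) ∧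
      ((𝟙 G : G ⟶ G) ^ n).left.base x ∈ SGA3x.neutralSet G} := by
  refine GrothLib.TorsGrp26.isClosed_of_orders G h0 (fun d => {_x | Nat.Coprime d (max p 1)}) (fun d _ => ?_) _ ?_ ?_
  · by_cases h : Nat.Coprime d (max p 1)
    · convert isClosed_univ using 1; exact Set.eq_univ_of_forall fun _ => h
    · convert isClosed_empty using 1; exact Set.eq_empty_of_forall_notMem fun _ h' => h h'
  · ext x
    simp only [GrothLib.TorsGrp26.tn, Set.mem_iUnion, Set.mem_inter_iff, Set.mem_ofPred_eq, exists_prop]
  · intro x d N hx _ _
    exact Nat.Coprime.coprime_dvd_left (Nat.gcd_dvd_left d N) hx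

end Groth.Agent.S5695
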