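import Groth.Statements.S5697
-- import your own Groth.Agent.* helpers here
import Groth.Agent.Lib.Neutral.DimClosure
import Groth.Agent.Lib.Neutral.Constructible
import Groth.Agent.Lib.Neutral.ConstDim
import Groth.Agent.Lib.LocProp.Stalk

set_option autoImplicit false
universe u
open CategoryTheory CategoryTheory.Limits MonoidalCategory CartesianMonoidalCategory MonObj GrpObj AlgebraicGeometry
open FGA

set_option backward.isDefEq.respectTransparency false
set_option linter.style.haveILetI false

noncomputable section

open GrothLib

open CategoryTheory CategoryTheory.Limits AlgebraicGeometry MonoidalCategory CartesianMonoidalCategory MonObj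

open GrothLib.Neutral in
/-- Universal openness along the neutral components makes every open meet them over all generizations. -/
theorem image_inter_neutralSet_mem_nhds {S : Scheme.{u}} [IsLocallyNoetherian S] (G : Over S) [GrpObj G]
    [LocallyOfFiniteType G.hom]
    (hopen : ∀ (S' : Scheme.{u}) (g : S' ⟶ S) (x' : ↥(Red.bc g G).left), x' ∈ SGA3x.neutralSet (Red.bc g G) →
      ∀ U : Set ↥(Red.bc g G).left, IsOpen U → x' ∈ U →
        (Red.bc g G).hom.base '' U ∈ nhds ((Red.bc g G).hom.base x'))
    {S' : Scheme.{u}} (g : S' ⟶ S) {x' : ↥(Red.bc g G).left} (hx' : x' ∈ SGA3x.neutralSet (Red.bc g G))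
    {U : Set ↥(Red.bc g G).left} (hU : IsOpen U) (hxU : x' ∈ U) :
    (Red.bc g G).hom.base '' (U ∩ SGA3x.neutralSet (Red.bc g G)) ∈ nhds ((Red.bc g G).hom.base x') := by
  haveI : LocallyOfFinitePresentation G.hom :=
    GrothLib.LocProp.locallyOfFinitePresentation_of_isLocallyNoetherian _
  have hU0 : ∀ x ∈ SGA3x.neutralSet G, EGA43.IsUnivOpenAt G.hom x := by
    intro x hx Y' h y hy N hN
    obtain ⟨O, hON, hO, hyO⟩ := mem_nhds_iff.1 hN
    have hyn : y ∈ SGA3x.neutralSet (Red.bc h G) := by
      rw [neutralSet_bc]
      show pullback.fst G.hom h y ∈ SGA3x.neutralSet G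
      exact (show pullback.fst G.hom h y = x from hy) ▸ hx
    exact Filter.mem_of_superset (hopen Y' h y hyn O hO hyO) (Set.image_mono hON)
  have hd : ∀ {t s : S}, t ⤳ s → fibDim G t = fibDim G s := fun h =>
    fibDim_eq_of_univOpen G h ⊤ trivial fun x hx _ => hU0 x hx.1
  let G' := Red.bc g G
  haveI : LocallyOfFinitePresentation G'.hom :=
    inferInstanceAs (LocallyOfFinitePresentation (pullback.snd G.hom g))
  rw [mem_nhds_iff]
  refine ⟨interior (G'.hom '' (U ∩ SGA3x.neutralSet G')), interior_subset, isOpen_interior, ?_⟩
  refine (GrothLib.Constr.mem_interior_iff (GrothLib.Constr.isIndConstructible_image _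
    (GrothLib.Constr.isIndConstructible_inter (GrothLib.Constr.isIndConstructible_of_isOpen hU)
      (isIndConstructible_neutralSet G')))).2 fun t ht => ?_
  obtain ⟨p, hpU, hpn, hpt⟩ := exists_neutral_over_generization G' hx' ht
    (by rw [fibDim_bc, fibDim_bc]; exact hd (ht.map g.continuous)) ⟨U, hU⟩ hxU
  exact ⟨p, ⟨hpU, hpn⟩, hpt⟩

namespace Groth.Agent.S5697

/-- Let S be a locally Noetherian scheme and G a commutative group scheme locally of finite type over S.
Assume that the union of the connected components of the identity of the fibres of G is closed in G,
and that G ⟶ S is universally open at the points of that union: for every base change S' ⟶ S, the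
structure map of G' = G ×_S S' is open at every point of the identity-component set of G' (the image
of every open neighbourhood is a neighbourhood). Then the prime-to-p torsion component set (points x
some n-th power of which, n ≥ 1 prime to the residue characteristic exponent, lies in the
identity-component set) is universally open over S at the points of the identity-component set, in
the same sense: for every base change S' ⟶ S, every point x' of the identity-component set of G' and
every open neighbourhood U of x', the image in S' of the intersection of U with the prime-to-p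
torsion component set of G' is a neighbourhood of the image of x'. (The published statement
concludes this at every point of the prime-to-p torsion component set; it fails for the closed
subgroup scheme of the constant group ℤ/2 over a discrete valuation ring of residue characteristic
different from 2 that keeps the non-identity element only over the closed point: there the
identity-component set is a copy of the base, all hypotheses hold, and the isolated non-identity
point over the closed point is 2-torsion with image the closed point alone. The published proof
treats neighbourhoods of points of the identity-component set, so the conclusion is stated at those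
points here.) -/
theorem result (S : Scheme.{u}) [IsLocallyNoetherian S]
    (G : Over S) [GrpObj G] [IsCommMonObj G] [LocallyOfFiniteType G.hom] (h0 : IsClosed (SGA3x.neutralSet G))
    (hopen : ∀ (S' : Scheme.{u}) (g : S' ⟶ S) (x' : ↥(Red.bc g G).left), x' ∈ SGA3x.neutralSet (Red.bc g G) →
      ∀ U : Set ↥(Red.bc g G).left, IsOpen U → x' ∈ U →
        (Red.bc g G).hom.base '' U ∈ nhds ((Red.bc g G).hom.base x'))
    (S' : Scheme.{u}) (g : S' ⟶ S) (x' : ↥(Red.bc g G).left)
    (hx' : x' ∈ SGA3x.neutralSet (Red.bc g G))
    (U : Set ↥(Red.bc g G).left) (hU : IsOpen U) (hxU : x' ∈ U) :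
    (Red.bc g G).hom.base '' (U ∩ {x : ↥(Red.bc g G).left | ∃ n : ℕ, 0 < n ∧ Nat.Coprime n (ringExpChar (S'.residueField ((Red.bc g G).hom.base x))) ∧
        ((𝟙 (Red.bc g G) : (Red.bc g G) ⟶ (Red.bc g G)) ^ n).left.base x ∈ SGA3x.neutralSet (Red.bc g G)}) ∈
      nhds ((Red.bc g G).hom.base x') := by
  refine Filter.mem_of_superset (image_inter_neutralSet_mem_nhds G hopen g hx' hU hxU) (Set.image_mono ?_)
  intro x hx
  exact ⟨hx.1, 1, one_pos, Nat.coprime_one_left _, by rw [pow_one]; exact hx.2⟩

end Groth.Agent.S5697
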