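import Groth.Statements.S5699
import Groth.Agent.Lib.BddFam20.Quotients

set_option autoImplicit false
set_option maxHeartbeats 1000000
set_option linter.style.haveILetI false
set_option backward.isDefEq.respectTransparency.types false
universe u
open CategoryTheory CategoryTheory.Limits AlgebraicGeometry
open FGA

namespace Groth.Agent.S5699

/-- Let k be an algebraically closed field, P projective n-space over k, E a coherent module on P and Φ
a finite set of functions from ℤ to ℤ. Then the coherent quotient modules F of E whose Hilbert
function r ↦ χ(P, F(r)) (alternating sum of the dimensions of the cohomology groups in degrees at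
most n) lies in Φ form a bounded family: there are a k-scheme T of finite type and a coherent module
on P ×_k T such that every such F is isomorphic to its fibre at some k-point of T. Stated over an
algebraically closed field; the published statement is the relative version over a Noetherian base
for classes of sheaves on the fibres, which this special case does not cover. -/
theorem result (k : Type u) [Field k] [IsAlgClosed k] (n : ℕ)
    (E : (CohB1.ProjSpace n k).Modules) (hE : Coh.IsCoh E) (Φ : Set (ℤ → ℤ)) (hΦ : Φ.Finite) :
    Pic13.IsBounded k (CohB1.ProjSpace n k) (fun F =>
      Coh.IsCoh F ∧ (∃ p : E ⟶ F, Epi p) ∧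
        (fun r : ℤ => FGA.eulerCharLE k (CohB1.ProjSpace n k)
          (CohB1.tensorMod F (Twist.twistProjSpace n k r)) n) ∈ Φ) := by
  haveI : Infinite k := IsAlgClosed.instInfinite
  exact GrothLib.BddFam20.isBounded_quotients hE Φ hΦ

end Groth.Agent.S5699
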