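import Groth.Statements.S5700
-- import your own Groth.Agent.* helpers here
import Groth.Agent.Lib.FpqcPic26.Pic

set_option autoImplicit false
universe u
open CategoryTheory CategoryTheory.Limits AlgebraicGeometry
open FGA

set_option backward.isDefEq.respectTransparency false
set_option linter.style.haveILetI false

noncomputable section

open GrothLib

namespace Groth.Agent.S5700

/-- Let f : X ⟶ S be quasi-compact and separated, with the induced maps from sections of the structure
sheaf of S to sections of the structure sheaf of X bijective over every open of S, and admitting a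
section σ; let g : S' ⟶ S be flat, surjective and quasi-compact, X' = X ×_S S', S'' = S' ×_S S' and
X'' = X ×_S S'' with its two projections to X'. If L' is an invertible module on X' whose pullbacks
along the two projections X'' ⟶ X' become isomorphic after tensoring the second with the pullback of
some invertible module on S'', then there are an invertible module L on X and an invertible module
N' on S' with L' isomorphic to the tensor product of the pullback of L and the pullback of N'.
(Exactness of Pic(X)/Pic(S) → Pic(X')/Pic(S') ⇉ Pic(X'')/Pic(S'').) (The published statement asks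
for sections of f only locally on S and is phrased with relative Picard classes, the global sections
of the Zariski sheaf on S associated with U ↦ Pic(X_U); this row assumes a global section, in which
case those classes are classes of invertible modules on X modulo those pulled back from S, and the
local-section form follows from it by restricting to the opens of S over which a section exists.) -/
theorem result {X S S' : Scheme.{u}} (f : X ⟶ S)
    [QuasiCompact f] [IsSeparated f] (hf : ∀ U : S.Opens, Function.Bijective (f.app U))
    (σ : S ⟶ X) (hσ : σ ≫ f = 𝟙 S)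
    (g : S' ⟶ S) [Flat g] [Surjective g] [QuasiCompact g]
    (L' : (pullback f g).Modules) (hL' : PicF.IsInvertible L')
    (hcomp : ∃ N'' : (pullback g g).Modules, PicF.IsInvertible N'' ∧
      Nonempty ((Scheme.Modules.pullback (pullback.map f (pullback.fst g g ≫ g) f g (𝟙 X) (pullback.fst g g) (𝟙 S)
          ((Category.comp_id f).trans (Category.id_comp f).symm) (Category.comp_id _))).obj L' ≅
        CohB1.tensorMod ((Scheme.Modules.pullback (pullback.map f (pullback.fst g g ≫ g) f g (𝟙 X) (pullback.snd g g) (𝟙 S)
          ((Category.comp_id f).trans (Category.id_comp f).symm) ((Category.comp_id _).trans pullback.condition))).obj L')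
          ((Scheme.Modules.pullback (pullback.snd f (pullback.fst g g ≫ g))).obj N''))) :
    ∃ (L : X.Modules) (N' : S'.Modules), PicF.IsInvertible L ∧ PicF.IsInvertible N' ∧
      Nonempty (L' ≅ CohB1.tensorMod ((Scheme.Modules.pullback (pullback.fst f g)).obj L)
        ((Scheme.Modules.pullback (pullback.snd f g)).obj N')) := by
  obtain ⟨N'', hN'', ⟨e⟩⟩ := hcomp
  have h₁ : pullback.map f (pullback.fst g g ≫ g) f g (𝟙 X) (pullback.fst g g) (𝟙 S)
      ((Category.comp_id f).trans (Category.id_comp f).symm) (Category.comp_id _) = GrothLib.PicDescent.q₁ f g := by
    apply pullback.hom_ext <;> simp [GrothLib.PicDescent.q₁]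
  have h₂ : pullback.map f (pullback.fst g g ≫ g) f g (𝟙 X) (pullback.snd g g) (𝟙 S)
      ((Category.comp_id f).trans (Category.id_comp f).symm) ((Category.comp_id _).trans pullback.condition) =
        GrothLib.PicDescent.q₂ f g := by
    apply pullback.hom_ext <;> simp [GrothLib.PicDescent.q₂]
  have h := (GrothLib.Cube.clsMod_eq_iff (GrothLib.Ample.isInvertible_pullback _ hL')
    (GrothLib.Ample.isInvertible_tensorMod (GrothLib.Ample.isInvertible_pullback _ hL')
      (GrothLib.Ample.isInvertible_pullback _ hN''))).2 ⟨e⟩
  rw [GrothLib.Cube.clsMod_tensorMod (GrothLib.Ample.isInvertible_pullback _ hL')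
    (GrothLib.Ample.isInvertible_pullback _ hN''), GrothLib.Cube.clsMod_pullback _ hL',
    GrothLib.Cube.clsMod_pullback _ hL', GrothLib.Cube.clsMod_pullback _ hN'', h₁, h₂] at h
  obtain ⟨n, e', hx⟩ := GrothLib.FpqcPic26.exists_descend_mod_base f σ hσ hf g _ _ h
  obtain ⟨L, hL, rfl⟩ := GrothLib.RigDesc26.exists_module n
  obtain ⟨N', hN', rfl⟩ := GrothLib.RigDesc26.exists_module e'
  refine ⟨L, N', hL, hN', (GrothLib.Cube.clsMod_eq_iff hL'
    (GrothLib.Ample.isInvertible_tensorMod (GrothLib.Ample.isInvertible_pullback _ hL)
      (GrothLib.Ample.isInvertible_pullback _ hN'))).1 ?_⟩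
  rw [GrothLib.Cube.clsMod_tensorMod (GrothLib.Ample.isInvertible_pullback _ hL)
    (GrothLib.Ample.isInvertible_pullback _ hN'), GrothLib.Cube.clsMod_pullback _ hL, GrothLib.Cube.clsMod_pullback _ hN']
  exact hx

end Groth.Agent.S5700
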