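import Groth.Statements.S5701
import Mathlib

set_option autoImplicit false
set_option linter.all false
set_option backward.isDefEq.respectTransparency false
universe u v
open TensorProduct
open Dix

namespace Groth.Agent.S5701

open Polynomial

section Aux

/-- In a semisimple ring `a R a = 0` forces `a = 0`. -/
theorem semiprime_of_semisimple {R : Type*} [Ring R] [IsSemisimpleRing R] (a : R)
    (h : ∀ r, a * r * a = 0) : a = 0 := by
  obtain ⟨e, he, hspan⟩ := IsSemisimpleRing.ideal_eq_span_idempotent (Ideal.span ({a} : Set R))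
  obtain ⟨s, hs⟩ := Ideal.mem_span_singleton'.mp (show a ∈ Ideal.span ({e} : Set R) from
    hspan ▸ Ideal.subset_span rfl)
  obtain ⟨r, hr⟩ := Ideal.mem_span_singleton'.mp (show e ∈ Ideal.span ({a} : Set R) from
    hspan ▸ Ideal.subset_span rfl)
  have h1 : a * e = a := by rw [← hs, mul_assoc, he.eq]
  calc a = a * e := h1.symm
    _ = a * r * a := by rw [← hr, mul_assoc]
    _ = 0 := h r

variable {k : Type*} [Field k] {A : Type*} [Ring A] [Algebra k A]
variable (K : Type*) [Field K] [Algebra k K]

/-- The coordinate in `A` along a `k`-basis of `K`. -/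
noncomputable def coordA {ι : Type*} (b : Module.Basis ι k K) (i : ι) : K ⊗[k] A →ₗ[k] A :=
  (TensorProduct.lid k A).toLinearMap ∘ₗ (b.coord i).rTensor A

theorem coordA_tmul {ι : Type*} (b : Module.Basis ι k K) (i : ι) (c : K) (a : A) :
    coordA K b i (c ⊗ₜ a) = b.coord i c • a := by
  simp [coordA]

theorem coordA_mul_tmul {ι : Type*} (b : Module.Basis ι k K) (i : ι) (x : K ⊗[k] A) (l : A) :
    coordA K b i (x * ((1 : K) ⊗ₜ l)) = coordA K b i x * l := by
  induction x using TensorProduct.induction_on with
  | zero => simp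
  | tmul c a => simp [coordA_tmul, Algebra.TensorProduct.tmul_mul_tmul]
  | add x y hx hy => simp [add_mul, hx, hy]

theorem coordA_tmul_mul {ι : Type*} (b : Module.Basis ι k K) (i : ι) (x : K ⊗[k] A) (l : A) :
    coordA K b i (((1 : K) ⊗ₜ l) * x) = l * coordA K b i x := by
  induction x using TensorProduct.induction_on with
  | zero => simp
  | tmul c a => simp [coordA_tmul, Algebra.TensorProduct.tmul_mul_tmul]
  | add x y hx hy => simp [mul_add, hx, hy]

/-- What commutes with `1 ⊗ L` is spanned by `1 ⊗` the centralizer. -/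
theorem mem_span_of_commute (L : Set A) (x : K ⊗[k] A)
    (hx : ∀ l ∈ L, Commute ((1 : K) ⊗ₜ[k] l) x) :
    x ∈ Submodule.span K ((fun a => (1 : K) ⊗ₜ[k] a) '' (Subalgebra.centralizer k L : Set A)) := by
  classical
  let b := Module.Basis.ofVectorSpace k K
  have hc : ∀ i, coordA K b i x ∈ Subalgebra.centralizer k L := by
    intro i
    rw [Subalgebra.mem_centralizer_iff]
    intro l hl
    rw [← coordA_tmul_mul, ← coordA_mul_tmul, (hx l hl).eq]
  have hx' : x = (TensorProduct.equivFinsuppOfBasisLeft b x).sum fun i n => b i ⊗ₜ n := by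
    conv_lhs => rw [← (TensorProduct.equivFinsuppOfBasisLeft b).symm_apply_apply x]
    rw [TensorProduct.equivFinsuppOfBasisLeft_symm_apply]
  rw [hx', Finsupp.sum]
  refine Submodule.sum_mem _ fun i _ => ?_
  have : b i ⊗ₜ[k] (TensorProduct.equivFinsuppOfBasisLeft b x i) =
      b i • ((1 : K) ⊗ₜ[k] coordA K b i x) := by
    rw [TensorProduct.equivFinsuppOfBasisLeft_apply, TensorProduct.smul_tmul', smul_eq_mul, mul_one]
    rfl
  rw [this]
  exact Submodule.smul_mem _ _ (Submodule.subset_span ⟨_, hc i, rfl⟩)

theorem one_tmul_injective :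
    Function.Injective (fun a : A => (1 : K) ⊗ₜ[k] a) :=
  Algebra.TensorProduct.includeRight_injective (algebraMap k K).injective

/-- The minimal polynomial does not change under extension of scalars. -/
theorem map_minpoly_dvd [FiniteDimensional k A] (x : A) (q : K[X])
    (hq : aeval ((1 : K) ⊗ₜ[k] x : K ⊗[k] A) q = 0) :
    (minpoly k x).map (algebraMap k K) ∣ q := by
  classical
  have hf : (minpoly k x).Monic := minpoly.monic (IsIntegral.of_finite k x)
  set fK := (minpoly k x).map (algebraMap k K) with hfK
  have hfKm : fK.Monic := hf.map _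
  have h0 : aeval ((1 : K) ⊗ₜ[k] x : K ⊗[k] A) fK = 0 := by
    rw [hfK, Polynomial.aeval_map_algebraMap]
    have := Polynomial.aeval_algHom_apply
      (Algebra.TensorProduct.includeRight : A →ₐ[k] K ⊗[k] A) x (minpoly k x)
    rw [Algebra.TensorProduct.includeRight_apply] at this
    rw [this, minpoly.aeval, map_zero]
  rw [← Polynomial.modByMonic_eq_zero_iff_dvd hfKm]
  set r := q %ₘ fK with hr
  have hr0 : aeval ((1 : K) ⊗ₜ[k] x : K ⊗[k] A) r = 0 := by
    have := congrArg (aeval ((1 : K) ⊗ₜ[k] x : K ⊗[k] A)) (Polynomial.modByMonic_add_div q fK)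
    rw [map_add, map_mul, h0, zero_mul, add_zero, hq] at this
    exact this
  by_cases hA : fK = 1
  · rw [hr, hA, Polynomial.modByMonic_one]
  have hdeg : r.natDegree < (minpoly k x).natDegree := by
    have := Polynomial.natDegree_modByMonic_lt q hfKm hA
    rwa [hfK, Polynomial.natDegree_map] at this
  let b := Module.Basis.ofVectorSpace k K
  ext j
  rw [Polynomial.coeff_zero]
  by_cases hj : j < (minpoly k x).natDegree
  swap
  · exact Polynomial.coeff_eq_zero_of_natDegree_lt (by omega)
  apply b.repr.injective
  rw [map_zero]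
  ext i
  set ri : k[X] := ∑ m ∈ Finset.range (minpoly k x).natDegree,
    Polynomial.monomial m (b.coord i (r.coeff m)) with hri
  have hev : aeval x ri = 0 := by
    rw [hri, map_sum]
    have h2 := congrArg (coordA K b i) hr0
    rw [map_zero, Polynomial.aeval_eq_sum_range' hdeg, map_sum] at h2
    refine Eq.trans (Finset.sum_congr rfl fun m _ => ?_) h2
    rw [Polynomial.aeval_monomial, Algebra.TensorProduct.tmul_pow, one_pow,
      TensorProduct.smul_tmul', smul_eq_mul, mul_one, coordA_tmul, Algebra.smul_def]
  have hri0 : ri = 0 := by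
    by_contra hne
    have h1 := Polynomial.natDegree_le_natDegree (minpoly.min k x (p := ri * Polynomial.C ri.leadingCoeff⁻¹) ?_ ?_)
    rotate_left
    · exact Polynomial.monic_mul_leadingCoeff_inv hne
    · rw [map_mul, hev, zero_mul]
    rw [Polynomial.natDegree_mul_C (inv_ne_zero (Polynomial.leadingCoeff_ne_zero.mpr hne))] at h1
    have h2 : ri.natDegree < (minpoly k x).natDegree := by
      by_contra hle
      push_neg at hle
      have : ∀ N, (minpoly k x).natDegree ≤ N → ri.coeff N = 0 := fun N hN => by
        rw [hri, Polynomial.finset_sum_coeff]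
        refine Finset.sum_eq_zero fun m hm => ?_
        rw [Polynomial.coeff_monomial, if_neg]
        rw [Finset.mem_range] at hm
        intro h; omega
      exact Polynomial.leadingCoeff_ne_zero.mpr hne (this _ hle)
    omega
  have := congrArg (fun p => Polynomial.coeff p j) hri0
  simp only [hri, Polynomial.finset_sum_coeff, Polynomial.coeff_monomial, Finset.sum_ite_eq',
    Finset.mem_range, if_pos hj, Polynomial.coeff_zero] at this
  simpa using this

variable [IsAlgClosed K]

/-- Left multiplication. -/
noncomputable def lm : K ⊗[k] A →ₐ[K] Module.End K (K ⊗[k] A) := Algebra.lmul K (K ⊗[k] A)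

theorem lm_injective : Function.Injective (lm (k := k) (A := A) K) := fun a b h => by
  simpa [lm] using LinearMap.congr_fun h 1

theorem lm_isSemisimple_of_separable [FiniteDimensional k A] (x : A) (hx : IsSeparable k x) :
    (lm K ((1 : K) ⊗ₜ[k] x)).IsSemisimple := by
  have hp : ((minpoly k x).map (algebraMap k K)).Separable := Polynomial.Separable.map hx
  refine Module.End.isSemisimple_of_squarefree_aeval_eq_zero hp.squarefree ?_
  rw [Polynomial.aeval_algHom_apply, Polynomial.aeval_map_algebraMap]
  have := Polynomial.aeval_algHom_apply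
    (Algebra.TensorProduct.includeRight : A →ₐ[k] K ⊗[k] A) x (minpoly k x)
  rw [Algebra.TensorProduct.includeRight_apply] at this
  rw [this, minpoly.aeval, map_zero, map_zero]

/-- Elements of the algebra generated by commuting separable elements act semisimply. -/
theorem lm_isSemisimple_of_mem_adjoin [FiniteDimensional k A] (S : Set A)
    (hc : ∀ x ∈ S, ∀ y ∈ S, x * y = y * x) (hs : ∀ x ∈ S, IsSeparable k x) {z : K ⊗[k] A}
    (hz : z ∈ Algebra.adjoin K ((fun a => (1 : K) ⊗ₜ[k] a) '' S)) :
    (lm K z).IsSemisimple := by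
  have hcomm : ∀ u ∈ Algebra.adjoin K ((fun a => (1 : K) ⊗ₜ[k] a) '' S),
      ∀ v ∈ Algebra.adjoin K ((fun a => (1 : K) ⊗ₜ[k] a) '' S), Commute u v := by
    intro u hu v hv
    refine Algebra.commute_of_mem_adjoin_of_forall_mem_commute hv fun w hw => ?_
    refine (Algebra.commute_of_mem_adjoin_of_forall_mem_commute hu fun w' hw' => ?_).symm
    obtain ⟨a, ha, rfl⟩ := hw
    obtain ⟨a', ha', rfl⟩ := hw'
    simp only [Commute, SemiconjBy, Algebra.TensorProduct.tmul_mul_tmul, mul_one, hc a ha a' ha']
  induction hz using Algebra.adjoin_induction with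
  | mem z hz =>
    obtain ⟨a, ha, rfl⟩ := hz
    exact lm_isSemisimple_of_separable K a (hs a ha)
  | algebraMap r =>
    refine Module.End.isSemisimple_of_squarefree_aeval_eq_zero
      (Polynomial.separable_X_sub_C (x := r)).squarefree ?_
    rw [AlgHom.commutes, Polynomial.aeval_algebraMap_apply]
    simp
  | add u v hu hv h1 h2 =>
    rw [map_add]
    exact Module.End.IsSemisimple.add_of_commute ((hcomm u hu v hv).map (lm K)) h1 h2
  | mul u v hu hv h1 h2 =>
    rw [map_mul]
    exact Module.End.IsSemisimple.mul_of_commute ((hcomm u hu v hv).map (lm K)) h1 h2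

theorem isSeparable_of_lm_isSemisimple [FiniteDimensional k A] (x : A)
    (h : (lm K ((1 : K) ⊗ₜ[k] x)).IsSemisimple) : IsSeparable k x := by
  have h1 := h.minpoly_squarefree
  rw [minpoly.algHom_eq _ (lm_injective K)] at h1
  have h2 := map_minpoly_dvd K x (minpoly K ((1 : K) ⊗ₜ[k] x : K ⊗[k] A)) (minpoly.aeval K _)
  have h3 : Squarefree ((minpoly k x).map (algebraMap k K)) := h1.squarefree_of_dvd h2
  exact Polynomial.separable_map (algebraMap k K) |>.mp (PerfectField.separable_iff_squarefree.mpr h3)

theorem isSeparable_adjoin [FiniteDimensional k A] (K : Type*) [Field K] [Algebra k K]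
    [IsAlgClosed K] (S : Set A)
    (hc : ∀ x ∈ S, ∀ y ∈ S, x * y = y * x) (hs : ∀ x ∈ S, IsSeparable k x) {y : A}
    (hy : y ∈ Algebra.adjoin k S) : IsSeparable k y := by
  refine isSeparable_of_lm_isSemisimple K y (lm_isSemisimple_of_mem_adjoin K S hc hs ?_)
  have : (Algebra.adjoin k S) ≤ ((Algebra.adjoin K ((fun a => (1 : K) ⊗ₜ[k] a) '' S)).restrictScalars k).comap
      (Algebra.TensorProduct.includeRight : A →ₐ[k] K ⊗[k] A) :=
    Algebra.adjoin_le fun a ha => Algebra.subset_adjoin ⟨a, ha, rfl⟩
  exact this hy

end Aux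

section Centralizer

variable {k : Type*} [Field k] {A : Type*} [Ring A] [Algebra k A] [FiniteDimensional k A]
variable (K : Type*) [Field K] [Algebra k K] [IsAlgClosed K]
variable (L : Subalgebra k A)

local notation "ι" => fun a => (1 : K) ⊗ₜ[k] a
local notation "CC" => Subalgebra.centralizer k (L : Set A)

/-- An element of the extended centralizer killed from both sides by all others is zero. -/
theorem eq_zero_of_sandwich (hss : IsSemisimpleRing (K ⊗[k] A))
    (hc : ∀ x ∈ L, ∀ y ∈ L, x * y = y * x) (hs : ∀ x ∈ L, IsSeparable k x)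
    (a : K ⊗[k] A) (ha : ∀ l ∈ L, Commute ((1 : K) ⊗ₜ[k] l) a)
    (h : ∀ x : K ⊗[k] A, (∀ l ∈ L, Commute ((1 : K) ⊗ₜ[k] l) x) → a * x * a = 0) : a = 0 := by
  classical
  set P := Algebra.adjoin K ((fun a => (1 : K) ⊗ₜ[k] a) '' (L : Set A)) with hP
  have hcomm : ∀ u ∈ P, ∀ v ∈ P, u * v = v * u := by
    intro u hu v hv
    refine Algebra.commute_of_mem_adjoin_of_forall_mem_commute hv fun w hw => ?_
    refine (Algebra.commute_of_mem_adjoin_of_forall_mem_commute hu fun w' hw' => ?_).symm
    obtain ⟨b, hb, rfl⟩ := hw
    obtain ⟨b', hb', rfl⟩ := hw'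
    simp only [Commute, SemiconjBy, Algebra.TensorProduct.tmul_mul_tmul, mul_one, hc b hb b' hb']
  let _ : CommRing P :=
    { (inferInstance : Ring P) with mul_comm := fun u v => Subtype.ext (hcomm _ u.2 _ v.2) }
  have hred : IsReduced P := ⟨fun z hz => by
    have h1 : IsNilpotent (lm K (z : K ⊗[k] A)) := (hz.map P.val).map (lm K)
    have := Module.End.eq_zero_of_isNilpotent_isSemisimple h1
      (lm_isSemisimple_of_mem_adjoin K _ hc hs z.2)
    exact Subtype.ext (lm_injective K (this.trans (map_zero _).symm))⟩
  have : IsArtinianRing P := IsArtinianRing.of_finite K P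
  let Φ := IsArtinianRing.equivPi P
  have hscal : ∀ (I : MaximalSpectrum P) (p : P), ∃ c : K,
      Ideal.Quotient.mk I.asIdeal (algebraMap K P c) = Ideal.Quotient.mk I.asIdeal p := by
    intro I p
    have := I.isMaximal
    let _ := Ideal.Quotient.field I.asIdeal
    obtain ⟨c, hc⟩ := (IsAlgClosed.algebraMap_bijective_of_isIntegral (k := K) (K := P ⧸ I.asIdeal)).2
      (Ideal.Quotient.mk I.asIdeal p)
    exact ⟨c, hc⟩
  have : Fintype (MaximalSpectrum P) := Fintype.ofFinite _
  let e : MaximalSpectrum P → P := fun I => Φ.symm (Pi.single I 1)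
  have hesum : ∑ I, e I = 1 := by
    apply Φ.injective
    rw [map_sum, map_one]
    simp only [e, AlgEquiv.apply_symm_apply]
    exact Finset.univ_sum_single (1 : ∀ I : MaximalSpectrum P, P ⧸ I.asIdeal)
  have hemul : ∀ I (p : P), ∃ c : K, p * e I = algebraMap K P c * e I := by
    intro I p
    obtain ⟨c, hc⟩ := hscal I p
    refine ⟨c, Φ.injective ?_⟩
    funext J
    rw [map_mul, map_mul]
    simp only [e, AlgEquiv.apply_symm_apply, Pi.mul_apply]
    by_cases hJ : J = I
    · subst hJ
      simp only [Pi.single_eq_same, mul_one]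
      exact hc.symm
    · simp [Pi.single_eq_of_ne hJ]
  have hae : ∀ p : P, Commute a (p : K ⊗[k] A) := fun p =>
    Algebra.commute_of_mem_adjoin_of_forall_mem_commute p.2 fun b hb => by
      obtain ⟨l, hl, rfl⟩ := hb
      exact (ha l hl).symm
  have key : ∀ I, a * (e I : K ⊗[k] A) = 0 := by
    intro I
    refine semiprime_of_semisimple (R := K ⊗[k] A) _ fun r => ?_
    have hx : ∀ l ∈ L, Commute ((1 : K) ⊗ₜ[k] l) ((e I : K ⊗[k] A) * r * e I) := by
      intro l hl
      have hlP : ((1 : K) ⊗ₜ[k] l) ∈ P := Algebra.subset_adjoin ⟨l, hl, rfl⟩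
      obtain ⟨c, hc⟩ := hemul I ⟨_, hlP⟩
      have hc1 : ((1 : K) ⊗ₜ[k] l) * (e I : K ⊗[k] A) =
          algebraMap K (K ⊗[k] A) c * (e I : K ⊗[k] A) := congrArg Subtype.val hc
      have hc2 : (e I : K ⊗[k] A) * ((1 : K) ⊗ₜ[k] l) =
          (e I : K ⊗[k] A) * algebraMap K (K ⊗[k] A) c := by
        rw [← Algebra.commutes, ← hc1]
        exact hcomm _ (e I).2 _ hlP
      show _ = _
      calc ((1 : K) ⊗ₜ[k] l) * ((e I : K ⊗[k] A) * r * e I)
          = algebraMap K (K ⊗[k] A) c * ((e I : K ⊗[k] A) * r * e I) := by
            rw [← mul_assoc, ← mul_assoc, hc1]; simp only [mul_assoc]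
        _ = ((e I : K ⊗[k] A) * r * e I) * algebraMap K (K ⊗[k] A) c := Algebra.commutes _ _
        _ = ((e I : K ⊗[k] A) * r * e I) * ((1 : K) ⊗ₜ[k] l) := by
            rw [mul_assoc _ _ (algebraMap K (K ⊗[k] A) c), ← hc2, ← mul_assoc]
    calc a * (e I : K ⊗[k] A) * r * (a * e I)
        = a * ((e I : K ⊗[k] A) * r * e I) * a := by
          rw [(hae (e I)).eq]; simp only [mul_assoc]
          rw [← (hae (e I)).eq]; simp only [← mul_assoc]; rw [← (hae (e I)).eq]
      _ = 0 := h _ hx
  calc a = a * ((∑ I, e I : P) : K ⊗[k] A) := by rw [hesum]; simp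
    _ = 0 := by
      rw [AddSubmonoidClass.coe_finset_sum, Finset.mul_sum]
      exact Finset.sum_eq_zero fun I _ => key I

/-- The centralizer of a separable commutative subalgebra is semiprime. -/
theorem centralizer_semiprime (hss : IsSemisimpleRing (K ⊗[k] A))
    (hc : ∀ x ∈ L, ∀ y ∈ L, x * y = y * x) (hs : ∀ x ∈ L, IsSeparable k x)
    (a : A) (ha : a ∈ Subalgebra.centralizer k (L : Set A))
    (h : ∀ c ∈ Subalgebra.centralizer k (L : Set A), a * c * a = 0) : a = 0 := by
  have ha' : ∀ l ∈ L, Commute ((1 : K) ⊗ₜ[k] l) ((1 : K) ⊗ₜ[k] a) := fun l hl => by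
    simp only [Commute, SemiconjBy, Algebra.TensorProduct.tmul_mul_tmul, mul_one,
      Subalgebra.mem_centralizer_iff k |>.mp ha l hl]
  apply one_tmul_injective (k := k) (A := A) K
  simp only [TensorProduct.tmul_zero]
  refine eq_zero_of_sandwich K L hss hc hs _ ha' fun x hx => ?_
  have := mem_span_of_commute K (L : Set A) x hx
  clear hx
  induction this using Submodule.span_induction with
  | mem x hx =>
    obtain ⟨c, hc', rfl⟩ := hx
    simp [Algebra.TensorProduct.tmul_mul_tmul, h c hc']
  | zero => simp
  | add u v _ _ hu hv => simp [mul_add, add_mul, hu, hv]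
  | smul r u _ hu => rw [mul_smul_comm, smul_mul_assoc, hu, smul_zero]

/-- Central elements of the centralizer are separable. -/
theorem isSeparable_of_central (hss : IsSemisimpleRing (K ⊗[k] A))
    (hc : ∀ x ∈ L, ∀ y ∈ L, x * y = y * x) (hs : ∀ x ∈ L, IsSeparable k x)
    (z : A) (hz : z ∈ Subalgebra.centralizer k (L : Set A))
    (hz' : ∀ c ∈ Subalgebra.centralizer k (L : Set A), c * z = z * c) : IsSeparable k z := by
  set fK := (minpoly k z).map (algebraMap k K) with hfK
  have h0 : aeval ((1 : K) ⊗ₜ[k] z : K ⊗[k] A) fK = 0 := by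
    rw [hfK, Polynomial.aeval_map_algebraMap]
    have := Polynomial.aeval_algHom_apply
      (Algebra.TensorProduct.includeRight : A →ₐ[k] K ⊗[k] A) z (minpoly k z)
    rw [Algebra.TensorProduct.includeRight_apply] at this
    rw [this, minpoly.aeval, map_zero]
  have hfne : fK ≠ 0 := Polynomial.map_ne_zero (minpoly.ne_zero (IsIntegral.of_finite k z))
  refine (Polynomial.separable_map (algebraMap k K)).mp
    (PerfectField.separable_iff_squarefree.mpr ?_)
  intro x hx
  obtain ⟨y, hy⟩ : x * x ∣ fK := hx
  -- `w = x y` evaluates to a square-zero element of the centre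
  set w := aeval ((1 : K) ⊗ₜ[k] z : K ⊗[k] A) (x * y) with hw
  have hw2 : w * w = 0 := by
    rw [hw, ← map_mul]
    have : x * y * (x * y) = fK * y := by rw [hy]; ring
    rw [this, map_mul, h0, zero_mul]
  have hwadj : w ∈ Algebra.adjoin K {((1 : K) ⊗ₜ[k] z : K ⊗[k] A)} :=
    Polynomial.aeval_mem_adjoin_singleton _ _
  have hwc : ∀ c : K ⊗[k] A, (∀ l ∈ L, Commute ((1 : K) ⊗ₜ[k] l) c) → Commute c w := by
    intro c hcl
    refine Algebra.commute_of_mem_adjoin_singleton_of_commute hwadj ?_
    have := mem_span_of_commute K (L : Set A) c hcl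
    clear hcl
    induction this using Submodule.span_induction with
    | mem u hu =>
      obtain ⟨b, hb, rfl⟩ := hu
      simp only [Commute, SemiconjBy, Algebra.TensorProduct.tmul_mul_tmul, mul_one, hz' b hb]
    | zero => exact Commute.zero_left _
    | add u v _ _ hu hv => exact hu.add_left hv
    | smul r u _ hu => exact hu.smul_left r
  have hwL : ∀ l ∈ L, Commute ((1 : K) ⊗ₜ[k] l) w := fun l hl => by
    refine Algebra.commute_of_mem_adjoin_singleton_of_commute hwadj ?_
    simp only [Commute, SemiconjBy, Algebra.TensorProduct.tmul_mul_tmul, mul_one,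
      Subalgebra.mem_centralizer_iff k |>.mp hz l hl]
  have hw0 : w = 0 := by
    refine eq_zero_of_sandwich K L hss hc hs w hwL fun c hcl => ?_
    rw [mul_assoc, (hwc c hcl).eq, ← mul_assoc, hw2, zero_mul]
  have hdvd : fK ∣ x * y := map_minpoly_dvd K z _ hw0
  obtain ⟨t, ht⟩ := hdvd
  have hxy : x * y ≠ 0 := by
    intro h
    exact hfne (by rw [hy, mul_assoc, h, mul_zero])
  refine IsUnit.of_mul_eq_one t ?_
  have : (x * y) * (x * t) = (x * y) * 1 := by
    calc (x * y) * (x * t) = fK * t := by rw [hy]; ring
      _ = (x * y) * 1 := by rw [← ht, mul_one]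
  exact mul_left_cancel₀ hxy this

theorem isSemisimpleRing_centralizer (hss : IsSemisimpleRing (K ⊗[k] A))
    (hc : ∀ x ∈ L, ∀ y ∈ L, x * y = y * x) (hs : ∀ x ∈ L, IsSeparable k x) :
    IsSemisimpleRing (Subalgebra.centralizer k (L : Set A)) := by
  set C := Subalgebra.centralizer k (L : Set A)
  have : IsArtinianRing C := IsArtinianRing.of_finite k C
  rw [IsArtinianRing.isSemisimpleRing_iff_jacobson]
  set J := Ring.jacobson C with hJ
  obtain ⟨n, hn⟩ : IsNilpotent J := IsSemiprimaryRing.isNilpotent
  by_contra hJ0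
  have hex : ∃ m, J ^ (m + 1) = ⊥ := ⟨n, by
    rw [Ideal.IsTwoSided.pow_succ, hn]; simp⟩
  classical
  have hm := Nat.find_spec hex
  set m := Nat.find hex with hm'
  rcases Nat.eq_zero_or_pos m with h0 | h0
  · rw [h0, zero_add, Submodule.pow_one] at hm
    exact hJ0 hm
  · have hne : J ^ m ≠ ⊥ := by
      have := Nat.find_min hex (show m - 1 < m by omega)
      rwa [Nat.sub_add_cancel h0] at this
    obtain ⟨a, ha, hane⟩ := Submodule.exists_mem_ne_zero_of_ne_bot hne
    apply hane
    apply Subtype.ext
    refine centralizer_semiprime K L hss hc hs a.1 a.2 fun c hc' => ?_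
    have h1 : a * ⟨c, hc'⟩ * a ∈ J ^ (m + 1) := by
      rw [Ideal.IsTwoSided.pow_succ]
      have haJ : a ∈ J := Ideal.pow_le_self (by omega) ha
      rw [mul_assoc]
      exact Ideal.mul_mem_mul haJ (Ideal.mul_mem_left _ _ ha)
    rw [hm, Submodule.mem_bot] at h1
    exact congrArg Subtype.val h1

end Centralizer

/-- `1 × 1` matrices. -/
noncomputable def matrixOneEquiv (k : Type*) [CommSemiring k] (D : Type*) [Semiring D] [Algebra k D]
    (n : ℕ) (hn : n = 1) : Matrix (Fin n) (Fin n) D ≃ₐ[k] D where
  toFun M := M ⟨0, by omega⟩ ⟨0, by omega⟩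
  invFun y := fun _ _ => y
  left_inv M := by subst hn; funext a b; fin_cases a; fin_cases b; rfl
  right_inv y := rfl
  map_mul' M N := by subst hn; simp [Matrix.mul_apply]
  map_add' M N := rfl
  commutes' c := by subst hn; simp [Matrix.algebraMap_matrix_apply]

set_option maxHeartbeats 2000000 in
/-- A semisimple algebra, all of whose separable elements are central and whose centre consists of
separable elements, is commutative. -/
theorem comm_of_separable_central {k : Type u} [Field k] {C : Type v} [Ring C] [Algebra k C]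
    [FiniteDimensional k C] [IsSemisimpleRing C]
    (hsc : ∀ x : C, IsSeparable k x → ∀ c, c * x = x * c)
    (hcs : ∀ z : C, (∀ c, c * z = z * c) → IsSeparable k z) : ∀ a b : C, a * b = b * a := by
  classical
  obtain ⟨n, D, d, _, _, _, hd, ⟨e⟩⟩ := IsSemisimpleRing.exists_algEquiv_pi_matrix_divisionRing_finite k C
  have hidem : ∀ x : C, x * x = x → ∀ c, c * x = x * c := by
    intro x hx
    refine hsc x (Polynomial.Separable.of_dvd ?_ (minpoly.dvd k x (p := Polynomial.X * (Polynomial.X - Polynomial.C 1)) ?_))
    · refine Polynomial.Separable.mul Polynomial.separable_X Polynomial.separable_X_sub_C ?_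
      exact ⟨1, -1, by simp⟩
    · simp [mul_sub, hx]
  have hd1 : ∀ i, d i = 1 := by
    intro i
    by_contra hne
    have := (hd i).out
    have h2 : 1 < d i := by omega
    let i0 : Fin (d i) := ⟨0, by omega⟩
    let i1 : Fin (d i) := ⟨1, h2⟩
    let E : C := e.symm (Pi.single i (Matrix.single i0 i0 1))
    have hE : E * E = E := by
      apply e.injective
      simp [E, ← Pi.single_mul]
    have h3 := congrArg (fun x => e x i) (hidem E hE (e.symm (Pi.single i (Matrix.single i0 i1 1))))
    simp [E] at h3
    have h4 := congrFun (congrFun h3 i0) i1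
    have h01 : i0 ≠ i1 := by simp [i0, i1, Fin.ext_iff]
    simp [Matrix.mul_apply, Matrix.single, h01, h01.symm] at h4
  have hcomm : ∀ i, ∀ a b : D i, a * b = b * a := by
    intro i
    let ev : Matrix (Fin (d i)) (Fin (d i)) (D i) ≃ₐ[k] D i := matrixOneEquiv k (D i) _ (hd1 i)
    let ψ : C →ₐ[k] D i := (ev.toAlgHom.comp (Pi.evalAlgHom k _ i)).comp e.toAlgHom
    let s : D i → C := fun y => e.symm (Pi.single i (ev.symm y))
    have hψs : ∀ y, ψ (s y) = y := fun y => by simp [ψ, s]
    -- central elements of `D i` are separable over `k`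
    have hZ : ∀ z : D i, z ∈ Subalgebra.center k (D i) → IsSeparable k z := by
      intro z hz
      have hsz : IsSeparable k (s z) := hcs _ fun c => by
        apply e.injective
        funext j
        by_cases hj : j = i
        · subst hj
          simp only [s, map_mul, AlgEquiv.apply_symm_apply, Pi.mul_apply, Pi.single_eq_same]
          apply ev.injective
          simp only [map_mul, AlgEquiv.apply_symm_apply]
          exact (Subalgebra.mem_center_iff.mp hz _)
        · simp [s, Pi.single_eq_of_ne hj]
      refine Polynomial.Separable.of_dvd hsz (minpoly.dvd k z ?_)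
      have := Polynomial.aeval_algHom_apply ψ (s z) (minpoly k (s z))
      rw [hψs] at this
      rw [this, minpoly.aeval, map_zero]
    by_contra hnc
    push_neg at hnc
    have hne : Subring.center (D i) ≠ ⊤ := by
      intro h
      obtain ⟨a, b, hab⟩ := hnc
      exact hab (Subring.mem_center_iff.mp (h ▸ Subring.mem_top b) a)
    let Z : Subalgebra k (D i) := Subalgebra.center k (D i)
    let _ : Algebra k (Subring.center (D i)) :=
      ((algebraMap k (D i)).codRestrict (Subring.center (D i))
        (fun r => Subring.mem_center_iff.mpr fun g => (Algebra.commutes r g).symm)).toAlgebra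
    have : IsScalarTower k (Subring.center (D i)) (D i) := IsScalarTower.of_algebraMap_eq fun _ => rfl
    have : Algebra.IsAlgebraic (Subring.center (D i)) (D i) := .tower_top (K := k) _
    obtain ⟨y, hy, hysep⟩ := JacobsonNoether.exists_separable_and_not_isCentral (D i) hne
    have hZsep : Algebra.IsSeparable k (Subring.center (D i)) := ⟨fun z => by
      have := hZ z.1 (Subring.mem_center_iff.mp z.2 |> Subalgebra.mem_center_iff.mpr)
      rw [IsSeparable] at this ⊢
      rwa [← minpoly.algHom_eq (IsScalarTower.toAlgHom k (Subring.center (D i)) (D i))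
        Subtype.val_injective]⟩
    set F := Algebra.adjoin (Subring.center (D i)) ({y} : Set (D i)) with hF
    let _ : CommRing F :=
      { (inferInstance : Ring F) with
        mul_comm := fun u v => Subtype.ext
          (Algebra.commute_of_mem_adjoin_singleton_of_commute v.2
            (Algebra.commute_of_mem_adjoin_self u.2).symm) }
    have : FiniteDimensional k F :=
      FiniteDimensional.of_injective ((F.restrictScalars k).val.toLinearMap) Subtype.val_injective
    let _ : Field F := fieldOfFiniteDimensional k F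
    have hy' : IsSeparable (Subring.center (D i)) (⟨y, Algebra.self_mem_adjoin_singleton _ y⟩ : F) := by
      rw [IsSeparable] at hysep ⊢
      rwa [← minpoly.algHom_eq F.val Subtype.val_injective]
    have hyk : IsSeparable k y := by
      have := IsSeparable.of_algebra_isSeparable_of_isSeparable k hy'
      rw [IsSeparable] at this ⊢
      rwa [← minpoly.algHom_eq ((F.val).restrictScalars k) Subtype.val_injective] at this
    -- transport to `C`
    have hsy : IsSeparable k (s y) := by
      have hy0 : y ≠ 0 := fun h => hy (h ▸ zero_mem _)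
      have hint : IsIntegral k y := hyk.isIntegral
      refine Polynomial.Separable.of_dvd (Polynomial.Separable.mul hyk Polynomial.separable_X ?_)
        (minpoly.dvd k _ (p := minpoly k y * X) ?_)
      · refine ((minpoly.irreducible hint).coprime_iff_not_dvd).mpr fun hdvd => ?_
        have := (minpoly.irreducible hint).dvd_symm Polynomial.irreducible_X hdvd
        rw [Polynomial.X_dvd_iff] at this
        exact minpoly.coeff_zero_ne_zero hint hy0 this
      · apply e.injective
        rw [map_zero, ← Polynomial.aeval_algHom_apply]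
        funext j
        change (Pi.evalAlgHom k (fun i => Matrix (Fin (d i)) (Fin (d i)) (D i)) j)
          (Polynomial.aeval (e (s y)) (minpoly k y * Polynomial.X)) = 0
        rw [← Polynomial.aeval_algHom_apply]
        by_cases hj : j = i
        · subst hj
          apply ev.injective
          rw [map_zero, ← Polynomial.aeval_algHom_apply]
          simp [s, minpoly.aeval]
        · simp [s, Pi.single_eq_of_ne hj]
    have h5 := hsc _ hsy
    apply hy
    rw [Subring.mem_center_iff]
    intro g
    have := congrArg ψ (h5 (s g))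
    rwa [map_mul, map_mul, hψs, hψs] at this
  intro a b
  apply e.injective
  funext i
  simp only [map_mul, Pi.mul_apply]
  apply (matrixOneEquiv k (D i) _ (hd1 i)).injective
  simp only [map_mul]
  exact hcomm i _ _

theorem centralizer_eq_of_maximal {k : Type u} [Field k] {A : Type v} [Ring A] [Algebra k A]
    [FiniteDimensional k A] (hss : IsSemisimpleRing (AlgebraicClosure k ⊗[k] A))
    (L : Subalgebra k A) (hc : ∀ x ∈ L, ∀ y ∈ L, x * y = y * x) (hs : Algebra.IsSeparable k L)
    (hmax : ∀ L' : Subalgebra k A, (∀ x ∈ L', ∀ y ∈ L', x * y = y * x) →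
      Algebra.IsSeparable k L' → L ≤ L' → L' = L) :
    Subalgebra.centralizer k (L : Set A) = L := by
  have hs' : ∀ x ∈ L, IsSeparable k x := fun x hx => by
    have := Algebra.IsSeparable.isSeparable k (⟨x, hx⟩ : L)
    rw [IsSeparable] at this ⊢
    rwa [← minpoly.algHom_eq L.val Subtype.val_injective] at this
  set C := Subalgebra.centralizer k (L : Set A) with hC
  have hmem : ∀ x ∈ C, IsSeparable k x → x ∈ L := by
    intro x hx hxs
    set L' := Algebra.adjoin k (insert x (L : Set A)) with hL'
    have hcS : ∀ a ∈ insert x (L : Set A), ∀ b ∈ insert x (L : Set A), a * b = b * a := by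
      rintro a (rfl | ha) b (rfl | hb)
      · rfl
      · exact (Subalgebra.mem_centralizer_iff k |>.mp hx b hb).symm
      · exact Subalgebra.mem_centralizer_iff k |>.mp hx a ha
      · exact hc a ha b hb
    have hsS : ∀ a ∈ insert x (L : Set A), IsSeparable k a := by
      rintro a (rfl | ha)
      · exact hxs
      · exact hs' a ha
    have hL : L' = L := by
      refine hmax L' (fun a ha b hb => ?_) ⟨fun a => ?_⟩ fun a ha => Algebra.subset_adjoin (Or.inr ha)
      · refine Algebra.commute_of_mem_adjoin_of_forall_mem_commute hb fun c hc' => ?_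
        exact (Algebra.commute_of_mem_adjoin_of_forall_mem_commute ha fun c' hc'' =>
          hcS c hc' c' hc'').symm
      · have := isSeparable_adjoin (AlgebraicClosure k) _ hcS hsS a.2
        rw [IsSeparable] at this ⊢
        rwa [← minpoly.algHom_eq L'.val Subtype.val_injective]
    exact hL ▸ Algebra.subset_adjoin (Or.inl rfl)
  have : IsSemisimpleRing C := isSemisimpleRing_centralizer (AlgebraicClosure k) L hss hc hs'
  have hsep : ∀ x : C, IsSeparable k x ↔ IsSeparable k (x : A) := fun x => by
    rw [IsSeparable, IsSeparable, ← minpoly.algHom_eq C.val Subtype.val_injective]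
    rfl
  have hCc := comm_of_separable_central (C := C) (k := k)
    (fun x hx c => Subtype.ext ((Subalgebra.mem_centralizer_iff k |>.mp c.2 x.1
      (hmem _ x.2 ((hsep x).mp hx))).symm))
    (fun z hz => (hsep z).mpr (isSeparable_of_central (AlgebraicClosure k) L hss hc hs' z.1 z.2
      fun c hc' => congrArg Subtype.val (hz ⟨c, hc'⟩)))
  refine le_antisymm (fun x hx => hmem x hx ?_) fun x hx => ?_
  · exact isSeparable_of_central (AlgebraicClosure k) L hss hc hs' x hx
      fun c hc' => congrArg Subtype.val (hCc ⟨c, hc'⟩ ⟨x, hx⟩)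
  · rw [hC, Subalgebra.mem_centralizer_iff]
    exact fun l hl => hc l hl x hx




/-- Let k be a field and A a finite-dimensional k-algebra which is absolutely semisimple (its base
change to an algebraic closure of k is a semisimple ring). For a subalgebra L of A, call L étale
when it is commutative and all its elements are separable over k. Then L is étale and equal to its
own centralizer in A if and only if L is a maximal étale subalgebra of A. -/
theorem result (k : Type u) [Field k] (A : Type v) [Ring A] [Algebra k A] [FiniteDimensional k A] (hss : IsSemisimpleRing (AlgebraicClosure k ⊗[k] A)) (L : Subalgebra k A) : ((∀ x ∈ L, ∀ y ∈ L, x * y = y * x) ∧ Algebra.IsSeparable k L ∧ Subalgebra.centralizer k (L : Set A) = L) ↔ ((∀ x ∈ L, ∀ y ∈ L, x * y = y * x) ∧ Algebra.IsSeparable k L ∧ ∀ L' : Subalgebra k A, (∀ x ∈ L', ∀ y ∈ L', x * y = y * x) → Algebra.IsSeparable k L' → L ≤ L' → L' = L) := by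
  constructor
  · rintro ⟨hc, hs, hC⟩
    refine ⟨hc, hs, fun L' hc' _ hle => le_antisymm (fun x hx => ?_) hle⟩
    rw [← hC, Subalgebra.mem_centralizer_iff]
    exact fun l hl => hc' l (hle hl) x hx
  · rintro ⟨hc, hs, hmax⟩
    exact ⟨hc, hs, centralizer_eq_of_maximal hss L hc hs hmax⟩

end Groth.Agent.S5701
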