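import Groth.Statements.S5705
import Groth.Agent.Lib.AzMod.Skolem

set_option autoImplicit false
universe u v
open TensorProduct
open Dix

namespace Groth.Agent.S5705

open GrothLib in

/-- Over a local base, where the Zariski-local conclusion becomes global. Let R be a local ring and A an
Azumaya algebra over R. Then every R-algebra automorphism u of A is inner, u(x) = a x a⁻¹ for some
unit a of A, and the unit a is determined up to multiplication by a unit of R. -/
theorem result (R : Type u) [CommRing R] [IsLocalRing R] (A : Type v) [Ring A] [Algebra R A] [IsAzumaya R A] (u : A ≃ₐ[R] A) : (∃ a : Aˣ, ∀ x : A, u x = (a : A) * x * (a⁻¹ : Aˣ)) ∧ (∀ a a' : Aˣ, (∀ x : A, u x = (a : A) * x * (a⁻¹ : Aˣ)) → (∀ x : A, u x = (a' : A) * x * (a'⁻¹ : Aˣ)) → ∃ c : Rˣ, (a' : A) = algebraMap R A (c : R) * (a : A)) := by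
  refine ⟨AzMod.exists_unit_conj u, fun a a' ha ha' => ?_⟩
  have hc : ∀ x : A, x * ((a⁻¹ : Aˣ) * (a' : A)) = (a⁻¹ : Aˣ) * (a' : A) * x := by
    intro x
    have h := (ha x).symm.trans (ha' x)
    calc x * ((a⁻¹ : Aˣ) * (a' : A)) = (a⁻¹ : Aˣ) * ((a : A) * x * (a⁻¹ : Aˣ)) * a' := by
            simp [← mul_assoc]
      _ = _ := by rw [h]; simp [mul_assoc]
  have hc' : ∀ x : A, x * ((a'⁻¹ : Aˣ) * (a : A)) = (a'⁻¹ : Aˣ) * (a : A) * x := by
    intro x
    have h := (ha' x).symm.trans (ha x)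
    calc x * ((a'⁻¹ : Aˣ) * (a : A)) = (a'⁻¹ : Aˣ) * ((a' : A) * x * (a'⁻¹ : Aˣ)) * a := by
            simp [← mul_assoc]
      _ = _ := by rw [h]; simp [mul_assoc]
  obtain ⟨c, hcc⟩ := AzMod.exists_eq_algebraMap_of_forall_commute (R := R) hc
  obtain ⟨d, hdd⟩ := AzMod.exists_eq_algebraMap_of_forall_commute (R := R) hc'
  have hcd : c * d = 1 := AzMod.algebraMap_injective (A := A) (by
    rw [map_mul, map_one, ← hcc, ← hdd]; simp [mul_assoc])
  refine ⟨⟨c, d, hcd, (mul_comm d c).trans hcd⟩, ?_⟩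
  show (a' : A) = algebraMap R A c * a
  rw [Algebra.commutes, ← hcc, ← mul_assoc, Units.mul_inv, one_mul]

end Groth.Agent.S5705
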