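import Groth.Statements.S5708
import Groth.Agent.Lib.GalCd.BrCurve

set_option autoImplicit false
universe u
open CategoryTheory AlgebraicGeometry
open Dix

namespace Groth.Agent.S5708

/-- Let k be an algebraically closed field and X a reduced scheme of finite type over k of dimension at
most 1 (an algebraic curve). Then H²(X_et, G_m) = 0. (The published statement is the vanishing of
the Brauer group of Azumaya algebras, which embeds in H²(X_et, G_m); this row states the vanishing
of H²(X_et, G_m) and assumes X reduced.) -/
theorem result (k : Type u) [Field k] [IsAlgClosed k] (X : Scheme.{u}) (f : X ⟶ Spec (CommRingCat.of k)) [LocallyOfFiniteType f] [QuasiCompact f] [IsReduced X] (hdim : topologicalKrullDim X ≤ 1) : Subsingleton (Dix.BrCoh X) := by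
  haveI : CompactSpace X := QuasiCompact.compactSpace_of_compactSpace f
  haveI : IsLocallyNoetherian X := LocallyOfFiniteType.isLocallyNoetherian f
  haveI : AlgebraicGeometry.IsNoetherian X := {}
  have hsep : ∀ x : X, IsClosed ({x} : Set X) → IsSepClosed (X.residueField x) := fun x hx =>
    GrothLib.GalCd.isSepClosed_residueField_of_closed f x hx
  have h2 : ∀ x : GrothLib.GalCd.MaxPts X,
      Subsingleton (EtCoh.H (Spec (X.residueField x.1)) (EtCoh.Gm (Spec (X.residueField x.1))) 2) := fun x =>
    letI : Algebra k (X.residueField x.1) := (Spec.preimage (X.fromSpecResidueField x.1 ≫ f)).hom.toAlgebra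
    GrothLib.GalCd.subsingleton_H2Gm_of_trdeg_le_one k (X.residueField x.1)
      (GrothLib.GalCd.trdeg_residueField_le f hdim x.1)
  exact ⟨fun a b => (GrothLib.GalCd.H2Gm_eq_zero_of_max hdim hsep h2 a).trans
    (GrothLib.GalCd.H2Gm_eq_zero_of_max hdim hsep h2 b).symm⟩

end Groth.Agent.S5708
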