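import Groth.Statements.S5710
import Groth.Agent.Lib.AzMod.Regular

set_option autoImplicit false
universe u v
open TensorProduct
open Dix

namespace Groth.Agent.S5710

open scoped TensorProduct
open GrothLib Polynomial

/-- Over a local base where the open neighbourhood is the whole scheme. Let R be a local ring with
residue field k and A an Azumaya algebra over R whose rank as a (free) R-module is r². Then A has a
maximal étale subalgebra: there are a commutative R-algebra E, finite étale and free of rank r over
R, and an R-algebra homomorphism u : E → A which is injective on the special fibre, k ⊗_R E → k ⊗_R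
A. -/
theorem result (R : Type u) [CommRing R] [IsLocalRing R] (A : Type u) [Ring A] [Algebra R A] [IsAzumaya R A] (r : ℕ) (hA : Module.finrank R A = r ^ 2) : ∃ (E : Type u) (_ : CommRing E) (_ : Algebra R E), Algebra.Etale R E ∧ Module.Finite R E ∧ Module.Free R E ∧ Module.finrank R E = r ∧ ∃ u : E →ₐ[R] A, Function.Injective (u.toLinearMap.lTensor (IsLocalRing.ResidueField R)) := by
  let κ := IsLocalRing.ResidueField R
  have := Azu.isAzumaya_baseChange R κ A
  have : Module.Free R A := Module.free_of_flat_of_isLocalRing
  obtain ⟨_, _, _⟩ := CSAExtra.csa_of_isAzumaya κ (κ ⊗[R] A)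
  obtain ⟨x, hs, hd⟩ := AzMod.exists_regular_element (k := κ) (κ ⊗[R] A) r (by rw [Module.finrank_baseChange, hA])
  obtain ⟨ξ, rfl⟩ := TensorProduct.mk_surjective R A κ IsLocalRing.residue_surjective x
  obtain ⟨⟨l, hl⟩, f, hm, hdf, hf, hu⟩ := AzMod.exists_equation r hA ξ hs hd
  let pb := AdjoinRoot.powerBasis' hm
  have : Module.Free R (AdjoinRoot f) := Module.Free.of_basis pb.basis
  have : Module.Finite R (AdjoinRoot f) := pb.finite
  have : Algebra.FormallyUnramified R (AdjoinRoot f) :=
    AzMod.formallyUnramified_of_generator (AdjoinRoot.root f) f AdjoinRoot.adjoinRoot_eq_top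
      (by rw [AdjoinRoot.aeval_eq, AdjoinRoot.mk_self]) hu
  refine ⟨AdjoinRoot f, inferInstance, inferInstance, Algebra.Etale.of_formallyUnramified_of_flat,
    inferInstance, inferInstance, by rw [pb.finrank, AdjoinRoot.powerBasis'_dim, hdf],
    AzMod.rootHom f ξ hf, ?_⟩
  let b : Module.Basis (Fin r) R (AdjoinRoot f) := pb.basis.reindex (finCongr ((AdjoinRoot.powerBasis'_dim hm).trans hdf))
  have hcomp : (AzMod.rootHom f ξ hf).toLinearMap =
      Fintype.linearCombination R (fun i : Fin r => ξ ^ (i : ℕ)) ∘ₗ b.equivFun.toLinearMap := b.ext fun i => by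
    show AzMod.rootHom f ξ hf (b i) = Fintype.linearCombination R _ (b.equivFun (b i))
    rw [show b.equivFun (b i) = fun j => if i = j then (1 : R) else 0 from funext fun j => b.equivFun_self i j,
      show b i = AdjoinRoot.root f ^ (i : ℕ) by simp [b, pb]]
    simp [Fintype.linearCombination_apply, AzMod.rootHom_root]
  rw [hcomp, LinearMap.lTensor_comp, LinearMap.coe_comp]
  exact ((IsLocalRing.split_injective_iff_lTensor_residueField_injective _).1 ⟨l, hl⟩).comp
    (b.equivFun.lTensor κ).injective

end Groth.Agent.S5710
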