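import Groth.Statements.S5721
import Groth.Agent.Lib.RelProjK.Amp

set_option autoImplicit false
universe u
open CategoryTheory CategoryTheory.Limits AlgebraicGeometry TopologicalSpace Opposite
open scoped HomogeneousIdeal
open EGA2

namespace Groth.Agent.S5721

/-- Let f : X → Y be a quasi-compact morphism and L an invertible O_X-module. If L is very ample
relative to f (there are a quasi-coherent O_Y-module E and a Y-immersion i : X → P(E) into its
projective bundle with L isomorphic to i^*O_{P(E)}(1)), then L is ample relative to f. -/
theorem result {X Y : Scheme.{u}} (f : X ⟶ Y) [QuasiCompact f] (L : X.Modules)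
    (hL : PicF.IsInvertible L) (h : RelProj.IsRelVeryAmple f L) : RelAmple.IsRelAmple f L := by
  exact GrothLib.RelProjK.isRelAmple_of_isRelVeryAmple f L h

end Groth.Agent.S5721
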