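import Groth.Statements.S5723
import Groth.Agent.Lib.RelProjK.Amp

set_option autoImplicit false
universe u
open CategoryTheory CategoryTheory.Limits AlgebraicGeometry TopologicalSpace Opposite
open scoped HomogeneousIdeal
open EGA2

namespace Groth.Agent.S5723

/-- Let Y be a quasi-compact scheme, f : X → Y a morphism of finite type and L an invertible O_X-module.
If for some n > 0 the tensor power L^{⊗n} is very ample relative to f (isomorphic to i^*O_{P(E)}(1)
for a Y-immersion i into the projective bundle of a quasi-coherent O_Y-module E), then L is ample
relative to f. (The converse, that f-ampleness makes all large tensor powers very ample, is the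
other half of the published equivalence and is not stated here.) -/
theorem result {X Y : Scheme.{u}} [CompactSpace Y] (f : X ⟶ Y) [QuasiCompact f]
    [LocallyOfFiniteType f] (L : X.Modules) (hL : PicF.IsInvertible L) (n : ℕ) (hn : 0 < n)
    (h : RelProj.IsRelVeryAmple f (CohB1.tensorPow L n)) : RelAmple.IsRelAmple f L := by
  exact GrothLib.RelProjK.isRelAmple_of_tensorPow f hL hn (GrothLib.RelProjK.isRelAmple_of_isRelVeryAmple f _ h)

end Groth.Agent.S5723
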