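import Groth.Statements.S5724
import Groth.Agent.Lib.RelProjK.Local

set_option autoImplicit false
universe u
open CategoryTheory CategoryTheory.Limits AlgebraicGeometry TopologicalSpace Opposite
open scoped HomogeneousIdeal
open EGA2

namespace Groth.Agent.S5724

/-- Let Y be a quasi-compact scheme and 𝒮 a quasi-coherent graded O_Y-algebra of finite type (over every
affine open U of Y the ring 𝒮(U) is an algebra of finite type over the functions on U, through the
structure map), and let f : X → Y be its relative homogeneous spectrum Proj(𝒮), given with its
charts over affine opens. Then there is an integer d > 0 such that the twisting sheaf O_X(d) — any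
O_X-module given with chart identifications exhibiting it as O_X(d) — is invertible and ample
relative to f. (The published statement also records that f is of finite type; that assertion holds
for the relative homogeneous spectrum of any finite-type quasi-coherent graded algebra and is not
repeated in this row.) -/
theorem result {Y X : Scheme.{u}} [CompactSpace Y] (𝒮 : RelProj.QCGrAlg Y)
    (hft : ∀ (U : Y.Opens) (hU : IsAffineOpen U), (𝒮.str.app (op U)).hom.FiniteType)
    (f : X ⟶ Y)
    (chart : ∀ (U : Y.Opens) (hU : IsAffineOpen U), ((f ⁻¹ᵁ U : X.Opens) : Scheme.{u}) ≅ Proj (𝒮.deg U hU))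
    (hX : RelProj.IsRelProj 𝒮 f chart) :
    ∃ d : ℕ, 0 < d ∧ ∀ (L : X.Modules)
      (lam : ∀ (U : Y.Opens) (hU : IsAffineOpen U),
        L ⟶ (Scheme.Modules.pushforward (RelProj.emb f chart U hU)).obj (GrTwist.twist (𝒮.deg U hU) (d : ℤ))),
      RelProj.IsRelTwist 𝒮 f chart (d : ℤ) L lam → PicF.IsInvertible L ∧ RelAmple.IsRelAmple f L := by
  exact GrothLib.RelProjK.exists_isRelAmple_period 𝒮 hft f chart

end Groth.Agent.S5724
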