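import Groth.Statements.S5727
import Groth.Agent.Lib.CounitLim8.Basic
import Groth.Agent.Lib.RelProjK.Amp

set_option autoImplicit false
universe u
open CategoryTheory CategoryTheory.Limits AlgebraicGeometry TopologicalSpace Opposite
open scoped HomogeneousIdeal
open EGA2

namespace Groth.Agent.S5727

/-- Let Z be a scheme which is either quasi-compact and separated or has Noetherian underlying space, g
: Y → Z a quasi-compact morphism, K an invertible O_Y-module which is very ample relative to g, and
E a quasi-coherent O_Y-module of finite type. Then there is m₀ such that for every m ≥ m₀ there are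
a quasi-coherent O_Z-module F of finite type (depending on m) and an epimorphism g^*F → E ⊗ K^{⊗m}.
(The published statement says that E is isomorphic to a quotient of g^*F ⊗ K^{⊗(-m)}; for invertible
K this is the same as E ⊗ K^{⊗m} being a quotient of g^*F, the form used here, which avoids negative
tensor powers.) -/
theorem result {Y Z : Scheme.{u}}
    (hZ : (CompactSpace Z ∧ Z.IsSeparated) ∨ TopologicalSpace.NoetherianSpace Z) (g : Y ⟶ Z) [QuasiCompact g]
    (K : Y.Modules) (hK : PicF.IsInvertible K) (hKva : RelProj.IsRelVeryAmple g K)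
    (E : Y.Modules) (hE : Coh.IsQCoh E) (hEft : CohB1.IsFT E) :
    ∃ m₀ : ℕ, ∀ m : ℕ, m₀ ≤ m →
      ∃ (F : Z.Modules) (φ : (Scheme.Modules.pullback g).obj F ⟶ CohB1.tensorMod E (CohB1.tensorPow K m)),
        Coh.IsQCoh F ∧ CohB1.IsFT F ∧ Epi φ := by
  haveI : CompactSpace Z := hZ.elim (·.1) fun h => by haveI := h; infer_instance
  haveI : QuasiSeparatedSpace Z := hZ.elim (fun h => by haveI := h.2; infer_instance) fun h => by haveI := h; infer_instance
  have hL := GrothLib.RelProjK.isRelAmple_of_isRelVeryAmple g K hKva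
  haveI : QuasiSeparated g := GrothLib.RLpsi8.quasiSeparated_of_isRelAmple hL
  haveI : E.IsQuasicoherent := hE
  obtain ⟨ι, _, V, hV, -, hcov⟩ := GrothLib.QCoh.exists_finite_affine_cover (U := (⊤ : Z.Opens)) (by simpa using isCompact_univ)
  have hfin := GrothLib.ResProp22.finSec_of_isFT hEft
  choose n₀ hn₀ using fun i => GrothLib.ResProp22.eventually_ggen_restrict hK (g ⁻¹ᵁ V i) (hL.2 ⟨V i, hV i⟩) hfin
  obtain ⟨c, ⟨e⟩⟩ := GrothLib.Ample.exists_cocycle hK
  refine ⟨Finset.univ.sup n₀, fun m hm => ?_⟩
  haveI := c.isQuasicoherent_modTwist E m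
  obtain ⟨a⟩ := c.nonempty_tensor_modTwist E m
  obtain ⟨d⟩ := c.nonempty_tensorPow_iso e m
  let θ : CohB1.tensorMod E (CohB1.tensorPow K m) ≅ c.modTwist E m :=
    GrothLib.Ample.LineData.tensorModMapIso (Iso.refl _) d ≪≫ a
  obtain ⟨F, π, hF, hπ⟩ := GrothLib.CounitLim8.exists_fp_epi_pullback g (c.modTwist E m)
    (fun p => c.finite_modTwist E m hfin p) V hV hcov
    fun i => GrothLib.Ample.isGloballyGenerated_of_iso ((Scheme.Modules.restrictFunctor (g ⁻¹ᵁ V i).ι).mapIso θ)
      (hn₀ i m (le_trans (Finset.le_sup (Finset.mem_univ i)) hm))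
  haveI : F.IsQuasicoherent := GrothLib.FibPd.isQuasicoherent_of_isFP hF
  haveI := hπ
  exact ⟨F, π ≫ θ.inv, inferInstance, GrothLib.LimRank8.isFT_of_isFP F hF, epi_comp _ _⟩

end Groth.Agent.S5727
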