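import Groth.Statements.S5734
import Groth.Agent.Lib.ProjSum8.Basic

set_option autoImplicit false
universe u
open CategoryTheory CategoryTheory.Limits AlgebraicGeometry TopologicalSpace Opposite
open scoped HomogeneousIdeal
open EGA2

namespace Groth.Agent.S5734

/-- Let E and F be quasi-coherent O_Y-modules with graded symmetric algebras 𝒮E, 𝒮F and let 𝒮 be the
graded symmetric algebra of E ⊕ F; let πE : 𝒮 → 𝒮E and πF : 𝒮 → 𝒮F be the graded algebra
homomorphisms induced by the two projections of E ⊕ F (compatible with the structure maps from E ⊕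
F, E and F), the irrelevant ideal of the target being generated by the image of that of the source
over every affine open (so that the induced morphisms of homogeneous spectra are everywhere
defined). Let P(E ⊕ F), P(E), P(F) be the projective bundles with their charts and hE : P(E) → P(E ⊕
F), hF : P(F) → P(E ⊕ F) the morphisms chartwise induced by πE and πF. Then the morphism P(E) ⨿ P(F)
→ P(E ⊕ F) which restricts to hE and hF is a closed immersion: the disjoint union of P(E) and P(F)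
is a closed subscheme of P(E ⊕ F). -/
theorem result {Y PE PF P : Scheme.{u}} (E F : Y.Modules)
    (hE : Coh.IsQCoh E) (hF : Coh.IsQCoh F) (𝒮E 𝒮F 𝒮 : RelProj.QCGrAlg Y)
    (jE : E ⟶ 𝒮E.toModule) (hjE : RelProj.IsGrSymAlg E 𝒮E jE)
    (jF : F ⟶ 𝒮F.toModule) (hjF : RelProj.IsGrSymAlg F 𝒮F jF)
    (j : E ⊞ F ⟶ 𝒮.toModule) (hj : RelProj.IsGrSymAlg (E ⊞ F) 𝒮 j)
    (πE : 𝒮.toQCAlg ⟶ 𝒮E.toQCAlg) (hπE : RelProj.IsGradedHom πE)
    (hjπE : j ≫ RelSpec.QCAlg.Hom.toModuleMap πE = biprod.fst ≫ jE)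
    (πF : 𝒮.toQCAlg ⟶ 𝒮F.toQCAlg) (hπF : RelProj.IsGradedHom πF)
    (hjπF : j ≫ RelSpec.QCAlg.Hom.toModuleMap πF = biprod.snd ≫ jF)
    (hirrE : ∀ (U : Y.Opens) (hU : IsAffineOpen U),
      (𝒮E.deg U hU)₊ ≤ ((𝒮.deg U hU)₊).map (RelProj.gradedHomAt πE hπE U hU))
    (hirrF : ∀ (U : Y.Opens) (hU : IsAffineOpen U),
      (𝒮F.deg U hU)₊ ≤ ((𝒮.deg U hU)₊).map (RelProj.gradedHomAt πF hπF U hU))
    (p : P ⟶ Y) (pE : PE ⟶ Y) (pF : PF ⟶ Y)
    (chart : ∀ (U : Y.Opens) (hU : IsAffineOpen U), ((p ⁻¹ᵁ U : P.Opens) : Scheme.{u}) ≅ Proj (𝒮.deg U hU))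
    (chartE : ∀ (U : Y.Opens) (hU : IsAffineOpen U), ((pE ⁻¹ᵁ U : PE.Opens) : Scheme.{u}) ≅ Proj (𝒮E.deg U hU))
    (chartF : ∀ (U : Y.Opens) (hU : IsAffineOpen U), ((pF ⁻¹ᵁ U : PF.Opens) : Scheme.{u}) ≅ Proj (𝒮F.deg U hU))
    (hP : RelProj.IsRelProj 𝒮 p chart) (hPE : RelProj.IsRelProj 𝒮E pE chartE) (hPF : RelProj.IsRelProj 𝒮F pF chartF)
    (hE' : PE ⟶ P) (hhE : RelProj.IsRelProjMap πE hπE hirrE chart chartE hE')
    (hF' : PF ⟶ P) (hhF : RelProj.IsRelProjMap πF hπF hirrF chart chartF hF') :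
    IsClosedImmersion (coprod.desc hE' hF') := by
  exact GrothLib.ProjSum8.isClosedImmersion_desc hE hF hjE hjF hj hjπE hjπF hP hPE hPF hhE hhF

end Groth.Agent.S5734
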