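import Groth.Statements.S5736
import Groth.Agent.Lib.FSchSys.Levels
-- import your own Groth.Agent.* helpers here

set_option autoImplicit false
universe u
open FCompl

namespace Groth.Agent.S5736

open AlgebraicGeometry CategoryTheory in
/-- For formal schemes presented as adic systems of thickenings, in which a finite morphism is an adic
one whose smallest level is finite; the content is that every level is then finite. Let (Y_n) be a
locally Noetherian adic formal system and f : (X_n) → (Y_n) a morphism of systems all of whose
squares X_n → X_(n+1), Y_n → Y_(n+1) are cartesian. If X_0 → Y_0 is a finite morphism of schemes,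
then X_n → Y_n is finite for every n. -/
theorem result {𝔛 𝔜 : FSch.Sys.{u}} (f : 𝔛 ⟶ 𝔜)
    (h𝔜 : 𝔜.IsLocNoethFormal) (hf : FSch.IsAdicHom f) [IsFinite ((f : FSch.Hom 𝔛 𝔜).app 0)] (n : ℕ) :
    IsFinite ((f : FSch.Hom 𝔛 𝔜).app n) := by
  have := GrothLib.FSchSys.isClosedImmersion_toX h𝔜.1 n
  have := GrothLib.FSchSys.surjective_toX h𝔜.1 n
  exact GrothLib.FSchSys.isFinite_of_isPullback (GrothLib.FSchSys.isPullback_toX f hf n)
    (GrothLib.FSchSys.exists_ker_toX_ideal_pow h𝔜.1 h𝔜.2.1 n)

end Groth.Agent.S5736
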