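import Groth.Statements.S5739
import Groth.Agent.Lib.Near7.Completion

set_option autoImplicit false
universe u
open FCompl

namespace Groth.Agent.S5739

open AlgebraicGeometry CategoryTheory in
/-- Isomorphism case (completions presented by the closed subschemes of the powers of an ideal sheaf on
the base and of its inverse image ideals; the compatibility hypothesis hc always holds and is
carried as data for the completed morphism). Let Z be a locally Noetherian scheme, g : X → Z and h :
Y → Z proper morphisms, f : X → Y a morphism with f ≫ h = g, and 𝓙 an ideal sheaf on Z. Then every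
level of the completed morphism X̂ → Ŷ between the completions along the inverse image ideals of 𝓙
is an isomorphism if and only if there is an open subset U of Z containing the support of 𝓙 such
that the restriction g⁻¹(U) → h⁻¹(U) of f is an isomorphism. -/
theorem result {X Y Z : Scheme.{u}} [IsLocallyNoetherian Z]
    (g : X ⟶ Z) (h : Y ⟶ Z) [IsProper g] [IsProper h] (f : X ⟶ Y) (w : f ≫ h = g)
    (𝓙 : Z.IdealSheafData) (hc : FSch.PowCompat f (𝓙.comap g) (𝓙.comap h)) :
    (∀ n : ℕ, IsIso ((FSch.completionMap f (𝓙.comap g) (𝓙.comap h) hc : FSch.Hom _ _).app n)) ↔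
      ∃ U : Z.Opens, (𝓙.support : Set Z) ⊆ U ∧ IsIso (f ∣_ h ⁻¹ᵁ U) := by
  refine ⟨fun H => GrothLib.Near7.isIso_near g h f w 𝓙 hc H, fun ⟨U, hU, hiso⟩ n => ?_⟩
  exact GrothLib.Near7.level_of_near (MorphismProperty.isomorphisms Scheme.{u}) g h f w 𝓙 hc hU hiso n

end Groth.Agent.S5739
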