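import Groth.Statements.S5742
import Groth.Agent.Lib.FormalExist7.Levels

set_option autoImplicit false
universe u
open Coherent

namespace Groth.Agent.S5742

open AlgebraicGeometry CategoryTheory CategoryTheory.Limits in
/-- Let A be a Noetherian ring separated and complete for the I-adic topology, X proper over Spec A and
Y locally of finite type over Spec A; write X_n = X ×_A Spec(A/I^(n+1)). Two A-morphisms φ, ψ : X →
Y whose restrictions to X_n coincide for every n are equal. (The published statement takes Y
separated and of finite type over A, which the surjectivity half needs; injectivity uses neither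
separatedness nor quasi-compactness of Y. Together with the existence of an A-morphism inducing any
compatible system of morphisms X_n → Y_n, this is the bijectivity of f ↦ f̂ from A-morphisms X → Y
to morphisms of the completions.) -/
theorem result (A : Type u) [CommRing A] [IsNoetherianRing A]
    (I : Ideal A) [IsAdicComplete I A] {X Y : Scheme.{u}} (f : X ⟶ Spec (CommRingCat.of A))
    (h : Y ⟶ Spec (CommRingCat.of A)) [IsProper f] [LocallyOfFiniteType h] (φ ψ : X ⟶ Y)
    (hφ : φ ≫ h = f) (hψ : ψ ≫ h = f)
    (e : ∀ n : ℕ, CohB1.thickι f I n ≫ φ = CohB1.thickι f I n ≫ ψ) : φ = ψ := GrothLib.FormalExist7.eq_of_forall_thick I f h φ ψ hφ hψ e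

end Groth.Agent.S5742
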