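import Groth.Statements.S5744
import Groth.Agent.Lib.QCoh.Qcqs
import Groth.Agent.Lib.QCoh.Abelian

set_option autoImplicit false
universe u
open Coherent
open CategoryTheory.Limits

namespace Groth.Agent.S5744

open AlgebraicGeometry CategoryTheory in
/-- For the Čech complex of sheaves indexed by all ordered tuples with products as terms; over a finite
index type these terms are finite direct sums. Let X be a separated scheme, (U_i)_{i ∈ ι} a finite
family of affine opens covering X, and F a quasi-coherent O_X-module. Then for every p the degree-p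
term of the Čech complex of sheaves 𝔠(𝒰, F), the product over ordered (p+1)-tuples of the direct
images (j_{i_0…i_p})_*(F|_{U_{i_0…i_p}}), is a quasi-coherent O_X-module. -/
theorem result {X : Scheme.{u}} [X.IsSeparated] {ι : Type u}
    [Finite ι] (𝒰 : ι → X.Opens) (h𝒰 : ∀ i, IsAffineOpen (𝒰 i)) (hcov : ⨆ i, 𝒰 i = ⊤)
    (F : X.Modules) [Coh.IsQCoh F] (p : ℕ) :
    Coh.IsQCoh (((CechOX.cechSh 𝒰).obj F).X p) := by
  let J := Fin (p + 1) → ι
  have hq : ∀ a : J, ((CechOX.pushRestr (∏ᶜ (𝒰 ∘ a))).obj F).IsQuasicoherent := fun a ↦ by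
    have e : ∏ᶜ (𝒰 ∘ a) = ⨅ k, 𝒰 (a k) :=
      le_antisymm (le_iInf fun k ↦ (CategoryTheory.Limits.Pi.π (𝒰 ∘ a) k).le)
        (CategoryTheory.Limits.Pi.lift (f := 𝒰 ∘ a) fun k ↦ homOfLE (iInf_le (fun k ↦ 𝒰 (a k)) k)).le
    have hA : IsAffineOpen (∏ᶜ (𝒰 ∘ a)) := by rw [e]; exact IsAffineOpen.iInf fun k ↦ h𝒰 (a k)
    generalize (∏ᶜ (𝒰 ∘ a)) = W at hA ⊢
    have : IsAffine W.toScheme := hA
    have : F.IsQuasicoherent := ‹Coh.IsQCoh F›
    have : ((Scheme.Modules.restrictFunctor W.ι).obj F).IsQuasicoherent := inferInstance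
    exact GrothLib.QCoh.isQuasicoherent_pushforward W.ι ((Scheme.Modules.restrictFunctor W.ι).obj F)
  let g : J → X.Modules := fun a ↦ (CechOX.pushRestr (∏ᶜ (𝒰 ∘ a))).obj F
  have : HasFiniteBiproducts X.Modules := Abelian.hasFiniteBiproducts
  have := GrothLib.QCoh.isQuasicoherent_colimit (Discrete.functor g) (fun a ↦ hq a.as)
  exact GrothLib.QCoh.isQuasicoherent_of_iso (M := ∐ g)
    ((biproduct.isoCoproduct g).symm ≪≫ biproduct.isoProduct g)


end Groth.Agent.S5744
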