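import Groth.Statements.S5747
import Groth.Agent.Lib.GrNoeth9.RelTwist

set_option autoImplicit false
universe u
open CategoryTheory CategoryTheory.Limits AlgebraicGeometry Opposite TopologicalSpace
open scoped HomogeneousIdeal
noncomputable section
open Coherent

namespace Groth.Agent.S5747

/-- Let Y be a Noetherian scheme, 𝒮 a quasi-coherent positively graded O_Y-algebra of finite type
(generators of any positive degrees), p : X = Proj(𝒮) → Y its relative homogeneous spectrum with its
charts over the affine opens, and n any integer. Then the homogeneous component O_X(n), given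
through its chartwise identifications with the twisting modules O(n) on the Proj 𝒮(U), is a coherent
O_X-module (quasi-coherent of finite type; X is locally Noetherian). -/
theorem result {Y X : Scheme.{u}} [AlgebraicGeometry.IsNoetherian Y]
    (𝒮 : RelProj.QCGrAlg Y)
    (hft : ∀ (U : Y.Opens) (hU : IsAffineOpen U), (𝒮.str.app (op U)).hom.FiniteType)
    (p : X ⟶ Y)
    (chart : ∀ (U : Y.Opens) (hU : IsAffineOpen U), (((p ⁻¹ᵁ U : X.Opens) : Scheme.{u}) ≅ Proj (𝒮.deg U hU)))
    (hP : RelProj.IsRelProj 𝒮 p chart) (n : ℤ) (L : X.Modules)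
    (lam : ∀ (U : Y.Opens) (hU : IsAffineOpen U),
      L ⟶ (Scheme.Modules.pushforward (RelProj.emb p chart U hU)).obj (GrTwist.twist (𝒮.deg U hU) n))
    (hL : RelProj.IsRelTwist 𝒮 p chart n L lam) : Coh.IsCoh L := by
  exact GrothLib.GrNoeth9.isCoh_of_isRelTwist hft hL

end Groth.Agent.S5747
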