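import Groth.Statements.S5748
import Groth.Agent.Lib.GGPush9.Basic
import Groth.Agent.Lib.RelVanish.Counit
import Groth.Agent.Lib.NormAmple.Descent
import Groth.Agent.Lib.ProjAlg.Proper
import Groth.Agent.Lib.ProjFormula.Iso
import Groth.Agent.Lib.Cohom.Compare
import Groth.Agent.Lib.GrTilde.Mul
import Groth.Agent.Lib.Ample.Functorial
import Groth.Agent.Lib.Ample.CocPullback
import Groth.Agent.Lib.LocFreeHom.IsoNear

set_option autoImplicit false
universe u
open CategoryTheory CategoryTheory.Limits AlgebraicGeometry Opposite TopologicalSpace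
open Coherent

namespace Groth.Agent.S5748

/-- Let Y be a Noetherian scheme, f : X → Y a projective morphism, L an invertible O_X-module ample
relative to f, g : Y' → Y an affine morphism locally of finite type (the spectrum of a
quasi-coherent O_Y-algebra 𝒮 of finite type) and X' = X ×_Y Y' with projections g' : X' → X and f' :
X' → Y'. The quasi-coherent modules of finite type over the pulled-back O_X-algebra f^*𝒮 = g'_*
O_{X'} are the direct images g'_* G of the coherent O_{X'}-modules G, and they are presented here in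
that form. For such a module ℳ = g'_* G there is N such that for every n ≥ N the higher direct
images R^p f_*(ℳ ⊗ L^{⊗n}) (of the underlying abelian sheaf) vanish for all p > 0 and the canonical
morphism f^* f_*(ℳ ⊗ L^{⊗n}) → ℳ ⊗ L^{⊗n} is an epimorphism. -/
theorem result {X Y X' Y' : Scheme.{u}}
    [AlgebraicGeometry.IsNoetherian Y] (f : X ⟶ Y) (hf : RelProj.IsProjective f)
    (L : X.Modules) (hL : PicF.IsInvertible L) (hamp : RelAmple.IsRelAmple f L)
    (g : Y' ⟶ Y) [IsAffineHom g] [LocallyOfFiniteType g] (g' : X' ⟶ X) (f' : X' ⟶ Y')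
    (hsq : IsPullback g' f' f g) (G : X'.Modules) (hG : Coh.IsCoh G) :
    ∃ N : ℕ, ∀ n : ℕ, N ≤ n →
      (∀ p : ℕ, 0 < p →
        IsZero ((Coh.RpushAb f p).obj (Coh.toAb (CohB1.tensorMod ((Coh.push g').obj G) (CohB1.tensorPow L n))))) ∧
      Epi ((Scheme.Modules.pullbackPushforwardAdjunction f).counit.app
        (CohB1.tensorMod ((Coh.push g').obj G) (CohB1.tensorPow L n))) := by
  classical
  haveI : IsProper f := GrothLib.ProjAlg.isProper_of_isProjective hf
  haveI : IsAffineHom g' := MorphismProperty.of_isPullback hsq.flip ‹IsAffineHom g›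
  haveI : IsProper f' := MorphismProperty.of_isPullback hsq ‹IsProper f›
  haveI : IsLocallyNoetherian Y' := LocallyOfFiniteType.isLocallyNoetherian g
  haveI : IsLocallyNoetherian X' := LocallyOfFiniteType.isLocallyNoetherian f'
  let L' := (Scheme.Modules.pullback g').obj L
  have hL' : PicF.IsInvertible L' := GrothLib.Ample.isInvertible_pullback g' hL
  have hamp' := GrothLib.NormAmple.isRelAmple_pullback (g := g') f hamp
  have hpre : ∀ V : Y.Opens, g' ⁻¹ᵁ (f ⁻¹ᵁ V) = f' ⁻¹ᵁ (g ⁻¹ᵁ V) := fun V => by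
    rw [← Scheme.Hom.comp_preimage, hsq.w, Scheme.Hom.comp_preimage]
  have hampV : ∀ V : Y.affineOpens, CohB1.IsAmple (L'.restrict (f' ⁻¹ᵁ (g ⁻¹ᵁ V.1)).ι) := fun V => by
    have key : ∀ T : X'.Opens, T = f' ⁻¹ᵁ (g ⁻¹ᵁ V.1) → CohB1.IsAmple (L'.restrict T.ι) →
        CohB1.IsAmple (L'.restrict (f' ⁻¹ᵁ (g ⁻¹ᵁ V.1)).ι) := by
      rintro _ rfl h
      exact h
    exact key _ ((Scheme.Hom.comp_preimage g' f V.1).trans (hpre V.1)) (hamp'.2 V)
  obtain ⟨κ, hκ, W, hW, -, hcov⟩ := GrothLib.QCoh.exists_finite_affine_cover (U := (⊤ : Y.Opens))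
    (by simpa using isCompact_univ)
  haveI := Fintype.ofFinite κ
  choose n₁ hn₁ using fun i => GrothLib.RelVanish.exists_forall_subsingleton_preimage f' hL'
    ((hW i).preimage g) (hampV ⟨W i, hW i⟩) hG
  choose n₂ hn₂ using fun i => GrothLib.RelVanish.eventually_ggen_preimage f' hL'
    ((hW i).preimage g) (hampV ⟨W i, hW i⟩) hG
  refine ⟨Finset.univ.sup n₁ + Finset.univ.sup n₂, fun n hn => ?_⟩
  let H := CohB1.tensorMod G (CohB1.tensorPow L' n)
  haveI : H.IsQuasicoherent :=
    (GrothLib.CMReg.isCoh_tensorMod hG (GrothLib.Ample.isInvertible_tensorPow hL' n)).1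
  obtain ⟨d⟩ := GrothLib.Ample.nonempty_pullback_tensorPow g' hL n
  let eF : CohB1.tensorMod ((Coh.push g').obj G) (CohB1.tensorPow L n) ≅ (Scheme.Modules.pushforward g').obj H :=
    GrothLib.GrTilde.tensorModComm _ _ ≪≫ @asIso _ _ _ _ (GrothLib.ProjFormula.projHom g' (CohB1.tensorPow L n) G)
      (GrothLib.ProjFormula.isIso_projHom g' (GrothLib.LocFreeHom.isFinLocFree_of_isInvertible (GrothLib.Ample.isInvertible_tensorPow hL n)) G) ≪≫
      (Scheme.Modules.pushforward g').mapIso (GrothLib.GrTilde.tensorModComm _ G ≪≫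
        GrothLib.Ample.LineData.tensorModMapIso (Iso.refl G) d)
  haveI : ((Scheme.Modules.pushforward g').obj H).IsQuasicoherent :=
    GrothLib.QCoh.isQuasicoherent_pushforward g' H
  have hcov' : ∀ y : Y, ∃ i, y ∈ W i := fun y => TopologicalSpace.Opens.mem_iSup.1 (hcov trivial)
  refine ⟨fun p hp => ?_, ?_⟩
  · refine IsZero.of_iso ?_ ((Coh.RpushAb f p).mapIso ((SheafOfModules.toSheaf X.ringCatSheaf).mapIso eF))
    refine GrothLib.RelVanish.isZero_RpushAb_of_cover f _ p W hW hcov' fun i => ?_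
    obtain ⟨e⟩ := GrothLib.Cohom.nonempty_ext_preimage_equiv g' H (f ⁻¹ᵁ W i) p
    haveI : Subsingleton (CategoryTheory.Abelian.Ext.{u} (GrothLib.Cohom.freeFun.obj (g' ⁻¹ᵁ (f ⁻¹ᵁ W i))) (Coh.toAb H) p) := by
      rw [hpre]
      exact hn₁ i n ((Finset.le_sup (Finset.mem_univ i)).trans (le_trans (Nat.le_add_right _ _) hn)) p hp
    exact e.symm.toEquiv.subsingleton
  · haveI := GrothLib.RelVanish.epi_counit_of_ggen f ((Scheme.Modules.pushforward g').obj H) fun y => by
      obtain ⟨i, hi⟩ := hcov' y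
      exact ⟨W i, hi, GrothLib.GGPush9.isGloballyGenerated_push_restrict hsq H (hW i)
        (hn₂ i n ((Finset.le_sup (Finset.mem_univ i)).trans (le_trans (Nat.le_add_left _ _) hn)))⟩
    refine epi_of_epi_fac (f := (Scheme.Modules.pullback f).map ((Scheme.Modules.pushforward f).map eF.inv)) (h :=
      (Scheme.Modules.pullbackPushforwardAdjunction f).counit.app ((Scheme.Modules.pushforward g').obj H) ≫ eF.inv) ?_
    exact (Scheme.Modules.pullbackPushforwardAdjunction f).counit.naturality eF.inv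

end Groth.Agent.S5748
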