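import Groth.Statements.S5750
import Groth.Agent.Lib.HilbArt9.Main
import Mathlib.Analysis.Polynomial.Basic

set_option autoImplicit false
universe u
open Coherent

namespace Groth.Agent.S5750

open AlgebraicGeometry CategoryTheory in
/-- Let A be an Artinian local ring, i : X → P^r_A a closed immersion compatible with the structure
morphisms to Spec A, F a coherent O_X-module and F(n) = F ⊗ i^* O(n). If a polynomial P over ℚ
satisfies P(n) = χ_A(F(n)) = Σ_{j ≤ r} (-1)^j length_A H^j(X, F(n)) for every integer n (the Hilbert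
polynomial of F), then the leading coefficient of P is non-negative. -/
theorem result (A : Type u) [CommRing A]
    [IsArtinianRing A] [IsLocalRing A] (r : ℕ) (X : Scheme.{u}) [X.Over (Spec (CommRingCat.of A))]
    (i : X ⟶ CohB1.ProjSpace r A) [IsClosedImmersion i]
    (hi : i ≫ CohB1.ProjSpace.toSpec r A = X ↘ Spec (CommRingCat.of A)) (F : X.Modules) (hF : Coh.IsCoh F)
    (P : Polynomial ℚ)
    (hP : ∀ n : ℤ, ((Finset.range (r + 1)).sum fun j => (-1 : ℚ) ^ j *
        ((Module.length A (Coh.HH X (CohB1.tensorMod F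
          ((Scheme.Modules.pullback i).obj (Twist.twistProjSpace r A n))) j)).toNat : ℚ)) = P.eval (n : ℚ)) :
    0 ≤ P.leadingCoeff := by
  obtain ⟨N, hN⟩ := GrothLib.HilbArt9.exists_chi_eq_length i hi hF
  have hpos : ∀ m : ℕ, 0 ≤ P.eval (((N + m : ℤ)) : ℚ) := fun m => by
    rw [← hP, Finset.sum_eq_single 0 (fun j _ hj => ?_) (fun h => absurd (Finset.mem_range.2 (Nat.succ_pos r)) h),
      pow_zero, one_mul]
    · exact Nat.cast_nonneg _
    · obtain ⟨p, rfl⟩ := Nat.exists_eq_succ_of_ne_zero hj
      haveI : Subsingleton (Coh.HH X (CohB1.tensorMod F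
        ((Scheme.Modules.pullback i).obj (Twist.twistProjSpace r A (N + m)))) (p + 1)) :=
        hN _ (by omega) p
      simp [Module.length_eq_zero]
  by_contra hlt
  push Not at hlt
  rcases le_or_gt P.degree 0 with hd | hd
  · have h := hpos 0
    rw [Polynomial.eq_C_of_degree_le_zero hd, Polynomial.eval_C] at h
    rw [Polynomial.eq_C_of_degree_le_zero hd, Polynomial.leadingCoeff_C] at hlt
    linarith
  · obtain ⟨b, hb⟩ := Filter.eventually_atTop.1
      ((P.tendsto_atBot_of_leadingCoeff_nonpos hd hlt.le).eventually_lt_atBot 0)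
    obtain ⟨m, hm⟩ := exists_nat_ge (b - (N : ℚ))
    refine absurd (hpos m) (not_le.2 (hb _ ?_))
    push_cast
    linarith

end Groth.Agent.S5750
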