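import Groth.Statements.S5754
import Mathlib.RingTheory.Ideal.AssociatedPrime.Localization
import Mathlib.RingTheory.Support
import Mathlib.RingTheory.QuotSMulTop
import Mathlib.Algebra.Module.Torsion.Basic

set_option autoImplicit false
universe u
open EGA41

namespace Groth.Agent.S5754

open scoped Pointwise

/-- Let A be a Noetherian ring, M a finitely generated A-module and t an element of A which is
M-regular. For every associated prime p of M, every prime ideal minimal among those containing p +
tA is an associated prime of M/tM. -/
theorem result (A : Type u) [CommRing A]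
    [IsNoetherianRing A] (M : Type u) [AddCommGroup M] [Module A M] [Module.Finite A M] (t : A)
    (ht : IsSMulRegular M t) (p : Ideal A) (hp : p ∈ associatedPrimes A M) (q : Ideal A)
    (hq : q ∈ (p ⊔ Ideal.span {t}).minimalPrimes) : q ∈ associatedPrimes A (QuotSMulTop t M) := by
  classical
  haveI := hp.isPrime
  let N : Submodule A M := Submodule.torsionBySet A M p
  haveI : Module.Finite A N := Module.Finite.of_fg (IsNoetherian.noetherian N)
  -- the cyclic submodule `A/p`
  obtain ⟨-, φ, hφ⟩ := (isAssociatedPrime_iff_exists_injective_linearMap p M).1 hp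
  have hN : Module.support A N = PrimeSpectrum.zeroLocus (p : Set A) := by
    refine Set.Subset.antisymm (fun q hq => ?_) ?_
    · intro a ha
      refine Module.annihilator_le_of_mem_support hq (Module.mem_annihilator.2 fun n => Subtype.ext ?_)
      exact (Submodule.mem_torsionBySet_iff _ _).1 n.2 ⟨a, ha⟩
    · let ψ : (A ⧸ p) →ₗ[A] N := φ.codRestrict N fun c => (Submodule.mem_torsionBySet_iff _ _).2 fun a => by
        obtain ⟨c, rfl⟩ := Ideal.Quotient.mk_surjective c
        rw [← map_smul, Algebra.smul_def, Ideal.Quotient.algebraMap_eq,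
          Ideal.Quotient.eq_zero_iff_mem.2 a.2, zero_mul, map_zero]
      have h := Module.support_subset_of_injective ψ fun a b e => hφ (congrArg Subtype.val e)
      rwa [Module.support_of_algebra, Ideal.Quotient.algebraMap_eq, Ideal.mk_ker] at h
  have hN' : Module.support A (QuotSMulTop t N) = PrimeSpectrum.zeroLocus (↑(p ⊔ Ideal.span {t}) : Set A) := by
    rw [Module.support_quotSMulTop, hN, PrimeSpectrum.zeroLocus_sup, PrimeSpectrum.zeroLocus_span]
  rw [Module.support_eq_zeroLocus] at hN'
  have hrad := (PrimeSpectrum.zeroLocus_eq_iff).1 hN'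
  have hq' : q ∈ (Module.annihilator A (QuotSMulTop t N)).minimalPrimes := by
    rw [← Ideal.radical_minimalPrimes, hrad, Ideal.radical_minimalPrimes]
    exact hq
  have hass := Module.associatedPrimes.minimalPrimes_annihilator_subset_associatedPrimes A (QuotSMulTop t N) hq'
  refine associatedPrimes.subset_of_injective (f := QuotSMulTop.map t N.subtype) ?_ hass
  refine (injective_iff_map_eq_zero _).2 fun z hz => ?_
  obtain ⟨n, rfl⟩ := Submodule.Quotient.mk_surjective _ z
  rw [QuotSMulTop.map_apply_mk, Submodule.Quotient.mk_eq_zero, Submodule.mem_smul_pointwise_iff_exists] at hz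
  obtain ⟨y, -, hy⟩ := hz
  have hyN : y ∈ N := (Submodule.mem_torsionBySet_iff _ _).2 fun a => ht (show t • (a : A) • y = t • (0 : M) by
    rw [smul_comm, hy, smul_zero]; exact (Submodule.mem_torsionBySet_iff _ _).1 n.2 a)
  rw [Submodule.Quotient.mk_eq_zero]
  have : n = t • (⟨y, hyN⟩ : N) := Subtype.ext hy.symm
  rw [this]
  exact Submodule.smul_mem_pointwise_smul _ _ _ Submodule.mem_top

end Groth.Agent.S5754
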