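import Groth.Statements.S5755
import Groth.Agent.Lib.CMBasics.Basic

set_option autoImplicit false
universe u
open EGA41

namespace Groth.Agent.S5755

/-- A reduced Noetherian local ring A has depth 0 if and only if A is a field. -/
theorem result (A : Type u) [CommRing A] [IsLocalRing A]
    [IsNoetherianRing A] [IsReduced A] : LocCoh.depth A A = 0 ↔ IsField A := by
  exact GrothLib.CMBasics.depth_self_eq_zero_iff

end Groth.Agent.S5755
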