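import Groth.Statements.S5756
import Groth.Agent.Lib.DepthRestrict.Basic
-- import your own Groth.Agent.* helpers here

set_option autoImplicit false
universe u
open EGA41

namespace Groth.Agent.S5756

/-- Suppose A and B are Noetherian local rings and ρ : A → B is a local homomorphism. Given a B-module M
that, viewed as an A-module through ρ, is finitely generated, the depth of M over A coincides with
the depth of M over B. -/
theorem result (A B : Type u) [CommRing A] [CommRing B] [IsLocalRing A]
    [IsLocalRing B] [IsNoetherianRing A] [IsNoetherianRing B] [Algebra A B] [IsLocalHom (algebraMap A B)]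
    (M : Type u) [AddCommGroup M] [Module B M] [Module A M] [IsScalarTower A B M] [Module.Finite A M] :
    LocCoh.depth A M = LocCoh.depth B M := by
  haveI : Module.Finite B M := Module.Finite.of_restrictScalars_finite A B M
  rw [GrothLib.DepthRestrict.depth_eq_iInf A B M, GrothLib.DepthRestrict.depth_eq_iInf B B M]
  have : GrothLib.DepthRestrict.closedSet A B M = GrothLib.DepthRestrict.closedSet B B M := by
    ext q
    refine and_congr_left fun hq => ?_
    rw [GrothLib.DepthRestrict.comap_eq_iff A B M q hq, Algebra.algebraMap_self, Ideal.comap_id]
    exact ⟨fun h => IsLocalRing.eq_maximalIdeal h, fun h => h ▸ IsLocalRing.maximalIdeal.isMaximal B⟩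
  rw [this]

end Groth.Agent.S5756
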