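import Groth.Statements.S5759
import Groth.Agent.Lib.SemiLocalDim16.Sop
import Groth.Agent.Lib.CMBasics.Basic

set_option autoImplicit false
universe u
open EGA41

namespace Groth.Agent.S5759


open IsLocalRing RingTheory.Sequence

variable (A : Type u) [CommRing A] [IsLocalRing A] [IsNoetherianRing A]

theorem isCM_aux : ∀ (d : ℕ) (M : Type u) [AddCommGroup M] [Module A M] [Module.Finite A M],
    Module.supportDim A M = d →
    (∀ xs : List A, (∀ x ∈ xs, x ∈ IsLocalRing.maximalIdeal A) →
      Module.supportDim A (M ⧸ (Ideal.ofList xs • (⊤ : Submodule A M))) + xs.length = Module.supportDim A M →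
        ∀ p ∈ associatedPrimes A (M ⧸ (Ideal.ofList xs • (⊤ : Submodule A M))),
          ringKrullDim (A ⧸ p) = Module.supportDim A (M ⧸ (Ideal.ofList xs • (⊤ : Submodule A M)))) →
    LocCoh.IsCohenMacaulayModule A M
  | 0, M, _, _, _, hd, _ => by
    haveI : Nontrivial M := (Module.supportDim_ne_bot_iff_nontrivial A M).1 (hd ▸ WithBot.coe_ne_bot)
    refine le_antisymm ?_ (GrothLib.Depth.depth_le_supportDim A M)
    rw [hd, Nat.cast_zero, ← WithBot.coe_zero, WithBot.coe_le_coe]
    exact zero_le
  | d + 1, M, _, _, _, hd, h => by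
    haveI : Nontrivial M := (Module.supportDim_ne_bot_iff_nontrivial A M).1 (hd ▸ WithBot.coe_ne_bot)
    have e0 : (M ⧸ (Ideal.ofList ([] : List A) • (⊤ : Submodule A M))) ≃ₗ[A] M :=
      Submodule.quotEquivOfEqBot _ (by rw [Ideal.ofList_nil, Submodule.bot_smul])
    have hass : ∀ p ∈ associatedPrimes A M, ringKrullDim (A ⧸ p) = ((d + 1 : ℕ) : WithBot ℕ∞) := by
      intro p hp
      rw [h [] (by simp) (by rw [Module.supportDim_eq_of_equiv e0, List.length_nil, Nat.cast_zero, add_zero]) p
        (by rwa [LinearEquiv.AssociatedPrimes.eq e0]), Module.supportDim_eq_of_equiv e0, hd]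
    obtain ⟨x, hxm, hx⟩ := GrothLib.SemiLocalDim16.exists_mem_avoid (a := maximalIdeal A)
      (associatedPrimes.finite A M) (fun p hp => hp.isPrime) (fun p hp hle => by
        haveI := hp.isPrime
        refine GrothLib.SemiLocalDim16.not_isMaximal_of_pos (p := p) (Nat.succ_pos d) (hass p hp) ?_
        rw [← (maximalIdeal.isMaximal A).eq_of_le hp.isPrime.ne_top hle]
        exact maximalIdeal.isMaximal A)
    have hreg : IsSMulRegular M x := by
      rw [isSMulRegular_iff_right_eq_zero_of_smul]
      intro m hm
      by_contra hne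
      have h1 : x ∈ ⋃ p ∈ associatedPrimes A M, (p : Set A) := by
        rw [biUnion_associatedPrimes_eq_zero_divisors A M]
        exact ⟨m, hne, hm⟩
      simp only [Set.mem_iUnion] at h1
      obtain ⟨p, hp, hxp⟩ := h1
      exact hx p hp hxp
    have hdim : Module.supportDim A (QuotSMulTop x M) + 1 = Module.supportDim A M :=
      Module.supportDim_quotSMulTop_succ_eq_supportDim_mem_jacobson hreg (maximalIdeal_le_jacobson _ hxm)
    have hdim' : Module.supportDim A (QuotSMulTop x M) = (d : ℕ) :=
      ENat.WithBot.add_one_cancel.1 (by rw [hdim, hd]; norm_num)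
    have hcm : LocCoh.IsCohenMacaulayModule A (QuotSMulTop x M) := by
      refine isCM_aux d (QuotSMulTop x M) hdim' fun xs hxs hxd p hp => ?_
      have e := Submodule.quotOfListConsSMulTopEquivQuotSMulTopInner M x xs
      rw [← Module.supportDim_eq_of_equiv e] at hxd ⊢
      rw [← LinearEquiv.AssociatedPrimes.eq e] at hp
      refine h (x :: xs) (List.forall_mem_cons.2 ⟨hxm, hxs⟩) ?_ p hp
      rw [List.length_cons, Nat.cast_succ, ← add_assoc, hxd, hdim]
    unfold LocCoh.IsCohenMacaulayModule LocCoh.depth at hcm ⊢
    rw [← hdim, hcm, ← GrothLib.Depth.idealDepth_quotSMulTop_add_one (maximalIdeal A) hxm hreg]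
    norm_cast


/-- Let A be a Noetherian local ring and M a nonzero finitely generated A-module. Suppose that for every
sequence x_1, ..., x_r of elements of the maximal ideal which is part of a system of parameters for
M (i.e. dim(M/(x_1 M + ... + x_r M)) = dim(M) - r), every associated prime p of N = M/(x_1 M + ... +
x_r M) satisfies dim(A/p) = dim(N). Then M is a Cohen-Macaulay module. (The published convention
also counts the zero module as Cohen-Macaulay; this row assumes M nonzero.) -/
theorem result (A : Type u) [CommRing A]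
    [IsLocalRing A] [IsNoetherianRing A] (M : Type u) [AddCommGroup M] [Module A M] [Module.Finite A M]
    [Nontrivial M]
    (h : ∀ xs : List A, (∀ x ∈ xs, x ∈ IsLocalRing.maximalIdeal A) →
      Module.supportDim A (M ⧸ (Ideal.ofList xs • (⊤ : Submodule A M))) + xs.length = Module.supportDim A M →
        ∀ p ∈ associatedPrimes A (M ⧸ (Ideal.ofList xs • (⊤ : Submodule A M))),
          ringKrullDim (A ⧸ p) = Module.supportDim A (M ⧸ (Ideal.ofList xs • (⊤ : Submodule A M)))) :
    LocCoh.IsCohenMacaulayModule A M := by
  obtain ⟨d, hd⟩ := GrothLib.SemiLocalDim16.exists_nat_supportDim (A := A) (M := M)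
  exact isCM_aux A d M hd h

end Groth.Agent.S5759
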