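import Groth.Statements.S5762
import Groth.Agent.Lib.CMBasics.Basic

set_option autoImplicit false
universe u
open EGA41

namespace Groth.Agent.S5762

/-- Let A be a Noetherian local ring, M a nonzero finitely generated Cohen-Macaulay A-module and p a
prime ideal in the support of M. Then dim(M) = dim_A(M/pM) + dim_{A_p}(M_p). -/
theorem result (A : Type u) [CommRing A]
    [IsLocalRing A] [IsNoetherianRing A] (M : Type u) [AddCommGroup M] [Module A M] [Module.Finite A M]
    (hM : LocCoh.IsCohenMacaulayModule A M) (p : PrimeSpectrum A) (hp : p ∈ Module.support A M) :
    Module.supportDim A M =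
      Module.supportDim A (M ⧸ (p.asIdeal • (⊤ : Submodule A M))) +
        Module.supportDim (Localization.AtPrime p.asIdeal) (LocalizedModule p.asIdeal.primeCompl M) := by
  exact (GrothLib.CMBasics.isCM_localized_and_formula hM p.asIdeal hp).2

end Groth.Agent.S5762
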