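import Groth.Statements.S5764
import Groth.Agent.Lib.Dim.Ring
import Mathlib

set_option autoImplicit false
universe u
open EGA41

namespace Groth.Agent.S5764

/-- Let B be an integral domain, A a local subring of B which is integrally closed (in its field of
fractions), and suppose B is integral over A. Then dim(B_n) = dim(A) for every maximal ideal n of B. -/
theorem result (A B : Type u) [CommRing A]
    [CommRing B] [IsDomain B] [Algebra A B] (hinj : Function.Injective (algebraMap A B)) [IsDomain A]
    [IsLocalRing A] [IsIntegrallyClosed A] [Algebra.IsIntegral A B] (n : Ideal B) [n.IsMaximal] :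
    ringKrullDim (Localization.AtPrime n) = ringKrullDim A := by
  haveI : FaithfulSMul A B := (faithfulSMul_iff_algebraMap_injective A B).2 hinj
  rw [IsLocalization.AtPrime.ringKrullDim_eq_height n (Localization.AtPrime n)]
  refine le_antisymm ?_ ?_
  · rw [← GrothLib.Dim.ringKrullDim_eq_of_isIntegral (R := A) (S := B) hinj]
    exact Ideal.height_le_ringKrullDim_of_ne_top (Ideal.IsPrime.ne_top inferInstance)
  · haveI : n.LiesOver (IsLocalRing.maximalIdeal A) :=
      ⟨(IsLocalRing.eq_maximalIdeal (Ideal.isMaximal_comap_of_isIntegral_of_isMaximal n)).symm⟩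
    rw [← IsLocalRing.maximalIdeal_height_eq_ringKrullDim]
    refine WithBot.coe_le_coe.2 ?_
    show (⟨IsLocalRing.maximalIdeal A, inferInstance⟩ : PrimeSpectrum A).asIdeal.height ≤
      (⟨n, inferInstance⟩ : PrimeSpectrum B).asIdeal.height
    rw [PrimeSpectrum.height_eq_orderHeight, PrimeSpectrum.height_eq_orderHeight]
    refine Order.height_le fun l hl => ?_
    haveI : n.LiesOver l.last.asIdeal := by rw [hl]; infer_instance
    obtain ⟨L, hlen, hlast, -⟩ := Ideal.exists_ltSeries_of_hasGoingDown l n
    rw [← hlen]
    exact Order.length_le_height hlast.le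

end Groth.Agent.S5764
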