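import Groth.Statements.S5768
import Groth.Agent.Lib.SemiLocalDim16.Sop

set_option autoImplicit false
universe u
open EGA41

namespace Groth.Agent.S5768

/-- Let A be a semi-local Noetherian ring with Jacobson radical r, M a nonzero finitely generated
A-module and x_1, ..., x_k elements of r. One always has dim(M/(x_1 M + ... + x_k M)) ≥ dim(M) - k,
and equality holds if and only if there exist further elements of r which together with the x_i form
a system of parameters for M (dim(M) elements of r modulo which M has finite length). -/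
theorem result (A : Type u) [CommRing A]
    [IsNoetherianRing A] [Finite (MaximalSpectrum A)] (M : Type u) [AddCommGroup M] [Module A M]
    [Module.Finite A M] [Nontrivial M] (xs : List A) (hxs : ∀ x ∈ xs, x ∈ Ring.jacobson A) :
    Module.supportDim A (M ⧸ (Ideal.ofList xs • (⊤ : Submodule A M))) + xs.length = Module.supportDim A M ↔
      ∃ ys : List A, (∀ y ∈ ys, y ∈ Ring.jacobson A) ∧
        ((xs ++ ys).length : WithBot ℕ∞) = Module.supportDim A M ∧
        IsFiniteLength A (M ⧸ (Ideal.ofList (xs ++ ys) • (⊤ : Submodule A M))) := by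
  have hI : Ideal.ofList xs ≤ Ring.jacobson A := Ideal.span_le.2 hxs
  haveI : Nontrivial (M ⧸ (Ideal.ofList xs • (⊤ : Submodule A M))) :=
    GrothLib.SemiLocalDim16.nontrivial_quot hI
  obtain ⟨e, he⟩ := GrothLib.SemiLocalDim16.exists_nat_supportDim (A := A)
    (M := M ⧸ (Ideal.ofList xs • (⊤ : Submodule A M)))
  constructor
  · intro h
    obtain ⟨ys, hys, hlen, hfl⟩ := GrothLib.SemiLocalDim16.exists_sop e _ he
    refine ⟨ys, hys, ?_, ?_⟩
    · rw [← h, he, List.length_append, hlen, add_comm]
      norm_cast
    · rw [Ideal.ofList_append]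
      exact GrothLib.SemiLocalDim16.isFiniteLength_of_supportDim_le_zero hfl
  · rintro ⟨ys, hys, hlen, hfl⟩
    rw [Ideal.ofList_append] at hfl
    have h0 := GrothLib.SemiLocalDim16.supportDim_le_zero_of_isFiniteLength hfl
    have h1 : Module.supportDim A M ≤
        Module.supportDim A (M ⧸ (Ideal.ofList xs • (⊤ : Submodule A M))) + xs.length := by
      have h := GrothLib.SemiLocalDim16.le_quot_ofList (M := M) xs hxs ⊥
      rw [bot_sup_eq] at h
      refine le_trans (le_of_eq ?_) h
      exact Module.supportDim_eq_of_equiv (Submodule.quotEquivOfEqBot _ (Submodule.bot_smul _)).symm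
    have h2 : Module.supportDim A (M ⧸ (Ideal.ofList xs • (⊤ : Submodule A M))) ≤ (ys.length : WithBot ℕ∞) := by
      refine (GrothLib.SemiLocalDim16.le_quot_ofList ys hys _).trans ?_
      exact (add_le_add h0 le_rfl).trans (by rw [zero_add])
    refine le_antisymm ?_ h1
    rw [← hlen, List.length_append]
    refine (add_le_add h2 le_rfl).trans ?_
    rw [add_comm]
    norm_cast

end Groth.Agent.S5768
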