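import Groth.Statements.S5771
import Mathlib.RingTheory.KrullDimension.NonZeroDivisors
import Mathlib.RingTheory.Ideal.KrullsHeightTheorem
import Mathlib.RingTheory.LocalRing.RingHom.Basic

set_option autoImplicit false
universe u
open EGA41

namespace Groth.Agent.S5771

/-- Let φ : A → B be a local homomorphism of Noetherian local rings, m the maximal ideal of A, and
suppose mB is an ideal of definition of B (equivalently dim(B/mB) = 0). Then dim(B) ≤ dim(A); if
moreover A is an integral domain and dim(A) = dim(B), then φ is injective. -/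
theorem result (A B : Type u) [CommRing A] [CommRing B]
    [IsLocalRing A] [IsLocalRing B] [IsNoetherianRing A] [IsNoetherianRing B] [Algebra A B]
    [IsLocalHom (algebraMap A B)]
    (hdef : ringKrullDim (B ⧸ (IsLocalRing.maximalIdeal A).map (algebraMap A B)) = 0) :
    ringKrullDim B ≤ ringKrullDim A ∧
      (IsDomain A → ringKrullDim A = ringKrullDim B → Function.Injective (algebraMap A B)) := by
  have key : ∀ (R : Type u) [CommRing R] [IsLocalRing R] [IsNoetherianRing R] (f : R →+* B),
      IsLocalHom f → ringKrullDim (B ⧸ (IsLocalRing.maximalIdeal R).map f) = 0 →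
        ringKrullDim B ≤ ringKrullDim R := by
    intro R _ _ _ f hf h0
    letI := f.toAlgebra
    haveI : (IsLocalRing.maximalIdeal B).LiesOver (IsLocalRing.maximalIdeal R) :=
      ⟨(((IsLocalRing.local_hom_TFAE f).out 0 4 :
        IsLocalHom f ↔ (IsLocalRing.maximalIdeal B).comap f = IsLocalRing.maximalIdeal R).1 hf).symm⟩
    have hle : (IsLocalRing.maximalIdeal R).map f ≤ IsLocalRing.maximalIdeal B :=
      Ideal.map_le_iff_le_comap.2 (le_of_eq (Ideal.LiesOver.over (p := IsLocalRing.maximalIdeal R)
        (P := IsLocalRing.maximalIdeal B)))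
    haveI : ((IsLocalRing.maximalIdeal B).map
        (Ideal.Quotient.mk ((IsLocalRing.maximalIdeal R).map f))).IsPrime :=
      Ideal.isPrime_map_quotientMk_of_isPrime hle
    have h1 := Ideal.height_le_height_add_of_liesOver (IsLocalRing.maximalIdeal R) (IsLocalRing.maximalIdeal B)
    have h2 : (((IsLocalRing.maximalIdeal B).map
        (Ideal.Quotient.mk ((IsLocalRing.maximalIdeal R).map f))).height : WithBot ℕ∞) ≤ 0 :=
      h0 ▸ Ideal.height_le_ringKrullDim_of_ne_top Ideal.IsPrime.ne_top'
    rw [← IsLocalRing.maximalIdeal_height_eq_ringKrullDim, ← IsLocalRing.maximalIdeal_height_eq_ringKrullDim,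
      WithBot.coe_le_coe]
    refine h1.trans ?_
    rw [show ((IsLocalRing.maximalIdeal B).map (Ideal.Quotient.mk ((IsLocalRing.maximalIdeal R).map
      (algebraMap R B)))).height = 0 from le_antisymm (WithBot.coe_le_coe.1 h2) bot_le, add_zero]
  refine ⟨key A _ ‹_› hdef, fun _ heq => (injective_iff_map_eq_zero _).2 fun a ha => ?_⟩
  by_contra hne
  have hle : Ideal.span {a} ≤ RingHom.ker (algebraMap A B) :=
    (Ideal.span_singleton_le_iff_mem _).2 (RingHom.mem_ker.2 ha)
  have hne' : Ideal.span {a} ≠ ⊤ := fun h => by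
    have := hle (h ▸ Submodule.mem_top : (1 : A) ∈ Ideal.span {a})
    simp at this
  haveI : Nontrivial (A ⧸ Ideal.span {a}) := Ideal.Quotient.nontrivial_iff.2 hne'
  haveI : IsLocalRing (A ⧸ Ideal.span {a}) :=
    IsLocalRing.of_surjective' (Ideal.Quotient.mk _) Ideal.Quotient.mk_surjective
  let g : A ⧸ Ideal.span {a} →+* B := Ideal.Quotient.lift _ (algebraMap A B) fun x hx => hle hx
  have hg : IsLocalHom g := ⟨fun x hx => by
    obtain ⟨y, rfl⟩ := Ideal.Quotient.mk_surjective x
    exact (IsUnit.of_map (algebraMap A B) y hx).map (Ideal.Quotient.mk _)⟩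
  have hm : (IsLocalRing.maximalIdeal (A ⧸ Ideal.span {a})).map g =
      (IsLocalRing.maximalIdeal A).map (algebraMap A B) := by
    rw [← IsLocalRing.eq_maximalIdeal (Ideal.IsMaximal.map_of_surjective_of_ker_le
      Ideal.Quotient.mk_surjective (m := IsLocalRing.maximalIdeal A)
      (by rw [Ideal.mk_ker]; exact IsLocalRing.le_maximalIdeal hne')), Ideal.map_map,
      Ideal.Quotient.lift_comp_mk]
  have h1 := key _ g hg (by rw [hm]; exact hdef)
  have h2 := ringKrullDim_quotient_succ_le_of_nonZeroDivisor (r := a)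
    (mem_nonZeroDivisors_of_ne_zero hne)
  have h3 := (add_le_add_left h1 1).trans h2
  rw [← heq] at h3
  obtain ⟨d, hd⟩ : ∃ d : ℕ, ringKrullDim A = d := by
    obtain ⟨d, hd⟩ := ENat.ne_top_iff_exists.1 (Ideal.height_ne_top (I := IsLocalRing.maximalIdeal A)
      Ideal.IsPrime.ne_top')
    exact ⟨d, by rw [← IsLocalRing.maximalIdeal_height_eq_ringKrullDim, ← hd]; rfl⟩
  rw [hd] at h3
  exact absurd (show d + 1 ≤ d by exact_mod_cast h3) (by omega)

end Groth.Agent.S5771
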