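import Groth.Statements.S5773
import Groth.Agent.Lib.DimCut.StalkFibre
import Mathlib

set_option autoImplicit false
universe u
open EGA41

namespace Groth.Agent.S5773

open IsLocalRing TensorProduct in
open scoped Pointwise in
/-- Flatness lifts along a regular element of the maximal ideal. -/
theorem flat_of_quot {A B M : Type u} [CommRing A] [CommRing B] [IsLocalRing B] [IsNoetherianRing B] [Algebra A B]
    [AddCommGroup M] [Module A M] [Module B M] [IsScalarTower A B M] [Module.Finite B M]
    (x : B) (hx : x ∈ maximalIdeal B) (hreg : IsSMulRegular M x) [Module.Flat A (QuotSMulTop x M)] :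
    Module.Flat A M := by
  rw [Module.Flat.iff_lTensor_injective]
  intro J hJ
  haveI : Module.Finite A J := Module.Finite.iff_fg.mpr hJ
  let f : M →ₗ[A] M := (LinearMap.lsmul B M x).restrictScalars A
  let q : M →ₗ[A] QuotSMulTop x M := (x • ⊤ : Submodule B M).mkQ.restrictScalars A
  have hex : Function.Exact f q := fun m => by
    constructor
    · intro hm
      obtain ⟨y, -, hy⟩ := (Submodule.mem_smul_pointwise_iff_exists _ _ _).1 ((Submodule.Quotient.mk_eq_zero _).1 hm)
      exact ⟨y, hy⟩
    · rintro ⟨y, rfl⟩
      exact (Submodule.Quotient.mk_eq_zero _).2 (Submodule.smul_mem_pointwise_smul y x _ trivial)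
  have hf : ∀ (N : Type u) [AddCommGroup N] [Module A N] (w : M ⊗[A] N), f.rTensor N w = x • w := fun N _ _ w => by
    induction w with
    | zero => simp
    | add a b ha hb => rw [map_add, smul_add, ha, hb]
    | tmul m n => rfl
  have key : ∀ (n : ℕ) (z : M ⊗[A] J), J.subtype.lTensor M z = 0 →
      z ∈ (Ideal.span {x} ^ n) • (⊤ : Submodule B (M ⊗[A] J)) := by
    intro n
    induction n with
    | zero => intro z _; simp
    | succ n ih =>
      intro z hz
      have hP : Function.Injective (J.subtype.lTensor (QuotSMulTop x M)) :=
        Module.Flat.lTensor_preserves_injective_linearMap _ Subtype.val_injective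
      have h0 : q.rTensor J z = 0 := by
        apply hP
        rw [map_zero, ← LinearMap.comp_apply, LinearMap.lTensor_comp_rTensor,
          ← LinearMap.rTensor_comp_lTensor, LinearMap.comp_apply, hz, map_zero]
      obtain ⟨w, rfl⟩ := ((rTensor_exact J hex (Submodule.mkQ_surjective _)) z).mp h0
      have hw : J.subtype.lTensor M w = 0 := by
        have h1 : f.rTensor A (J.subtype.lTensor M w) = 0 := by
          rw [← LinearMap.comp_apply, LinearMap.rTensor_comp_lTensor, ← LinearMap.lTensor_comp_rTensor,
            LinearMap.comp_apply]
          exact hz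
        apply (TensorProduct.rid A M).injective
        rw [map_zero]
        apply hreg
        have h2 : ∀ v : M ⊗[A] A, x • TensorProduct.rid A M v = TensorProduct.rid A M (f.rTensor A v) := fun v => by
          induction v with
          | zero => simp
          | add a b ha hb => rw [map_add, smul_add, map_add, map_add, ha, hb]
          | tmul m a =>
            simp only [LinearMap.rTensor_tmul, TensorProduct.rid_tmul]
            exact smul_comm x a m
        show x • _ = x • (0 : M)
        rw [h2, h1, map_zero, smul_zero]
      rw [hf, pow_succ', Submodule.mul_smul]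
      exact Submodule.smul_mem_smul (Ideal.mem_span_singleton_self x) (ih w hw)
  haveI : Module.Finite B (M ⊗[A] J) := by
    obtain ⟨n, p, hp⟩ := Module.Finite.exists_fin' A J
    haveI : Module.Finite B (M ⊗[A] (Fin n → A)) :=
      Module.Finite.equiv (TensorProduct.piScalarRight A B M (Fin n)).symm
    exact Module.Finite.of_surjective (TensorProduct.AlgebraTensorModule.lTensor B M p) (LinearMap.lTensor_surjective M hp)
  rw [injective_iff_map_eq_zero]
  intro z hz
  have hbot := Ideal.iInf_pow_smul_eq_bot_of_isLocalRing (M := M ⊗[A] J) (Ideal.span {x})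
    (fun h => (maximalIdeal.isMaximal B).ne_top
      (top_le_iff.mp (h ▸ (Ideal.span_singleton_le_iff_mem _).mpr hx)))
  rw [← Submodule.mem_bot B, ← hbot, Submodule.mem_iInf]
  exact fun n => key n z hz

open IsLocalRing in
open scoped Pointwise in
/-- All quotients by initial segments are flat. -/
theorem flat_quotients {A B : Type u} [CommRing A] [CommRing B] [IsLocalRing B] [IsNoetherianRing B] [Algebra A B]
    (rs : List B) : ∀ (M : Type u) [AddCommGroup M] [Module A M] [Module B M] [IsScalarTower A B M] [Module.Finite B M],
      (∀ f ∈ rs, f ∈ maximalIdeal B) → RingTheory.Sequence.IsWeaklyRegular M rs →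
      Module.Flat A (M ⧸ (Ideal.ofList rs • (⊤ : Submodule B M))) →
        ∀ i ≤ rs.length, Module.Flat A (M ⧸ (Ideal.ofList (rs.take i) • (⊤ : Submodule B M))) := by
  induction rs with
  | nil =>
    intro M _ _ _ _ _ _ _ h i _
    rwa [List.take_nil]
  | cons x rs ih =>
    intro M _ _ _ _ _ hm hreg h i hi
    obtain ⟨h1, h2⟩ := (RingTheory.Sequence.isWeaklyRegular_cons_iff _ x rs).mp hreg
    let e := fun l : List B => (Submodule.quotOfListConsSMulTopEquivQuotSMulTopInner M x l).restrictScalars A
    haveI := h
    have hall := ih (QuotSMulTop x M) (fun f hf => hm f (List.mem_cons_of_mem _ hf)) h2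
      (Module.Flat.of_linearEquiv (e rs).symm)
    cases i with
    | zero =>
      haveI : Module.Flat A (QuotSMulTop x M) := by
        haveI := hall 0 (Nat.zero_le _)
        exact Module.Flat.of_linearEquiv ((Submodule.quotEquivOfEqBot
          (Ideal.ofList (rs.take 0) • (⊤ : Submodule B (QuotSMulTop x M))) (by simp [Ideal.ofList])).restrictScalars A).symm
      haveI := flat_of_quot (A := A) x (hm x List.mem_cons_self) h1
      exact Module.Flat.of_linearEquiv ((Submodule.quotEquivOfEqBot
        (Ideal.ofList ((x :: rs).take 0) • (⊤ : Submodule B M)) (by simp [Ideal.ofList])).restrictScalars A)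
    | succ j =>
      haveI := hall j (by simpa using hi)
      exact Module.Flat.of_linearEquiv (e (rs.take j))

/-- Let A → B be a local homomorphism of Noetherian local rings, M a finitely generated B-module and
f_1, ..., f_n elements of the maximal ideal of B forming an M-regular sequence. If the quotient
M/(f_1 M + ... + f_n M) is flat over A, then all the quotients M/(f_1 M + ... + f_i M) for 0 ≤ i ≤ n
(in particular M) are flat over A. -/
theorem result (A B : Type u) [CommRing A] [CommRing B]
    [IsLocalRing A] [IsLocalRing B] [IsNoetherianRing A] [IsNoetherianRing B] [Algebra A B]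
    [IsLocalHom (algebraMap A B)] (M : Type u) [AddCommGroup M] [Module B M] [Module A M]
    [IsScalarTower A B M] [Module.Finite B M] (fs : List B) (hfs : ∀ f ∈ fs, f ∈ IsLocalRing.maximalIdeal B)
    (hreg : RingTheory.Sequence.IsWeaklyRegular M fs)
    (hflat : Module.Flat A (M ⧸ (Ideal.ofList fs • (⊤ : Submodule B M)))) (i : ℕ) (hi : i ≤ fs.length) :
    Module.Flat A (M ⧸ (Ideal.ofList (fs.take i) • (⊤ : Submodule B M))) := by
  exact flat_quotients fs M hfs hreg hflat i hi

end Groth.Agent.S5773
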