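import Groth.Statements.S5774
import Groth.Agent.Lib.DimCut.StalkFibre
import Mathlib

set_option autoImplicit false
universe u
open EGA41

namespace Groth.Agent.S5774

open IsLocalRing in
open scoped Pointwise in
/-- Flatness of the successive quotients. -/
theorem flat_quotients {A B : Type u} [CommRing A] [IsLocalRing A] [CommRing B]
    [IsLocalRing B] [IsNoetherianRing B] [Algebra A B] [IsLocalHom (algebraMap A B)]
    (rs : List B) : ∀ (M : Type u) [AddCommGroup M] [Module A M] [Module B M]
      [IsScalarTower A B M] [Module.Finite B M] [Module.Flat A M],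
      RingTheory.Sequence.IsWeaklyRegular (M ⧸ ((maximalIdeal A).map (algebraMap A B) • ⊤ : Submodule B M)) rs →
        ∀ i ≤ rs.length, Module.Flat A (M ⧸ (Ideal.ofList (rs.take i) • (⊤ : Submodule B M))) := by
  induction rs with
  | nil =>
    intro M _ _ _ _ _ _ _ i _
    let e := Submodule.quotEquivOfEqBot (Ideal.ofList (([] : List B).take i) • (⊤ : Submodule B M)) (by simp [Ideal.ofList])
    exact Module.Flat.of_linearEquiv (e.restrictScalars A)
  | cons x rs ih =>
    intro M _ _ _ _ _ _ h i hi
    obtain ⟨h1, h2⟩ := (RingTheory.Sequence.isWeaklyRegular_cons_iff _ x rs).mp h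
    obtain ⟨h3, h4⟩ := GrothLib.DimCut.isSMulRegular_flat_of_fibre (A := A) x h1
    cases i with
    | zero =>
      let e := Submodule.quotEquivOfEqBot (Ideal.ofList ((x :: rs).take 0) • (⊤ : Submodule B M)) (by simp [Ideal.ofList])
      exact Module.Flat.of_linearEquiv (e.restrictScalars A)
    | succ j =>
      set K := (maximalIdeal A).map (algebraMap A B)
      have hK : (K • ⊤ : Submodule B (QuotSMulTop x M)) =
          (K • ⊤ : Submodule B M).map (x • ⊤ : Submodule B M).mkQ := by
        rw [Submodule.map_smul'', Submodule.map_top, Submodule.range_mkQ]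
      have hX : (x • ⊤ : Submodule B (M ⧸ (K • ⊤ : Submodule B M))) =
          (x • ⊤ : Submodule B M).map (K • ⊤ : Submodule B M).mkQ := by
        rw [Submodule.map_pointwise_smul, Submodule.map_top, Submodule.range_mkQ]
      let e : (QuotSMulTop x (M ⧸ (K • ⊤ : Submodule B M))) ≃ₗ[B]
          (QuotSMulTop x M ⧸ (K • ⊤ : Submodule B (QuotSMulTop x M))) :=
        Submodule.quotEquivOfEq _ _ hX ≪≫ₗ Submodule.quotientQuotientEquivQuotientSup _ _ ≪≫ₗ
          Submodule.quotEquivOfEq _ _ (sup_comm _ _) ≪≫ₗ
          (Submodule.quotientQuotientEquivQuotientSup _ _).symm ≪≫ₗ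
          (Submodule.quotEquivOfEq _ _ hK).symm
      haveI := ih (QuotSMulTop x M) ((e.isWeaklyRegular_congr rs).mp h2) j (by simpa using hi)
      exact Module.Flat.of_linearEquiv
        ((Submodule.quotOfListConsSMulTopEquivQuotSMulTopInner M x (rs.take j)).restrictScalars A)

/-- Let A → B be a local homomorphism of Noetherian local rings, m the maximal ideal of A and k = A/m, M
a finitely generated B-module which is flat over A, and f_1, ..., f_n elements of B whose images g_i
in B ⊗_A k form an (M ⊗_A k)-regular sequence. Then (f_i) is an M-regular sequence and the quotients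
M/(f_1 M + ... + f_i M), 0 ≤ i ≤ n, are flat over A. (The f_i are not required to lie in the maximal
ideal of B.) -/
theorem result (A B : Type u) [CommRing A] [CommRing B]
    [IsLocalRing A] [IsLocalRing B] [IsNoetherianRing A] [IsNoetherianRing B] [Algebra A B]
    [IsLocalHom (algebraMap A B)] (M : Type u) [AddCommGroup M] [Module B M] [Module A M]
    [IsScalarTower A B M] [Module.Finite B M] [Module.Flat A M] (fs : List B)
    (hreg : RingTheory.Sequence.IsWeaklyRegular
      (M ⧸ ((IsLocalRing.maximalIdeal A).map (algebraMap A B) • (⊤ : Submodule B M))) fs) :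
    RingTheory.Sequence.IsWeaklyRegular M fs ∧
      ∀ i ≤ fs.length, Module.Flat A (M ⧸ (Ideal.ofList (fs.take i) • (⊤ : Submodule B M))) := by
  exact ⟨GrothLib.DimCut.isWeaklyRegular_of_fibre fs M hreg, flat_quotients fs M hreg⟩

end Groth.Agent.S5774
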