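import Groth.Statements.S5775
import Groth.Agent.S5774
import Mathlib

set_option autoImplicit false
universe u
open EGA41

namespace Groth.Agent.S5775

open IsLocalRing TensorProduct in
/-- A submodule with flat quotient meets `I M` in `I R`. -/
theorem inf_le_of_flat {A B M : Type u} [CommRing A] [CommRing B] [Algebra A B]
    [AddCommGroup M] [Module A M] [Module B M] [IsScalarTower A B M]
    (R : Submodule B M) [Module.Flat A (M ⧸ R)] (I : Ideal A) :
    R ⊓ (I.map (algebraMap A B) • ⊤ : Submodule B M) ≤ I.map (algebraMap A B) • R := by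
  rintro r ⟨hr, hrI⟩
  let g : R →ₗ[A] M := R.subtype.restrictScalars A
  have hex : Function.Exact g (R.mkQ.restrictScalars A) := LinearMap.exact_subtype_mkQ R
  have hinj : Function.Injective (g.lTensor (A ⧸ I)) :=
    LinearMap.lTensor_injective_of_exact_of_flat (R.mkQ.restrictScalars A) R.mkQ_surjective g
      Subtype.val_injective hex (A ⧸ I)
  have key : ∀ (N : Type u) [AddCommGroup N] [Module A N] [Module B N] [IsScalarTower A B N] (n : N),
      n ∈ (I.map (algebraMap A B) • ⊤ : Submodule B N) ↔ (1 : A ⧸ I) ⊗ₜ[A] n = 0 := fun N _ _ _ _ n => by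
    rw [← (TensorProduct.quotTensorEquivQuotSMul N I).map_eq_zero_iff,
      show (1 : A ⧸ I) = Ideal.Quotient.mk I 1 from rfl, TensorProduct.quotTensorEquivQuotSMul_mk_tmul, one_smul,
      Submodule.Quotient.mk_eq_zero, ← Submodule.restrictScalars_mem A, Ideal.smul_restrictScalars,
      Submodule.restrictScalars_top]
  have h1 : (1 : A ⧸ I) ⊗ₜ[A] (⟨r, hr⟩ : R) = 0 := hinj (by
    rw [map_zero, LinearMap.lTensor_tmul]
    exact (key M r).1 hrI)
  have h2 := Submodule.mem_map_of_mem (f := R.subtype) ((key R ⟨r, hr⟩).2 h1)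
  rwa [Submodule.map_smul'', Submodule.map_top, Submodule.range_subtype] at h2

open IsLocalRing in
/-- Let A → B be a local homomorphism of Noetherian local rings, m the maximal ideal of A, M a finitely
generated B-module flat over A and R a B-submodule of M such that M/R is flat over A. Let f_1, ...,
f_n be elements of the maximal ideal of B such that (i) f_i M ⊆ R for all i, (ii) the images of the
f_i form an (M/mM)-regular sequence, and (iii) the submodule f_1 (M/mM) + ... + f_n (M/mM) is the
image of R in M/mM. Then (f_i) is an M-regular sequence and R = f_1 M + ... + f_n M. -/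
theorem result (A B : Type u) [CommRing A] [CommRing B] [IsLocalRing A]
    [IsLocalRing B] [IsNoetherianRing A] [IsNoetherianRing B] [Algebra A B] [IsLocalHom (algebraMap A B)]
    (M : Type u) [AddCommGroup M] [Module B M] [Module A M] [IsScalarTower A B M] [Module.Finite B M]
    [Module.Flat A M] (R : Submodule B M) (hR : Module.Flat A (M ⧸ R)) (fs : List B)
    (hfs : ∀ f ∈ fs, f ∈ IsLocalRing.maximalIdeal B) (h1 : Ideal.ofList fs • (⊤ : Submodule B M) ≤ R)
    (h2 : RingTheory.Sequence.IsWeaklyRegular
      (M ⧸ ((IsLocalRing.maximalIdeal A).map (algebraMap A B) • (⊤ : Submodule B M))) fs)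
    (h3 : Ideal.ofList fs • (⊤ : Submodule B
        (M ⧸ ((IsLocalRing.maximalIdeal A).map (algebraMap A B) • (⊤ : Submodule B M)))) =
      R.map ((IsLocalRing.maximalIdeal A).map (algebraMap A B) • (⊤ : Submodule B M)).mkQ) :
    RingTheory.Sequence.IsWeaklyRegular M fs ∧ R = Ideal.ofList fs • (⊤ : Submodule B M) := by
  classical
  refine ⟨(Groth.Agent.S5774.result A B M fs h2).1, le_antisymm ?_ h1⟩
  haveI := hR
  let K := (IsLocalRing.maximalIdeal A).map (algebraMap A B)
  have hK : K ≤ IsLocalRing.maximalIdeal B := ((IsLocalRing.local_hom_TFAE (algebraMap A B)).out 0 2).1 (inferInstance : IsLocalHom (algebraMap A B))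
  refine Submodule.le_of_le_smul_of_le_jacobson_bot (I := K) (IsNoetherian.noetherian R)
    (hK.trans (IsLocalRing.maximalIdeal_le_jacobson ⊥)) fun r hr => ?_
  have h4 : (K • (⊤ : Submodule B M)).mkQ r ∈ R.map (K • (⊤ : Submodule B M)).mkQ := Submodule.mem_map_of_mem hr
  rw [← h3, ← LinearMap.range_eq_top.2 (Submodule.mkQ_surjective (K • (⊤ : Submodule B M))), ← Submodule.map_top,
    ← Submodule.map_smul''] at h4
  obtain ⟨u, hu, hur⟩ := h4
  rw [← add_sub_cancel u r]
  exact Submodule.add_mem_sup hu (inf_le_of_flat R _ ⟨sub_mem hr (h1 hu), (Submodule.Quotient.eq _).1 hur.symm⟩)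

end Groth.Agent.S5775
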