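import Groth.Statements.S5776
import Mathlib.RingTheory.Regular.RegularSequence

set_option autoImplicit false
universe u
open EGA41

namespace Groth.Agent.S5776

open scoped Pointwise

/-- Let A be a ring, M an A-module and (f_i)_{1 ≤ i ≤ n} an M-regular sequence of elements of A. Then
for any exponents v_i ≥ 1 the sequence (f_i ^ v_i) is again M-regular. -/
theorem result (A : Type u) [CommRing A] (M : Type u) [AddCommGroup M]
    [Module A M] (n : ℕ) (f : Fin n → A) (v : Fin n → ℕ) (hv : ∀ i, 1 ≤ v i)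
    (hf : RingTheory.Sequence.IsWeaklyRegular M (List.ofFn f)) :
    RingTheory.Sequence.IsWeaklyRegular M (List.ofFn fun i => f i ^ v i) := by
  have ext : ∀ (rs : List A) (X Y Z : Type u) [AddCommGroup X] [Module A X] [AddCommGroup Y] [Module A Y]
      [AddCommGroup Z] [Module A Z] (a : X →ₗ[A] Y) (b : Y →ₗ[A] Z), Function.Injective a →
      Function.Exact a b → Function.Surjective b → RingTheory.Sequence.IsWeaklyRegular X rs →
      RingTheory.Sequence.IsWeaklyRegular Z rs → RingTheory.Sequence.IsWeaklyRegular Y rs := by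
    intro rs
    induction rs with
    | nil => intros; exact RingTheory.Sequence.IsWeaklyRegular.nil _ _
    | cons r rs ih =>
      intro X Y Z _ _ _ _ _ _ a b ha hab hb hX hZ
      obtain ⟨hX1, hX2⟩ := (RingTheory.Sequence.isWeaklyRegular_cons_iff _ _ _).1 hX
      obtain ⟨hZ1, hZ2⟩ := (RingTheory.Sequence.isWeaklyRegular_cons_iff _ _ _).1 hZ
      refine RingTheory.Sequence.IsWeaklyRegular.cons
        (isSMulRegular_of_range_eq_ker ha (LinearMap.exact_iff.1 hab).symm hX1 hZ1) ?_
      refine ih _ _ _ (QuotSMulTop.map r a) (QuotSMulTop.map r b) ?_ (QuotSMulTop.map_exact r hab hb)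
        (QuotSMulTop.map_surjective r hb) hX2 hZ2
      refine (injective_iff_map_eq_zero _).2 fun q hq => ?_
      obtain ⟨x, rfl⟩ := Submodule.Quotient.mk_surjective _ q
      rw [QuotSMulTop.map_apply_mk, Submodule.Quotient.mk_eq_zero, Submodule.mem_smul_pointwise_iff_exists] at hq
      obtain ⟨y, -, hy⟩ := hq
      have h0 : b y = 0 := hZ1 (show r • b y = r • (0 : Z) by
        rw [← map_smul, hy, hab.apply_apply_eq_zero, smul_zero])
      obtain ⟨x', rfl⟩ := (hab y).1 h0
      rw [← map_smul] at hy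
      rw [← ha hy]
      exact (Submodule.Quotient.mk_eq_zero _).2 (Submodule.smul_mem_pointwise_smul _ _ _ Submodule.mem_top)
  have power : ∀ (r : A) (rs : List A) (X : Type u) [AddCommGroup X] [Module A X], IsSMulRegular X r →
      RingTheory.Sequence.IsWeaklyRegular (QuotSMulTop r X) rs →
      ∀ w, RingTheory.Sequence.IsWeaklyRegular (QuotSMulTop (r ^ (w + 1)) X) rs := by
    intro r rs X _ _ hr hrs w
    induction w with
    | zero => rwa [zero_add, pow_one]
    | succ w ih =>
      let a : QuotSMulTop r X →ₗ[A] QuotSMulTop (r ^ (w + 1 + 1)) X :=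
        Submodule.mapQ (r • (⊤ : Submodule A X)) (r ^ (w + 1 + 1) • (⊤ : Submodule A X))
          (LinearMap.lsmul A X (r ^ (w + 1))) (by
          rintro x hx
          obtain ⟨y, -, rfl⟩ := (Submodule.mem_smul_pointwise_iff_exists _ _ _).1 hx
          rw [Submodule.mem_comap, LinearMap.lsmul_apply, smul_smul, ← pow_succ]
          exact Submodule.smul_mem_pointwise_smul _ _ _ Submodule.mem_top)
      let b : QuotSMulTop (r ^ (w + 1 + 1)) X →ₗ[A] QuotSMulTop (r ^ (w + 1)) X :=
        Submodule.mapQ (r ^ (w + 1 + 1) • (⊤ : Submodule A X)) (r ^ (w + 1) • (⊤ : Submodule A X))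
          (LinearMap.id (R := A) (M := X)) (by
          rintro x hx
          obtain ⟨y, -, rfl⟩ := (Submodule.mem_smul_pointwise_iff_exists _ _ _).1 hx
          rw [Submodule.mem_comap, LinearMap.id_apply, pow_succ r (w + 1), mul_smul]
          exact Submodule.smul_mem_pointwise_smul (r • y) (r ^ (w + 1)) (⊤ : Submodule A X) Submodule.mem_top)
      refine ext rs (QuotSMulTop r X) (QuotSMulTop (r ^ (w + 1 + 1)) X) (QuotSMulTop (r ^ (w + 1)) X) a b ?_ (fun q => ⟨fun hq => ?_, ?_⟩) ?_ hrs ih
      · refine (injective_iff_map_eq_zero _).2 fun q hq => ?_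
        obtain ⟨x, rfl⟩ := Submodule.Quotient.mk_surjective _ q
        have hq' : r ^ (w + 1) • x ∈ r ^ (w + 1 + 1) • (⊤ : Submodule A X) :=
          (Submodule.Quotient.mk_eq_zero _).1 hq
        obtain ⟨y, -, hy⟩ := (Submodule.mem_smul_pointwise_iff_exists _ _ _).1 hq'
        rw [pow_succ, mul_smul] at hy
        rw [← (hr.pow (w + 1)) hy]
        exact (Submodule.Quotient.mk_eq_zero _).2 (Submodule.smul_mem_pointwise_smul _ _ _ Submodule.mem_top)
      · obtain ⟨x, rfl⟩ := Submodule.Quotient.mk_surjective _ q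
        have hq' : x ∈ r ^ (w + 1) • (⊤ : Submodule A X) := (Submodule.Quotient.mk_eq_zero _).1 hq
        obtain ⟨y, -, rfl⟩ := (Submodule.mem_smul_pointwise_iff_exists _ _ _).1 hq'
        exact ⟨Submodule.Quotient.mk y, rfl⟩
      · rintro ⟨p, rfl⟩
        obtain ⟨y, rfl⟩ := Submodule.Quotient.mk_surjective _ p
        exact (Submodule.Quotient.mk_eq_zero _).2 (Submodule.smul_mem_pointwise_smul _ _ _ Submodule.mem_top)
      · intro q
        obtain ⟨x, rfl⟩ := Submodule.Quotient.mk_surjective _ q
        exact ⟨Submodule.Quotient.mk x, rfl⟩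
  have main : ∀ (l : List (A × ℕ)) (X : Type u) [AddCommGroup X] [Module A X], (∀ p ∈ l, 1 ≤ p.2) →
      RingTheory.Sequence.IsWeaklyRegular X (l.map Prod.fst) →
      RingTheory.Sequence.IsWeaklyRegular X (l.map fun p => p.1 ^ p.2) := by
    intro l
    induction l with
    | nil => intros; exact RingTheory.Sequence.IsWeaklyRegular.nil _ _
    | cons p l ih =>
      intro X _ _ hl h
      rw [List.map_cons] at h ⊢
      obtain ⟨h1, h2⟩ := (RingTheory.Sequence.isWeaklyRegular_cons_iff _ _ _).1 h
      obtain ⟨w, hw⟩ := Nat.exists_eq_add_of_le' (hl p (List.mem_cons_self ..))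
      refine RingTheory.Sequence.IsWeaklyRegular.cons (h1.pow _) ?_
      rw [hw]
      exact ih _ (fun q hq => hl q (List.mem_cons_of_mem _ hq)) (power _ _ _ h1 h2 w)
  have := main (List.ofFn fun i => (f i, v i)) M
    (fun p hp => by obtain ⟨i, rfl⟩ := List.mem_ofFn.1 hp; exact hv i)
    (by rw [List.map_ofFn]; exact hf)
  rw [List.map_ofFn] at this
  exact this

end Groth.Agent.S5776
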