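import Groth.Statements.S5777
import Groth.Agent.Lib.NormFlat.Criterion
import Groth.Agent.Lib.Flatness.Criterion
import Groth.Agent.Lib.HomDimCrit.Basic
import Mathlib

set_option autoImplicit false
universe u
open EGA41

namespace Groth.Agent.S5777

open TensorProduct in
/-- `Tor_1(A/J, M) = 0` for a regular sequence generating `J`. -/
theorem injective_lTensor_ofList {A M : Type u} [CommRing A] [AddCommGroup M] [Module A M] (rs : List A)
    (hM : RingTheory.Sequence.IsWeaklyRegular M rs) :
    Function.Injective ((Ideal.ofList rs).subtype.lTensor M) := by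
  let J := Ideal.ofList rs
  let d : (M →₀ A) →ₗ[A] M := Finsupp.linearCombination A id
  have hd : Function.Surjective d := Finsupp.linearCombination_surjective _ Function.surjective_id
  have hle := GrothLib.NormFlat.ker_inf_smul_le d hd rs hM
  have hc : Function.Injective ((LinearMap.ker d).subtype.lTensor (A ⧸ J)) := by
    rw [injective_iff_map_eq_zero]
    intro z
    have hsu : ∀ z : (A ⧸ J) ⊗[A] LinearMap.ker d, ∃ n : LinearMap.ker d, (1 : A ⧸ J) ⊗ₜ[A] n = z := fun z => by
      induction z with
      | zero => exact ⟨0, tmul_zero _ _⟩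
      | add a b ha hb =>
        obtain ⟨na, rfl⟩ := ha
        obtain ⟨nb, rfl⟩ := hb
        exact ⟨na + nb, tmul_add _ _ _⟩
      | tmul q n =>
        obtain ⟨q, rfl⟩ := Ideal.Quotient.mk_surjective q
        refine ⟨q • n, ?_⟩
        rw [← TensorProduct.smul_tmul, Algebra.smul_def, mul_one]
        rfl
    intro hz
    obtain ⟨n, rfl⟩ := hsu z
    rw [LinearMap.lTensor_tmul] at hz
    have key : ∀ (N : Type u) [AddCommGroup N] [Module A N] (m : N),
        (1 : A ⧸ J) ⊗ₜ[A] m = 0 ↔ m ∈ (J • ⊤ : Submodule A N) := fun N _ _ m => by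
      rw [← (TensorProduct.quotTensorEquivQuotSMul N J).map_eq_zero_iff,
        show (1 : A ⧸ J) = Ideal.Quotient.mk J 1 from rfl, TensorProduct.quotTensorEquivQuotSMul_mk_tmul, one_smul,
        Submodule.Quotient.mk_eq_zero]
    have h1 := hle ⟨n.2, (key _ _).1 hz⟩
    refine (key _ n).2 ?_
    have h2 : (n : M →₀ A) ∈ (J • ⊤ : Submodule A (LinearMap.ker d)).map (LinearMap.ker d).subtype := by
      rw [Submodule.map_smul'', Submodule.map_top, Submodule.range_subtype]
      exact h1
    obtain ⟨w, hw, he⟩ := h2
    rwa [← Subtype.val_injective he]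
  exact GrothLib.HomDimCrit.lTensor_injective_swap (A := J) (B := A) (C := A ⧸ J) (U := LinearMap.ker d)
    (V := M →₀ A) (W := M) (a := J.subtype) (b := Submodule.mkQ J) (c := (LinearMap.ker d).subtype) (d := d)
    Subtype.val_injective (LinearMap.exact_subtype_mkQ J) (Submodule.mkQ_surjective J)
    (LinearMap.exact_subtype_ker_map d) hd hc

open TensorProduct in
/-- The quotient module as a base change. -/
theorem exists_quot_equiv {A M : Type u} [CommRing A] [AddCommGroup M] [Module A M] (J : Ideal A) :
    Nonempty ((A ⧸ J) ⊗[A] M ≃ₗ[A ⧸ J] M ⧸ (J • ⊤ : Submodule A M)) :=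
  ⟨(TensorProduct.quotTensorEquivQuotSMul M J).extendScalarsOfSurjective Ideal.Quotient.mk_surjective⟩

/-- Let φ : A → B be a local homomorphism of Noetherian local rings, M a finitely generated B-module and
(f_i)_{1 ≤ i ≤ n} an A-regular sequence of elements of the maximal ideal of A, generating the ideal
J. Then M is flat over A if and only if M/JM is flat over A/J and (f_i) is an M-regular sequence. -/
theorem result (A B : Type u) [CommRing A] [CommRing B]
    [IsLocalRing A] [IsLocalRing B] [IsNoetherianRing A] [IsNoetherianRing B] [Algebra A B]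
    [IsLocalHom (algebraMap A B)] (M : Type u) [AddCommGroup M] [Module B M] [Module A M]
    [IsScalarTower A B M] [Module.Finite B M] (fs : List A) (hfs : ∀ f ∈ fs, f ∈ IsLocalRing.maximalIdeal A)
    (hA : RingTheory.Sequence.IsWeaklyRegular A fs) :
    Module.Flat A M ↔
      Module.Flat (A ⧸ Ideal.ofList fs) (M ⧸ (Ideal.ofList fs • (⊤ : Submodule A M))) ∧
        RingTheory.Sequence.IsWeaklyRegular M fs := by
  obtain ⟨e⟩ := exists_quot_equiv (A := A) (M := M) (Ideal.ofList fs)
  constructor
  · intro h
    refine ⟨Module.Flat.of_linearEquiv e.symm, ?_⟩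
    have := hA.isWeaklyRegular_lTensor (M₂ := M)
    exact ((TensorProduct.rid A M).isWeaklyRegular_congr fs).1 this
  · rintro ⟨h1, h2⟩
    refine GrothLib.Flatness.flat_of_localCriterion (S := B) (Ideal.ofList fs) ?_ (injective_lTensor_ofList fs h2) ?_
    · refine (Ideal.map_mono (Ideal.span_le.2 hfs)).trans ?_
      have hK : (IsLocalRing.maximalIdeal A).map (algebraMap A B) ≤ IsLocalRing.maximalIdeal B :=
        ((IsLocalRing.local_hom_TFAE (algebraMap A B)).out 0 2).1 (inferInstance : IsLocalHom (algebraMap A B))
      exact hK.trans (IsLocalRing.maximalIdeal_le_jacobson ⊥)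
    · exact Module.Flat.of_linearEquiv e

end Groth.Agent.S5777
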