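import Groth.Statements.S5778
import Groth.Agent.Lib.HilbSam.Regular
import Groth.Agent.Lib.HilbSam.Asymp
import Mathlib.Algebra.Module.SpanRankOperations

set_option autoImplicit false
universe u
open EGA41

namespace Groth.Agent.S5778

open Polynomial in
theorem natDegree_binomPoly (k : ℕ) : (GrothLib.HilbSam.binomPoly k).natDegree = k := by
  induction k with
  | zero => simp [GrothLib.HilbSam.binomPoly]
  | succ k ih =>
    have hne : GrothLib.HilbSam.binomPoly k ≠ 0 := fun h => by
      have := GrothLib.HilbSam.eval_binomPoly 0 k
      rw [h] at this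
      simp at this
    have hc : ((k : ℚ) + 1)⁻¹ ≠ 0 := inv_ne_zero (by positivity)
    rw [GrothLib.HilbSam.binomPoly, natDegree_mul_C hc, natDegree_mul hne (X_add_C_ne_zero _), ih, natDegree_X_add_C]

/-- Let A be a Noetherian local ring with maximal ideal m, residue field k, and let r be the dimension
of the k-vector space m/m². Then A is regular if and only if the canonical surjection of graded
k-algebras from the symmetric algebra of m/m² onto the associated graded ring of A for the m-adic
filtration is bijective. Since that surjection is bijective exactly when source and target have the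
same length in every degree, the condition is expressed here as: length_A(A/m^(s+1)) equals the
binomial coefficient C(s+r, r) for every s ≥ 0. -/
theorem result (A : Type u) [CommRing A] [IsLocalRing A]
    [IsNoetherianRing A] :
    IsRegularLocalRing A ↔
      ∀ s : ℕ, Module.length A (A ⧸ IsLocalRing.maximalIdeal A ^ (s + 1)) =
        ((s + Module.finrank (IsLocalRing.ResidueField A) (IsLocalRing.CotangentSpace A)).choose s : ℕ∞) := by
  constructor
  · intro h s
    have hd : ringKrullDim A = (IsLocalRing.maximalIdeal A).spanFinrank :=
      IsRegularLocalRing.spanFinrank_maximalIdeal.symm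
    rw [GrothLib.HilbSam.length_quotient_maximalIdeal_pow hd (s + 1) (Nat.succ_pos s),
      IsLocalRing.spanFinrank_maximalIdeal_eq_finrank_cotangentSpace]
    congr 1
    rw [show s + 1 + Module.finrank (IsLocalRing.ResidueField A) (IsLocalRing.CotangentSpace A) - 1 =
      s + Module.finrank (IsLocalRing.ResidueField A) (IsLocalRing.CotangentSpace A) by omega]
    exact Nat.choose_symm_add.symm
  · intro h
    set r := Module.finrank (IsLocalRing.ResidueField A) (IsLocalRing.CotangentSpace A) with hr
    have hI : IsLocalRing.maximalIdeal A ≤ Ring.jacobson A := by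
      rw [Ring.jacobson_eq_sInf_isMaximal]
      exact le_sInf fun J hJ => (IsLocalRing.eq_maximalIdeal hJ).ge
    have hdef : GrothLib.HilbSam.IsDefining (IsLocalRing.maximalIdeal A) A :=
      GrothLib.HilbSam.IsDefining.of_pow_le (n := 1) (pow_one _).le A
    have hP : ∀ᶠ t : ℕ in Filter.atTop, (GrothLib.HilbSam.samuel (IsLocalRing.maximalIdeal A) A t : ℚ) =
        ((GrothLib.HilbSam.binomPoly r).comp (Polynomial.X - Polynomial.C 1)).eval (t : ℚ) := by
      filter_upwards [Filter.eventually_ge_atTop 1] with t ht
      obtain ⟨s, rfl⟩ := Nat.exists_eq_add_of_le' ht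
      rw [GrothLib.HilbSam.samuel_self, GrothLib.HilbSam.len, h s, ENat.toNat_natCast, Polynomial.eval_comp,
        Polynomial.eval_sub, Polynomial.eval_X, Polynomial.eval_C]
      push_cast
      rw [add_sub_cancel_right, GrothLib.HilbSam.eval_binomPoly, Nat.choose_symm_add]
    have hdeg := GrothLib.HilbSam.natDegree_eq_supportDim hI hdef hP
    rw [Polynomial.natDegree_comp, Polynomial.natDegree_X_sub_C, mul_one, natDegree_binomPoly,
      Module.supportDim_self_eq_ringKrullDim] at hdeg
    refine IsRegularLocalRing.of_spanFinrank_maximalIdeal_le _ ?_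
    rw [IsLocalRing.spanFinrank_maximalIdeal_eq_finrank_cotangentSpace, ← hr, ← hdeg]

end Groth.Agent.S5778
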