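import Groth.Statements.S5780
import Mathlib

set_option autoImplicit false
universe u
open EGA41

namespace Groth.Agent.S5780

/-- Let A be a Noetherian local ring with maximal ideal m. If every element of m which is not in m² is a
zero divisor in A, then there is a nonzero c in A with c m = 0, i.e. m is an associated prime of A. -/
theorem result (A : Type u) [CommRing A]
    [IsLocalRing A] [IsNoetherianRing A]
    (h : ∀ a ∈ IsLocalRing.maximalIdeal A, a ∉ IsLocalRing.maximalIdeal A ^ 2 → ¬ IsSMulRegular A a) :
    IsLocalRing.maximalIdeal A ∈ associatedPrimes A A := by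
  classical
  by_contra hm
  have hfin := associatedPrimes.finite A A
  have hsub : (IsLocalRing.maximalIdeal A : Set A) ⊆
      ⋃ P ∈ insert (IsLocalRing.maximalIdeal A ^ 2) hfin.toFinset, (P : Set A) := fun a ha => by
    simp only [Set.mem_iUnion, Finset.mem_insert, exists_prop]
    by_cases h2 : a ∈ IsLocalRing.maximalIdeal A ^ 2
    · exact ⟨_, Or.inl rfl, h2⟩
    · have h3 := h a ha h2
      have h4 : a ∈ ⋃ P ∈ associatedPrimes A A, (P : Set A) := by
        rw [biUnion_associatedPrimes_eq_compl_regular A A]
        exact h3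
      simp only [Set.mem_iUnion, exists_prop] at h4
      obtain ⟨P, hP, haP⟩ := h4
      exact ⟨P, Or.inr (hfin.mem_toFinset.2 hP), haP⟩
  obtain ⟨P, hP, hle⟩ := (Ideal.subset_union_prime (IsLocalRing.maximalIdeal A ^ 2) (IsLocalRing.maximalIdeal A ^ 2)
    (s := insert (IsLocalRing.maximalIdeal A ^ 2) hfin.toFinset) (f := id) fun P hP h1 _ => by
      rcases Finset.mem_insert.1 hP with rfl | hP
      · exact absurd rfl h1
      · exact (hfin.mem_toFinset.1 hP).isPrime).1 hsub
  rcases Finset.mem_insert.1 hP with rfl | hP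
  · have hb : IsLocalRing.maximalIdeal A = ⊥ := by
      refine Submodule.eq_bot_of_le_smul_of_le_jacobson_bot (IsLocalRing.maximalIdeal A) _
        (IsNoetherian.noetherian _) ?_ (IsLocalRing.maximalIdeal_le_jacobson ⊥)
      rw [smul_eq_mul, ← pow_two]; exact hle
    obtain ⟨P, hP⟩ := associatedPrimes.nonempty A A
    refine hm ?_
    rwa [hb, ← le_bot_iff.1 (hb ▸ IsLocalRing.le_maximalIdeal hP.isPrime.ne_top)]
  · have hP' := hfin.mem_toFinset.1 hP
    exact hm ((le_antisymm hle (IsLocalRing.le_maximalIdeal hP'.isPrime.ne_top)) ▸ hP')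

end Groth.Agent.S5780
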