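import Groth.Statements.S5781
import Mathlib

set_option autoImplicit false
universe u
open EGA41

namespace Groth.Agent.S5781

open scoped Pointwise


/-- Suppose A is a Noetherian local ring whose maximal ideal is m, and take a ∈ m with a ∉ m². Then the
quotient m/am contains a direct summand isomorphic to m/Aa: concretely, one can find A-linear maps f
: m/Aa → m/am and g : m/am → m/Aa such that g ∘ f is the identity. -/
theorem result (A : Type u) [CommRing A] [IsLocalRing A]
    [IsNoetherianRing A] (a : A) (ha : a ∈ IsLocalRing.maximalIdeal A) (ha2 : a ∉ IsLocalRing.maximalIdeal A ^ 2) :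
    ∃ (f : (↥(IsLocalRing.maximalIdeal A) ⧸ Submodule.span A {(⟨a, ha⟩ : ↥(IsLocalRing.maximalIdeal A))}) →ₗ[A]
          QuotSMulTop a ↥(IsLocalRing.maximalIdeal A))
      (g : QuotSMulTop a ↥(IsLocalRing.maximalIdeal A) →ₗ[A]
          (↥(IsLocalRing.maximalIdeal A) ⧸ Submodule.span A {(⟨a, ha⟩ : ↥(IsLocalRing.maximalIdeal A))})),
      g.comp f = LinearMap.id := by
  let m := IsLocalRing.maximalIdeal A
  have hne : (IsLocalRing.maximalIdeal A).toCotangent ⟨a, ha⟩ ≠ 0 := fun h =>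
    ha2 ((Ideal.toCotangent_eq_zero _ _).1 h)
  obtain ⟨φ₀, hφ₀⟩ : ∃ φ : Module.Dual (IsLocalRing.ResidueField A) (IsLocalRing.CotangentSpace A),
      φ ((IsLocalRing.maximalIdeal A).toCotangent ⟨a, ha⟩) ≠ 0 := by
    by_contra hcon
    push Not at hcon
    exact hne ((Module.forall_dual_apply_eq_zero_iff (IsLocalRing.ResidueField A) _).1 hcon)
  obtain ⟨φ, hφ⟩ : ∃ φ : Module.Dual (IsLocalRing.ResidueField A) (IsLocalRing.CotangentSpace A),
      φ ((IsLocalRing.maximalIdeal A).toCotangent ⟨a, ha⟩) = 1 :=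
    ⟨(φ₀ ((IsLocalRing.maximalIdeal A).toCotangent ⟨a, ha⟩))⁻¹ • φ₀, by
      rw [LinearMap.smul_apply, smul_eq_mul, inv_mul_cancel₀ hφ₀]⟩
  let x₀ : IsLocalRing.maximalIdeal A := ⟨a, ha⟩
  let ψ : IsLocalRing.maximalIdeal A →ₗ[A] A ⧸ IsLocalRing.maximalIdeal A :=
    (φ.restrictScalars A) ∘ₗ (IsLocalRing.maximalIdeal A).toCotangent
  let η : A ⧸ IsLocalRing.maximalIdeal A →ₗ[A] QuotSMulTop a ↥(IsLocalRing.maximalIdeal A) :=
    (IsLocalRing.maximalIdeal A).liftQ (LinearMap.toSpanSingleton A _ (Submodule.Quotient.mk x₀))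
      (fun r hr => by
        rw [LinearMap.mem_ker, LinearMap.toSpanSingleton_apply, ← Submodule.Quotient.mk_smul,
          Submodule.Quotient.mk_eq_zero, Submodule.mem_smul_pointwise_iff_exists]
        exact ⟨⟨r, hr⟩, trivial, Subtype.ext (mul_comm a r)⟩)
  have hψ : ψ x₀ = Submodule.Quotient.mk 1 := hφ
  have hη : η (ψ x₀) = Submodule.Quotient.mk x₀ := by
    rw [hψ]
    exact (Submodule.liftQ_apply _ _ _).trans (one_smul _ _)
  let F : IsLocalRing.maximalIdeal A →ₗ[A] QuotSMulTop a ↥(IsLocalRing.maximalIdeal A) :=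
    Submodule.mkQ _ - η ∘ₗ ψ
  have hF : Submodule.span A {x₀} ≤ LinearMap.ker F := by
    rw [Submodule.span_le, Set.singleton_subset_iff]
    show Submodule.Quotient.mk x₀ - η (ψ x₀) = 0
    rw [hη, sub_self]
  let g : QuotSMulTop a ↥(IsLocalRing.maximalIdeal A) →ₗ[A]
      (↥(IsLocalRing.maximalIdeal A) ⧸ Submodule.span A {x₀}) :=
    Submodule.liftQ _ (Submodule.mkQ _) (fun x hx => by
      rw [Submodule.mem_smul_pointwise_iff_exists] at hx
      obtain ⟨y, -, rfl⟩ := hx
      rw [Submodule.ker_mkQ, Submodule.mem_span_singleton]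
      exact ⟨(y : A), Subtype.ext (mul_comm (y : A) a)⟩)
  refine ⟨(Submodule.span A {x₀}).liftQ F hF, g, ?_⟩
  refine Submodule.linearMap_qext _ (LinearMap.ext fun x => ?_)
  obtain ⟨r, hr⟩ := Submodule.Quotient.mk_surjective _ (ψ x)
  show g (Submodule.Quotient.mk x - η (ψ x)) = Submodule.Quotient.mk x
  rw [map_sub, ← hr]
  show Submodule.Quotient.mk x - g (r • Submodule.Quotient.mk x₀) = Submodule.Quotient.mk x
  rw [map_smul]
  show Submodule.Quotient.mk x - r • Submodule.Quotient.mk x₀ = Submodule.Quotient.mk x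
  rw [show (Submodule.Quotient.mk x₀ : ↥(IsLocalRing.maximalIdeal A) ⧸ Submodule.span A {x₀}) = 0 from
    (Submodule.Quotient.mk_eq_zero _).2 (Submodule.mem_span_singleton_self x₀), smul_zero, sub_zero]

end Groth.Agent.S5781
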