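import Groth.Statements.S5782
import Groth.Agent.Lib.Serre.Basic
import Mathlib

set_option autoImplicit false
universe u
open CategoryTheory
open EGA41

namespace Groth.Agent.S5782

open TensorProduct in
/-- The quotient module as a base change. -/
theorem exists_quot_equiv {A M : Type u} [CommRing A] [AddCommGroup M] [Module A M] (J : Ideal A) :
    Nonempty ((A ⧸ J) ⊗[A] M ≃ₗ[A ⧸ J] M ⧸ (J • ⊤ : Submodule A M)) :=
  ⟨(TensorProduct.quotTensorEquivQuotSMul M J).extendScalarsOfSurjective Ideal.Quotient.mk_surjective⟩

/-- Let A be a Noetherian local ring with maximal ideal m, E a finitely generated A-module of finite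
projective dimension, and a ∈ m an element which is A-regular and E-regular. Then E/aE, as a module
over A/aA, has finite projective dimension at most the projective dimension of E over A. -/
theorem result (A : Type u) [CommRing A] [IsLocalRing A]
    [IsNoetherianRing A] (E : Type u) [AddCommGroup E] [Module A E] [Module.Finite A E]
    (hfin : projectiveDimension (ModuleCat.of A E) ≠ ⊤) (a : A) (ha : a ∈ IsLocalRing.maximalIdeal A)
    (hA : IsSMulRegular A a) (hE : IsSMulRegular E a) :
    projectiveDimension (ModuleCat.of (A ⧸ Ideal.span {a}) (E ⧸ (Ideal.span {a} • (⊤ : Submodule A E)))) ≤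
      projectiveDimension (ModuleCat.of A E) := by
  refine le_of_forall_ge fun N hN => ?_
  induction N with
  | bot =>
    haveI : Subsingleton E := by
      have := (projectiveDimension_eq_bot_iff _).1 (le_bot_iff.1 hN)
      exact ModuleCat.subsingleton_of_isZero this
    rw [le_bot_iff, projectiveDimension_eq_bot_iff]
    exact ModuleCat.isZero_of_subsingleton _
  | coe d =>
    induction d with
    | top => exact le_top
    | coe n =>
      change _ ≤ ((n : ℕ∞) : WithBot ℕ∞) at hN ⊢
      have hN' : GrothLib.Serre.PdLE A E n := (projectiveDimension_le_iff _ n).1 hN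
      have h := (GrothLib.Serre.pdLE_quotient_iff ha hA n hE).1 hN'
      obtain ⟨e⟩ := exists_quot_equiv (A := A) (M := E) (Ideal.span {a})
      exact (projectiveDimension_le_iff _ n).2 ((GrothLib.Serre.pdLE_congr e n).1 h)

end Groth.Agent.S5782
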