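import Groth.Statements.S5783
import Groth.Agent.Lib.HB26.MCM
import Groth.Agent.Lib.CMFree.FiniteFlat
import Groth.Agent.Lib.Depth.CM
import Groth.Agent.Lib.Dim.Ring
import Mathlib

set_option autoImplicit false
universe u
open EGA41

namespace Groth.Agent.S5783

/-- Let A be a regular local ring, B a local ring and ρ : A → B a local homomorphism making B a finitely
generated A-module. Then B is a free A-module if and only if B is a Cohen-Macaulay ring and ρ is
injective (the latter being equivalent to dim(B) = dim(A)). -/
theorem result (A B : Type u) [CommRing A] [CommRing B]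
    [IsRegularLocalRing A] [IsLocalRing B] [Algebra A B] [IsLocalHom (algebraMap A B)] [Module.Finite A B] :
    Module.Free A B ↔ LocCoh.IsCohenMacaulayLocalRing B ∧ Function.Injective (algebraMap A B) := by
  classical
  haveI : IsNoetherianRing B := IsNoetherianRing.of_finite A B
  haveI : Algebra.IsIntegral A B := Algebra.IsIntegral.of_finite A B
  obtain ⟨rs, h1, h2, h3⟩ := GrothLib.CMFree.exists_weaklyRegular_of_isRegularLocalRing A
  have hm : ∀ r ∈ rs.map (algebraMap A B), r ∈ IsLocalRing.maximalIdeal B := fun r hr => by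
    obtain ⟨a, ha, rfl⟩ := List.mem_map.1 hr
    exact (IsLocalRing.mem_maximalIdeal _).2 fun hu => (IsLocalRing.mem_maximalIdeal _).1 (h2 a ha) (isUnit_of_map_unit _ _ hu)
  constructor
  · intro hfree
    have hinj : Function.Injective (algebraMap A B) := by
      let b := Module.Free.chooseBasis A B
      haveI : Nonempty (Module.Free.ChooseBasisIndex A B) := b.index_nonempty
      exact (faithfulSMul_iff_algebraMap_injective A B).1 inferInstance
    refine ⟨GrothLib.CMFree.isCohenMacaulayLocalRing_of_weaklyRegular B (rs.map (algebraMap A B)) h1.of_flat hm ?_, hinj⟩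
    rw [GrothLib.Dim.ringKrullDim_eq_of_isIntegral (R := A) (S := B) hinj, List.length_map]
    exact h3.ge
  · rintro ⟨hCM, hinj⟩
    have hdim : ringKrullDim B = rs.length :=
      (GrothLib.Dim.ringKrullDim_eq_of_isIntegral (R := A) (S := B) hinj).trans h3.symm
    let I : Ideal B := Ideal.ofList (rs.map (algebraMap A B))
    have hI : I ≤ IsLocalRing.maximalIdeal B := Ideal.span_le.2 hm
    have hI' : I ≠ ⊤ := fun e => (IsLocalRing.maximalIdeal.isMaximal B).ne_top (top_le_iff.1 (e.ge.trans hI))
    have hJ0 : Ring.KrullDimLE 0 (A ⧸ Ideal.ofList rs) := by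
      haveI : Nontrivial (A ⧸ Ideal.ofList rs) := Ideal.Quotient.nontrivial_iff.2 fun e =>
        (IsLocalRing.maximalIdeal.isMaximal A).ne_top (top_le_iff.1 (e.ge.trans (Ideal.span_le.2 h2)))
      rw [ringKrullDimZero_iff_ringKrullDim_eq_zero]
      have h := ringKrullDim_add_length_eq_ringKrullDim_of_isRegular rs
        ((IsLocalRing.isRegular_iff_isWeaklyRegular_of_subset_maximalIdeal h2).2 h1)
      rw [← h3] at h
      have hle : ringKrullDim (A ⧸ Ideal.ofList rs) ≤ 0 := by
        by_contra hc
        rw [not_le] at hc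
        have := Order.succ_le_of_lt hc
        generalize ringKrullDim (A ⧸ Ideal.ofList rs) = x at h hc
        induction x with
        | bot => simp at hc
        | coe x =>
          induction x with
          | top =>
            have h' : ((⊤ + (rs.length : ℕ∞) : ℕ∞) : WithBot ℕ∞) = ((rs.length : ℕ∞) : WithBot ℕ∞) := h
            rw [top_add, WithBot.coe_inj] at h'
            exact absurd h'.symm (ENat.natCast_ne_top _)
          | coe x => norm_cast at h hc; omega
      exact le_antisymm hle ringKrullDim_nonneg_of_nontrivial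
    have hCMm : LocCoh.IsCohenMacaulayModule B B := hCM.supportDim_eq_depth
    have hprimary : ∀ P : Ideal B, P.IsPrime → I ≤ P → P.IsMaximal := fun P hP hIP => by
      have hmin : Ideal.ofList rs ≤ P.comap (algebraMap A B) := Ideal.span_le.2 fun a ha =>
        hIP (Ideal.subset_span (List.mem_map_of_mem ha))
      haveI hp' : ((P.comap (algebraMap A B)).map (Ideal.Quotient.mk (Ideal.ofList rs))).IsPrime :=
        Ideal.map_isPrime_of_surjective Ideal.Quotient.mk_surjective (by rwa [Ideal.mk_ker])
      haveI := Ring.krullDimLE_zero_iff.1 hJ0 _ hp'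
      haveI : (P.comap (algebraMap A B)).IsMaximal := by
        have h' := Ideal.comap_isMaximal_of_surjective (Ideal.Quotient.mk (Ideal.ofList rs)) Ideal.Quotient.mk_surjective
          (K := (P.comap (algebraMap A B)).map (Ideal.Quotient.mk (Ideal.ofList rs)))
        rwa [Ideal.comap_map_of_surjective _ Ideal.Quotient.mk_surjective, ← RingHom.ker_eq_comap_bot, Ideal.mk_ker,
          sup_eq_left.2 hmin] at h'
      exact Ideal.isMaximal_of_isIntegral_of_isMaximal_comap P this
    obtain ⟨t, ht⟩ := ENat.ne_top_iff_exists.1 (GrothLib.Depth.idealDepth_ne_top (M := B) hI')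
    have hkey := GrothLib.Depth.supportDim_eq_add_idealDepth t hI' B hCMm ht.symm
    rw [Module.supportDim_self_eq_ringKrullDim, hdim, smul_eq_mul, Ideal.mul_top,
      Module.supportDim_quotient_eq_ringKrullDim] at hkey
    haveI : Nontrivial (B ⧸ I) := Ideal.Quotient.nontrivial_iff.2 hI'
    haveI : Ring.KrullDimLE 0 (B ⧸ I) := Ring.krullDimLE_zero_iff.2 fun Q hQ => by
      have h := hprimary (Q.comap (Ideal.Quotient.mk I)) (Ideal.comap_isPrime _ _) fun x hx => by
        show Ideal.Quotient.mk I x ∈ Q
        rw [Ideal.Quotient.eq_zero_iff_mem.2 hx]; exact Q.zero_mem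
      rw [← Ideal.map_comap_of_surjective _ Ideal.Quotient.mk_surjective Q]
      exact Ideal.IsMaximal.map_of_surjective_of_ker_le Ideal.Quotient.mk_surjective
        (Ideal.mk_ker.le.trans fun x hx => show Ideal.Quotient.mk I x ∈ Q by
          rw [Ideal.Quotient.eq_zero_iff_mem.2 hx]; exact Q.zero_mem)
    rw [ringKrullDimZero_iff_ringKrullDim_eq_zero.1 inferInstance, zero_add] at hkey
    have hreg : RingTheory.Sequence.IsWeaklyRegular B (rs.map (algebraMap A B)) :=
      GrothLib.Depth.isWeaklyRegular_of_le_idealDepth _ hm (by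
        rw [List.length_map, ← ht]
        exact le_of_eq (by exact_mod_cast hkey))
    rw [RingTheory.Sequence.isWeaklyRegular_map_algebraMap_iff] at hreg
    refine GrothLib.HB26.free_of_depth_ge_dim A B rs.length h3.symm ?_
    refine (GrothLib.Depth.le_idealDepth_iff_exists _ ?_ _).2 ⟨rs, rfl, h2, hreg⟩
    exact GrothLib.Depth.smul_top_ne_top (IsLocalRing.maximalIdeal.isMaximal A).ne_top

end Groth.Agent.S5783
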