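import Groth.Statements.S5786
import Groth.Agent.Lib.HomDimCrit.Basic
import Mathlib

set_option autoImplicit false
universe u
open CategoryTheory
open EGA41

namespace Groth.Agent.S5786

/-- Let φ : A → B be a local homomorphism of Noetherian local rings making B a flat A-module. Then the
global (cohomological) dimension of A is at most that of B: if every B-module has projective
dimension at most n, then so does every A-module. -/
theorem result (A B : Type u) [CommRing A] [CommRing B] [IsLocalRing A]
    [IsLocalRing B] [IsNoetherianRing A] [IsNoetherianRing B] [Algebra A B] [IsLocalHom (algebraMap A B)]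
    [Module.Flat A B] (n : ℕ)
    (hB : ∀ (N : Type u) [AddCommGroup N] [Module B N], HasProjectiveDimensionLT (ModuleCat.of B N) (n + 1))
    (M : Type u) [AddCommGroup M] [Module A M] : HasProjectiveDimensionLT (ModuleCat.of A M) (n + 1) := by
  haveI : Module.FaithfullyFlat A B := Module.FaithfullyFlat.of_flat_of_isLocalHom
  exact GrothLib.HomDimCrit.pdLE_of_forall_cyclic n
    (fun I => GrothLib.Serre.pdLE_of_faithfullyFlat B n (hB (TensorProduct A B (A ⧸ I)))) M

end Groth.Agent.S5786
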