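import Groth.Statements.S5787
import Groth.Agent.Lib.FundIso27.Alg

set_option autoImplicit false
universe u
open CategoryTheory
open EGA41

namespace Groth.Agent.S5787

open RingTheory.Sequence CategoryTheory.Abelian in
theorem ext_equiv (A : Type u) [CommRing A] (Q : ModuleCat.{u} A) : ∀ (rs : List A) (M : ModuleCat.{u} A),
    (∀ r ∈ rs, r ∈ Module.annihilator A Q) → IsWeaklyRegular M rs →
      Nonempty ((Q →ₗ[A] (M ⧸ (Ideal.ofList rs • ⊤ : Submodule A M))) ≃+ Ext Q M rs.length)
  | [], M, _, _ => by
    let e : (M ⧸ (Ideal.ofList ([] : List A) • ⊤ : Submodule A M)) ≃ₗ[A] M :=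
      Submodule.quotEquivOfEqBot _ (by simp)
    exact ⟨((LinearEquiv.congrRight e).toAddEquiv).trans
      ((ModuleCat.homAddEquiv (M := Q) (N := M)).symm.trans Ext.addEquiv₀.symm)⟩
  | a :: rs', M, hmem, hreg => by
    have hall := hreg
    simp only [isWeaklyRegular_cons_iff] at hreg
    simp only [List.mem_cons, forall_eq_or_imp] at hmem
    obtain ⟨e⟩ := ext_equiv A Q rs' (ModuleCat.of A (QuotSMulTop a M)) hmem.2 hreg.2
    have hS := hreg.1.smulShortComplex_shortExact (M := M)
    let δ : Ext Q (ModuleCat.of A (QuotSMulTop a M)) rs'.length →+ Ext Q M (rs'.length + 1) :=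
      AddMonoidHom.mk' (fun x => x.comp hS.extClass rfl) (fun x y => Ext.add_comp _ _ _ _)
    have hδ : Function.Bijective δ := by
      refine ⟨(injective_iff_map_eq_zero δ).2 fun x hx => ?_, fun y => ?_⟩
      · obtain ⟨z, rfl⟩ := Ext.covariant_sequence_exact₃ Q hS x rfl hx
        haveI := GrothLib.FundIso27.subsingleton_ext_of_weaklyRegular Q (a :: rs') M
          (by simp only [List.mem_cons, forall_eq_or_imp]; exact hmem) hall rs'.length (by simp)
        rw [@Subsingleton.elim _ this z 0]
        exact Ext.zero_comp Q _ _ _ _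
      · have h0 : y.comp (Ext.mk₀ (ModuleCat.smulShortComplex M a).f) (add_zero _) = 0 := by
          have hz := Ext.postcomp_smul_id_eq_zero_of_mem_annihilator (M := M) (N := Q) hmem.1 (rs'.length + 1)
          simp only [ModuleCat.smulShortComplex_f_eq_smul_id]
          exact ConcreteCategory.congr_hom hz y
        obtain ⟨x, hx⟩ := Ext.covariant_sequence_exact₁ Q hS y h0 rfl
        exact ⟨x, hx⟩
    exact ⟨((LinearEquiv.congrRight
      (Submodule.quotOfListConsSMulTopEquivQuotSMulTopInner (M := M) a rs')).toAddEquiv).trans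
        (e.trans (AddEquiv.ofBijective δ hδ))⟩

/-- Let A be a Noetherian local ring with maximal ideal m and residue field k, M an A-module and
(x_i)_{1 ≤ i ≤ n} an M-regular sequence of elements of m. Then Hom_A(k, M/(x_1 M + ... + x_n M)) and
Ext^n_A(k, M) are isomorphic (existence of an isomorphism; stated for the underlying abelian
groups). -/
theorem result (A : Type u) [CommRing A] [IsLocalRing A]
    [IsNoetherianRing A] (M : Type u) [AddCommGroup M] [Module A M] (xs : List A)
    (hxs : ∀ x ∈ xs, x ∈ IsLocalRing.maximalIdeal A) (hreg : RingTheory.Sequence.IsWeaklyRegular M xs) :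
    Nonempty ((IsLocalRing.ResidueField A →ₗ[A] (M ⧸ (Ideal.ofList xs • (⊤ : Submodule A M)))) ≃+
      Abelian.Ext (ModuleCat.of A (IsLocalRing.ResidueField A)) (ModuleCat.of A M) xs.length) := by
  exact ext_equiv A (ModuleCat.of A (IsLocalRing.ResidueField A)) xs (ModuleCat.of A M) (fun r hr => by
    rw [Module.mem_annihilator]
    intro m
    obtain ⟨m, rfl⟩ := IsLocalRing.residue_surjective m
    rw [Algebra.smul_def, show algebraMap A (IsLocalRing.ResidueField A) r = 0 from
      (IsLocalRing.residue_eq_zero_iff r).2 (hxs r hr), zero_mul]) hreg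

end Groth.Agent.S5787
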