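import Groth.Statements.S5793
import Groth.Agent.Lib.NoethTop.KrullDim

set_option autoImplicit false
universe u
open TopDim

namespace Groth.Agent.S5793

/-- Let X be a Noetherian Kolmogoroff space. Then dim(X) = sup dim_x(X), the supremum being over the
closed points x of X only. -/
theorem result (X : Type u) [TopologicalSpace X]
    [TopologicalSpace.NoetherianSpace X] [T0Space X] :
    topologicalKrullDim X = ⨆ x ∈ {x : X | IsClosed ({x} : Set X)}, FlatMor.localDim X x := by
  refine le_antisymm (GrothLib.NoethTop.dim_le_iff.2 fun l => ?_)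
    (iSup₂_le fun x _ => GrothLib.NoethTop.localDim_le_dim x)
  obtain ⟨x, hx, hc⟩ := GrothLib.NoethTop.exists_closed_point l.head
  exact (GrothLib.NoethTop.length_le_localDim l hx).trans
    (le_iSup₂ (f := fun x (_ : x ∈ {x : X | IsClosed ({x} : Set X)}) => FlatMor.localDim X x) x hc)

end Groth.Agent.S5793
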