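import Groth.Statements.S5795
import Groth.Agent.Lib.NoethTop.KrullDim

set_option autoImplicit false
universe u
open TopDim

namespace Groth.Agent.S5795

/-- Let X be a Noetherian Kolmogoroff space and x a point of X. Then x is isolated in X if and only if
dim_x(X) = 0. -/
theorem result (X : Type u) [TopologicalSpace X]
    [TopologicalSpace.NoetherianSpace X] [T0Space X] (x : X) :
    IsOpen ({x} : Set X) ↔ FlatMor.localDim X x = 0 := by
  have h0 : ∀ U : TopologicalSpace.Opens X, x ∈ U → 0 ≤ topologicalKrullDim (U : Set X) := fun U hU =>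
    Order.krullDim_nonneg_iff.2 ⟨⟨closure {⟨x, hU⟩}, isIrreducible_singleton.closure, isClosed_closure⟩⟩
  constructor
  · intro h
    refine le_antisymm ?_ (le_iInf fun U => h0 U.1 U.2)
    exact (GrothLib.NoethTop.localDim_le ⟨{x}, h⟩ rfl).trans
      (topologicalKrullDim_zero_of_discreteTopology ({x} : Set X))
  · intro h
    obtain ⟨U, hxU, hU⟩ := GrothLib.NoethTop.exists_localDim_eq x
    haveI := (GrothLib.NoethTop.finite_discrete_of_dim_le_zero (X := (U : Set X)) (hU.trans h).le).2
    have := U.2.isOpenMap_subtype_val _ (isOpen_discrete ({⟨x, hxU⟩} : Set (U : Set X)))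
    rwa [Set.image_singleton] at this

end Groth.Agent.S5795
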