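import Groth.Statements.S5796
import Groth.Agent.Lib.NoethTop.KrullDim

set_option autoImplicit false
universe u
open TopDim

namespace Groth.Agent.S5796

/-- For any topological space X, the function x ↦ dim_x(X) is upper semicontinuous on X. -/
theorem result (X : Type u) [TopologicalSpace X] :
    UpperSemicontinuous fun x : X => FlatMor.localDim X x := by
  intro x t ht
  obtain ⟨U, hxU, hU⟩ := GrothLib.NoethTop.exists_localDim_eq x
  exact Filter.eventually_of_mem (U.2.mem_nhds hxU) fun y hy =>
    lt_of_le_of_lt ((GrothLib.NoethTop.localDim_le U hy).trans hU.le) ht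

end Groth.Agent.S5796
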