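import Groth.Statements.S5800
import Groth.Agent.Lib.NoethTop.KrullDim

set_option autoImplicit false
universe u
open TopDim

namespace Groth.Agent.S5800

/-- Let X be a topological space, x a point of X and (Y_i) a finite family of closed subsets each
containing x whose union is X. Then dim_x(X) = sup_i dim_x(Y_i). (The published statement lets the
Y_i be closed subsets of a neighbourhood U of x covering U; this row is the case U = X.) -/
theorem result (X : Type u) [TopologicalSpace X] (x : X)
    (ι : Type u) [Finite ι] (Y : ι → Set X) (hY : ∀ i, IsClosed (Y i)) (hx : ∀ i, x ∈ Y i)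
    (hcov : ⋃ i, Y i = Set.univ) :
    FlatMor.localDim X x = ⨆ i, FlatMor.localDim (Y i) ⟨x, hx i⟩ := by
  refine le_antisymm ?_ (iSup_le fun i => le_iInf fun U => ?_)
  · choose V hxV hV using fun i => GrothLib.NoethTop.exists_localDim_eq (X := Y i) ⟨x, hx i⟩
    choose O hO hOV using fun i => isOpen_induced_iff.1 (V i).2
    let W : TopologicalSpace.Opens X := ⟨⋂ i, O i, isOpen_iInter_of_finite hO⟩
    have hxW : x ∈ W := Set.mem_iInter.2 fun i => (hOV i).symm.le (hxV i)
    refine (GrothLib.NoethTop.localDim_le W hxW).trans ?_
    rw [GrothLib.NoethTop.dim_eq_iSup_of_locallyFinite_closed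
      (fun i => (Subtype.val : ↥(W : Set X) → X) ⁻¹' Y i)
      (fun i => (hY i).preimage continuous_subtype_val) (locallyFinite_of_finite _)
      (by rw [← Set.preimage_iUnion, hcov, Set.preimage_univ])]
    refine iSup_mono fun i => ?_
    rw [← hV i]
    let f : ((Subtype.val : ↥(W : Set X) → X) ⁻¹' Y i) → ↥(V i : Set (Y i)) := fun z =>
      ⟨⟨z.1.1, z.2⟩, (hOV i).le (Set.mem_iInter.1 z.1.2 i)⟩
    have hf : Topology.IsInducing f := by
      refine Topology.IsInducing.of_comp (g := fun z : (V i : Set (Y i)) => z.1.1) ?_ ?_ ?_
      · exact Continuous.subtype_mk (Continuous.subtype_mk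
          (continuous_subtype_val.comp continuous_subtype_val) _) _
      · exact continuous_subtype_val.comp continuous_subtype_val
      · exact (Topology.IsInducing.subtypeVal (t := (W : Set X))).comp
          (Topology.IsInducing.subtypeVal (t := (Subtype.val : ↥(W : Set X) → X) ⁻¹' Y i))
    exact hf.topologicalKrullDim_le
  · exact (GrothLib.NoethTop.localDim_le (X := Y i) ⟨Subtype.val ⁻¹' (U.1 : Set X),
      U.1.2.preimage continuous_subtype_val⟩ U.2).trans (GrothLib.NoethTop.preimage_dim_le _ _)

end Groth.Agent.S5800
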