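import Groth.Statements.S5806
import Mathlib

set_option autoImplicit false
universe u
open EGA41

namespace Groth.Agent.S5806

open TensorProduct in
open scoped Pointwise in
/-- Let A be a ring, B a commutative A-algebra, (f_i)_{1 ≤ i ≤ n} elements of B and M a B-module.
Suppose (f_i) is M-regular and each of the A-modules M/(f_1 M + ... + f_i M), 0 ≤ i ≤ n, is flat.
Then for every ring homomorphism A → A', writing M' = M ⊗_A A' and f'_i = f_i ⊗ 1, the sequence
(f'_i) is M'-regular and the A'-modules M'/(f'_1 M' + ... + f'_{i-1} M') are flat: concretely,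
identifying M'/(f'_1 M' + ... + f'_{i-1} M') with A' ⊗_A (M/(f_1 M + ... + f_{i-1} M)),
multiplication by f_i on the latter is injective and the latter is A'-flat, for 1 ≤ i ≤ n. (The
published hypothesis lists only the flatness of M/(f_1 M + ... + f_{i-1} M) for 1 ≤ i ≤ n, omitting
M/(f_1 M + ... + f_n M); with that omission the case n = 1, A = B = k[t], M = k[t], f_1 = t, A' =
k[t]/(t) fails, since t acts as zero on k ⊗_A M = k, and the published proof uses the flatness of
M/(f_1 M + ... + f_i M) for every i ≤ n; so flatness of all these quotients is assumed here.) -/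
theorem result (A B : Type u) [CommRing A]
    [CommRing B] [Algebra A B] (M : Type u) [AddCommGroup M] [Module B M] [Module A M] [IsScalarTower A B M]
    (fs : List B) (hreg : RingTheory.Sequence.IsWeaklyRegular M fs)
    (hflat : ∀ i : ℕ, i ≤ fs.length → Module.Flat A (M ⧸ (Ideal.ofList (fs.take i) • (⊤ : Submodule B M))))
    (A' : Type u) [CommRing A'] [Algebra A A'] (i : Fin fs.length) :
    Function.Injective (LinearMap.lTensor A'
        (((LinearMap.lsmul B (M ⧸ (Ideal.ofList (fs.take i) • (⊤ : Submodule B M)))) (fs.get i)).restrictScalars A)) ∧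
      Module.Flat A' (A' ⊗[A] (M ⧸ (Ideal.ofList (fs.take i) • (⊤ : Submodule B M)))) := by
  classical
  set U := Ideal.ofList (fs.take i) • (⊤ : Submodule B M) with hU
  set V := Ideal.ofList (fs.take (i + 1)) • (⊤ : Submodule B M) with hV
  haveI hQ : Module.Flat A (M ⧸ U) := hflat i i.isLt.le
  haveI : Module.Flat A (M ⧸ V) := hflat (i + 1) i.isLt
  let f := fs.get i
  have hlist : fs.take (i + 1) = fs.take i ++ [f] := by
    rw [List.take_add_one, List.getElem?_eq_getElem i.isLt]
    rfl
  have hVU : V = U ⊔ Ideal.span {f} • ⊤ := by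
    rw [hV, hlist, Ideal.ofList_append, Ideal.ofList_singleton, Submodule.sup_smul, hU]
  let g : (M ⧸ U) →ₗ[A] (M ⧸ U) := ((LinearMap.lsmul B (M ⧸ U)) f).restrictScalars A
  have hUV : U ≤ V := hVU ▸ le_sup_left
  let h : (M ⧸ U) →ₗ[A] (M ⧸ V) := (Submodule.factor hUV).restrictScalars A
  have hg : Function.Injective g := hreg.regular_mod_prev i i.isLt
  have hh : Function.Surjective h := Submodule.factor_surjective hUV
  have hex : Function.Exact g h := fun x => by
    obtain ⟨m, rfl⟩ := Submodule.Quotient.mk_surjective _ x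
    constructor
    · intro hm
      have hm' : m ∈ V := (Submodule.Quotient.mk_eq_zero _).1 hm
      rw [hVU] at hm'
      obtain ⟨u, hu, w, hw, rfl⟩ := Submodule.mem_sup.1 hm'
      rw [Submodule.ideal_span_singleton_smul] at hw
      obtain ⟨y, -, rfl⟩ := (Submodule.mem_smul_pointwise_iff_exists _ _ _).1 hw
      refine ⟨Submodule.Quotient.mk y, ?_⟩
      show f • (Submodule.Quotient.mk y : M ⧸ U) = Submodule.Quotient.mk (u + f • y)
      rw [← Submodule.Quotient.mk_smul, Submodule.Quotient.eq]
      simpa using neg_mem hu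
    · rintro ⟨y, hy⟩
      obtain ⟨y, rfl⟩ := Submodule.Quotient.mk_surjective _ y
      rw [← hy]
      show Submodule.Quotient.mk (f • y) = (0 : M ⧸ V)
      rw [Submodule.Quotient.mk_eq_zero, hVU]
      exact Submodule.mem_sup_right (Submodule.smul_mem_smul (Ideal.mem_span_singleton_self f) trivial)
  exact ⟨LinearMap.lTensor_injective_of_exact_of_flat h hh g hg hex A', inferInstance⟩

end Groth.Agent.S5806
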