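import Groth.Statements.S5808
import Groth.Agent.Lib.SemiLocalDim16.Sop

set_option autoImplicit false
universe u
open EGA41

namespace Groth.Agent.S5808


variable {A : Type u} [CommRing A]

theorem exists_seq [IsNoetherianRing A] [Finite (MaximalSpectrum A)] {a : Ideal A} {h D : ℕ}
    (hh : a.height = h) (hD : ringKrullDim A = D) {p : Ideal A} [p.IsPrime] (hap : a ≤ p)
    (hp : p.height = h) : ∀ i : ℕ, i ≤ h → ∃ x : Fin i → A, (∀ j, x j ∈ a) ∧ (∀ j, x j ∈ Ring.jacobson A) ∧
      Module.supportDim A (A ⧸ (Ideal.span (Set.range x) • (⊤ : Submodule A A))) + i = (D : WithBot ℕ∞) ∧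
      ∀ q : Ideal A, q.IsPrime → Ideal.span (Set.range x) ≤ q → q ≤ p → (i : ℕ∞) ≤ q.height
  | 0, _ => ⟨Fin.elim0, fun j => j.elim0, fun j => j.elim0, by
      rw [show Ideal.span (Set.range (Fin.elim0 : Fin 0 → A)) = ⊥ by simp, Nat.cast_zero, add_zero, ← hD,
        ← Module.supportDim_self_eq_ringKrullDim]
      exact Module.supportDim_eq_of_equiv (Submodule.quotEquivOfEqBot _ (Submodule.bot_smul _)),
      fun _ _ _ _ => zero_le⟩
  | i + 1, hi => by
    obtain ⟨x, hxa, hxJ, hdim, hinv⟩ := exists_seq hh hD hap hp i (by omega)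
    have hIJ : Ideal.span (Set.range x) ≤ Ring.jacobson A := Ideal.span_le.2 (Set.range_subset_iff.2 hxJ)
    have hhD : h ≤ D := by
      have h1 := GrothLib.AffDom.height_add_ringKrullDim_quotient_le p
      rw [hp, hD] at h1
      haveI : Nontrivial (A ⧸ p) := Ideal.Quotient.nontrivial_iff.2 (Ideal.IsPrime.ne_top ‹p.IsPrime›)
      have h2 : ((h : ℕ∞) : WithBot ℕ∞) ≤ ((D : ℕ) : WithBot ℕ∞) := (le_add_of_nonneg_right ringKrullDim_nonneg_of_nontrivial).trans h1
      exact_mod_cast h2
    haveI : Nontrivial A := ⟨⟨0, 1, fun e => Ideal.IsPrime.ne_top ‹p.IsPrime›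
      ((Ideal.eq_top_iff_one p).2 (e ▸ p.zero_mem))⟩⟩
    haveI : Nontrivial (A ⧸ (Ideal.span (Set.range x) • (⊤ : Submodule A A))) :=
      GrothLib.SemiLocalDim16.nontrivial_quot hIJ
    obtain ⟨e, he⟩ := GrothLib.SemiLocalDim16.exists_nat_supportDim (A := A)
      (M := A ⧸ (Ideal.span (Set.range x) • (⊤ : Submodule A A)))
    have hei : e + i = D := by rw [he] at hdim; exact_mod_cast hdim
    have hJ : ∀ q : Ideal A, q.IsPrime → ¬ q.IsMaximal → ¬ a ≤ q → ¬ a ⊓ Ring.jacobson A ≤ q := by
      intro q hq hmax hqa hle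
      rcases (Ideal.IsPrime.inf_le hq).1 hle with h | h
      · exact hqa h
      · exact GrothLib.SemiLocalDim16.jacobson_not_le q (hp := hq) hmax h
    let S : Set (Ideal A) := {q : Ideal A | ∃ _ : q.IsPrime,
        Module.annihilator A (A ⧸ (Ideal.span (Set.range x) • (⊤ : Submodule A A))) ≤ q ∧
          ringKrullDim (A ⧸ q) = e} ∪ {q ∈ (Ideal.span (Set.range x)).minimalPrimes | q < p}
    obtain ⟨y, hy, hyav⟩ := GrothLib.SemiLocalDim16.exists_mem_avoid (a := a ⊓ Ring.jacobson A) (S := S)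
      ((GrothLib.SemiLocalDim16.finite_top he).union
        ((Ideal.finite_minimalPrimes_of_isNoetherianRing A _).subset fun q hq => hq.1))
      (by
        rintro q (⟨hq, -, -⟩ | ⟨hq, -⟩)
        exacts [hq, hq.1.1])
      (by
        rintro q (⟨hq, -, htop⟩ | ⟨hq, hqp⟩)
        · refine hJ q hq (GrothLib.SemiLocalDim16.not_isMaximal_of_pos (by omega) htop) fun hqa => ?_
          have h1 := GrothLib.AffDom.height_add_ringKrullDim_quotient_le q
          rw [htop, hD] at h1
          have h2 : (h : ℕ∞) ≤ q.height := hh ▸ Ideal.height_mono hqa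
          have h3 : (((h : ℕ∞)) : WithBot ℕ∞) + ((e : ℕ) : WithBot ℕ∞) ≤ ((D : ℕ) : WithBot ℕ∞) :=
            le_trans (add_le_add (WithBot.coe_le_coe.2 h2) le_rfl) h1
          have h4 : h + e ≤ D := by exact_mod_cast h3
          omega
        · haveI := hq.1.1
          refine hJ q hq.1.1 (fun hm => hqp.ne (hm.eq_of_le (Ideal.IsPrime.ne_top ‹p.IsPrime›) hqp.le)) fun hqa => ?_
          have h1 : (h : ℕ∞) ≤ q.height := hh ▸ Ideal.height_mono hqa
          have h2 : q.height + 1 ≤ p.height := Ideal.height_add_one_le_of_lt_of_isPrime hqp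
          rw [hp] at h2
          have h3 : h + 1 ≤ h := by exact_mod_cast (add_le_add h1 (le_refl (1 : ℕ∞))).trans h2
          omega)
    have hrange : Ideal.span (Set.range (Fin.snoc x y : Fin (i + 1) → A)) =
        Ideal.span (Set.range x) ⊔ Ideal.span {y} := by
      rw [Fin.range_snoc, Ideal.span_insert, sup_comm]
    refine ⟨Fin.snoc x y, Fin.forall_iff_castSucc.2 ⟨by simpa using hy.1, by simpa using hxa⟩,
      Fin.forall_iff_castSucc.2 ⟨by simpa using hy.2, by simpa using hxJ⟩, ?_, ?_⟩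
    · have h1 := GrothLib.SemiLocalDim16.quot_add_one_eq
        (M := A ⧸ (Ideal.span (Set.range x) • (⊤ : Submodule A A))) hy.2 fun q hq htop =>
          hyav q.asIdeal (Or.inl ⟨q.2, by rw [Module.support_eq_zeroLocus] at hq; exact hq, htop.trans he⟩)
      rw [GrothLib.SemiLocalDim16.supportDim_congr (GrothLib.SemiLocalDim16.support_quot_sup _ y), he] at h1
      rw [hrange, Nat.cast_succ, add_comm (i : WithBot ℕ∞) 1, ← add_assoc, h1]
      exact_mod_cast hei
    · intro q hq hle hqp
      rw [hrange, sup_le_iff] at hle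
      obtain ⟨q₀, hq₀, hq₀q⟩ := Ideal.exists_minimalPrimes_le hle.1
      haveI := hq₀.1.1
      rcases lt_or_eq_of_le (hq₀q.trans hqp) with hlt | heq
      · have hne : q₀ ≠ q := fun e => hyav q₀ (Or.inr ⟨hq₀, hlt⟩)
          (e ▸ hle.2 (Ideal.mem_span_singleton_self y))
        have h1 := Ideal.height_add_one_le_of_lt_of_isPrime (lt_of_le_of_ne hq₀q hne)
        push_cast
        exact (add_le_add (hinv q₀ hq₀.1.1 hq₀.1.2 hlt.le) le_rfl).trans h1
      · have : q = p := le_antisymm hqp (heq ▸ hq₀q)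
        rw [this, hp]
        exact_mod_cast hi


/-- Let A be a semi-local Noetherian ring with spectrum X and Jacobson radical r, and a an ideal of A
distinct from A with codim(V(a), X) = h > 0 (h is the height of a). Then there exist h elements x_1,
..., x_h of a which are part of a system of parameters of A (so lie in r and can be completed by
elements of r to dim(A) elements generating an ideal modulo which A has finite length) and such that
codim(V(a), V(x_1 A + ... + x_h A)) = 0, i.e. the image of a in A/(x_1 A + ... + x_h A) has height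
0. -/
theorem result (A : Type u) [CommRing A] [IsNoetherianRing A]
    [Finite (MaximalSpectrum A)] (a : Ideal A) (ha : a ≠ ⊤) (h : ℕ) (hh : a.height = h) (hpos : 0 < h) :
    ∃ x : Fin h → A, (∀ i, x i ∈ a) ∧ (∀ i, x i ∈ Ring.jacobson A) ∧
      (∃ ys : List A, (∀ y ∈ ys, y ∈ Ring.jacobson A) ∧
        (((h + ys.length : ℕ) : ℕ∞) : WithBot ℕ∞) = ringKrullDim A ∧
        IsFiniteLength A (A ⧸ (Ideal.span (Set.range x) ⊔ Ideal.ofList ys))) ∧
      (a.map (Ideal.Quotient.mk (Ideal.span (Set.range x)))).height = 0 := by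
  obtain ⟨p, hp, hap, hph⟩ := Ideal.exists_isPrime_height_eq hh
  haveI := hp
  haveI : Nontrivial A := ⟨⟨0, 1, fun e => hp.ne_top ((Ideal.eq_top_iff_one p).2 (e ▸ p.zero_mem))⟩⟩
  obtain ⟨D, hD⟩ := GrothLib.SemiLocalDim16.exists_nat_supportDim (A := A) (M := A)
  rw [Module.supportDim_self_eq_ringKrullDim] at hD
  obtain ⟨x, hxa, hxJ, hdim, hinv⟩ := exists_seq hh hD hap hph h le_rfl
  haveI : Nontrivial (A ⧸ (Ideal.span (Set.range x) • (⊤ : Submodule A A))) :=
    GrothLib.SemiLocalDim16.nontrivial_quot (Ideal.span_le.2 (Set.range_subset_iff.2 hxJ))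
  obtain ⟨e, he⟩ := GrothLib.SemiLocalDim16.exists_nat_supportDim (A := A)
    (M := A ⧸ (Ideal.span (Set.range x) • (⊤ : Submodule A A)))
  obtain ⟨ys, hys, hlen, hfl⟩ := GrothLib.SemiLocalDim16.exists_sop e _ he
  refine ⟨x, hxa, hxJ, ⟨ys, hys, ?_, ?_⟩, ?_⟩
  · rw [hD, ← hdim, he, hlen, add_comm h e]
    norm_cast
  · have h1 := GrothLib.SemiLocalDim16.isFiniteLength_of_supportDim_le_zero hfl
    have h2 : (Ideal.span (Set.range x) ⊔ Ideal.ofList ys) • (⊤ : Submodule A A) =
        Ideal.span (Set.range x) ⊔ Ideal.ofList ys := by rw [smul_eq_mul, Ideal.mul_top]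
    exact (Submodule.quotEquivOfEq _ _ h2).isFiniteLength h1
  · have hle : Ideal.span (Set.range x) ≤ p := Ideal.span_le.2 (Set.range_subset_iff.2 fun j => hap (hxa j))
    haveI := Ideal.map_isPrime_of_surjective (f := Ideal.Quotient.mk (Ideal.span (Set.range x)))
      Ideal.Quotient.mk_surjective (I := p) (by rwa [Ideal.mk_ker])
    refine nonpos_iff_eq_zero.1 ((Ideal.height_mono (Ideal.map_mono hap)).trans (le_of_eq ?_))
    rw [Ideal.height_eq_zero_iff]
    refine ⟨⟨inferInstance, bot_le⟩, fun q hq hqp => ?_⟩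
    haveI := hq.1
    have h1 : (q.comap (Ideal.Quotient.mk (Ideal.span (Set.range x)))) ≤ p := by
      refine (Ideal.comap_mono hqp).trans ?_
      rw [Ideal.comap_map_of_surjective _ Ideal.Quotient.mk_surjective, ← RingHom.ker_eq_comap_bot,
        Ideal.mk_ker]
      exact sup_le le_rfl hle
    rcases lt_or_eq_of_le h1 with hlt | heq
    · have h2 := Ideal.height_add_one_le_of_lt_of_isPrime hlt
      have h3 := hinv (q.comap (Ideal.Quotient.mk (Ideal.span (Set.range x)))) inferInstance
        (by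
          refine le_trans (le_of_eq Ideal.mk_ker.symm) ?_
          exact Ideal.comap_mono bot_le) h1
      rw [hph] at h2
      have h4 : h + 1 ≤ h := by exact_mod_cast (add_le_add h3 (le_refl (1 : ℕ∞))).trans h2
      omega
    · rw [← heq, Ideal.map_comap_of_surjective _ Ideal.Quotient.mk_surjective]

end Groth.Agent.S5808
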