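import Groth.Statements.S5809
import Groth.Agent.Lib.HomDimCrit.Basic
import Groth.Agent.Lib.FlatFP.TorShift
import Groth.Agent.Lib.TorBal22.Basic

set_option autoImplicit false
universe u
open CategoryTheory
open EGA41

namespace Groth.Agent.S5809


variable {A : Type u} [CommRing A]

/-- `Tor` is symmetric. -/
theorem isZero_tor_comm (M N : ModuleCat.{u} A) (n : ℕ) :
    Limits.IsZero (((Tor (ModuleCat.{u} A) n).obj M).obj N) ↔
      Limits.IsZero (((Tor (ModuleCat.{u} A) n).obj N).obj M) := by
  let P := projectiveResolution M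
  obtain ⟨e⟩ := GrothLib.TorBal22.nonempty_tor_iso P N n
  exact (e ≪≫ (GrothLib.TorBal22.torIso N P n).symm).isZero_iff

/-- Dimension shifting in the second variable. -/
theorem isZero_tor_succ_iff_ker {M F : Type u} [AddCommGroup M] [Module A M] [AddCommGroup F] [Module A F]
    [Module.Projective A F] (f : F →ₗ[A] M) (hf : Function.Surjective f) (N : ModuleCat.{u} A) (i : ℕ) :
    Limits.IsZero (((Tor (ModuleCat.{u} A) (i + 2)).obj N).obj (ModuleCat.of A M)) ↔
      Limits.IsZero (((Tor (ModuleCat.{u} A) (i + 1)).obj N).obj (ModuleCat.of A (LinearMap.ker f))) := by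
  let S : ShortComplex (ModuleCat.{u} A) :=
    ShortComplex.mk (ModuleCat.ofHom (LinearMap.ker f).subtype) (ModuleCat.ofHom f)
      (ModuleCat.hom_ext (LinearMap.ext fun z => LinearMap.mem_ker.1 z.2))
  have hS : S.ShortExact :=
    { exact := (ShortComplex.moduleCat_exact_iff _).2 fun v hv => ⟨⟨v, LinearMap.mem_ker.2 hv⟩, rfl⟩
      mono_f := (ModuleCat.mono_iff_injective _).2 Subtype.val_injective
      epi_g := (ModuleCat.epi_iff_surjective _).2 hf }
  haveI : Module.Flat A S.X₂ := (inferInstance : Module.Flat A F)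
  rw [isZero_tor_comm N, isZero_tor_comm N]
  exact GrothLib.FlatFP.isZero_tor_succ_iff S hS N i

theorem isZero_tor_of_pdLE (N : ModuleCat.{u} A) : ∀ (n : ℕ) (M : Type u) [AddCommGroup M] [Module A M],
    GrothLib.Serre.PdLE A M n → ∀ i : ℕ, n < i →
      Limits.IsZero (((Tor (ModuleCat.{u} A) i).obj N).obj (ModuleCat.of A M))
  | 0, M, _, _, h, i, hi => by
    obtain ⟨j, rfl⟩ : ∃ j, i = j + 1 := ⟨i - 1, by omega⟩
    haveI : Module.Projective A M := GrothLib.Serre.pdLE_zero_iff.1 h
    haveI : Module.Flat A (ModuleCat.of A M) := (inferInstance : Module.Flat A M)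
    rw [isZero_tor_comm]
    exact GrothLib.FlatFP.isZero_tor_succ_of_flat (ModuleCat.of A M) N j
  | n + 1, M, _, _, h, i, hi => by
    obtain ⟨j, rfl⟩ : ∃ j, i = j + 2 := ⟨i - 2, by omega⟩
    obtain ⟨F, _, _, _, q, hq⟩ := GrothLib.HomDimCrit.exists_cover (R := A) M
    rw [isZero_tor_succ_iff_ker q hq]
    exact isZero_tor_of_pdLE N n _ ((GrothLib.Serre.pdLE_succ_iff q hq n).1 h) _ (by omega)

theorem pdLE_of_isZero_tor [IsLocalRing A] [IsNoetherianRing A] :
    ∀ (n : ℕ) (M : Type u) [AddCommGroup M] [Module A M] [Module.Finite A M],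
    Limits.IsZero (((Tor (ModuleCat.{u} A) (n + 1)).obj
          (ModuleCat.of A (A ⧸ IsLocalRing.maximalIdeal A))).obj (ModuleCat.of A M)) →
      GrothLib.Serre.PdLE A M n
  | 0, M, _, _, _, h => by
    have hg := (GrothLib.Flatness.isZero_tor_one_iff_good A (A ⧸ IsLocalRing.maximalIdeal A) M).1 h
    haveI : Module.FinitePresentation A M := Module.finitePresentation_of_finite A M
    obtain ⟨F, _, _, _, q, hq⟩ := GrothLib.HomDimCrit.exists_cover (R := A) M
    have h1 := hg _ _ (LinearMap.ker q).subtype q Subtype.val_injective hq (LinearMap.exact_subtype_ker_map q)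
    have h2 : Function.Injective ((LinearMap.ker (IsLocalRing.maximalIdeal A).mkQ).subtype.lTensor M) :=
      GrothLib.HomDimCrit.ker_lTensor_injective_swap (IsLocalRing.maximalIdeal A).mkQ
        (Submodule.mkQ_surjective _) q hq h1
    rw [Submodule.ker_mkQ] at h2
    haveI : Module.Free A M := Module.free_of_maximalIdeal_rTensor_injective
      ((LinearMap.lTensor_inj_iff_rTensor_inj (M := M) _).mp h2)
    exact GrothLib.Serre.pdLE_zero_iff.2 inferInstance
  | n + 1, M, _, _, _, h => by
    obtain ⟨k, q, hq⟩ := Module.Finite.exists_fin' A M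
    rw [isZero_tor_succ_iff_ker q hq] at h
    exact (GrothLib.Serre.pdLE_succ_iff q hq n).2 (pdLE_of_isZero_tor n _ h)


/-- Let A be a Noetherian local ring with residue field k, M a finitely generated A-module and n ≥ 0.
For M to have projective dimension at most n it is necessary that Tor^A_i(M, k) = 0 for all i > n,
and it suffices that Tor^A_(n+1)(M, k) = 0. (Tor is written here as the left derived functors of k ⊗
- evaluated at M, i.e. computed from a projective resolution of M.) -/
theorem result (A : Type u) [CommRing A] [IsLocalRing A]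
    [IsNoetherianRing A] (M : Type u) [AddCommGroup M] [Module A M] [Module.Finite A M] (n : ℕ) :
    (HasProjectiveDimensionLT (ModuleCat.of A M) (n + 1) →
        ∀ i : ℕ, n < i → Limits.IsZero (((Tor (ModuleCat.{u} A) i).obj
          (ModuleCat.of A (IsLocalRing.ResidueField A))).obj (ModuleCat.of A M))) ∧
      (Limits.IsZero (((Tor (ModuleCat.{u} A) (n + 1)).obj
          (ModuleCat.of A (IsLocalRing.ResidueField A))).obj (ModuleCat.of A M)) →
        HasProjectiveDimensionLT (ModuleCat.of A M) (n + 1)) := by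
  exact ⟨fun h i hi => isZero_tor_of_pdLE _ n M h i hi, fun h => pdLE_of_isZero_tor n M h⟩

end Groth.Agent.S5809
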