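import Groth.Statements.S5810
import Groth.Agent.Lib.Ratliff.Completion
import Groth.Agent.Lib.Depth17.Global
import Mathlib.RingTheory.AdicCompletion.AsTensorProduct

set_option autoImplicit false
universe u
open EGA41

namespace Groth.Agent.S5810

/-- Let A be a Noetherian local ring with maximal ideal m and M a finitely generated A-module; write Â
and M̂ for the m-adic completions. Then prof_A(M) = prof_Â(M̂). -/
theorem result (A : Type u) [CommRing A] [IsLocalRing A] [IsNoetherianRing A] (M : Type u)
    [AddCommGroup M] [Module A M] [Module.Finite A M] :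
    LocCoh.depth (AdicCompletion (IsLocalRing.maximalIdeal A) A) (AdicCompletion (IsLocalRing.maximalIdeal A) M) =
      LocCoh.depth A M := by
  haveI : Module.FaithfullyFlat A (AdicCompletion (IsLocalRing.maximalIdeal A) A) := GrothLib.Excellent.faithfullyFlat_cpl A
  haveI : IsNoetherianRing (AdicCompletion (IsLocalRing.maximalIdeal A) A) := (GrothLib.Ratliff.isUniversallyCatenary_cpl (A := A)).1
  have e : TensorProduct A (AdicCompletion (IsLocalRing.maximalIdeal A) A) M ≃ₗ[AdicCompletion (IsLocalRing.maximalIdeal A) A]
      AdicCompletion (IsLocalRing.maximalIdeal A) M :=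
    LinearEquiv.ofBijective (AdicCompletion.ofTensorProduct (IsLocalRing.maximalIdeal A) M)
      (AdicCompletion.ofTensorProduct_bijective_of_finite_of_isNoetherian _ M)
  have h := GrothLib.Depth.idealDepth_baseChange_eq (B := AdicCompletion (IsLocalRing.maximalIdeal A) A)
    (IsLocalRing.maximalIdeal A) M
  rw [← AdicCompletion.maximalIdeal_eq_map] at h
  rw [LocCoh.depth, ← GrothLib.Depth17.idealDepth_congr _ e]
  exact h

end Groth.Agent.S5810
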