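import Groth.Statements.S5811
import Groth.Agent.Lib.AdicExtra.Completion
import Groth.Agent.Lib.FlatOff.InfinitesimalMain
import Mathlib
import Groth.Agent.Lib.FibPd.Depth

set_option autoImplicit false
universe u
open EGA41

namespace Groth.Agent.S5811


open TensorProduct

theorem ringKrullDim_eq_of_flat {A B : Type u} [CommRing A] [CommRing B] [Algebra A B]
    [IsNoetherianRing A] [IsNoetherianRing B] [Module.Flat A B]
    (hP : ∀ n : Ideal B, n.IsMaximal → ∃ m : Ideal A, m.IsMaximal ∧ n = m.map (algebraMap A B))
    (hQ : ∀ m : Ideal A, m.IsMaximal → m.map (algebraMap A B) ≠ ⊤) :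
    ringKrullDim B = ringKrullDim A := by
  have key : ∀ (m : Ideal A) (n : Ideal B), m.IsMaximal → n.IsMaximal → n = m.map (algebraMap A B) →
      n.height = m.height := by
    intro m n hm hn he
    haveI := hm.isPrime
    haveI := hn.isPrime
    haveI : n.LiesOver m := ⟨hm.eq_of_le (Ideal.IsPrime.ne_top (Ideal.IsPrime.comap (algebraMap A B)))
      (by rw [Ideal.under_def, ← Ideal.map_le_iff_le_comap, he])⟩
    rw [Ideal.height_eq_height_add_of_liesOver_of_hasGoingDown m n, ← he, Ideal.map_quotient_self]
    have : Nontrivial (B ⧸ n) := Ideal.Quotient.nontrivial_iff.2 hn.ne_top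
    simp [Ideal.height_bot]
  refine le_antisymm ?_ ?_
  · rw [ringKrullDim_le_iff_isMaximal_height_le]
    intro n hn
    obtain ⟨m, hm, rfl⟩ := hP n hn
    rw [key m _ hm hn rfl]
    exact Ideal.height_le_ringKrullDim_of_ne_top hm.ne_top
  · rw [ringKrullDim_le_iff_isMaximal_height_le]
    intro m hm
    obtain ⟨n, hn, hle⟩ := Ideal.exists_le_maximal _ (hQ m hm)
    obtain ⟨m', hm', rfl⟩ := hP n hn
    haveI := hn.isPrime
    have e : m = m' := by
      have h1 : m ≤ (m'.map (algebraMap A B)).comap (algebraMap A B) := Ideal.map_le_iff_le_comap.1 hle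
      have h2 : m' ≤ (m'.map (algebraMap A B)).comap (algebraMap A B) := Ideal.le_comap_map
      rw [hm.eq_of_le (Ideal.IsPrime.ne_top (Ideal.IsPrime.comap _)) h1,
        ← hm'.eq_of_le (Ideal.IsPrime.ne_top (Ideal.IsPrime.comap _)) h2]
    subst e
    rw [← key m _ hm hn rfl]
    exact Ideal.height_le_ringKrullDim_of_ne_top hn.ne_top

theorem supportDim_baseChange_eq {A B : Type u} [CommRing A] [CommRing B] [Algebra A B]
    [IsNoetherianRing A] [IsNoetherianRing B] [Module.Flat A B]
    (hP : ∀ n : Ideal B, n.IsMaximal → ∃ m : Ideal A, m.IsMaximal ∧ n = m.map (algebraMap A B))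
    (hQ : ∀ m : Ideal A, m.IsMaximal → m.map (algebraMap A B) ≠ ⊤)
    (M : Type u) [AddCommGroup M] [Module A M] [Module.Finite A M] :
    Module.supportDim B (B ⊗[A] M) = Module.supportDim A M := by
  let I := Module.annihilator A M
  have hL : Module.supportDim B (B ⊗[A] M) = ringKrullDim (B ⧸ I.map (algebraMap A B)) := by
    rw [ringKrullDim_quotient]
    unfold Module.supportDim
    have hset : Module.support B (B ⊗[A] M) = PrimeSpectrum.zeroLocus (I.map (algebraMap A B) : Set B) := by
      ext q
      rw [GrothLib.FibPd.mem_support_baseChange_iff, Module.support_eq_zeroLocus, PrimeSpectrum.mem_zeroLocus,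
        PrimeSpectrum.mem_zeroLocus, SetLike.coe_subset_coe, SetLike.coe_subset_coe, Ideal.map_le_iff_le_comap]
      rfl
    rw [hset]
  rw [hL, Module.supportDim_eq_ringKrullDim_quotient_annihilator]
  letI : Algebra (A ⧸ I) (B ⧸ I.map (algebraMap A B)) := Ideal.Quotient.algebraQuotientOfLEComap Ideal.le_comap_map
  haveI : Module.Flat (A ⧸ I) (B ⧸ I.map (algebraMap A B)) := GrothLib.FlatOff.flat_quot_map A B I
  have hmap : ∀ m : Ideal A, (m.map (Ideal.Quotient.mk I)).map (algebraMap (A ⧸ I) (B ⧸ I.map (algebraMap A B))) =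
      (m.map (algebraMap A B)).map (Ideal.Quotient.mk (I.map (algebraMap A B))) := fun m => by
    rw [Ideal.map_map, Ideal.map_map]
    rfl
  refine ringKrullDim_eq_of_flat (fun n hn => ?_) (fun m hm => ?_)
  · haveI := hn
    obtain ⟨m, hm, he⟩ := hP _ (Ideal.comap_isMaximal_of_surjective (Ideal.Quotient.mk (I.map (algebraMap A B)))
      Ideal.Quotient.mk_surjective (K := n))
    have hn' : n = (m.map (algebraMap A B)).map (Ideal.Quotient.mk (I.map (algebraMap A B))) := by
      rw [← he, Ideal.map_comap_of_surjective _ Ideal.Quotient.mk_surjective]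
    refine ⟨m.map (Ideal.Quotient.mk I), ?_, by rw [hmap]; exact hn'⟩
    refine ((Ideal.map_eq_top_or_isMaximal_of_surjective _ Ideal.Quotient.mk_surjective hm).resolve_left ?_)
    intro htop
    apply hn.ne_top
    rw [hn', ← hmap, htop, Ideal.map_top]
  · haveI := hm
    have hm' : (m.comap (Ideal.Quotient.mk I)).IsMaximal :=
      Ideal.comap_isMaximal_of_surjective _ Ideal.Quotient.mk_surjective
    rw [← Ideal.map_comap_of_surjective _ Ideal.Quotient.mk_surjective m, hmap]
    intro htop
    refine hQ _ hm' ?_
    have h := congrArg (Ideal.comap (Ideal.Quotient.mk (I.map (algebraMap A B)))) htop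
    rw [Ideal.comap_map_of_surjective _ Ideal.Quotient.mk_surjective, ← RingHom.ker_eq_comap_bot,
      Ideal.mk_ker, Ideal.comap_top] at h
    rw [eq_top_iff, ← h]
    refine sup_le le_rfl (Ideal.map_mono ?_)
    exact le_trans (le_of_eq Ideal.mk_ker.symm) (Ideal.comap_mono bot_le)


/-- Let A be a semi-local Noetherian ring (finitely many maximal ideals) with Jacobson radical r, M a
finitely generated A-module, and write Â and M̂ for the r-adic completions of A and M. Then
dim_Â(M̂) = dim_A(M), the dimension of a module being the Krull dimension of its support. (For M = 0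
both sides are ⊥.) -/
theorem result (A : Type u) [CommRing A] [IsNoetherianRing A]
    [Finite (MaximalSpectrum A)] (M : Type u) [AddCommGroup M] [Module A M] [Module.Finite A M] :
    Module.supportDim (AdicCompletion (Ring.jacobson A) A) (AdicCompletion (Ring.jacobson A) M) =
      Module.supportDim A M := by
  set J := Ring.jacobson A with hJ
  let B := AdicCompletion J A
  haveI : IsNoetherianRing (AdicCompletion J A) := GrothLib.AdicExtra.isNoetherianRing_adicCompletion J
  have hfg : J.FG := J.fg_of_isNoetherianRing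
  have hker := AdicCompletion.ker_evalOneₐ_eq_map J hfg
  have hsurj := AdicCompletion.evalOneₐ_surjective J
  have hJm : ∀ m : Ideal A, m.IsMaximal → J ≤ m := fun m hm => by
    rw [hJ, ← Ideal.jacobson_bot]
    exact sInf_le ⟨bot_le, hm⟩
  haveI : IsAdicComplete (J.map (algebraMap A (AdicCompletion J A))) (AdicCompletion J A) :=
    AdicCompletion.isAdicComplete_self J hfg
  have e : TensorProduct A (AdicCompletion J A) M ≃ₗ[AdicCompletion J A] AdicCompletion J M :=
    LinearEquiv.ofBijective (AdicCompletion.ofTensorProduct J M)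
      (AdicCompletion.ofTensorProduct_bijective_of_finite_of_isNoetherian _ M)
  rw [← Module.supportDim_eq_of_equiv e]
  refine supportDim_baseChange_eq (fun n hn => ?_) (fun m hm => ?_) M
  · have hJn : J.map (algebraMap A (AdicCompletion J A)) ≤ n :=
      (IsAdicComplete.le_jacobson_bot (J.map (algebraMap A (AdicCompletion J A)))).trans (sInf_le ⟨bot_le, hn⟩)
    haveI := hn
    have hdec : ∀ x : AdicCompletion J A, ∃ a : A, x - algebraMap A _ a ∈ J.map (algebraMap A (AdicCompletion J A)) := by
      intro x
      obtain ⟨a, ha⟩ := Ideal.Quotient.mk_surjective (AdicCompletion.evalOneₐ J x)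
      refine ⟨a, ?_⟩
      rw [← hker, RingHom.mem_ker, map_sub]
      exact sub_eq_zero.2 (ha.symm.trans (AlgHom.commutes (AdicCompletion.evalOneₐ J) a).symm)
    have hm : (n.comap (algebraMap A (AdicCompletion J A))).IsMaximal := by
      have hs : Function.Surjective ((Ideal.Quotient.mk n).comp (algebraMap A (AdicCompletion J A))) := by
        intro z
        obtain ⟨x, rfl⟩ := Ideal.Quotient.mk_surjective z
        obtain ⟨a, ha⟩ := hdec x
        exact ⟨a, ((Ideal.Quotient.mk_eq_mk_iff_sub_mem _ _).2 (hJn ha)).symm⟩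
      letI := Ideal.Quotient.field n
      have h1 := RingHom.ker_isMaximal_of_surjective _ hs
      rwa [← RingHom.comap_ker, Ideal.mk_ker] at h1
    refine ⟨_, hm, le_antisymm (fun x hx => ?_) Ideal.map_comap_le⟩
    obtain ⟨a, ha⟩ := hdec x
    have h1 : a ∈ n.comap (algebraMap A (AdicCompletion J A)) := by
      have := n.sub_mem hx (hJn ha)
      rwa [sub_sub_cancel] at this
    have h2 := Ideal.mem_map_of_mem (algebraMap A (AdicCompletion J A)) h1
    have h3 := Ideal.map_mono (f := algebraMap A (AdicCompletion J A)) (hJm _ hm) ha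
    simpa using add_mem h3 h2
  · let φ : AdicCompletion J A →+* A ⧸ m :=
      (Ideal.Quotient.factor (hJm m hm)).comp (AdicCompletion.evalOneₐ J).toRingHom
    intro htop
    have h1 : m.map (algebraMap A (AdicCompletion J A)) ≤ RingHom.ker φ := by
      rw [Ideal.map_le_iff_le_comap]
      intro a ha
      show Ideal.Quotient.factor (hJm m hm) (AdicCompletion.evalOneₐ J (algebraMap A _ a)) = 0
      rw [AlgHom.commutes]
      exact (Ideal.Quotient.eq_zero_iff_mem).2 ha
    haveI := Ideal.Quotient.nontrivial_iff.2 hm.ne_top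
    exact RingHom.ker_ne_top φ (top_le_iff.1 (htop.ge.trans h1))

end Groth.Agent.S5811
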