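import Groth.Statements.S5813
import Groth.Agent.Lib.ExalLib.Basic
import Mathlib.Tactic.LinearCombination

set_option autoImplicit false
universe u
open EGA41

namespace Groth.Agent.S5813

/-- Injectivity, commutative form. Let J be an ideal of the commutative ring B, C = B ⧸ J, M a C-module.
Two B-extensions of C by M whose induced linear maps J/J² → M (obtained from the restriction to J of
the structure map B → E) coincide are equivalent. -/
theorem result {B : Type u} [CommRing B] (J : Ideal B)
    {M : Type u} [AddCommGroup M] [Module (B ⧸ J) M] [Module B M] [IsScalarTower B (B ⧸ J) M]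
    (X Y : Exal.Ext B (B ⧸ J) M) (h : X.conormalMap J = Y.conormalMap J) :
    Nonempty (X.Equiv Y) := by
  classical
  have hd : ∀ x : X.E, ∃ (b : B) (m : M), x = algebraMap B X.E b + X.incl m := fun x => by
    obtain ⟨b, hb⟩ := Ideal.Quotient.mk_surjective (X.proj x)
    obtain ⟨m, hm⟩ := GrothLib.ExalLib.exists_incl X (x := x - algebraMap B X.E b) (by
      rw [map_sub, AlgHom.commutes, Ideal.Quotient.algebraMap_eq, hb, sub_self])
    exact ⟨b, m, by rw [hm, add_sub_cancel]⟩
  choose β μ hβμ using hd
  have hJ : ∀ (Z : Exal.Ext B (B ⧸ J) M) (j : J),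
      Z.incl (Z.conormalMap J (J.toCotangent j)) = algebraMap B Z.E j := fun Z j => Z.incl_kerLift _ (Z.proj_algebraMap_eq_zero J j)
  let f : X.E → Y.E := fun x => algebraMap B Y.E (β x) + Y.incl (μ x)
  have hwd : ∀ b m, f (algebraMap B X.E b + X.incl m) = algebraMap B Y.E b + Y.incl m := by
    intro b m
    have h0 := hβμ (algebraMap B X.E b + X.incl m)
    set b' := β (algebraMap B X.E b + X.incl m) with hb'
    set m' := μ (algebraMap B X.E b + X.incl m) with hm'
    have hp := congrArg X.proj h0
    rw [map_add, map_add, GrothLib.ExalLib.proj_incl, GrothLib.ExalLib.proj_incl, add_zero, add_zero,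
      AlgHom.commutes, AlgHom.commutes, Ideal.Quotient.algebraMap_eq, Ideal.Quotient.mk_eq_mk_iff_sub_mem] at hp
    have h1 : X.incl (X.conormalMap J (J.toCotangent ⟨b - b', hp⟩)) = X.incl (m' - m) := by
      rw [hJ, map_sub X.incl, Subtype.coe_mk, map_sub]
      linear_combination h0
    have h2 := hJ Y ⟨b - b', hp⟩
    rw [← h, X.isExtension.incl_injective h1, map_sub Y.incl, Subtype.coe_mk, map_sub] at h2
    change algebraMap B Y.E b' + Y.incl m' = _
    linear_combination h2
  let φ : X.E →ₐ[B] Y.E :=
    { toFun := f
      map_one' := by simpa using hwd 1 0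
      map_zero' := by simpa using hwd 0 0
      commutes' := fun b => by simpa using hwd b 0
      map_add' := fun x y => by
        have h1 : x + y = algebraMap B X.E (β x + β y) + X.incl (μ x + μ y) :=
          (congrArg₂ (· + ·) (hβμ x) (hβμ y)).trans (by rw [map_add, map_add]; exact add_add_add_comm ..)
        rw [h1, hwd, map_add, map_add]
        exact add_add_add_comm ..
      map_mul' := fun x y => by
        have key : ∀ Z : Exal.Ext B (B ⧸ J) M,
            (algebraMap B Z.E (β x) + Z.incl (μ x)) * (algebraMap B Z.E (β y) + Z.incl (μ y)) =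
              algebraMap B Z.E (β x * β y) + Z.incl (β x • μ y + β y • μ x) := by
          intro Z
          rw [map_mul, map_add Z.incl, ← IsScalarTower.algebraMap_smul (B ⧸ J) (β x) (μ y),
            ← IsScalarTower.algebraMap_smul (B ⧸ J) (β y) (μ x), ← Z.proj.commutes (β x), ← Z.proj.commutes (β y),
            ← Z.isExtension.mul_incl, ← Z.isExtension.mul_incl, add_mul, mul_add, mul_add,
            GrothLib.ExalLib.incl_mul_incl]
          ring
        have h1 : x * y = algebraMap B X.E (β x * β y) + X.incl (β x • μ y + β y • μ x) :=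
          (congrArg₂ (· * ·) (hβμ x) (hβμ y)).trans (key X)
        rw [h1, hwd]
        exact (key Y).symm }
  refine ⟨GrothLib.ExalLib.equivOfHom X Y φ (fun x => ?_) fun z => ?_⟩
  · conv_rhs => rw [hβμ x]
    change Y.proj (algebraMap B Y.E (β x) + Y.incl (μ x)) = _
    rw [map_add, map_add, GrothLib.ExalLib.proj_incl, GrothLib.ExalLib.proj_incl, AlgHom.commutes, AlgHom.commutes]
  · change f _ = _
    simpa using hwd 0 z

end Groth.Agent.S5813
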