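import Groth.Statements.S5814
import Groth.Agent.Lib.ExalLib.Basic
import Mathlib.Algebra.TrivSqZeroExt.Basic

set_option autoImplicit false
universe u
open EGA41

namespace Groth.Agent.S5814

/-- Surjectivity, commutative form. Let J be an ideal of the commutative ring B, C = B ⧸ J, M a
C-module. Every linear map w : J/J² → M arises from a B-extension of C by M: there is an extension
whose induced map J/J² → M is w. Together with the injectivity statement this is the canonical
bijection between Hom_C(J/J², M) and the classes of B-extensions of C by M. -/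
theorem result {B : Type u} [CommRing B] (J : Ideal B)
    {M : Type u} [AddCommGroup M] [Module (B ⧸ J) M] [Module B M] [IsScalarTower B (B ⧸ J) M]
    (w : J.Cotangent →ₗ[B] M) :
    ∃ X : Exal.Ext B (B ⧸ J) M, X.conormalMap J = w := by
  letI := Exal.opModule B M
  haveI := Exal.isCentralScalar_opModule B M
  have h0 : ∀ (j : J) (m : M), (j : B) • m = 0 := fun j m => by
    rw [← IsScalarTower.algebraMap_smul (B ⧸ J), Ideal.Quotient.algebraMap_eq,
      Ideal.Quotient.eq_zero_iff_mem.2 j.2, zero_smul]
  let K : Ideal (TrivSqZeroExt B M) :=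
    { carrier := {x | ∃ h : TrivSqZeroExt.fst x ∈ J, TrivSqZeroExt.snd x = -w (J.toCotangent ⟨_, h⟩)}
      zero_mem' := ⟨zero_mem J, by
        rw [TrivSqZeroExt.snd_zero, eq_comm, neg_eq_zero]
        exact (congrArg w (map_zero J.toCotangent)).trans (map_zero w)⟩
      add_mem' := by
        rintro x y ⟨hx, hx'⟩ ⟨hy, hy'⟩
        refine ⟨add_mem hx hy, ?_⟩
        rw [TrivSqZeroExt.snd_add, hx', hy', ← neg_add, ← map_add, ← map_add]
        rfl
      smul_mem' := by
        rintro r x ⟨hx, hx'⟩
        refine ⟨J.mul_mem_left _ hx, ?_⟩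
        change TrivSqZeroExt.snd (r * x) = -w (J.toCotangent (TrivSqZeroExt.fst r • (⟨_, hx⟩ : J)))
        rw [TrivSqZeroExt.snd_mul, hx', op_smul_eq_smul, h0 ⟨_, hx⟩, add_zero, smul_neg, map_smul, map_smul] }
  have hK : ∀ x, x ∈ K ↔ ∃ h : TrivSqZeroExt.fst x ∈ J, TrivSqZeroExt.snd x = -w (J.toCotangent ⟨_, h⟩) :=
    fun _ => Iff.rfl
  have mkK : ∀ (x : TrivSqZeroExt B M) (j : J), TrivSqZeroExt.fst x = j →
      TrivSqZeroExt.snd x = -w (J.toCotangent j) → x ∈ K := fun x j h h' => (hK x).2 ⟨h ▸ j.2, by
    rw [h']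
    exact congrArg (fun k : J => -w (J.toCotangent k)) (Subtype.ext h.symm)⟩
  let E := TrivSqZeroExt B M ⧸ K
  letI : Algebra B E := ((Ideal.Quotient.mk K).comp (TrivSqZeroExt.inlHom B M)).toAlgebra
  let p : E →+* B ⧸ J := Ideal.Quotient.lift K
    ((Ideal.Quotient.mk J).comp (TrivSqZeroExt.fstHom B B M).toRingHom) fun x hx =>
      Ideal.Quotient.eq_zero_iff_mem.2 ((hK x).1 hx).1
  let i : M →+ E := (Ideal.Quotient.mk K).toAddMonoidHom.comp (TrivSqZeroExt.inrHom B M).toAddMonoidHom
  let X : Exal.Ext B (B ⧸ J) M :=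
    { E := E
      proj := { p with commutes' := fun _ => rfl }
      incl := i
      isExtension :=
        { proj_surjective := fun c => by
            obtain ⟨b, rfl⟩ := Ideal.Quotient.mk_surjective c
            exact ⟨algebraMap B E b, rfl⟩
          incl_injective := by
            refine (injective_iff_map_eq_zero i).2 fun m hm => ?_
            obtain ⟨h, h'⟩ := (hK _).1 (Ideal.Quotient.eq_zero_iff_mem.1 hm)
            refine h'.trans (neg_eq_zero.2 ?_)
            exact (congrArg w (map_zero J.toCotangent)).trans (map_zero w)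
          exact := fun e => by
            obtain ⟨x, rfl⟩ := Ideal.Quotient.mk_surjective e
            constructor
            · intro hx
              have hx' : TrivSqZeroExt.fst x ∈ J := Ideal.Quotient.eq_zero_iff_mem.1 hx
              refine ⟨TrivSqZeroExt.snd x + w (J.toCotangent ⟨_, hx'⟩), Eq.symm (Ideal.Quotient.eq.2 (mkK _ ⟨_, hx'⟩ ?_ ?_))⟩
              · change TrivSqZeroExt.fst (x - TrivSqZeroExt.inr _) = _
                simp
              · change TrivSqZeroExt.snd (x - TrivSqZeroExt.inr _) = _
                simp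
            · rintro ⟨m, hm⟩
              rw [← hm]
              exact map_zero (Ideal.Quotient.mk J)
          mul_incl := fun e m => by
            obtain ⟨x, rfl⟩ := Ideal.Quotient.mk_surjective e
            refine Eq.trans (map_mul (Ideal.Quotient.mk K) x (TrivSqZeroExt.inr m)).symm
              (congrArg (Ideal.Quotient.mk K) (TrivSqZeroExt.ext ?_ ?_))
            · simp
            · rw [TrivSqZeroExt.snd_mul, TrivSqZeroExt.fst_inr, MulOpposite.op_zero, zero_smul, add_zero,
                TrivSqZeroExt.snd_inr]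
              exact (IsScalarTower.algebraMap_smul (B ⧸ J) _ _).symm } }
  refine ⟨X, LinearMap.ext fun z => ?_⟩
  obtain ⟨j, rfl⟩ := J.toCotangent_surjective z
  refine X.isExtension.incl_injective
    ((X.incl_kerLift _ (X.proj_algebraMap_eq_zero J j)).trans (Ideal.Quotient.eq.2 (mkK _ j ?_ ?_)))
  · change TrivSqZeroExt.fst (TrivSqZeroExt.inl (j : B) - TrivSqZeroExt.inr _) = (j : B)
    simp
  · change TrivSqZeroExt.snd (TrivSqZeroExt.inl (j : B) - TrivSqZeroExt.inr _) = _
    simp

end Groth.Agent.S5814
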