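import Groth.Statements.S5815
import Groth.Agent.Lib.ExalLib.SqZero
import Mathlib.RingTheory.Smooth.Basic

set_option autoImplicit false
universe u
open EGA41

namespace Groth.Agent.S5815

/-- Discrete case. A commutative A-algebra B is formally smooth if and only if every A-extension of B by
a B-module L is trivial (has an A-algebra section). A and B are taken in one universe and L ranges
over that universe. (The published statement is for topological rings, with direct-limit classes of
extensions; this row is its discrete case.) -/
theorem result (A B : Type u) [CommRing A] [CommRing B] [Algebra A B] :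
    Algebra.FormallySmooth A B ↔
      ∀ (L : Type u) [AddCommGroup L] [Module B L] (X : Exal.Ext A B L), X.IsTrivial := by
  constructor
  · intro hFS L _ _ X
    have hnil : IsNilpotent (RingHom.ker X.proj.toRingHom) := by
      refine ⟨2, ?_⟩
      rw [pow_two, Ideal.zero_eq_bot, eq_bot_iff, Ideal.mul_le]
      intro x hx y hy
      obtain ⟨z, rfl⟩ := GrothLib.ExalLib.exists_incl X (RingHom.mem_ker.1 hx)
      obtain ⟨z', rfl⟩ := GrothLib.ExalLib.exists_incl X (RingHom.mem_ker.1 hy)
      exact Ideal.mem_bot.2 (GrothLib.ExalLib.incl_mul_incl X z z')
    let e := Ideal.quotientKerAlgEquivOfSurjective X.isExtension.proj_surjective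
    exact ⟨Algebra.FormallySmooth.lift _ hnil e.symm.toAlgHom, fun b =>
      (congrArg e (Algebra.FormallySmooth.mk_lift _ hnil e.symm.toAlgHom b)).trans (e.apply_symm_apply b)⟩
  · intro h
    refine Algebra.FormallySmooth.of_comp_surjective fun C _ _ I hI f => ?_
    obtain ⟨_, X, pr, hpr, -⟩ := GrothLib.ExalLib.exists_ext_of_sqZero I hI f
    obtain ⟨s, hs⟩ := h _ X
    exact ⟨pr.comp s, AlgHom.ext fun b => by simpa [hs b] using hpr (s b)⟩

end Groth.Agent.S5815
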