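import Groth.Statements.S5816
import Groth.Agent.Lib.ExalLib.SqZero
import Mathlib.RingTheory.Smooth.Basic

set_option autoImplicit false
universe u
open EGA41

namespace Groth.Agent.S5816

/-- Discrete case. For ring maps Λ → A → B, B is formally smooth over A relative to Λ (square-zero test
ideals) if and only if every A-extension of B by a B-module L which is Λ-trivial is A-trivial. Λ, A,
B are taken in one universe and L ranges over it. (The published statement is for topological rings;
this row is its discrete case.) -/
theorem result (Λ A B : Type u) [CommRing Λ]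
    [CommRing A] [CommRing B] [Algebra Λ A] [Algebra Λ B] [Algebra A B] [IsScalarTower Λ A B] :
    EGA41.IsFormallySmoothRel Λ A B ↔
      ∀ (L : Type u) [AddCommGroup L] [Module B L] (X : Exal.Ext A B L),
        X.IsTrivialOver Λ → X.IsTrivial := by
  constructor
  · intro hFS L _ _ X ⟨s, hs⟩
    letI : Algebra Λ X.E := ((algebraMap A X.E).comp (algebraMap Λ A)).toAlgebra
    haveI : IsScalarTower Λ A X.E := IsScalarTower.of_algebraMap_eq fun _ => rfl
    let K : Ideal X.E := RingHom.ker X.proj.toRingHom
    have hK : K ^ 2 = ⊥ := by
      rw [pow_two, eq_bot_iff, Ideal.mul_le]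
      intro x hx y hy
      obtain ⟨z, rfl⟩ := GrothLib.ExalLib.exists_incl X (RingHom.mem_ker.1 hx)
      obtain ⟨z', rfl⟩ := GrothLib.ExalLib.exists_incl X (RingHom.mem_ker.1 hy)
      exact Ideal.mem_bot.2 (GrothLib.ExalLib.incl_mul_incl X z z')
    let e := Ideal.quotientKerAlgEquivOfSurjective X.isExtension.proj_surjective
    let u : B →ₐ[Λ] X.E :=
      { toFun := fun b => s b
        map_one' := map_one s
        map_mul' := map_mul s
        map_zero' := map_zero s
        map_add' := map_add s
        commutes' := fun l => s.commutes l }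
    obtain ⟨v, hv⟩ := hFS X.E K hK e.symm.toAlgHom ⟨u, AlgHom.ext fun b => by
      refine e.injective ?_
      exact (hs b).trans (e.apply_symm_apply b).symm⟩
    exact ⟨v, fun b => (congrArg e (AlgHom.congr_fun hv b)).trans (e.apply_symm_apply b)⟩
  · intro h C _ _ _ _ I hI f ⟨u, hu⟩
    obtain ⟨_, X, pr, hpr, huniq⟩ := GrothLib.ExalLib.exists_ext_of_sqZero I hI f
    have hu' : ∀ b, Ideal.Quotient.mk I (u b) = f b := fun b => AlgHom.congr_fun hu b
    choose s hs1 hs2 hs3 using fun b => huniq b (u b) (hu' b)
    have mem : ∀ b x, pr x = u b → X.proj x = b → x = s b := fun b x h1 h2 => hs3 b x h1 h2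
    have hT : X.IsTrivialOver Λ := by
      refine ⟨{ toFun := fun b => s b
                map_one' := (mem _ _ (by rw [map_one, map_one]) (map_one _)).symm
                map_zero' := (mem _ _ (by rw [map_zero, map_zero]) (map_zero _)).symm
                map_mul' := fun a b => (mem _ _ ((map_mul pr (s a) (s b)).trans (by rw [hs1, hs1]; exact (map_mul u a b).symm)) ((map_mul X.proj (s a) (s b)).trans (by rw [hs2, hs2]))).symm
                map_add' := fun a b => (mem _ _ ((map_add pr (s a) (s b)).trans (by rw [hs1, hs1]; exact (map_add u a b).symm)) ((map_add X.proj (s a) (s b)).trans (by rw [hs2, hs2]))).symm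
                commutes' := fun l => (mem _ _ ?_ ?_).symm }, hs2⟩
      · change pr (algebraMap A X.E (algebraMap Λ A l)) = _
        rw [pr.commutes, u.commutes, IsScalarTower.algebraMap_apply Λ A C]
      · change X.proj (algebraMap A X.E (algebraMap Λ A l)) = _
        rw [X.proj.commutes, IsScalarTower.algebraMap_apply Λ A B]
    obtain ⟨t, ht⟩ := h _ X hT
    exact ⟨pr.comp t, AlgHom.ext fun b => by simpa [ht b] using hpr (t b)⟩

end Groth.Agent.S5816
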