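import Groth.Statements.S5817
import Groth.Agent.Lib.ExalLib.Basic

set_option autoImplicit false
universe u v
open EGA41

namespace Groth.Agent.S5817

/-- Commutative rings, exactness at Der_A(B, L). For ring maps A → B → C and a C-module L, the
B-extension of C by L attached to an A-derivation D : B → L (middle ring C ⊕ L, made a B-algebra
through x ↦ (x, D x)) is trivial if and only if D is the composite of B → C with an A-derivation C →
L. -/
theorem result {A : Type u} {B C L : Type v} [CommRing A] [CommRing B] [CommRing C]
    [Algebra A B] [Algebra B C] [Algebra A C] [IsScalarTower A B C]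
    [AddCommGroup L] [Module C L] [Module B L] [IsScalarTower B C L] [Module A L] [IsScalarTower A B L]
    [IsScalarTower A C L]
    (D : Derivation A B L) :
    (Exal.Ext.ofDerivation (C := C) D).IsTrivial ↔
      ∃ D' : Derivation A C L, D'.compAlgebraMap B = D := by
  let X := Exal.Ext.ofDerivation (C := C) D
  letI := Exal.opModule C L
  haveI := Exal.isCentralScalar_opModule C L
  let s₀ : C →ₐ[A] X.RestrictCarrier A :=
    { toFun := fun c => (TrivSqZeroExt.inl c : TrivSqZeroExt C L)
      map_one' := TrivSqZeroExt.inl_one L
      map_mul' := fun a b => TrivSqZeroExt.inl_mul L a b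
      map_zero' := TrivSqZeroExt.inl_zero L
      map_add' := fun a b => TrivSqZeroExt.inl_add L a b
      commutes' := fun a => by
        change TrivSqZeroExt.inl (algebraMap A C a) =
          TrivSqZeroExt.inl (algebraMap B C (algebraMap A B a)) + TrivSqZeroExt.inr (D (algebraMap A B a))
        rw [D.map_algebraMap, TrivSqZeroExt.inr_zero, add_zero, ← IsScalarTower.algebraMap_apply A B C] }
  have hs₀ : ∀ c, (X.restrictBase A).proj (s₀ c) = c := fun c => rfl
  have halg : ∀ b : B, algebraMap B X.E b = (show X.E from s₀ (algebraMap B C b)) + X.incl (D b) := fun b => rfl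
  constructor
  · rintro ⟨s, hs⟩
    let s' : C →ₐ[A] X.RestrictCarrier A :=
      { toFun := fun c => s c
        map_one' := map_one s
        map_mul' := map_mul s
        map_zero' := map_zero s
        map_add' := map_add s
        commutes' := fun a => by
          rw [IsScalarTower.algebraMap_apply A B C]
          exact s.commutes (algebraMap A B a) }
    obtain ⟨D', hD'⟩ := GrothLib.ExalLib.exists_derivation (X.restrictBase A) (P := C) s' s₀ hs hs₀
    refine ⟨D', Derivation.ext fun b => X.isExtension.incl_injective ?_⟩
    have h1 := hD' (algebraMap B C b)
    change (s (algebraMap B C b) : X.E) = _ at h1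
    rw [s.commutes, halg] at h1
    exact (add_left_cancel h1).symm
  · rintro ⟨D', rfl⟩
    obtain ⟨h, hh⟩ := GrothLib.ExalLib.exists_add_derivation (X.restrictBase A) (P := C) s₀ hs₀ D'
    refine ⟨{ toFun := fun c => h c
              map_one' := map_one h
              map_mul' := map_mul h
              map_zero' := map_zero h
              map_add' := map_add h
              commutes' := fun b => (hh (algebraMap B C b)).trans (halg b).symm }, fun c => ?_⟩
    change X.proj (h c) = c
    rw [hh]
    exact (map_add X.proj _ _).trans ((congrArg (_ + ·) (GrothLib.ExalLib.proj_incl (X.restrictBase A) _)).trans (add_zero _))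

end Groth.Agent.S5817
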