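import Groth.Statements.S5818
import Groth.Agent.Lib.ExalLib.Basic

set_option autoImplicit false
universe u v
open EGA41

namespace Groth.Agent.S5818

/-- Commutative rings, exactness at Exalcom_B(C, L) on underlying pointed sets. For ring maps A → B → C
and a C-module L, a B-extension of C by L is A-trivial if and only if it is equivalent to the
extension attached to some A-derivation B → L. -/
theorem result {A : Type u} {B C L : Type v} [CommRing A] [CommRing B] [CommRing C]
    [Algebra A B] [Algebra B C] [Algebra A C] [IsScalarTower A B C]
    [AddCommGroup L] [Module C L] [Module B L] [IsScalarTower B C L] [Module A L] [IsScalarTower A B L]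
    [IsScalarTower A C L]
    (X : Exal.Ext B C L) :
    X.IsTrivialOver A ↔
      ∃ D : Derivation A B L, Nonempty (X.Equiv (Exal.Ext.ofDerivation (C := C) D)) := by
  letI := Exal.opModule C L
  haveI := Exal.isCentralScalar_opModule C L
  constructor
  · rintro ⟨s, hs⟩
    obtain ⟨D, hD⟩ := GrothLib.ExalLib.exists_derivation (X.restrictBase A) (P := B)
      { toFun := fun b => algebraMap B X.E b
        map_one' := map_one (algebraMap B X.E)
        map_mul' := map_mul (algebraMap B X.E)
        map_zero' := map_zero (algebraMap B X.E)
        map_add' := map_add (algebraMap B X.E)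
        commutes' := fun _ => rfl }
      (s.comp (IsScalarTower.toAlgHom A B C)) (fun b => X.proj.commutes b) (fun b => hs _)
    refine ⟨D, ?_⟩
    let Y := Exal.Ext.ofDerivation (C := C) D
    let t : C →ₐ[A] Y.RestrictCarrier A :=
      { toFun := fun c => (TrivSqZeroExt.inl c : TrivSqZeroExt C L)
        map_one' := TrivSqZeroExt.inl_one L
        map_mul' := fun a b => TrivSqZeroExt.inl_mul L a b
        map_zero' := TrivSqZeroExt.inl_zero L
        map_add' := fun a b => TrivSqZeroExt.inl_add L a b
        commutes' := fun a => by
          change TrivSqZeroExt.inl (algebraMap A C a) =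
            TrivSqZeroExt.inl (algebraMap B C (algebraMap A B a)) + TrivSqZeroExt.inr (D (algebraMap A B a))
          rw [D.map_algebraMap, TrivSqZeroExt.inr_zero, add_zero, ← IsScalarTower.algebraMap_apply A B C] }
    obtain ⟨e, he⟩ := GrothLib.ExalLib.exists_equiv_of_sections (X.restrictBase A) (Y.restrictBase A) s hs t
      fun c => rfl
    refine ⟨GrothLib.ExalLib.equivOfHom X Y
      { toFun := fun x => e.toAlgEquiv x
        map_one' := map_one e.toAlgEquiv
        map_mul' := map_mul e.toAlgEquiv
        map_zero' := map_zero e.toAlgEquiv
        map_add' := map_add e.toAlgEquiv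
        commutes' := fun b =>
          (congrArg e.toAlgEquiv (hD b)).trans (he (algebraMap B C b) (D b)) } e.proj_apply e.apply_incl⟩
  · rintro ⟨D, ⟨e⟩⟩
    let Y := Exal.Ext.ofDerivation (C := C) D
    let t : C →ₐ[A] Y.RestrictCarrier A :=
      { toFun := fun c => (TrivSqZeroExt.inl c : TrivSqZeroExt C L)
        map_one' := TrivSqZeroExt.inl_one L
        map_mul' := fun a b => TrivSqZeroExt.inl_mul L a b
        map_zero' := TrivSqZeroExt.inl_zero L
        map_add' := fun a b => TrivSqZeroExt.inl_add L a b
        commutes' := fun a => by
          change TrivSqZeroExt.inl (algebraMap A C a) =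
            TrivSqZeroExt.inl (algebraMap B C (algebraMap A B a)) + TrivSqZeroExt.inr (D (algebraMap A B a))
          rw [D.map_algebraMap, TrivSqZeroExt.inr_zero, add_zero, ← IsScalarTower.algebraMap_apply A B C] }
    exact ⟨{ toFun := fun c => e.toAlgEquiv.symm (t c)
             map_one' := (congrArg e.toAlgEquiv.symm (map_one t)).trans (map_one e.toAlgEquiv.symm)
             map_mul' := fun a b => (congrArg e.toAlgEquiv.symm (map_mul t a b)).trans (map_mul e.toAlgEquiv.symm _ _)
             map_zero' := (congrArg e.toAlgEquiv.symm (map_zero t)).trans (map_zero e.toAlgEquiv.symm)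
             map_add' := fun a b => (congrArg e.toAlgEquiv.symm (map_add t a b)).trans (map_add e.toAlgEquiv.symm _ _)
             commutes' := fun a => (congrArg e.toAlgEquiv.symm (t.commutes a)).trans
              (e.toAlgEquiv.symm.commutes (algebraMap A B a)) },
      fun c => (e.symm.proj_apply (t c)).trans rfl⟩

end Groth.Agent.S5818
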