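import Groth.Statements.S5819
import Groth.Agent.Lib.ExalLib.Basic

set_option autoImplicit false
universe u v
open EGA41

namespace Groth.Agent.S5819

/-- Commutative rings, exactness at Exalcom_A(C, L) on underlying pointed sets. For ring maps A → B → C
and a C-module L, an A-extension Y of C by L pulls back to a trivial A-extension of B if and only if
Y is equivalent to some B-extension of C by L viewed as an A-extension. -/
theorem result {A : Type u} {B C L : Type v} [CommRing A]
    [CommRing B] [CommRing C] [Algebra A B] [Algebra B C] [Algebra A C] [IsScalarTower A B C]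
    [AddCommGroup L] [Module C L] [Module B L] [IsScalarTower B C L]
    (Y : Exal.Ext A C L) :
    (Y.pullback B).IsTrivial ↔
      ∃ X : Exal.Ext B C L, Nonempty ((X.restrictBase A).Equiv Y) := by
  constructor
  · rintro ⟨s, hs⟩
    let g : B →ₐ[A] Y.E := ((AlgHom.fst A Y.E B).comp (Y.fiberProd B).val).comp s
    have hg : ∀ b, Y.proj (g b) = algebraMap B C b := fun b => by
      have h : Y.proj (s b).1.1 = algebraMap B C (s b).1.2 := (s b).2
      rwa [show (s b).1.2 = b from hs b] at h
    refine ⟨GrothLib.ExalLib.reBase Y g.toRingHom hg, ⟨GrothLib.ExalLib.equivOfHom _ Y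
      { toFun := fun x => x
        map_one' := rfl
        map_mul' := fun _ _ => rfl
        map_zero' := rfl
        map_add' := fun _ _ => rfl
        commutes' := fun a => g.commutes a } (fun _ => rfl) (fun _ => rfl)⟩⟩
  · rintro ⟨X, ⟨e⟩⟩
    refine ⟨{ toFun := fun b => ⟨(e.toAlgEquiv (algebraMap B X.E b), b), ?_⟩
              map_one' := Subtype.ext (Prod.ext ((congrArg e.toAlgEquiv (map_one (algebraMap B X.E))).trans (map_one e.toAlgEquiv)) rfl)
              map_mul' := fun a b => Subtype.ext (Prod.ext
                ((congrArg e.toAlgEquiv (map_mul (algebraMap B X.E) a b)).trans (map_mul e.toAlgEquiv _ _)) rfl)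
              map_zero' := Subtype.ext (Prod.ext ((congrArg e.toAlgEquiv (map_zero (algebraMap B X.E))).trans (map_zero e.toAlgEquiv)) rfl)
              map_add' := fun a b => Subtype.ext (Prod.ext
                ((congrArg e.toAlgEquiv (map_add (algebraMap B X.E) a b)).trans (map_add e.toAlgEquiv _ _)) rfl)
              commutes' := fun a => Subtype.ext (Prod.ext (e.toAlgEquiv.commutes a) rfl) }, fun b => rfl⟩
    exact (e.proj_apply _).trans (X.proj.commutes b)

end Groth.Agent.S5819
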