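import Groth.Statements.S5825
import Mathlib

set_option autoImplicit false
universe u v w
open EGA41

namespace Groth.Agent.S5825

/-- Let A be a topological ring, M, N topological A-modules with the topologies deduced from that of A,
and u : M → N a continuous linear map with dense image (a formal epimorphism). Then u is a formal
bimorphism (dense image and inducing) if and only if, for every open ideal J of A, the induced map
M/JM → N/JN is bijective (injectivity and surjectivity are written out elementwise). -/
theorem result {A : Type u} {M : Type v} {N : Type w} [CommRing A]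
    [TopologicalSpace A] [AddCommGroup M] [Module A M] [TopologicalSpace M] [AddCommGroup N] [Module A N]
    [TopologicalSpace N] (hM : TopMod.IsDeduced A M) (hN : TopMod.IsDeduced A N) (u : M →L[A] N)
    (hu : DenseRange u) :
    IsDenseInducing u ↔
      ∀ J : Ideal A, IsOpen (J : Set A) →
        (∀ x : M, u x ∈ (J • ⊤ : Submodule A N) → x ∈ (J • ⊤ : Submodule A M)) ∧
          ∀ y : N, ∃ x : M, y - u x ∈ (J • ⊤ : Submodule A N) := by
  haveI := hM.1
  haveI := hN.1
  have hopen : ∀ J : Ideal A, IsOpen (J : Set A) → IsOpen ((J • ⊤ : Submodule A N) : Set N) := fun J hJ =>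
    AddSubgroup.isOpen_of_mem_nhds (J • ⊤ : Submodule A N).toAddSubgroup (hN.2.mem_of_mem hJ)
  have hdense : ∀ J : Ideal A, IsOpen (J : Set A) → ∀ y : N, ∃ x : M, y - u x ∈ (J • ⊤ : Submodule A N) := fun J hJ y => by
    obtain ⟨x, hx⟩ := hu.exists_mem_open ((hopen J hJ).preimage (continuous_const.sub continuous_id : Continuous fun z => y - z))
      ⟨y, by show y - y ∈ (J • ⊤ : Submodule A N); rw [sub_self]; exact zero_mem _⟩
    exact ⟨x, hx⟩
  constructor
  · intro h J hJ
    refine ⟨fun x hx => ?_, hdense J hJ⟩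
    have hc : ((J • ⊤ : Submodule A M) : Set M) ∈ (nhds (u 0)).comap u := by
      rw [← h.isInducing.nhds_eq_comap]
      exact hM.2.mem_of_mem hJ
    rw [map_zero] at hc
    obtain ⟨J', hJ', hsub⟩ := (hN.2.comap u).mem_iff.1 hc
    have key : ∀ z ∈ (J • ⊤ : Submodule A N), ∃ y ∈ (J • ⊤ : Submodule A M), z - u y ∈ (J' • ⊤ : Submodule A N) := fun z hz => by
      refine Submodule.smul_induction_on hz (fun j hj n _ => ?_) (fun a b ha hb => ?_)
      · obtain ⟨m, hm⟩ := hdense J' hJ' n
        refine ⟨j • m, Submodule.smul_mem_smul hj trivial, ?_⟩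
        rw [map_smul, ← smul_sub]
        exact Submodule.smul_mem _ j hm
      · obtain ⟨ya, hya, hza⟩ := ha
        obtain ⟨yb, hyb, hzb⟩ := hb
        refine ⟨ya + yb, add_mem hya hyb, ?_⟩
        rw [map_add, add_sub_add_comm]
        exact add_mem hza hzb
    obtain ⟨y, hy, hxy⟩ := key _ hx
    have h2 : x - y ∈ (J • ⊤ : Submodule A M) := hsub (by show u (x - y) ∈ (J' • ⊤ : Submodule A N); rw [map_sub]; exact hxy)
    simpa using add_mem h2 hy
  · intro h
    refine ⟨IsTopologicalAddGroup.isInducing_iff_nhds_zero.2 (le_antisymm ?_ ?_), hu⟩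
    · rw [← map_zero u]; exact u.continuous.continuousAt.le_comap
    · intro s hs
      obtain ⟨J, hJ, hsub⟩ := hM.2.mem_iff.1 hs
      exact (hN.2.comap u).mem_iff.2 ⟨J, hJ, fun x hx => hsub ((h J hJ).1 x hx)⟩

end Groth.Agent.S5825
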