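import Groth.Statements.S5826
import Mathlib

set_option autoImplicit false
universe u v w
open EGA41

namespace Groth.Agent.S5826

/-- Let A be a topological ring, M, N topological A-modules with the topologies deduced from that of A,
u : M → N a continuous linear map. Then u is formally left invertible if and only if, for every open
ideal J of A, the induced map M/JM → N/JN is left invertible, i.e. some linear map N → M/JM composes
with u to the projection M → M/JM. -/
theorem result {A : Type u} {M : Type v} {N : Type w}
    [CommRing A] [TopologicalSpace A] [AddCommGroup M] [Module A M] [TopologicalSpace M] [AddCommGroup N]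
    [Module A N] [TopologicalSpace N] (hM : TopMod.IsDeduced A M) (hN : TopMod.IsDeduced A N)
    (u : M →L[A] N) :
    TopMod.IsFormallyLeftInvertible u ↔
      ∀ J : Ideal A, IsOpen (J : Set A) →
        ∃ w : N →ₗ[A] M ⧸ (J • ⊤ : Submodule A M), ∀ x : M, w (u x) = Submodule.Quotient.mk x := by
  haveI := hM.1
  haveI := hN.1
  constructor
  · intro h J hJ
    letI : TopologicalSpace (M ⧸ (J • ⊤ : Submodule A M)) := ⊥
    haveI : DiscreteTopology (M ⧸ (J • ⊤ : Submodule A M)) := ⟨rfl⟩
    have hc : Continuous (Submodule.mkQ (J • ⊤ : Submodule A M)) := by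
      haveI : IsTopologicalAddGroup (M ⧸ (J • ⊤ : Submodule A M)) :=
        { continuous_add := continuous_of_discreteTopology, continuous_neg := continuous_of_discreteTopology }
      refine continuous_of_continuousAt_zero _ ?_
      rw [ContinuousAt, map_zero, nhds_discrete (M ⧸ (J • ⊤ : Submodule A M)), Filter.tendsto_pure]
      filter_upwards [hM.2.mem_of_mem hJ] with x hx
      exact (Submodule.Quotient.mk_eq_zero _).2 hx
    obtain ⟨w, hw⟩ := h (M ⧸ (J • ⊤ : Submodule A M)) ⟨Submodule.mkQ _, hc⟩
    exact ⟨w.toLinearMap, hw⟩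
  · intro h E _ _ _ _ φ
    haveI : IsTopologicalAddGroup E :=
      { continuous_add := continuous_of_discreteTopology, continuous_neg := continuous_of_discreteTopology }
    have hs : (φ ⁻¹' {0}) ∈ nhds (0 : M) :=
      ((isOpen_discrete _).preimage φ.continuous).mem_nhds (map_zero φ)
    obtain ⟨J, hJ, hsub⟩ := hM.2.mem_iff.1 hs
    obtain ⟨w, hw⟩ := h J hJ
    let φ' : M ⧸ (J • ⊤ : Submodule A M) →ₗ[A] E := Submodule.liftQ _ φ.toLinearMap fun x hx => hsub hx
    have hw0 : ∀ x ∈ (J • ⊤ : Submodule A N), w x = 0 := fun x hx => by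
      refine Submodule.smul_induction_on hx (fun j hj n _ => ?_) (fun a b ha hb => by rw [map_add, ha, hb, add_zero])
      obtain ⟨m, hm⟩ := Submodule.Quotient.mk_surjective _ (w n)
      rw [map_smul, ← hm, ← Submodule.Quotient.mk_smul, Submodule.Quotient.mk_eq_zero]
      exact Submodule.smul_mem_smul hj trivial
    have hc : Continuous (φ'.comp w) := by
      refine continuous_of_continuousAt_zero _ ?_
      rw [ContinuousAt, map_zero, nhds_discrete E, Filter.tendsto_pure]
      filter_upwards [hN.2.mem_of_mem hJ] with x hx
      show φ' (w x) = 0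
      rw [hw0 x hx, map_zero]
    refine ⟨⟨φ'.comp w, hc⟩, fun x => ?_⟩
    show φ' (w (u x)) = φ x
    rw [hw x]
    rfl

end Groth.Agent.S5826
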