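import Groth.Statements.S5827
import Groth.Agent.S5826
import Mathlib

set_option autoImplicit false
universe u v w
open EGA41

namespace Groth.Agent.S5827

/-- Let A be a preadmissible topological ring with an ideal of definition 𝔏, M, N topological A-modules
with the topologies deduced from that of A such that N/JN is a projective (A/J)-module for every
open ideal J, and u : M → N a continuous linear map. Then u is formally left invertible if and only
if the induced map M/𝔏M → N/𝔏N is left invertible. -/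
theorem result {A : Type u} {M : Type v}
    {N : Type w} [CommRing A] [TopologicalSpace A] [AddCommGroup M] [Module A M] [TopologicalSpace M]
    [AddCommGroup N] [Module A N] [TopologicalSpace N] (hA : LinTop.IsPreadmissible A) (𝔏 : Ideal A)
    (h𝔏 : LinTop.IsIdealOfDefinition A 𝔏) (hM : TopMod.IsDeduced A M) (hN : TopMod.IsDeduced A N)
    (hproj : ∀ J : Ideal A, IsOpen (J : Set A) → Module.Projective (A ⧸ J) (N ⧸ (J • (⊤ : Submodule A N))))
    (u : M →L[A] N) :
    TopMod.IsFormallyLeftInvertible u ↔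
      ∃ w : N →ₗ[A] M ⧸ (𝔏 • ⊤ : Submodule A M), ∀ x : M, w (u x) = Submodule.Quotient.mk x := by
  classical
  rw [Groth.Agent.S5826.result hM hN u]
  refine ⟨fun h => h 𝔏 h𝔏.1, fun ⟨w, hw⟩ J hJ => ?_⟩
  obtain ⟨n, -, hn⟩ := h𝔏.2 (J : Set A) (hJ.mem_nhds J.zero_mem)
  haveI := hproj J hJ
  let S : Submodule (A ⧸ J) (M ⧸ (J • ⊤ : Submodule A M)) := (𝔏.map (Ideal.Quotient.mk J)) • ⊤
  have hS : S.restrictScalars A = 𝔏 • ⊤ := by
    show ((𝔏.map (algebraMap A (A ⧸ J))) • (⊤ : Submodule (A ⧸ J) (M ⧸ (J • ⊤ : Submodule A M)))).restrictScalars A = _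
    rw [Ideal.smul_restrictScalars, Submodule.restrictScalars_top]
  let π : M →ₗ[A] (M ⧸ (J • ⊤ : Submodule A M)) ⧸ S := (S.mkQ.restrictScalars A).comp (Submodule.mkQ _)
  let t : M ⧸ (𝔏 • ⊤ : Submodule A M) →ₗ[A] (M ⧸ (J • ⊤ : Submodule A M)) ⧸ S :=
    Submodule.liftQ _ π fun x hx => (Submodule.Quotient.mk_eq_zero S).2 (by
      rw [← Submodule.restrictScalars_mem A, hS]
      have := Submodule.mem_map_of_mem (f := Submodule.mkQ (J • ⊤ : Submodule A M)) hx
      rwa [Submodule.map_smul'', Submodule.map_top, Submodule.range_mkQ] at this)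
  let wb : N ⧸ (J • ⊤ : Submodule A N) →ₗ[A] (M ⧸ (J • ⊤ : Submodule A M)) ⧸ S :=
    Submodule.liftQ _ (t.comp w) (Submodule.smul_le.2 fun j hj z _ => by
      show t (w (j • z)) = 0
      rw [map_smul, map_smul, ← algebraMap_smul (A ⧸ J) j, Ideal.Quotient.algebraMap_eq,
        Ideal.Quotient.eq_zero_iff_mem.2 hj, zero_smul])
  let wb' := wb.extendScalarsOfSurjective (R := A) (S := A ⧸ J) Ideal.Quotient.mk_surjective
  obtain ⟨W, hW⟩ := Module.projective_lifting_property S.mkQ wb' S.mkQ_surjective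
  have huJ : (J • ⊤ : Submodule A M) ≤ (J • ⊤ : Submodule A N).comap u.toLinearMap :=
    Submodule.smul_top_le_comap_smul_top J u.toLinearMap
  let W' := W.restrictScalars A
  let g : Module.End A (M ⧸ (J • ⊤ : Submodule A M)) := W'.comp (Submodule.mapQ _ _ u.toLinearMap huJ)
  have hg : ∀ q, g q - q ∈ (𝔏 • ⊤ : Submodule A (M ⧸ (J • ⊤ : Submodule A M))) := fun q => by
    obtain ⟨x, rfl⟩ := Submodule.Quotient.mk_surjective _ q
    rw [← hS, Submodule.restrictScalars_mem, ← Submodule.Quotient.eq]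
    refine (LinearMap.congr_fun hW (Submodule.Quotient.mk (u x))).trans ?_
    show t (w (u x)) = _
    rw [hw x]
    rfl
  have hpow : ∀ (k : ℕ) q, ((g - 1) ^ k) q ∈ (𝔏 ^ k • ⊤ : Submodule A (M ⧸ (J • ⊤ : Submodule A M))) := fun k => by
    induction k with
    | zero => intro q; simp
    | succ k ih =>
      intro q
      rw [pow_succ' (g - 1), Module.End.mul_apply, pow_succ 𝔏, Submodule.mul_smul]
      refine Submodule.smul_induction_on (ih q) (fun a ha z _ => ?_) (fun a b ha hb => by rw [map_add]; exact add_mem ha hb)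
      rw [map_smul]
      exact Submodule.smul_mem_smul ha (hg z)
  have hbot : (𝔏 ^ n • ⊤ : Submodule A (M ⧸ (J • ⊤ : Submodule A M))) = ⊥ := eq_bot_iff.2 (Submodule.smul_le.2 fun a ha z _ => by
    obtain ⟨x, rfl⟩ := Submodule.Quotient.mk_surjective _ z
    rw [Submodule.mem_bot, ← Submodule.Quotient.mk_smul, Submodule.Quotient.mk_eq_zero]
    exact Submodule.smul_mem_smul (hn ha) trivial)
  have hnil : IsNilpotent (g - 1) := ⟨n, LinearMap.ext fun q => by
    have := hpow n q
    rwa [hbot, Submodule.mem_bot] at this⟩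
  have hunit : IsUnit g := by
    have := hnil.isUnit_one_add
    rwa [add_sub_cancel] at this
  obtain ⟨ug, hug⟩ := hunit
  refine ⟨(↑ug⁻¹ : Module.End A _).comp (W'.comp (Submodule.mkQ _)), fun x => ?_⟩
  show (↑ug⁻¹ : Module.End A _) (g (Submodule.Quotient.mk x)) = _
  rw [← hug, ← Module.End.mul_apply, Units.inv_mul]
  rfl

end Groth.Agent.S5827
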