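import Groth.Statements.S5828
import Mathlib.Tactic.LinearCombination

set_option autoImplicit false
universe u v
open EGA41

namespace Groth.Agent.S5828

/-- Commutative case. For an A-extension X of C by a C-module L, with middle ring E, projection p and
inclusion i, the A-derivations D : C → L and the self-equivalences of X correspond under D ↦ (x ↦ x
+ i (D (p x))): every derivation defines a self-equivalence with this formula, and every
self-equivalence is of this form for exactly one derivation. (Bijection of sets; the published
statement also records compatibility with the group laws.) -/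
theorem result {A : Type u} {C L : Type v} [CommRing A] [CommRing C] [Algebra A C]
    [AddCommGroup L] [Module C L] [Module A L] [IsScalarTower A C L] (X : Exal.Ext A C L) :
    (∀ D : Derivation A C L, ∃ e : X.Equiv X, ∀ x : X.E, e.toAlgEquiv x = x + X.incl (D (X.proj x))) ∧
      ∀ e : X.Equiv X, ∃! D : Derivation A C L, ∀ x : X.E, e.toAlgEquiv x = x + X.incl (D (X.proj x)) := by
  constructor
  · intro D
    have key : ∀ D : Derivation A C L, ∃ f : X.E →ₐ[A] X.E, ∀ x, f x = x + X.incl (D (X.proj x)) := by
      intro D
      refine ⟨{ toFun := fun x => x + X.incl (D (X.proj x))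
                map_one' := by simp
                map_mul' := fun x y => ?_
                map_zero' := by simp
                map_add' := fun x y => by simp only [map_add]; abel
                commutes' := fun a => by simp }, fun x => rfl⟩
      have h0 : ∀ z w : L, X.incl z * X.incl w = 0 := fun z w => by
        rw [X.isExtension.mul_incl, (X.isExtension.exact _).2 ⟨z, rfl⟩, zero_smul, map_zero]
      rw [map_mul, Derivation.leibniz, map_add, add_mul, mul_add, mul_add, h0, add_zero,
        X.isExtension.mul_incl, mul_comm (X.incl _) y, X.isExtension.mul_incl]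
      abel
    obtain ⟨f, hf⟩ := key D
    obtain ⟨g, hg⟩ := key (-D)
    have hp : ∀ z, X.proj (X.incl z) = 0 := fun z => (X.isExtension.exact _).2 ⟨z, rfl⟩
    refine ⟨⟨AlgEquiv.ofAlgHom f g ?_ ?_, fun x => ?_, fun z => ?_⟩, fun x => hf x⟩
    · refine AlgHom.ext fun x => ?_
      simp [hf, hg, hp]
    · refine AlgHom.ext fun x => ?_
      simp [hf, hg, hp]
    · simp [hf, hp]
    · simp [hf, hp]
  · intro e
    have hk : ∀ x : X.E, ∃ z, X.incl z = e.toAlgEquiv x - x := fun x =>
      (X.isExtension.exact _).1 (by rw [map_sub, e.proj_apply, sub_self])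
    choose δ hδ using hk
    choose s hs using X.isExtension.proj_surjective
    have hinj := X.isExtension.incl_injective
    have hwd : ∀ x y : X.E, X.proj x = X.proj y → δ x = δ y := fun x y hxy => by
      obtain ⟨z, hz⟩ := (X.isExtension.exact (x - y)).1 (by rw [map_sub, hxy, sub_self])
      refine hinj ?_
      rw [hδ, hδ]
      have h1 : e.toAlgEquiv (x - y) = x - y := by rw [← hz, e.apply_incl]
      rw [map_sub] at h1
      linear_combination h1
    have hadd : ∀ x y, δ (x + y) = δ x + δ y := fun x y => hinj (by
      rw [map_add, hδ, hδ, hδ, map_add]; abel)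
    have hmul : ∀ x y, δ (x * y) = X.proj x • δ y + X.proj y • δ x := fun x y => hinj (by
      have h1 : (e.toAlgEquiv x - x) * (e.toAlgEquiv y - y) = 0 := by
        rw [← hδ, ← hδ, X.isExtension.mul_incl, (X.isExtension.exact _).2 ⟨_, rfl⟩, zero_smul, map_zero]
      rw [map_add, ← X.isExtension.mul_incl, ← X.isExtension.mul_incl, hδ, hδ, hδ, map_mul]
      linear_combination h1)
    have hsmul : ∀ (a : A) x, δ (a • x) = a • δ x := fun a x => by
      have h0 : δ (algebraMap A X.E a) = 0 := hinj (by rw [hδ, AlgEquiv.commutes, sub_self, map_zero])
      rw [Algebra.smul_def, hmul, h0, smul_zero, add_zero, AlgHom.commutes, algebraMap_smul]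
    let D : Derivation A C L := Derivation.mk'
      { toFun := fun c => δ (s c)
        map_add' := fun c c' => by rw [← hadd]; exact hwd _ _ (by rw [map_add, hs, hs, hs])
        map_smul' := fun a c => by
          rw [RingHom.id_apply, ← hsmul]; exact hwd _ _ (by rw [map_smul, hs, hs]) }
      (fun c c' => by
        change δ (s (c * c')) = c • δ (s c') + c' • δ (s c)
        rw [hwd (s (c * c')) (s c * s c') (by rw [map_mul, hs, hs, hs]), hmul, hs, hs])
    refine ⟨D, fun x => ?_, fun D' hD' => Derivation.ext fun c => ?_⟩
    · change _ = x + X.incl (δ (s (X.proj x)))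
      rw [hwd (s (X.proj x)) x (hs _), hδ, add_sub_cancel]
    · refine hinj ?_
      change _ = X.incl (δ (s c))
      rw [hδ, hD', hs, add_sub_cancel_left]

end Groth.Agent.S5828
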