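import Groth.Statements.S5831
-- import your own Groth.Agent.* helpers here

set_option autoImplicit false
universe u
open EGA41

namespace Groth.Agent.S5831

/-- Discrete case. Let B be an A-algebra which is a projective A-module (A and B in one universe). If
for every B-module L in that universe every A-bilinear symmetric Hochschild 2-cocycle B × B → L is a
coboundary, then B is formally smooth over A. (The published statement assumes B formally projective
as a topological A-module; for discrete rings this is projectivity.) -/
theorem result {A B : Type u} [CommRing A]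
    [CommRing B] [Algebra A B] [Module.Projective A B]
    (h : ∀ (L : Type u) [AddCommGroup L] [Module B L] [Module A L] [IsScalarTower A B L]
      (f : B →ₗ[A] B →ₗ[A] L), (∀ x y : B, f x y = f y x) →
        (∀ x y z : B, f (x * y) z + z • f x y = x • f y z + f x (y * z)) →
          ∃ g : B →ₗ[A] L, ∀ x y : B, f x y = x • g y - g (x * y) + y • g x) :
    Algebra.FormallySmooth A B := by
  refine Algebra.FormallySmooth.of_comp_surjective ?_
  intro C _ _ I hI u
  obtain ⟨s, hs⟩ := Module.projective_lifting_property (Ideal.Quotient.mkₐ A I).toLinearMap u.toLinearMap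
    (Ideal.Quotient.mkₐ_surjective A I)
  have hsu : ∀ x, Ideal.Quotient.mk I (s x) = u x := fun x => LinearMap.congr_fun hs x
  have hII : ∀ a ∈ I, ∀ b ∈ I, a * b = 0 := fun a ha b hb => by
    have := Ideal.mul_mem_mul ha hb
    rwa [← pow_two, hI, Ideal.mem_bot] at this
  have key : ∀ c c' : C, Ideal.Quotient.mk I c = Ideal.Quotient.mk I c' → ∀ y ∈ I, c * y = c' * y := fun c c' hc y hy => by
    have := hII _ (Ideal.Quotient.eq.1 hc) y hy
    linear_combination this
  letI : Module B I :=
    { smul := fun b y => ⟨s b * y.1, I.mul_mem_left _ y.2⟩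
      one_smul := fun y => Subtype.ext ((key _ 1 (by rw [hsu, map_one, map_one]) _ y.2).trans (one_mul _))
      mul_smul := fun b b' y => Subtype.ext ((key _ (s b * s b') (by rw [hsu, map_mul, map_mul, hsu, hsu]) _ y.2).trans
        (mul_assoc _ _ _))
      smul_zero := fun b => Subtype.ext (mul_zero _)
      smul_add := fun b y y' => Subtype.ext (mul_add _ _ _)
      add_smul := fun b b' y => Subtype.ext (show s (b + b') * y.1 = s b * y.1 + s b' * y.1 by rw [map_add, add_mul])
      zero_smul := fun y => Subtype.ext (show s 0 * y.1 = 0 by rw [map_zero, zero_mul]) }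
  haveI : IsScalarTower A B I :=
    ⟨fun a b y => Subtype.ext (show s (a • b) * y.1 = a • (s b * y.1) by rw [map_smul, smul_mul_assoc])⟩
  have hmem : ∀ x y, s x * s y - s (x * y) ∈ I := fun x y => by
    rw [← Ideal.Quotient.eq, map_mul, hsu, hsu, hsu, map_mul]
  let f : B →ₗ[A] B →ₗ[A] I := LinearMap.mk₂ A (fun x y => (⟨s x * s y - s (x * y), hmem x y⟩ : I))
    (fun x x' y => Subtype.ext (by simp [add_mul]; ring))
    (fun a x y => Subtype.ext (by simp [smul_mul_assoc, smul_sub]))
    (fun x y y' => Subtype.ext (by simp [mul_add]; ring))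
    (fun a x y => Subtype.ext (by simp [mul_smul_comm, smul_sub]))
  have hf : ∀ x y, ((f x y : I) : C) = s x * s y - s (x * y) := fun x y => rfl
  obtain ⟨g, hg⟩ := h I f (fun x y => Subtype.ext (by rw [hf, hf, mul_comm (s x), mul_comm x]))
    (fun x y z => Subtype.ext (by
      show (f (x * y) z : C) + s z * (f x y : C) = s x * (f y z : C) + (f x (y * z) : C)
      rw [hf, hf, hf, hf, mul_assoc x y z]; ring))
  have hv : ∀ x, Ideal.Quotient.mk I (s x - (g x : C)) = u x := fun x => by
    rw [map_sub, hsu, Ideal.Quotient.eq_zero_iff_mem.2 (g x).2, sub_zero]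
  have hmul : ∀ x y, s (x * y) - (g (x * y) : C) = (s x - (g x : C)) * (s y - (g y : C)) := fun x y => by
    have h1 := congrArg Subtype.val (hg x y)
    change s x * s y - s (x * y) = s x * (g y : C) - (g (x * y) : C) + s y * (g x : C) at h1
    have h2 := hII _ (g x).2 _ (g y).2
    linear_combination (-1 : C) * h1 - h2
  let v : B →ₗ[A] C := s - (I.subtype.restrictScalars A).comp g
  have hone : v 1 = 1 := by
    have he : v 1 - 1 ∈ I := Ideal.Quotient.eq.1 ((hv 1).trans (by rw [map_one, map_one]))
    have h1 : v 1 = v 1 * v 1 := by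
      have := hmul 1 1
      rwa [one_mul] at this
    have h2 := hII _ he _ he
    linear_combination (-1 : C) * h1 - h2
  refine ⟨AlgHom.ofLinearMap v hone hmul, AlgHom.ext hv⟩

end Groth.Agent.S5831
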