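import Groth.Statements.S5832
import Groth.Agent.Lib.ExalLib.Basic

set_option autoImplicit false
universe u u' v
open EGA41

namespace Groth.Agent.S5832

/-- Surjectivity at the end of the sequence. For ring maps Λ → A → B → C and a C-module L, every
Λ-trivial A-extension of B by L is equivalent to the inverse image along B → C of a Λ-trivial
A-extension of C by L. (Exactness at the other places is that of the six-term derivation-extension
sequence restricted to Λ-trivial classes.) -/
theorem result {Λ : Type u} {A : Type u'} {B C L : Type v}
    [CommRing Λ] [CommRing A] [CommRing B] [CommRing C] [Algebra Λ A] [Algebra Λ B] [Algebra Λ C]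
    [Algebra A B] [Algebra B C] [Algebra A C] [IsScalarTower Λ A B] [IsScalarTower Λ A C] [IsScalarTower A B C]
    [AddCommGroup L] [Module C L] [Module B L] [IsScalarTower B C L]
    (Y : Exal.Ext A B L) (hY : Y.IsTrivialOver Λ) :
    ∃ X : Exal.Ext A C L, X.IsTrivialOver Λ ∧ Nonempty ((X.pullback B).Equiv Y) := by
  letI : Module Λ L := Module.compHom L (algebraMap Λ C)
  haveI : IsScalarTower Λ C L := IsScalarTower.of_algebraMap_smul fun _ _ => rfl
  haveI : IsScalarTower Λ B L := IsScalarTower.of_algebraMap_smul fun l z => by
    change algebraMap Λ B l • z = algebraMap Λ C l • z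
    rw [IsScalarTower.algebraMap_apply Λ A C, IsScalarTower.algebraMap_apply A B C,
      ← IsScalarTower.algebraMap_apply Λ A B, algebraMap_smul C (algebraMap Λ B l) z]
  letI : Module A L := Module.compHom L (algebraMap A B)
  haveI : IsScalarTower A B L := IsScalarTower.of_algebraMap_smul fun _ _ => rfl
  haveI : IsScalarTower A C L := IsScalarTower.of_algebraMap_smul fun a z => by
    change algebraMap A C a • z = algebraMap A B a • z
    rw [IsScalarTower.algebraMap_apply A B C, algebraMap_smul]
  obtain ⟨s, hs⟩ := hY
  obtain ⟨D, hD⟩ := GrothLib.ExalLib.exists_derivation (Y.restrictBase Λ) (P := A)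
    { toFun := fun a => algebraMap A Y.E a
      map_one' := map_one (algebraMap A Y.E)
      map_mul' := map_mul (algebraMap A Y.E)
      map_zero' := map_zero (algebraMap A Y.E)
      map_add' := map_add (algebraMap A Y.E)
      commutes' := fun _ => rfl }
    (s.comp (IsScalarTower.toAlgHom Λ A B)) (fun a => Y.proj.commutes a) (fun a => hs _)
  -- the trivial extension of `C`, with the structure map twisted by `D`
  let T := Exal.Ext.trivial Λ C L
  letI := Exal.opModule C L
  haveI := Exal.isCentralScalar_opModule C L
  let t : C →ₐ[Λ] T.E :=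
    { toFun := fun c => (TrivSqZeroExt.inl c : TrivSqZeroExt C L)
      map_one' := TrivSqZeroExt.inl_one L
      map_mul' := fun a b => TrivSqZeroExt.inl_mul L a b
      map_zero' := TrivSqZeroExt.inl_zero L
      map_add' := fun a b => TrivSqZeroExt.inl_add L a b
      commutes' := fun _ => rfl }
  obtain ⟨g, hg⟩ := GrothLib.ExalLib.exists_add_derivation T (P := A) (t.comp (IsScalarTower.toAlgHom Λ A C))
    (fun a => rfl) D
  have hgp : ∀ a, T.proj (g a) = algebraMap A C a := fun a => by
    rw [hg, map_add, GrothLib.ExalLib.proj_incl, add_zero]; rfl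
  let X := GrothLib.ExalLib.reBase T g.toRingHom hgp
  let sX : C →ₐ[Λ] X.RestrictCarrier Λ :=
    { toFun := fun c => t c
      map_one' := map_one t
      map_mul' := map_mul t
      map_zero' := map_zero t
      map_add' := map_add t
      commutes' := fun l => (t.commutes l).trans (g.commutes l).symm }
  refine ⟨X, ⟨sX, fun c => rfl⟩, ?_⟩
  let P := X.pullback B
  let sP : B →ₐ[Λ] P.RestrictCarrier Λ :=
    { toFun := fun b => (⟨(sX (algebraMap B C b), b), rfl⟩ : X.fiberProd B)
      map_one' := Subtype.ext (Prod.ext (by simp only [map_one]; exact map_one sX) rfl)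
      map_mul' := fun a b => Subtype.ext (Prod.ext ((congrArg sX (map_mul (algebraMap B C) a b)).trans (map_mul sX (algebraMap B C a) (algebraMap B C b))) rfl)
      map_zero' := Subtype.ext (Prod.ext (by simp only [map_zero]; exact map_zero sX) rfl)
      map_add' := fun a b => Subtype.ext (Prod.ext ((congrArg sX (map_add (algebraMap B C) a b)).trans (map_add sX (algebraMap B C a) (algebraMap B C b))) rfl)
      commutes' := fun l => Subtype.ext (Prod.ext (by
        change sX (algebraMap B C (algebraMap Λ B l)) = algebraMap A X.E (algebraMap Λ A l)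
        rw [IsScalarTower.algebraMap_apply Λ A B, ← IsScalarTower.algebraMap_apply A B C,
          ← IsScalarTower.algebraMap_apply Λ A C]
        exact sX.commutes l) (IsScalarTower.algebraMap_apply Λ A B l)) }
  obtain ⟨e, he⟩ := GrothLib.ExalLib.exists_equiv_of_sections (Y.restrictBase Λ) (P.restrictBase Λ) s hs sP
    fun b => rfl
  refine ⟨(GrothLib.ExalLib.equivOfHom Y P
    { toFun := fun x => e.toAlgEquiv x
      map_one' := map_one e.toAlgEquiv
      map_mul' := map_mul e.toAlgEquiv
      map_zero' := map_zero e.toAlgEquiv
      map_add' := map_add e.toAlgEquiv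
      commutes' := fun a => (congrArg e.toAlgEquiv (hD a)).trans ((he (algebraMap A B a) (D a)).trans ?_) }
    e.proj_apply e.apply_incl).symm⟩
  refine Subtype.ext (Prod.ext ?_ ?_)
  · change t (algebraMap B C (algebraMap A B a)) + T.incl (D a) = g a
    rw [hg, ← IsScalarTower.algebraMap_apply A B C]; rfl
  · change algebraMap A B a + 0 = algebraMap A B a
    rw [add_zero]

end Groth.Agent.S5832
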