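import Groth.Statements.S5834
import Groth.Agent.Lib.InfCharHom.Basic

set_option autoImplicit false
universe u v
open EGA41

namespace Groth.Agent.S5834

/-- Let Λ → A → B be ring maps with B formally smooth over A, K an ideal of B, C = B ⧸ K, and suppose E
= B ⧸ K², as an extension of C by K/K², is Λ-trivial. Then the characteristic homomorphism χ :
Υ_{C/A/Λ} → K/K² of E as an A-extension relative to Λ → A is injective (so that, with the
description of its image as the kernel of K/K² → C ⊗_B Ω_{B/A}, the sequence 0 → Υ_{C/A/Λ} → K/K² →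
C ⊗_B Ω_{B/A} → Ω_{C/A} → 0 is exact). -/
theorem result {Λ : Type u} {A B : Type v} [CommRing Λ]
    [CommRing A] [CommRing B] [Algebra Λ A] [Algebra Λ B] [Algebra A B] [IsScalarTower Λ A B]
    [Algebra.FormallySmooth A B] (K : Ideal B)
    (htriv : ((Exal.Ext.infinitesimal K).restrictBase A).IsTrivialOver Λ)
    (χ : ↥(EGA41.imperfection Λ A (B ⧸ K)) →ₗ[B ⧸ K] K.Cotangent)
    (hχ : ((Exal.Ext.infinitesimal K).restrictBase A).IsCharHom Λ χ) :
    Function.Injective χ := by
  refine (injective_iff_map_eq_zero _).2 fun z hz => Subtype.ext ?_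
  refine GrothLib.InfCharHom.inner_injective (Λ := Λ) (A := A) (B := B) (B ⧸ K) ?_
  exact (((GrothLib.InfCharHom.ker_range K htriv χ hχ).1 z).1 hz).trans (map_zero _).symm

end Groth.Agent.S5834
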