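import Groth.Statements.S5835
import Groth.Agent.Lib.SepField.Smooth
import Groth.Agent.Lib.ImperfDelta.Basic

set_option autoImplicit false
universe v w
open scoped TensorProduct
open EGA41

namespace Groth.Agent.S5835

open TensorProduct KaehlerDifferential

theorem formallySmooth_hetero {k : Type v} {L : Type w} [Field k] [Field L] [Algebra k L]
    (h : Algebra.IsGeometricallyReduced k L ∨ CharZero k) : Algebra.FormallySmooth k L := by
  let k' : Subfield L := (algebraMap k L).fieldRange
  letI : Algebra k k' := ((algebraMap k L).rangeRestrictField).toAlgebra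
  haveI : IsScalarTower k k' L := IsScalarTower.of_algebraMap_eq fun _ => rfl
  have hb : Function.Bijective (algebraMap k k') :=
    ⟨(algebraMap k k').injective, (algebraMap k L).rangeRestrictField_bijective.2⟩
  haveI : Algebra.FormallySmooth k k' :=
    Algebra.FormallySmooth.of_equiv (AlgEquiv.ofBijective (Algebra.ofId k k') hb)
  haveI : Algebra.FormallySmooth k' L := by
    rcases h with h | h
    swap
    · haveI : CharZero k' := charZero_of_injective_ringHom (algebraMap k k').injective
      exact GrothLib.SepField.formallySmooth_of_charZero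
    haveI : Algebra.IsAlgebraic k k' := ⟨fun x => by
      obtain ⟨a, rfl⟩ := hb.2 x
      exact isAlgebraic_algebraMap a⟩
    let E := AlgebraicClosure k'
    haveI : Algebra.IsAlgebraic k E := Algebra.IsAlgebraic.trans k k' E
    haveI : IsReduced (E ⊗[k] L) := inferInstance
    haveI : CompatibleSMul k k' E L := ⟨fun c e l => by
      obtain ⟨a, rfl⟩ := hb.2 c
      rw [algebraMap_smul, algebraMap_smul, smul_tmul]⟩
    refine GrothLib.SepField.formallySmooth_iff_isGeometricallyReduced.2 ?_
    rw [Algebra.isGeometricallyReduced_field_iff]
    exact isReduced_of_injective (Algebra.TensorProduct.equivOfCompatibleSMul k k' k E L)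
      (AlgEquiv.injective _)
  exact Algebra.FormallySmooth.comp k k' L


/-- For fields k₀ ⊆ k ⊆ K ⊆ L, the map of imperfection modules Υ_{L/K/k₀} → Υ_{L/K/k} induced by
Ω_{K/k₀} → Ω_{K/k} is injective (k is k₀-admissible for the extension L of K) in each of the
following cases: L is separable over k; L is separable over K; k lies in k₀(K^p), p the
characteristic exponent. Separable means geometrically reduced (not necessarily algebraic). -/
theorem result {k : Type v} {k₀ K L : Type w}
    [Field k₀] [Field k] [Field K] [Field L] [Algebra k₀ k] [Algebra k₀ K] [Algebra k₀ L] [Algebra k K]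
    [Algebra k L] [Algebra K L] [IsScalarTower k₀ k K] [IsScalarTower k₀ k L] [IsScalarTower k₀ K L]
    [IsScalarTower k K L] (p : ℕ) [ExpChar K p]
    (h : Algebra.IsGeometricallyReduced k L ∨ Algebra.IsGeometricallyReduced K L ∨
      ∀ x : k, algebraMap k K x ∈ EGA41.pPowerSubalgebra p k₀ K) :
    ∀ z : L ⊗[K] Ω[K⁄k₀], z ∈ EGA41.imperfection k₀ K L →
      (KaehlerDifferential.map k₀ k K K).baseChange L z = 0 → z = 0 := by
  intro z hz hq
  have key : Algebra.IsGeometricallyReduced k L ∨ CharZero k → z = 0 := fun hk => by
    haveI := formallySmooth_hetero hk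
    obtain ⟨w, rfl⟩ : z ∈ LinearMap.range (GrothLib.ImperfDelta.inner k₀ k K L) := by
      rw [GrothLib.ImperfDelta.range_inner]; exact hq
    have h0 : mapBaseChange k₀ k L w = 0 := by
      rw [← GrothLib.ImperfDelta.mapBaseChange_inner k₀ k K L]; exact hz
    rw [GrothLib.SepField.injective_mapBaseChange_of_formallySmooth k₀ k L (h0.trans (map_zero _).symm),
      map_zero]
  rcases h with hk | hK | hp
  · exact key (.inl hk)
  · haveI : Algebra.FormallySmooth K L := GrothLib.SepField.formallySmooth_iff_isGeometricallyReduced.2 hK
    exact GrothLib.SepField.injective_mapBaseChange_of_formallySmooth k₀ K L (hz.trans (map_zero _).symm)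
  · rcases ‹ExpChar K p› with _ | hp'
    · haveI : CharZero k := (algebraMap k K).charZero
      exact key (.inr inferInstance)
    · haveI : CharP K p := ‹_›
      have hD : ∀ y : K, y ∈ EGA41.pPowerSubalgebra p k₀ K → D k₀ K y = 0 := fun y hy => by
        induction hy using Algebra.adjoin_induction with
        | mem y hy =>
          obtain ⟨b, rfl⟩ := hy
          rw [Derivation.leibniz_pow, ← Nat.cast_smul_eq_nsmul K, CharP.cast_eq_zero K p, zero_smul]
        | algebraMap r => exact Derivation.map_algebraMap _ r
        | add a b _ _ ha hb => rw [map_add, ha, hb, add_zero]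
        | mul a b _ _ ha hb => rw [Derivation.leibniz, ha, hb, smul_zero, smul_zero, add_zero]
      have h0 : ∀ t : L ⊗[k] Ω[k⁄k₀], GrothLib.ImperfDelta.inner k₀ k K L t = 0 := fun t => by
        induction t using TensorProduct.induction_on with
        | zero => rw [map_zero]
        | add a b ha hb => rw [map_add, ha, hb, add_zero]
        | tmul c ω =>
          rw [GrothLib.ImperfDelta.inner_tmul]
          induction Submodule.eq_top_iff'.1 (span_range_derivation k₀ k) ω using Submodule.span_induction with
          | mem x hx =>
            obtain ⟨a, rfl⟩ := hx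
            rw [map_D, hD _ (hp a), tmul_zero]
          | zero => rw [map_zero, tmul_zero]
          | add a b _ _ ha hb => rw [map_add, tmul_add, ha, hb, add_zero]
          | smul a x _ hx => rw [LinearMap.map_smul_of_tower, tmul_smul, hx, smul_zero]
      obtain ⟨w, rfl⟩ : z ∈ LinearMap.range (GrothLib.ImperfDelta.inner k₀ k K L) := by
        rw [GrothLib.ImperfDelta.range_inner]; exact hq
      exact h0 w

end Groth.Agent.S5835
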