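import Groth.Statements.S5836
import Groth.Agent.Lib.ImperfDelta.Basic

set_option autoImplicit false
universe u u' u'' w
open scoped TensorProduct
open EGA41

namespace Groth.Agent.S5836

set_option linter.style.haveILetI false
open TensorProduct KaehlerDifferential GrothLib.ImperfDelta


/-- For fields k ⊆ k' ⊆ k'' ⊆ K ⊆ L put Δ(L/K, a/b) = ker(Υ_{L/K/b} → Υ_{L/K/a}) ⊆ L ⊗_K Ω_{K/b}. Then 0
→ Δ(L/K, k'/k) → Δ(L/K, k''/k) → Δ(L/K, k''/k') → 0 is exact: stated as the surjectivity of the map
induced by L ⊗_K Ω_{K/k} → L ⊗_K Ω_{K/k'} (exactness on the left and in the middle hold by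
construction), together with the resulting identity of ranks d(L/K, k''/k) = d(L/K, k''/k') + d(L/K,
k'/k). -/
theorem result {k : Type u} {k' : Type u'} {k'' : Type u''} {K L : Type w}
    [Field k] [Field k'] [Field k''] [Field K] [Field L]
    [Algebra k k'] [Algebra k k''] [Algebra k' k''] [IsScalarTower k k' k'']
    [Algebra k K] [Algebra k' K] [Algebra k'' K] [IsScalarTower k k' K] [IsScalarTower k' k'' K]
    [IsScalarTower k k'' K] [Algebra K L] [Algebra k L] [Algebra k' L] [Algebra k'' L]
    [IsScalarTower k K L] [IsScalarTower k' K L] [IsScalarTower k'' K L] :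
    (∀ w : L ⊗[K] Ω[K⁄k'], w ∈ EGA41.imperfection k' K L →
        (KaehlerDifferential.map k' k'' K K).baseChange L w = 0 →
          ∃ z : L ⊗[K] Ω[K⁄k], z ∈ EGA41.imperfection k K L ∧
            (KaehlerDifferential.map k k'' K K).baseChange L z = 0 ∧
              (KaehlerDifferential.map k k' K K).baseChange L z = w) ∧
      Module.rank L ↥(EGA41.imperfection k K L ⊓
            LinearMap.ker ((KaehlerDifferential.map k k'' K K).baseChange L)) =
        Module.rank L ↥(EGA41.imperfection k' K L ⊓
              LinearMap.ker ((KaehlerDifferential.map k' k'' K K).baseChange L)) +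
          Module.rank L ↥(EGA41.imperfection k K L ⊓
              LinearMap.ker ((KaehlerDifferential.map k k' K K).baseChange L)) := by
  haveI : IsScalarTower k k' L := IsScalarTower.of_algebraMap_eq fun a => by
    rw [IsScalarTower.algebraMap_apply k' K L, ← IsScalarTower.algebraMap_apply k k' K, ← IsScalarTower.algebraMap_apply k K L]
  have h2 : ∀ z : L ⊗[K] Ω[K⁄k], (KaehlerDifferential.map k' k'' K K).baseChange L ((KaehlerDifferential.map k k' K K).baseChange L z) =
      (KaehlerDifferential.map k k'' K K).baseChange L z := fun z => by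
    induction z using TensorProduct.induction_on with
    | zero => simp only [map_zero]
    | tmul m x =>
      simp only [LinearMap.baseChange_tmul]
      congr 1
      induction Submodule.eq_top_iff'.1 (span_range_derivation k K) x using Submodule.span_induction with
      | mem x hx =>
        obtain ⟨a, rfl⟩ := hx
        simp only [map_D, Algebra.algebraMap_self, RingHom.id_apply]
      | zero => simp only [map_zero]
      | add a b _ _ ha hb => simp only [map_add, ha, hb]
      | smul c a _ ha => simp only [map_smul, ha]
    | add a b ha hb => simp only [map_add, ha, hb]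
  have hsurj : ∀ w : L ⊗[K] Ω[K⁄k'], w ∈ EGA41.imperfection k' K L →
      (KaehlerDifferential.map k' k'' K K).baseChange L w = 0 →
        ∃ z : L ⊗[K] Ω[K⁄k], z ∈ EGA41.imperfection k K L ∧
          (KaehlerDifferential.map k k'' K K).baseChange L z = 0 ∧
            (KaehlerDifferential.map k k' K K).baseChange L z = w := by
    intro w hw hw0
    obtain ⟨z₀, hz₀⟩ := LinearMap.lTensor_surjective L (KaehlerDifferential.map_surjective k k' K) w
    replace hz₀ : (KaehlerDifferential.map k k' K K).baseChange L z₀ = w := hz₀
    have h0 : KaehlerDifferential.map k k' L L (mapBaseChange k K L z₀) = 0 := by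
      rw [← mapBaseChange_map k k' K L, hz₀]; exact hw
    obtain ⟨t, ht⟩ := (exact_mapBaseChange_map k k' L _).1 h0
    refine ⟨z₀ - GrothLib.ImperfDelta.inner k k' K L t, ?_, ?_, ?_⟩
    · show mapBaseChange k K L _ = 0
      rw [map_sub, mapBaseChange_inner, ht, sub_self]
    · rw [← h2, map_sub, map_inner_eq_zero, sub_zero, hz₀, hw0]
    · rw [map_sub, map_inner_eq_zero, sub_zero, hz₀]
  refine ⟨hsurj, ?_⟩
  let A := EGA41.imperfection k K L ⊓ LinearMap.ker ((KaehlerDifferential.map k k'' K K).baseChange L)
  let B := EGA41.imperfection k' K L ⊓ LinearMap.ker ((KaehlerDifferential.map k' k'' K K).baseChange L)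
  let C := EGA41.imperfection k K L ⊓ LinearMap.ker ((KaehlerDifferential.map k k' K K).baseChange L)
  have hmem : ∀ z : A, (KaehlerDifferential.map k k' K K).baseChange L z.1 ∈ B := fun z => by
    refine ⟨?_, ?_⟩
    · show mapBaseChange k' K L _ = 0
      rw [mapBaseChange_map k k' K L, show mapBaseChange k K L z.1 = 0 from z.2.1, map_zero]
    · show (KaehlerDifferential.map k' k'' K K).baseChange L _ = 0
      rw [h2]; exact z.2.2
  let f : A →ₗ[L] B := (((KaehlerDifferential.map k k' K K).baseChange L).comp A.subtype).codRestrict B hmem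
  have hf : Function.Surjective f := fun w => by
    obtain ⟨z, h1, h3, h4⟩ := hsurj w.1 w.2.1 w.2.2
    exact ⟨⟨z, h1, h3⟩, Subtype.ext h4⟩
  have hle : C ≤ A := fun z hz => ⟨hz.1, by
    show (KaehlerDifferential.map k k'' K K).baseChange L z = 0
    rw [← h2, show (KaehlerDifferential.map k k' K K).baseChange L z = 0 from hz.2, map_zero]⟩
  have hker : LinearMap.ker f = C.comap A.subtype := by
    ext z
    exact ⟨fun h => ⟨z.2.1, congrArg Subtype.val h⟩, fun h => Subtype.ext h.2⟩
  let e : LinearMap.ker f ≃ₗ[L] C :=
    (LinearEquiv.ofEq _ _ hker).trans (Submodule.comapSubtypeEquivOfLe hle)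
  have hr := LinearMap.rank_range_add_rank_ker (R := L) (M := A) (M₁ := B) f
  rw [LinearMap.range_eq_top.2 hf, rank_top, e.rank_eq] at hr
  exact hr.symm


end Groth.Agent.S5836
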