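import Groth.Statements.S5837
import Groth.Agent.Lib.ImperfDelta.Basic

set_option autoImplicit false
universe u u' w
open scoped TensorProduct
open EGA41

namespace Groth.Agent.S5837

set_option linter.style.haveILetI false
set_option maxHeartbeats 1000000
open TensorProduct KaehlerDifferential GrothLib.ImperfDelta

/-- Common kernels commute with flat base change. -/
theorem mem_range_of_killed {L M : Type w} [CommRing L] [CommRing M] [Algebra L M] [Module.Flat L M] {V X Y : Type w}
    [AddCommGroup V] [Module L V] [AddCommGroup X] [Module L X] [AddCommGroup Y] [Module L Y]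
    (φ : V →ₗ[L] X) (g : V →ₗ[L] Y) (D : Submodule L V) (hD : LinearMap.ker φ ⊓ LinearMap.ker g ≤ D) (y : M ⊗[L] V)
    (h1 : φ.baseChange M y = 0) (h2 : g.baseChange M y = 0) : ∃ x, D.subtype.baseChange M x = y := by
  obtain ⟨y1, rfl⟩ := (Module.Flat.lTensor_exact M (N := LinearMap.ker φ) (N' := V) (N'' := X) (LinearMap.exact_subtype_ker_map φ) y).1 h1
  let g1 := g ∘ₗ (LinearMap.ker φ).subtype
  have h3 : g1.lTensor M y1 = 0 := (LinearMap.lTensor_comp_apply M g (LinearMap.ker φ).subtype y1).trans h2
  obtain ⟨y2, rfl⟩ := (Module.Flat.lTensor_exact M (N := LinearMap.ker g1) (N' := LinearMap.ker φ) (N'' := Y) (LinearMap.exact_subtype_ker_map g1) y1).1 h3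
  let j : LinearMap.ker g1 →ₗ[L] D :=
    ((LinearMap.ker φ).subtype ∘ₗ (LinearMap.ker g1).subtype).codRestrict D fun d => hD ⟨d.1.2, d.2⟩
  refine ⟨j.baseChange M y2, ?_⟩
  show D.subtype.lTensor M (j.lTensor M y2) = (LinearMap.ker φ).subtype.lTensor M ((LinearMap.ker g1).subtype.lTensor M y2)
  rw [← LinearMap.lTensor_comp_apply, ← LinearMap.lTensor_comp_apply, LinearMap.subtype_comp_codRestrict]


/-- Rank form. For fields k₀ ⊆ k ⊆ K ⊆ L ⊆ M, with Δ(F/E, k/k₀) = ker(Υ_{F/E/k₀} → Υ_{F/E/k}) and d its
rank, one has d(M/K, k/k₀) = d(M/L, k/k₀) + d(L/K, k/k₀) (cardinal ranks; the published statement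
gives the short exact sequence 0 → Δ(L/K, k/k₀) ⊗_L M → Δ(M/K, k/k₀) → Δ(M/L, k/k₀) → 0, of which
this row states the rank identity). -/
theorem result {k₀ : Type u} {k : Type u'} {K L M : Type w}
    [Field k₀] [Field k] [Field K] [Field L] [Field M] [Algebra k₀ k]
    [Algebra k₀ K] [Algebra k K] [IsScalarTower k₀ k K] [Algebra k₀ L] [Algebra k L] [IsScalarTower k₀ k L]
    [Algebra K L] [Algebra K M] [Algebra L M] [IsScalarTower K L M]
    [Algebra k₀ M] [Algebra k M] [IsScalarTower k₀ K L] [IsScalarTower k K L]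
    [IsScalarTower k₀ K M] [IsScalarTower k K M] [IsScalarTower k₀ L M] [IsScalarTower k L M] :
    Module.rank M ↥(EGA41.imperfection k₀ K M ⊓
          LinearMap.ker ((KaehlerDifferential.map k₀ k K K).baseChange M)) =
      Module.rank M ↥(EGA41.imperfection k₀ L M ⊓
            LinearMap.ker ((KaehlerDifferential.map k₀ k L L).baseChange M)) +
        Module.rank L ↥(EGA41.imperfection k₀ K L ⊓
            LinearMap.ker ((KaehlerDifferential.map k₀ k K K).baseChange L)) := by
  let A := EGA41.imperfection k₀ K M ⊓ LinearMap.ker ((KaehlerDifferential.map k₀ k K K).baseChange M)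
  let B := EGA41.imperfection k₀ L M ⊓ LinearMap.ker ((KaehlerDifferential.map k₀ k L L).baseChange M)
  let D := EGA41.imperfection k₀ K L ⊓ LinearMap.ker ((KaehlerDifferential.map k₀ k K K).baseChange L)
  let F : M ⊗[K] Ω[K⁄k₀] →ₗ[M] M ⊗[L] Ω[L⁄k₀] := GrothLib.ImperfDelta.inner k₀ K L M
  have hmem : ∀ z : A, F z.1 ∈ B := fun z => by
    refine ⟨?_, ?_⟩
    · show mapBaseChange k₀ L M _ = 0
      rw [mapBaseChange_inner]; exact z.2.1
    · show (KaehlerDifferential.map k₀ k L L).baseChange M _ = 0
      rw [map_inner k₀ k L M, show (KaehlerDifferential.map k₀ k K K).baseChange M z.1 = 0 from z.2.2, map_zero]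
  let f : A →ₗ[M] B := (F.comp A.subtype).codRestrict B hmem
  have hf : Function.Surjective f := fun w => by
    obtain ⟨t, ht⟩ : w.1 ∈ LinearMap.range (GrothLib.ImperfDelta.inner k₀ k L M) := by
      rw [range_inner]; exact w.2.2
    have hFz : F (GrothLib.ImperfDelta.inner k₀ k K M t) = w.1 := (inner_inner k₀ k L M (S := K) t).trans ht
    refine ⟨⟨GrothLib.ImperfDelta.inner k₀ k K M t, ?_, map_inner_eq_zero k₀ k K M t⟩, Subtype.ext hFz⟩
    show mapBaseChange k₀ K M _ = 0
    rw [← mapBaseChange_inner k₀ K L M, show GrothLib.ImperfDelta.inner k₀ K L M (GrothLib.ImperfDelta.inner k₀ k K M t) = w.1 from hFz]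
    exact w.2.1
  let c := AlgebraTensorModule.cancelBaseChange K L M M Ω[K⁄k₀]
  let c' := AlgebraTensorModule.cancelBaseChange K L M M Ω[K⁄k]
  let φ : L ⊗[K] Ω[K⁄k₀] →ₗ[L] Ω[L⁄k₀] := mapBaseChange k₀ K L
  let g : L ⊗[K] Ω[K⁄k₀] →ₗ[L] L ⊗[K] Ω[K⁄k] := (KaehlerDifferential.map k₀ k K K).baseChange L
  have hg : ∀ y, (KaehlerDifferential.map k₀ k K K).baseChange M (c y) = c' (g.baseChange M y) := fun y => by
    induction y using TensorProduct.induction_on with
    | zero => simp only [map_zero]
    | tmul m y =>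
      induction y using TensorProduct.induction_on with
      | zero => simp only [tmul_zero, map_zero]
      | tmul l x => rfl
      | add a b ha hb => simp only [tmul_add, map_add, ha, hb]
    | add a b ha hb => simp only [map_add, ha, hb]
  let ι : M ⊗[L] D →ₗ[M] M ⊗[K] Ω[K⁄k₀] := c.toLinearMap ∘ₗ D.subtype.baseChange M
  have hι : Function.Injective ι :=
    c.injective.comp (Module.Flat.lTensor_preserves_injective_linearMap D.subtype D.subtype_injective)
  have hιr : LinearMap.range ι = LinearMap.ker F ⊓ A := by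
    refine le_antisymm ?_ ?_
    · rintro _ ⟨y, rfl⟩
      have hφ : φ.baseChange M (D.subtype.baseChange M y) = 0 := by
        rw [← LinearMap.comp_apply, ← LinearMap.baseChange_comp, show φ ∘ₗ D.subtype = 0 from LinearMap.ext fun d => d.2.1,
          LinearMap.baseChange_zero, LinearMap.zero_apply]
      have hF : F (ι y) = 0 := by
        show φ.baseChange M (c.symm (c (D.subtype.baseChange M y))) = 0
        rw [c.symm_apply_apply, hφ]
      refine ⟨hF, ?_, ?_⟩
      · show mapBaseChange k₀ K M (ι y) = 0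
        rw [← mapBaseChange_inner k₀ K L M, show GrothLib.ImperfDelta.inner k₀ K L M (ι y) = 0 from hF, map_zero]
      · show (KaehlerDifferential.map k₀ k K K).baseChange M (c (D.subtype.baseChange M y)) = 0
        rw [hg, ← LinearMap.comp_apply (g.baseChange M), ← LinearMap.baseChange_comp,
          show g ∘ₗ D.subtype = 0 from LinearMap.ext fun d => d.2.2, LinearMap.baseChange_zero, LinearMap.zero_apply, map_zero]
    · rintro z ⟨hF, -, hz⟩
      obtain ⟨y, rfl⟩ := c.surjective z
      have h1 : φ.baseChange M y = 0 := by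
        have : φ.baseChange M (c.symm (c y)) = 0 := hF
        rwa [c.symm_apply_apply] at this
      have h2 : g.baseChange M y = 0 := by
        have : c' (g.baseChange M y) = 0 := (hg y).symm.trans hz
        exact c'.map_eq_zero_iff.1 this
      obtain ⟨x, hx⟩ := mem_range_of_killed φ g D (fun d hd => ⟨hd.1, hd.2⟩) y h1 h2
      exact ⟨x, congrArg c hx⟩
  let e : LinearMap.ker f ≃ₗ[M] M ⊗[L] D :=
    (LinearEquiv.ofEq _ _ (by
      ext z
      rw [Submodule.mem_comap, hιr]
      exact ⟨fun h => ⟨congrArg Subtype.val h, z.2⟩, fun h => Subtype.ext h.1⟩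
      : LinearMap.ker f = (LinearMap.range ι).comap A.subtype)).trans
      ((Submodule.comapSubtypeEquivOfLe (hιr.le.trans inf_le_right)).trans (LinearEquiv.ofInjective ι hι).symm)
  haveI : Module.Free L D := Module.Free.of_basis (@Module.Basis.ofVectorSpace L D _ (Submodule.addCommGroup D) _)
  have hr := LinearMap.rank_range_add_rank_ker (R := M) (M := A) (M₁ := B) f
  rw [LinearMap.range_eq_top.2 hf, rank_top, e.rank_eq, Module.rank_baseChange, Cardinal.lift_id] at hr
  exact hr.symm


end Groth.Agent.S5837
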