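import Groth.Statements.S5838
import Groth.Agent.S5826
import Mathlib

set_option autoImplicit false
universe u v w
open EGA41

namespace Groth.Agent.S5838

/-- Let A be a topological ring with a countable decreasing fundamental system (𝔍_n) of open ideals, M
and N topological A-modules with the topologies deduced from that of A, M Hausdorff and complete,
and u : M → N a continuous linear map such that for every n the cokernel of M/𝔍_n M → N/𝔍_n N is a
projective (A/𝔍_n)-module. Then u is formally left invertible if and only if it has a linear left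
inverse. (The published statement adds that u is then a topological isomorphism onto a topological
direct factor.) -/
theorem result {A : Type u} {M : Type v} {N : Type w}
    [CommRing A] [TopologicalSpace A] [AddCommGroup M] [Module A M] [UniformSpace M] [IsUniformAddGroup M]
    [CompleteSpace M] [T2Space M] [AddCommGroup N] [Module A N] [TopologicalSpace N]
    (𝔍 : ℕ → Ideal A) (h𝔍open : ∀ n, IsOpen (𝔍 n : Set A)) (h𝔍anti : Antitone 𝔍)
    (h𝔍basis : (nhds (0 : A)).HasBasis (fun _ : ℕ => True) (fun n => (𝔍 n : Set A)))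
    (hM : TopMod.IsDeduced A M) (hN : TopMod.IsDeduced A N) (u : M →L[A] N)
    (hcoker : ∀ n, Module.Projective (A ⧸ 𝔍 n)
      ((N ⧸ LinearMap.range u.toLinearMap) ⧸ (𝔍 n • (⊤ : Submodule A (N ⧸ LinearMap.range u.toLinearMap))))) :
    TopMod.IsFormallyLeftInvertible u ↔ ∃ w : N →ₗ[A] M, ∀ x : M, w (u x) = x := by
  classical
  refine ⟨fun hinv => ?_, fun ⟨w, hw⟩ => (Groth.Agent.S5826.result hM hN u).2 fun J _ =>
    ⟨(Submodule.mkQ (J • ⊤ : Submodule A M)).comp w, fun x => by
      show Submodule.Quotient.mk (w (u x)) = _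
      rw [hw]⟩⟩
  have hF := (Groth.Agent.S5826.result hM hN u).1 hinv
  have hle : ∀ {m n : ℕ}, n ≤ m → (𝔍 m • ⊤ : Submodule A M) ≤ 𝔍 n • ⊤ := fun h =>
    Submodule.smul_mono (h𝔍anti h) le_rfl
  -- lifting step
  have step : ∀ (n : ℕ) (w : N →ₗ[A] M ⧸ (𝔍 n • ⊤ : Submodule A M)),
      (∀ x, w (u x) = Submodule.Quotient.mk x) →
      ∃ w' : N →ₗ[A] M ⧸ (𝔍 (n+1) • ⊤ : Submodule A M),
        (∀ x, w' (u x) = Submodule.Quotient.mk x) ∧
        (Submodule.factor (hle n.le_succ)).comp w' = w := by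
    intro n w hw
    let J := 𝔍 (n+1)
    let π : M ⧸ (J • ⊤ : Submodule A M) →ₗ[A] M ⧸ (𝔍 n • ⊤ : Submodule A M) :=
      Submodule.factor (hle n.le_succ)
    have hπ : Function.Surjective π := Submodule.factor_surjective _
    obtain ⟨r, hr⟩ := hF J (h𝔍open (n+1))
    let δ : N →ₗ[A] M ⧸ (𝔍 n • ⊤ : Submodule A M) := w - π.comp r
    have hδu : ∀ x, δ (u x) = 0 := fun x => by
      show w (u x) - π (r (u x)) = 0
      rw [hw, hr]
      exact sub_self _
    haveI := hcoker (n+1)
    let C := (N ⧸ LinearMap.range u.toLinearMap) ⧸ (J • (⊤ : Submodule A (N ⧸ LinearMap.range u.toLinearMap)))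
    let δ₁ : N ⧸ LinearMap.range u.toLinearMap →ₗ[A] M ⧸ (𝔍 n • ⊤ : Submodule A M) :=
      Submodule.liftQ _ δ (by rintro _ ⟨x, rfl⟩; exact hδu x)
    have hkillN : (J • ⊤ : Submodule A (N ⧸ LinearMap.range u.toLinearMap)) ≤ LinearMap.ker δ₁ :=
      Submodule.smul_le.2 fun j hj z _ => by
        rw [LinearMap.mem_ker, map_smul]
        obtain ⟨y, hy⟩ := Submodule.Quotient.mk_surjective _ (δ₁ z)
        rw [← hy, ← Submodule.Quotient.mk_smul, Submodule.Quotient.mk_eq_zero]
        exact Submodule.smul_mem_smul (h𝔍anti n.le_succ hj) trivial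
    let δq : C →ₗ[A] M ⧸ (𝔍 n • ⊤ : Submodule A M) := Submodule.liftQ _ δ₁ hkillN
    -- view everything over `A ⧸ J`
    have htor : Module.IsTorsionBySet A (M ⧸ (𝔍 n • ⊤ : Submodule A M)) J := fun z j => by
      obtain ⟨y, rfl⟩ := Submodule.Quotient.mk_surjective _ z
      rw [← Submodule.Quotient.mk_smul, Submodule.Quotient.mk_eq_zero]
      exact Submodule.smul_mem_smul (h𝔍anti n.le_succ j.2) trivial
    letI := htor.module
    haveI : IsScalarTower A (A ⧸ J) (M ⧸ (𝔍 n • ⊤ : Submodule A M)) := htor.isScalarTower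
    obtain ⟨d', hd'⟩ := Module.projective_lifting_property
      (π.extendScalarsOfSurjective (R := A) (S := A ⧸ J) Ideal.Quotient.mk_surjective)
      (δq.extendScalarsOfSurjective (R := A) (S := A ⧸ J) Ideal.Quotient.mk_surjective) hπ
    let d : N →ₗ[A] M ⧸ (J • ⊤ : Submodule A M) :=
      (d'.restrictScalars A).comp ((Submodule.mkQ _).comp (Submodule.mkQ _))
    have hd : ∀ y, π (d y) = δ y := fun y => LinearMap.congr_fun hd' (Submodule.Quotient.mk (Submodule.Quotient.mk y))
    refine ⟨r + d, fun x => ?_, ?_⟩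
    · have h0 : (Submodule.Quotient.mk (u x) : N ⧸ LinearMap.range u.toLinearMap) = 0 :=
        (Submodule.Quotient.mk_eq_zero _).2 ⟨x, rfl⟩
      show r (u x) + d' (Submodule.Quotient.mk (Submodule.Quotient.mk (u x))) = _
      rw [h0, Submodule.Quotient.mk_zero, map_zero, add_zero, hr]
    · apply LinearMap.ext
      intro y
      show π (r y + d y) = w y
      rw [map_add, hd]
      show π (r y) + (w y - π (r y)) = w y
      abel
  -- compatible system
  obtain ⟨W0, hW0⟩ := hF (𝔍 0) (h𝔍open 0)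
  let sys : ∀ n, {w : N →ₗ[A] M ⧸ (𝔍 n • ⊤ : Submodule A M) // ∀ x, w (u x) = Submodule.Quotient.mk x} :=
    fun n => Nat.rec ⟨W0, hW0⟩ (fun n w => ⟨(step n w.1 w.2).choose, (step n w.1 w.2).choose_spec.1⟩) n
  have hcompat : ∀ {m n : ℕ} (h : n ≤ m) (y : N), Submodule.factor (hle h) ((sys m).1 y) = (sys n).1 y := by
    intro m n h y
    induction h with
    | refl =>
      obtain ⟨x, hx⟩ := Submodule.Quotient.mk_surjective _ ((sys n).1 y)
      rw [← hx]
      rfl
    | @step m h ih =>
      have h1 : Submodule.factor (hle m.le_succ) ((sys (m+1)).1 y) = (sys m).1 y :=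
        LinearMap.congr_fun (step m (sys m).1 (sys m).2).choose_spec.2 y
      rw [← ih, ← h1]
      obtain ⟨x, hx⟩ := Submodule.Quotient.mk_surjective _ ((sys (m+1)).1 y)
      rw [← hx]
      rfl
  -- the topology of `M`
  have hbM : (nhds (0 : M)).HasBasis (fun _ : ℕ => True) (fun n => ((𝔍 n • ⊤ : Submodule A M) : Set M)) :=
    hM.2.to_hasBasis (fun J hJ => by
      obtain ⟨n, -, hn⟩ := h𝔍basis.mem_iff.1 (hJ.mem_nhds J.zero_mem)
      exact ⟨n, trivial, Submodule.smul_mono hn le_rfl⟩) (fun n _ => ⟨𝔍 n, h𝔍open n, subset_rfl⟩)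
  have hopen : ∀ n, IsClosed ((𝔍 n • ⊤ : Submodule A M) : Set M) := fun n =>
    AddSubgroup.isClosed_of_isOpen (𝔍 n • ⊤ : Submodule A M).toAddSubgroup
      (AddSubgroup.isOpen_of_mem_nhds _ (hbM.mem_of_mem (i := n) trivial))
  have hsep : ∀ a b : M, (∀ n, a - b ∈ (𝔍 n • ⊤ : Submodule A M)) → a = b := fun a b h => by
    refine sub_eq_zero.1 (by_contra fun hne => ?_)
    obtain ⟨n, -, hn⟩ := hbM.mem_iff.1 (isOpen_compl_singleton.mem_nhds (Ne.symm hne))
    exact hn (h n) rfl
  have hlim : ∀ y : N, ∃ L : M, ∀ n, Submodule.Quotient.mk L = (sys n).1 y := by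
    intro y
    choose x hx using fun n => Submodule.Quotient.mk_surjective _ ((sys n).1 y)
    have hdiff : ∀ {m n}, n ≤ m → x m - x n ∈ (𝔍 n • ⊤ : Submodule A M) := fun {m n} h => by
      rw [← Submodule.Quotient.eq, hx n, ← hcompat h y, ← hx m]
      rfl
    have hb2 : (uniformity M).HasBasis (fun _ : ℕ => True)
        (fun n => {p : M × M | p.2 - p.1 ∈ (𝔍 n • ⊤ : Submodule A M)}) := by
      rw [uniformity_eq_comap_nhds_zero M]
      exact hbM.comap _
    have hC : CauchySeq x := hb2.cauchySeq_iff.2 fun i _ => ⟨i, fun m hm n hn => by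
      show x n - x m ∈ (𝔍 i • ⊤ : Submodule A M)
      have h1 := sub_mem (hdiff hn) (hdiff hm)
      rwa [sub_sub_sub_cancel_right] at h1⟩
    obtain ⟨L, hL⟩ := cauchySeq_tendsto_of_complete hC
    refine ⟨L, fun n => ?_⟩
    rw [← hx n, Submodule.Quotient.eq]
    exact (hopen n).mem_of_tendsto (hL.sub_const (x n))
      (Filter.eventually_atTop.2 ⟨n, fun m hm => hdiff hm⟩)
  choose L hL using hlim
  refine ⟨{ toFun := L, map_add' := fun a b => ?_, map_smul' := fun c a => ?_ }, fun x => ?_⟩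
  · refine hsep _ _ fun n => ?_
    rw [← Submodule.Quotient.eq, Submodule.Quotient.mk_add, hL, hL, hL, map_add]
  · refine hsep _ _ fun n => ?_
    rw [← Submodule.Quotient.eq, RingHom.id_apply, Submodule.Quotient.mk_smul, hL, hL, map_smul]
  · refine hsep _ _ fun n => ?_
    rw [← Submodule.Quotient.eq]
    exact (hL (u x) n).trans ((sys n).2 x)

end Groth.Agent.S5838
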