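import Groth.Statements.S5839
import Groth.Agent.S5826
import Groth.Agent.S5827
import Mathlib

set_option autoImplicit false
universe u v w
open EGA41

namespace Groth.Agent.S5839

/-- Let A be preadmissible with ideal of definition 𝔏, the topologies of M and N deduced from that of A,
N/JN projective over A/J for every open ideal J; assuming moreover a countable decreasing
fundamental system of open ideals and M Hausdorff and complete, u : M → N has a linear left inverse
if and only if the induced map M/𝔏M → N/𝔏N has one (both being equivalent to formal left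
invertibility). -/
theorem result {A : Type u} {M : Type v} {N : Type w}
    [CommRing A] [TopologicalSpace A] [AddCommGroup M] [Module A M] [UniformSpace M] [IsUniformAddGroup M]
    [CompleteSpace M] [T2Space M] [AddCommGroup N] [Module A N] [TopologicalSpace N]
    (𝔍 : ℕ → Ideal A) (h𝔍open : ∀ n, IsOpen (𝔍 n : Set A)) (h𝔍anti : Antitone 𝔍)
    (h𝔍basis : (nhds (0 : A)).HasBasis (fun _ : ℕ => True) (fun n => (𝔍 n : Set A)))
    (hM : TopMod.IsDeduced A M) (hN : TopMod.IsDeduced A N) (u : M →L[A] N)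
    (hA : LinTop.IsPreadmissible A) (𝔏 : Ideal A) (h𝔏 : LinTop.IsIdealOfDefinition A 𝔏)
    (hproj : ∀ J : Ideal A, IsOpen (J : Set A) → Module.Projective (A ⧸ J) (N ⧸ (J • (⊤ : Submodule A N)))) :
    (∃ w : N →ₗ[A] M, ∀ x : M, w (u x) = x) ↔
      ∃ w₀ : N →ₗ[A] M ⧸ (𝔏 • ⊤ : Submodule A M), ∀ x : M, w₀ (u x) = Submodule.Quotient.mk x := by
  classical
  refine ⟨fun ⟨w, hw⟩ => ⟨(Submodule.mkQ (𝔏 • ⊤ : Submodule A M)).comp w, fun x => by
    show Submodule.Quotient.mk (w (u x)) = _
    rw [hw]⟩, fun h0 => ?_⟩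
  have hF := (Groth.Agent.S5826.result hM hN u).1
    ((Groth.Agent.S5827.result hA 𝔏 h𝔏 hM hN hproj u).2 h0)
  have hle : ∀ {m n : ℕ}, n ≤ m → (𝔍 m • ⊤ : Submodule A M) ≤ 𝔍 n • ⊤ := fun h =>
    Submodule.smul_mono (h𝔍anti h) le_rfl
  -- lifting step
  have step : ∀ (n : ℕ) (w : N →ₗ[A] M ⧸ (𝔍 n • ⊤ : Submodule A M)),
      (∀ x, w (u x) = Submodule.Quotient.mk x) →
      ∃ w' : N →ₗ[A] M ⧸ (𝔍 (n+1) • ⊤ : Submodule A M),
        (∀ x, w' (u x) = Submodule.Quotient.mk x) ∧
        (Submodule.factor (hle n.le_succ)).comp w' = w := by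
    intro n w hw
    let J := 𝔍 (n+1)
    let π : M ⧸ (J • ⊤ : Submodule A M) →ₗ[A] M ⧸ (𝔍 n • ⊤ : Submodule A M) :=
      Submodule.factor (hle n.le_succ)
    have hπ : Function.Surjective π := Submodule.factor_surjective _
    obtain ⟨r, hr⟩ := hF J (h𝔍open (n+1))
    let δ : N →ₗ[A] M ⧸ (𝔍 n • ⊤ : Submodule A M) := w - π.comp r
    have hδu : ∀ x, δ (u x) = 0 := fun x => by
      show w (u x) - π (r (u x)) = 0
      rw [hw, hr]
      exact sub_self _
    haveI := hproj J (h𝔍open (n+1))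
    have hkillN : (J • ⊤ : Submodule A N) ≤ LinearMap.ker δ := Submodule.smul_le.2 fun j hj z _ => by
      rw [LinearMap.mem_ker, map_smul]
      obtain ⟨y, hy⟩ := Submodule.Quotient.mk_surjective _ (δ z)
      rw [← hy, ← Submodule.Quotient.mk_smul, Submodule.Quotient.mk_eq_zero]
      exact Submodule.smul_mem_smul (h𝔍anti n.le_succ hj) trivial
    let δq : N ⧸ (J • ⊤ : Submodule A N) →ₗ[A] M ⧸ (𝔍 n • ⊤ : Submodule A M) :=
      Submodule.liftQ _ δ hkillN
    -- view everything over `A ⧸ J`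
    have htor : Module.IsTorsionBySet A (M ⧸ (𝔍 n • ⊤ : Submodule A M)) J := fun z j => by
      obtain ⟨y, rfl⟩ := Submodule.Quotient.mk_surjective _ z
      rw [← Submodule.Quotient.mk_smul, Submodule.Quotient.mk_eq_zero]
      exact Submodule.smul_mem_smul (h𝔍anti n.le_succ j.2) trivial
    letI := htor.module
    haveI : IsScalarTower A (A ⧸ J) (M ⧸ (𝔍 n • ⊤ : Submodule A M)) := htor.isScalarTower
    obtain ⟨d', hd'⟩ := Module.projective_lifting_property
      (π.extendScalarsOfSurjective (R := A) (S := A ⧸ J) Ideal.Quotient.mk_surjective)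
      (δq.extendScalarsOfSurjective (R := A) (S := A ⧸ J) Ideal.Quotient.mk_surjective) hπ
    let d : N →ₗ[A] M ⧸ (J • ⊤ : Submodule A M) := (d'.restrictScalars A).comp (Submodule.mkQ _)
    have hd : ∀ y, π (d y) = δ y := fun y => LinearMap.congr_fun hd' (Submodule.Quotient.mk y)
    -- `N/JN → M/JM → N/JN`
    let ū : M ⧸ (J • ⊤ : Submodule A M) →ₗ[A] N ⧸ (J • ⊤ : Submodule A N) :=
      Submodule.mapQ _ _ u.toLinearMap (Submodule.smul_top_le_comap_smul_top J u.toLinearMap)
    let e : N →ₗ[A] N ⧸ (J • ⊤ : Submodule A N) := Submodule.mkQ _ - ū.comp r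
    refine ⟨r + (d'.restrictScalars A).comp e, fun x => ?_, ?_⟩
    · have he : e (u x) = 0 := by
        show Submodule.Quotient.mk (u x) - ū (r (u x)) = 0
        rw [hr]
        exact sub_self _
      show r (u x) + d' (e (u x)) = _
      rw [he, map_zero, add_zero, hr]
    · apply LinearMap.ext
      intro y
      obtain ⟨x, hx⟩ := Submodule.Quotient.mk_surjective _ (r y)
      show π (r y + d' (e y)) = w y
      have he : e y = Submodule.Quotient.mk (y - u x) := by
        show Submodule.Quotient.mk y - ū (r y) = _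
        rw [← hx, Submodule.Quotient.mk_sub]
        rfl
      rw [he, map_add, show d' (Submodule.Quotient.mk (y - u x)) = d (y - u x) from rfl, hd, map_sub, hδu,
        sub_zero]
      show π (r y) + (w y - π (r y)) = w y
      abel
  -- compatible system
  obtain ⟨W0, hW0⟩ := hF (𝔍 0) (h𝔍open 0)
  let sys : ∀ n, {w : N →ₗ[A] M ⧸ (𝔍 n • ⊤ : Submodule A M) // ∀ x, w (u x) = Submodule.Quotient.mk x} :=
    fun n => Nat.rec ⟨W0, hW0⟩ (fun n w => ⟨(step n w.1 w.2).choose, (step n w.1 w.2).choose_spec.1⟩) n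
  have hcompat : ∀ {m n : ℕ} (h : n ≤ m) (y : N), Submodule.factor (hle h) ((sys m).1 y) = (sys n).1 y := by
    intro m n h y
    induction h with
    | refl =>
      obtain ⟨x, hx⟩ := Submodule.Quotient.mk_surjective _ ((sys n).1 y)
      rw [← hx]
      rfl
    | @step m h ih =>
      have h1 : Submodule.factor (hle m.le_succ) ((sys (m+1)).1 y) = (sys m).1 y :=
        LinearMap.congr_fun (step m (sys m).1 (sys m).2).choose_spec.2 y
      rw [← ih, ← h1]
      obtain ⟨x, hx⟩ := Submodule.Quotient.mk_surjective _ ((sys (m+1)).1 y)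
      rw [← hx]
      rfl
  -- the topology of `M`
  have hbM : (nhds (0 : M)).HasBasis (fun _ : ℕ => True) (fun n => ((𝔍 n • ⊤ : Submodule A M) : Set M)) :=
    hM.2.to_hasBasis (fun J hJ => by
      obtain ⟨n, -, hn⟩ := h𝔍basis.mem_iff.1 (hJ.mem_nhds J.zero_mem)
      exact ⟨n, trivial, Submodule.smul_mono hn le_rfl⟩) (fun n _ => ⟨𝔍 n, h𝔍open n, subset_rfl⟩)
  have hopen : ∀ n, IsClosed ((𝔍 n • ⊤ : Submodule A M) : Set M) := fun n =>
    AddSubgroup.isClosed_of_isOpen (𝔍 n • ⊤ : Submodule A M).toAddSubgroup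
      (AddSubgroup.isOpen_of_mem_nhds _ (hbM.mem_of_mem (i := n) trivial))
  have hsep : ∀ a b : M, (∀ n, a - b ∈ (𝔍 n • ⊤ : Submodule A M)) → a = b := fun a b h => by
    refine sub_eq_zero.1 (by_contra fun hne => ?_)
    obtain ⟨n, -, hn⟩ := hbM.mem_iff.1 (isOpen_compl_singleton.mem_nhds (Ne.symm hne))
    exact hn (h n) rfl
  have hlim : ∀ y : N, ∃ L : M, ∀ n, Submodule.Quotient.mk L = (sys n).1 y := by
    intro y
    choose x hx using fun n => Submodule.Quotient.mk_surjective _ ((sys n).1 y)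
    have hdiff : ∀ {m n}, n ≤ m → x m - x n ∈ (𝔍 n • ⊤ : Submodule A M) := fun {m n} h => by
      rw [← Submodule.Quotient.eq, hx n, ← hcompat h y, ← hx m]
      rfl
    have hb2 : (uniformity M).HasBasis (fun _ : ℕ => True)
        (fun n => {p : M × M | p.2 - p.1 ∈ (𝔍 n • ⊤ : Submodule A M)}) := by
      rw [uniformity_eq_comap_nhds_zero M]
      exact hbM.comap _
    have hC : CauchySeq x := hb2.cauchySeq_iff.2 fun i _ => ⟨i, fun m hm n hn => by
      show x n - x m ∈ (𝔍 i • ⊤ : Submodule A M)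
      have h1 := sub_mem (hdiff hn) (hdiff hm)
      rwa [sub_sub_sub_cancel_right] at h1⟩
    obtain ⟨L, hL⟩ := cauchySeq_tendsto_of_complete hC
    refine ⟨L, fun n => ?_⟩
    rw [← hx n, Submodule.Quotient.eq]
    exact (hopen n).mem_of_tendsto (hL.sub_const (x n))
      (Filter.eventually_atTop.2 ⟨n, fun m hm => hdiff hm⟩)
  choose L hL using hlim
  refine ⟨{ toFun := L, map_add' := fun a b => ?_, map_smul' := fun c a => ?_ }, fun x => ?_⟩
  · refine hsep _ _ fun n => ?_
    rw [← Submodule.Quotient.eq, Submodule.Quotient.mk_add, hL, hL, hL, map_add]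
  · refine hsep _ _ fun n => ?_
    rw [← Submodule.Quotient.eq, RingHom.id_apply, Submodule.Quotient.mk_smul, hL, hL, map_smul]
  · refine hsep _ _ fun n => ?_
    rw [← Submodule.Quotient.eq]
    exact (hL (u x) n).trans ((sys n).2 x)

end Groth.Agent.S5839
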