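import Groth.Statements.S5840
import Groth.Agent.Lib.ZClos.Basic
import Groth.Agent.Lib.QCoh.Abelian
-- import your own Groth.Agent.* helpers here

set_option autoImplicit false
universe u
open ZClos

namespace Groth.Agent.S5840

open CategoryTheory CategoryTheory.Limits AlgebraicGeometry in
/-- For a locally Noetherian scheme X and a subset Z of X stable under specialization, the Z-closure
functor F ↦ H⁰_{X/Z}(F) on O_X-modules (the filtered colimit, over the closed subsets T of X inside
Z, of the direct images of the restrictions of F to X ∖ T) is left exact: it preserves finite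
limits. -/
theorem result (X : Scheme.{u}) [IsLocallyNoetherian X] (Z : Set X)
    (hZ : StableUnderSpecialization Z) : PreservesFiniteLimits (ZClos.H0 Z) := by
  have hd : PreservesFiniteLimits (ZClos.diagram Z) := ⟨fun J _ _ => preservesLimitsOfShape_of_evaluation _ _ fun T =>
    have : PreservesFiniteLimits (Scheme.Modules.restrictFunctor (ZClos.Cl.U T).ι) := inferInstance
    have : PreservesFiniteLimits (Scheme.Modules.pushforward (ZClos.Cl.U T).ι) := inferInstance
    have : PreservesFiniteLimits (ZClos.resPush (ZClos.Cl.U T)) := comp_preservesFiniteLimits _ _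
    inferInstanceAs (PreservesLimitsOfShape J (ZClos.resPush (ZClos.Cl.U T)))⟩
  have : HasExactColimitsOfShape (ZClos.Cl Z) X.Modules := GrothLib.OX.ab5.ofShape _
  have : PreservesFiniteLimits (colim : (ZClos.Cl Z ⥤ X.Modules) ⥤ X.Modules) := inferInstance
  exact comp_preservesFiniteLimits (ZClos.diagram Z) colim

end Groth.Agent.S5840
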