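import Groth.Statements.S5843
import Groth.Agent.Lib.ZClos.Criterion
-- import your own Groth.Agent.* helpers here

set_option autoImplicit false
universe u
open ZClos

namespace Groth.Agent.S5843

open CategoryTheory CategoryTheory.Limits AlgebraicGeometry in
/-- a) ⇔ a'), bijective case: for a locally Noetherian scheme X, a subset Z of X stable under
specialization and an arbitrary O_X-module F, the canonical map ρ_{X/Z} : F → H⁰_{X/Z}(F) is
bijective (F is Z-closed) if and only if, for every closed subset T of X contained in Z, the
canonical map from F to the direct image of its restriction to X ∖ T is bijective. -/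
theorem result (X : Scheme.{u}) [IsLocallyNoetherian X] (Z : Set X)
    (hZ : StableUnderSpecialization Z) (F : X.Modules) :
    ZClos.IsZClosed Z F ↔ ∀ T : ZClos.Cl Z, IsIso (ZClos.toDiagram Z F T) := by
  exact GrothLib.ZClosure.isZClosed_iff F

end Groth.Agent.S5843
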