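import Groth.Statements.S5846
import Groth.Agent.Lib.ZClos.Local
-- import your own Groth.Agent.* helpers here

set_option autoImplicit false
universe u
open ZClos

namespace Groth.Agent.S5846

open CategoryTheory CategoryTheory.Limits AlgebraicGeometry in
/-- For a locally Noetherian scheme X, a subset Z of X stable under specialization, an O_X-module F and
an open covering (V_i) of X, F is Z-pure if and only if, for every i, the restriction of F to the
open subscheme V_i is (Z ∩ V_i)-pure. -/
theorem result (X : Scheme.{u}) [IsLocallyNoetherian X] (Z : Set X)
    (hZ : StableUnderSpecialization Z) (F : X.Modules) {ι : Type u} (V : ι → X.Opens) (hV : iSup V = ⊤) :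
    ZClos.IsZPure Z F ↔
      ∀ i, ZClos.IsZPure ((V i).ι.base ⁻¹' Z) ((Scheme.Modules.restrictFunctor (V i).ι).obj F) := by
  exact GrothLib.ZClosure.isZPure_iff_of_cover hZ F V hV

end Groth.Agent.S5846
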