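import Groth.Statements.S5854
import Groth.Agent.Lib.ZClosPull5.Main
import Groth.Agent.Lib.FTDesc.Basic
import Groth.Agent.Lib.ModDesc.Approx
-- import your own Groth.Agent.* helpers here

set_option autoImplicit false
universe u
open ZClos

namespace Groth.Agent.S5854

open CategoryTheory CategoryTheory.Limits AlgebraicGeometry in
/-- Let f : X' → X be a flat morphism of locally Noetherian schemes, Z a subset of X stable under
specialization, Z' = f⁻¹(Z) and F a quasi-coherent O_X-module. If H⁰_{X/Z}(F) is coherent then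
H⁰_{X'/Z'}(f^* F) is coherent; the converse holds when f is moreover surjective (faithfully flat)
and quasi-compact. -/
theorem result {X X' : Scheme.{u}} [IsLocallyNoetherian X] [IsLocallyNoetherian X'] (f : X' ⟶ X) [Flat f]
    (Z : Set X) (hZ : StableUnderSpecialization Z) (F : X.Modules) (hF : Coh.IsQCoh F) :
    (Coh.IsCoh ((ZClos.H0 Z).obj F) →
      Coh.IsCoh ((ZClos.H0 (f.base ⁻¹' Z)).obj ((Scheme.Modules.pullback f).obj F))) ∧
    (Surjective f → QuasiCompact f →
      Coh.IsCoh ((ZClos.H0 (f.base ⁻¹' Z)).obj ((Scheme.Modules.pullback f).obj F)) →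
        Coh.IsCoh ((ZClos.H0 Z).obj F)) := by
  have : F.IsQuasicoherent := hF
  haveI hq : ((ZClos.H0 Z).obj F).IsQuasicoherent :=
    GrothLib.QCoh.isQuasicoherent_colimit ((ZClos.diagram Z).obj F) fun T =>
      GrothLib.QCoh.isQuasicoherent_pushforward T.U.ι ((Scheme.Modules.restrictFunctor T.U.ι).obj F)
  obtain ⟨e⟩ := GrothLib.ZClosPull5.nonempty_pullback_H0_iso f hZ F
  refine ⟨fun h => ?_, fun hs hqc h => ?_⟩
  · exact GrothLib.QCoh.isCoh_of_iso e (GrothLib.ModDesc.isCoh_pullback f _ h)
  · exact ⟨hq, GrothLib.FTDesc.isFT_of_pullback f _ (GrothLib.QCoh.isCoh_of_iso e.symm h).2⟩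

end Groth.Agent.S5854
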