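import Groth.Statements.S5861
import Groth.Agent.Lib.ZClos.DepthS2
-- import your own Groth.Agent.* helpers here

set_option autoImplicit false
universe u
open ZClos

namespace Groth.Agent.S5861

open CategoryTheory CategoryTheory.Limits AlgebraicGeometry in
/-- Suppose X is a locally Noetherian scheme and F is a coherent O_X-module whose support is the whole
of X. Assume no associated point of F has a local ring of X of dimension 1, and assume H⁰_{X/Z}(F)
is coherent, where Z = Z^(2)(X) denotes the set of points whose local ring has dimension at least 2.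
Consider the set U of points x where F satisfies (S_2), meaning depth(F_{x'}) ≥ min(2, dim F_{x'})
holds at every generization x' of x. Then U is an open subset, and the points lying outside U form a
set of codimension ≥ 2: the local ring at any such point has dimension at least 2. -/
theorem result (X : Scheme.{u}) [IsLocallyNoetherian X] (F : X.Modules) (hF : Coh.IsCoh F)
    (hsupp : ∀ x : X, Nontrivial (F.presheaf.stalk x))
    (hass : ∀ x ∈ AssSch.Ass F, ringKrullDim (X.presheaf.stalk x) ≠ 1)
    (hH : Coh.IsCoh ((ZClos.H0 (ZClos.dimGe X 2)).obj F)) :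
    IsOpen {x : X | ∀ x' : X, x' ⤳ x →
        min (2 : WithBot ℕ∞) (Module.supportDim (X.presheaf.stalk x') (F.presheaf.stalk x')) ≤
          ((LocCoh.depth (X.presheaf.stalk x') (F.presheaf.stalk x') : ℕ∞) : WithBot ℕ∞)} ∧
      ∀ x : X, (¬ ∀ x' : X, x' ⤳ x →
        min (2 : WithBot ℕ∞) (Module.supportDim (X.presheaf.stalk x') (F.presheaf.stalk x')) ≤
          ((LocCoh.depth (X.presheaf.stalk x') (F.presheaf.stalk x') : ℕ∞) : WithBot ℕ∞)) →
        (2 : WithBot ℕ∞) ≤ ringKrullDim (X.presheaf.stalk x) := by
  have hZ := GrothLib.ZClosure.stableUnderSpecialization_dimGe (X := X) 2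
  have key : ∀ x : X, (∀ x' : X, x' ⤳ x →
      min (2 : WithBot ℕ∞) (Module.supportDim (X.presheaf.stalk x') (F.presheaf.stalk x')) ≤
        ((LocCoh.depth (X.presheaf.stalk x') (F.presheaf.stalk x') : ℕ∞) : WithBot ℕ∞)) ↔
      ZClos.IsZClosedAt (ZClos.dimGe X 2) F x := by
    intro x
    rw [GrothLib.ZClosure.isZClosedAt_iff_depth F hF hZ x]
    refine forall₂_congr fun x' _ => ⟨fun h hx' => ?_, fun h => ?_⟩
    · have hmin : min (2 : WithBot ℕ∞) (Module.supportDim (X.presheaf.stalk x') (F.presheaf.stalk x')) = 2 := by
        rw [GrothLib.ZClosure.supportDim_stalk_eq F hF hsupp x']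
        exact min_eq_left hx'
      rw [hmin] at h
      exact WithBot.coe_le_coe.1 h
    · by_cases hx' : x' ∈ ZClos.dimGe X 2
      · exact (min_le_left _ _).trans (WithBot.coe_le_coe.2 (h hx'))
      · haveI := GrothLib.QuasiFlat.finite_stalk F hF x'
        exact GrothLib.ZClosure.min_le_depth_of_notMem F hF hass hx' _ (LinearEquiv.refl _ _)
  refine ⟨?_, fun x hx => ?_⟩
  · simp only [key]
    exact GrothLib.ZClosure.isOpen_isZClosedAt F hF hH
  · by_contra h2
    exact hx ((key x).2 (GrothLib.ZClosure.isZClosedAt_of_notMem F h2))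


end Groth.Agent.S5861
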