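import Groth.Statements.S5862

set_option autoImplicit false
universe u
open RadPt

namespace Groth.Agent.S5862

open CategoryTheory AlgebraicGeometry in
/-- Let f : X → Y and g : Y → Z be morphisms of schemes and y a point of Y. If f is radicial at y (fibre
with at most one point, purely inseparable residue field extension) and g is radicial at g(y), then
g ∘ f is radicial at g(y). Conversely, if f is surjective and g ∘ f is radicial at g(y), then f is
radicial at y and g is radicial at g(y). -/
theorem result {X Y Z : Scheme.{u}} (f : X ⟶ Y) (g : Y ⟶ Z) (y : Y) :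
    (RadPt.IsRadicialAt f y → RadPt.IsRadicialAt g (g y) → RadPt.IsRadicialAt (f ≫ g) (g y)) ∧
      (Surjective f → RadPt.IsRadicialAt (f ≫ g) (g y) →
        RadPt.IsRadicialAt f y ∧ RadPt.IsRadicialAt g (g y)) := by
  have tower : ∀ x : X, ((f ≫ g).residueFieldMap x).hom.IsPurelyInseparable →
      (f.residueFieldMap x).hom.IsPurelyInseparable ∧
        (g.residueFieldMap (f x)).hom.IsPurelyInseparable := by
    intro x h
    replace h : ((f.residueFieldMap x).hom.comp (g.residueFieldMap (f x)).hom).IsPurelyInseparable := by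
      rw [Scheme.residueFieldMap_comp] at h
      exact h
    algebraize [(g.residueFieldMap (f x)).hom, (f.residueFieldMap x).hom,
      (f.residueFieldMap x).hom.comp (g.residueFieldMap (f x)).hom]
    exact ⟨IsPurelyInseparable.tower_top (Z.residueField (g (f x))) (Y.residueField (f x))
        (X.residueField x),
      IsPurelyInseparable.tower_bot (Z.residueField (g (f x))) (Y.residueField (f x))
        (X.residueField x)⟩
  refine ⟨fun hf hg => ⟨?_, ?_⟩, fun hs h => ⟨⟨?_, ?_⟩, ⟨?_, ?_⟩⟩⟩
  · intro x x' hx hx'
    exact hf.1 x x' (hg.1 (f x) y hx rfl) (hg.1 (f x') y hx' rfl)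
  · intro x hx
    have hy : f x = y := hg.1 (f x) y hx rfl
    subst hy
    rw [Scheme.residueFieldMap_comp]
    exact RingHom.IsPurelyInseparable.comp (hg.2 _ rfl) (hf.2 x rfl)
  · intro x x' hx hx'
    exact h.1 x x' (congrArg g hx) (congrArg g hx')
  · intro x hx
    exact (tower x (h.2 x (congrArg g hx))).1
  · intro z z' hz hz'
    obtain ⟨x, rfl⟩ := hs.surj z
    obtain ⟨x', rfl⟩ := hs.surj z'
    rw [h.1 x x' hz hz']
  · intro z hz
    obtain ⟨x, rfl⟩ := hs.surj z
    exact (tower x (h.2 x hz)).2

end Groth.Agent.S5862
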