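import Groth.Statements.S5863
import Groth.Agent.Lib.RLpsi8.RadAt

set_option autoImplicit false
universe u
open RadPt

namespace Groth.Agent.S5863

open CategoryTheory AlgebraicGeometry in
/-- Let f : X → Y and h : Y' → Y be morphisms of schemes, f' : X ×_Y Y' → Y' the base change of f (any
cartesian square), y' a point of Y' and y = h(y'). Then f is radicial at y if and only if f' is
radicial at y'. -/
theorem result {X Y X' Y' : Scheme.{u}} {f : X ⟶ Y} {h : Y' ⟶ Y} {f' : X' ⟶ Y'} {h' : X' ⟶ X}
    (sq : IsPullback h' f' f h) (y' : Y') :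
    RadPt.IsRadicialAt f (h y') ↔ RadPt.IsRadicialAt f' y' := by
  exact RLpsi8.RadAt.isRadicialAt_iff_of_isPullback sq y'

end Groth.Agent.S5863
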