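import Groth.Statements.S5866
import Groth.Agent.Lib.RLpsi8.UnibRadScheme

set_option autoImplicit false
universe u
open RadPt

namespace Groth.Agent.S5866

open CategoryTheory AlgebraicGeometry in
/-- Let f : X → Y be a morphism of schemes which is integral and whose induced morphism of reduced
schemes is birational. Then Y is geometrically unibranch (at every point) if and only if X is
geometrically unibranch and f is radicial (universally injective). -/
theorem result {X Y : Scheme.{u}} (f : X ⟶ Y) [IsIntegralHom f] (hf : RadPt.IsBirational f) :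
    (∀ y : Y, CAlg2.IsGeomUnibranch (Y.presheaf.stalk y)) ↔
      ((∀ x : X, CAlg2.IsGeomUnibranch (X.presheaf.stalk x)) ∧ UniversallyInjective f) := by
  have e : UniversallyInjective f ↔ (Function.Injective f ∧ ∀ x, (f.residueFieldMap x).hom.IsPurelyInseparable) :=
    (tfae_universallyInjective f).out 0 2
  rw [e]
  constructor
  · intro h
    have h' := fun y => (RLpsi8.UnibRad.geomUnibranch_iff_radicialAt f hf y).1 (h y)
    exact ⟨fun x => (h' (f x)).2 x rfl, fun a b hab => (h' (f a)).1.1 a b rfl hab.symm,
      fun x => (h' (f x)).1.2 x rfl⟩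
  · rintro ⟨h, hi, hp⟩ y
    exact (RLpsi8.UnibRad.geomUnibranch_iff_radicialAt f hf y).2
      ⟨⟨fun a b ha hb => hi (ha.trans hb.symm), fun x _ => hp x⟩, fun x _ => h x⟩

end Groth.Agent.S5866
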