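import Groth.Statements.S5873
import Groth.Agent.Lib.FibAssGen13.Main
-- import your own Groth.Agent.* helpers here

set_option autoImplicit false
universe u
open CategoryTheory AlgebraicGeometry
open Cons9

namespace Groth.Agent.S5873

set_option backward.isDefEq.respectTransparency false


/-- Let S be an integral Noetherian scheme with generic point η, f : X ⟶ S a morphism of finite type and
F a coherent O_X-module; for s in S write F_s for the pullback of F to the scheme-theoretic fibre
X_s. For an associated point x of F_η let Z_x denote the closure in X of the image of x, and (Z_x)_s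
its trace on X_s (the preimage under X_s ⟶ X). Then there is an open neighbourhood U of η such that
for every s in U: (a) the associated points of F_s are exactly the maximal points (those admitting
no proper generization inside the set) of the sets (Z_x)_s, for x running over the associated points
of F_η, so that the associated prime cycles of F_s are the irreducible components of the (Z_x)_s;
(b) for distinct associated points x, x' of F_η the maximal points of (Z_x)_s and of (Z_x')_s are
pairwise distinct; (c) for every associated point x of F_η and every maximal point z of (Z_x)_s, the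
point z is a maximal associated point of F_s (no other associated point of F_s generizes it) if and
only if x is a maximal associated point of F_η. -/
theorem result {X S : Scheme.{u}} [IsIntegral S] [IsNoetherian S]
    (f : X ⟶ S) [LocallyOfFiniteType f] [QuasiCompact f]
    (F : X.Modules) [Coh.IsQCoh F] (hF : CohB1.IsFP F) :
    ∃ U : S.Opens, genericPoint S ∈ U ∧ ∀ s ∈ U,
      (AssSch.Ass ((Scheme.Modules.pullback (f.fiberι s)).obj F) =
          ⋃ x ∈ AssSch.Ass ((Scheme.Modules.pullback (f.fiberι (genericPoint S))).obj F),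
            {z : ↥(f.fiber s) | z ∈ ((f.fiberι s).base ⁻¹' closure {(f.fiberι (genericPoint S)).base x}) ∧ ∀ z' ∈ ((f.fiberι s).base ⁻¹' closure {(f.fiberι (genericPoint S)).base x}), z' ⤳ z → z' = z}) ∧
      (∀ x ∈ AssSch.Ass ((Scheme.Modules.pullback (f.fiberι (genericPoint S))).obj F), ∀ x' ∈ AssSch.Ass ((Scheme.Modules.pullback (f.fiberι (genericPoint S))).obj F), x ≠ x' →
          Disjoint {z : ↥(f.fiber s) | z ∈ ((f.fiberι s).base ⁻¹' closure {(f.fiberι (genericPoint S)).base x}) ∧ ∀ z' ∈ ((f.fiberι s).base ⁻¹' closure {(f.fiberι (genericPoint S)).base x}), z' ⤳ z → z' = z}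
            {z : ↥(f.fiber s) | z ∈ ((f.fiberι s).base ⁻¹' closure {(f.fiberι (genericPoint S)).base x'}) ∧ ∀ z' ∈ ((f.fiberι s).base ⁻¹' closure {(f.fiberι (genericPoint S)).base x'}), z' ⤳ z → z' = z}) ∧
      (∀ x ∈ AssSch.Ass ((Scheme.Modules.pullback (f.fiberι (genericPoint S))).obj F),
        ∀ z ∈ {z : ↥(f.fiber s) | z ∈ ((f.fiberι s).base ⁻¹' closure {(f.fiberι (genericPoint S)).base x}) ∧ ∀ z' ∈ ((f.fiberι s).base ⁻¹' closure {(f.fiberι (genericPoint S)).base x}), z' ⤳ z → z' = z},
          ((∀ y ∈ AssSch.Ass ((Scheme.Modules.pullback (f.fiberι s)).obj F), y ⤳ z → y = z) ↔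
            (∀ y ∈ AssSch.Ass ((Scheme.Modules.pullback (f.fiberι (genericPoint S))).obj F), y ⤳ x → y = x))) := by

  haveI : F.IsQuasicoherent := GrothLib.FibPd.isQuasicoherent_of_isFP hF
  obtain ⟨U, hU, h⟩ := GrothLib.FibAssGen13.exists_nhd_ass f F hF
  refine ⟨U, hU, fun s hs => ?_⟩
  obtain ⟨hA, hB, hC⟩ := h s hs
  let d := fun e => GrothLib.FibAssGen13.dimC f (genericPoint S) e
  have key : ∀ x ∈ AssSch.Ass ((Scheme.Modules.pullback (f.fiberι (genericPoint S))).obj F), ∀ z : ↥(f.fiber s),
      (z ∈ ((f.fiberι s).base ⁻¹' closure {(f.fiberι (genericPoint S)).base x}) ∧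
        ∀ z' ∈ ((f.fiberι s).base ⁻¹' closure {(f.fiberι (genericPoint S)).base x}), z' ⤳ z → z' = z) ↔
      (f.fiberι (genericPoint S) x ⤳ f.fiberι s z ∧ GrothLib.FibAssGen13.dimC f s z = d x) := by
    intro x hx z
    constructor
    · rintro ⟨h1, h2⟩
      obtain ⟨-, ⟨z', hz', hzz', hd⟩, -⟩ := hA x hx z (specializes_iff_mem_closure.2 h1)
      obtain rfl := h2 z' (specializes_iff_mem_closure.1 hz') hzz'
      exact ⟨hz', hd⟩
    · rintro ⟨h1, h2⟩
      refine ⟨specializes_iff_mem_closure.1 h1, fun z' hz' hsp => ?_⟩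
      refine GrothLib.FibAssGen13.eq_of_dimC_le f hsp ?_
      rw [h2]
      exact (hA x hx z' (specializes_iff_mem_closure.2 hz')).1
  refine ⟨?_, ?_, ?_⟩
  · ext z
    constructor
    · intro hz
      obtain ⟨e, he, h1, h2⟩ := hB z hz
      exact Set.mem_iUnion₂.2 ⟨e, he, (key e he z).2 ⟨h1, h2⟩⟩
    · intro hz
      obtain ⟨e, he, hze⟩ := Set.mem_iUnion₂.1 hz
      obtain ⟨h1, h2⟩ := (key e he z).1 hze
      exact (hA e he z h1).2.2 h2
  · intro x hx x' hx' hne
    rw [Set.disjoint_left]
    intro z hz hz'
    obtain ⟨h1, h2⟩ := (key x hx z).1 hz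
    obtain ⟨h1', h2'⟩ := (key x' hx' z).1 hz'
    have hns : ¬ x' ⤳ x := fun hsp =>
      hne (GrothLib.FibAssGen13.eq_of_dimC_le f hsp (h2'.symm.trans h2).le).symm
    exact lt_irrefl _ ((hC x hx x' hx' hns z h1 h1').trans_eq h2.symm)
  · intro x hx z hz
    obtain ⟨h1, h2⟩ := (key x hx z).1 hz
    constructor
    · intro hmax y hy hyx
      have hyz : f.fiberι (genericPoint S) y ⤳ f.fiberι s z :=
        (hyx.map (f.fiberι (genericPoint S)).continuous).trans h1
      obtain ⟨-, ⟨z', hz', hzz', hd⟩, -⟩ := hA y hy z hyz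
      obtain rfl := hmax z' ((hA y hy z' hz').2.2 hd) hzz'
      exact GrothLib.FibAssGen13.eq_of_dimC_le f hyx (hd.symm.trans h2).le
    · intro hmax y hy hyz
      obtain ⟨a, ha, hay, had⟩ := hB y hy
      have haz : f.fiberι (genericPoint S) a ⤳ f.fiberι s z := hay.trans (hyz.map (f.fiberι s).continuous)
      have hax : a ⤳ x := by
        by_contra hns
        exact lt_irrefl _ ((hC x hx a ha hns z h1 haz).trans_eq h2.symm)
      obtain rfl := hmax a ha hax
      exact GrothLib.FibAssGen13.eq_of_dimC_le f hyz (had.trans h2.symm).le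

end Groth.Agent.S5873
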