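import Groth.Prelude
import Groth.Agent.Lib.FibModLocus10.AssLoci

set_option autoImplicit false
universe u
open CategoryTheory AlgebraicGeometry
namespace Cons9
end Cons9
open Cons9

namespace Groth.Agent.S5874

/-- Let f : X ⟶ S be a morphism of finite presentation (locally of finite presentation, quasi-compact
and quasi-separated) and F a quasi-coherent O_X-module of finite presentation; for s in S let F_s be
the pullback of F to the scheme-theoretic fibre X_s and E(s) the finite set of dimensions of the
associated prime cycles of F_s (closures in X_s of the associated points of F_s). Then s ↦ E(s) is a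
locally constructible function on S: for every finite set Φ of natural numbers, the set of s with
E(s) = Φ is locally constructible. -/
theorem result {X S : Scheme.{u}} (f : X ⟶ S)
    [LocallyOfFinitePresentation f] [QuasiCompact f] [QuasiSeparated f]
    (F : X.Modules) [Coh.IsQCoh F] (hF : CohB1.IsFP F) (Φ : Finset ℕ) :
    Topology.IsLocallyConstructible {s : S |
      (fun z : ↥(f.fiber s) => topologicalKrullDim ↥(closure ({z} : Set ↥(f.fiber s)))) ''
          AssSch.Ass ((Scheme.Modules.pullback (f.fiberι s)).obj F) =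
        (fun n : ℕ => (n : WithBot ℕ∞)) '' (Φ : Set ℕ)} := by
  haveI : F.IsQuasicoherent := GrothLib.FibPd.isQuasicoherent_of_isFP hF
  have h1 := GrothLib.FibModLocus10.isLocallyConstructible_allDimIn f F hF (Φ : Set ℕ)
  have h2 := GrothLib.FibModLocus10.isLocallyConstructible_biInter Φ fun n _ =>
    GrothLib.FibModLocus10.isLocallyConstructible_compl
      (GrothLib.FibModLocus10.isLocallyConstructible_allDimIn f F hF ({n}ᶜ : Set ℕ))
  convert h1.inter h2 using 1
  ext s
  simp only [Set.mem_inter_iff, Set.mem_iInter, Set.mem_compl_iff]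
  constructor
  · intro he
    refine ⟨fun z hz => ?_, fun n hn hall => ?_⟩
    · obtain ⟨n, hn, hd⟩ := he.subset ⟨z, hz, rfl⟩
      exact ⟨n, hn, hd.symm⟩
    · obtain ⟨z, hz, hd⟩ := he.symm.subset ⟨n, hn, rfl⟩
      obtain ⟨m, hm, hd'⟩ := hall z hz
      have hmn : m = n := by exact_mod_cast (hd'.symm.trans hd : (m : WithBot ℕ∞) = (n : WithBot ℕ∞))
      exact hm hmn
  · rintro ⟨hall, hex⟩
    refine Set.eq_of_subset_of_subset ?_ ?_
    · rintro _ ⟨z, hz, rfl⟩
      obtain ⟨n, hn, hd⟩ := hall z hz
      exact ⟨n, hn, hd.symm⟩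
    · rintro _ ⟨n, hn, rfl⟩
      by_contra hne
      refine hex n hn fun z hz => ?_
      obtain ⟨m, hm⟩ := GrothLib.FibModLocus10.exists_nat_dim_closure f s z
      exact ⟨m, fun hmn => hne ⟨z, hz, hm.trans (by rw [Set.mem_singleton_iff.1 hmn])⟩, hm⟩

end Groth.Agent.S5874
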