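import Groth.Prelude
import Groth.Agent.Lib.FibModLocus10.AssLoci

set_option autoImplicit false
universe u
open CategoryTheory AlgebraicGeometry
namespace Cons9
end Cons9
open Cons9

namespace Groth.Agent.S5875

/-- Let f : X ⟶ S be a morphism of finite presentation (locally of finite presentation, quasi-compact
and quasi-separated) and F a quasi-coherent O_X-module of finite presentation; for s in S let F_s be
the pullback of F to the scheme-theoretic fibre X_s and E'(s) the finite set of dimensions of the
irreducible components of the support of F_s (the points of X_s where the stalk of F_s is nonzero),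
i.e. of the maximal associated prime cycles of F_s. Then s ↦ E'(s) is a locally constructible
function on S: for every finite set Φ of natural numbers, the set of s with E'(s) = Φ is locally
constructible. -/
theorem result {X S : Scheme.{u}} (f : X ⟶ S)
    [LocallyOfFinitePresentation f] [QuasiCompact f] [QuasiSeparated f]
    (F : X.Modules) [Coh.IsQCoh F] (hF : CohB1.IsFP F) (Φ : Finset ℕ) :
    Topology.IsLocallyConstructible {s : S |
      (fun Z : Set ↥(CohB1.support ((Scheme.Modules.pullback (f.fiberι s)).obj F)) => topologicalKrullDim ↥Z) ''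
          irreducibleComponents ↥(CohB1.support ((Scheme.Modules.pullback (f.fiberι s)).obj F)) =
        (fun n : ℕ => (n : WithBot ℕ∞)) '' (Φ : Set ℕ)} := by
  haveI : F.IsQuasicoherent := GrothLib.FibPd.isQuasicoherent_of_isFP hF
  have h1 := GrothLib.FibModLocus10.isLocallyConstructible_compl
    (GrothLib.FibModLocus10.isLocallyConstructible_hasMinIn f F hF ((Φ : Set ℕ)ᶜ))
  have h2 := GrothLib.FibModLocus10.isLocallyConstructible_biInter Φ fun n _ =>
    GrothLib.FibModLocus10.isLocallyConstructible_hasMinIn f F hF ({n} : Set ℕ)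
  convert h1.inter h2 using 1
  ext s
  simp only [Set.mem_inter_iff, Set.mem_iInter, Set.mem_compl_iff]
  simp only [GrothLib.FibModLocus10.locus, GrothLib.FibModLocus10.HasMinIn, Set.mem_setOf_eq,
    GrothLib.FibModLocus10.hasMinDim_iff f F hF, Set.mem_singleton_iff, exists_eq_left, Set.mem_compl_iff,
    not_exists, not_and]
  rw [← GrothLib.FibPd.support_eq_nontrivial f F s]
  constructor
  · intro he
    refine ⟨fun n hn Z hZ hd => ?_, fun n hn => he.symm.subset ⟨n, hn, rfl⟩⟩
    obtain ⟨m, hm, hm'⟩ := he.subset ⟨Z, hZ, rfl⟩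
    have hmn : m = n := by simpa using hm'.trans hd
    exact hn (hmn ▸ hm)
  · rintro ⟨hnone, hall⟩
    refine Set.eq_of_subset_of_subset ?_ ?_
    · rintro _ ⟨Z, hZ, rfl⟩
      obtain ⟨η, -, hd, -, -⟩ := GrothLib.FibPd.exists_generic_ass f hF s hZ
      obtain ⟨m, hm⟩ := GrothLib.FibModLocus10.exists_nat_dim_closure f s η
      refine ⟨m, ?_, (hd.trans hm).symm⟩
      by_contra hmΦ
      exact hnone m hmΦ Z hZ (hd.trans hm)
    · rintro _ ⟨n, hn, rfl⟩
      obtain ⟨Z, hZ, hd⟩ := hall n hn
      exact ⟨Z, hZ, hd⟩

end Groth.Agent.S5875
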