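import Groth.Statements.S5876
import Groth.Agent.Lib.RLpsi8.VBBiprod
import Groth.Agent.Lib.RelSpec.OfAffine
import Groth.Agent.Lib.AffAlg8.Hom

set_option autoImplicit false
universe u
open CategoryTheory CategoryTheory.Limits AlgebraicGeometry
open Lim8

namespace Groth.Agent.S5876

open AlgebraicGeometry RelSpec GrothLib.RelSpec Opposite

variable {S : Scheme.{u}}

/-- The restriction of presheaves to the affine opens. -/
noncomputable abbrev res {P Q : TopCat.Presheaf CommRingCat.{u} S.carrier} (T : P ⟶ Q) :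
    (aff S).op ⋙ P ⟶ (aff S).op ⋙ Q := (aff S).op.whiskerLeft T

/-- Extension from affine opens of maps into sheaves. -/
theorem res_bijective (P Q : TopCat.Presheaf CommRingCat.{u} S.carrier) (hQ : Q.IsSheaf) :
    Function.Bijective (fun T : P ⟶ Q => res T) :=
  (Functor.IsCoverDense.restrictHomEquivHom (G := aff S) (K := Opens.grothendieckTopology S) (ℱ := P)
    (ℱ' := (⟨Q, hQ⟩ : TopCat.Sheaf CommRingCat.{u} S.carrier))).symm.bijective

theorem algHom_of_res {A B : QCAlg S} (t : (aff S).op ⋙ A.presheaf ⟶ (aff S).op ⋙ B.presheaf)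
    (ht : res A.str ≫ t = res B.str) : ∃ Φ : A ⟶ B, res Φ.hom = t := by
  obtain ⟨T, hT⟩ := (res_bijective A.presheaf B.presheaf B.isSheaf).2 t
  refine ⟨⟨T, (res_bijective _ _ B.isSheaf).1 ?_⟩, hT⟩
  show res (A.str ≫ T) = res B.str
  rw [show res (A.str ≫ T) = res A.str ≫ res T from Functor.whiskerLeft_comp _ _ _, ← ht]
  exact congrArg (res A.str ≫ ·) hT

theorem algHom_res_ext {A B : QCAlg S} {Φ Ψ : A ⟶ B} (h : res Φ.hom = res Ψ.hom) : Φ = Ψ :=
  QCAlg.hom_ext ((res_bijective _ _ B.isSheaf).1 h)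

variable {J : Type u} [SmallCategory J] [IsFiltered J] (A : J ⥤ QCAlg S)

/-- The diagram of restrictions to the affine opens. -/
noncomputable abbrev diag : J ⥤ (S.AffineZariskiSiteᵒᵖ ⥤ CommRingCat.{u}) where
  obj j := (aff S).op ⋙ (A.obj j).presheaf
  map φ := res (A.map φ).hom
  map_id j := by rw [A.map_id]; rfl
  map_comp φ ψ := by rw [A.map_comp]; rfl

theorem str_comp {B C : QCAlg S} (Φ : B ⟶ C) : res B.str ≫ res Φ.hom = res C.str := by
  rw [← Φ.comm]; rfl

/-- The structure map of a cocone does not depend on the index. -/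
theorem str_index (d : Cocone (diag A)) (j k : J) :
    res (A.obj j).str ≫ d.ι.app j = res (A.obj k).str ≫ d.ι.app k := by
  rw [← d.w (IsFiltered.leftToMax j k), ← d.w (IsFiltered.rightToMax j k)]
  simp only [diag, ← Category.assoc]
  erw [str_comp, str_comp]

theorem coequifibered_colimit (j₀ : J) :
    (res (A.obj j₀).str ≫ colimit.ι (diag A) j₀).Coequifibered := by
  intro i k g
  have hev := fun U => isColimitOfPreserves ((evaluation S.AffineZariskiSiteᵒᵖ CommRingCat.{u}).obj U)
    (colimit.isColimit (diag A))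
  have hα : ∀ (j : J) (U), (res (A.obj j₀).str).app U ≫ (colimit.ι (diag A) j₀).app U =
      (res (A.obj j).str).app U ≫ (colimit.ι (diag A) j).app U := fun j U => by
    rw [← NatTrans.comp_app, ← NatTrans.comp_app]
    exact congrArg (fun t => t.app U) (str_index A (colimit.cocone (diag A)) j₀ j)
  have H : ∀ j : J, IsPushout (((aff S).op ⋙ S.presheaf).map g) ((res (A.obj j).str).app i)
      ((res (A.obj j).str).app k) (((aff S).op ⋙ (A.obj j).presheaf).map g) := fun j => (A.obj j).coequifibered g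
  refine ⟨⟨((res (A.obj j₀).str ≫ colimit.ι (diag A) j₀).naturality g)⟩, ⟨?_⟩⟩
  have hcond : ∀ (s : PushoutCocone (((aff S).op ⋙ S.presheaf).map g)
      ((res (A.obj j₀).str ≫ colimit.ι (diag A) j₀).app i)) (j : J),
      ((aff S).op ⋙ S.presheaf).map g ≫ s.inl =
        (res (A.obj j).str).app i ≫ (colimit.ι (diag A) j).app i ≫ s.inr := fun s j => by
    exact s.condition.trans ((congrArg (· ≫ s.inr) (hα j i)).trans (Category.assoc _ _ _))
  let D' : ∀ (s : PushoutCocone (((aff S).op ⋙ S.presheaf).map g)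
      ((res (A.obj j₀).str ≫ colimit.ι (diag A) j₀).app i)), Cocone (diag A ⋙ (evaluation _ _).obj k) := fun s =>
    { pt := s.pt
      ι :=
        { app := fun j => (H j).desc s.inl ((colimit.ι (diag A) j).app i ≫ s.inr) (hcond s j)
          naturality := fun j l φ => by
            refine (H j).hom_ext ?_ ?_
            · dsimp [diag]
              rw [Category.comp_id, IsPushout.inl_desc, ← Category.assoc]
              have h0 := congrArg (fun t => t.app k) (str_comp (A.map φ))
              simp only [NatTrans.comp_app] at h0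
              erw [h0, IsPushout.inl_desc]
            · dsimp [diag]
              rw [Category.comp_id, IsPushout.inr_desc, ← Category.assoc]
              have h0 := (res (A.map φ).hom).naturality g
              erw [h0, Category.assoc, IsPushout.inr_desc]
              rw [← colimit.w (diag A) φ]
              rfl } }
  refine PushoutCocone.IsColimit.mk _ (fun s => (hev k).desc (D' s)) (fun s => ?_) (fun s => ?_) (fun s m h1 h2 => ?_)
  · show ((res (A.obj j₀).str).app k ≫ (colimit.ι (diag A) j₀).app k) ≫ _ = _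
    rw [Category.assoc]
    erw [(hev k).fac (D' s) j₀]
    exact IsPushout.inl_desc _ _ _ _
  · refine (hev i).hom_ext fun j => ?_
    show (colimit.ι (diag A) j).app i ≫ (colimit (diag A)).map g ≫ _ = (colimit.ι (diag A) j).app i ≫ _
    rw [← Category.assoc, ← (colimit.ι (diag A) j).naturality g, Category.assoc]
    erw [(hev k).fac (D' s) j]
    exact IsPushout.inr_desc _ _ _ _
  · refine (hev k).hom_ext fun j => ?_
    erw [(hev k).fac (D' s) j]
    show (colimit.ι (diag A) j).app k ≫ m = _
    refine (H j).hom_ext ?_ ?_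
    · rw [← Category.assoc, ← hα j, ← NatTrans.comp_app]
      refine h1.trans (IsPushout.inl_desc _ _ _ _).symm
    · rw [← Category.assoc]
      erw [(colimit.ι (diag A) j).naturality g]
      rw [Category.assoc, h2]
      exact (IsPushout.inr_desc _ _ _ _).symm

/-- The sections on affine opens of a filtered colimit of algebras are the colimit of the sections. -/
theorem isColimit_res (c : Cocone A) (hc : IsColimit c) :
    ∀ (d : Cocone (diag A)), d = { pt := (aff S).op ⋙ c.pt.presheaf, ι := {
        app := fun j => res (c.ι.app j).hom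
        naturality := fun j k φ => by
          have h := congrArg (fun t : A.obj j ⟶ c.pt => res t.hom) (c.w φ)
          exact h.trans (Category.comp_id _).symm } } →
      Nonempty (IsColimit d) := by
  intro d hd
  obtain ⟨j₀⟩ : Nonempty J := IsFiltered.nonempty
  obtain ⟨Ainf, i, hi⟩ := exists_qcAlg_of_coequifibered (colimit (diag A))
    (res (A.obj j₀).str ≫ colimit.ι (diag A) j₀) (coequifibered_colimit A j₀)
  have hκ : ∀ j, ∃ Φ : A.obj j ⟶ Ainf, res Φ.hom = colimit.ι (diag A) j ≫ i.hom := fun j => by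
    refine algHom_of_res _ ?_
    rw [← Category.assoc]
    erw [str_index A (colimit.cocone (diag A)) j j₀]
    exact hi
  choose κ hκ using hκ
  let cI : Cocone A :=
    { pt := Ainf
      ι :=
        { app := κ
          naturality := fun j k φ => algHom_res_ext (by
            show res (A.map φ).hom ≫ res (κ k).hom = res (κ j).hom
            rw [hκ, hκ, ← Category.assoc, ← colimit.w (diag A) φ]) } }
  let Φ : c.pt ⟶ Ainf := hc.desc cI
  have hΦ : ∀ j, res (c.ι.app j).hom ≫ res Φ.hom = colimit.ι (diag A) j ≫ i.hom := fun j => by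
    rw [← hκ j]
    exact congrArg (fun t : A.obj j ⟶ Ainf => res t.hom) (hc.fac cI j)
  subst hd
  let d : Cocone (diag A) := { pt := (aff S).op ⋙ c.pt.presheaf, ι := {
        app := fun j => res (c.ι.app j).hom
        naturality := fun j k φ => by
          have h := congrArg (fun t : A.obj j ⟶ c.pt => res t.hom) (c.w φ)
          exact h.trans (Category.comp_id _).symm } }
  let e := colimit.desc (diag A) d
  have he : ∀ j, colimit.ι (diag A) j ≫ e = res (c.ι.app j).hom := fun j => colimit.ι_desc d j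
  obtain ⟨Ψ, hΨ⟩ := algHom_of_res (A := Ainf) (B := c.pt) (i.inv ≫ e) (by
    have h : res Ainf.str = (res (A.obj j₀).str ≫ colimit.ι (diag A) j₀) ≫ i.hom := hi.symm
    rw [h, Category.assoc, Category.assoc, i.hom_inv_id_assoc, he]
    exact str_comp (c.ι.app j₀))
  have hΦΨ : Φ ≫ Ψ = 𝟙 c.pt := hc.hom_ext fun j => algHom_res_ext (by
    show res (c.ι.app j).hom ≫ res Φ.hom ≫ res Ψ.hom = res (c.ι.app j ≫ 𝟙 c.pt).hom
    rw [← Category.assoc, hΦ, hΨ, Category.assoc, i.hom_inv_id_assoc, he]
    exact congrArg (fun t : A.obj j ⟶ c.pt => res t.hom) (Category.comp_id (c.ι.app j)).symm)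
  have : IsIso e := by
    refine ⟨res Φ.hom ≫ i.inv, colimit.hom_ext fun j => ?_, ?_⟩
    · rw [← Category.assoc, he, ← Category.assoc, hΦ, Category.assoc, i.hom_inv_id]
    · rw [Category.assoc, ← hΨ]
      exact congrArg (fun t : c.pt ⟶ c.pt => res t.hom) hΦΨ
  haveI : IsIso ((colimit.isColimit (diag A)).desc d) := this
  exact ⟨IsColimit.ofPointIso (t := d) (colimit.isColimit (diag A))⟩

theorem algHom_specMap {A B : QCAlg S} (φ : A ⟶ B) :
    AffAlg.algHom A.π B.π (QCAlg.specMap φ) (QCAlg.specMap_π φ) ≫ B.gammaMap = A.gammaMap ≫ φ.hom :=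
  congrArg QCAlg.Hom.hom (RLpsi8.ofHom_specMap φ)

/-- Let S be a scheme and (A_j) a filtered direct system of quasi-coherent O_S-algebras, indexed by a
small filtered category, with a colimit cocone with vertex A. Write S_j = Spec(A_j) and S' = Spec(A)
for the relative spectra, and u_j : S' ⟶ S_j for the morphisms induced by the coprojections A_j ⟶ A.
Then (S', (u_j)) is a limit of the inverse system (S_j) in the category of all schemes (not only of
S-schemes): for every scheme T and every family of morphisms v_j : T ⟶ S_j compatible with the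
transition morphisms, there is exactly one morphism w : T ⟶ S' whose composite with each u_j is v_j. -/
theorem result {S : Scheme.{u}} {J : Type u} [SmallCategory J] [IsFiltered J]
    (A : J ⥤ RelSpec.QCAlg S) (c : Cocone A) (hc : IsColimit c)
    (T : Scheme.{u}) (v : ∀ j : J, T ⟶ (A.obj j).spec)
    (hv : ∀ (j j' : J) (φ : j ⟶ j'), v j' ≫ RelSpec.QCAlg.specMap (A.map φ) = v j) :
    ∃! w : T ⟶ c.pt.spec, ∀ j : J, w ≫ RelSpec.QCAlg.specMap (c.ι.app j) = v j := by
  obtain ⟨j₀⟩ : Nonempty J := IsFiltered.nonempty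
  let h : T ⟶ S := v j₀ ≫ (A.obj j₀).π
  have hh : ∀ j, v j ≫ (A.obj j).π = h := by
    intro j
    show _ = v j₀ ≫ (A.obj j₀).π
    rw [← hv j _ (IsFiltered.leftToMax j j₀), ← hv j₀ _ (IsFiltered.rightToMax j j₀), Category.assoc,
      Category.assoc, RelSpec.QCAlg.specMap_π, RelSpec.QCAlg.specMap_π]
  let Q := AffAlg.alg h
  have hQ : Q.IsSheaf := TopCat.Sheaf.pushforward_sheaf_of_sheaf _ T.sheaf.2
  haveI : ∀ B : RelSpec.QCAlg S, IsIso B.gammaMap := RLpsi8.isIso_gammaMap
  let Ω : ∀ j, (A.obj j).presheaf ⟶ Q := fun j => inv (A.obj j).gammaMap ≫ AffAlg.algHom (A.obj j).π h (v j) (hh j)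
  have hΩ : ∀ j k (φ : j ⟶ k), (A.map φ).hom ≫ Ω k = Ω j := by
    intro j k φ
    show _ ≫ inv (A.obj k).gammaMap ≫ _ = inv (A.obj j).gammaMap ≫ _
    rw [IsIso.eq_inv_comp, ← Category.assoc, ← algHom_specMap (A.map φ), Category.assoc, IsIso.hom_inv_id_assoc,
      ← RLpsi8.algHom_comp (A.obj j).π (A.obj k).π h (RelSpec.QCAlg.specMap (A.map φ))
        (RelSpec.QCAlg.specMap_π _) (v k) (hh k)]
    simp only [hv j k φ]
  obtain ⟨hd⟩ := isColimit_res A c hc _ rfl
  let dQ : Cocone (diag A) :=
    { pt := (GrothLib.RelSpec.aff S).op ⋙ Q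
      ι :=
        { app := fun j => res (Ω j)
          naturality := fun j k φ => by
            refine Eq.trans ?_ (Category.comp_id _).symm
            show res (A.map φ).hom ≫ res (Ω k) = _
            rw [← hΩ j k φ]
            rfl } }
  obtain ⟨U, hU⟩ := (res_bijective c.pt.presheaf Q hQ).2 (hd.desc dQ)
  let ιc : ∀ j, A.obj j ⟶ c.pt := fun j => c.ι.app j
  have hUι : ∀ j, (ιc j).hom ≫ U = Ω j := fun j => (res_bijective _ _ hQ).1 (by
    show res (ιc j).hom ≫ res U = res (Ω j)
    dsimp only at hU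
    rw [hU]
    exact hd.fac dQ j)
  have hωc : c.pt.π.c ≫ c.pt.gammaMap ≫ U = h.c := by
    rw [← Category.assoc, c.pt.π_c_gammaMap, ← (ιc j₀).comm]
    refine (Category.assoc _ _ _).trans ?_
    rw [hUι, ← (A.obj j₀).π_c_gammaMap, Category.assoc]
    simp only [Ω, IsIso.hom_inv_id_assoc]
    exact AffAlg.algHom_comm _ _ _ _
  obtain ⟨w, hw, hwω⟩ := GrothLib.AffAlg8.exists_hom c.pt.π h (c.pt.gammaMap ≫ U) hωc
  have key : ∀ (w' : T ⟶ c.pt.spec) (hw' : w' ≫ c.pt.π = h) (j : J),
      AffAlg.algHom (A.obj j).π h (w' ≫ RelSpec.QCAlg.specMap (ιc j))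
        (by rw [Category.assoc, RelSpec.QCAlg.specMap_π, hw']) =
      (A.obj j).gammaMap ≫ (ιc j).hom ≫ inv c.pt.gammaMap ≫ AffAlg.algHom c.pt.π h w' hw' := by
    intro w' hw' j
    rw [RLpsi8.algHom_comp (A.obj j).π c.pt.π h (RelSpec.QCAlg.specMap (ιc j))
      (RelSpec.QCAlg.specMap_π _) w' hw', ← Category.assoc (A.obj j).gammaMap, ← algHom_specMap (ιc j)]
    simp only [Category.assoc, IsIso.hom_inv_id_assoc]
  refine ⟨w, fun j => ?_, fun w' hw' => ?_⟩
  · refine GrothLib.AffAlg8.hom_ext (A.obj j).π h (by rw [Category.assoc, RelSpec.QCAlg.specMap_π, hw]) (hh j) ?_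
    rw [key w hw j, hwω, IsIso.inv_hom_id_assoc, hUι]
    simp [Ω]
  · have hw'π : w' ≫ c.pt.π = h := by
      rw [← RelSpec.QCAlg.specMap_π (ιc j₀), ← Category.assoc, hw' j₀]
    refine GrothLib.AffAlg8.hom_ext c.pt.π h hw'π hw ?_
    rw [hwω]
    rw [← IsIso.inv_comp_eq]
    refine (res_bijective _ _ hQ).1 ?_
    dsimp only
    dsimp only at hU
    rw [hU]
    refine hd.hom_ext fun j => ?_
    rw [hd.fac dQ j]
    show res ((ιc j).hom ≫ inv c.pt.gammaMap ≫ AffAlg.algHom c.pt.π h w' hw'π) = res (Ω j)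
    refine congrArg res ?_
    show (ιc j).hom ≫ inv c.pt.gammaMap ≫ AffAlg.algHom c.pt.π h w' hw'π = Ω j
    refine Eq.trans ?_ (show inv (A.obj j).gammaMap ≫ AffAlg.algHom (A.obj j).π h (v j) (hh j) = Ω j from rfl)
    refine (IsIso.eq_inv_comp (A.obj j).gammaMap).2 ?_
    refine (key w' hw'π j).symm.trans ?_
    congr 1
    exact hw' j

end Groth.Agent.S5876
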