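import Groth.Statements.S5887
import Groth.Agent.Lib.ConsLim.Props

set_option autoImplicit false
universe u
open CategoryTheory AlgebraicGeometry
open ConsProp

namespace Groth.Agent.S5887

/-- The property of an algebraic k-scheme X of being radicial over k (structure morphism universally
injective) is a constructible property of algebraic schemes. -/
theorem result :
    ConsProp.IsCons (fun Y T g => AlgebraicGeometry.UniversallyInjective g) := by
  exact GrothLib.ConsLim.isCons_universallyInjective

end Groth.Agent.S5887
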