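import Groth.Statements.S5891
import Groth.Agent.Lib.ConsLim.Main
import Groth.Agent.Lib.ConsLim.Limit

set_option autoImplicit false
universe u
open CategoryTheory AlgebraicGeometry
open ConsProp

namespace Groth.Agent.S5891

/-- Let S = lim S_i be a cofiltered limit of schemes with affine transition maps, i₀ an index with
S_{i₀} quasi-compact, g₀ : Y₀ ⟶ S_{i₀} and f₀ : X₀ ⟶ Y₀ morphisms with g₀ and f₀ ≫ g₀ of finite
presentation (locally of finite presentation, quasi-compact and quasi-separated), and f : X ⟶ Y over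
g : Y ⟶ S the base change of f₀ along S ⟶ S_{i₀} (pullback squares). Let P(f, X, Y, k) be an
ind-constructible property of morphisms of algebraic schemes. Then P holds for the morphism of
fibres f_s : X_s ⟶ Y_s over κ(s) for every point s of S if and only if there is an index j over i₀
such that, for the base change f_j : X_j ⟶ Y_j of f₀ along S_j ⟶ S_{i₀}, P holds for (f_j)_t for
every point t of S_j. -/
theorem result
    {P : ∀ ⦃X Y T : Scheme.{u}⦄, (X ⟶ Y) → (Y ⟶ T) → Prop} (hP : ConsProp.IsIndConsMor P)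
    {I : Type u} [SmallCategory I] [IsCofiltered I]
    (D : I ⥤ Scheme.{u}) (c : Limits.Cone D) (hc : Limits.IsLimit c)
    [∀ (i j : I) (a : i ⟶ j), IsAffineHom (D.map a)] (i₀ : I) [CompactSpace ↥(D.obj i₀)]
    {X₀ Y₀ : Scheme.{u}} (f₀ : X₀ ⟶ Y₀) (g₀ : Y₀ ⟶ D.obj i₀)
    [LocallyOfFinitePresentation g₀] [QuasiCompact g₀] [QuasiSeparated g₀]
    [LocallyOfFinitePresentation (f₀ ≫ g₀)] [QuasiCompact (f₀ ≫ g₀)] [QuasiSeparated (f₀ ≫ g₀)]
    {X Y : Scheme.{u}} (f : X ⟶ Y) (g : Y ⟶ c.pt) (qY : Y ⟶ Y₀) (qX : X ⟶ X₀)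
    (hY : IsPullback qY g g₀ (c.π.app i₀)) (hX : IsPullback qX f f₀ qY) :
    (∀ s : ↥c.pt, s ∈ ConsProp.locusMor P f g) ↔
      ∃ (j : I) (φ : j ⟶ i₀) (Xj Yj : Scheme.{u}) (fj : Xj ⟶ Yj) (gj : Yj ⟶ D.obj j)
        (pY : Yj ⟶ Y₀) (pX : Xj ⟶ X₀), IsPullback pY gj g₀ (D.map φ) ∧ IsPullback pX fj f₀ pY ∧
          ∀ t : ↥(D.obj j), t ∈ ConsProp.locusMor P fj gj := by
  refine ⟨fun h => ?_, ?_⟩
  · obtain ⟨j, φ, hj⟩ := GrothLib.ConsLim.exists_stage_forall_mem D c hc i₀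
      (GrothLib.ConsLim.isIndConstructible_locusMor hP f₀ g₀)
      (fun s => (GrothLib.ConsLim.mem_locusMor_iff hP.1 hY hX s).mp (h s))
    exact ⟨j, φ, _, _, Limits.pullback.snd f₀ (Limits.pullback.fst g₀ (D.map φ)),
      Limits.pullback.snd g₀ (D.map φ), Limits.pullback.fst g₀ (D.map φ), Limits.pullback.fst _ _,
      IsPullback.of_hasPullback _ _, IsPullback.of_hasPullback _ _, fun t =>
        (GrothLib.ConsLim.mem_locusMor_iff hP.1 (IsPullback.of_hasPullback _ _)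
          (IsPullback.of_hasPullback _ _) t).mpr (hj t)⟩
  · rintro ⟨j, φ, Xj, Yj, fj, gj, pY, pX, h1, h2, h3⟩ s
    refine (GrothLib.ConsLim.mem_locusMor_iff hP.1 hY hX s).mpr ?_
    rw [← c.w φ, Scheme.Hom.comp_apply]
    exact (GrothLib.ConsLim.mem_locusMor_iff hP.1 h1 h2 _).mp (h3 _)

end Groth.Agent.S5891
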