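import Groth.Statements.S5910
import Groth.Agent.Lib.Separ.Geom
import Groth.Agent.Lib.Separ.UnivFibre
import Groth.Agent.Lib.FlatFP.Kernel
import Groth.Agent.Lib.FlatFP.UnivInjRestrict


set_option autoImplicit false
set_option backward.isDefEq.respectTransparency false
set_option linter.style.haveILetI false
universe u
open CategoryTheory AlgebraicGeometry
open TensorProduct
open EGA43

namespace Groth.Agent.S5910

open CategoryTheory.Limits in
/-- Separating assertion: over an affine base and in the case Z_λ = X: let A be a commutative ring, p :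
X ⟶ Spec A an A-scheme, F a quasi-coherent O_X-module, (G_i) quasi-coherent O_X-modules flat over
Spec A and u_i : F ⟶ G_i homomorphisms. Let J be a nilpotent ideal of A all of whose successive
quotients J^k/J^{k+1} are free (A/J)-modules, and X₀ = X ×_{Spec A} Spec(A/J). If the family of
pullbacks of the u_i to X₀ is separating (a section of the pulled-back F over an open subset killed
by every member is zero), then (u_i) is separating. (The published statement has an arbitrary base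
S, a nilpotent quasi-coherent ideal of O_S whose successive quotients are locally free over O_S
modulo the ideal, homomorphisms into direct images (f_λ)_*G_λ, and the same assertion for
universally separating families; the assertion is local on S and on X, and this row is the case of
an affine base with free successive quotients and Z_λ = X.) -/
theorem result {X : Scheme.{u}} (A : CommRingCat.{u}) (p : X ⟶ Spec A)
    (J : Ideal ↑A) (hJ : IsNilpotent J) (hfree : ∀ k : ℕ, Module.Free (↑A ⧸ J) ((↑A ⧸ J) ⊗[↑A] ↥(J ^ k)))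
    (F : X.Modules) [Coh.IsQCoh F] {ι : Type u} (G : ι → X.Modules) [∀ i, Coh.IsQCoh (G i)]
    (hG : ∀ i, FlatMod.IsFlatOver p (G i)) (u : ∀ i, F ⟶ G i)
    (h0 : ∀ (V : (pullback p (Spec.map (CommRingCat.ofHom (Ideal.Quotient.mk J)))).Opens) (t : ↑(((Scheme.Modules.pullback (pullback.fst p (Spec.map (CommRingCat.ofHom (Ideal.Quotient.mk J))))).obj F).presheaf.obj (Opposite.op V))), (∀ i, (Scheme.Modules.Hom.mapPresheaf ((Scheme.Modules.pullback (pullback.fst p (Spec.map (CommRingCat.ofHom (Ideal.Quotient.mk J))))).map (u i))).app (Opposite.op V) t = 0) → t = 0) :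
    ∀ (V : (X).Opens) (t : ↑((F).presheaf.obj (Opposite.op V))), (∀ i, (Scheme.Modules.Hom.mapPresheaf (u i)).app (Opposite.op V) t = 0) → t = 0 := by
  haveI : F.IsQuasicoherent := ‹Coh.IsQCoh F›
  haveI : ∀ i, (G i).IsQuasicoherent := fun i => ‹∀ i, Coh.IsQCoh (G i)› i
  refine GrothLib.Separ.separated_of_basis u fun y O hy => ?_
  obtain ⟨U, hU, hyU, hUO⟩ := exists_isAffineOpen_mem_and_subset (x := y) (U := O) hy
  letI : Algebra A Γ(X, U) := ((Scheme.ΓSpecIso A).inv ≫ p.appLE ⊤ U le_top).hom.toAlgebra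
  letI : Module A Γ(F, U) := Module.compHom _ (algebraMap A Γ(X, U))
  haveI : IsScalarTower A Γ(X, U) Γ(F, U) := IsScalarTower.of_algebraMap_smul fun _ _ => rfl
  letI : ∀ i, Module A Γ(G i, U) := fun i => Module.compHom _ (algebraMap A Γ(X, U))
  haveI : ∀ i, IsScalarTower A Γ(X, U) Γ(G i, U) := fun i => IsScalarTower.of_algebraMap_smul fun _ _ => rfl
  letI : Algebra Γ(Spec A, ⊤) Γ(X, U) := (p.appLE ⊤ U le_top).hom.toAlgebra
  letI : ∀ i, Module Γ(Spec A, ⊤) Γ(G i, U) := fun i => Module.compHom _ (p.appLE ⊤ U le_top).hom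
  haveI : ∀ i, IsScalarTower Γ(Spec A, ⊤) Γ(X, U) Γ(G i, U) :=
    fun i => IsScalarTower.of_algebraMap_smul fun _ _ => rfl
  letI : Algebra A Γ(Spec A, ⊤) := (Scheme.ΓSpecIso A).inv.hom.toAlgebra
  have hN : ∀ i, Module.Flat A Γ(G i, U) := fun i => by
    haveI := GrothLib.FlatFP.flat_sections p (G i) (isAffineOpen_top _) hU le_top rfl fun x _ => hG i x
    haveI : IsScalarTower A Γ(Spec A, ⊤) Γ(G i, U) := IsScalarTower.of_algebraMap_smul fun _ _ => rfl
    haveI : Module.Flat A Γ(Spec A, ⊤) := RingHom.Flat.of_bijective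
      (f := (Scheme.ΓSpecIso A).inv.hom) (Scheme.ΓSpecIso A).commRingCatIsoToRingEquiv.symm.bijective
    exact Module.Flat.trans A Γ(Spec A, ⊤) _
  refine ⟨U, hyU, hUO, GrothLib.Separ.inj_of_isNilpotent _ hN J hJ hfree fun c hc => ?_⟩
  -- the sections over the preimage in the reduction
  let q := Spec.map (CommRingCat.ofHom (Ideal.Quotient.mk J))
  have eT : (⊤ : (Spec (CommRingCat.of (↑A ⧸ J))).Opens) ≤ q ⁻¹ᵁ (⊤ : (Spec A).Opens) := le_top
  letI : Algebra Γ(Spec A, ⊤) Γ(Spec (CommRingCat.of (↑A ⧸ J)), ⊤) := (q.appLE ⊤ ⊤ eT).hom.toAlgebra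
  have h1 := GrothLib.Separ.sepBC_of_square u (IsPullback.of_hasPullback p q) h0 (isAffineOpen_top _) hU
    (isAffineOpen_top _) le_top eT
  let eA := (Scheme.ΓSpecIso A).commRingCatIsoToRingEquiv
  let eQ := (Scheme.ΓSpecIso (CommRingCat.of (↑A ⧸ J))).commRingCatIsoToRingEquiv
  have hnat : ∀ a : Γ(Spec A, ⊤), eQ (algebraMap _ Γ(Spec (CommRingCat.of (↑A ⧸ J)), ⊤) a) =
      Ideal.Quotient.mk J (eA a) := fun a => by
    show (q.appLE ⊤ ⊤ eT ≫ (Scheme.ΓSpecIso _).hom).hom a = _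
    rw [show q.appLE ⊤ ⊤ eT = q.appTop by simp [Scheme.Hom.appLE], Scheme.ΓSpecIso_naturality]
    rfl
  haveI : IsScalarTower A Γ(Spec A, ⊤) Γ(X, U) := IsScalarTower.of_algebraMap_eq fun _ => rfl
  letI : Algebra A Γ(Spec (CommRingCat.of (↑A ⧸ J)), ⊤) :=
    ((algebraMap Γ(Spec A, ⊤) Γ(Spec (CommRingCat.of (↑A ⧸ J)), ⊤)).comp (algebraMap A Γ(Spec A, ⊤))).toAlgebra
  haveI : IsScalarTower A Γ(Spec A, ⊤) Γ(Spec (CommRingCat.of (↑A ⧸ J)), ⊤) :=
    IsScalarTower.of_algebraMap_eq fun _ => rfl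
  let σ : Γ(Spec (CommRingCat.of (↑A ⧸ J)), ⊤) ≃ₐ[A] ↑A ⧸ J :=
    AlgEquiv.ofRingEquiv (f := eQ) fun a => (hnat _).trans (congrArg (Ideal.Quotient.mk J) (eA.apply_symm_apply a))
  let π : Γ(X, U) ⊗[A] Γ(Spec (CommRingCat.of (↑A ⧸ J)), ⊤) →ₐ[Γ(X, U)]
      Γ(X, U) ⊗[Γ(Spec A, ⊤)] Γ(Spec (CommRingCat.of (↑A ⧸ J)), ⊤) :=
    Algebra.TensorProduct.lift Algebra.TensorProduct.includeLeft
      ((Algebra.TensorProduct.includeRight : Γ(Spec (CommRingCat.of (↑A ⧸ J)), ⊤) →ₐ[Γ(Spec A, ⊤)] _).restrictScalars A)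
      fun _ _ => .all _ _
  let gQ : Γ(Spec (CommRingCat.of (↑A ⧸ J)), ⊤) →ₐ[Γ(Spec A, ⊤)]
      Γ(X, U) ⊗[A] Γ(Spec (CommRingCat.of (↑A ⧸ J)), ⊤) :=
    { (Algebra.TensorProduct.includeRight : Γ(Spec (CommRingCat.of (↑A ⧸ J)), ⊤) →ₐ[A] _).toRingHom with
      commutes' := fun r => by
        obtain ⟨a, rfl⟩ := eA.symm.surjective r
        show (1 : Γ(X, U)) ⊗ₜ[A] algebraMap A Γ(Spec (CommRingCat.of (↑A ⧸ J)), ⊤) a =
          algebraMap A Γ(X, U) a ⊗ₜ[A] (1 : Γ(Spec (CommRingCat.of (↑A ⧸ J)), ⊤))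
        rw [Algebra.algebraMap_eq_smul_one, Algebra.algebraMap_eq_smul_one, TensorProduct.smul_tmul] }
  let back := Algebra.TensorProduct.lift
    (Algebra.TensorProduct.includeLeft : Γ(X, U) →ₐ[Γ(X, U)] Γ(X, U) ⊗[A] Γ(Spec (CommRingCat.of (↑A ⧸ J)), ⊤))
    gQ fun _ _ => .all _ _
  let e : Γ(X, U) ⊗[Γ(Spec A, ⊤)] Γ(Spec (CommRingCat.of (↑A ⧸ J)), ⊤) ≃ₐ[Γ(X, U)] Γ(X, U) ⊗[A] (↑A ⧸ J) :=
    (AlgEquiv.ofAlgHom back π (Algebra.TensorProduct.ext (AlgHom.ext fun b => by simp [π, back, gQ])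
      (AlgHom.ext fun t => by simp [π, back, gQ]))
      (Algebra.TensorProduct.ext (AlgHom.ext fun b => by simp [π, back, gQ])
      (AlgHom.ext fun t => by simp [π, back, gQ]))).trans
      (Algebra.TensorProduct.congr (S := Γ(X, U)) AlgEquiv.refl σ)
  have h2 := (GrothLib.Separ.Sep.baseChange_congr _ e h1)
  let Ψ : ∀ (V : Type _) [AddCommGroup V] [Module Γ(X, U) V] [Module A V] [IsScalarTower A Γ(X, U) V],
      (Γ(X, U) ⊗[A] (↑A ⧸ J)) ⊗[Γ(X, U)] V ≃ₗ[Γ(X, U)] V ⊗[A] (↑A ⧸ J) := fun V _ _ _ _ =>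
    TensorProduct.comm _ _ _ ≪≫ₗ TensorProduct.AlgebraTensorModule.cancelBaseChange A Γ(X, U) Γ(X, U) V _
  have hΨ : ∀ i x, Ψ Γ(G i, U) ((GrothLib.QCoh.appLinear (u i) U).baseChange _ x) =
      TensorProduct.AlgebraTensorModule.rTensor A (↑A ⧸ J) (GrothLib.QCoh.appLinear (u i) U) (Ψ Γ(F, U) x) :=
    fun i x => by
    induction x using TensorProduct.induction_on with
    | zero => simp
    | add a b ha hb => simp only [map_add, ha, hb]
    | tmul d m =>
      induction d using TensorProduct.induction_on with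
      | zero => simp
      | add a b ha hb => simp only [TensorProduct.add_tmul, map_add, ha, hb]
      | tmul b t => simp [Ψ]
  obtain ⟨d, rfl⟩ := (Ψ Γ(F, U)).surjective c
  rw [GrothLib.Separ.Sep.eq_zero h2 (x := d) fun i => (Ψ Γ(G i, U)).injective (by rw [hΨ, map_zero]; exact hc i),
    map_zero]

end Groth.Agent.S5910
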