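import Groth.Statements.S5913
import Mathlib
import Groth.Agent.S3431

set_option autoImplicit false
universe u
open CategoryTheory AlgebraicGeometry
open EGA43

namespace Groth.Agent.S5913
set_option linter.style.haveILetI false

/-- In the locally Noetherian form: a locally Noetherian scheme X is Jacobson if and only if it has no
subscheme isomorphic to the spectrum of a semi-local integral domain of dimension 1, i.e. there is
no immersion Spec R ⟶ X with R an integral domain having finitely many maximal ideals and Krull
dimension 1. -/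
theorem result (X : Scheme.{u}) [IsLocallyNoetherian X] :
    JacobsonSpace X ↔
      ∀ (R : CommRingCat.{u}) [IsDomain R] (i : Spec R ⟶ X) [IsImmersion i],
        ¬ (Finite (MaximalSpectrum R) ∧ ringKrullDim R = 1) := by
  constructor
  · intro hJ R _ i _ hR
    haveI : IsLocallyNoetherian (Spec R) := LocallyOfFiniteType.isLocallyNoetherian i
    haveI : IsNoetherianRing Γ(Spec R, ⊤) := IsLocallyNoetherian.component_noetherian ⟨⊤, isAffineOpen_top _⟩
    haveI : IsNoetherianRing R := isNoetherianRing_of_ringEquiv Γ(Spec R, ⊤)
      (Scheme.ΓSpecIso R).commRingCatIsoToRingEquiv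
    haveI : JacobsonSpace i.coborderRange := JacobsonSpace.of_isOpenEmbedding i.coborderRange.ι.isOpenEmbedding
    haveI : JacobsonSpace (Spec R) := JacobsonSpace.of_isClosedEmbedding i.liftCoborder.isClosedEmbedding
    haveI hRJ : IsJacobsonRing R := PrimeSpectrum.isJacobsonRing_iff_jacobsonSpace.2 ‹JacobsonSpace (Spec R)›
    haveI : (⊥ : Ideal R).IsPrime := Ideal.bot_prime
    refine (Groth.Agent.S3431.result R).1 hRJ ⊥ ⟨?_, ?_⟩
    · haveI := hR.1
      exact Finite.of_injective (fun m : MaximalSpectrum (R ⧸ (⊥ : Ideal R)) =>
        (⟨m.asIdeal.comap (Ideal.Quotient.mk _),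
          haveI := m.isMaximal; Ideal.comap_isMaximal_of_surjective _ Ideal.Quotient.mk_surjective⟩ : MaximalSpectrum R))
        fun a b h => MaximalSpectrum.ext
          (Ideal.comap_injective_of_surjective _ Ideal.Quotient.mk_surjective (congrArg MaximalSpectrum.asIdeal h))
    · rw [ringKrullDim_eq_of_ringEquiv (RingEquiv.quotientBot R)]
      exact hR.2
  · intro h
    have hU : ∀ U : X.affineOpens, JacobsonSpace (U : X.Opens) := fun U => by
      haveI : IsNoetherianRing Γ(X, (U : X.Opens)) := IsLocallyNoetherian.component_noetherian U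
      haveI hJ : IsJacobsonRing Γ(X, (U : X.Opens)) := (Groth.Agent.S3431.result _).2 fun p _ hp => by
        haveI : IsClosedImmersion (Spec.map (CommRingCat.ofHom (Ideal.Quotient.mk p))) :=
          IsClosedImmersion.spec_of_surjective _ Ideal.Quotient.mk_surjective
        haveI : IsOpenImmersion U.2.fromSpec := U.2.isOpenImmersion_fromSpec
        exact h (CommRingCat.of (Γ(X, (U : X.Opens)) ⧸ p))
          (Spec.map (CommRingCat.ofHom (Ideal.Quotient.mk p)) ≫ U.2.fromSpec) hp
      haveI : JacobsonSpace (Spec Γ(X, (U : X.Opens))) := PrimeSpectrum.isJacobsonRing_iff_jacobsonSpace.1 hJ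
      exact JacobsonSpace.of_isClosedEmbedding U.2.isoSpec.hom.homeomorph.isClosedEmbedding
    rw [(show TopologicalSpace.IsOpenCover (fun U : X.affineOpens => (U : X.Opens)) from
      iSup_affineOpens_eq_top X).jacobsonSpace_iff]
    exact hU

end Groth.Agent.S5913
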