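import Groth.Statements.S5914
import Groth.Agent.Lib.FibPd.ConstrScheme
-- import your own Groth.Agent.* helpers here

set_option autoImplicit false
universe u
open CategoryTheory AlgebraicGeometry
open EGA43

namespace Groth.Agent.S5914

/-- Let f : X ⟶ S be locally of finite presentation and F a quasi-coherent O_X-module of finite
presentation. For x in X with s = f x write F_s for the pullback of F to the fibre X_s and
prof*_x(F_s) = prof((F_s)_x) + dim cl_{X_s}{x} for its rectified depth at x (depth of the stalk of
F_s at x over the local ring of the fibre, which is +∞ for the zero stalk, plus the Krull dimension
of the closure of x in the fibre). Then the function x ↦ prof*_x(F_{f(x)}) is locally constructible: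
for every n in ℕ∞ the set of x with prof*_x(F_{f(x)}) = n is a locally constructible subset of X.
(The published statement calls the function constructible and takes its hypotheses from a
neighbouring result stated without a module; the hypotheses here, f locally of finite presentation
and F quasi-coherent of finite presentation, are the ones its proof uses, and local constructibility
of the level sets is what that proof establishes.) -/
theorem result {X S : Scheme.{u}} (f : X ⟶ S) [LocallyOfFinitePresentation f]
    (F : X.Modules) [Coh.IsQCoh F] (hF : CohB1.IsFP F) (n : ℕ∞) :
    Topology.IsLocallyConstructible {x : X |
      ((CInt.fiberDepth f F x : ℕ∞) : WithBot ℕ∞) +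
          topologicalKrullDim ↥(closure ({f.asFiber x} : Set ↥(f.fiber (f.base x)))) = ((n : ℕ∞) : WithBot ℕ∞)} := by
  exact GrothLib.FibPd.isLocallyConstructible_rectifiedDepth_eq f F hF n

end Groth.Agent.S5914
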