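import Groth.Statements.S5916
import Groth.Agent.Lib.Separ.Geom
import Groth.Agent.Lib.Separ.UnivFibre
import Groth.Agent.Lib.FlatFP.Kernel
import Groth.Agent.Lib.FlatFP.UnivInjRestrict


set_option autoImplicit false
set_option backward.isDefEq.respectTransparency false
set_option linter.style.haveILetI false
universe u
open CategoryTheory AlgebraicGeometry
open EGA43

namespace Groth.Agent.S5916

open CategoryTheory.Limits in
/-- Case Z_λ = X: let A be a commutative ring, p : X ⟶ Spec A an A-scheme, F a quasi-coherent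
O_X-module, (G_i) quasi-coherent O_X-modules flat over Spec A and u_i : F ⟶ G_i a separating family
of homomorphisms (a section of F over an open subset killed by every u_i is zero). Let φ : A ⟶ A' be
a ring homomorphism. If for every factorisation A ⟶ B ⟶ A' of φ with A ⟶ B of finite type and B ⟶ A'
injective (every finitely generated sub-A-algebra B of A') the family pulled back to X ×_{Spec A}
Spec B is separating, then the family pulled back to X ×_{Spec A} Spec A' is separating. (The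
published statement allows homomorphisms into direct images (f_λ)_*G_λ of modules G_λ flat over the
base; this row is the case Z_λ = X.) -/
theorem result {X : Scheme.{u}} (A A' : CommRingCat.{u}) (φ : A ⟶ A')
    (p : X ⟶ Spec A) (F : X.Modules) [Coh.IsQCoh F] {ι : Type u} (G : ι → X.Modules) [∀ i, Coh.IsQCoh (G i)]
    (hG : ∀ i, FlatMod.IsFlatOver p (G i)) (u : ∀ i, F ⟶ G i)
    (h : ∀ (V : (X).Opens) (t : ↑((F).presheaf.obj (Opposite.op V))), (∀ i, (Scheme.Modules.Hom.mapPresheaf (u i)).app (Opposite.op V) t = 0) → t = 0)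
    (hfg : ∀ (B : CommRingCat.{u}) (a : A ⟶ B) (b : B ⟶ A'), a ≫ b = φ → Function.Injective b.hom → a.hom.FiniteType →
      ∀ (V : (pullback p (Spec.map a)).Opens) (t : ↑(((Scheme.Modules.pullback (pullback.fst p (Spec.map a))).obj F).presheaf.obj (Opposite.op V))), (∀ i, (Scheme.Modules.Hom.mapPresheaf ((Scheme.Modules.pullback (pullback.fst p (Spec.map a))).map (u i))).app (Opposite.op V) t = 0) → t = 0) :
    ∀ (V : (pullback p (Spec.map φ)).Opens) (t : ↑(((Scheme.Modules.pullback (pullback.fst p (Spec.map φ))).obj F).presheaf.obj (Opposite.op V))), (∀ i, (Scheme.Modules.Hom.mapPresheaf ((Scheme.Modules.pullback (pullback.fst p (Spec.map φ))).map (u i))).app (Opposite.op V) t = 0) → t = 0 := by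
  haveI : F.IsQuasicoherent := ‹Coh.IsQCoh F›
  haveI : ∀ i, (G i).IsQuasicoherent := fun i => ‹∀ i, Coh.IsQCoh (G i)› i
  refine GrothLib.Separ.separated_of_basis _ fun y O hy => ?_
  obtain ⟨U, hU, hyU, -⟩ := exists_isAffineOpen_mem_and_subset (x := pullback.fst p (Spec.map φ) y) (U := ⊤) trivial
  let P := pullback.fst p (Spec.map φ) ⁻¹ᵁ U ⊓ pullback.snd p (Spec.map φ) ⁻¹ᵁ (⊤ : (Spec A').Opens)
  have eU : U ≤ p ⁻¹ᵁ (⊤ : (Spec A).Opens) := le_top
  have eW : (⊤ : (Spec A').Opens) ≤ Spec.map φ ⁻¹ᵁ (⊤ : (Spec A).Opens) := le_top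
  have sq := IsPullback.of_hasPullback p (Spec.map φ)
  have hP : IsAffineOpen P := GrothLib.FlatLimit.isAffineOpen_square sq eW eU (isAffineOpen_top _) (isAffineOpen_top _) hU
  obtain ⟨h', hhO, hyh⟩ := hP.exists_basicOpen_le (⟨y, hy⟩ : O) ⟨hyU, trivial⟩
  letI : Algebra Γ(Spec A, ⊤) Γ(X, U) := (p.appLE ⊤ U eU).hom.toAlgebra
  letI : Module Γ(Spec A, ⊤) Γ(F, U) := Module.compHom _ (p.appLE ⊤ U eU).hom
  haveI : IsScalarTower Γ(Spec A, ⊤) Γ(X, U) Γ(F, U) := IsScalarTower.of_algebraMap_smul fun _ _ => rfl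
  letI : ∀ i, Module Γ(Spec A, ⊤) Γ(G i, U) := fun i => Module.compHom _ (p.appLE ⊤ U eU).hom
  haveI : ∀ i, IsScalarTower Γ(Spec A, ⊤) Γ(X, U) Γ(G i, U) :=
    fun i => IsScalarTower.of_algebraMap_smul fun _ _ => rfl
  letI : Algebra Γ(Spec A, ⊤) Γ(Spec A', ⊤) := ((Spec.map φ).appLE ⊤ ⊤ eW).hom.toAlgebra
  have hN : ∀ i, Module.Flat Γ(Spec A, ⊤) Γ(G i, U) :=
    fun i => GrothLib.FlatFP.flat_sections p (G i) (isAffineOpen_top _) hU eU rfl fun x _ => hG i x
  have hsep := GrothLib.Separ.sep_baseChange_of_forall_fg (ψ := fun i => GrothLib.QCoh.appLinear (u i) U) hN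
    Γ(Spec A', ⊤) fun R₀ hR₀ => by
      let eA := (Scheme.ΓSpecIso A).commRingCatIsoToRingEquiv
      let eA' := (Scheme.ΓSpecIso A').commRingCatIsoToRingEquiv
      let B₀ : CommRingCat := CommRingCat.of R₀
      let a : A ⟶ B₀ := (Scheme.ΓSpecIso A).inv ≫ CommRingCat.ofHom (algebraMap Γ(Spec A, ⊤) R₀)
      let b : B₀ ⟶ A' := CommRingCat.ofHom R₀.val.toRingHom ≫ (Scheme.ΓSpecIso A').hom
      have hab : a ≫ b = φ := by
        rw [← Category.assoc, Category.assoc (Scheme.ΓSpecIso A).inv, ← CommRingCat.ofHom_comp,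
          show R₀.val.toRingHom.comp (algebraMap Γ(Spec A, ⊤) R₀) = ((Spec.map φ).appLE ⊤ ⊤ eW).hom from rfl,
          CommRingCat.ofHom_hom, Category.assoc]
        rw [show (Spec.map φ).appLE ⊤ ⊤ eW = (Spec.map φ).appTop by simp [Scheme.Hom.appLE],
          Scheme.ΓSpecIso_naturality φ, Iso.inv_hom_id_assoc]
      have hfin : a.hom.FiniteType := by
        refine RingHom.FiniteType.comp (g := algebraMap Γ(Spec A, ⊤) R₀)
          ((RingHom.finiteType_algebraMap).mpr ((Subalgebra.fg_iff_finiteType R₀).mp hR₀)) ?_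
        exact RingHom.FiniteType.of_surjective _ eA.symm.surjective
      have h1 := hfg B₀ a b hab (fun x z hxz => Subtype.ext (eA'.injective hxz)) hfin
      have eW₀ : (⊤ : (Spec B₀).Opens) ≤ Spec.map a ⁻¹ᵁ (⊤ : (Spec A).Opens) := le_top
      letI : Algebra Γ(Spec A, ⊤) Γ(Spec B₀, ⊤) := ((Spec.map a).appLE ⊤ ⊤ eW₀).hom.toAlgebra
      have h2 := GrothLib.Separ.sepBC_of_square u (IsPullback.of_hasPullback p (Spec.map a)) h1
        (isAffineOpen_top _) hU (isAffineOpen_top _) eU eW₀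
      let σ : Γ(Spec B₀, ⊤) ≃ₐ[Γ(Spec A, ⊤)] R₀ :=
        AlgEquiv.ofRingEquiv (f := (Scheme.ΓSpecIso B₀).commRingCatIsoToRingEquiv) fun x => by
          show ((Spec.map a).appLE ⊤ ⊤ eW₀ ≫ (Scheme.ΓSpecIso B₀).hom).hom x = _
          rw [show (Spec.map a).appLE ⊤ ⊤ eW₀ = (Spec.map a).appTop by simp [Scheme.Hom.appLE],
            Scheme.ΓSpecIso_naturality, show a = (Scheme.ΓSpecIso A).inv ≫ CommRingCat.ofHom (algebraMap Γ(Spec A, ⊤) R₀) from rfl,
            Iso.hom_inv_id_assoc]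
          rfl
      exact GrothLib.Separ.Sep.baseChange_congr _
        (Algebra.TensorProduct.congr (S := Γ(X, U)) AlgEquiv.refl σ) h2
  letI : Algebra Γ(X, U) Γ(pullback p (Spec.map φ), P) :=
    ((pullback.fst p (Spec.map φ)).appLE U P inf_le_left).hom.toAlgebra
  letI : Algebra Γ(Spec A', ⊤) Γ(pullback p (Spec.map φ), P) :=
    ((pullback.snd p (Spec.map φ)).appLE ⊤ P inf_le_right).hom.toAlgebra
  letI : Algebra Γ(Spec A, ⊤) Γ(pullback p (Spec.map φ), P) :=
    (((pullback.fst p (Spec.map φ)).appLE U P inf_le_left).hom.comp (p.appLE ⊤ U eU).hom).toAlgebra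
  haveI : IsScalarTower Γ(Spec A, ⊤) Γ(X, U) Γ(pullback p (Spec.map φ), P) :=
    IsScalarTower.of_algebraMap_eq fun _ => rfl
  haveI : IsScalarTower Γ(Spec A, ⊤) Γ(Spec A', ⊤) Γ(pullback p (Spec.map φ), P) :=
    IsScalarTower.of_algebraMap_eq fun x => by
      show (p.appLE ⊤ U eU ≫ (pullback.fst p (Spec.map φ)).appLE U P inf_le_left).hom x =
        ((Spec.map φ).appLE ⊤ ⊤ eW ≫ (pullback.snd p (Spec.map φ)).appLE ⊤ P inf_le_right).hom x
      rw [Scheme.Hom.appLE_comp_appLE, Scheme.Hom.appLE_comp_appLE]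
      simp only [sq.w]
  haveI : Algebra.IsPushout Γ(Spec A, ⊤) Γ(Spec A', ⊤) Γ(X, U) Γ(pullback p (Spec.map φ), P) :=
    GrothLib.FlatLimit.isPushout_square sq eW eU (isAffineOpen_top _) (isAffineOpen_top _) hU rfl rfl rfl rfl
  haveI : Algebra.IsPushout Γ(Spec A, ⊤) Γ(X, U) Γ(Spec A', ⊤) Γ(pullback p (Spec.map φ), P) :=
    Algebra.IsPushout.symm inferInstance
  have hP' : GrothLib.Separ.SepBC (fun i => GrothLib.QCoh.appLinear (u i) U) Γ(pullback p (Spec.map φ), P) :=
    GrothLib.Separ.Sep.baseChange_congr _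
      (Algebra.IsPushout.equiv Γ(Spec A, ⊤) Γ(X, U) Γ(Spec A', ⊤) Γ(pullback p (Spec.map φ), P)) hsep
  let D := (pullback p (Spec.map φ)).basicOpen h'
  have hDP : D ≤ P := (pullback p (Spec.map φ)).basicOpen_le h'
  letI : Algebra Γ(pullback p (Spec.map φ), P) Γ(pullback p (Spec.map φ), D) :=
    ((pullback p (Spec.map φ)).presheaf.map (homOfLE hDP).op).hom.toAlgebra
  haveI : IsLocalization.Away h' Γ(pullback p (Spec.map φ), D) := hP.isLocalization_basicOpen h'
  letI : Algebra Γ(X, U) Γ(pullback p (Spec.map φ), D) :=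
    ((pullback.fst p (Spec.map φ)).appLE U D (hDP.trans inf_le_left)).hom.toAlgebra
  haveI : IsScalarTower Γ(X, U) Γ(pullback p (Spec.map φ), P) Γ(pullback p (Spec.map φ), D) :=
    IsScalarTower.of_algebraMap_eq fun x => by
      show ((pullback.fst p (Spec.map φ)).appLE U D _).hom x =
        ((pullback.fst p (Spec.map φ)).appLE U P inf_le_left ≫
          (pullback p (Spec.map φ)).presheaf.map (homOfLE hDP).op).hom x
      rw [Scheme.Hom.appLE_map]
  exact ⟨D, hyh, hhO, GrothLib.Separ.inj_pullback_sections u _ hU (hP.basicOpen h') _ rfl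
    (hP'.inj_localization _ h' _)⟩

end Groth.Agent.S5916
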