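import Groth.Statements.S5917
import Groth.Agent.Lib.TopEquiv5.Basic

set_option autoImplicit false
universe u
open CategoryTheory
open EGA43

namespace Groth.Agent.S5917

set_option linter.style.haveILetI false

/-- (a) ⇔ (c): for a continuous map f : X₀ ⟶ X of topological spaces the following are equivalent: U ↦
f⁻¹(U) is a bijection from the open subsets of X onto those of X₀ (that is, f is a
quasi-homeomorphism); the inverse image functor f^* from sheaves of sets on X to sheaves of sets on
X₀ is an equivalence of categories; the inverse image functor f^* from sheaves of abelian groups on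
X to sheaves of abelian groups on X₀ is an equivalence of categories. (Sheaves are taken with values
in sets, resp. abelian groups, of the universe of the two spaces.) -/
theorem result (X₀ X : TopCat.{u}) (f : X₀ ⟶ X) :
    [Function.Bijective (fun U : TopologicalSpace.Opens X => (TopologicalSpace.Opens.map f).obj U),
      (TopCat.Sheaf.pullback (Type u) f).IsEquivalence,
      (TopCat.Sheaf.pullback AddCommGrpCat.{u} f).IsEquivalence].TFAE := by
  tfae_have 1 → 2 := fun h => by
    haveI := GrothLib.TopEquiv5.isEquivalence_pushforward f h (Type u)
    exact (TopCat.Sheaf.pullbackPushforwardAdjunction (Type u) f).isEquivalence_left_of_isEquivalence_right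
  tfae_have 1 → 3 := fun h => by
    haveI := GrothLib.TopEquiv5.isEquivalence_pushforward f h AddCommGrpCat.{u}
    exact (TopCat.Sheaf.pullbackPushforwardAdjunction AddCommGrpCat.{u} f).isEquivalence_left_of_isEquivalence_right
  tfae_have 2 → 1 := fun h => by
    haveI := h
    haveI := (TopCat.Sheaf.pullbackPushforwardAdjunction (Type u) f).isEquivalence_right_of_isEquivalence_left
    refine ⟨GrothLib.TopEquiv5.injective_preimage f (ULift.{u} Bool) ?_,
      GrothLib.TopEquiv5.surjective_preimage f (GrothLib.TopEquiv5.test_type f)⟩
    rintro ⟨t⟩
    have := CategoryTheory.Limits.IsTerminal.hom_ext t (TypeCat.ofHom fun _ : PUnit.{u+1} => (ULift.up true : ULift.{u} Bool))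
      (TypeCat.ofHom fun _ => ULift.up false)
    exact Bool.false_ne_true (congrArg ULift.down (CategoryTheory.ConcreteCategory.congr_hom this PUnit.unit)).symm
  tfae_have 3 → 1 := fun h => by
    haveI := h
    haveI := (TopCat.Sheaf.pullbackPushforwardAdjunction AddCommGrpCat.{u} f).isEquivalence_right_of_isEquivalence_left
    refine ⟨GrothLib.TopEquiv5.injective_preimage f (AddCommGrpCat.of (ULift.{u} (ZMod 2))) ?_,
      GrothLib.TopEquiv5.surjective_preimage f (GrothLib.TopEquiv5.test_ab f)⟩
    rintro ⟨t⟩
    have := CategoryTheory.Limits.IsTerminal.hom_ext t (CategoryTheory.CategoryStruct.id _)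
      (0 : AddCommGrpCat.of (ULift.{u} (ZMod 2)) ⟶ AddCommGrpCat.of (ULift.{u} (ZMod 2)))
    exact zero_ne_one (congrArg ULift.down (CategoryTheory.ConcreteCategory.congr_hom this (ULift.up 1))).symm
  tfae_finish

end Groth.Agent.S5917
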