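import Groth.Statements.S5924

set_option autoImplicit false
open CategoryTheory AlgebraicGeometry
universe u
open EGA43

namespace Groth.Agent.S5924

/-- Let Y be an irreducible locally Noetherian scheme, f : X ⟶ Y a morphism locally of finite type which
is equidimensional at the point x, and suppose that x is not a maximal point of its fibre f⁻¹(f x),
i.e. some point of the fibre other than x specializes to x. Then there exist an affine open
neighbourhood U of x and a section g of O_X over U such that g vanishes at x (x is not in the basic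
open set of g) while every maximal point of f⁻¹(f x) lying in U is in the basic open set of g. -/
theorem result {X Y : Scheme.{u}} [IrreducibleSpace Y]
    [IsLocallyNoetherian Y] (f : X ⟶ Y) [LocallyOfFiniteType f] (x : X) (hf : EGA43.IsEquidimAt f x)
    (hx : ∃ x' : X, f.base x' = f.base x ∧ x' ≠ x ∧ x ∈ closure ({x'} : Set X)) :
    ∃ U : X.Opens, IsAffineOpen U ∧ x ∈ U ∧ ∃ g : Γ(X, U), x ∉ X.basicOpen g ∧
      ∀ z : X, f.base z = f.base x → (∀ z' : X, f.base z' = f.base x → z ∈ closure ({z'} : Set X) → z' = z) →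
        z ∈ U → z ∈ X.basicOpen g := by
  haveI : IsLocallyNoetherian X := LocallyOfFiniteType.isLocallyNoetherian f
  obtain ⟨_, ⟨U, hU : IsAffineOpen U, rfl⟩, hxU : x ∈ U, -⟩ :=
    X.isBasis_affineOpens.exists_subset_of_mem_open (Set.mem_univ x) isOpen_univ
  haveI : IsNoetherianRing Γ(X, U) := IsLocallyNoetherian.component_noetherian ⟨U, hU⟩
  set T : Set (PrimeSpectrum Γ(X, U)) :=
    (fun p => f.base (hU.fromSpec p)) ⁻¹' closure {f.base x} with hT
  have hTcl : IsClosed T := isClosed_closure.preimage (f.base.hom.continuous.comp hU.fromSpec.continuous)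
  set M : Set (PrimeSpectrum Γ(X, U)) := {p | f.base (hU.fromSpec p) = f.base x ∧
    ∀ z' : X, f.base z' = f.base x → hU.fromSpec p ∈ closure ({z'} : Set X) → z' = hU.fromSpec p} with hM
  have hMmin : ∀ p ∈ M, p.asIdeal ∈ (PrimeSpectrum.vanishingIdeal T).minimalPrimes := by
    rintro p ⟨hp1, hp2⟩
    refine ⟨⟨p.isPrime, (PrimeSpectrum.subset_zeroLocus_iff_le_vanishingIdeal {p} _).1 ?_ |>.trans
      (le_of_eq (PrimeSpectrum.vanishingIdeal_singleton p))⟩, ?_⟩
    · rw [PrimeSpectrum.zeroLocus_vanishingIdeal_eq_closure, hTcl.closure_eq, Set.singleton_subset_iff]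
      show f.base (hU.fromSpec p) ∈ closure {f.base x}
      rw [hp1]
      exact subset_closure rfl
    · rintro q ⟨hq, hTq⟩ hqp
      let q' : PrimeSpectrum Γ(X, U) := ⟨q, hq⟩
      have hq' : q' ∈ T := by
        rw [← hTcl.closure_eq, ← PrimeSpectrum.zeroLocus_vanishingIdeal_eq_closure]
        exact hTq
      have hs : hU.fromSpec q' ⤳ hU.fromSpec p :=
        ((PrimeSpectrum.le_iff_specializes q' p).1 hqp).map hU.fromSpec.continuous
      have h1 : f.base (hU.fromSpec q') ⤳ f.base x := hp1 ▸ hs.map f.base.hom.continuous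
      have h2 : f.base x ⤳ f.base (hU.fromSpec q') := specializes_iff_mem_closure.2 hq'
      have h3 := hp2 _ (h1.antisymm h2).eq (specializes_iff_mem_closure.1 hs)
      have h4 : q' = p := hU.fromSpec.isOpenEmbedding.injective h3
      exact le_of_eq (congrArg PrimeSpectrum.asIdeal h4).symm
  have hfin : M.Finite := by
    refine Set.Finite.of_finite_image ((Ideal.finite_minimalPrimes_of_isNoetherianRing _
      (PrimeSpectrum.vanishingIdeal T)).subset ?_) (fun a _ b _ h => PrimeSpectrum.ext h)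
    rintro _ ⟨p, hp, rfl⟩
    exact hMmin p hp
  set px := hU.primeIdealOf ⟨x, hxU⟩ with hpx
  have hfpx : hU.fromSpec px = x := hU.fromSpec_primeIdealOf _
  obtain ⟨g, hg, hg'⟩ : ∃ g, g ∈ px.asIdeal ∧ ∀ p ∈ M, g ∉ p.asIdeal := by
    by_contra hcon
    push_neg at hcon
    have hsub : (px.asIdeal : Set Γ(X, U)) ⊆ ⋃ i ∈ (hfin.toFinset : Set (PrimeSpectrum Γ(X, U))),
        (i.asIdeal : Set Γ(X, U)) := fun g hg => by
      obtain ⟨p, hp, hgp⟩ := hcon g hg
      simp only [Set.mem_iUnion]
      exact ⟨p, by simpa using hp, hgp⟩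
    obtain ⟨p, hp, hle⟩ := (Ideal.subset_union_prime px px (fun i _ _ _ => i.isPrime)).1 hsub
    have hpM : p ∈ M := hfin.mem_toFinset.1 hp
    have hxp : hU.fromSpec p ∈ closure ({x} : Set X) := by
      have := specializes_iff_mem_closure.1
        (((PrimeSpectrum.le_iff_specializes px p).1 hle).map hU.fromSpec.continuous)
      rwa [hfpx] at this
    obtain ⟨x', hx'f, hx'ne, hx'x⟩ := hx
    have h1 : x = hU.fromSpec p := hpM.2 x rfl hxp
    exact hx'ne ((hpM.2 x' hx'f (h1 ▸ hx'x)).trans h1.symm)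
  have key : ∀ p, hU.fromSpec p ∈ X.basicOpen g ↔ g ∉ p.asIdeal := fun p => by
    rw [← PrimeSpectrum.mem_basicOpen, ← hU.fromSpec_preimage_basicOpen]
    rfl
  refine ⟨U, hU, hxU, g, ?_, fun z hz1 hz2 hzU => ?_⟩
  · rw [← hfpx, key]
    exact not_not_intro hg
  · have hz : hU.fromSpec (hU.primeIdealOf ⟨z, hzU⟩) = z := hU.fromSpec_primeIdealOf ⟨z, hzU⟩
    rw [← hz, key]
    refine hg' _ ⟨by rw [hz]; exact hz1, ?_⟩
    rw [hz]
    exact hz2

end Groth.Agent.S5924
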