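import Groth.Statements.S5926
import Groth.Agent.Lib.Chev28.FlatUniv
import Groth.Agent.Lib.Chev28.SectCompOpen
import Groth.Agent.Lib.Chev28.SectComp

set_option autoImplicit false
open CategoryTheory AlgebraicGeometry
universe u
open EGA43

namespace Groth.Agent.S5926

/-- Let Y be a reduced locally Noetherian scheme, f : X ⟶ Y a morphism locally of finite type with a
section g : Y ⟶ X, X_y^0 the connected component of f⁻¹(y) containing g y, and suppose every X_y^0
is geometrically irreducible over κ(y) (its preimage in the base change of X_y to any field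
extension K of κ(y) is irreducible). Let x₀ be a point of X lying in X_{y₀}^0, y₀ = f x₀. If y ↦ dim
X_y^0 is constant on a neighbourhood of y₀ and the fibre f⁻¹(y₀) is geometrically reduced at x₀,
then f is flat at x₀. -/
theorem result {X Y : Scheme.{u}} [IsLocallyNoetherian Y]
    [IsReduced Y] (f : X ⟶ Y) [LocallyOfFiniteType f] (g : Y ⟶ X) (hg : g ≫ f = 𝟙 Y)
    (hirr : ∀ y : Y, (∀ (K : Type u) [Field K] [Algebra (IsLocalRing.ResidueField (Y.presheaf.stalk y)) K],
        IsIrreducible ((FBase.bcπ (f.fiberToSpecResidueField y) K ≫ f.fiberι y).base ⁻¹' connectedComponentIn (f.base ⁻¹' {y}) (g.base y))))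
    (x₀ : X) (hx₀ : x₀ ∈ MoreMor.sectionComponents f g)
    (hconst : (∃ V ∈ nhds (f.base x₀), ∀ z ∈ V, topologicalKrullDim ↥(connectedComponentIn (f.base ⁻¹' {z}) (g.base z)) = topologicalKrullDim ↥(connectedComponentIn (f.base ⁻¹' {(f.base x₀)}) (g.base (f.base x₀)))))
    (hred : FBase.IsGeomReducedAt (f.fiberToSpecResidueField (f.base x₀)) (f.asFiber x₀)) :
    (f.stalkMap x₀).hom.Flat := by
  haveI : LocallyOfFinitePresentation f := inferInstance
  obtain ⟨V, hV, hVc⟩ := hconst
  refine GrothLib.Chev28.flat_stalkMap_of_isUnivOpenAt_of_geomReducedAt f x₀ inferInstance hred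
    fun z ⟨hzx, hfz, hzmax⟩ => ?_
  refine GrothLib.Chev28.isUnivOpenAt_of_dim_const f g hg hirr (f x₀) (fun t ht => ?_) z ?_
  · obtain ⟨O, hOV, hO, hyO⟩ := mem_nhds_iff.mp hV
    exact hVc t (hOV (ht.mem_open hO hyO))
  · rw [connectedComponentIn_eq hx₀]
    exact GrothLib.Chev28.fibClosure_subset_connectedComponentIn f hfz rfl hzx ⟨subset_closure rfl, hfz⟩

end Groth.Agent.S5926
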