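import Groth.Statements.S5927
import Groth.Agent.Lib.Chev28.SectCompGen

set_option autoImplicit false
open CategoryTheory AlgebraicGeometry
universe u
open EGA43

namespace Groth.Agent.S5927

/-- Let Y be a locally Noetherian scheme, f : X ⟶ Y a morphism locally of finite type with a section g :
Y ⟶ X, X_y^0 the connected component of f⁻¹(y) containing g y, every X_y^0 geometrically irreducible
over κ(y), and y₀ a point of Y such that f is universally open at the generic point of X_{y₀}^0.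
Suppose moreover that either (α) the fibre f⁻¹(y₀) is geometrically reduced at g y₀, or (β) dim
f⁻¹(y') = dim X_{y'}^0 for the generic point y' of every irreducible component of Y containing y₀.
Then y ↦ dim X_y^0 is constant on a neighbourhood of y₀. -/
theorem result {X Y : Scheme.{u}} [IsLocallyNoetherian Y] (f : X ⟶ Y)
    [LocallyOfFiniteType f] (g : Y ⟶ X) (hg : g ≫ f = 𝟙 Y)
    (hirr : ∀ y : Y, (∀ (K : Type u) [Field K] [Algebra (IsLocalRing.ResidueField (Y.presheaf.stalk y)) K],
        IsIrreducible ((FBase.bcπ (f.fiberToSpecResidueField y) K ≫ f.fiberι y).base ⁻¹' connectedComponentIn (f.base ⁻¹' {y}) (g.base y))))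
    (y₀ : Y) (hopen : ∀ ξ ∈ connectedComponentIn (f.base ⁻¹' {y₀}) (g.base y₀), connectedComponentIn (f.base ⁻¹' {y₀}) (g.base y₀) ⊆ closure {ξ} → EGA43.IsUnivOpenAt f ξ)
    (hαβ : FBase.IsGeomReducedAt (f.fiberToSpecResidueField (f.base (g.base y₀))) (f.asFiber (g.base y₀)) ∨
      (∀ y' : Y, y₀ ∈ closure {y'} → closure {y'} ∈ irreducibleComponents (Y : Type u) →
        topologicalKrullDim ↥(f.fiber y') = topologicalKrullDim ↥(connectedComponentIn (f.base ⁻¹' {y'}) (g.base y')))) :
    (∃ V ∈ nhds y₀, ∀ z ∈ V, topologicalKrullDim ↥(connectedComponentIn (f.base ⁻¹' {z}) (g.base z)) = topologicalKrullDim ↥(connectedComponentIn (f.base ⁻¹' {y₀}) (g.base y₀))) := by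
  refine GrothLib.Chev28.dim_sectComp_eventually_eq f g hg hirr y₀ fun η hη hηmax => ?_
  rcases hαβ with hα | hβ
  · exact GrothLib.Chev28.dim_sectComp_le_of_geomReduced f g hg hirr hη hopen hα
  · have hfg : ∀ t, f.base (g.base t) = t := fun t => congrArg (fun m : Y ⟶ Y => m.base t) hg
    obtain ⟨ξ₀, hξ₀, hC⟩ := GrothLib.Chev28.sectComp_eq_fibClosure f (GrothLib.Chev28.isIrreducible_sectComp f g hirr y₀)
    have hξ₀C := hC.ge ⟨subset_closure (Set.mem_singleton ξ₀), hξ₀⟩
    obtain ⟨n, hn, hn'⟩ := GrothLib.Chev28.exists_dim_fibClosure f ξ₀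
    have hgy : ξ₀ ⤳ g.base y₀ := specializes_iff_mem_closure.2 (hC.le (mem_connectedComponentIn (hfg y₀))).1
    have hmax : ∀ z', f.base z' = f.base ξ₀ → z' ⤳ ξ₀ → z' = ξ₀ := by
      intro z' hz' hs
      have h1 : z' ∈ connectedComponentIn (f.base ⁻¹' {y₀}) (g.base y₀) :=
        GrothLib.Chev28.fibClosure_subset_connectedComponentIn f (hz'.trans hξ₀) (hfg y₀) (hs.trans hgy)
          ⟨subset_closure (Set.mem_singleton z'), hz'.trans hξ₀⟩
      exact (hs.antisymm (specializes_iff_mem_closure.2 (hC.le h1).1)).eq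
    obtain ⟨ξ, -, hξ, hξmax, hξn⟩ := GrothLib.Chev28.exists_over_generization f ξ₀ hmax n hn
      (GrothLib.Chev28.isOpenAt_of_isUnivOpenAt (hopen ξ₀ hξ₀C (hC.le.trans Set.inter_subset_left)))
      (y' := η) (hξ₀.symm ▸ hη)
    rw [hC, ← hξ₀, hn',
      ← hβ η hη.mem_closure (GrothLib.Equidim6.closure_mem_components hηmax)]
    exact GrothLib.Chev28.le_dim_fiber_of_mem_fibDims ⟨ξ, hξ, hξmax, hξn⟩

end Groth.Agent.S5927
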