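import Groth.Statements.S5928
import Groth.Agent.Lib.Chev28.SectCompRed

set_option autoImplicit false
open CategoryTheory AlgebraicGeometry
universe u
open EGA43

namespace Groth.Agent.S5928

/-- Let f : X ⟶ Y be a morphism with a section g : Y ⟶ X, and suppose that either Y is locally
Noetherian and f is locally of finite type, or f is of finite presentation. Let X_y^0 be the
connected component of f⁻¹(y) containing g y and X^0 ⊆ X the union of the X_y^0, and suppose every
X_y^0 is geometrically irreducible over κ(y). Then the set W of points x of X^0 such that y ↦ dim
X_y^0 is constant on a neighbourhood of f x and the fibre f⁻¹(f x) is geometrically reduced at x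
over κ(f x) is open in X. (The published statement asks that the whole component X_{f x}^0 be
geometrically reduced rather than geometrically reduced at x; with that reading the set need not be
open: over the affine line Spec k[t] take X = Spec k[t, s, e]/(e², e(ts − 1)) with the section s = e
= 0, whose fibres are lines carrying an embedded point at s = 1/t for t ≠ 0 and a reduced line at t
= 0, so that the set would be the closed fibre over t = 0; the published proof, through the openness
of the locus where the fibre is geometrically reduced at the point, gives the pointwise form stated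
here.) -/
theorem result {X Y : Scheme.{u}} (f : X ⟶ Y) (g : Y ⟶ X)
    (hg : g ≫ f = 𝟙 Y)
    (hfin : (IsLocallyNoetherian Y ∧ LocallyOfFiniteType f) ∨
      (LocallyOfFinitePresentation f ∧ QuasiCompact f ∧ QuasiSeparated f))
    (hirr : ∀ y : Y, (∀ (K : Type u) [Field K] [Algebra (IsLocalRing.ResidueField (Y.presheaf.stalk y)) K],
        IsIrreducible ((FBase.bcπ (f.fiberToSpecResidueField y) K ≫ f.fiberι y).base ⁻¹' connectedComponentIn (f.base ⁻¹' {y}) (g.base y)))) :
    IsOpen {x : X | x ∈ MoreMor.sectionComponents f g ∧ (∃ V ∈ nhds (f.base x), ∀ z ∈ V, topologicalKrullDim ↥(connectedComponentIn (f.base ⁻¹' {z}) (g.base z)) = topologicalKrullDim ↥(connectedComponentIn (f.base ⁻¹' {(f.base x)}) (g.base (f.base x)))) ∧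
      FBase.IsGeomReducedAt (f.fiberToSpecResidueField (f.base x)) (f.asFiber x)} := by
  rcases hfin with ⟨hY, hf⟩ | ⟨hf, hqc, hqs⟩
  · haveI : IsLocallyNoetherian X := LocallyOfFiniteType.isLocallyNoetherian f
    haveI : LocallyOfFinitePresentation f := inferInstance
    haveI : QuasiSeparated f := inferInstance
    exact GrothLib.Chev28.isOpen_sectComp_geomReduced f g hg hirr
  · exact GrothLib.Chev28.isOpen_sectComp_geomReduced f g hg hirr

end Groth.Agent.S5928
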