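import Groth.Statements.S5934
import Groth.Agent.Lib.Chev28.ConnOpen

set_option autoImplicit false
open CategoryTheory AlgebraicGeometry
universe u
open EGA43

namespace Groth.Agent.S5934

/-- Let f : X ⟶ Y be a proper, flat morphism of finite presentation. The set of points y of Y whose
fibre X_y is geometrically regular, i.e. smooth over the residue field κ(y), is open in Y. -/
theorem result {X Y : Scheme.{u}} (f : X ⟶ Y) [IsProper f] [Flat f]
    [LocallyOfFinitePresentation f] :
    IsOpen {y : Y | Smooth (f.fiberToSpecResidueField y)} := by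
  have hset : {y : Y | Smooth (f.fiberToSpecResidueField y)} = (f.base '' (f.smoothLocus : Set X)ᶜ)ᶜ := by
    ext y
    haveI : LocallyOfFinitePresentation (f.fiberToSpecResidueField y) :=
      MorphismProperty.pullback_snd f _ inferInstance
    constructor
    · rintro hy ⟨x, hx, hfx⟩
      obtain ⟨w, hw⟩ := (f.range_fiberι y).ge (show x ∈ f.base ⁻¹' {y} from hfx)
      haveI : Smooth (f.fiberToSpecResidueField y) := hy
      subst hfx
      obtain rfl : w = f.asFiber x := (f.fiberι _).isEmbedding.injective (hw.trans (f.fiberι_asFiber x).symm)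
      refine hx ((GrothLib.LocProp.smooth_nhd_iff f x).mp (GrothLib.EtLocal.smooth_nhd_of_flat_of_fibre_nhd f x
        (Flat.stalkMap f x) (f.asFiber x) (f.fiberι_asFiber x) ((GrothLib.LocProp.smooth_nhd_iff _ _).mpr ?_)))
      rw [Scheme.Hom.smoothLocus_eq_top]
      trivial
    · intro hy
      rw [Set.mem_setOf_eq, ← Scheme.Hom.smoothLocus_eq_top_iff, eq_top_iff]
      intro w _
      refine (GrothLib.LocProp.smooth_nhd_iff _ w).mp (GrothLib.EtLocal.nhd_fibre (W := @Smooth)
        (IsPullback.of_hasPullback f (Y.fromSpecResidueField y)) w rfl ((GrothLib.LocProp.smooth_nhd_iff f _).mpr ?_))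
      by_contra hns
      exact hy ⟨_, hns, GrothLib.FibreFlat.fiberι_comp_apply f y w⟩
  rw [hset]
  exact (f.isClosedMap _ f.smoothLocus.2.isClosed_compl).isOpen_compl

end Groth.Agent.S5934
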