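import Groth.Statements.S5935
import Groth.Agent.Lib.Chev28.ConnOpen

set_option autoImplicit false
open CategoryTheory AlgebraicGeometry
universe u
open EGA43

namespace Groth.Agent.S5935

/-- Let f : X ⟶ Y be a proper, flat morphism of finite presentation and k ≥ 1 a natural number. The set
of points y of Y such that the fibre X_y is geometrically reduced over κ(y) and the geometric number
of connected components of X_y (the number of connected components after base change to a separable
closure of κ(y)) equals k is open in Y. -/
theorem result {X Y : Scheme.{u}} (f : X ⟶ Y) [IsProper f]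
    [Flat f] [LocallyOfFinitePresentation f] (k : ℕ) (hk : 1 ≤ k) :
    IsOpen {y : Y | GeometricallyReduced (f.fiberToSpecResidueField y) ∧ MoreMor.nGeomConnComp f y = k} := by
  refine GrothLib.Chev28.isOpen_of_stableUnderGen ((GrothLib.GeomRed6.isLocallyConstructible_geomRed f).inter
    (GrothLib.Chev28.isLocallyConstructible_conn f fun n => n = (k : ℕ∞))) ?_
  rintro y ⟨hr, hn⟩ y' hy'
  obtain ⟨hc, hr'⟩ := (GrothLib.Chev28.nGeomConnComp_of_specializes f hy'
    fun x _ => GrothLib.Chev28.isUnivOpenAt_of_flat f x).2 hr
  exact ⟨hr', hc.symm.trans hn⟩

end Groth.Agent.S5935
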