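import Groth.Statements.S5937
import Groth.Agent.Lib.OmegaUniv.Stalk
import Groth.Agent.Lib.KSix19.Chart

set_option autoImplicit false
universe u
open CategoryTheory CategoryTheory.Limits AlgebraicGeometry
open Unram17

namespace Groth.Agent.S5937

/-- Take a morphism of schemes f : X ⟶ Y and an O_X-module Ω' equipped with a universal Y-derivation d :
O_X → Ω' (so that Ω' is a sheaf of differentials of X over Y). Then f is formally unramified if and
only if Ω' is a zero object of the category of O_X-modules. -/
theorem result {X Y : Scheme.{u}} (f : X ⟶ Y)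
    (Ω' : X.Modules) (d : OmegaSh.Der f Ω') (hd : OmegaSh.IsUniversal d) :
    FormallyUnramified f ↔ IsZero Ω' := by
  constructor
  · intro hf
    refine GrothLib.KSix19.isZero_of_stalks fun x => ?_
    letI := GrothLib.OmegaUniv.stalkAlg f x
    haveI : Algebra.FormallyUnramified (Y.presheaf.stalk (f x)) (X.presheaf.stalk x) :=
      FormallyUnramified.stalkMap f x
    have hs := (GrothLib.OmegaUniv.stalkEquiv x hd).toEquiv.subsingleton
    exact @ModuleCat.isZero_of_subsingleton _ _ _ hs
  · intro hz
    refine HasRingHomProperty.of_stalkMap (P := @FormallyUnramified) RingHom.FormallyUnramified.ofLocalizationPrime fun x => ?_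
    letI := GrothLib.OmegaUniv.stalkAlg f x
    haveI : Subsingleton (GrothLib.OmegaUniv.St x Ω') :=
      ModuleCat.subsingleton_of_isZero ((GrothLib.OX.stalk x).map_isZero hz)
    haveI := (GrothLib.OmegaUniv.stalkEquiv x hd).toEquiv.symm.subsingleton
    exact ⟨inferInstance⟩

end Groth.Agent.S5937
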