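import Groth.Statements.S5939
import Mathlib.AlgebraicGeometry.Morphisms.QuasiSeparated
import Mathlib.AlgebraicGeometry.Morphisms.Separated
-- import your own Groth.Agent.* helpers here

set_option autoImplicit false
universe u
open CategoryTheory AlgebraicGeometry
open Unram17

namespace Groth.Agent.S5939

/-- Let f : X ⟶ Y be faithfully flat, locally of finite presentation and quasi-compact, and let g : Y ⟶
Z be a morphism such that f ≫ g is of finite presentation (locally of finite presentation,
quasi-compact and quasi-separated). Then g is quasi-compact and quasi-separated; together with the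
descent of local finite presentation along f this says that g is of finite presentation. This is the
case f quasi-compact. -/
theorem result {X Y Z : Scheme.{u}} (f : X ⟶ Y) (g : Y ⟶ Z)
    [Surjective f] [Flat f] [LocallyOfFinitePresentation f] [QuasiCompact f]
    [LocallyOfFinitePresentation (f ≫ g)] [QuasiCompact (f ≫ g)] [QuasiSeparated (f ≫ g)] :
    QuasiCompact g ∧ QuasiSeparated g := by
  have key : ∀ {P Q R : Scheme.{u}} (a : P ⟶ Q) (b : Q ⟶ R), Surjective a → QuasiCompact (a ≫ b) →
      QuasiCompact b := by
    intro P Q R a b _ hab
    refine ⟨fun U hU hUc => ?_⟩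
    have h1 : IsCompact ((a ≫ b).base ⁻¹' U) := QuasiCompact.isCompact_preimage U hU hUc
    have h2 : b.base ⁻¹' U = a.base '' ((a ≫ b).base ⁻¹' U) := by
      ext y
      constructor
      · intro hy
        obtain ⟨x, rfl⟩ := a.surjective y
        exact ⟨x, hy, rfl⟩
      · rintro ⟨x, hx, rfl⟩
        exact hx
    rw [h2]
    exact h1.image a.continuous
  refine ⟨key f g ‹Surjective f› ‹QuasiCompact (f ≫ g)›, ⟨?_⟩⟩
  have : QuasiCompact (Limits.pullback.map (f ≫ g) (f ≫ g) g g f f (𝟙 Z) (by simp) (by simp)) :=
    MorphismProperty.pullbackMap (P := @QuasiCompact) ‹QuasiCompact f› ‹QuasiCompact f› rfl rfl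
  have hdiag : f ≫ Limits.pullback.diagonal g = Limits.pullback.diagonal (f ≫ g) ≫
      Limits.pullback.map (f ≫ g) (f ≫ g) g g f f (𝟙 Z) (by simp) (by simp) := by
    apply Limits.pullback.hom_ext <;>
      simp only [Category.assoc, Limits.pullback.lift_fst, Limits.pullback.lift_snd,
        Limits.pullback.diagonal_fst_assoc, Limits.pullback.diagonal_snd_assoc,
        Limits.pullback.diagonal_fst, Limits.pullback.diagonal_snd, Category.comp_id]
  have : QuasiCompact (f ≫ Limits.pullback.diagonal g) := by rw [hdiag]; infer_instance
  exact key f _ ‹Surjective f› this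

end Groth.Agent.S5939
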