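import Groth.Statements.S5972
import Mathlib
import Groth.Agent.Lib.PPGen.AffSections
-- import your own Groth.Agent.* helpers here

set_option autoImplicit false
universe u
open CategoryTheory CategoryTheory.Limits AlgebraicGeometry TopologicalSpace Opposite
open Nrm16

namespace Groth.Agent.S5972

/-- Let A → B be a ring homomorphism, X = Spec B, S = Spec A with f : X ⟶ S the induced morphism, and n
a natural number; identify B with the ring of global functions on X through the canonical
isomorphism. If ψ : B ⊗_A B → Γ(X, P^n_{X/S}) is the additive map with ψ(b ⊗ b') = b · d^n(b') for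
all b, b' in B, then ψ is surjective with kernel the (n+1)-st power of the kernel I of the
multiplication map B ⊗_A B → B. -/
theorem result (A B : Type u) [CommRing A] [CommRing B] [Algebra A B] (n : ℕ)
    (ψ : TensorProduct A B B →+
      Γ(PrinPart.P (Spec.map (CommRingCat.ofHom (algebraMap A B))) n, (⊤ : (Spec (CommRingCat.of B)).Opens)))
    (hψ : ∀ b b' : B, ψ (b ⊗ₜ[A] b') =
      (Scheme.ΓSpecIso (CommRingCat.of B)).inv b •
        PrinPart.dn (Spec.map (CommRingCat.ofHom (algebraMap A B))) n ⊤
          ((Scheme.ΓSpecIso (CommRingCat.of B)).inv b')) :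
    Function.Surjective ψ ∧ ψ.ker = (KaehlerDifferential.ideal A B ^ (n + 1)).toAddSubgroup := by
  let f := Spec.map (CommRingCat.ofHom (algebraMap A B))
  let U : (Spec (CommRingCat.of B)).Opens := ⊤
  let V : (Spec (CommRingCat.of A)).Opens := ⊤
  let W := pullback.fst f f ⁻¹ᵁ U ⊓ pullback.snd f f ⁻¹ᵁ U
  have hUV : U ≤ f ⁻¹ᵁ V := fun _ _ => trivial
  let eB : B →+* Γ(Spec (CommRingCat.of B), U) := (Scheme.ΓSpecIso (CommRingCat.of B)).inv.hom
  let eB' : Γ(Spec (CommRingCat.of B), U) →+* B := (Scheme.ΓSpecIso (CommRingCat.of B)).hom.hom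
  have he₁ : ∀ b, eB' (eB b) = b := fun b =>
    congr($((Scheme.ΓSpecIso (CommRingCat.of B)).inv_hom_id) b)
  have he₂ : ∀ s, eB (eB' s) = s := fun s =>
    congr($((Scheme.ΓSpecIso (CommRingCat.of B)).hom_inv_id) s)
  let eA : A →+* Γ(Spec (CommRingCat.of A), V) := (Scheme.ΓSpecIso (CommRingCat.of A)).inv.hom
  have hfA : ∀ a, f.appLE V U hUV (eA a) = eB (algebraMap A B a) := fun a => by
    have h := congr($(Scheme.ΓSpecIso_inv_naturality (CommRingCat.ofHom (algebraMap A B))) a)
    rw [ConcreteCategory.comp_apply, ConcreteCategory.comp_apply] at h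
    refine Eq.trans ?_ h.symm
    show f.appLE V (f ⁻¹ᵁ V) le_rfl (eA a) = _
    rw [← Scheme.Hom.app_eq_appLE]
    rfl
  have hfA' : ∀ s, eB' (f.appLE V U hUV s) = algebraMap A B ((Scheme.ΓSpecIso (CommRingCat.of A)).hom s) := fun s => by
    have hs : s = eA ((Scheme.ΓSpecIso (CommRingCat.of A)).hom s) :=
      (congr($((Scheme.ΓSpecIso (CommRingCat.of A)).hom_inv_id) s)).symm
    conv_lhs => rw [hs, hfA]
    exact he₁ _
  have hU : IsAffineOpen U := isAffineOpen_top _
  have hV : IsAffineOpen V := isAffineOpen_top _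
  have hP : IsPushout (f.appLE V U hUV) (f.appLE V U hUV)
      ((pullback.fst f f).appLE U W inf_le_left) ((pullback.snd f f).appLE U W inf_le_right) :=
    (AlgebraicGeometry.isIso_pushoutSection_iff (IsPullback.of_hasPullback f f)
      (US := V) (UT := U) (UX := U) (UY := W) hUV hUV rfl).1
      (AlgebraicGeometry.isIso_pushoutSection_of_isAffineOpen (IsPullback.of_hasPullback f f)
        hUV hUV rfl hV hU hU)
  let i₁ : B →+* Γ(pullback f f, W) := ((pullback.fst f f).appLE U W inf_le_left).hom.comp eB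
  let i₂ : B →+* Γ(pullback f f, W) := ((pullback.snd f f).appLE U W inf_le_right).hom.comp eB
  have hi : ∀ a, i₁ (algebraMap A B a) = i₂ (algebraMap A B a) := fun a => by
    show (pullback.fst f f).appLE U W inf_le_left (eB (algebraMap A B a)) =
      (pullback.snd f f).appLE U W inf_le_right (eB (algebraMap A B a))
    rw [← hfA]
    exact congr($(hP.w) (eA a))
  letI : Algebra A Γ(pullback f f, W) := (i₁.comp (algebraMap A B)).toAlgebra
  let T : TensorProduct A B B →+* Γ(pullback f f, W) :=
    (Algebra.TensorProduct.lift (A := B) (B := B) (C := Γ(pullback f f, W)) (R := A) (S := A)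
      { i₁ with commutes' := fun _ => rfl }
      { i₂ with commutes' := fun a => (hi a).symm } (fun _ _ => Commute.all _ _)).toRingHom
  have hT : ∀ b b', T (b ⊗ₜ[A] b') = i₁ b * i₂ b' := fun b b' => rfl
  let a₁ : Γ(Spec (CommRingCat.of B), U) ⟶ CommRingCat.of (TensorProduct A B B) :=
    CommRingCat.ofHom ((Algebra.TensorProduct.includeLeftRingHom : B →+* TensorProduct A B B).comp eB')
  let a₂ : Γ(Spec (CommRingCat.of B), U) ⟶ CommRingCat.of (TensorProduct A B B) :=
    CommRingCat.ofHom ((Algebra.TensorProduct.includeRight : B →ₐ[A] TensorProduct A B B).toRingHom.comp eB')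
  have ha : f.appLE V U hUV ≫ a₁ = f.appLE V U hUV ≫ a₂ := by
    refine CommRingCat.hom_ext (RingHom.ext fun s => ?_)
    show eB' (f.appLE V U hUV s) ⊗ₜ[A] (1 : B) = (1 : B) ⊗ₜ[A] eB' (f.appLE V U hUV s)
    rw [hfA', Algebra.algebraMap_eq_smul_one, TensorProduct.smul_tmul]
  let R : Γ(pullback f f, W) →+* TensorProduct A B B := (hP.desc a₁ a₂ ha).hom
  have hRT : ∀ c, R (T c) = c := by
    intro c
    induction c using TensorProduct.induction_on with
    | zero => rw [map_zero, map_zero]
    | tmul b b' =>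
      rw [hT, map_mul]
      have h1 : R (i₁ b) = b ⊗ₜ[A] (1 : B) := by
        refine (congr($(hP.inl_desc a₁ a₂ ha) (eB b))).trans ?_
        show eB' (eB b) ⊗ₜ[A] (1 : B) = _
        rw [he₁]
      have h2 : R (i₂ b') = (1 : B) ⊗ₜ[A] b' := by
        refine (congr($(hP.inr_desc a₁ a₂ ha) (eB b'))).trans ?_
        show (1 : B) ⊗ₜ[A] eB' (eB b') = _
        rw [he₁]
      rw [h1, h2, Algebra.TensorProduct.tmul_mul_tmul, mul_one, one_mul]
    | add x y hx hy => rw [map_add, map_add, hx, hy]
  have hTsurj : Function.Surjective T := by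
    obtain ⟨-, hgen⟩ := GrothLib.PPGen.closure_appLE_eq_top f hV hU hUV
    intro w
    have hle : Subring.closure (Set.range ((pullback.fst f f).appLE U W inf_le_left).hom ∪
        Set.range ((pullback.snd f f).appLE U W inf_le_right).hom) ≤ T.range := by
      rw [Subring.closure_le]
      rintro _ (⟨t, rfl⟩ | ⟨t, rfl⟩)
      · refine ⟨eB' t ⊗ₜ[A] (1 : B), ?_⟩
        rw [hT, map_one, mul_one]
        exact congrArg ((pullback.fst f f).appLE U W inf_le_left) (he₂ t)
      · refine ⟨(1 : B) ⊗ₜ[A] eB' t, ?_⟩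
        rw [hT, map_one, one_mul]
        exact congrArg ((pullback.snd f f).appLE U W inf_le_right) (he₂ t)
    rw [hgen] at hle
    exact hle (Subring.mem_top w)
  have hTbij : Function.Bijective T := ⟨Function.LeftInverse.injective hRT, hTsurj⟩
  obtain ⟨hψsurj, hψker⟩ := GrothLib.PPGen.restrictFn_surjective_and_ker f n hV hU hUV
  have key : ∀ c, GrothLib.PPGen.pfn f n U (ψ c) = GrothLib.PPGen.restrictFn f n U (T c) := by
    intro c
    induction c using TensorProduct.induction_on with
    | zero =>
      rw [map_zero, map_zero, map_zero]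
      exact map_zero ((GrothLib.OX.pullUnitIso (PrinPart.pr2 f n)).hom.app (PrinPart.pr1 f n ⁻¹ᵁ U)).hom
    | tmul b b' =>
      rw [hψ, hT, map_mul]
      refine (GrothLib.PPGen.pfn_smul f n U _ _).trans (congrArg₂ (· * ·) ?_ ?_)
      · exact (GrothLib.PPGen.restrictFn_fst f n U (eB b)).symm
      · exact (GrothLib.PPGen.pfn_dn f n U (eB b')).trans (GrothLib.PPGen.restrictFn_snd f n U (eB b')).symm
    | add x y hx hy =>
      rw [map_add, map_add, map_add, ← hx, ← hy]
      exact GrothLib.PPGen.pfn_add f n U _ _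
  refine ⟨fun s => ?_, ?_⟩
  · obtain ⟨w, hw⟩ := hψsurj (GrothLib.PPGen.pfn f n U s)
    obtain ⟨c, rfl⟩ := hTsurj w
    exact ⟨c, GrothLib.PPGen.pfn_injective f n U ((key c).trans hw)⟩
  have hJ : (RingHom.ker ((pullback.diagonal f).appLE W U (GrothLib.PPGen.le_preimage_diag f U)).hom).comap T =
      KaehlerDifferential.ideal A B := by
    have hd : ∀ c, (pullback.diagonal f).appLE W U (GrothLib.PPGen.le_preimage_diag f U) (T c) =
        eB (Algebra.TensorProduct.lmul' A (S := B) c) := by
      intro c
      induction c using TensorProduct.induction_on with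
      | zero => rw [map_zero, map_zero, map_zero, map_zero]
      | tmul b b' =>
        rw [hT, map_mul, Algebra.TensorProduct.lmul'_apply_tmul, map_mul]
        refine congrArg₂ (· * ·) ?_ ?_
        · show ((pullback.fst f f).appLE U W inf_le_left ≫ (pullback.diagonal f).appLE W U _) (eB b) = _
          rw [Scheme.Hom.appLE_comp_appLE,
            GrothLib.PPGen.app_congr_le (pullback.diagonal_fst f) U U _ (fun _ h => h) (eB b)]
          rfl
        · show ((pullback.snd f f).appLE U W inf_le_right ≫ (pullback.diagonal f).appLE W U _) (eB b') = _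
          rw [Scheme.Hom.appLE_comp_appLE,
            GrothLib.PPGen.app_congr_le (pullback.diagonal_snd f) U U _ (fun _ h => h) (eB b')]
          rfl
      | add x y hx hy => simp only [map_add, hx, hy]
    ext c
    rw [Ideal.mem_comap, RingHom.mem_ker]
    erw [hd c]
    rw [map_eq_zero_iff eB (Function.LeftInverse.injective he₁)]
    rfl
  ext c
  rw [AddMonoidHom.mem_ker, Submodule.mem_toAddSubgroup,
    ← (GrothLib.PPGen.pfn_injective f n U).eq_iff, key, ← hJ,
    ← GrothLib.PPGen.map_comap_pow_of_bijective T hTbij, Ideal.mem_comap, ← hψker, RingHom.mem_ker]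
  have h0 : GrothLib.PPGen.pfn f n U 0 = 0 :=
    map_zero ((GrothLib.OX.pullUnitIso (PrinPart.pr2 f n)).hom.app (PrinPart.pr1 f n ⁻¹ᵁ U)).hom
  rw [h0]

end Groth.Agent.S5972
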