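import Groth.Statements.S5947
import Mathlib
import Groth.Agent.S5959
import Groth.Agent.S5972
import Groth.Agent.Lib.PPGen.OmegaP1
import Groth.Agent.Lib.PPGen.TildeHom
import Groth.Agent.Lib.Cohom.Serre
-- import your own Groth.Agent.* helpers here

set_option autoImplicit false
universe u
open CategoryTheory AlgebraicGeometry TopologicalSpace
open Nrm16

open Opposite GrothLib
set_option maxHeartbeats 1600000
set_option backward.isDefEq.respectTransparency false

namespace Groth.Agent.S5947

/-- Let A be a commutative ring, B an A-algebra and L a B-module; put S = Spec A, X = Spec B and let F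
be the O_X-module associated with L. For an S-derivation D of O_X into F write Γ(D) : B → L for its
effect on global sections (global sections of O_X and of F being identified with B and L by the
canonical isomorphisms). Then D ↦ Γ(D) is a bijection from the set of S-derivations of O_X into F
onto the set of A-derivations of B into L: every Γ(D) is an A-derivation, and every A-derivation of
B into L is Γ(D) for exactly one D. (The published statement asserts an isomorphism of B-modules; no
module structure is placed on sheaf derivations here, so this row states the bijection.) -/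
theorem result (A B : Type u) [CommRing A] [CommRing B] [Algebra A B]
    (L : Type u) [AddCommGroup L] [Module B L] [Module A L] [IsScalarTower A B L] :
    (∀ D : OmegaSh.Der (Spec.map (CommRingCat.ofHom (algebraMap A B))) (tilde (ModuleCat.of (CommRingCat.of B) L)),
      ∃ δ : Derivation A B L, ∀ t : B, D.app ⊤ ((Scheme.ΓSpecIso (CommRingCat.of B)).inv t) =
        (tilde.isoTop (ModuleCat.of (CommRingCat.of B) L)).hom (δ t)) ∧
    ∀ δ : Derivation A B L,
      ∃! D : OmegaSh.Der (Spec.map (CommRingCat.ofHom (algebraMap A B))) (tilde (ModuleCat.of (CommRingCat.of B) L)),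
        ∀ t : B, D.app ⊤ ((Scheme.ΓSpecIso (CommRingCat.of B)).inv t) =
          (tilde.isoTop (ModuleCat.of (CommRingCat.of B) L)).hom (δ t) := by
  let R : CommRingCat.{u} := CommRingCat.of B
  let f := Spec.map (CommRingCat.ofHom (algebraMap A B))
  let LM : ModuleCat.{u} (CommRingCat.of B) := ModuleCat.of (CommRingCat.of B) L
  let e : B →+* Γ(Spec (CommRingCat.of B), (⊤ : (Spec (CommRingCat.of B)).Opens)) :=
    (Scheme.ΓSpecIso (CommRingCat.of B)).inv.hom
  let eA : A →+* Γ(Spec (CommRingCat.of A), (⊤ : (Spec (CommRingCat.of A)).Opens)) :=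
    (Scheme.ΓSpecIso (CommRingCat.of A)).inv.hom
  have hbase : ∀ a : A, e (algebraMap A B a) = f.app ⊤ (eA a) := fun a =>
    congr($(Scheme.ΓSpecIso_inv_naturality (CommRingCat.ofHom (algebraMap A B))) a)
  constructor
  · intro D
    have hmul : ∀ x y : Γ(Spec (CommRingCat.of B), (⊤ : (Spec (CommRingCat.of B)).Opens)),
        D.app ⊤ (x * y) = x • D.app ⊤ y + y • D.app ⊤ x := fun x y => D.d_mul (X := op ⊤) x y
    let δ₀ : B →+ L := (GrothLib.PPGen.ofTopSect LM).comp ((D.app ⊤).comp e.toAddMonoidHom)
    have hδ₀ : ∀ t, δ₀ t = GrothLib.PPGen.ofTopSect LM (D.app ⊤ (e t)) := fun t => rfl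
    have hm : ∀ a b, δ₀ (a * b) = a • δ₀ b + b • δ₀ a := fun a b => by
      simp only [hδ₀]
      rw [map_mul e, hmul, map_add]
      exact congrArg₂ (· + ·) (GrothLib.PPGen.ofTopSect_smul LM _ _) (GrothLib.PPGen.ofTopSect_smul LM _ _)
    have hA : ∀ a : A, δ₀ (algebraMap A B a) = 0 := fun a => by
      rw [hδ₀, hbase]
      exact (congrArg (GrothLib.PPGen.ofTopSect LM) (D.d_app (X := op ⊤) (eA a))).trans (map_zero _)
    let δl : B →ₗ[A] L :=
      { δ₀ with
        map_smul' := fun a b => by
          show δ₀ (a • b) = a • δ₀ b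
          rw [Algebra.smul_def, hm, hA, smul_zero, add_zero, algebraMap_smul] }
    refine ⟨Derivation.mk' δl (fun a b => hm a b), fun t => ?_⟩
    exact (GrothLib.PPGen.topSect_ofTopSect LM _).symm
  intro δ
  let P1 := PrinPart.P f 1
  haveI : P1.IsQuasicoherent :=
    Groth.Agent.S5959.result f 1 _ (Cohom.isQuasicoherent_structureModule _)
  have hdb : ∀ (a : A) (b' : B), PrinPart.dn f 1 ⊤ (e (algebraMap A B a * b')) =
      e (algebraMap A B a) • PrinPart.dn f 1 ⊤ (e b') := fun a b' => by
    have hb : PrinPart.dn f 1 ⊤ (e (algebraMap A B a)) = e (algebraMap A B a) • PrinPart.dn f 1 ⊤ 1 := by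
      have h := GrothLib.PPGen.dn_base f 1 ⊤ (f ⁻¹ᵁ ⊤) le_rfl (eA a)
      have h' : (Spec (CommRingCat.of B)).presheaf.map (homOfLE (le_refl (f ⁻¹ᵁ ⊤))).op (f.app ⊤ (eA a)) =
          e (algebraMap A B a) := by
        show (Spec (CommRingCat.of B)).presheaf.map (𝟙 _) _ = _
        rw [CategoryTheory.Functor.map_id]
        exact (hbase a).symm
      rw [h'] at h
      exact h
    have h := GrothLib.PPGen.dn_one_mul f ⊤ (e (algebraMap A B a)) (e b')
    rw [hb, ← map_mul e, smul_comm (e b') (e (algebraMap A B a)), ← mul_smul, ← map_mul e] at h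
    exact add_right_cancel h
  let ψ : TensorProduct A B B →+ Γ(P1, (⊤ : (Spec (CommRingCat.of B)).Opens)) :=
    TensorProduct.liftAddHom
      { toFun := fun b =>
          { toFun := fun b' => e b • PrinPart.dn f 1 ⊤ (e b')
            map_zero' := by rw [map_zero e, map_zero, smul_zero]
            map_add' := fun x y => by rw [map_add e, map_add, smul_add] }
        map_zero' := AddMonoidHom.ext fun b' => by
          show e 0 • PrinPart.dn f 1 ⊤ (e b') = 0
          rw [map_zero e, zero_smul]
        map_add' := fun x y => AddMonoidHom.ext fun b' => by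
          show e (x + y) • PrinPart.dn f 1 ⊤ (e b') = e x • _ + e y • _
          rw [map_add e, add_smul] }
      fun a b b' => by
        show e (a • b) • PrinPart.dn f 1 ⊤ (e b') = e b • PrinPart.dn f 1 ⊤ (e (a • b'))
        rw [Algebra.smul_def a b, Algebra.smul_def a b', hdb, ← mul_smul, ← map_mul e, mul_comm]
  have hψ : ∀ b b', ψ (b ⊗ₜ[A] b') = e b • PrinPart.dn f 1 ⊤ (e b') := fun b b' => rfl
  obtain ⟨hsurj, hker⟩ := Groth.Agent.S5972.result A B 1 ψ hψ
  let Φ : TensorProduct A B B →ₗ[B] L :=
    (TensorProduct.AlgebraTensorModule.lift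
      { toFun := fun b => b • (δ : B →ₗ[A] L)
        map_add' := fun x y => add_smul x y _
        map_smul' := fun r x => mul_smul r x _ })
  have hΦ : ∀ b b', Φ (b ⊗ₜ[A] b') = b • δ b' := fun b b' => rfl
  let m : TensorProduct A B B →ₐ[A] B := Algebra.TensorProduct.lmul' A (S := B)
  have hΦm : ∀ z w, Φ (z * w) = m z • Φ w + m w • Φ z := by
    intro z w
    induction z using TensorProduct.induction_on with
    | zero => simp
    | tmul b b' =>
      induction w using TensorProduct.induction_on with
      | zero => simp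
      | tmul c c' =>
        rw [Algebra.TensorProduct.tmul_mul_tmul, hΦ, hΦ, hΦ, Algebra.TensorProduct.lmul'_apply_tmul,
          Algebra.TensorProduct.lmul'_apply_tmul, δ.leibniz]
        module
      | add x y hx hy =>
        rw [mul_add, map_add Φ, map_add Φ, map_add m, hx, hy]
        module
    | add x y hx hy =>
      rw [add_mul, map_add Φ, map_add Φ, map_add m, hx, hy]
      module
  have hΦ0 : ∀ c, ψ c = 0 → Φ c = 0 := by
    intro c hc
    have hc' : c ∈ KaehlerDifferential.ideal A B ^ (1 + 1) := by
      rw [← Submodule.mem_toAddSubgroup, ← hker]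
      exact hc
    rw [pow_two] at hc'
    refine Submodule.mul_induction_on hc' (fun z hz w hw => ?_) (fun x y hx hy => by
      rw [map_add, hx, hy, add_zero])
    rw [hΦm, show m z = 0 from hz, show m w = 0 from hw, zero_smul, zero_smul, add_zero]
  choose σ hσ using hsurj
  have hwd : ∀ c s, ψ c = s → Φ (σ s) = Φ c := fun c s h => by
    rw [← sub_eq_zero, ← map_sub]
    exact hΦ0 _ (by rw [map_sub, hσ, h, sub_self])
  have hψs : ∀ (r : B) (c : TensorProduct A B B), ψ (r • c) = e r • ψ c := by
    intro r c
    induction c using TensorProduct.induction_on with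
    | zero => rw [smul_zero, map_zero, smul_zero]
    | tmul b b' => rw [TensorProduct.smul_tmul', smul_eq_mul, hψ, hψ, map_mul e, mul_smul]
    | add x y hx hy => rw [smul_add, map_add, map_add, smul_add, hx, hy]
  obtain ⟨u, hu⟩ := GrothLib.PPGen.exists_hom_top P1 (tilde LM)
    (AddMonoidHom.mk' (fun s => GrothLib.PPGen.topSect LM (Φ (σ s))) fun s s' => by
      show GrothLib.PPGen.topSect LM (Φ (σ (s + s'))) = _
      rw [hwd (σ s + σ s') _ (by rw [map_add, hσ, hσ]), map_add Φ]
      exact map_add (GrothLib.PPGen.topSect LM) _ _)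
    fun r s => by
      show GrothLib.PPGen.topSect LM (Φ (σ (e r • s))) = e r • GrothLib.PPGen.topSect LM (Φ (σ s))
      rw [hwd (r • σ s) _ (by rw [hψs, hσ]), map_smul Φ]
      exact GrothLib.PPGen.topSect_smul LM _ _
  have hu' : ∀ c, u.app ⊤ (ψ c) = GrothLib.PPGen.topSect LM (Φ c) := fun c => by
    rw [hu, ← hwd c (ψ c) rfl]
    rfl
  have hu1 : ∀ U : (Spec (CommRingCat.of B)).Opens, u.app U (PrinPart.dn f 1 U 1) = 0 := fun U => by
    have h1 : u.app ⊤ (PrinPart.dn f 1 ⊤ 1) = 0 := by
      have h2 := hu' ((1 : B) ⊗ₜ[A] (1 : B))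
      rw [hψ, hΦ, map_one e, one_smul, δ.map_one_eq_zero, smul_zero] at h2
      exact h2.trans (map_zero _)
    have h3 : PrinPart.dn f 1 U 1 = P1.presheaf.map (homOfLE le_top).op (PrinPart.dn f 1 ⊤ 1) := by
      refine Eq.trans ?_ (PrinPart.dP_map f 1 _ le_top _)
      show PrinPart.dP f 1 _ U _ = _
      refine congrArg (PrinPart.dP f 1 _ U) ?_
      exact (congrArg (OmegaSh.strSect _ U) (map_one ((Spec (CommRingCat.of B)).presheaf.map _).hom).symm).trans
        (OmegaSh.strSect_map ⊤ le_top 1)
    rw [h3]
    refine (congr($((Scheme.Modules.Hom.mapPresheaf u).naturality (homOfLE (le_top (a := U))).op)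
      (PrinPart.dn f 1 ⊤ 1))).trans ?_
    exact (congrArg ((tilde LM).presheaf.map (homOfLE (le_top (a := U))).op) h1).trans (map_zero _)
  let D : OmegaSh.Der f (tilde LM) :=
    { d := fun {U} => (u.app U.unop).hom.comp (PrinPart.dn f 1 U.unop)
      d_mul := fun {U} a b => by
        have hk : ∀ x y : Γ(Spec (CommRingCat.of B), U.unop),
            u.app U.unop (PrinPart.dn f 1 U.unop (x * y)) =
              x • u.app U.unop (PrinPart.dn f 1 U.unop y) + y • u.app U.unop (PrinPart.dn f 1 U.unop x) := by
          intro x y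
          have h := congrArg (u.app U.unop) (GrothLib.PPGen.dn_one_mul f U.unop x y)
          simp only [map_add, Scheme.Modules.Hom.app_smul, hu1, smul_zero, add_zero] at h
          exact h
        exact hk a b
      d_map := fun {U V} i x => by
        show u.app V.unop (PrinPart.dn f 1 V.unop ((Spec (CommRingCat.of B)).presheaf.map i x)) =
          (tilde LM).presheaf.map i (u.app U.unop (PrinPart.dn f 1 U.unop x))
        refine Eq.trans ?_ (congr($((Scheme.Modules.Hom.mapPresheaf u).naturality i) (PrinPart.dn f 1 U.unop x)))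
        exact congrArg (u.app V.unop) (PrinPart.dP_map f 1 _ i.unop.le (OmegaSh.strSect _ U.unop x))
      d_app := fun {V} a => by
        show u.app (f ⁻¹ᵁ V.unop) (PrinPart.dn f 1 (f ⁻¹ᵁ V.unop) (f.app V.unop a)) = 0
        have h := congrArg (u.app (f ⁻¹ᵁ V.unop))
          (GrothLib.PPGen.dn_base f 1 V.unop (f ⁻¹ᵁ V.unop) le_rfl a)
        rw [Scheme.Modules.Hom.app_smul, hu1, smul_zero] at h
        simpa using h }
  refine ⟨D, fun t => ?_, fun D' hD' => ?_⟩
  · show u.app ⊤ (PrinPart.dn f 1 ⊤ (e t)) = GrothLib.PPGen.topSect LM (δ t)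
    have h := hu' ((1 : B) ⊗ₜ[A] t)
    rw [hψ, hΦ, map_one e, one_smul, one_smul] at h
    exact h
  obtain ⟨u', hu''⟩ := GrothLib.PPGen.exists_hom_of_derivation f
    (0 : Coh.structureModule (Spec (CommRingCat.of B)) ⟶ tilde LM) D'
  have hu₀ : ∀ (U : (Spec (CommRingCat.of B)).Opens) (s : Γ(Spec (CommRingCat.of B), U)),
      u'.app U (PrinPart.dn f 1 U s) = D'.app U s :=
    fun U s => (hu'' U s).trans (zero_add _)
  have heq : u' = u := by
    refine GrothLib.PPGen.hom_ext_top P1 (tilde LM) u' u fun s => ?_
    obtain ⟨c, rfl⟩ : ∃ c, ψ c = s := ⟨σ s, hσ s⟩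
    induction c using TensorProduct.induction_on with
    | zero => simp
    | tmul b b' =>
      rw [hu', hψ, hΦ, Scheme.Modules.Hom.app_smul, hu₀, GrothLib.PPGen.topSect_smul]
      exact congrArg (e b • ·) (hD' b')
    | add x y hx hy => simp only [map_add, hx, hy]
  refine PresheafOfModules.Derivation.ext ?_
  funext U
  refine AddMonoidHom.ext fun s => ?_
  show D'.app U.unop s = u.app U.unop (PrinPart.dn f 1 U.unop s)
  rw [← heq, hu₀]

end Groth.Agent.S5947
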