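import Groth.Statements.S5948
import Groth.Agent.Lib.FibFlatLocus13.Main
-- import your own Groth.Agent.* helpers here

set_option autoImplicit false
universe u
open CategoryTheory CategoryTheory.Limits AlgebraicGeometry TopologicalSpace Topology
open Unram17

namespace Groth.Agent.S5948

set_option backward.isDefEq.respectTransparency false


/-- Let g : X ⟶ S and h : Y ⟶ S be locally of finite presentation, f : X ⟶ Y a morphism with f ≫ h = g,
and F a quasi-coherent O_X-module of finite presentation. For x in X with s = g(x), the fibres X_s ⟶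
Y_s ⟶ Spec κ(s) of f over s are given by pullback squares, F_s is the pullback of F to X_s, and x is
identified with the unique point of X_s over it. Then the set E of points x such that F_s is flat
over Y_s at x (the stalk of F_s at x is a flat module over the local ring of Y_s at f_s(x)) is
locally constructible in X. -/
theorem result {X Y S : Scheme.{u}} (g : X ⟶ S) (h : Y ⟶ S)
    [LocallyOfFinitePresentation g] [LocallyOfFinitePresentation h] (f : X ⟶ Y) (w : f ≫ h = g)
    (F : X.Modules) [Coh.IsQCoh F] (hF : CohB1.IsFP F) :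
    IsLocallyConstructible {x : ↥X | ∀ (Xs Ys : Scheme.{u}) (ιX : Xs ⟶ X) (ιY : Ys ⟶ Y) (fs : Xs ⟶ Ys)
      (pY : Ys ⟶ Spec (S.residueField (g.base x))),
      IsPullback ιY pY h (S.fromSpecResidueField (g.base x)) → IsPullback ιX fs f ιY →
        ∀ x' : ↥Xs, ιX.base x' = x → FlatMod.IsFlatOverAt fs ((Scheme.Modules.pullback ιX).obj F) x'} := by

  subst w
  haveI : F.IsQuasicoherent := ‹Coh.IsQCoh F›
  convert GrothLib.FibFlatLocus13.isLocallyConstructible f h F hF using 1
  ext x
  have hr := GrothLib.CritMod6.isPullback_fiberMap f h ((f ≫ h) x)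
  constructor
  · intro hx
    rw [Set.mem_setOf_eq, ← GrothLib.CritMod6.fibreFlatAt_iff f h F x _ _ ((f ≫ h).fiberι_asFiber x)]
    exact hx _ _ _ _ _ _ (IsPullback.of_hasPullback h _) hr _ ((f ≫ h).fiberι_asFiber x)
  · intro hx Xs Ys ιX ιY fs pY hY hX x' hx'
    let b : Ys ⟶ h.fiber ((f ≫ h) x) := hY.isoPullback.hom
    have hb : b ≫ h.fiberι ((f ≫ h) x) = ιY := hY.isoPullback_hom_fst
    let a : Xs ⟶ (f ≫ h).fiber ((f ≫ h) x) := hr.lift ιX (fs ≫ b) (by rw [Category.assoc, hb, hX.w])
    have ha : a ≫ (f ≫ h).fiberι ((f ≫ h) x) = ιX := hr.lift_fst ..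
    have hab : IsPullback a fs (MoreMor.fiberMap f h ((f ≫ h) x)) b := by
      refine IsPullback.of_right ?_ (hr.lift_snd ..) hr
      rw [ha, hb]
      exact hX
    have hz : (f ≫ h).fiberι ((f ≫ h) x) (a x') = x := by
      rw [← Scheme.Hom.comp_apply, ha]
      exact hx'
    have h1 := (GrothLib.CritMod6.fibreFlatAt_iff f h F x _ (a x') hz).2 hx
    haveI := GrothLib.FittSheaf.isQuasicoherent_pullback ((f ≫ h).fiberι ((f ≫ h) x)) F
    exact (GrothLib.FlatFP.isFlatOverAt_congr fs
      ((Scheme.Modules.pullbackComp a _).app F ≪≫ (Scheme.Modules.pullbackCongr ha).app F) x').1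
      (GrothLib.FlatFP.isFlatOverAt_baseChange _ fs a b hab _ x' h1)

end Groth.Agent.S5948
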