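import Groth.Statements.S5951
import Mathlib
import Groth.Agent.Lib.PPGen.Maps
import Groth.Agent.Lib.FSchSys.Ker
-- import your own Groth.Agent.* helpers here

set_option autoImplicit false
universe u
open CategoryTheory CategoryTheory.Limits AlgebraicGeometry TopologicalSpace Opposite
open Nrm16

namespace Groth.Agent.S5951

/-- Let f : Y ⟶ X be a closed immersion, v : X' ⟶ X a morphism and Y' a fibre product of Y and X' over
X, with projections u : Y' ⟶ Y and f' : Y' ⟶ X'. For each n let w be the morphism from the n-th
infinitesimal neighbourhood of f' to that of f compatible with the two inclusions and v (it is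
unique, the inclusions being closed immersions). Then w and the inclusion of the neighbourhood of f'
into X' exhibit that neighbourhood as the fibre product of the n-th infinitesimal neighbourhood of f
with X' over X. (The published statement allows f to be any immersion, or any morphism with
surjective comorphism when v is flat; this row states the case of a closed immersion.) -/
theorem result {Y X Y' X' : Scheme.{u}} (f : Y ⟶ X) [IsClosedImmersion f]
    (v : X' ⟶ X) (u : Y' ⟶ Y) (f' : Y' ⟶ X') (hsq : IsPullback u f' f v) (n : ℕ)
    (w : PrinPart.infNbhd f' n ⟶ PrinPart.infNbhd f n)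
    (hw : w ≫ PrinPart.infNbhdι f n = PrinPart.infNbhdι f' n ≫ v) :
    IsPullback w (PrinPart.infNbhdι f' n) (PrinPart.infNbhdι f n) v := by
  have hk : f'.ker = f.ker.comap v := GrothLib.FSchSys.ker_eq_comap_of_isPullback hsq.flip
  have hI : f'.ker ^ (n + 1) = (f.ker ^ (n + 1)).comap v := by
    rw [GrothLib.FSchSys.comap_pow, hk]
  have H : f.ker ^ (n + 1) ≤ (f'.ker ^ (n + 1)).map v :=
    Scheme.IdealSheafData.le_map_iff_comap_le.2 hI.ge
  have key : ∀ (I : X'.IdealSheafData) (K : X.IdealSheafData), I = K.comap v → ∀ H' : K ≤ I.map v,
      IsPullback (Scheme.IdealSheafData.subschemeMap I K v H') I.subschemeι K.subschemeι v := by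
    intro I K hIK H'
    subst hIK
    refine ((IsPullback.of_hasPullback v K.subschemeι).of_iso (K.comapIso v).symm (Iso.refl _) (Iso.refl _)
      (Iso.refl _) ?_ ?_ (by simp) (by simp)).flip
    · simp
    · rw [← cancel_mono K.subschemeι]
      simp [← pullback.condition]
  have h := key (f'.ker ^ (n + 1)) (f.ker ^ (n + 1)) hI H
  haveI := GrothLib.PPGen.mono_infNbhdι f n
  have hw' : w = Scheme.IdealSheafData.subschemeMap _ _ v H := by
    rw [← cancel_mono (PrinPart.infNbhdι f n), hw]
    exact (Scheme.IdealSheafData.subschemeMap_subschemeι _ _ v H).symm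
  subst hw'
  exact h

end Groth.Agent.S5951
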