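import Groth.Statements.S5952
import Mathlib
import Groth.Agent.Lib.PPGen.Maps
import Groth.Agent.Lib.IdealModSec.Basic
import Groth.Agent.Lib.FSchSys.Ker
-- import your own Groth.Agent.* helpers here

set_option autoImplicit false
universe u
open CategoryTheory CategoryTheory.Limits AlgebraicGeometry TopologicalSpace Opposite
open Nrm16

namespace Groth.Agent.S5952

/-- Let f : Y ⟶ X be a closed immersion, v : X' ⟶ X a morphism, Y' a fibre product of Y and X' over X
with projections u : Y' ⟶ Y and f' : Y' ⟶ X', and n a natural number. Let φ : u^* Gr_n(f) ⟶ Gr_n(f')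
be the canonical O_{Y'}-linear map between the n-th graded pieces I^n/I^(n+1) of the ideals of f and
f' (the linearisation of the map induced by v♯ on n-th powers of the ideals). Then φ is an
epimorphism. (The published statement allows f to be any immersion; this row states the case of a
closed immersion.) -/
theorem result {Y X Y' X' : Scheme.{u}} (f : Y ⟶ X) [IsClosedImmersion f]
    (v : X' ⟶ X) (u : Y' ⟶ Y) (f' : Y' ⟶ X') (hsq : IsPullback u f' f v) (n : ℕ)
    (φ : (Scheme.Modules.pullback u).obj (PrinPart.grMod f n) ⟶ PrinPart.grMod f' n)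
    (hφ : PrinPart.IsGrMap f' f v u n φ) :
    Epi φ := by
  refine ⟨fun {G} a b hab => ?_⟩
  let K' := f'.ker ^ n
  let K := f.ker ^ n
  let adj := Scheme.Modules.pullbackPushforwardAdjunction f'
  let a' : ClSub.idealMod K' ⟶ (Scheme.Modules.pushforward f').obj G := adj.homEquiv _ _ a
  let b' : ClSub.idealMod K' ⟶ (Scheme.Modules.pushforward f').obj G := adj.homEquiv _ _ b
  suffices hh : a' = b' from (adj.homEquiv _ _).injective hh
  have hval : ∀ (c : PrinPart.grMod f' n ⟶ G) (W : X'.Opens) (t : Γ(ClSub.idealMod K', W)),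
      (adj.homEquiv _ _ c).app W t = c.app (f' ⁻¹ᵁ W) (PrinPart.grSect f' n W t) := by
    intro c W t
    exact congr($(adj.homEquiv_unit _ _ c).app W t)
  have natH : ∀ (c : ClSub.idealMod K' ⟶ (Scheme.Modules.pushforward f').obj G) (W V : X'.Opens)
      (e : V ≤ W) (t : Γ(ClSub.idealMod K', W)),
      c.app V ((ClSub.idealMod K').presheaf.map (homOfLE e).op t) =
        ((Scheme.Modules.pushforward f').obj G).presheaf.map (homOfLE e).op (c.app W t) :=
    fun c W V e t => congr($((Scheme.Modules.Hom.mapPresheaf c).naturality (homOfLE e).op) t)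
  -- pulled back generators
  have hgen : ∀ (U : X.affineOpens) (r : Γ(X, U.1)) (hr : r ∈ K.ideal U),
      ∃ s : Γ(ClSub.idealMod K', v ⁻¹ᵁ U.1), GrothLib.IdealModSec.val K' (v ⁻¹ᵁ U.1) s = v.app U.1 r ∧
        a'.app (v ⁻¹ᵁ U.1) s = b'.app (v ⁻¹ᵁ U.1) s := by
    intro U r hr
    obtain ⟨s', hs'⟩ := GrothLib.IdealModSec.exists_val_eq K U hr
    have H := GrothLib.PPGen.ker_pow_le_map f' f v u hsq.w n
    have h0 : K'.subschemeι.app (v ⁻¹ᵁ U.1) (v.app U.1 r) = 0 := by
      have heq := Scheme.IdealSheafData.subschemeMap_subschemeι K' K v H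
      have e0 : (K'.subschemeι ≫ v) ⁻¹ᵁ U.1 ≤
          (Scheme.IdealSheafData.subschemeMap K' K v H ≫ K.subschemeι) ⁻¹ᵁ U.1 := by rw [heq]
      refine (GrothLib.PPGen.app_congr heq.symm U.1 e0 r).trans ?_
      have hr0 : K.subschemeι.app U.1 r = 0 := by rw [← hs']; exact GrothLib.IdealModSec.app_val K U.1 s'
      show K'.subscheme.presheaf.map (homOfLE e0).op
        ((Scheme.IdealSheafData.subschemeMap K' K v H).app _ (K.subschemeι.app U.1 r)) = 0
      rw [hr0, map_zero]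
      exact map_zero _
    obtain ⟨s, hs⟩ := (GrothLib.IdealModSec.app_kernel (ClSub.toSubscheme K') (v ⁻¹ᵁ U.1)).2 _ h0
    refine ⟨s, hs, ?_⟩
    obtain ⟨-, hφ2⟩ := hφ
    have hV : u ⁻¹ᵁ (f ⁻¹ᵁ U.1) = f' ⁻¹ᵁ (v ⁻¹ᵁ U.1) := by
      rw [← Scheme.Hom.comp_preimage, hsq.w, Scheme.Hom.comp_preimage]
    have h4 := hφ2 U.1 s' s (hs.trans (congrArg (v.app U.1) hs'.symm)) (f' ⁻¹ᵁ (v ⁻¹ᵁ U.1)) hV.ge le_rfl
    rw [show (homOfLE (le_refl (f' ⁻¹ᵁ (v ⁻¹ᵁ U.1)))).op = 𝟙 _ from rfl,
      CategoryTheory.Functor.map_id] at h4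
    have h5 : PrinPart.grSect f' n (v ⁻¹ᵁ U.1) s = (PrinPart.grMod f' n).presheaf.map (homOfLE hV.ge).op
        (φ.app (u ⁻¹ᵁ (f ⁻¹ᵁ U.1)) (OmegaSh.pullSect u (PrinPart.grMod f n) (f ⁻¹ᵁ U.1)
          (PrinPart.grSect f n U.1 s'))) := h4.symm
    rw [hval, hval, h5]
    have natG : ∀ (c : PrinPart.grMod f' n ⟶ G) (x : Γ(PrinPart.grMod f' n, u ⁻¹ᵁ (f ⁻¹ᵁ U.1))),
        c.app (f' ⁻¹ᵁ (v ⁻¹ᵁ U.1)) ((PrinPart.grMod f' n).presheaf.map (homOfLE hV.ge).op x) =
          G.presheaf.map (homOfLE hV.ge).op (c.app (u ⁻¹ᵁ (f ⁻¹ᵁ U.1)) x) :=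
      fun c x => congr($((Scheme.Modules.Hom.mapPresheaf c).naturality (homOfLE hV.ge).op) x)
    rw [natG a, natG b, ← ConcreteCategory.comp_apply (φ.app _), ← ConcreteCategory.comp_apply (φ.app _),
      ← Scheme.Modules.Hom.comp_app, ← Scheme.Modules.Hom.comp_app, hab]
  refine Scheme.Modules.hom_ext _ _ fun W => ?_
  ext t
  refine TopCat.Presheaf.section_ext (C := Ab.{u})
    (⟨((Scheme.Modules.pushforward f').obj G).presheaf, ((Scheme.Modules.pushforward f').obj G).isSheaf⟩ :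
      TopCat.Sheaf Ab X') W _ _ fun x hx => ?_
  obtain ⟨U₀, hU₀, hxU, -⟩ := exists_isAffineOpen_mem_and_subset (x := v x) (U := ⊤) trivial
  obtain ⟨V₀, hV₀, hxV, hVle⟩ := exists_isAffineOpen_mem_and_subset (x := x) (U := W ⊓ v ⁻¹ᵁ U₀) ⟨hx, hxU⟩
  let U : X.affineOpens := ⟨U₀, hU₀⟩
  let V : X'.affineOpens := ⟨V₀, hV₀⟩
  have eW : V.1 ≤ W := fun y hy => (hVle hy).1
  have eU : V.1 ≤ v ⁻¹ᵁ U.1 := fun y hy => (hVle hy).2
  let L : Submodule Γ(X', V.1) Γ(ClSub.idealMod K', V.1) :=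
    { carrier := {k | a'.app V.1 k = b'.app V.1 k}
      zero_mem' := by show a'.app V.1 0 = b'.app V.1 0; rw [map_zero, map_zero]
      add_mem' := fun {p q} hp hq => by
        show a'.app V.1 (p + q) = b'.app V.1 (p + q)
        rw [map_add, map_add, hp, hq]
      smul_mem' := fun c k hk => by
        show a'.app V.1 (c • k) = b'.app V.1 (c • k)
        rw [Scheme.Modules.Hom.app_smul, Scheme.Modules.Hom.app_smul, hk] }
  let vl : Γ(ClSub.idealMod K', V.1) →ₗ[Γ(X', V.1)] Γ(X', V.1) :=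
    { toFun := GrothLib.IdealModSec.val K' V.1
      map_add' := fun p q => map_add ((ClSub.idealModι K').app V.1).hom p q
      map_smul' := fun c k => GrothLib.IdealModSec.val_smul K' V.1 c k }
  have hK : K' = K.comap v := by
    show f'.ker ^ n = (f.ker ^ n).comap v
    rw [GrothLib.FSchSys.comap_pow, GrothLib.FSchSys.ker_eq_comap_of_isPullback hsq.flip]
  have hle : K'.ideal V ≤ L.map vl := by
    refine (congrArg (fun I : X'.IdealSheafData => I.ideal V) hK).trans_le ?_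
    rw [GrothLib.BlowUp.ideal_comap_eq_map _ v U V eU, Ideal.map_le_iff_le_comap]
    intro r hr
    obtain ⟨s, hs, hab'⟩ := hgen U r hr
    refine ⟨(ClSub.idealMod K').presheaf.map (homOfLE eU).op s, ?_, ?_⟩
    · show a'.app V.1 _ = b'.app V.1 _
      rw [natH a', natH b', hab']
    · show GrothLib.IdealModSec.val K' V.1 _ = v.appLE U.1 V.1 eU r
      refine (GrothLib.IdealModSec.val_mres K' eU s).trans ?_
      rw [hs]; rfl
  have hmem : (ClSub.idealMod K').presheaf.map (homOfLE eW).op t ∈ L := by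
    obtain ⟨k, hk, hkv⟩ := hle (GrothLib.IdealModSec.val_mem K' V ((ClSub.idealMod K').presheaf.map (homOfLE eW).op t))
    exact GrothLib.IdealModSec.val_injective K' V.1 hkv ▸ hk
  have hmem' : a'.app V.1 _ = b'.app V.1 _ := hmem
  rw [natH a', natH b'] at hmem'
  have h5 := congrArg (TopCat.Presheaf.germ ((Scheme.Modules.pushforward f').obj G).presheaf V.1 x hxV) hmem'
  rw [TopCat.Presheaf.germ_res_apply, TopCat.Presheaf.germ_res_apply] at h5
  exact h5

end Groth.Agent.S5952
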