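import Groth.Statements.S5955
import Mathlib
import Groth.Agent.Lib.PPGen.DiffAlt
import Groth.Agent.Lib.PPGen.DiffHom
-- import your own Groth.Agent.* helpers here

set_option autoImplicit false
universe u
open CategoryTheory CategoryTheory.Limits AlgebraicGeometry TopologicalSpace Opposite
open Nrm16

namespace Groth.Agent.S5955

/-- Let f : X ⟶ S be a morphism of schemes, F, G, H three O_X-modules, D : F ⟶ G a differential operator
of order at most n relative to S and D' : G ⟶ H one of order at most n'. Then D followed by D' is a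
differential operator of order at most n + n'. -/
theorem result {X S : Scheme.{u}} (f : X ⟶ S) (F G H : X.Modules) (n n' : ℕ)
    (D : F.presheaf ⟶ G.presheaf) (D' : G.presheaf ⟶ H.presheaf)
    (hD : PrinPart.IsDiffOpLE f F G n D) (hD' : PrinPart.IsDiffOpLE f G H n' D') :
    PrinPart.IsDiffOpLE f F H (n + n') (D ≫ D') := by
  have alt : ∀ {F G : X.Modules} {k : ℕ} (E : F.presheaf ⟶ G.presheaf), PrinPart.IsDiffOpLE f F G k E →
      ∀ U : X.Opens, GrothLib.PPGen.Alg.IsOrd (R := Γ(X, U)) (k + 1) (E.app (op U)).hom.toIntLinearMap := by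
    intro F G k E hE U
    refine GrothLib.PPGen.Alg.isOrd_of_alt fun a => LinearMap.ext fun t => ?_
    rw [GrothLib.PPGen.Alg.phi_prod_delta, LinearMap.zero_apply]
    exact GrothLib.PPGen.alt_of_isDiffOpLE f k F G E hE U a t
  refine GrothLib.PPGen.isDiffOpLE_of_alt f F H (n + n') (D ≫ D') ?_ ?_
  · intro V s U hU t
    show D'.app (op U) (D.app (op U) _) = _ • D'.app (op U) (D.app (op U) t)
    rw [GrothLib.PPGen.linear_of_isDiffOpLE f n F G D hD V s U hU t,
      GrothLib.PPGen.linear_of_isDiffOpLE f n' G H D' hD' V s U hU]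
  · intro U a t
    have h := GrothLib.PPGen.Alg.alt_of_isOrd (GrothLib.PPGen.Alg.isOrd_comp (R := Γ(X, U)) (n + n' + 1)
      (n + 1) (n' + 1) (by omega) _ _ (alt D hD U) (alt D' hD' U)) a
    have h' := congr($h t)
    rw [GrothLib.PPGen.Alg.phi_prod_delta, LinearMap.zero_apply] at h'
    exact h'

end Groth.Agent.S5955
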