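import Groth.Statements.S5956
import Mathlib
import Groth.Agent.Lib.PPGen.Maps
-- import your own Groth.Agent.* helpers here

set_option autoImplicit false
universe u
open CategoryTheory CategoryTheory.Limits AlgebraicGeometry TopologicalSpace Opposite
open Nrm16

namespace Groth.Agent.S5956

/-- Let f : X ⟶ S be a morphism of schemes, F and G two O_X-modules and D : F ⟶ G a differential
operator of order at most n relative to S. Then D is a differential operator of order at most m for
every m ≥ n. -/
theorem result {X S : Scheme.{u}} (f : X ⟶ S) (F G : X.Modules) {n m : ℕ} (h : n ≤ m)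
    (D : F.presheaf ⟶ G.presheaf) (hD : PrinPart.IsDiffOpLE f F G n D) :
    PrinPart.IsDiffOpLE f F G m D := by
  obtain ⟨u, hu⟩ := hD
  obtain ⟨φ, hφ⟩ := GrothLib.PPGen.exists_PMod_map f (n := n) (m := m) F
    (PrinPart.infNbhdMap (PrinPart.diagCl f) h)
    (by simp [PrinPart.pr1, PrinPart.nbhdι]) (by simp [PrinPart.pr2, PrinPart.nbhdι])
  refine ⟨φ ≫ u, fun U t => ?_⟩
  rw [Scheme.Modules.Hom.comp_app, ConcreteCategory.comp_apply, hφ, hu]

end Groth.Agent.S5956
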