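import Groth.Statements.S5961
import Mathlib
import Groth.Agent.Lib.PPGen.Sections
-- import your own Groth.Agent.* helpers here

set_option autoImplicit false
universe u
open CategoryTheory CategoryTheory.Limits AlgebraicGeometry TopologicalSpace Opposite
open Nrm16

namespace Groth.Agent.S5961

/-- Let f : X ⟶ S be a morphism of schemes, G an O_X-module and D : O_X ⟶ G a differential operator of
order at most 1 relative to S. Then D can be written in exactly one way as v + d with v : O_X ⟶ G an
O_X-linear map and d an S-derivation of O_X into G. -/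
theorem result {X S : Scheme.{u}} (f : X ⟶ S) (G : X.Modules)
    (D : (Coh.structureModule X).presheaf ⟶ G.presheaf)
    (hD : PrinPart.IsDiffOpLE f (Coh.structureModule X) G 1 D) :
    ∃! p : (Coh.structureModule X ⟶ G) × OmegaSh.Der f G,
      ∀ (U : X.Opens) (a : Γ(X, U)),
        D.app (op U) (OmegaSh.strSect X U a) = p.1.app U (OmegaSh.strSect X U a) + p.2.app U a := by
  obtain ⟨u, hu⟩ := hD
  let Dv : ∀ U : X.Opens, Γ(X, U) →+ Γ(G, U) := fun U =>
    (D.app (op U)).hom.comp (OmegaSh.strSect X U)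
  have hDv : ∀ (U : X.Opens) (a : Γ(X, U)), Dv U a = u.app U (PrinPart.dn f 1 U a) :=
    fun U a => hu U (OmegaSh.strSect X U a)
  have hres : ∀ (U V : X.Opens) (e : V ≤ U) (a : Γ(X, U)),
      Dv V (X.presheaf.map (homOfLE e).op a) = G.presheaf.map (homOfLE e).op (Dv U a) := fun U V e a =>
    congr($(D.naturality (homOfLE e).op) (OmegaSh.strSect X U a))
  have hone : ∀ (U V : X.Opens) (e : V ≤ U),
      G.presheaf.map (homOfLE e).op (Dv U 1) = Dv V 1 := fun U V e => by
    rw [← hres U V e 1, map_one]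
  have hmul : ∀ (U : X.Opens) (a b : Γ(X, U)),
      Dv U (a * b) + (a * b) • Dv U 1 = a • Dv U b + b • Dv U a := fun U a b => by
    simp only [hDv]
    rw [← Scheme.Modules.Hom.app_smul, ← Scheme.Modules.Hom.app_smul, ← Scheme.Modules.Hom.app_smul,
      ← map_add, ← map_add, GrothLib.PPGen.dn_one_mul]
  have hbase : ∀ (V : S.Opens) (s : Γ(S, V)),
      Dv (f ⁻¹ᵁ V) (f.app V s) = f.app V s • Dv (f ⁻¹ᵁ V) 1 := fun V s => by
    have h := GrothLib.PPGen.dn_base f 1 V (f ⁻¹ᵁ V) le_rfl s
    rw [show (homOfLE (le_refl (f ⁻¹ᵁ V))).op = 𝟙 _ from rfl, CategoryTheory.Functor.map_id] at h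
    have h' : PrinPart.dn f 1 (f ⁻¹ᵁ V) (f.app V s) = f.app V s • PrinPart.dn f 1 (f ⁻¹ᵁ V) 1 := h
    rw [hDv, hDv, ← Scheme.Modules.Hom.app_smul, h']
  let l : (Coh.structureModule X).presheaf ⟶ G.presheaf :=
    { app := fun U => AddCommGrpCat.ofHom
        (AddMonoidHom.mk' (fun t : Γ(Coh.structureModule X, U.unop) =>
            OmegaSh.fnSect X U.unop t • Dv U.unop 1)
          (fun s t => (congrArg (· • Dv U.unop 1)
            (map_add (OmegaSh.fnSect X U.unop) s t)).trans (add_smul _ _ _)))
      naturality := fun U V i => by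
        ext t
        show OmegaSh.fnSect X V.unop ((Coh.structureModule X).presheaf.map i t) • Dv V.unop 1 =
          G.presheaf.map i (OmegaSh.fnSect X U.unop t • Dv U.unop 1)
        rw [show i = (homOfLE i.unop.le).op from rfl, Scheme.Modules.map_smul, hone]
        rfl }
  let p1 : Coh.structureModule X ⟶ G := ⟨PresheafOfModules.homMk l fun U r m =>
      mul_smul (show Γ(X, U.unop) from r) (OmegaSh.fnSect X U.unop m) (Dv U.unop 1)⟩
  have hp1 : ∀ (U : X.Opens) (a : Γ(X, U)), p1.app U (OmegaSh.strSect X U a) = a • Dv U 1 :=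
    fun U a => rfl
  let p2 : OmegaSh.Der f G :=
    { d := fun {U} => AddMonoidHom.mk' (fun a : Γ(X, U.unop) => Dv U.unop a - a • Dv U.unop 1)
        (fun a b => by rw [map_add, add_smul]; abel)
      d_mul := fun {U} (a b : Γ(X, U.unop)) => by
        show Dv U.unop (a * b) - (a * b) • Dv U.unop 1 =
          a • (Dv U.unop b - b • Dv U.unop 1) + b • (Dv U.unop a - a • Dv U.unop 1)
        have h := hmul U.unop a b
        rw [smul_sub, smul_sub, smul_smul, smul_smul, mul_comm b a,
          eq_sub_of_add_eq h]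
        abel
      d_map := fun {U V} i (a : Γ(X, U.unop)) => by
        show Dv V.unop (X.presheaf.map i a) - (show Γ(X, V.unop) from X.presheaf.map i a) • Dv V.unop 1 =
          G.presheaf.map i (Dv U.unop a - a • Dv U.unop 1)
        rw [show i = (homOfLE i.unop.le).op from rfl, map_sub, Scheme.Modules.map_smul, hone, hres]
      d_app := fun {V} s => by
        show Dv (f ⁻¹ᵁ V.unop) (f.app V.unop s) - f.app V.unop s • Dv (f ⁻¹ᵁ V.unop) 1 = 0
        rw [hbase, sub_self] }
  refine ⟨(p1, p2), fun U a => ?_, fun q hq => ?_⟩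
  · show Dv U a = a • Dv U 1 + (Dv U a - a • Dv U 1)
    abel
  · obtain ⟨q1, q2⟩ := q
    have h1 : ∀ U : X.Opens, q1.app U (OmegaSh.strSect X U 1) = Dv U 1 := fun U => by
      have h := hq U 1
      rw [show q2.app U 1 = 0 from q2.d_one (op U), add_zero] at h
      exact h.symm
    have h2 : ∀ (U : X.Opens) (a : Γ(X, U)), q1.app U (OmegaSh.strSect X U a) = a • Dv U 1 := fun U a => by
      rw [← h1, ← Scheme.Modules.Hom.app_smul, ← OmegaSh.strSect_mul, mul_one]
    refine Prod.ext ?_ ?_
    · refine Scheme.Modules.hom_ext _ _ fun U => ?_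
      ext t
      exact h2 U (OmegaSh.fnSect X U t)
    · refine PresheafOfModules.Derivation.ext ?_
      funext U
      refine AddMonoidHom.ext fun (a : Γ(X, U.unop)) => ?_
      show q2.app U.unop a = Dv U.unop a - a • Dv U.unop 1
      have h := hq U.unop a
      rw [h2] at h
      exact eq_sub_of_add_eq ((add_comm _ _).trans h.symm)

end Groth.Agent.S5961
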