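import Groth.Statements.S5963
import Groth.Agent.Lib.SectionGr29.Basic
-- import your own Groth.Agent.* helpers here

set_option autoImplicit false
universe u
open CategoryTheory CategoryTheory.Limits AlgebraicGeometry TopologicalSpace Opposite
open Nrm16

namespace Groth.Agent.S5963

/-- Let g : X ⟶ Y be a morphism with a section f : Y ⟶ X which is a closed immersion, u : Y' ⟶ Y a
morphism, X' a fibre product of X and Y' over Y with projections v : X' ⟶ X and g' : X' ⟶ Y', and f'
: Y' ⟶ X' the induced section of g' (so f' ≫ g' = 𝟙 and f' ≫ v = u ≫ f). Let φ : u^* Gr_1(f) ⟶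
Gr_1(f') be the canonical O_{Y'}-linear map between the conormal sheaves I/I² and I'/I'² of f and
f'. Then φ is an isomorphism. (The published statement allows any section f, and also identifies,
for every n, the n-th infinitesimal neighbourhood of f', as a scheme over X' and as a scheme affine
over Y', with the base change of the n-th infinitesimal neighbourhood of f along v and along u; this
row assumes f a closed immersion, the case in which the conormal sheaves are formed here, and states
only the assertion on conormal sheaves.) -/
theorem result {X Y X' Y' : Scheme.{u}} (g : X ⟶ Y) (f : Y ⟶ X)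
    [IsClosedImmersion f] (hf : f ≫ g = 𝟙 Y) (u : Y' ⟶ Y) (v : X' ⟶ X) (g' : X' ⟶ Y')
    (hsq : IsPullback v g' g u) (f' : Y' ⟶ X') (hf' : f' ≫ g' = 𝟙 Y') (hf'v : f' ≫ v = u ≫ f)
    (φ : (Scheme.Modules.pullback u).obj (PrinPart.grMod f 1) ⟶ PrinPart.grMod f' 1)
    (hφ : PrinPart.IsGrMap f' f v u 1 φ) :
    IsIso φ := by
  have houter : IsPullback (f' ≫ g') u u (f ≫ g) := by
    rw [hf', hf]
    exact IsPullback.of_horiz_isIso ⟨by simp⟩
  have hl : IsPullback f' u v f := IsPullback.of_right houter hf'v hsq.flip
  haveI : IsClosedImmersion f' := MorphismProperty.of_isPullback hl.flip inferInstance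
  exact GrothLib.GrBC.isIso_grMap_one g f hf u v g' hsq f' hf' hf'v φ hφ

end Groth.Agent.S5963
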