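import Groth.Statements.S5964
import Groth.Agent.Lib.GrFlat29.Scheme

set_option autoImplicit false
universe u
open CategoryTheory CategoryTheory.Limits AlgebraicGeometry TopologicalSpace Opposite
open Nrm16

namespace Groth.Agent.S5964

/-- Let g : X ⟶ Y be a morphism with a section f : Y ⟶ X which is a closed immersion, u : Y' ⟶ Y a
morphism, X' a fibre product of X and Y' over Y with projections v : X' ⟶ X and g' : X' ⟶ Y', and f'
: Y' ⟶ X' the induced section of g'. Let m be such that the graded pieces Gr_k(f) = I^k/I^(k+1) of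
the ideal of f are flat O_Y-modules for every k ≤ m. Then for every n ≤ m the canonical
O_{Y'}-linear map φ : u^* Gr_n(f) ⟶ Gr_n(f') is an isomorphism. (The published statement allows any
section f, and also covers the case u flat, in which the conclusion holds for every n with no
flatness hypothesis on the graded pieces; this row assumes f a closed immersion, the case in which
the graded pieces are formed here, and states only the case of flat graded pieces.) -/
theorem result {X Y X' Y' : Scheme.{u}} (g : X ⟶ Y) (f : Y ⟶ X)
    [IsClosedImmersion f] (hf : f ≫ g = 𝟙 Y) (u : Y' ⟶ Y) (v : X' ⟶ X) (g' : X' ⟶ Y')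
    (hsq : IsPullback v g' g u) (f' : Y' ⟶ X') (hf' : f' ≫ g' = 𝟙 Y') (hf'v : f' ≫ v = u ≫ f)
    (m : ℕ) (hflat : ∀ k ≤ m, FlatMod.IsFlat (PrinPart.grMod f k)) {n : ℕ} (hn : n ≤ m)
    (φ : (Scheme.Modules.pullback u).obj (PrinPart.grMod f n) ⟶ PrinPart.grMod f' n)
    (hφ : PrinPart.IsGrMap f' f v u n φ) :
    IsIso φ := by
  have houter : IsPullback (f' ≫ g') u u (f ≫ g) := by
    rw [hf', hf]
    exact IsPullback.of_horiz_isIso ⟨by simp⟩
  have hl : IsPullback f' u v f := IsPullback.of_right houter hf'v hsq.flip
  haveI : IsClosedImmersion f' := MorphismProperty.of_isPullback hl.flip inferInstance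
  exact GrothLib.GrFlat29.isIso_grMap_flat g f hf u v g' hsq f' hf' hf'v
    (GrothLib.FSchSys.ker_eq_comap_of_isPullback hl) n (fun l hl => hflat l (hl.le.trans hn)) φ hφ

end Groth.Agent.S5964
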