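import Groth.Statements.S9838
import Groth.Agent.Lib.QCoh.Coherent

set_option autoImplicit false
open CategoryTheory CategoryTheory.Limits AlgebraicGeometry Opposite
universe u
open Desc

namespace Groth.Agent.S9838

/-- Let f : X ⟶ Y be a finite morphism of schemes and F a quasi-coherent O_X-module. The pushforward
f_*F is of finite type as an O_Y-module exactly when F itself is of finite type as an O_X-module. -/
theorem result {X Y : Scheme.{u}} (f : X ⟶ Y) [IsFinite f]
    (F : X.Modules) [F.IsQuasicoherent] :
    SheafOfModules.IsFiniteType (R := X.ringCatSheaf) F ↔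
      SheafOfModules.IsFiniteType (R := Y.ringCatSheaf) ((Scheme.Modules.pushforward f).obj F) := by
  refine ⟨fun h => GrothLib.QCoh.isFiniteType_pushforward f F h, fun h => ?_⟩
  have hq := GrothLib.QCoh.isQuasicoherent_pushforward f F
  refine GrothLib.QCoh.isFiniteType_of_moduleFinite F (fun V : Y.affineOpens => f ⁻¹ᵁ V.1)
    (TopologicalSpace.IsOpenCover.mk (by rw [← f.preimage_iSup, iSup_affineOpens_eq_top, Scheme.Hom.preimage_top]))
    (fun V => V.2.preimage f) fun V => ?_
  obtain ⟨s, hs⟩ := (GrothLib.QCoh.moduleFinite_of_isFiniteType _ h V.2).fg_top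
  refine ⟨⟨s, eq_top_iff.2 fun m hm0 => ?_⟩⟩
  clear hm0
  have hm : m ∈ Submodule.span Γ(Y, V.1) (s : Set Γ((Scheme.Modules.pushforward f).obj F, V.1)) := hs.ge Submodule.mem_top
  induction hm using Submodule.span_induction with
  | mem z hz => exact Submodule.subset_span hz
  | zero => exact zero_mem _
  | add a b _ _ ha hb => exact add_mem ha hb
  | smul c a _ ha => exact Submodule.smul_mem _ (f.app V.1 c) ha

end Groth.Agent.S9838
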