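import Groth.Statements.S5970
import Groth.Agent.Lib.VBDiff1.Main
-- import your own Groth.Agent.* helpers here

set_option autoImplicit false
universe u
open CategoryTheory CategoryTheory.Limits AlgebraicGeometry TopologicalSpace Opposite
open Nrm16

namespace Groth.Agent.S5970

/-- Let S be a scheme, E a quasi-coherent O_S-module and A its symmetric algebra, given as a
quasi-coherent O_S-algebra with a module map j : E ⟶ A having the universal property; let X = V(E)
be the relative spectrum of A with structure morphism p : X ⟶ S, and let (Ω', d) be a sheaf of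
differentials of X over S (d a universal S-derivation of O_X into Ω'). Let φ : p^*E ⟶ Ω' be an
O_X-linear map such that, whenever a local section t of E over U and a function t' on p⁻¹U
correspond (t' maps to j(t) under the canonical identification of p_*O_X with A), φ sends the
pullback of t to d t'. Then φ is an isomorphism. -/
theorem result {S : Scheme.{u}} (E : S.Modules) (hE : Coh.IsQCoh E)
    (A : RelSpec.QCAlg S) (j : E ⟶ A.toModule) (hA : RelSpec.IsSymAlg E A j)
    (Ω' : A.spec.Modules) (d : OmegaSh.Der A.π Ω') (hd : OmegaSh.IsUniversal d)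
    (φ : (Scheme.Modules.pullback A.π).obj E ⟶ Ω')
    (hφ : ∀ (U : S.Opens) (t : Γ(E, U)) (t' : Γ(A.spec, A.π ⁻¹ᵁ U)),
      A.gammaMap.app (op U) t' = j.app U t →
        φ.app (A.π ⁻¹ᵁ U) (OmegaSh.pullSect A.π E U t) = d.app (A.π ⁻¹ᵁ U) t') :
    IsIso φ :=
  GrothLib.VBDiff1.isIso_of_compat hE A j hA hd φ hφ

end Groth.Agent.S5970
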