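import Groth.Statements.S5973
import Mathlib
import Groth.Agent.Lib.PPGen.Finite
import Groth.Agent.Lib.IdealModSec.Basic
import Groth.Agent.Lib.QCoh.Abelian
import Groth.Agent.Lib.Cohom.Serre
import Groth.Agent.Lib.FittSheaf.Pullback
-- import your own Groth.Agent.* helpers here

set_option autoImplicit false
universe u
open CategoryTheory CategoryTheory.Limits AlgebraicGeometry TopologicalSpace Opposite
open Nrm16

namespace Groth.Agent.S5973

/-- Let f : Y ⟶ X be a closed immersion which is locally of finite presentation. Then for every n the
n-th graded piece Gr_n(f) = I^n/I^(n+1) of the ideal of f, as an O_Y-module, is quasi-coherent of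
finite type. (The published statement allows any immersion locally of finite presentation; this row
states the case of a closed immersion.) -/
theorem result {Y X : Scheme.{u}} (f : Y ⟶ X) [IsClosedImmersion f]
    [LocallyOfFinitePresentation f] (n : ℕ) :
    Coh.IsCoh (PrinPart.grMod f n) := by
  let K := f.ker ^ n
  haveI hq : (ClSub.idealMod K).IsQuasicoherent := by
    have := GrothLib.Cohom.isQuasicoherent_structureModule X
    have := GrothLib.Cohom.isQuasicoherent_structureModule K.subscheme
    haveI : ((Scheme.Modules.pushforward K.subschemeι).obj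
        (Coh.structureModule K.subscheme)).IsQuasicoherent :=
      GrothLib.QCoh.isQuasicoherent_pushforward _ _
    exact GrothLib.QCoh.isQuasicoherent_kernel _
  have hFT : CohB1.IsFT (ClSub.idealMod K) := by
    refine (GrothLib.QCoh.isFiniteType_iff_moduleFinite _).2 fun W hW => ?_
    let U : X.affineOpens := ⟨W, hW⟩
    have hfg : (K.ideal U).FG := by
      rw [Scheme.IdealSheafData.ideal_pow]
      exact Submodule.FG.pow (GrothLib.PPGen.ker_ideal_fg f U) n
    let vl : Γ(ClSub.idealMod K, W) →ₗ[Γ(X, W)] Γ(X, W) :=
      { toFun := GrothLib.IdealModSec.val K W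
        map_add' := fun p q => map_add ((ClSub.idealModι K).app W).hom p q
        map_smul' := fun c k => GrothLib.IdealModSec.val_smul K W c k }
    have hr : LinearMap.range vl = K.ideal U := by
      refine le_antisymm ?_ fun a ha => GrothLib.IdealModSec.exists_val_eq K U ha
      rintro _ ⟨k, rfl⟩
      exact GrothLib.IdealModSec.val_mem K U k
    haveI : Module.Finite Γ(X, W) (LinearMap.range vl) := Module.Finite.iff_fg.2 (hr ▸ hfg)
    exact Module.Finite.equiv (LinearEquiv.ofInjective vl (GrothLib.IdealModSec.val_injective K W)).symm
  haveI := GrothLib.FittSheaf.isQuasicoherent_pullback f (ClSub.idealMod K)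
  unfold PrinPart.grMod
  exact ⟨this,
    (GrothLib.QCoh.isFiniteType_iff_moduleFinite _).2 fun _ hW =>
      GrothLib.FittSheaf.moduleFinite_pullback f (ClSub.idealMod K) hFT hW⟩

end Groth.Agent.S5973
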