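import Groth.Statements.S5975
import Mathlib
import Groth.Agent.Lib.PPGen.DiffBasic
-- import your own Groth.Agent.* helpers here

set_option autoImplicit false
universe u
open CategoryTheory CategoryTheory.Limits AlgebraicGeometry TopologicalSpace Opposite
open Nrm16

namespace Groth.Agent.S5975

/-- Let f : X ⟶ Y and g : Y ⟶ Z be morphisms of schemes. Let (Ω_{Y/Z}, d), (Ω_{X/Z}, d') and (Ω_{X/Y},
d'') be sheaves of differentials (universal derivations) and let c₁ : f^*Ω_{Y/Z} ⟶ Ω_{X/Z} and c₂ :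
Ω_{X/Z} ⟶ Ω_{X/Y} be the canonical maps compatible with the derivations. Then c₂ is an epimorphism
and the image of c₁ is the kernel of c₂: the sequence f^*Ω_{Y/Z} ⟶ Ω_{X/Z} ⟶ Ω_{X/Y} ⟶ 0 is exact. -/
theorem result {X Y Z : Scheme.{u}} (f : X ⟶ Y) (g : Y ⟶ Z)
    (ΩY : Y.Modules) (dY : OmegaSh.Der g ΩY) (hY : OmegaSh.IsUniversal dY)
    (ΩX : X.Modules) (dX : OmegaSh.Der (f ≫ g) ΩX) (hX : OmegaSh.IsUniversal dX)
    (ΩXY : X.Modules) (dXY : OmegaSh.Der f ΩXY) (hXY : OmegaSh.IsUniversal dXY)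
    (c₁ : (Scheme.Modules.pullback f).obj ΩY ⟶ ΩX) (hc₁ : OmegaSh.IsDiffCompat f dY dX c₁)
    (c₂ : (Scheme.Modules.pullback (𝟙 X)).obj ΩX ⟶ ΩXY) (hc₂ : OmegaSh.IsDiffCompat (𝟙 X) dX dXY c₂) :
    Epi c₂ ∧
      imageSubobject c₁ = kernelSubobject ((Scheme.Modules.pullbackId X).inv.app ΩX ≫ c₂) := by
  let q : ΩX ⟶ ΩXY := (Scheme.Modules.pullbackId X).inv.app ΩX ≫ c₂
  have hq : ∀ (U : X.Opens) (s : Γ(X, U)), q.app U (dX.app U s) = dXY.app U s := fun U s =>
    (congrArg (c₂.app U) (GrothLib.PPGen.pullbackId_inv_app ΩX U (dX.app U s))).trans (hc₂ U s)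
  haveI hqe : Epi q := ⟨fun {G} a b hab => GrothLib.PPGen.hom_ext_universal hXY a b fun U s => by
    rw [← hq]
    exact congr($(hab).app U (dX.app U s))⟩
  refine ⟨epi_of_epi ((Scheme.Modules.pullbackId X).inv.app ΩX) c₂, ?_⟩
  have w : c₁ ≫ q = 0 := by
    let K : (Scheme.Modules.pullback f).obj ΩY ⟶ ΩXY := c₁ ≫ q
    let adj := Scheme.Modules.pullbackPushforwardAdjunction f
    refine (adj.homEquiv _ _).injective (GrothLib.PPGen.hom_ext_universal hY _ _ fun U s => ?_)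
    refine (congr($(adj.homEquiv_unit _ _ K).app U (dY.app U s))).trans
      (Eq.trans ?_ (congr($(adj.homEquiv_unit _ _ (0 : (Scheme.Modules.pullback f).obj ΩY ⟶ ΩXY)).app U (dY.app U s))).symm)
    refine (congrArg (q.app (f ⁻¹ᵁ U)) (hc₁ U s)).trans ((hq _ _).trans ?_)
    exact dXY.d_app (X := Opposite.op U) s
  refine GrothLib.PPGen.image_eq_kernel_of_cokernel c₁ q w fun {G} k hk => ?_
  let d' : OmegaSh.Der f G :=
    { d := fun {U} => (dX.postcomp k.val).d (X := U)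
      d_mul := fun a b => (dX.postcomp k.val).d_mul a b
      d_map := fun i a => (dX.postcomp k.val).d_map i a
      d_app := fun {V} s => by
        show k.app (f ⁻¹ᵁ V.unop) (dX.app (f ⁻¹ᵁ V.unop) (f.app V.unop s)) = 0
        rw [← hc₁ V.unop s]
        exact congr($(hk).app (f ⁻¹ᵁ V.unop) (OmegaSh.pullSect f ΩY V.unop (dY.app V.unop s))) }
  obtain ⟨l, hl, -⟩ := hXY G d'
  refine ⟨l, GrothLib.PPGen.hom_ext_universal hX _ _ fun U s => ?_⟩
  refine (congrArg (l.app U) (hq U s)).trans ?_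
  exact PresheafOfModules.Derivation.congr_d hl (X := Opposite.op U) s

end Groth.Agent.S5975
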