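import Groth.Statements.S5977
import Mathlib
import Groth.Agent.Lib.PPGen.Gen
-- import your own Groth.Agent.* helpers here

set_option autoImplicit false
universe u
open CategoryTheory CategoryTheory.Limits AlgebraicGeometry TopologicalSpace Opposite
open Nrm16

namespace Groth.Agent.S5977

/-- Let f : Y ⟶ Z be a morphism and j : X ⟶ Y a closed immersion, and let φ : j^* P^n_{Y/Z} ⟶ P^n_{X/Z}
be the canonical O_X-linear map of sheaves of principal parts of order n, the one sending the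
pullback of d^n b to d^n (j♯ b). Then φ is an epimorphism. (The published statement also identifies
the kernel of φ as the ideal generated by the pullback of d^n of the ideal of j; this row states the
surjectivity.) -/
theorem result {X Y Z : Scheme.{u}} (f : Y ⟶ Z) (j : X ⟶ Y) [IsClosedImmersion j] (n : ℕ)
    (φ : (Scheme.Modules.pullback j).obj (PrinPart.P f n) ⟶ PrinPart.P (j ≫ f) n)
    (hφ : PrinPart.IsPMap f (j ≫ f) j n φ) :
    Epi φ := by
  refine ⟨fun {G} a b hab => ?_⟩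
  refine GrothLib.PPGen.hom_ext_dP (j ≫ f) n _ a b fun V t => ?_
  have nat : ∀ (c : PrinPart.P (j ≫ f) n ⟶ G) (W : X.Opens) (e : W ≤ V)
      (s : Γ(PrinPart.P (j ≫ f) n, V)),
      c.app W ((PrinPart.P (j ≫ f) n).presheaf.map (homOfLE e).op s) =
        G.presheaf.map (homOfLE e).op (c.app V s) :=
    fun c W e s => congr($((Scheme.Modules.Hom.mapPresheaf c).naturality (homOfLE e).op) s)
  refine TopCat.Presheaf.section_ext (C := Ab.{u}) (⟨G.presheaf, G.isSheaf⟩ : TopCat.Sheaf Ab X) V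
    _ _ fun x hx => ?_
  obtain ⟨U, hU, b₀, hb⟩ : ∃ (U : Y.Opens) (hU : j x ∈ U) (b₀ : Γ(Y, U)),
      j.stalkMap x (Y.presheaf.germ U (j x) hU b₀) =
        X.presheaf.germ V x hx (OmegaSh.fnSect X V t) := by
    obtain ⟨η, hη⟩ := j.stalkMap_surjective x (X.presheaf.germ V x hx (OmegaSh.fnSect X V t))
    obtain ⟨U, hU, b₀, rfl⟩ := Y.presheaf.exists_germ_eq η
    exact ⟨U, hU, b₀, hη⟩
  rw [Scheme.Hom.germ_stalkMap_apply] at hb
  obtain ⟨W, hW, i₁, i₂, hWeq⟩ := TopCat.Presheaf.germ_eq (C := CommRingCat.{u}) X.presheaf x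
    (show x ∈ j ⁻¹ᵁ U from hU) hx (j.app U b₀) (OmegaSh.fnSect X V t) hb
  -- on the common open
  have h1 := hφ U b₀
  have h3 := congr($(hab).app (j ⁻¹ᵁ U) (OmegaSh.pullSect j (PrinPart.P f n) U
    (PrinPart.dn f n U b₀)))
  rw [Scheme.Modules.Hom.comp_app, ConcreteCategory.comp_apply, Scheme.Modules.Hom.comp_app,
    ConcreteCategory.comp_apply, h1] at h3
  have e₁ : W ≤ j ⁻¹ᵁ U := i₁.le
  have e₂ : W ≤ V := i₂.le
  have hd : (PrinPart.P (j ≫ f) n).presheaf.map (homOfLE e₂).op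
      (PrinPart.dP (j ≫ f) n (Coh.structureModule X) V t) =
      (PrinPart.P (j ≫ f) n).presheaf.map (homOfLE e₁).op
        (PrinPart.dn (j ≫ f) n (j ⁻¹ᵁ U) (j.app U b₀)) := by
    rw [PrinPart.dn, AddMonoidHom.comp_apply, ← PrinPart.dP_map, ← PrinPart.dP_map]
    exact congrArg _ hWeq.symm
  have nat' : ∀ (c : PrinPart.P (j ≫ f) n ⟶ G) (s : Γ(PrinPart.P (j ≫ f) n, j ⁻¹ᵁ U)),
      c.app W ((PrinPart.P (j ≫ f) n).presheaf.map (homOfLE e₁).op s) =
        G.presheaf.map (homOfLE e₁).op (c.app (j ⁻¹ᵁ U) s) :=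
    fun c s => congr($((Scheme.Modules.Hom.mapPresheaf c).naturality (homOfLE e₁).op) s)
  have h4 : G.presheaf.map (homOfLE e₂).op (a.app V (PrinPart.dP (j ≫ f) n _ V t)) =
      G.presheaf.map (homOfLE e₂).op (b.app V (PrinPart.dP (j ≫ f) n _ V t)) := by
    rw [← nat a W e₂, ← nat b W e₂, hd, nat', nat', h3]
  have h5 := congrArg (TopCat.Presheaf.germ G.presheaf W x hW) h4
  rw [TopCat.Presheaf.germ_res_apply, TopCat.Presheaf.germ_res_apply] at h5
  exact h5

end Groth.Agent.S5977
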