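import Groth.Statements.S5978
import Mathlib
import Groth.Agent.Lib.PPGen.OmegaP1
import Groth.Agent.Lib.PPGen.OmegaGen2
-- import your own Groth.Agent.* helpers here

set_option autoImplicit false
universe u
open CategoryTheory CategoryTheory.Limits AlgebraicGeometry TopologicalSpace Opposite
open Nrm16

namespace Groth.Agent.S5978

/-- Let f : X ⟶ S be a quasi-separated morphism, Ω_{X/S} its sheaf of differentials (the conormal sheaf
of the diagonal) with its derivation d, e : O_X ⟶ P^1_{X/S} the O_X-linear map s ↦ s·1 and ι :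
Ω_{X/S} ⟶ P^1_{X/S} the O_X-linear map with ι(d s) = d^1 s − s·1 for every local function s. Then
the map O_X ⊕ Ω_{X/S} ⟶ P^1_{X/S} induced by e and ι is an isomorphism of O_X-modules for the left
structure of P^1_{X/S}; in other words Ω_{X/S} is identified with the augmentation ideal of
P^1_{X/S} and d s = d^1 s − s. (The published text takes this as the definition of Ω_{X/S} for every
f; here Ω_{X/S} is the conormal sheaf of the diagonal, formed for quasi-separated f, and the
identification is stated.) -/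
theorem result {X S : Scheme.{u}} (f : X ⟶ S) [QuasiSeparated f]
    (e : Coh.structureModule X ⟶ PrinPart.P f 1)
    (he : ∀ (U : X.Opens) (s : Γ(X, U)), e.app U (OmegaSh.strSect X U s) = s • PrinPart.dn f 1 U 1)
    (ι : Omega.sheaf f ⟶ PrinPart.P f 1)
    (hι : ∀ (U : X.Opens) (s : Γ(X, U)),
      ι.app U ((OmegaSh.dOmega f).app U s) = PrinPart.dn f 1 U s - s • PrinPart.dn f 1 U 1) :
    IsIso (coprod.desc e ι) := by
  let G : X.Modules := Coh.structureModule X ⨿ Omega.sheaf f
  let iO : Coh.structureModule X ⟶ G := coprod.inl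
  let iW : Omega.sheaf f ⟶ G := coprod.inr
  let δ : OmegaSh.Der f G := (OmegaSh.dOmega f).postcomp iW.val
  obtain ⟨u, hu⟩ := GrothLib.PPGen.exists_hom_of_derivation f iO δ
  have hδ : ∀ (U : X.Opens) (s : Γ(X, U)), δ.app U s = iW.app U ((OmegaSh.dOmega f).app U s) := fun U s => rfl
  have hδ1 : ∀ U : X.Opens, δ.app U 1 = 0 := fun U => δ.d_one (op U)
  refine ⟨u, ?_, ?_⟩
  · refine coprod.hom_ext ?_ ?_
    · rw [coprod.inl_desc_assoc, Category.comp_id]
      refine Scheme.Modules.hom_ext _ _ fun U => ?_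
      ext t
      obtain ⟨s, rfl⟩ : ∃ s, OmegaSh.strSect X U s = t := ⟨OmegaSh.fnSect X U t, rfl⟩
      show u.app U (e.app U (OmegaSh.strSect X U s)) = iO.app U (OmegaSh.strSect X U s)
      rw [he, Scheme.Modules.Hom.app_smul, hu, hδ1, add_zero, ← Scheme.Modules.Hom.app_smul,
        ← OmegaSh.strSect_mul, mul_one]
    · rw [coprod.inr_desc_assoc, Category.comp_id]
      refine GrothLib.PPGen.hom_ext_dOmega f _ _ fun U s => ?_
      rw [Scheme.Modules.Hom.comp_app, ConcreteCategory.comp_apply, hι, map_sub,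
        Scheme.Modules.Hom.app_smul, hu, hu, hδ1, add_zero, hδ, ← Scheme.Modules.Hom.app_smul,
        ← OmegaSh.strSect_mul, mul_one, add_sub_cancel_left]
  · refine GrothLib.PPGen.hom_ext_dP f 1 (Coh.structureModule X) _ _ fun U t => ?_
    obtain ⟨s, rfl⟩ : ∃ s, OmegaSh.strSect X U s = t := ⟨OmegaSh.fnSect X U t, rfl⟩
    have h2 : PrinPart.dP f 1 (Coh.structureModule X) U (OmegaSh.strSect X U s) = PrinPart.dn f 1 U s := rfl
    rw [h2, Scheme.Modules.Hom.comp_app, ConcreteCategory.comp_apply, hu, map_add, hδ]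
    have h3 : ∀ (A : X.Modules) (i : A ⟶ G) (k : A ⟶ PrinPart.P f 1) (hk : i ≫ coprod.desc e ι = k) (x : Γ(A, U)),
        (coprod.desc e ι).app U (i.app U x) = k.app U x := by
      intro A i k hk x
      exact congr($(hk).app U x)
    rw [h3 _ iO e (coprod.inl_desc _ _), h3 _ iW ι (coprod.inr_desc _ _), he, hι]
    show _ = PrinPart.dn f 1 U s
    abel

end Groth.Agent.S5978
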