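import Groth.Statements.S5980
import Mathlib
import Groth.Agent.Lib.OmegaSheaf.Basic
import Groth.Agent.Lib.OmegaAff.Basic
import Groth.Agent.Lib.DualRing.SchemeLocus
import Groth.Agent.Lib.ConormalZero1.Affine
-- import your own Groth.Agent.* helpers here

set_option autoImplicit false
universe u
open CategoryTheory CategoryTheory.Limits AlgebraicGeometry TopologicalSpace Opposite
open Nrm16 TensorProduct

namespace Groth.Agent.S5980

/-- Consider a point y of Y and an immersion j : Y ⟶ X that is quasi-compact and locally of finite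
presentation. The stalk at y of the conormal sheaf N_{Y/X} = I/I² is zero exactly when y has an open
neighbourhood U in Y on which the restriction of j is an open immersion. (The published statement
covers every immersion locally of finite presentation. Here j is additionally assumed quasi-compact,
since in that case the conormal sheaf used here is the one attached to j.) -/
theorem result {Y X : Scheme.{u}} (j : Y ⟶ X) [IsImmersion j]
    [QuasiCompact j] [LocallyOfFinitePresentation j] (y : Y) :
    (∃ U : Y.Opens, y ∈ U ∧ IsOpenImmersion (U.ι ≫ j)) ↔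
      Subsingleton ((Omega.conormal j).presheaf.stalk y) := by
  classical
  obtain ⟨_, ⟨(V : X.Opens), hV, rfl⟩, hyV, hVsub⟩ := X.isBasis_affineOpens.exists_subset_of_mem_open
    (show j y ∈ (j.coborderRange : Set X) from subset_coborder ⟨y, rfl⟩) j.coborderRange.2
  let k := hV.fromSpec
  haveI : IsClosedImmersion (pullback.snd j k) := by
    refine IsClosedImmersion.of_isPreimmersion _ ?_
    rw [Scheme.Pullback.range_snd]
    have hcl : IsClosed (j.liftCoborder.base '' Set.univ) := j.liftCoborder.isClosedEmbedding.isClosedMap _ isClosed_univ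
    obtain ⟨C, hC, hCe⟩ : ∃ C : Set X, IsClosed C ∧ Set.range j = C ∩ (j.coborderRange : Set X) := by
      rw [Set.image_univ] at hcl
      obtain ⟨C, hC, hCe⟩ := j.coborderRange.ι.isEmbedding.isInducing.isClosed_iff.1 hcl
      refine ⟨C, hC, ?_⟩
      have : Set.range j = j.coborderRange.ι '' Set.range j.liftCoborder := by
        rw [← Set.range_comp]
        conv_lhs => rw [← j.liftCoborder_ι]
        rfl
      rw [this, show Set.range (j.liftCoborder : Y → _) = j.coborderRange.ι ⁻¹' C from hCe.symm,
        Set.image_preimage_eq_inter_range, Scheme.Opens.range_ι]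
    rw [hCe, Set.preimage_inter]
    convert hC.preimage k.continuous using 1
    refine Set.inter_eq_left.2 fun z _ => hVsub ?_
    exact hV.range_fromSpec.subset ⟨z, rfl⟩
  obtain ⟨I, e, he⟩ := IsClosedImmersion.Spec_iff.1 (inferInstance : IsClosedImmersion (pullback.snd j k))
  let i' : Spec (CommRingCat.of (Γ(X, V) ⧸ I)) ⟶ Spec (CommRingCat.of Γ(X, V)) :=
    Spec.map (CommRingCat.ofHom (Ideal.Quotient.mk I))
  let a : Spec (CommRingCat.of (Γ(X, V) ⧸ I)) ⟶ Y := e.inv ≫ pullback.fst j k
  have H : IsPullback i' a k j := (IsPullback.of_hasPullback j k).flip.of_iso e (Iso.refl _) (Iso.refl _) (Iso.refl _)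
    (by simp [i', he]) (by simp [a]) (by simp) (by simp)
  obtain ⟨z, hz⟩ : y ∈ Set.range (pullback.fst j k) := by
    rw [Scheme.Pullback.range_fst]
    exact (show j y ∈ Set.range k by rw [hV.range_fromSpec]; exact hyV)
  let q : PrimeSpectrum (Γ(X, V) ⧸ I) := e.hom z
  have haq : a q = y := by
    show pullback.fst j k (e.inv (e.hom z)) = y
    rw [← Scheme.Hom.comp_apply e.hom e.inv, e.hom_inv_id]; exact hz
  have hfg : I.FG := by
    haveI : LocallyOfFinitePresentation i' := MorphismProperty.of_isPullback H.flip ‹_›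
    have hp : (Ideal.Quotient.mk I).FinitePresentation :=
      (HasRingHomProperty.Spec_iff (P := @LocallyOfFinitePresentation)).1 ‹LocallyOfFinitePresentation i'›
    haveI : Algebra.FinitePresentation Γ(X, V) (Γ(X, V) ⧸ I) := RingHom.finitePresentation_algebraMap.1 hp
    have h := Algebra.FinitePresentation.ker_fG_of_surjective (Ideal.Quotient.mkₐ Γ(X, V) I) Ideal.Quotient.mk_surjective
    rwa [show RingHom.ker (Ideal.Quotient.mkₐ Γ(X, V) I).toRingHom = I from Ideal.mk_ker] at h
  -- the stalk of the conormal sheaf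
  obtain ⟨eN⟩ := GrothLib.OmegaSheaf.nonempty_pullback_conormal j i' a k H
  obtain ⟨eT⟩ := GrothLib.OmegaAff.nonempty_conormal_iso Γ(X, V) (Γ(X, V) ⧸ I) (Iso.refl _)
  have hst : Subsingleton ((Omega.conormal j).presheaf.stalk y) ↔
      q ∉ Module.support (Γ(X, V) ⧸ I) ((Γ(X, V) ⧸ I) ⊗[Γ(X, V)] (RingHom.ker (algebraMap Γ(X, V) (Γ(X, V) ⧸ I)))) := by
    rw [← GrothLib.DualRing.nontrivial_tilde_stalk_iff (R := CommRingCat.of (Γ(X, V) ⧸ I)) (ModuleCat.of _ _) q,
      not_nontrivial_iff_subsingleton, ← haq]
    refine (AddEquiv.toEquiv (Iso.addCommGroupIsoToAddEquiv ?_)).subsingleton_congr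
    exact ((Scheme.Modules.restrictStalkNatIso a q).app (Omega.conormal j)).symm ≪≫
      (Scheme.Modules.toPresheaf (Spec (CommRingCat.of (Γ(X, V) ⧸ I))) ⋙
        TopCat.Presheaf.stalkFunctor Ab.{u} (q : Spec (CommRingCat.of (Γ(X, V) ⧸ I)))).mapIso
        ((Scheme.Modules.restrictFunctorIsoPullback a).app (Omega.conormal j) ≪≫ eN ≪≫
          eqToIso (congrArg Omega.conormal (Category.comp_id _).symm) ≪≫ eT)
  have hk : RingHom.ker (algebraMap Γ(X, V) (Γ(X, V) ⧸ I)) = I := Ideal.mk_ker
  rw [hst, hk]
  constructor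
  · rintro ⟨U, hyU, hU⟩
    refine GrothLib.ConormalZero1.subsingleton_of_killed I q ?_
    let W := a ⁻¹ᵁ U
    have hW : q ∈ W := (show a q ∈ U by rw [haq]; exact hyU)
    haveI : IsOpenImmersion (W.ι ≫ i') := by
      haveI : IsOpenImmersion ((W.ι ≫ i') ≫ k) := by
        rw [Category.assoc, H.w, ← Category.assoc, ← morphismRestrict_ι, Category.assoc]
        infer_instance
      exact IsOpenImmersion.of_comp _ k
    have hinj : Function.Injective (i'.stalkMap q).hom := by
      have h1 : Function.Injective ((W.ι ≫ i').stalkMap ⟨q, hW⟩).hom :=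
        (ConcreteCategory.bijective_of_isIso ((W.ι ≫ i').stalkMap ⟨q, hW⟩)).1
      rw [Scheme.Hom.stalkMap_comp] at h1
      exact Function.Injective.of_comp (f := (W.ι.stalkMap ⟨q, hW⟩).hom) h1
    intro x hx
    let p := PrimeSpectrum.comap (Ideal.Quotient.mk I) q
    let σR : _ ≃+* Localization.AtPrime p.asIdeal := (Spec.stalkIso (CommRingCat.of Γ(X, V)) p).commRingCatIsoToRingEquiv
    let σS : _ ≃+* Localization.AtPrime q.asIdeal := (Spec.stalkIso (CommRingCat.of (Γ(X, V) ⧸ I)) q).commRingCatIsoToRingEquiv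
    have hloc : ∀ z, σS (i'.stalkMap q z) =
        Localization.localRingHom p.asIdeal q.asIdeal (Ideal.Quotient.mk I) rfl (σR z) := fun z => by
      rw [← Scheme.localRingHom_comp_stalkIso]
      exact σS.apply_symm_apply _
    have h0 : i'.stalkMap q (σR.symm (algebraMap Γ(X, V) _ x)) = 0 := by
      apply σS.injective
      rw [hloc, σR.apply_symm_apply, Localization.localRingHom_to_map, Ideal.Quotient.eq_zero_iff_mem.2 hx, map_zero,
        map_zero]
    have h1 : algebraMap Γ(X, V) (Localization.AtPrime p.asIdeal) x = 0 := by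
      have h2 : σR.symm (algebraMap Γ(X, V) _ x) = 0 := hinj (h0.trans (map_zero _).symm)
      have h3 := congrArg σR h2
      rwa [σR.apply_symm_apply, map_zero] at h3
    obtain ⟨⟨b, hb⟩, hbx⟩ := (IsLocalization.map_eq_zero_iff p.asIdeal.primeCompl _ x).1 h1
    exact ⟨b, hb, hbx⟩
  · intro h
    obtain ⟨W, hqW, hW⟩ := GrothLib.ConormalZero1.exists_open_of_killed I q hfg
      (GrothLib.ConormalZero1.killed_of_subsingleton I q hfg h)
    refine ⟨a ''ᵁ W, ⟨q, hqW, haq⟩, ?_⟩
    haveI : IsOpenImmersion (W.ι ≫ i') := hW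
    rw [← Scheme.Hom.isoImage_inv_ι a W]
    simp only [Category.assoc]
    rw [← H.w]
    rw [← Category.assoc W.ι]
    infer_instance

end Groth.Agent.S5980
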