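import Groth.Statements.S5981
import Mathlib
import Groth.Agent.Lib.PPGen.Gen
-- import your own Groth.Agent.* helpers here

set_option autoImplicit false
universe u
open CategoryTheory CategoryTheory.Limits AlgebraicGeometry TopologicalSpace Opposite
open Nrm16

namespace Groth.Agent.S5981

/-- Let f : X ⟶ Y and g : Y ⟶ Z be morphisms of schemes and n a natural number, and let φ : (𝟙_X)^*
P^n_{X/Z} ⟶ P^n_{X/Y} be the canonical O_X-linear map of sheaves of principal parts of order n, the
one sending the pullback of d^n b (relative to Z) to d^n b (relative to Y) for every local function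
b. Then φ is an epimorphism. (The published statement also describes the kernel as the ideal
generated by the image of the augmentation ideal of f^* P^n_{Y/Z}; this row states the
surjectivity.) -/
theorem result {X Y Z : Scheme.{u}} (f : X ⟶ Y) (g : Y ⟶ Z) (n : ℕ)
    (φ : (Scheme.Modules.pullback (𝟙 X)).obj (PrinPart.P (f ≫ g) n) ⟶ PrinPart.P f n)
    (hφ : PrinPart.IsPMap (f ≫ g) f (𝟙 X) n φ) :
    Epi φ := by
  refine ⟨fun {G} a b hab => ?_⟩
  refine GrothLib.PPGen.hom_ext_dP f n _ a b fun U t => ?_
  have ht : PrinPart.dP f n (Coh.structureModule X) U t = PrinPart.dn f n U (OmegaSh.fnSect X U t) := rfl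
  rw [ht]
  have h1 := hφ U (OmegaSh.fnSect X U t)
  have h2 : (𝟙 X : X ⟶ X).app U (OmegaSh.fnSect X U t) = OmegaSh.fnSect X U t := rfl
  rw [h2] at h1
  have h3 := congr($(hab).app ((𝟙 X : X ⟶ X) ⁻¹ᵁ U) (OmegaSh.pullSect (𝟙 X) (PrinPart.P (f ≫ g) n) U
    (PrinPart.dn (f ≫ g) n U (OmegaSh.fnSect X U t))))
  rw [Scheme.Modules.Hom.comp_app, ConcreteCategory.comp_apply, Scheme.Modules.Hom.comp_app,
    ConcreteCategory.comp_apply, h1] at h3
  exact h3

end Groth.Agent.S5981
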