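import Groth.Statements.S5985
import Groth.Agent.Lib.Weight.FiniteIsolated
-- import your own Groth.Agent.* helpers here

set_option autoImplicit false
set_option backward.isDefEq.respectTransparency false
universe u
open CategoryTheory AlgebraicGeometry
open Unram

open CategoryTheory CategoryTheory.Limits AlgebraicGeometry Topology

namespace Groth.Agent.S5985

/-- Let f : X ⟶ Y be separated and locally of finite type, and y a point of Y whose fibre f⁻¹(y) is
finite (hence discrete). Then there are an étale morphism g : Y' ⟶ Y, a point y' of Y' with g(y') =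
y inducing an isomorphism of residue fields κ(y) ≅ κ(y'), and two complementary open subschemes V, W
of X' = X ×_Y Y' such that V ⟶ Y' is finite and W contains no point of X' lying over y'. -/
theorem result {X Y : Scheme.{u}} (f : X ⟶ Y)
    [LocallyOfFiniteType f] [IsSeparated f] (y : Y) (hfin : (f ⁻¹' {y}).Finite) :
    ∃ (Y' : Scheme.{u}) (g : Y' ⟶ Y) (y' : Y'), Etale g ∧ g y' = y ∧
      IsIso (g.residueFieldMap y') ∧
      ∃ (V W : (Limits.pullback f g).Opens), IsCompl V W ∧
        IsFinite (V.ι ≫ Limits.pullback.snd f g) ∧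
        ∀ x : ↥(Limits.pullback f g), Limits.pullback.snd f g x = y' → x ∈ V := by
  haveI : Finite (f ⁻¹' {y}) := hfin.to_subtype
  haveI : Finite (f.fiber y) := (f.fiberHomeo y).finite_iff.mpr ‹_›
  obtain ⟨Y', g, y', hu, V, hVc, hVfin, hV⟩ :=
    GrothLib.Weight.exists_finite_isolated_part f y (Set.toFinite _)
  obtain ⟨hg, hgy, hgb⟩ := id hu
  haveI := hg
  refine ⟨Y', g, y', hg, hgy, (ConcreteCategory.isIso_iff_bijective _).mpr hgb, V,
    ⟨_, hVc.1.isOpen_compl⟩, ⟨disjoint_iff_inf_le.mpr fun z hz => (hz.2 hz.1).elim,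
      codisjoint_iff_le_sup.mpr fun z _ => ?_⟩, hVfin, fun z hz => ?_⟩
  · exact (em (z ∈ (V : Set ↥(pullback f g))))
  · let F := pullback.snd f g ⁻¹' {y'}
    let φ : F → f ⁻¹' {y} := fun w => ⟨pullback.fst f g w.1, by
      show f (pullback.fst f g w.1) = y
      rw [← Scheme.Hom.comp_apply, pullback.condition, Scheme.Hom.comp_apply, w.2, hgy]⟩
    haveI : Finite F := Finite.of_injective φ fun a b h => by
      obtain ⟨v, -, -, hv⟩ := GrothLib.Weight.existsUnique_point_over f g y' hgb (φ a).1
        ((φ a).2.trans hgy.symm)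
      exact Subtype.ext ((hv a.1 rfl a.2).trans (hv b.1 (congrArg Subtype.val h).symm b.2).symm)
    haveI : Finite ((pullback.snd f g).fiber y') :=
      ((pullback.snd f g).fiberHomeo y').finite_iff.mpr ‹_›
    obtain ⟨w, hw⟩ : z ∈ Set.range ((pullback.snd f g).fiberι y') := by
      rw [Scheme.Hom.range_fiberι]; exact hz
    by_contra hzV
    exact hV w (by rw [hw]; exact hzV) (isOpen_discrete _)

end Groth.Agent.S5985
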