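import Groth.Statements.S5987
import Groth.Agent.Lib.SopLift4

set_option autoImplicit false
universe u
open EGA418

namespace Groth.Agent.S5987

/-- Let A be a Noetherian local ring and p a prime ideal of A such that the local ring A_p is
Cohen–Macaulay, of dimension s; let t_1, …, t_s be a system of parameters of A_p (elements of its
maximal ideal such that A_p/(t_1, …, t_s) has dimension 0). Then there are elements x_1, …, x_s of p
which form part of a system of parameters of A, in the sense that dim A/(x_1, …, x_s) + s = dim A,
and elements a_1, …, a_s of A outside p, such that for every i the image of x_i in A_p is congruent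
to a_i t_i modulo the ideal (t_1, …, t_{i-1}) A_p. (The published statement asks for the image of
x_i to be congruent to t_i itself; this row allows the factor a_i outside p, which is what the
published proof gives, since it first multiplies each t_i by a unit of A_p to bring it into the
image of A. The published form fails already for s = 1: for A the localization of k[X, Y] at (X, Y),
p = (X) and t_1 = X/Y, the congruence modulo the zero ideal asks for an element of A with image X/Y
in A_p, and there is none.) -/
theorem result (A : Type u) [CommRing A]
    [IsNoetherianRing A] [IsLocalRing A] (p : Ideal A) [p.IsPrime]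
    [LocCoh.IsCohenMacaulayLocalRing (Localization.AtPrime p)] (s : ℕ)
    (hs : ringKrullDim (Localization.AtPrime p) = s) (t : Fin s → Localization.AtPrime p)
    (ht : ∀ i, t i ∈ IsLocalRing.maximalIdeal (Localization.AtPrime p))
    (hsop : ringKrullDim (Localization.AtPrime p ⧸ Ideal.span (Set.range t)) = 0) :
    ∃ x a : Fin s → A, (∀ i, x i ∈ p) ∧ (∀ i, a i ∉ p) ∧
      ringKrullDim (A ⧸ Ideal.span (Set.range x)) + (s : WithBot ℕ∞) = ringKrullDim A ∧
      ∀ i : Fin s, algebraMap A (Localization.AtPrime p) (x i) -
          algebraMap A (Localization.AtPrime p) (a i) * t i ∈
        Ideal.span (t '' {j : Fin s | j < i}) := by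
  exact Groth.Agent.Lib.SopLift4.exists_lift p s hs t ht hsop

end Groth.Agent.S5987
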