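import Groth.Statements.S5988
import Mathlib
import Groth.Agent.Lib.CKaehler2.Imperf

set_option autoImplicit false
universe u
open scoped TensorProduct
open EGA418

namespace Groth.Agent.S5988

open IsLocalRing


/-- Let k be a field of characteristic p > 0, C a complete Noetherian local k-algebra which is an
integral domain whose residue field is a finite extension of k, n the dimension of C and L a
fraction field of C. Let Υ be the module of imperfection of L over k, namely the kernel of the
canonical map L ⊗_k Ω_k ⟶ Ω_L on absolute differentials. Then Υ is a finite-dimensional L-vector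
space and dim_L Ω_{L/k} ≥ n + dim_L Υ, the dimension of Ω_{L/k} being taken as a cardinal. (The
published statement also asserts that Ω_{L/k} is finite-dimensional; this row does not, since that
fails when k has infinite degree over its subfield of p-th powers: for k = F_p(t_1, t_2, …) and C =
k[[T]] the L-vector space Ω_{L/k} is infinite-dimensional. The published proof establishes exactly
the finiteness of Υ and the inequality, through a power-series subalgebra k[[T_1, …, T_n]] of C over
which C is finite.) -/
theorem result (p : ℕ) [Fact p.Prime]
    (k C L : Type u) [Field k] [CharP k p] [CommRing C] [IsDomain C] [IsNoetherianRing C] [IsLocalRing C]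
    [Algebra k C] [IsAdicComplete (IsLocalRing.maximalIdeal C) C]
    [Module.Finite k (IsLocalRing.ResidueField C)] (n : ℕ) (hn : ringKrullDim C = n)
    [Field L] [Algebra C L] [IsFractionRing C L] [Algebra k L] [IsScalarTower k C L] :
    Module.Finite L (LinearMap.ker (KaehlerDifferential.mapBaseChange ℤ k L)) ∧
      (n : Cardinal.{u}) + Module.rank L (LinearMap.ker (KaehlerDifferential.mapBaseChange ℤ k L)) ≤
        Module.rank L (Ω[L⁄k]) := by
  obtain ⟨h1, h2⟩ := GrothLib.CKaehler2.rank_kaehler_fractionField k C L hn
  haveI := h1
  refine ⟨h1, ?_⟩
  rw [h2, ← Module.finrank_eq_rank L (LinearMap.ker (KaehlerDifferential.mapBaseChange ℤ k L))]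
  exact add_le_add (GrothLib.CKaehler2.le_rank_kaehler_fractionRing k n) le_rfl

end Groth.Agent.S5988
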