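import Groth.Statements.S5991
import Mathlib
import Groth.Agent.Lib.CKaehler2.Basic

set_option autoImplicit false
universe u
open scoped TensorProduct
open EGA418

namespace Groth.Agent.S5991

open TensorProduct


/-- Let k be a field, R and S complete Noetherian local k-algebras such that the module of differentials
of the residue field of S over k is finite-dimensional, and let S be a finite R-algebra through a
k-algebra homomorphism R → S. Write m for the maximal ideal of S and complete m-adically. Then the
S-module Ω_{S/R} is m-adically complete (it is its own completion), and the sequence of completed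
modules (S ⊗_R Ω_{R/k})^ ⟶ (Ω_{S/k})^ ⟶ (Ω_{S/R})^ ⟶ 0, induced by the canonical maps S ⊗_R Ω_{R/k}
⟶ Ω_{S/k} ⟶ Ω_{S/R}, is exact: the second map is surjective and its kernel is the image of the
first. -/
theorem result (k R S : Type u) [Field k] [CommRing R] [IsNoetherianRing R]
    [IsLocalRing R] [Algebra k R] [IsAdicComplete (IsLocalRing.maximalIdeal R) R]
    [CommRing S] [IsNoetherianRing S] [IsLocalRing S] [Algebra k S]
    [IsAdicComplete (IsLocalRing.maximalIdeal S) S] [Algebra R S] [IsScalarTower k R S]
    [Module.Finite R S] [Module.Finite (IsLocalRing.ResidueField S) (Ω[IsLocalRing.ResidueField S⁄k])] :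
    IsAdicComplete (IsLocalRing.maximalIdeal S) (Ω[S⁄R]) ∧
      Function.Surjective (AdicCompletion.map (IsLocalRing.maximalIdeal S) (KaehlerDifferential.map k R S S)) ∧
      LinearMap.range (AdicCompletion.map (IsLocalRing.maximalIdeal S) (KaehlerDifferential.mapBaseChange k R S)) =
        LinearMap.ker (AdicCompletion.map (IsLocalRing.maximalIdeal S) (KaehlerDifferential.map k R S S)) := by
  haveI : Module.Finite S (Ω[S⁄R]) := inferInstance
  haveI := GrothLib.AdicLim.isAdicComplete_of_finite (IsLocalRing.maximalIdeal S) (Ω[S⁄R])
  refine ⟨inferInstance, AdicCompletion.map_surjective _ (KaehlerDifferential.map_surjective k R S), ?_⟩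
  set m := IsLocalRing.maximalIdeal S
  set g := AdicCompletion.map m (KaehlerDifferential.map k R S S)
  set f := AdicCompletion.map m (KaehlerDifferential.mapBaseChange k R S)
  have hg : (g.restrictScalars S) = (AdicCompletion.ofLinearEquiv m (Ω[S⁄R])).toLinearMap ∘ₗ
      GrothLib.CKaehler2.toRel k S R :=
    GrothLib.CKaehler2.hom_ext k S fun a => by
      rw [LinearMap.comp_apply, GrothLib.CKaehler2.toRel_dhat, GrothLib.CKaehler2.dhat_apply,
        LinearMap.restrictScalars_apply, AdicCompletion.map_of, KaehlerDifferential.map_D]
      simp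
  refine le_antisymm ?_ ?_
  · rintro _ ⟨z, rfl⟩
    rw [LinearMap.mem_ker, AdicCompletion.map_comp_apply]
    rw [show KaehlerDifferential.map k R S S ∘ₗ KaehlerDifferential.mapBaseChange k R S = 0 from
      LinearMap.ext fun w => (KaehlerDifferential.exact_mapBaseChange_map k R S).apply_apply_eq_zero w]
    simp
  · intro x hx
    have hx' : GrothLib.CKaehler2.toRel k S R x = 0 :=
      (AdicCompletion.ofLinearEquiv m (Ω[S⁄R])).injective (by
        rw [map_zero]
        exact (LinearMap.congr_fun hg x).symm.trans hx)
    have hmem : x ∈ GrothLib.CKaehler2.relSpan k S R := by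
      rw [← GrothLib.CKaehler2.ker_toRel]; exact hx'
    have hle : GrothLib.CKaehler2.relSpan k S R ≤ LinearMap.range (f.restrictScalars S) := by
      refine Submodule.span_le.2 ?_
      rintro _ ⟨r, rfl⟩
      refine ⟨AdicCompletion.of m _ ((1 : S) ⊗ₜ[R] KaehlerDifferential.D k R r), ?_⟩
      rw [LinearMap.restrictScalars_apply, AdicCompletion.map_of, KaehlerDifferential.mapBaseChange_tmul,
        one_smul, KaehlerDifferential.map_D]
      rfl
    obtain ⟨y, hy⟩ := hle hmem
    exact ⟨y, hy⟩

end Groth.Agent.S5991
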