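import Groth.Statements.S5992
import Mathlib
import Groth.Agent.Lib.CKaehler2.Insep

set_option autoImplicit false
universe u
open scoped TensorProduct
open EGA418

namespace Groth.Agent.S5992

/-- Let k be a field of characteristic exponent p such that k is finite over its subfield k^p (the
Frobenius endomorphism of k is a finite ring map), and A a complete Noetherian local k-algebra which
is an integral domain, not a field, whose residue field is a finite extension of k; let n = dim A.
Then there is a finite purely inseparable extension k' of k such that, A' denoting the reduction of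
k' ⊗_k A modulo its nilradical, A' is a local domain and there is a local k'-algebra homomorphism
from the power series ring k'[[T_1, …, T_n]] to A' which is injective, makes A' a finite algebra,
and is unramified at the zero ideal of A' (so the fraction field of A' is a finite separable
extension of that of k'[[T_1, …, T_n]]). -/
theorem result (p : ℕ) (k A : Type u) [Field k]
    [ExpChar k p] (hk : (frobenius k p).Finite) [CommRing A] [IsDomain A] [IsNoetherianRing A] [IsLocalRing A]
    [Algebra k A] [IsAdicComplete (IsLocalRing.maximalIdeal A) A]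
    [Module.Finite k (IsLocalRing.ResidueField A)] (hA : ¬ IsField A) (n : ℕ) (hn : ringKrullDim A = n) :
    ∃ (k' : Type u) (_ : Field k') (_ : Algebra k k'), Module.Finite k k' ∧ IsPurelyInseparable k k' ∧
      ∃ (_ : IsDomain ((k' ⊗[k] A) ⧸ nilradical (k' ⊗[k] A)))
        (_ : IsLocalRing ((k' ⊗[k] A) ⧸ nilradical (k' ⊗[k] A)))
        (_ : Algebra (MvPowerSeries (Fin n) k') ((k' ⊗[k] A) ⧸ nilradical (k' ⊗[k] A)))
        (_ : IsScalarTower k' (MvPowerSeries (Fin n) k') ((k' ⊗[k] A) ⧸ nilradical (k' ⊗[k] A))),
        IsLocalHom (algebraMap (MvPowerSeries (Fin n) k') ((k' ⊗[k] A) ⧸ nilradical (k' ⊗[k] A))) ∧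
        Function.Injective (algebraMap (MvPowerSeries (Fin n) k') ((k' ⊗[k] A) ⧸ nilradical (k' ⊗[k] A))) ∧
        Module.Finite (MvPowerSeries (Fin n) k') ((k' ⊗[k] A) ⧸ nilradical (k' ⊗[k] A)) ∧
        Algebra.IsUnramifiedAt (MvPowerSeries (Fin n) k') (⊥ : Ideal ((k' ⊗[k] A) ⧸ nilradical (k' ⊗[k] A))) := by
  obtain ⟨k', _, _, hfin, hpi, hsep⟩ := GrothLib.CKaehler2.exists_separable_model k A hn
  haveI := hfin
  haveI := hpi
  refine ⟨k', inferInstance, inferInstance, hfin, hpi, ?_⟩
  obtain ⟨hprime, hnoeth, hdim, hfield, hloc, hcomp, hres⟩ := GrothLib.CKaehler2.reduction_basic k k' A hn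
  haveI := hprime
  haveI := hnoeth
  haveI := hloc
  haveI := hcomp
  haveI := hres
  haveI : IsDomain ((k' ⊗[k] A) ⧸ nilradical (k' ⊗[k] A)) := Ideal.Quotient.isDomain _
  haveI : ExpChar k' p := expChar_of_injective_algebraMap (algebraMap k k').injective p
  obtain ⟨alg, tow, h1, h2, h3, h4⟩ := GrothLib.CKaehler2.exists_unramified_presentation k' p
    (GrothLib.CKaehler2.frobenius_finite_of_finite k k' p hk) ((k' ⊗[k] A) ⧸ nilradical (k' ⊗[k] A)) (hfield hA) hdim
    (GrothLib.CKaehler2.isGeometricallyReduced_fraction k k' A hsep)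
  exact ⟨inferInstance, hloc, alg, tow, h1, h3, h2, h4⟩

end Groth.Agent.S5992
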