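import Groth.Statements.S5994
import Groth.Agent.Lib.RatSecUnib.Basic


set_option autoImplicit false
universe u
open CategoryTheory CategoryTheory.Limits AlgebraicGeometry
open Unram

namespace Groth.Agent.S5994

/-- Let Y be a reduced scheme whose irreducible components form a locally finite family, f : X ⟶ Y a
separated, locally of finite type, formally unramified morphism, U a dense open subset of Y and u :
U ⟶ X a section of f over U (a representative of a rational section of f). Let y be a point of Y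
whose local ring is geometrically unibranch and such that the closure of u(U) in X meets the fibre
f⁻¹(y). Then u extends to a section over a neighbourhood of y: there are an open V ∋ y and a section
v : V ⟶ X of f over V agreeing with u on U ∩ V. Equivalently: at a geometrically unibranch point
outside the domain of definition of a rational section, the closure of the image of that section
does not meet the fibre. -/
theorem result {X Y : Scheme.{u}} [IsReduced Y]
    (hcomp : LocallyFinite (fun Z : ↥(irreducibleComponents ↥Y) => (Z : Set ↥Y)))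
    (f : X ⟶ Y) [IsSeparated f] [LocallyOfFiniteType f] [FormallyUnramified f]
    (U : Y.Opens) (hU : Dense (U : Set ↥Y)) (u : (U : Scheme.{u}) ⟶ X) (hu : u ≫ f = U.ι)
    (y : Y) (hy : CAlg2.IsGeomUnibranch (Y.presheaf.stalk y))
    (hZ : (closure (Set.range u) ∩ f ⁻¹' {y}).Nonempty) :
    ∃ (V : Y.Opens) (v : (V : Scheme.{u}) ⟶ X), y ∈ V ∧ v ≫ f = V.ι ∧
      Y.homOfLE (inf_le_left : U ⊓ V ≤ U) ≫ u = Y.homOfLE (inf_le_right : U ⊓ V ≤ V) ≫ v := by
  obtain ⟨x, hx, hxy⟩ := hZ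
  have hxy : f x = y := hxy
  subst hxy
  obtain ⟨V0, hyV, hV0⟩ := GrothLib.RatSecUnib.exists_integral_nhd hcomp (f x) hy
  haveI := hV0
  let U0 : (V0 : Scheme.{u}).Opens := V0.ι ⁻¹ᵁ U
  let c0 := (V0.ι ∣_ U) ≫ u
  have hc0 : c0 ≫ f = U0.ι ≫ V0.ι := by
    rw [Category.assoc, hu, morphismRestrict_ι]
  let u0 : (U0 : Scheme.{u}) ⟶ (f ⁻¹ᵁ V0 : Scheme.{u}) := IsOpenImmersion.lift (f ⁻¹ᵁ V0).ι c0 (by
    rintro _ ⟨t, rfl⟩
    rw [Scheme.Opens.range_ι]
    show f (c0 t) ∈ V0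
    rw [← Scheme.Hom.comp_apply, hc0]
    exact t.1.2)
  have hu0 : u0 ≫ (f ⁻¹ᵁ V0).ι = c0 := IsOpenImmersion.lift_fac _ _ _
  have hu0f : u0 ≫ (f ∣_ V0) = U0.ι := by
    rw [← cancel_mono V0.ι, Category.assoc, morphismRestrict_ι, ← Category.assoc, hu0, hc0]
  haveI : FormallyUnramified (f ∣_ V0) := by
    haveI : FormallyUnramified ((f ∣_ V0) ≫ V0.ι) := by
      rw [morphismRestrict_ι]; exact GrothLib.Unibranch.formallyUnramified_comp_openImmersion _ _
    exact FormallyUnramified.of_comp (f ∣_ V0) V0.ι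
  let x0 : (f ⁻¹ᵁ V0 : Scheme.{u}) := ⟨x, hyV⟩
  have hpt : V0.ι ((f ∣_ V0) x0) = f x := by
    rw [← Scheme.Hom.comp_apply, morphismRestrict_ι]; rfl
  have hx0 : x0 ∈ closure (Set.range u0) := by
    refine closure_mono (s := (f ⁻¹ᵁ V0).ι ⁻¹' Set.range u) ?_ ?_
    · rintro z ⟨t, ht⟩
      have htV : t.1 ∈ V0 := by
        have h1 : f (u t) = t.1 := by rw [← Scheme.Hom.comp_apply, hu]; rfl
        rw [← h1, ht]
        exact z.2
      refine ⟨⟨⟨t.1, htV⟩, t.2⟩, ?_⟩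
      apply (f ⁻¹ᵁ V0).ι.isOpenEmbedding.injective
      refine (Scheme.Hom.comp_apply u0 (f ⁻¹ᵁ V0).ι _).symm.trans ?_
      rw [hu0]
      refine Eq.trans ?_ ht
      show u ((V0.ι ∣_ U) _) = u t
      refine congrArg u (U.ι.isOpenEmbedding.injective ?_)
      refine (Scheme.Hom.comp_apply (V0.ι ∣_ U) U.ι _).symm.trans ?_
      rw [morphismRestrict_ι]
      rfl
    · rw [← (f ⁻¹ᵁ V0).ι.isOpenEmbedding.isOpenMap.preimage_closure_eq_closure_preimage
        (f ⁻¹ᵁ V0).ι.continuous]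
      exact hx
  have hy0 : CAlg2.IsGeomUnibranch ((V0 : Scheme.{u}).presheaf.stalk ((f ∣_ V0) x0)) :=
    GrothLib.BrnchNhd.isGeomUnibranch_stalk_of_etale V0.ι _ (hpt ▸ hy)
  obtain ⟨V', v', hxV', hv', hagree⟩ :=
    GrothLib.RatSecUnib.exists_section_of_integral (f ∣_ V0) U0 u0 hu0f x0 hy0 hx0
  let j := V'.ι ≫ V0.ι
  refine ⟨j.opensRange, j.isoOpensRange.inv ≫ v' ≫ (f ⁻¹ᵁ V0).ι, ?_, ?_, ?_⟩
  · exact ⟨⟨(f ∣_ V0) x0, hxV'⟩, hpt⟩
  · rw [Category.assoc, Category.assoc, ← morphismRestrict_ι, ← Category.assoc v', hv']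
    exact j.isoOpensRange_inv_comp
  · let c := IsOpenImmersion.lift ((U0 ⊓ V').ι ≫ V0.ι) (U ⊓ j.opensRange).ι (by
      rintro _ ⟨⟨z, hzU, hzV⟩, rfl⟩
      obtain ⟨a, ha⟩ := hzV
      have hzU' : V0.ι a.1 ∈ U := (show V0.ι a.1 = z from ha) ▸ hzU
      exact ⟨⟨a.1, hzU', a.2⟩, ha⟩)
    have hc : c ≫ (U0 ⊓ V').ι ≫ V0.ι = (U ⊓ j.opensRange).ι := IsOpenImmersion.lift_fac _ _ _
    have h1 : Y.homOfLE (inf_le_left : U ⊓ j.opensRange ≤ U) =
        c ≫ (V0 : Scheme.{u}).homOfLE (inf_le_left : U0 ⊓ V' ≤ U0) ≫ (V0.ι ∣_ U) := by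
      rw [← cancel_mono U.ι, Scheme.homOfLE_ι, Category.assoc, Category.assoc, morphismRestrict_ι,
        ← Category.assoc _ U0.ι, Scheme.homOfLE_ι, hc]
    have h2 : Y.homOfLE (inf_le_right : U ⊓ j.opensRange ≤ j.opensRange) ≫ j.isoOpensRange.inv =
        c ≫ (V0 : Scheme.{u}).homOfLE (inf_le_right : U0 ⊓ V' ≤ V') := by
      rw [← cancel_mono j, Category.assoc, j.isoOpensRange_inv_comp, Scheme.homOfLE_ι, Category.assoc]
      show _ = c ≫ _ ≫ V'.ι ≫ V0.ι
      rw [← Category.assoc _ V'.ι, Scheme.homOfLE_ι, hc]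
    rw [← Category.assoc, h2, h1, Category.assoc, Category.assoc, Category.assoc]
    show c ≫ _ ≫ c0 = _
    rw [← hu0, ← Category.assoc _ u0, hagree, Category.assoc]

end Groth.Agent.S5994
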