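import Groth.Statements.S5995
import Groth.Agent.Lib.Chev28.RatSecClopen

set_option autoImplicit false
universe u
open CategoryTheory AlgebraicGeometry
open Unram

namespace Groth.Agent.S5995

/-- Let Y be a reduced scheme whose irreducible components form a locally finite family and all of whose
local rings are geometrically unibranch, f : X ⟶ Y a separated, locally of finite type, formally
unramified morphism, and u : U ⟶ X a section of f over a dense open U of Y which cannot be extended:
whenever v is a section of f over an open V agreeing with u on U ∩ V, V is contained in U (so U is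
the domain of definition of the rational section defined by u). Then the image u(U) is an open and
closed subset of X. -/
theorem result {X Y : Scheme.{u}} [IsReduced Y]
    (hcomp : LocallyFinite (fun Z : ↥(irreducibleComponents ↥Y) => (Z : Set ↥Y)))
    (f : X ⟶ Y) [IsSeparated f] [LocallyOfFiniteType f] [FormallyUnramified f]
    (U : Y.Opens) (hU : Dense (U : Set ↥Y)) (u : (U : Scheme.{u}) ⟶ X) (hu : u ≫ f = U.ι)
    (hY : ∀ y : Y, CAlg2.IsGeomUnibranch (Y.presheaf.stalk y))
    (hmax : ∀ (V : Y.Opens) (v : (V : Scheme.{u}) ⟶ X), v ≫ f = V.ι →
      Y.homOfLE (inf_le_left : U ⊓ V ≤ U) ≫ u = Y.homOfLE (inf_le_right : U ⊓ V ≤ V) ≫ v → V ≤ U) :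
    IsOpen (Set.range u) ∧ IsClosed (Set.range u) := by
  exact GrothLib.Chev28.isClopen_range_section hcomp f U hU u hu hY hmax

end Groth.Agent.S5995
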