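import Groth.Statements.S5998
import Groth.Agent.Lib.JacQuot4

set_option autoImplicit false
universe u
open SGA1

namespace Groth.Agent.S5998

open TensorProduct in
/-- Let R be a Noetherian ring, A a smooth R-algebra, I an ideal of A, P a prime ideal of A/I and q its
preimage in A. Then A/I is smooth over R at P (that is, the local ring of A/I at P is formally
smooth over R) exactly when there are finitely many elements g_1, ..., g_p of I generating the ideal
I·A_q whose differentials dg_i have linearly independent images in κ(q) ⊗_A Ω_{A/R}. -/
theorem result
    (R A : Type u) [CommRing R] [CommRing A] [IsNoetherianRing R] [Algebra R A] [Algebra.Smooth R A]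
    (I : Ideal A) (P : Ideal (A ⧸ I)) [P.IsPrime] :
    letI q : Ideal A := P.comap (Ideal.Quotient.mk I)
    Algebra.IsSmoothAt R P ↔ ∃ s : Finset A, (↑s : Set A) ⊆ (I : Set A) ∧
      Ideal.map (algebraMap A (Localization.AtPrime q)) I =
        Ideal.span ((algebraMap A (Localization.AtPrime q)) '' (↑s : Set A)) ∧
      LinearIndependent q.ResidueField
        (fun g : ↥s => (1 : q.ResidueField) ⊗ₜ[A] KaehlerDifferential.D R A (g : A)) := by


  exact Groth.Agent.Lib.JacQuot4.isSmoothAt_quotient_iff R A I P _ rfl

end Groth.Agent.S5998
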