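import Groth.Statements.S5999
import Groth.Agent.Lib.JacAt21.Basic
-- import your own Groth.Agent.* helpers here

set_option autoImplicit false
universe u
open SGA1

namespace Groth.Agent.S5999

open TensorProduct in
/-- Let R be a Noetherian ring, A an R-algebra of finite type, F an element of A, P a prime ideal of
A/(F) and q its preimage in A, and suppose A is smooth over R at q. Then the hypersurface A/(F) is
smooth over R at P if and only if either F is zero in the local ring A_q (F vanishes on a
neighbourhood of q) or the image dF(q) of the differential of F in κ(q) ⊗_A Ω_{A/R} is nonzero. -/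
theorem result
    (R A : Type u) [CommRing R] [CommRing A] [IsNoetherianRing R] [Algebra R A] [Algebra.FiniteType R A]
    (F : A) (P : Ideal (A ⧸ Ideal.span ({F} : Set A))) [P.IsPrime]
    (hX : Algebra.IsSmoothAt R (P.comap (Ideal.Quotient.mk (Ideal.span ({F} : Set A))))) :
    letI q : Ideal A := P.comap (Ideal.Quotient.mk (Ideal.span ({F} : Set A)))
    Algebra.IsSmoothAt R P ↔ algebraMap A (Localization.AtPrime q) F = 0 ∨
      (1 : q.ResidueField) ⊗ₜ[A] KaehlerDifferential.D R A F ≠ 0 := by
  set q : Ideal A := P.comap (Ideal.Quotient.mk (Ideal.span ({F} : Set A))) with hq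
  haveI : q.IsPrime := inferInstanceAs (P.comap _).IsPrime
  rw [Groth.Agent.Lib.JacAt21.isSmoothAt_quotient_iff_of_isSmoothAt R A _ P q hq hX]
  have hFq : F ∈ q := by
    rw [hq, Ideal.mem_comap, Ideal.Quotient.eq_zero_iff_mem.mpr (Ideal.mem_span_singleton_self F)]
    exact P.zero_mem
  have hmap : Ideal.map (algebraMap A (Localization.AtPrime q)) (Ideal.span ({F} : Set A)) =
      Ideal.span {algebraMap A (Localization.AtPrime q) F} := by
    rw [Ideal.map_span, Set.image_singleton]
  rw [hmap]
  have hF0 : algebraMap A q.ResidueField F = 0 := by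
    rw [Ideal.algebraMap_residueField_eq_zero]; exact hFq
  constructor
  · rintro ⟨s, hs, hspan, hli⟩
    by_cases hd : (1 : q.ResidueField) ⊗ₜ[A] KaehlerDifferential.D R A F = 0
    · left
      have hempty : s = ∅ := by
        rw [Finset.eq_empty_iff_forall_notMem]
        intro g hg
        refine hli.ne_zero ⟨g, hg⟩ ?_
        obtain ⟨a, rfl⟩ := Ideal.mem_span_singleton'.mp (hs hg)
        show (1 : q.ResidueField) ⊗ₜ[A] KaehlerDifferential.D R A (a * F) = 0
        rw [Derivation.leibniz, TensorProduct.tmul_add, TensorProduct.tmul_smul,
          TensorProduct.tmul_smul, hd, smul_zero, zero_add, TensorProduct.smul_tmul',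
          Algebra.smul_def, hF0, zero_mul, TensorProduct.zero_tmul]
      subst hempty
      simpa [Ideal.span_singleton_eq_bot] using hspan
    · exact Or.inr hd
  · by_cases h0 : algebraMap A (Localization.AtPrime q) F = 0
    · intro _
      refine ⟨∅, by simp, by simp [h0], linearIndependent_empty_type⟩
    · rintro (h | h)
      · exact absurd h h0
      · refine ⟨{F}, by simpa using Ideal.mem_span_singleton_self F, by simp, ?_⟩
        haveI : Unique (↥({F} : Finset A)) :=
          ⟨⟨⟨F, Finset.mem_singleton_self F⟩⟩, fun x => Subtype.ext (Finset.mem_singleton.mp x.2)⟩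
        refine LinearIndependent.of_subsingleton (default : ↥({F} : Finset A)) ?_
        rw [show ((default : ↥({F} : Finset A)) : A) = F from Finset.mem_singleton.mp (default : ↥({F} : Finset A)).2]
        exact h

end Groth.Agent.S5999
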