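import Groth.Statements.S6000
import Groth.Agent.Lib.FlatUniv21.Criterion

set_option autoImplicit false
universe u v
open SGA1

namespace Groth.Agent.S6000

open TensorProduct in
/-- Let A be a commutative ring, I a nilpotent ideal of A and M an A-module. Then M is A-flat if and
only if M/IM = (A/I) ⊗_A M is flat over A/I and Tor_1^A(M, A/I) = 0, the latter condition being
expressed as injectivity of the canonical map I ⊗_A M ⟶ A ⊗_A M. -/
theorem result (A : Type u) [CommRing A]
    (I : Ideal A) (hI : IsNilpotent I) (M : Type v) [AddCommGroup M] [Module A M] :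
    Module.Flat A M ↔ Module.Flat (A ⧸ I) ((A ⧸ I) ⊗[A] M) ∧
      Function.Injective (LinearMap.rTensor M (Submodule.subtype I)) := by
  constructor
  · intro h
    exact ⟨inferInstance, Module.Flat.rTensor_preserves_injective_linearMap _ I.injective_subtype⟩
  · rintro ⟨h2, h1⟩
    exact GrothLib.FlatUniv21.flat_of_isNilpotent I hI ((LinearMap.lTensor_inj_iff_rTensor_inj _ _).mpr h1) h2

end Groth.Agent.S6000
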