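import Groth.Statements.S6001
import Groth.Agent.S18536
import Groth.Agent.S2651
import Groth.Agent.Lib.Ratliff.Excellent
import Groth.Agent.Lib.NormalHom.Basic
import Groth.Agent.Lib.Excellent.FormalFibres
import Groth.Agent.Lib.Excellent.Localization
import Groth.Agent.Lib.GRingComplete.Excellent
import Groth.Agent.Lib.Hensel.Reduced

set_option autoImplicit false
universe u
open SGA1

namespace Groth.Agent.S6001


section

open IsLocalRing TensorProduct

/-- Completion is injective along a flat local homomorphism with trivial closed fibre. -/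
theorem cpl_map_injective {B E : Type u} [CommRing B] [IsLocalRing B] [IsNoetherianRing B]
    [CommRing E] [IsLocalRing E] [IsNoetherianRing E] [Algebra B E] [Module.FaithfullyFlat B E]
    (hm : (maximalIdeal B).map (algebraMap B E) = maximalIdeal E)
    [IsReduced (EGA4.Cpl E)] : IsReduced (EGA4.Cpl B) := by
  obtain ⟨ψ, hψ⟩ := Groth.Agent.S18536.exists_cpl_map (algebraMap B E) (Ideal.map_le_iff_le_comap.1 hm.le)
  refine isReduced_of_injective ψ fun x y hxy => ?_
  refine AdicCompletion.ext_evalₐ fun n => ?_
  obtain ⟨b, hb⟩ := Ideal.Quotient.mk_surjective (AdicCompletion.evalₐ (maximalIdeal B) n (x - y))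
  rw [← sub_eq_zero, ← map_sub, ← hb, Ideal.Quotient.eq_zero_iff_mem,
    ← Ideal.comap_map_eq_self_of_faithfullyFlat (B := E) (maximalIdeal B ^ n), Ideal.mem_comap, Ideal.map_pow, hm]
  have h1 : x - y - algebraMap B _ b ∈ (maximalIdeal B ^ n).map (algebraMap B (EGA4.Cpl B)) := by
    rw [Groth.Agent.S18536.mem_pow_map_iff', map_sub, AlgHom.commutes, ← hb]
    exact sub_self _
  have h2 : (0 : EGA4.Cpl E) - algebraMap E _ (algebraMap B E b) ∈
      (maximalIdeal E ^ n).map (algebraMap E (EGA4.Cpl E)) := by
    have h := Ideal.mem_map_of_mem ψ h1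
    rw [map_sub, map_sub, hxy, sub_self, hψ, Ideal.map_map,
      show ψ.comp (algebraMap B (EGA4.Cpl B)) = (algebraMap E (EGA4.Cpl E)).comp (algebraMap B E) from RingHom.ext hψ,
      ← Ideal.map_map, Ideal.map_pow, hm] at h
    exact h
  rw [Groth.Agent.S18536.mem_pow_map_iff', map_sub, map_zero, AlgHom.commutes, zero_sub, neg_eq_zero] at h2
  exact Ideal.Quotient.eq_zero_iff_mem.1 h2

/-- An excellent reduced local ring is analytically reduced. -/
theorem isReduced_cpl_of_isExcellent {E : Type u} [CommRing E] [IsLocalRing E] [IsNoetherianRing E]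
    [IsReduced E] (hE : EGA4.IsExcellent E) : IsReduced (EGA4.Cpl E) := by
  haveI := GrothLib.Excellent.faithfullyFlat_cpl E
  refine GrothLib.Excellent.isReduced_of_flat (A := E) fun p hp => ?_
  exact GrothLib.Excellent.isGeometricallyReduced_of_isGeomNormal
    ((GrothLib.NormalHom.isNormalHom_of_isRegularHom (GrothLib.Ratliff.isRegularHom_cpl_of_isGRing E hE.2.2.1)).2 p)

end


/-- Let A be a Noetherian local ring which is analytically reduced (its completion has no nonzero
nilpotents), and let B be the local ring at a prime q, lying over the maximal ideal of A, of an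
A-algebra C of finite type that is etale over A at q (an etale local homomorphism A ⟶ B). Then B is
analytically reduced, and in particular reduced. -/
theorem result (A C : Type u) [CommRing A] [IsLocalRing A]
    [IsNoetherianRing A] [CommRing C] [Algebra A C] [Algebra.FiniteType A C] (q : Ideal C) [q.IsPrime]
    (hq : Ideal.comap (algebraMap A C) q = IsLocalRing.maximalIdeal A) (hC : Algebra.IsEtaleAt A q)
    (hA : IsReduced (AdicCompletion (IsLocalRing.maximalIdeal A) A)) :
    IsReduced (AdicCompletion (IsLocalRing.maximalIdeal (Localization.AtPrime q)) (Localization.AtPrime q)) ∧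
      IsReduced (Localization.AtPrime q) := by
  haveI := hA
  haveI : IsNoetherianRing C := Algebra.FiniteType.isNoetherianRing A C
  haveI : Algebra.FinitePresentation A C := Algebra.FinitePresentation.of_finiteType.1 inferInstance
  haveI := hC
  obtain ⟨g, hg, hEt⟩ := Algebra.exists_etale_of_isEtaleAt (R := A) q
  let Cg := Localization.Away g
  have hdisj : Disjoint (Submonoid.powers g : Set C) (q : Set C) := Set.disjoint_left.2 fun x hx hxq => by
    obtain ⟨m, rfl⟩ := hx
    exact hg ((inferInstance : q.IsPrime).mem_of_pow_mem m hxq)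
  let q' : Ideal Cg := q.map (algebraMap C Cg)
  haveI : q'.IsPrime := IsLocalization.isPrime_of_isPrime_disjoint (Submonoid.powers g) Cg q inferInstance hdisj
  have hq' : q'.comap (algebraMap C Cg) = q :=
    IsLocalization.under_map_of_isPrime_disjoint (Submonoid.powers g) Cg inferInstance hdisj
  let R' := EGA4.Cpl A
  haveI := GrothLib.Excellent.faithfullyFlat_cpl A
  let W := TensorProduct A R' Cg
  haveI : Algebra.Etale R' W := inferInstance
  letI : Algebra Cg W := Algebra.TensorProduct.rightAlgebra
  haveI : Module.FaithfullyFlat Cg W :=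
    RingHom.faithfullyFlat_algebraMap_iff.1 (RingHom.FaithfullyFlat.stableUnderComposition _ _
      (RingHom.faithfullyFlat_algebraMap_iff.2 (inferInstance : Module.FaithfullyFlat Cg (TensorProduct A Cg R')))
      (RingHom.FaithfullyFlat.of_bijective (Algebra.TensorProduct.comm A Cg R').bijective))
  obtain ⟨⟨n, hnp⟩, hn⟩ := PrimeSpectrum.comap_surjective_of_faithfullyFlat (A := Cg) (B := W) ⟨q', inferInstance⟩
  haveI := hnp
  have hn' : n.comap (algebraMap Cg W) = q' := congrArg PrimeSpectrum.asIdeal hn
  have hnR : n.comap (algebraMap R' W) = IsLocalRing.maximalIdeal R' := by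
    refine ((IsLocalRing.maximalIdeal.isMaximal R').eq_of_le (Ideal.comap_isPrime _ _).ne_top ?_).symm
    rw [AdicCompletion.maximalIdeal_eq_map, Ideal.map_le_iff_le_comap, Ideal.comap_comap]
    have he : (algebraMap R' W).comp (algebraMap A R') = (algebraMap Cg W).comp ((algebraMap C Cg).comp (algebraMap A C)) := by
      rw [← IsScalarTower.algebraMap_eq A C Cg]
      exact (Algebra.TensorProduct.includeLeftRingHom_comp_algebraMap (R := A) (A := R') (B := Cg))
    rw [he, ← Ideal.comap_comap, hn', ← Ideal.comap_comap, hq', hq]
  let E := Localization.AtPrime n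
  haveI : IsNoetherianRing W := Algebra.FiniteType.isNoetherianRing R' W
  haveI : IsNoetherianRing E := IsLocalization.isNoetherianRing n.primeCompl _ inferInstance
  haveI : IsReduced W := GrothLib.Hensel.isReduced_of_etale R' W
  haveI : IsReduced E := isReduced_localizationPreserves n.primeCompl E inferInstance
  haveI : IsReduced (EGA4.Cpl E) := isReduced_cpl_of_isExcellent
    (GrothLib.Excellent.isExcellent_localization n.primeCompl
      (Groth.Agent.S2651.result R' (GrothLib.GRingComplete.isExcellent_of_isAdicComplete R') W))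
  have hcm : (IsLocalRing.maximalIdeal E).comap (algebraMap W E) = n := IsLocalization.AtPrime.comap_maximalIdeal E n
  let B := Localization.AtPrime q
  haveI : IsNoetherianRing B := IsLocalization.isNoetherianRing q.primeCompl _ inferInstance
  let φ : C →+* E := (algebraMap W E).comp ((algebraMap Cg W).comp (algebraMap C Cg))
  have hφ : ∀ c : q.primeCompl, IsUnit (φ c) := fun c => by
    refine IsLocalization.map_units E (⟨_, fun h => c.2 ?_⟩ : n.primeCompl)
    have h1 : algebraMap C Cg c ∈ q' := hn' ▸ (show algebraMap C Cg c ∈ n.comap (algebraMap Cg W) from h)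
    exact hq'.le h1
  letI : Algebra C E := φ.toAlgebra
  letI : Algebra B E := (IsLocalization.lift hφ).toAlgebra
  haveI : IsScalarTower C B E := IsScalarTower.of_algebraMap_eq fun c => (IsLocalization.lift_eq hφ c).symm
  have f1 : (algebraMap C Cg).Flat := RingHom.flat_algebraMap_iff.2 (IsLocalization.flat Cg (Submonoid.powers g))
  have f2 : (algebraMap Cg W).Flat := RingHom.flat_algebraMap_iff.2 inferInstance
  have f3 : RingHom.Flat (R := W) (S := E) (algebraMap W E) :=
    (RingHom.flat_algebraMap_iff (R := W) (S := E)).2 (IsLocalization.flat E n.primeCompl)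
  have hflC : RingHom.Flat (R := C) (S := E) φ := RingHom.Flat.comp (RingHom.Flat.comp f1 f2) f3
  haveI : Module.Flat C E := hflC
  haveI : Module.Flat B E := Module.Flat.of_linearEquiv ((IsLocalization.moduleTensorEquiv q.primeCompl B B E).symm.trans (TensorProduct.lid B E)).symm
  have hmB : ∀ x ∈ IsLocalRing.maximalIdeal B, algebraMap B E x ∈ IsLocalRing.maximalIdeal E := fun x hx => by
    rw [← IsLocalization.AtPrime.map_eq_maximalIdeal q B] at hx
    have h := Ideal.mem_map_of_mem (algebraMap B E) hx
    rw [Ideal.map_map, ← IsScalarTower.algebraMap_eq C B E, show algebraMap C E = φ from rfl] at h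
    have h2 : q.map φ ≤ IsLocalRing.maximalIdeal E := by
      rw [Ideal.map_le_iff_le_comap, ← Ideal.comap_comap, hcm,
        ← Ideal.comap_comap, hn', hq']
    exact h2 h
  haveI : IsLocalHom (algebraMap B E) := ((IsLocalRing.local_hom_TFAE (algebraMap B E)).out 0 2).2
    (Ideal.map_le_iff_le_comap.2 hmB)
  haveI : Module.FaithfullyFlat B E := Module.FaithfullyFlat.of_flat_of_isLocalHom (A := B) (B := E)
  haveI : IsLocalHom (algebraMap R' E) := ((IsLocalRing.local_hom_TFAE (algebraMap R' E)).out 0 4).2 (by
    rw [IsScalarTower.algebraMap_eq R' W E, ← Ideal.comap_comap, hcm, hnR])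
  haveI : Algebra.FormallyUnramified R' E := Algebra.FormallyUnramified.comp R' W E
  haveI : Algebra.EssFiniteType R' E := Algebra.EssFiniteType.comp R' W E
  have hE := Algebra.FormallyUnramified.map_maximalIdeal (R := R') (S := E)
  have hm : (IsLocalRing.maximalIdeal B).map (algebraMap B E) = IsLocalRing.maximalIdeal E := by
    refine le_antisymm (Ideal.map_le_iff_le_comap.2 hmB) ?_
    rw [← hE, AdicCompletion.maximalIdeal_eq_map, Ideal.map_map, Ideal.map_le_iff_le_comap]
    intro a ha
    rw [Ideal.mem_comap]
    have hab : algebraMap A B a ∈ IsLocalRing.maximalIdeal B := by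
      rw [IsScalarTower.algebraMap_apply A C B, IsLocalization.AtPrime.to_map_mem_maximal_iff B q]
      exact Ideal.mem_comap.1 (hq.ge ha)
    have he : (algebraMap R' E).comp (algebraMap A R') a = algebraMap B E (algebraMap A B a) := by
      rw [IsScalarTower.algebraMap_apply A C B, ← IsScalarTower.algebraMap_apply C B E]
      show algebraMap R' E (algebraMap A R' a) = φ (algebraMap A C a)
      rw [IsScalarTower.algebraMap_apply R' W E]
      refine congrArg (algebraMap W E) ?_
      rw [← IsScalarTower.algebraMap_apply A C Cg]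
      exact RingHom.congr_fun (Algebra.TensorProduct.includeLeftRingHom_comp_algebraMap (R := A) (A := R') (B := Cg)) a
    rw [he]
    exact Ideal.mem_map_of_mem _ hab
  haveI hred : IsReduced (EGA4.Cpl B) := cpl_map_injective (B := B) (E := E) hm
  haveI := GrothLib.Excellent.faithfullyFlat_cpl B
  exact ⟨hred, GrothLib.Excellent.isReduced_of_faithfullyFlat (A' := EGA4.Cpl B)⟩


end Groth.Agent.S6001
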