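import Groth.Statements.S6007
import Groth.Agent.Lib.Torsor21.DSPts
import Groth.Agent.Lib.Torsor21.Kernel

set_option autoImplicit false
universe u
open CategoryTheory AlgebraicGeometry MonoidalCategory CartesianMonoidalCategory MonObj GrpObj
open SGA1t

namespace Groth.Agent.S6007

/-- For a scheme S and an integer n ≥ 1 the Kummer sequence 1 → μ_n → G_m → G_m → 1 over S is exact for
the fpqc topology. Here G_m = D_S(Z), μ_n = D_S(Z/n) mapped into G_m by the diagonalisable-group
morphism induced by Z → Z/n, and G_m → G_m is the n-th power map, the character of D_S(Z) attached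
to n; exactness means that both maps are homomorphisms with trivial composite, that (g, z) ↦ (g, gz)
identifies G_m ×_S μ_n with the fibre product of the n-th power map with itself, and that the n-th
power map acquires sections on the members of some fpqc covering family of its target. -/
theorem result {S : Scheme.{u}} (n : ℕ) (hn : 0 < n) :
    NonAbH1.IsExactSeq Scheme.fpqcPrecoverage
      (Red.DSmap S (Int.castAddHom (ZMod n))) (Red.chi S (n : ℤ)) := by
  haveI : IsMonHom (Red.chi S (n : ℤ)) := GrothLib.DiagGrp.isMonHom_DSmap S _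
  have h1 : Red.DSmap S (Int.castAddHom (ZMod n)) ≫ Red.chi S (n : ℤ) = 1 := by
    rw [Red.chi, GrothLib.Torsor21.DSmap_comp, ← GrothLib.Torsor21.DSmap_zero]
    congr 1
    ext
    simp
  refine ⟨GrothLib.DiagGrp.isMonHom_DSmap S _, inferInstance, h1,
    GrothLib.Torsor21.isPullback_of_kernel _ _ h1 fun T t ht => GrothLib.Torsor21.existsUnique_lift_of_surjective t ht, ?_⟩
  have hinj : Function.Injective (zmultiplesHom ℤ (n : ℤ)) := fun a b hab => by
    simpa [hn.ne'] using hab
  obtain ⟨hflat, hsurj⟩ := GrothLib.DiagGrp.diagMap_flat_surjective.{u} _ hinj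
  have hsq : IsPullback (Red.chi S (n : ℤ)).left
      (Limits.pullback.fst (Red.diag (ULift.{u} ℤ) ℤ).hom (GmPts.toBaseZ S))
      (Limits.pullback.fst (Red.diag (ULift.{u} ℤ) ℤ).hom (GmPts.toBaseZ S))
      (Red.diagMap (ULift.{u} ℤ) (zmultiplesHom ℤ (n : ℤ))).left := by
    refine IsPullback.of_right (h₁₂ := Limits.pullback.snd _ _) (v₁₃ := GmPts.toBaseZ S)
      (h₂₂ := (Red.diag (ULift.{u} ℤ) ℤ).hom) ?_ (GmPts.pullback_map_left_fst _) (IsPullback.of_hasPullback _ _).flip
    rw [show (Red.chi S (n : ℤ)).left ≫ Limits.pullback.snd _ _ = Limits.pullback.snd _ _ from Over.w (Red.chi S (n : ℤ)),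
      Over.w]
    exact (IsPullback.of_hasPullback _ _).flip
  haveI := hflat
  haveI := hsurj
  haveI : IsAffineHom (Red.diagMap (ULift.{u} ℤ) (zmultiplesHom ℤ (n : ℤ))).left := by
    change IsAffineHom (Spec.map _); infer_instance
  haveI : Flat (Red.chi S (n : ℤ)).left := MorphismProperty.of_isPullback hsq.flip hflat
  haveI : Surjective (Red.chi S (n : ℤ)).left := MorphismProperty.of_isPullback hsq.flip hsurj
  haveI : IsAffineHom (Red.chi S (n : ℤ)).left := MorphismProperty.of_isPullback hsq.flip ‹_›
  refine ⟨_, (Red.chi S (n : ℤ)).left.singleton_mem_fpqcPrecoverage, ?_⟩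
  rintro _ _ ⟨⟩
  exact ⟨𝟙 _, Category.id_comp _⟩

end Groth.Agent.S6007
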