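import Groth.Statements.S6008
import Groth.Agent.Lib.Torsor21.AS
import Groth.Agent.Lib.Torsor21.Kernel
import Groth.Agent.Lib.GrpSchField.Points

set_option autoImplicit false
universe u
open CategoryTheory AlgebraicGeometry MonoidalCategory CartesianMonoidalCategory MonObj GrpObj
open SGA1t

namespace Groth.Agent.S6008

/-- Let p be a prime and S a scheme of characteristic p (p = 0 in the ring of global functions). Let F
be the Frobenius endomorphism of the additive group over S, the S-endomorphism which raises the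
coordinate function of every point to the p-th power, and let P be the difference of the identity
and F in the group of endomorphisms (on points x ↦ x − x^p). Let G' be the constant S-group (Z/p)_S:
an S-group together with an isomorphism of S-schemes e from G' to the disjoint union of copies of S
indexed by Z/p, under which the S-points of indices m and n multiply to the S-point of index m + n;
and let i : G' → G_a be the homomorphism of S-groups which sends the S-point of index 1 to the point
whose coordinate is the unit global function. Then the Artin-Schreier sequence 1 → (Z/p)_S → G_a →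
G_a → 1 is exact for the fpqc topology: i and P are homomorphisms with trivial composite, (x, g) ↦
(x, x + i(g)) identifies G_a ×_S G' with the fibre product of P with itself (so that i is a kernel
of P), and P acquires sections on the members of some fpqc covering family of its target. -/
theorem result (p : ℕ) [Fact p.Prime] {S : Scheme.{u}}
    (hp : (p : Γ(S, ⊤)) = 0) (F : Red.Ga S ⟶ Red.Ga S)
    (hF : ∀ (T : Over S) (x : T ⟶ Red.Ga S), Red.gaFn (x ≫ F) = Red.gaFn x ^ p)
    {G' : Over S} [GrpObj G'] (e : G' ≅ TwC.const S (Multiplicative (ZMod p)))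
    (he : TwC.IsConstGrp (Multiplicative (ZMod p)) G' e)
    (i : G' ⟶ Red.Ga S) [IsMonHom i]
    (hi : Red.gaFn (TwC.pt S (Multiplicative (ZMod p)) (Multiplicative.ofAdd 1) ≫ e.inv ≫ i) = 1) :
    NonAbH1.IsExactSeq Scheme.fpqcPrecoverage i (𝟙 (Red.Ga S) * F⁻¹) := by
  have hpoint : ∀ (T : Over S) (x : T ⟶ Red.Ga S),
      Red.gaFn (x ≫ (𝟙 (Red.Ga S) * F⁻¹)) = Red.gaFn x - Red.gaFn x ^ p := fun T x => by
    rw [MonObj.comp_mul, GrpObj.comp_inv, Category.comp_id, GrothLib.RedPts.gaFn_mul,
      GrothLib.RedPts.gaFn_inv, hF, sub_eq_add_neg]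
  haveI : IsMonHom (𝟙 (Red.Ga S) * F⁻¹) := by
    apply GrothLib.GrpSchField.isMonHom_of_mul
    have h1 : ∀ (T : Over S) (a b : T ⟶ Red.Ga S), (a * b) ≫ (𝟙 (Red.Ga S) * F⁻¹) =
        (a ≫ (𝟙 (Red.Ga S) * F⁻¹)) * (b ≫ (𝟙 (Red.Ga S) * F⁻¹)) := fun T a b => by
     refine GrothLib.RedPts.gaFn_injective ?_
     rw [hpoint, GrothLib.RedPts.gaFn_mul, GrothLib.RedPts.gaFn_mul, hpoint, hpoint]
     obtain ⟨r, hr⟩ := exists_add_pow_prime_eq (Fact.out : p.Prime) (Red.gaFn a) (Red.gaFn b)
     rw [hr, GrothLib.Torsor21.natCast_eq_zero_top hp T]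
     ring
    generalize 𝟙 (Red.Ga S) * F⁻¹ = f at h1 ⊢
    have h2 := h1 _ (fst _ _) (snd _ _)
    rw [CategoryTheory.Hom.mul_def, lift_fst_snd, Category.id_comp, CategoryTheory.Hom.mul_def, ← lift_map] at h2
    rw [h2, lift_fst_snd, Category.id_comp]
  have h1 : i ≫ (𝟙 (Red.Ga S) * F⁻¹) = 1 := by
    apply Over.OverMorphism.ext
    let P : Multiplicative (ZMod p) → (TwC.const S (Multiplicative (ZMod p))).left.Opens := fun m =>
      (Limits.Sigma.ι (fun _ : Multiplicative (ZMod p) => S) m).opensRange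
    let V : Multiplicative (ZMod p) → G'.left.Opens := fun m => e.hom.left ⁻¹ᵁ P m
    have hV : TopologicalSpace.IsOpenCover V := by
      refine TopologicalSpace.IsOpenCover.mk (eq_top_iff.mpr fun y _ => ?_)
      obtain ⟨a, w, hw⟩ := (sigmaOpenCover fun _ : Multiplicative (ZMod p) => S).exists_eq (e.hom.left y)
      exact TopologicalSpace.Opens.mem_iSup.mpr ⟨a, w, hw⟩
    refine (G'.left.openCoverOfIsOpenCover V hV).hom_ext _ _ fun (m : Multiplicative (ZMod p)) => ?_
    let j : Over.mk ((V m).ι ≫ G'.hom) ⟶ G' := Over.homMk (V m).ι rfl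
    have hm : j = toUnit _ ≫ TwC.pt S (Multiplicative (ZMod p)) m ≫ e.inv := by
      rw [← Category.assoc, Iso.eq_comp_inv]
      apply Over.OverMorphism.ext
      rw [GrothLib.HomScheme.eq_of_mem_piece S (Multiplicative (ZMod p)) (j ≫ e.hom).left m fun w => w.2, Over.w]
      rfl
    have h2 := GrothLib.Torsor21.gaFn_toUnit_pt e i he hi (Over.mk ((V m).ι ≫ G'.hom)) m.toAdd
    rw [ofAdd_toAdd, ← hm, GrothLib.RedPts.gaFn_comp] at h2
    refine congrArg CommaMorphism.left (show j ≫ i ≫ (𝟙 (Red.Ga S) * F⁻¹) = j ≫ 1 from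
      GrothLib.RedPts.gaFn_injective ?_)
    rw [MonObj.comp_one, GrothLib.RedPts.gaFn_one, ← Category.assoc, hpoint, GrothLib.RedPts.gaFn_comp, h2,
      GrothLib.Torsor21.natCast_val_pow (GrothLib.Torsor21.natCast_eq_zero_top hp _), sub_self]
  refine ⟨inferInstance, inferInstance, h1, GrothLib.Torsor21.isPullback_of_kernel _ _ h1 fun T t ht =>
    GrothLib.Torsor21.existsUnique_lift_as e i hp he hi t ?_, ?_⟩
  · have h := hpoint T t
    rw [ht, GrothLib.RedPts.gaFn_one, eq_comm, sub_eq_zero] at h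
    exact h.symm
  · obtain ⟨hfl, hsu, hqc⟩ := GrothLib.Torsor21.as_flat_surjective (Fact.out : p.Prime).one_lt
      (𝟙 (Red.Ga S) * F⁻¹) (by simpa using hpoint _ (𝟙 (Red.Ga S)))
    refine ⟨_, ((𝟙 (Red.Ga S) * F⁻¹ : Red.Ga S ⟶ Red.Ga S).left).singleton_mem_fpqcPrecoverage, ?_⟩
    rintro _ _ ⟨⟩
    exact ⟨𝟙 _, Category.id_comp _⟩

end Groth.Agent.S6008
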