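import Groth.Statements.S6010
import Groth.Agent.Lib.Torsor21.Exact

set_option autoImplicit false
universe u
open CategoryTheory AlgebraicGeometry MonoidalCategory CartesianMonoidalCategory MonObj GrpObj
open SGA1

namespace Groth.Agent.S6010

/-- Exactness of the cohomology sequence at H^1(S, G): let u : G' → G and v : G → G'' be homomorphisms
of affine commutative S-groups forming a sequence 1 → G' → G → G'' → 1 which is exact for the fpqc
topology, and let P be a principal homogeneous bundle under G (fpqc torsor). Then the bundle deduced
from P by extension of the structure group along v is trivial, in the sense that P admits a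
v-equivariant S-morphism to G'' acting on itself by left translation, if and only if P comes from
G': there is a principal homogeneous bundle Q under G' with a u-equivariant S-morphism Q → P. -/
theorem result {S : Scheme.{u}}
    {G G' G'' : Over S} [GrpObj G] [GrpObj G'] [GrpObj G'']
    [IsCommMonObj G] [IsCommMonObj G'] [IsCommMonObj G'']
    [IsAffineHom G.hom] [IsAffineHom G'.hom] [IsAffineHom G''.hom]
    (u : G' ⟶ G) (v : G ⟶ G'') (hex : NonAbH1.IsExactSeq Scheme.fpqcPrecoverage u v)
    (P : NonAbH1.TorsorSch G Scheme.fpqcPrecoverage) :
    NonAbH1.IsPushforwardAlongSch v P.act (NonAbH1.trivialAction G'') ↔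
      ∃ Q : NonAbH1.TorsorSch G' Scheme.fpqcPrecoverage, NonAbH1.IsPushforwardAlongSch u Q.act P.act := by
  exact GrothLib.Torsor21.isPushforward_iff_exists hex P

end Groth.Agent.S6010
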