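import Groth.Statements.S6011
import Groth.Prelude.Def_ChGrp

set_option autoImplicit false
universe u
open CategoryTheory AlgebraicGeometry
open SGA1

namespace Groth.Agent.S6011

open CartesianMonoidalCategory MonoidalCategory in
open scoped MonObj in

/-- An S-scheme X with an action of the S-group G is trivial — equivariantly isomorphic over S to G
acting on itself by translation — if and only if it is formally principal homogeneous (a
pseudo-torsor) and admits a section over S. -/
theorem result {S : Scheme.{u}}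
    (G X : Over S) [GrpObj G] (a : AlgGrp.Action G X) :
    Nonempty (NonAbH1.EquivIso (NonAbH1.trivialAction G) a) ↔
      (NonAbH1.IsPseudoTorsorSch a ∧ NonAbH1.HasSectionOver X (𝟙 S)) := by
  constructor
  · rintro ⟨e⟩
    refine ⟨?_, ⟨(MonObj.one (X := G) ≫ e.iso.hom).left, Over.w (MonObj.one (X := G) ≫ e.iso.hom)⟩⟩
    have h0 := NonAbH1.isPseudoTorsorSch_trivialAction G
    unfold NonAbH1.IsPseudoTorsorSch at h0 ⊢
    have key : (G ◁ e.iso.hom) ≫ lift a.act (snd G X) =
        lift (NonAbH1.trivialAction G).act (snd G G) ≫ (e.iso.hom ⊗ₘ e.iso.hom) := by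
      ext1 <;> simp [e.comm]
    haveI : IsIso ((G ◁ e.iso.hom) ≫ lift a.act (snd G X)) := by rw [key]; infer_instance
    exact IsIso.of_isIso_comp_left (G ◁ e.iso.hom) (lift a.act (snd G X))
  · rintro ⟨hps, s, hs⟩
    unfold NonAbH1.IsPseudoTorsorSch at hps
    let x₀ : 𝟙_ (Over S) ⟶ X := Over.homMk s hs
    let sh := lift a.act (snd G X)
    let f : G ⟶ X := lift (𝟙 G) (toUnit G ≫ x₀) ≫ a.act
    let w : X ⟶ G ⊗ X := lift (𝟙 X) (toUnit X ≫ x₀) ≫ inv sh
    have hsh : ∀ {T : Over S} (t : T ⟶ G ⊗ X), t ≫ sh = lift (t ≫ a.act) (t ≫ snd G X) := fun t =>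
      comp_lift _ _ _
    have hw : w ≫ sh = lift (𝟙 X) (toUnit X ≫ x₀) := by simp [w]
    have hw1 : w ≫ a.act = 𝟙 X := by simpa [hsh] using congrArg (· ≫ fst X X) hw
    have hw2 : w ≫ snd G X = toUnit X ≫ x₀ := by simpa [hsh] using congrArg (· ≫ snd X X) hw
    have hfw : f ≫ w = lift (𝟙 G) (toUnit G ≫ x₀) := by
      rw [← cancel_mono sh, Category.assoc, hw, hsh, comp_lift, lift_snd]
      ext1 <;> simp [f]
    have hwl : lift (w ≫ fst G X) (toUnit X ≫ x₀) = w := by rw [← hw2, ← comp_lift, lift_fst_snd, Category.comp_id]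
    refine ⟨⟨⟨f, w ≫ fst G X, ?_, ?_⟩, ?_⟩⟩
    · rw [reassoc_of% hfw, lift_fst]
    · show (w ≫ fst G X) ≫ lift (𝟙 G) (toUnit G ≫ x₀) ≫ a.act = 𝟙 X
      rw [← Category.assoc, comp_lift, Category.comp_id, ← Category.assoc _ (toUnit G), toUnit_unique (_ ≫ toUnit G) (toUnit X), hwl, hw1]
    · refine AlgGrp.Action.hom_ext_lift₂ fun T g h => ?_
      show lift g h ≫ μ[G] ≫ f = lift g h ≫ (G ◁ f) ≫ a.act
      rw [← Category.assoc, ← Hom.mul_def, lift_whiskerLeft_assoc]
      simp only [f, comp_lift_assoc, Category.comp_id]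
      rw [← Category.assoc (g * h) (toUnit G), toUnit_unique ((g * h) ≫ toUnit G) (toUnit T),
        ← Category.assoc h (toUnit G), toUnit_unique (h ≫ toUnit G) (toUnit T)]
      exact AlgGrp.Action.lift_mul_act a g h _

end Groth.Agent.S6011
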