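import Groth.Statements.S6012
import Groth.Agent.Lib.FibCat.Cleavage


set_option autoImplicit false
set_option backward.isDefEq.respectTransparency false
set_option backward.isDefEq.respectTransparency.types false
open CategoryTheory
universe v₁ v₂ u₁ u₂
open FibCat FibCat.Cleavage

namespace Groth.Agent.S6012

open CategoryTheory.Functor GrothLib.FibCat

/-- Let `K` be a cleavage of an arbitrary functor `p : 𝒳 ⥤ 𝒮` (one chosen cartesian lift of every base
morphism at every object over its target; `p` is not assumed fibred). Then `p` is a fibred category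
(composites of cartesian morphisms are cartesian) if and only if, for all composable base morphisms
`g : R ⟶ T` and `f : T ⟶ S`, the comparison natural transformation `c_{f,g}` from `g^* f^*` to
`(fg)^*` determined by `K` is an isomorphism. -/
theorem result (𝒮 : Type u₁) (𝒳 : Type u₂) [Category.{v₁} 𝒮] [Category.{v₂} 𝒳] (p : 𝒳 ⥤ 𝒮) (K : FibCat.Cleavage p) :
    p.IsFibered ↔ ∀ (R S T : 𝒮) (f : T ⟶ S) (g : R ⟶ T), IsIso (K.comp f g) := by
    constructor
    · intro hp R S T f g
      have : ∀ a, IsIso ((K.comp f g).app a) := fun a => by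
        let m := K.lift (K.obj_proj a.2 f) g ≫ K.lift a.2 f
        have : p.IsCartesian (g ≫ f) m := IsFibered.comp g f _ _
        let e := IsCartesian.domainUniqueUpToIso p (g ≫ f) (K.lift a.2 (g ≫ f)) m
        exact ⟨⟨⟨e.inv, inferInstance⟩, Fiber.hom_ext e.hom_inv_id, Fiber.hom_ext e.inv_hom_id⟩⟩
      exact NatIso.isIso_of_isIso_app _
    · intro h
      have := K.isPreFibered
      refine { exists_isCartesian' := IsPreFibered.exists_isCartesian', comp := fun {R S T} f g {a b c} φ ψ _ _ => ?_ }
      have hc : p.obj c = T := IsHomLift.codomain_eq p g ψ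
      let e := IsCartesian.domainUniqueUpToIso p g (K.lift hc g) ψ
      have : p.IsCartesian f (φ ≫ e.hom) := inferInstance
      let e' := IsCartesian.domainUniqueUpToIso p f (K.lift (K.obj_proj hc g) f) (φ ≫ e.hom)
      have hψ : e.hom ≫ K.lift hc g = ψ := IsCartesian.fac p g (K.lift hc g) ψ
      have hφ : e'.hom ≫ K.lift (K.obj_proj hc g) f = φ ≫ e.hom :=
        IsCartesian.fac p f (K.lift (K.obj_proj hc g) f) (φ ≫ e.hom)
      let c' : p.Fiber T := ⟨c, hc⟩
      have := h R T S g f
      let d := Fiber.fiberInclusion.mapIso (asIso ((K.comp g f).app c'))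
      have hd : p.IsHomLift (𝟙 R) d.hom := inferInstanceAs (p.IsHomLift (𝟙 R) (Fiber.fiberInclusion.map ((K.comp g f).app c')))
      have key : (e' ≪≫ d).hom ≫ K.lift hc (f ≫ g) = φ ≫ ψ := by
        change (e'.hom ≫ Fiber.fiberInclusion.map ((K.comp g f).app c')) ≫ K.lift c'.2 (f ≫ g) = φ ≫ ψ
        erw [Category.assoc, comp_app_lift, ← Category.assoc, hφ, Category.assoc, hψ]
      have : p.IsHomLift (𝟙 R) (e' ≪≫ d).hom := by rw [Iso.trans_hom]; exact IsHomLift.comp_of_lift_id p R _ _
      rw [← key]
      infer_instance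

end Groth.Agent.S6012
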