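import Groth.Statements.S6013
import Groth.Agent.Lib.FibCat.Cleavage


set_option autoImplicit false
set_option backward.isDefEq.respectTransparency false
set_option backward.isDefEq.respectTransparency.types false
open CategoryTheory
universe v₁ v₂ u₁ u₂
open FibCat FibCat.Cleavage

namespace Groth.Agent.S6013

open CategoryTheory.Functor

/-- Let `p : 𝒳 ⥤ 𝒮` be a fibred category with a cleavage `K`, and let `f : T ⟶ S` be an isomorphism of
the base. Then the inverse-image functor `f^*` of `K`, from the fibre over `S` to the fibre over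
`T`, is an equivalence of categories. -/
theorem result (𝒮 : Type u₁) (𝒳 : Type u₂) [Category.{v₁} 𝒮] [Category.{v₂} 𝒳] (p : 𝒳 ⥤ 𝒮) [p.IsFibered] (K : FibCat.Cleavage p)
    (S T : 𝒮) (f : T ⟶ S) [IsIso f] : (K.inverseImage f).IsEquivalence := by
    have hiso : ∀ {x : 𝒳} (hx : p.obj x = S), IsIso (K.lift hx f) := fun hx =>
      have := IsFibered.isStronglyCartesian_of_isCartesian p f (K.lift hx f)
      IsStronglyCartesian.isIso_of_base_isIso p f _
    refine { faithful := ⟨?_⟩, full := ⟨?_⟩, essSurj := ⟨?_⟩ }
    · intro a b φ φ' h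
      apply Fiber.hom_ext
      have := hiso a.2
      have h1 := GrothLib.FibCat.inverseImage_map_lift K f φ
      rw [h, GrothLib.FibCat.inverseImage_map_lift K f φ'] at h1
      exact ((cancel_epi (K.lift a.2 f)).1 h1).symm
    · intro a b χ
      have := hiso a.2
      have h1 : p.IsHomLift f (Fiber.fiberInclusion.map χ ≫ K.lift b.2 f) := IsHomLift.comp_lift_id_left p f _ _
      let i := asIso (K.lift a.2 f)
      have hi : p.IsHomLift f i.hom := inferInstanceAs (p.IsHomLift f (K.lift a.2 f))
      have hinv : p.IsHomLift (CategoryTheory.inv f) i.inv := IsHomLift.inv p f (K.lift a.2 f)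
      have : p.IsHomLift (𝟙 S) (i.inv ≫ Fiber.fiberInclusion.map χ ≫ K.lift b.2 f) := by
        rw [← IsIso.inv_hom_id f]; exact IsHomLift.comp p (CategoryTheory.inv f) f i.inv _
      refine ⟨Fiber.homMk p S (i.inv ≫ Fiber.fiberInclusion.map χ ≫ K.lift b.2 f), ?_⟩
      apply GrothLib.FibCat.hom_ext K
      rw [GrothLib.FibCat.inverseImage_map_lift]
      exact i.hom_inv_id_assoc _
    · intro b
      let g := CategoryTheory.inv f
      let a : p.Fiber S := (K.inverseImage g).obj b
      let m := K.lift a.2 f ≫ K.lift b.2 g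
      have : p.IsHomLift (𝟙 T) m := by
        rw [← IsIso.hom_inv_id f]; exact IsHomLift.comp p f g (K.lift a.2 f) (K.lift b.2 g)
      have : IsIso m := by
        have := IsFibered.isStronglyCartesian_of_isCartesian p f (K.lift a.2 f)
        have := IsFibered.isStronglyCartesian_of_isCartesian p g (K.lift b.2 g)
        have : p.IsStronglyCartesian (f ≫ g) m := IsStronglyCartesian.comp p
        exact IsStronglyCartesian.isIso_of_base_isIso p (f ≫ g) m
      refine ⟨a, ⟨⟨⟨m, inferInstance⟩, ⟨CategoryTheory.inv m, inferInstance⟩,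
        Fiber.hom_ext (IsIso.hom_inv_id m), Fiber.hom_ext (IsIso.inv_hom_id m)⟩⟩⟩

end Groth.Agent.S6013
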