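import Groth.Statements.S6019


set_option autoImplicit false
set_option backward.isDefEq.respectTransparency false
set_option backward.isDefEq.respectTransparency.types false
open CategoryTheory
universe v₁ v₂ u₁ u₂
open FibCat FibCat.Cleavage

namespace Groth.Agent.S6019

open CategoryTheory.Functor

theorem exists_lift {𝒮 : Type u₁} {𝒳 : Type u₂} [Category.{v₁} 𝒮] [Category.{v₂} 𝒳] (p : 𝒳 ⥤ 𝒮) [p.IsPreFibered]
    {R S : 𝒮} {a : 𝒳} (ha : p.obj a = S) (f : R ⟶ S) :
    ∃ (b : 𝒳) (φ : b ⟶ a), p.IsCartesian f φ ∧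
      (∀ e : R = S, f = eqToHom e → ∃ h : b = a, φ = eqToHom h) := by
  by_cases hf : ∃ e : R = S, f = eqToHom e
  · obtain ⟨rfl, rfl⟩ := hf
    subst ha
    have : p.IsStronglyCartesian (𝟙 (p.obj a)) (𝟙 a) := IsStronglyCartesian.of_isIso p _ _
    exact ⟨a, 𝟙 a, inferInstanceAs (p.IsCartesian (𝟙 (p.obj a)) (𝟙 a)), fun _ _ => ⟨rfl, rfl⟩⟩
  · exact ⟨_, IsPreFibered.pullbackMap ha f, inferInstance, fun e h => (hf ⟨e, h⟩).elim⟩

/-- A pre-fibred category admits a normalised cleavage: if every base morphism `R ⟶ p(a)` has a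
cartesian morphism over it with target `a`, then one cartesian lift can be chosen for every base
morphism at every object over its target in such a way that the chosen lift of each identity `𝟙 S`
at each object `a` over `S` is the identity of `a` (identities are transport morphisms). -/
theorem result (𝒮 : Type u₁) (𝒳 : Type u₂) [Category.{v₁} 𝒮] [Category.{v₂} 𝒳]
    (p : 𝒳 ⥤ 𝒮) [p.IsPreFibered] : ∃ K : FibCat.Cleavage p, K.IsNormalised := by
    refine ⟨⟨fun ha f => (exists_lift p ha f).choose, fun ha f => (exists_lift p ha f).choose_spec.choose,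
      fun ha f => (exists_lift p ha f).choose_spec.choose_spec.1⟩, fun S a ha => ?_⟩
    exact (exists_lift p ha (𝟙 S)).choose_spec.choose_spec.2 rfl rfl

end Groth.Agent.S6019
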