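import Groth.Statements.S6020
import Groth.Agent.Lib.LocZ.Seq
-- import your own Groth.Agent.* helpers here

set_option autoImplicit false
universe u
open CategoryTheory CategoryTheory.Limits TopologicalSpace
open LocCohZ

namespace Groth.Agent.S6020

/-- Consider a topological space X carrying a sheaf F of abelian groups, an open subset U whose
complement is the closed set Z, and a natural number N. The local cohomology sheaves ℋ^i_Z(F) are
zero for all i ≤ N exactly when, for each open V of X, restricting H^i(V, F) → H^i(V ∩ U, F) gives a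
bijection whenever i < N and an injection when i = N. -/
theorem result {X : TopCat.{u}} (F : CohTop.Ab X) (U : Opens X) (N : ℕ) :
    (∀ i : ℕ, i ≤ N → IsZero ((LocCohZ.HZsh U i).obj F)) ↔
      ∀ V : Opens X, (∀ i : ℕ, i < N → Function.Bijective (CohTop.res F i (inf_le_left : V ⊓ U ≤ V))) ∧
        Function.Injective (CohTop.res F N (inf_le_left : V ⊓ U ≤ V)) := by
  constructor
  · intro h V
    have hs := (GrothLib.LocZ.isZero_HZsh_lt_iff U (N + 1) F).1 (fun i hi => h i (Nat.lt_succ_iff.1 hi)) V
    refine ⟨fun i hi => ⟨?_, ?_⟩, ?_⟩
    · have := hs i (by omega)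
      exact GrothLib.LocZ.res_injective_of_subsingleton _ F i
    · have := hs (i + 1) (by omega)
      exact GrothLib.LocZ.res_surjective_of_subsingleton _ F i
    · have := hs N (by omega)
      exact GrothLib.LocZ.res_injective_of_subsingleton _ F N
  · intro h i hi
    refine (GrothLib.LocZ.isZero_HZsh_lt_iff U (N + 1) F).2 (fun V j hj => ?_) i (Nat.lt_succ_of_le hi)
    have hinj : ∀ k, k ≤ N → Function.Injective (CohTop.res F k (inf_le_left : V ⊓ U ≤ V)) := fun k hk => by
      rcases Nat.lt_or_eq_of_le hk with hk | rfl
      · exact ((h V).1 k hk).1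
      · exact (h V).2
    cases j with
    | zero => exact GrothLib.LocZ.subsingleton_HZ_zero _ F (hinj 0 (Nat.zero_le N))
    | succ j => exact GrothLib.LocZ.subsingleton_HZ_succ _ F j ((h V).1 j (by omega)).2 (hinj (j + 1) (by omega))

end Groth.Agent.S6020
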