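import Groth.Statements.S6021
import Groth.Agent.Lib.LocZ.Seq
-- import your own Groth.Agent.* helpers here

set_option autoImplicit false
universe u
open CategoryTheory CategoryTheory.Limits TopologicalSpace
open LocCohZ

namespace Groth.Agent.S6021

/-- Consider a topological space X carrying an abelian sheaf F, a closed subset Z whose open complement
is U, and a natural number N > 0. Assume that, for each open V of X and each i < N, restricting
H^i(V, F) → H^i(V ∩ U, F) gives a bijection. Then ℋ^i_Z(F), the local cohomology sheaves, are zero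
for every i ≤ N (no separate injectivity hypothesis in degree N is needed, since it follows
automatically). -/
theorem result {X : TopCat.{u}} (F : CohTop.Ab X) (U : Opens X) (N : ℕ) (hN : 0 < N)
    (h : ∀ (V : Opens X) (i : ℕ), i < N → Function.Bijective (CohTop.res F i (inf_le_left : V ⊓ U ≤ V))) :
    ∀ i : ℕ, i ≤ N → IsZero ((LocCohZ.HZsh U i).obj F) := by
  have hlt : ∀ (V : Opens X) (i : ℕ), i < N → Subsingleton (LocCohZ.HZ F i (inf_le_left : V ⊓ U ≤ V)) := by
    intro V i hi
    cases i with
    | zero => exact GrothLib.LocZ.subsingleton_HZ_zero _ F (h V 0 hi).1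
    | succ i => exact GrothLib.LocZ.subsingleton_HZ_succ _ F i (h V i (by omega)).2 (h V (i + 1) hi).1
  obtain ⟨M, rfl⟩ : ∃ M, N = M + 1 := ⟨N - 1, by omega⟩
  have hN' : ∀ V : Opens X, Subsingleton (LocCohZ.HZ F (M + 1) (inf_le_left : V ⊓ U ≤ V)) := by
    intro V
    refine subsingleton_of_forall_eq 0 fun x => GrothLib.LocZ.HZ_separated U (M + 1) F hlt V x ?_
    obtain ⟨S, hS, hz⟩ := GrothLib.SheafCoh.exists_cover_res_eq_zero (J := Opens.grothendieckTopology X) F V M
      (LocCohZ.toHU F (M + 1) (inf_le_left : V ⊓ U ≤ V) x)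
    refine ⟨S, hS, fun V' f hf => ?_⟩
    apply GrothLib.LocZ.toHU_injective_of_surjective _ F M (h V' M (Nat.lt_succ_self M)).2
    rw [GrothLib.LocZ.toHU_resZ, map_zero]
    exact hz f hf
  intro i hi
  exact (GrothLib.LocZ.isZero_HZsh_lt_iff U (M + 2) F).2
    (fun V j hj => by
      rcases Nat.lt_or_eq_of_le (Nat.lt_succ_iff.1 hj) with hj | rfl
      · exact hlt V j hj
      · exact hN' V) i (Nat.lt_succ_of_le hi)

end Groth.Agent.S6021
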