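import Groth.Statements.S6024
import Groth.Agent.Lib.LocZ.Seq
-- import your own Groth.Agent.* helpers here

set_option autoImplicit false
universe u
open CategoryTheory CategoryTheory.Limits TopologicalSpace
open LocCohZ

namespace Groth.Agent.S6024

/-- Consider a topological space X carrying a sheaf of abelian groups F, and assume that H^1_Z(X, F)
vanishes for each closed subset Z of X (writing Z = X − U with U open). Under this assumption, F is
flasque. -/
theorem result {X : TopCat.{u}} (F : CohTop.Ab X)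
    (h : ∀ U : Opens X, Subsingleton (LocCohZ.HZc F 1 U)) : TopCat.Sheaf.IsFlasque F := by
  have hs : ∀ (U : Opens X), Function.Surjective (F.obj.map (homOfLE (le_top : U ≤ ⊤)).op) := by
    intro U s
    have := h U
    obtain ⟨x, hx⟩ := GrothLib.LocZ.res_surjective_of_subsingleton (le_top : U ≤ ⊤) F 0
      (Abelian.Ext.mk₀ (CohFree.ofSect (Opens.grothendieckTopology X) U F s))
    obtain ⟨g, rfl⟩ : ∃ g, Abelian.Ext.mk₀ g = x := ⟨_, Abelian.Ext.mk₀_addEquiv₀_apply x⟩
    refine ⟨CohFree.evalGen (Opens.grothendieckTopology X) ⊤ F g, ?_⟩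
    rw [← CohFree.evalGen_freeSheafMap_comp]
    have e : CohCx.freeSheafMap (Opens.grothendieckTopology X) (homOfLE (le_top : U ≤ ⊤)) ≫ g =
        CohFree.ofSect (Opens.grothendieckTopology X) U F s :=
      (Abelian.Ext.mk₀_bijective _ _).1 ((Abelian.Ext.mk₀_comp_mk₀ _ _).symm.trans hx)
    rw [e, CohFree.evalGen_ofSect]
  refine ⟨fun {A B} i => (AddCommGrpCat.epi_iff_surjective _).2 fun s => ?_⟩
  obtain ⟨t, ht⟩ := hs B.unop s
  refine ⟨F.obj.map (homOfLE (le_top : A.unop ≤ ⊤)).op t, ?_⟩
  rw [← ConcreteCategory.comp_apply, ← F.obj.map_comp]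
  exact ht

end Groth.Agent.S6024
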