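import Groth.Statements.S6025
import Groth.Agent.Lib.LocZ.EpiUnit
import Groth.Agent.Lib.FunSES25.Basic
-- import your own Groth.Agent.* helpers here

set_option autoImplicit false
universe u
open CategoryTheory CategoryTheory.Limits TopologicalSpace
open LocCohZ

namespace Groth.Agent.S6025

/-- Let X be a topological space, A a closed subset with open complement U and f : U → X the inclusion.
Then the functor ℋ^1_A is isomorphic to the cokernel of the unit F → f_* f⁻¹ F (so that 0 → ℋ^0_A(F)
→ F → f_*(F|_U) → ℋ^1_A(F) → 0 is exact), and for every i ≥ 1 the functor ℋ^{i+1}_A is isomorphic to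
F ↦ R^i f_*(F|_U). (Existence of isomorphisms of functors only; the maps of the four-term sequence
other than the kernel inclusion are not pinned.) -/
theorem result {X : TopCat.{u}} (U : Opens X) :
    Nonempty (LocCohZ.HZsh U 1 ≅
      cokernel (TopCat.Sheaf.pullbackPushforwardAdjunction AddCommGrpCat.{u} (CohCx.incl U)).unit) ∧
      ∀ i : ℕ, 1 ≤ i →
        Nonempty (LocCohZ.HZsh U (i + 1) ≅ CohTop.pull (CohCx.incl U) ⋙ CohTop.Rpush (CohCx.incl U) i) := by
  let P := CohTop.pull (CohCx.incl U)
  let G := P ⋙ CohTop.push (CohCx.incl U)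
  have hPl : PreservesFiniteLimits P := GrothLib.SheafCoh.preservesFiniteLimits_pull (CohCx.incl U)
  have : PreservesColimitsOfSize.{0, 0} P :=
    (TopCat.Sheaf.pullbackPushforwardAdjunction AddCommGrpCat.{u} (CohCx.incl U)).leftAdjoint_preservesColimits
  have hPc : PreservesFiniteColimits P := inferInstance
  have hRl : PreservesFiniteLimits (CohTop.push (CohCx.incl U)) := by
    have : PreservesLimitsOfSize.{0, 0} (CohTop.push (CohCx.incl U)) :=
      (TopCat.Sheaf.pullbackPushforwardAdjunction AddCommGrpCat.{u} (CohCx.incl U)).rightAdjoint_preservesLimits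
    infer_instance
  have hPa : P.Additive := Functor.additive_of_preserves_binary_products _
  have hRa : (CohTop.push (CohCx.incl U)).Additive := ⟨fun {A B f g} => rfl⟩
  have hGl : PreservesFiniteLimits G := comp_preservesFiniteLimits _ _
  have hGa : G.Additive := Functor.additive_of_preserves_binary_products _
  have hiso : ∀ I : CohTop.Ab X, Injective I → Injective (P.obj I) := fun I _ =>
    Injective.of_iso (((GrothLib.SheafCoh.isOpenEmbedding_inclusion U).sheafPullbackIso AddCommGrpCat.{u}).app I).symm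
      (GrothLib.LocZ.injective_restr U I)
  let π : 𝟭 (CohTop.Ab X) ⟶ G :=
    (TopCat.Sheaf.pullbackPushforwardAdjunction AddCommGrpCat.{u} (CohCx.incl U)).unit
  let ι : LocCohZ.sectSuppF U ⟶ 𝟭 (CohTop.Ab X) :=
    { app := fun F => kernel.ι (GrothLib.LocZ.η U F)
      naturality := fun {F F'} f => kernel.lift_ι _ _ _ }
  have w : ι ≫ π = 0 := by
    ext F : 2
    exact kernel.condition (GrothLib.LocZ.η U F)
  have hse : ∀ I : CohTop.Ab X, Injective I → (GrothLib.FunSES25.seqAt ι π w I).ShortExact := fun I hI => by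
    have hf : TopCat.Sheaf.IsFlasque I := GrothLib.SheafCoh.isFlasque_of_injective I
    have hepi : Epi (GrothLib.LocZ.η U I) := by
      have : Epi ((sheafToPresheaf _ AddCommGrpCat.{u}).map (GrothLib.LocZ.η U I)) := by
        rw [NatTrans.epi_iff_epi_app]
        intro V
        exact GrothLib.LocZ.epi_η_app_of_flasque U I V.unop
      exact (sheafToPresheaf _ AddCommGrpCat.{u}).epi_of_epi_map this
    exact { exact := ShortComplex.exact_of_f_is_kernel _ (kernelIsKernel (GrothLib.LocZ.η U I))
            mono_f := inferInstanceAs (Mono (kernel.ι (GrothLib.LocZ.η U I)))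
            epi_g := hepi }
  have hid : ∀ (n : ℕ) (F : CohTop.Ab X), IsZero (((𝟭 (CohTop.Ab X)).rightDerived (n + 1)).obj F) :=
    fun n F => GrothLib.LocZ.isZero_rightDerived_exact (𝟭 _) F n
  refine ⟨⟨(GrothLib.FunSES25.cokernelIso ι π w hse (hid 0)).symm⟩, fun i hi => ?_⟩
  obtain ⟨i, rfl⟩ : ∃ k, i = k + 1 := ⟨i - 1, by omega⟩
  have : ∀ F, IsIso ((GrothLib.FunSES25.δ ι π w hse (i + 1)).app F) := fun F =>
    GrothLib.FunSES25.isIso_δ_app ι π w hse F (i + 1) (hid i F) (hid (i + 1) F)
  have : IsIso (GrothLib.FunSES25.δ ι π w hse (i + 1)) := NatIso.isIso_of_isIso_app _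
  exact ⟨(asIso (GrothLib.FunSES25.δ ι π w hse (i + 1))).symm ≪≫
    (GrothLib.LocZ.rightDerivedPreExactIso P hiso (CohTop.push (CohCx.incl U)) (i + 1)).symm⟩

end Groth.Agent.S6025
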