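import Groth.Statements.S6026
import Groth.Agent.Lib.LocZ.Excision
-- import your own Groth.Agent.* helpers here

set_option autoImplicit false
universe u
open CategoryTheory CategoryTheory.Limits TopologicalSpace
open LocCohZ

namespace Groth.Agent.S6026
set_option maxHeartbeats 200000 in
theorem exists_natural_equiv.{w, v, v', a, b} {A : Type a} [Category.{v} A] [Abelian A] [HasExt.{w} A]
    {B : Type b} [Category.{v'} B] [Abelian B] [HasExt.{w} B] {G : A ⥤ B} {Z : A} {Z' : B} (i : ℕ)
    (E : Abelian.extFunctorObj Z i ≅ G ⋙ Abelian.extFunctorObj Z' i) :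
    ∃ e : ∀ F : A, Abelian.Ext.{w} Z F i ≃+ Abelian.Ext.{w} Z' (G.obj F) i,
      ∀ (F F' : A) (φ : F ⟶ F') (x : Abelian.Ext.{w} Z F i),
        e F' ((Abelian.Ext.mk₀ φ).postcomp Z (add_zero i) x) =
          (Abelian.Ext.mk₀ (G.map φ)).postcomp Z' (add_zero i) (e F x) :=
  ⟨fun F => (E.app F).addCommGroupIsoToAddEquiv, fun F F' φ x => by
    have h := ConcreteCategory.congr_hom (E.hom.naturality φ) x
    rw [ConcreteCategory.comp_apply, ConcreteCategory.comp_apply] at h
    exact h⟩



/-- Let X be a topological space, W ⊆ V opens of X and Z = V − W. For every i there is an isomorphism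
H^i_Z(X, F) ≅ H^i_Z(V, F|_V), natural in the abelian sheaf F on X, between cohomology with supports
in Z computed on X and computed on the open subspace V. (Existence of a natural family of
isomorphisms; the published statement has the canonical maps of cohomological functors.) -/
theorem result {X : TopCat.{u}} {W V : Opens X} (h : W ≤ V) (i : ℕ) :
    ∃ e : ∀ F : CohTop.Ab X,
        LocCohZ.HZ F i h ≃+ LocCohZ.HZc (CohTop.restr F V) i ((Opens.map (CohCx.incl V)).obj W),
      ∀ (F G : CohTop.Ab X) (φ : F ⟶ G) (x : LocCohZ.HZ F i h),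
        e G (LocCohZ.map φ i h x) =
          LocCohZ.map ((CohTop.restrFunctor V).map φ) i
            (le_top : (Opens.map (CohCx.incl V)).obj W ≤ ⊤) (e F x) := by
  exact exists_natural_equiv i (GrothLib.LocZ.excisionIso V h i)

end Groth.Agent.S6026
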