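import Groth.Statements.S6028
import Groth.Agent.Lib.LocZ.Seq
-- import your own Groth.Agent.* helpers here

set_option autoImplicit false
universe u
open CategoryTheory CategoryTheory.Limits TopologicalSpace
open LocCohZ

namespace Groth.Agent.S6028

/-- Let X be a topological space and W ⊆ V ⊆ T opens of X; put Z = T − W, Z' = T − V and Z'' = V − W, so
that Z' is closed in Z with complement Z''. Then 0 → ℤ_{Z'',X} → ℤ_{Z,X} → ℤ_{Z',X} → 0 is a short
exact sequence of abelian sheaves on X, where ℤ_{Z,X} = ℤ_T/ℤ_W and the maps are the induced ones. -/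
theorem result {X : TopCat.{u}} {W V T : Opens X} (hWV : W ≤ V) (hVT : V ≤ T) :
    ∃ w : LocCohZ.zqMap (hWV.trans hVT) hWV le_rfl hVT ≫ LocCohZ.zqMap hVT (hWV.trans hVT) hWV le_rfl = 0,
      (ShortComplex.mk _ _ w).ShortExact := by
  let J := Opens.grothendieckTopology X
  have w : LocCohZ.zqMap (hWV.trans hVT) hWV le_rfl hVT ≫ LocCohZ.zqMap hVT (hWV.trans hVT) hWV le_rfl = 0 := by
    apply (cancel_epi (cokernel.π _)).1
    simp only [LocCohZ.zqMap, cokernel.π_desc_assoc, Category.assoc, cokernel.π_desc, comp_zero]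
    rw [← Category.assoc, ← CohFree.freeSheafMap_comp]
    exact cokernel.condition _
  refine ⟨w, ?_⟩
  have hepi : Epi (LocCohZ.zqMap hVT (hWV.trans hVT) hWV le_rfl) := by
    have : Epi (cokernel.π (CohCx.freeSheafMap J (homOfLE (hWV.trans hVT))) ≫
        LocCohZ.zqMap hVT (hWV.trans hVT) hWV le_rfl) := by
      rw [LocCohZ.zqMap, cokernel.π_desc]
      have : CohCx.freeSheafMap J (homOfLE (le_refl T)) = 𝟙 _ := CohFree.freeSheafMap_id J T
      rw [this, Category.id_comp]
      infer_instance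
    exact epi_of_epi (cokernel.π _) _
  have hmono : Mono (LocCohZ.zqMap (hWV.trans hVT) hWV le_rfl hVT) := by
    apply Preadditive.mono_of_cancel_zero
    intro A x hx
    obtain ⟨A₁, p, hp, a, ha⟩ := surjective_up_to_refinements_of_epi (cokernel.π (CohCx.freeSheafMap J (homOfLE hWV))) x
    have h0 : (a ≫ CohCx.freeSheafMap J (homOfLE hVT)) ≫ cokernel.π (CohCx.freeSheafMap J (homOfLE (hWV.trans hVT))) = 0 := by
      rw [Category.assoc]
      have : a ≫ cokernel.π _ ≫ LocCohZ.zqMap (hWV.trans hVT) hWV le_rfl hVT = 0 := by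
        rw [← Category.assoc, ← ha, Category.assoc, hx, comp_zero]
      rwa [LocCohZ.zqMap, cokernel.π_desc] at this
    obtain ⟨A₂, q, hq, b, hb⟩ := ((ShortComplex.exact_iff_exact_up_to_refinements _).1
      (LocCohZ.zqSeq_shortExact (hWV.trans hVT)).exact) _ h0
    have : Mono (CohCx.freeSheafMap J (homOfLE hVT)) := (LocCohZ.zqSeq_shortExact hVT).mono_f
    let b' : A₂ ⟶ CohCx.freeSheaf J W := b
    have hab : q ≫ a = b' ≫ CohCx.freeSheafMap J (homOfLE hWV) := by
      rw [← cancel_mono (CohCx.freeSheafMap J (homOfLE hVT))]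
      refine (Category.assoc _ _ _).trans (hb.trans ?_)
      refine Eq.trans ?_ (Category.assoc _ _ _).symm
      exact congrArg (b' ≫ ·) (CohFree.freeSheafMap_comp J (homOfLE hWV) (homOfLE hVT))
    have : (q ≫ p) ≫ x = 0 := by
      refine (Category.assoc _ _ _).trans ((congrArg (q ≫ ·) ha).trans ?_)
      refine ((Category.assoc _ _ _).symm.trans (congrArg (· ≫ _) hab)).trans ?_
      exact (Category.assoc _ _ _).trans ((congrArg (b' ≫ ·) (cokernel.condition _)).trans comp_zero)
    rwa [← cancel_epi (q ≫ p), comp_zero]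
  refine { exact := ShortComplex.exact_of_g_is_cokernel _ (CokernelCofork.IsColimit.ofπ _ _
    (fun {A} k hk => cokernel.desc _ (cokernel.π _ ≫ k) (by
      rw [← Category.assoc]
      have e : CohCx.freeSheafMap J (homOfLE hVT) ≫ cokernel.π (CohCx.freeSheafMap J (homOfLE (hWV.trans hVT))) =
          cokernel.π _ ≫ LocCohZ.zqMap (hWV.trans hVT) hWV le_rfl hVT := (cokernel.π_desc _ _ _).symm
      rw [e, Category.assoc]
      exact (congrArg (cokernel.π _ ≫ ·) hk).trans comp_zero))
    (fun {A} k hk => ?_) (fun {A} k hk m hm => ?_)), mono_f := hmono, epi_g := hepi }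
  · apply (cancel_epi (cokernel.π _)).1
    refine ((cokernel.π_desc_assoc _ _ _ _).trans ?_)
    have : CohCx.freeSheafMap J (homOfLE (le_refl T)) = 𝟙 _ := CohFree.freeSheafMap_id J T
    erw [this, Category.id_comp, cokernel.π_desc]
  · have : Epi (LocCohZ.zqMap hVT (hWV.trans hVT) hWV le_rfl) := hepi
    apply (cancel_epi (LocCohZ.zqMap hVT (hWV.trans hVT) hWV le_rfl)).1
    refine Eq.trans hm ?_
    apply (cancel_epi (cokernel.π _)).1
    refine Eq.trans ?_ (cokernel.π_desc_assoc _ _ _ _).symm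
    have : CohCx.freeSheafMap J (homOfLE (le_refl T)) = 𝟙 _ := CohFree.freeSheafMap_id J T
    erw [this, Category.id_comp, cokernel.π_desc]

end Groth.Agent.S6028
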