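import Groth.Statements.S6029
import Groth.Agent.Lib.LocZ.SS
-- import your own Groth.Agent.* helpers here

set_option autoImplicit false
universe u
open CategoryTheory CategoryTheory.Limits TopologicalSpace
open LocCohZ

namespace Groth.Agent.S6029

/-- For a closed subset Z = X − U of a topological space X and an abelian sheaf F on X: there is an E₂
spectral sequence of abelian groups with E₂^{p,q} ≅ H^p(X, ℋ^q_Z(F)) for p, q ≥ 0 (and 0 otherwise),
bounded, abutting with finite filtrations to H^n_Z(X, F) (n ≥ 0; 0 for n < 0). (Existence only: the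
E₂ identifications and the abutment isomorphisms are some isomorphisms, not the canonical maps of a
construction, so edge maps and low-degree exact sequences are not part of this statement.) -/
theorem result {X : TopCat.{u}} (F : CohTop.Ab X) (U : Opens X) :
    ∃ (E : E₂CohomologicalSpectralSequence AddCommGrpCat.{u})
      (a : SpSeq.Abutment E (fun n : ℤ =>
        if 0 ≤ n then AddCommGrpCat.of (LocCohZ.HZc F n.toNat U) else AddCommGrpCat.of PUnit.{u + 1})),
      (∀ n : ℤ, a.IsFinite n) ∧ SpSeq.IsBounded E ∧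
      ∀ p q : ℤ, Nonempty ((E.page 2 le_rfl).X (p, q) ≅
        (if 0 ≤ p ∧ 0 ≤ q then AddCommGrpCat.of (CohTop.HU ((LocCohZ.HZsh U q.toNat).obj F) p.toNat ⊤)
          else AddCommGrpCat.of PUnit.{u + 1})) := 
  have := GrothLib.GrothSS.preservesFiniteLimits_secAt (Opens.grothendieckTopology X) (⊤ : Opens X)
  GrothLib.GrothSS.exists_grothendieck (GrothLib.GrothSS.secAt (Opens.grothendieckTopology X) (⊤ : Opens X))
    (LocCohZ.sectSuppF U)
    (fun Q hQ q hq => by
      obtain ⟨q, rfl⟩ : ∃ k, q = k + 1 := ⟨q - 1, by omega⟩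
      have := GrothLib.SheafCoh.isFlasque_of_injective Q
      have : TopCat.Sheaf.IsFlasque ((LocCohZ.sectSuppF U).obj Q) := GrothLib.LocZ.isFlasque_sectSupp U Q
      exact GrothLib.LocZ.isZero_rightDerived_secAt_of_flasque ⊤ _ q)
    F (fun p q => AddCommGrpCat.of (CohTop.HU ((LocCohZ.HZsh U q).obj F) p ⊤))
    (fun n => AddCommGrpCat.of (LocCohZ.HZc F n U)) (AddCommGrpCat.of PUnit.{u + 1})
    (AddCommGrpCat.isZero_of_subsingleton _)
    (fun n => ⟨((GrothLib.LocZ.RHZIso U n).app F).symm ≪≫
      (GrothLib.SheafCoh.rightDerivedCongr (NatIso.ofComponents (fun G => Iso.refl _) :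
        LocCohZ.gammaZF U ≅ LocCohZ.sectSuppF U ⋙
          GrothLib.GrothSS.secAt (Opens.grothendieckTopology X) (⊤ : Opens X)) n).app F⟩)
    (fun p q => ⟨(GrothLib.GrothSS.rightDerivedSecAtIso (Opens.grothendieckTopology X) (⊤ : Opens X) _ p).symm⟩)

end Groth.Agent.S6029
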