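import Groth.Statements.S6030
import Groth.Agent.Lib.LocQCoh25.Basic
-- import your own Groth.Agent.* helpers here

set_option autoImplicit false
universe u
open CategoryTheory CategoryTheory.Limits TopologicalSpace AlgebraicGeometry
open LocCohZ

namespace Groth.Agent.S6030

/-- Let Y be a scheme, j : U → Y a quasi-compact open immersion with closed complement Z, and M a
quasi-coherent O_Y-module. Then the local cohomology sheaves ℋ^q_Z(M) (right derived functors of Γ_Z
on O_Y-modules) are quasi-coherent for every q. -/
theorem result {U Y : Scheme.{u}} (j : U ⟶ Y) [IsOpenImmersion j] [QuasiCompact j]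
    [HasInjectiveResolutions Y.Modules] (M : Y.Modules) (hM : Coh.IsQCoh M) (q : ℕ) :
    Coh.IsQCoh ((LocCohZ.HZshM j q).obj M) := by
  have : M.IsQuasicoherent := hM
  exact @GrothLib.QCoh.isQuasicoherent_of_iso _ _ _
    ((injectiveResolution M).isoRightDerivedObj (DCoh.gammaZ j) q).symm
    (GrothLib.LocQCoh25.isQuasicoherent_homology_gammaZ j (injectiveResolution M) q)

end Groth.Agent.S6030
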