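import Groth.Statements.S6033
import Groth.Agent.Lib.KoszulCech.Scheme
import Groth.Agent.Lib.LocZ.Sheaf
-- import your own Groth.Agent.* helpers here

set_option autoImplicit false
universe u
open CategoryTheory CategoryTheory.Limits TopologicalSpace AlgebraicGeometry
open LocCohZ

namespace Groth.Agent.S6033


open Opposite

variable {R : CommRingCat.{u}}

/-- `H¹((f), M) = 0` iff restriction to `⋃ D(f_k)` is onto. -/
theorem subsingleton_one_iff (fs : List R) (M : ModuleCat.{u} R) :
    Subsingleton (CohIII.koszulHLim fs M 1) ↔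
      Function.Surjective ((Coh.toAb (tilde M)).obj.map
        (homOfLE (le_top : GrothLib.KoszulCech.UU fs ≤ ⊤)).op) := by
  obtain ⟨e⟩ := GrothLib.KoszulCech.nonempty_coker_equiv fs (tilde M)
  obtain ⟨e'⟩ := GrothLib.KoszulCech.nonempty_koszulHLim_congr fs
    (show (moduleSpecΓFunctor (R := R)).obj (tilde M) ≅ M from (tilde.toTildeΓNatIso.app M).symm) 1
  rw [← (e.trans e').toEquiv.subsingleton_congr, QuotientAddGroup.subsingleton_iff,
    AddMonoidHom.range_eq_top]

/-- Flasque `M~` has no higher Koszul colimit. -/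
theorem subsingleton_of_flasque (fs : List R) (M : ModuleCat.{u} R)
    (hM : TopCat.Sheaf.IsFlasque (Coh.toAb (tilde M))) (i : ℕ) (hi : 0 < i) :
    Subsingleton (CohIII.koszulHLim fs M i) := by
  obtain ⟨j, rfl⟩ : ∃ j, i = j + 1 := ⟨i - 1, by omega⟩
  obtain ⟨e⟩ := GrothLib.KoszulCech.nonempty_supports_equiv fs (j + 1) M
  haveI : TopCat.Sheaf.IsFlasque ((GrothLib.KoszulCech.ab).obj M) := hM
  exact @Equiv.subsingleton _ _ e.symm.toEquiv
    (GrothLib.LocZ.subsingleton_HZ_of_flasque ((GrothLib.KoszulCech.ab).obj M) _ j)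

/-- Every open of a Noetherian spectrum is a finite union of basic opens. -/
theorem exists_eq_UU [NoetherianSpace (PrimeSpectrum R)] (U : (Spec R).Opens) :
    ∃ fs : List R, GrothLib.KoszulCech.UU fs = U := by
  classical
  have hc : @IsCompact (PrimeSpectrum R) _ (SetLike.coe U) := NoetherianSpace.isCompact _
  obtain ⟨s, hfin, hs⟩ := (isCompact_open_iff_eq_finite_iUnion_of_isTopologicalBasis
    (fun r : R => (PrimeSpectrum.basicOpen r : Set (PrimeSpectrum R)))
    PrimeSpectrum.isTopologicalBasis_basic_opens (fun r => PrimeSpectrum.isCompact_basicOpen r)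
    (SetLike.coe U)).1 ⟨hc, U.isOpen⟩
  refine ⟨hfin.toFinset.toList, Opens.ext ?_⟩
  ext x
  refine Iff.trans ?_ (Set.ext_iff.1 hs x).symm
  simp only [SetLike.mem_coe, Set.mem_iUnion, exists_prop]
  constructor
  · intro hx
    obtain ⟨f, hf, hxf⟩ := GrothLib.KoszulCech.exists_B_of_mem hfin.toFinset.toList hx
    exact ⟨f, by simpa using hf, hxf⟩
  · rintro ⟨f, hf, hxf⟩
    exact GrothLib.KoszulCech.B_le_UU hfin.toFinset.toList (by simpa using hf) hxf

/-- Let A be a commutative ring such that the underlying space of X = Spec A is Noetherian. Then M~ is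
flasque for every injective A-module M if and only if colim_n H^1(f^n, M) = 0 (direct limit of
Koszul cohomology of the powers) for every finite family f of elements of A and every injective
A-module M; and in that case colim_n H^i(f^n, M) = 0 for all i > 0 as well. -/
theorem result (A : Type u) [CommRing A]
    [NoetherianSpace (PrimeSpectrum A)] :
    ((∀ (M : Type u) [AddCommGroup M] [Module A M], Module.Injective A M →
        TopCat.Sheaf.IsFlasque (Coh.toAb (AlgebraicGeometry.tilde (R := CommRingCat.of A) (ModuleCat.of A M)))) ↔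
      ∀ (fs : List A) (M : Type u) [AddCommGroup M] [Module A M], Module.Injective A M →
        Subsingleton (CohIII.koszulHLim fs (ModuleCat.of A M) 1)) ∧
    ((∀ (M : Type u) [AddCommGroup M] [Module A M], Module.Injective A M →
        TopCat.Sheaf.IsFlasque (Coh.toAb (AlgebraicGeometry.tilde (R := CommRingCat.of A) (ModuleCat.of A M)))) →
      ∀ (fs : List A) (M : Type u) [AddCommGroup M] [Module A M], Module.Injective A M →
        ∀ i : ℕ, 0 < i → Subsingleton (CohIII.koszulHLim fs (ModuleCat.of A M) i)) := by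
  have h12 : (∀ (M : Type u) [AddCommGroup M] [Module A M], Module.Injective A M →
        TopCat.Sheaf.IsFlasque (Coh.toAb (AlgebraicGeometry.tilde (R := CommRingCat.of A) (ModuleCat.of A M)))) →
      ∀ (fs : List A) (M : Type u) [AddCommGroup M] [Module A M], Module.Injective A M →
        ∀ i : ℕ, 0 < i → Subsingleton (CohIII.koszulHLim fs (ModuleCat.of A M) i) :=
    fun h fs M _ _ hM i hi => subsingleton_of_flasque (R := CommRingCat.of A) fs _ (h M hM) i hi
  refine ⟨⟨fun h fs M _ _ hM => h12 h fs M hM 1 Nat.one_pos, fun h M _ _ hM => ⟨fun {U V} i => ?_⟩⟩, h12⟩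
  haveI : NoetherianSpace (PrimeSpectrum (CommRingCat.of A)) := ‹NoetherianSpace (PrimeSpectrum A)›
  obtain ⟨fs, hfs⟩ := exists_eq_UU (R := CommRingCat.of A) V.unop
  obtain ⟨V⟩ := V
  change GrothLib.KoszulCech.UU fs = V at hfs
  subst hfs
  have hs := (subsingleton_one_iff (R := CommRingCat.of A) fs (ModuleCat.of A M)).1 (h fs M hM)
  let F := Coh.toAb (AlgebraicGeometry.tilde (R := CommRingCat.of A) (ModuleCat.of A M))
  let j : op (⊤ : (Spec (CommRingCat.of A)).Opens) ⟶ U := (homOfLE le_top).op
  have e : F.obj.map j ≫ F.obj.map i = F.obj.map (homOfLE (le_top : GrothLib.KoszulCech.UU (R := CommRingCat.of A) fs ≤ ⊤)).op := by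
    rw [← F.obj.map_comp]; rfl
  haveI : Epi (F.obj.map j ≫ F.obj.map i) := by
    rw [e]
    exact (AddCommGrpCat.epi_iff_surjective _).2 hs
  exact epi_of_epi (F.obj.map j) (F.obj.map i)

end Groth.Agent.S6033
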