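import Groth.Statements.S6036
import Groth.Agent.Lib.ClosedEmb25.Ab
-- import your own Groth.Agent.* helpers here

set_option autoImplicit false
universe u
open CategoryTheory CategoryTheory.Limits TopologicalSpace
open LocCohZ

namespace Groth.Agent.S6036

/-- For a closed subset. Let X be a topological space and Z a closed subset with open complement U and
inclusion i : Z → X. Then i_* : (abelian sheaves on Z) → (abelian sheaves on X) is left adjoint to F
↦ i⁻¹ Γ_Z(F), the sheaf on Z of sections of F supported in Z: Hom(i_* G, F) ≅ Hom(G, i⁻¹ Γ_Z(F))
naturally in G and F. (Existence of an adjunction; for Z closed the extension by zero i_! is i_*.) -/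
theorem result {X : TopCat.{u}} (U : Opens X) :
    Nonempty (CohTop.push (CohCx.inclCompl U) ⊣ LocCohZ.sectSuppF U ⋙ CohTop.pull (CohCx.inclCompl U)) := by
  exact ⟨GrothLib.ClosedEmb.pushSuppAdj U⟩

end Groth.Agent.S6036
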