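import Groth.Statements.S6041
import Groth.Agent.Lib.GrpdQuot.QuotSheaf
-- import your own Groth.Agent.* helpers here

set_option autoImplicit false
open CategoryTheory CategoryTheory.Limits AlgebraicGeometry MonoidalCategory
universe u
open GrpQ

namespace Groth.Agent.S6041

open CartesianMonoidalCategory in
/-- For schemes and the fppf topology, easy direction: let `s, t : R ⇉ U` be a pair of morphisms of
schemes over `S` (in the source an equivalence relation), `T` a scheme over `S` and `i : Z ⟶ U ×_S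
T` such that `Z ⟶ T` is flat, surjective and locally of finite presentation and any two points of
`Z` over the same point of `T` have `R`-related images in `U`. Then the composite `h_Z ⟶ h_U ⟶ U/R`
descends to exactly one section of the fppf quotient sheaf `U/R` over `T`. -/
theorem result {S : Scheme.{u}} {R U : Over S} (s t : R ⟶ U)
    (T Z : Over S) (i : Z ⟶ U ⊗ T)
    [Flat (i ≫ snd U T).left] [Surjective (i ≫ snd U T).left] [LocallyOfFinitePresentation (i ≫ snd U T).left]
    (hZZ : ∀ (T' : Over S) (z₁ z₂ : T' ⟶ Z), z₁ ≫ i ≫ snd U T = z₂ ≫ i ≫ snd U T →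
      ∃ r : T' ⟶ R, r ≫ s = z₁ ≫ i ≫ fst U T ∧ r ≫ t = z₂ ≫ i ≫ fst U T) :
    ∃! σ : QuotSh.rep Scheme.fppfPrecoverage T ⟶ QuotSh.quot Scheme.fppfPrecoverage s t,
      QuotSh.repMap Scheme.fppfPrecoverage (i ≫ fst U T) ≫ QuotSh.quotπ Scheme.fppfPrecoverage s t =
        QuotSh.repMap Scheme.fppfPrecoverage (i ≫ snd U T) ≫ σ := by
  let q : Z ⟶ T := i ≫ snd U T
  let F := GrothLib.GrpdQuot.repFunctor Scheme.fppfPrecoverage (S := S)
  have : Flat q.left := ‹_›
  have : Surjective q.left := ‹_›
  have : LocallyOfFinitePresentation q.left := ‹_›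
  have hq : Epi (F.map q) :=
    GrothLib.GrpdQuot.epi_repMap_of_mem _ q (GrothLib.GrpdQuot.singleton_mem_fppf q.left)
  have hP := IsPullback.of_hasPullback q q
  have hker := Functor.map_isPullback F hP
  have := IsRegularEpiCategory.regularEpiOfEpi (F.map q)
  have hc := isColimitCoforkOfEffectiveEpi (F.map q) _ hker.isLimit
  obtain ⟨r, hr₁, hr₂⟩ := hZZ _ (Limits.pullback.fst q q) (Limits.pullback.snd q q) Limits.pullback.condition
  have heq : F.map (Limits.pullback.fst q q) ≫ F.map (i ≫ fst U T) ≫ QuotSh.quotπ _ s t =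
      F.map (Limits.pullback.snd q q) ≫ F.map (i ≫ fst U T) ≫ QuotSh.quotπ _ s t := by
    rw [← Category.assoc, ← Category.assoc, ← Functor.map_comp, ← Functor.map_comp, ← hr₁, ← hr₂,
      Functor.map_comp, Functor.map_comp, Category.assoc, Category.assoc]
    exact congrArg _ (QuotSh.quot_condition _ s t)
  obtain ⟨σ, hσ⟩ := Cofork.IsColimit.desc' hc _ heq
  have hσ' : F.map q ≫ σ = F.map (i ≫ fst U T) ≫ QuotSh.quotπ _ s t := hσ
  refine ⟨σ, hσ'.symm, fun σ' h => ?_⟩
  rw [← cancel_epi (F.map q), hσ']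
  exact h.symm

end Groth.Agent.S6041
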