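import Groth.Statements.S6042
import Groth.Agent.Lib.QuotSec13.Closed
-- import your own Groth.Agent.* helpers here

set_option autoImplicit false
open CategoryTheory CategoryTheory.Limits AlgebraicGeometry MonoidalCategory
universe u
open GrpQ

namespace Groth.Agent.S6042

set_option backward.isDefEq.respectTransparency.types false


open CartesianMonoidalCategory in
/-- The case of a closed graph, for schemes over a base scheme `S` and the fpqc topology: let `s, t : R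
⇉ U` be an equivalence relation of schemes over `S` with `s` flat, surjective and quasi-compact and
`(t, s) : R ⟶ U ×_S U` a closed immersion. For every scheme `T` over `S`, every section `σ` of the
fpqc quotient sheaf `U/R` over `T` is induced by a closed subscheme `Z ⊆ U ×_S T` which is stable
under `R ×_S T`, is flat, surjective and quasi-compact over `T`, and any two of whose points over
the same point of `T` are `R`-related (so that `R_Z ⇉ Z ⟶ T` is exact); such a `Z` is unique up to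
isomorphism over `U ×_S T`. (So the `T`-points of `U/R` are exactly these closed subschemes. The
published statement also says that this fpqc quotient sheaf is the quotient for the canonical
topology; that clause is not part of this row.) -/
theorem result {S : Scheme.{u}} {R U : Over S} (s t : R ⟶ U)
    [IsEquivalenceRelation s t]
    [Flat s.left] [Surjective s.left] [QuasiCompact s.left]
    (hc : IsClosedImmersion (lift t s).left)
    (T : Over S) (σ : QuotSh.rep Scheme.fpqcPrecoverage T ⟶ QuotSh.quot Scheme.fpqcPrecoverage s t) :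
    (∃ (Z : Over S) (i : Z ⟶ U ⊗ T), IsClosedImmersion i.left ∧
      (∀ (T' : Over S) (r : T' ⟶ R ⊗ T),
        (∃ z : T' ⟶ Z, z ≫ i = r ≫ (s ▷ T)) ↔ (∃ z : T' ⟶ Z, z ≫ i = r ≫ (t ▷ T))) ∧
      Flat (i ≫ snd U T).left ∧ Surjective (i ≫ snd U T).left ∧
      QuasiCompact (i ≫ snd U T).left ∧
      (∀ (T' : Over S) (z₁ z₂ : T' ⟶ Z), z₁ ≫ i ≫ snd U T = z₂ ≫ i ≫ snd U T →
        ∃ r : T' ⟶ R, r ≫ s = z₁ ≫ i ≫ fst U T ∧ r ≫ t = z₂ ≫ i ≫ fst U T) ∧
      QuotSh.repMap Scheme.fpqcPrecoverage (i ≫ fst U T) ≫ QuotSh.quotπ Scheme.fpqcPrecoverage s t =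
        QuotSh.repMap Scheme.fpqcPrecoverage (i ≫ snd U T) ≫ σ) ∧
    (∀ (Z Z' : Over S) (i : Z ⟶ U ⊗ T) (i' : Z' ⟶ U ⊗ T),
      IsClosedImmersion i.left → IsClosedImmersion i'.left →
      (∀ (T' : Over S) (r : T' ⟶ R ⊗ T),
        (∃ z : T' ⟶ Z, z ≫ i = r ≫ (s ▷ T)) ↔ (∃ z : T' ⟶ Z, z ≫ i = r ≫ (t ▷ T))) →
      (∀ (T' : Over S) (r : T' ⟶ R ⊗ T),
        (∃ z : T' ⟶ Z', z ≫ i' = r ≫ (s ▷ T)) ↔ (∃ z : T' ⟶ Z', z ≫ i' = r ≫ (t ▷ T))) →
      Flat (i ≫ snd U T).left → Surjective (i ≫ snd U T).left →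
      QuasiCompact (i ≫ snd U T).left →
      Flat (i' ≫ snd U T).left → Surjective (i' ≫ snd U T).left →
      QuasiCompact (i' ≫ snd U T).left →
      (∀ (T' : Over S) (z₁ z₂ : T' ⟶ Z), z₁ ≫ i ≫ snd U T = z₂ ≫ i ≫ snd U T →
        ∃ r : T' ⟶ R, r ≫ s = z₁ ≫ i ≫ fst U T ∧ r ≫ t = z₂ ≫ i ≫ fst U T) →
      (∀ (T' : Over S) (z₁ z₂ : T' ⟶ Z'), z₁ ≫ i' ≫ snd U T = z₂ ≫ i' ≫ snd U T →
        ∃ r : T' ⟶ R, r ≫ s = z₁ ≫ i' ≫ fst U T ∧ r ≫ t = z₂ ≫ i' ≫ fst U T) →
      QuotSh.repMap Scheme.fpqcPrecoverage (i ≫ fst U T) ≫ QuotSh.quotπ Scheme.fpqcPrecoverage s t =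
        QuotSh.repMap Scheme.fpqcPrecoverage (i ≫ snd U T) ≫ σ →
      QuotSh.repMap Scheme.fpqcPrecoverage (i' ≫ fst U T) ≫ QuotSh.quotπ Scheme.fpqcPrecoverage s t =
        QuotSh.repMap Scheme.fpqcPrecoverage (i' ≫ snd U T) ≫ σ →
      ∃ e : Z ≅ Z', e.hom ≫ i' = i) := by
  have hdesc : ∀ (Z : Over S) (i : Z ⟶ U ⊗ T), IsClosedImmersion i.left → ∀ {T'' T' : Over S} (q : T'' ⟶ T') (x : T' ⟶ U ⊗ T), Flat q.left → Surjective q.left →
      QuasiCompact q.left → (∃ z : T'' ⟶ Z, z ≫ i = q ≫ x) → ∃ z : T' ⟶ Z, z ≫ i = x :=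
    fun Z i hi _ _ q x hf hs hq h => by haveI := hi; exact GrothLib.QuotSec13.desc_of_closed i q x hf hs hq h
  refine ⟨?_, ?_⟩
  · obtain ⟨Z, i, hi, hfac, hf, hs, hq⟩ := GrothLib.QuotSec13.exists_closed s t hc (GrothLib.QuotSec13.elt σ)
    refine ⟨Z, i, hi, fun T' r => ?_, hf, hs, hq, fun T' z₁ z₂ h => ?_, ?_⟩
    · rw [hfac, hfac]
      unfold GrothLib.QuotSec13.Compat
      simp only [Category.assoc, whiskerRight_fst, whiskerRight_snd]
      rw [← Category.assoc r (fst R T) s, GrothLib.QuotSec13.cls_condition, Category.assoc]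
    · have h1 := (hfac (z₁ ≫ i)).1 ⟨z₁, rfl⟩
      have h2 := (hfac (z₂ ≫ i)).1 ⟨z₂, rfl⟩
      unfold GrothLib.QuotSec13.Compat at h1 h2
      simp only [Category.assoc] at h1 h2
      rw [h, ← h2] at h1
      exact GrothLib.QuotSec13.exists_of_cls_eq s t h1
    · exact (GrothLib.QuotSec13.compat_iff s t i).2 ((hfac i).1 ⟨𝟙 Z, Category.id_comp i⟩)
  · intro Z Z' i i' hi hi' hst hst' hf hs hq hf' hs' hq' _ _ hcp hcp'
    haveI := hi; haveI := hi'
    haveI : Mono i := (Over.forget S).mono_of_mono_map (inferInstanceAs (Mono i.left))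
    haveI : Mono i' := (Over.forget S).mono_of_mono_map (inferInstanceAs (Mono i'.left))
    haveI := hf; haveI := hs; haveI := hq; haveI := hf'; haveI := hs'; haveI := hq'
    have c := (GrothLib.QuotSec13.compat_iff s t i).1 hcp
    have c' := (GrothLib.QuotSec13.compat_iff s t i').1 hcp'
    obtain ⟨a, ha⟩ := (GrothLib.QuotSec13.factors_iff s t _ i' c' hst' (hdesc Z' i' hi') i).2 c
    obtain ⟨b, hb⟩ := (GrothLib.QuotSec13.factors_iff s t _ i c hst (hdesc Z i hi) i').2 c'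
    exact ⟨⟨a, b, by rw [← cancel_mono i, Category.assoc, hb, ha, Category.id_comp],
      by rw [← cancel_mono i', Category.assoc, ha, hb, Category.id_comp]⟩, ha⟩


end Groth.Agent.S6042
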