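import Groth.Statements.S6043
import Groth.Agent.Lib.QuotSec13.Closed
-- import your own Groth.Agent.* helpers here

set_option autoImplicit false
open CategoryTheory CategoryTheory.Limits AlgebraicGeometry MonoidalCategory
universe u
open GrpQ

namespace Groth.Agent.S6043

set_option backward.isDefEq.respectTransparency.types false
section
open CartesianMonoidalCategory MonoidalCategory Opposite

theorem nonempty_iso_quot (K : Precoverage Scheme.{u}) {S : Scheme.{u}} {R U : Over S} (s t : R ⟶ U)
    [IsEquivalenceRelation s t] :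
    Nonempty (QuotSh.quot K s t ≅
      (presheafToSheaf (QuotSh.J K S) (Type (u + 1))).obj (GrothLib.GrpdQuot.quotPre s t)) := by
  let a := presheafToSheaf (QuotSh.J K S) (Type (u + 1))
  have sq := (GrothLib.GrpdQuot.isPullback_quotPreπ s t).map a
  have := GrothLib.GrpdQuot.epi_quotPreπ s t
  have := IsRegularEpiCategory.regularEpiOfEpi (a.map (GrothLib.GrpdQuot.quotPreπ s t))
  obtain ⟨v, hv⟩ := IsRegularEpi.exists_of_isKernelPair (a.map (GrothLib.GrpdQuot.quotPreπ s t)) sq
    (QuotSh.quotπ K s t) (QuotSh.quot_condition K s t)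
  let d : QuotSh.quot K s t ⟶ a.obj (GrothLib.GrpdQuot.quotPre s t) :=
    coequalizer.desc (a.map (GrothLib.GrpdQuot.quotPreπ s t)) sq.w
  have hd : QuotSh.quotπ K s t ≫ d = a.map (GrothLib.GrpdQuot.quotPreπ s t) := coequalizer.π_desc _ _
  exact ⟨⟨d, v, coequalizer.hom_ext (by
      change QuotSh.quotπ K s t ≫ d ≫ v = QuotSh.quotπ K s t ≫ 𝟙 _
      rw [reassoc_of% hd, hv, Category.comp_id]),
    (cancel_epi (a.map (GrothLib.GrpdQuot.quotPreπ s t))).1 (by rw [reassoc_of% hv, hd, Category.comp_id])⟩⟩

theorem isSheaf_fpqc_quot_fppf {S : Scheme.{u}} {R U : Over S} (s t : R ⟶ U) [IsEquivalenceRelation s t]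
    [Flat s.left] [Surjective s.left] [LocallyOfFinitePresentation s.left]
    (hc : IsClosedImmersion (lift t s).left) :
    Presheaf.IsSheaf (QuotSh.J Scheme.fpqcPrecoverage S) (QuotSh.quot Scheme.fppfPrecoverage s t).obj := by
  let Q := GrothLib.GrpdQuot.quotPre s t
  let G := QuotSh.quot Scheme.fpqcPrecoverage s t
  let η : Q ⟶ G.obj :=
    { app := fun T => ↾fun x => Quotient.lift (s := GrothLib.GrpdQuot.pointSetoid s t T.unop)
        (fun a => GrothLib.QuotSec13.cls s t a) (by
          rintro a b ⟨r, rfl, rfl⟩
          exact GrothLib.QuotSec13.cls_condition s t r) x.down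
      naturality := fun {T T'} g => by
        ext ⟨x⟩
        induction x using Quotient.inductionOn with
        | h a => exact (GrothLib.QuotSec13.cls_map s t g.unop a).symm }
  haveI : Presheaf.IsLocallyInjective (QuotSh.J Scheme.fppfPrecoverage S) η := by
    refine Presheaf.isLocallyInjective_of_injective _ _ fun T => ?_
    rintro ⟨x⟩ ⟨y⟩ h
    induction x using Quotient.inductionOn with
    | h a =>
      induction y using Quotient.inductionOn with
      | h b =>
        exact congrArg ULift.up (Quotient.sound (s := GrothLib.GrpdQuot.pointSetoid s t T.unop)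
          (GrothLib.QuotSec13.exists_of_cls_eq s t h))
  haveI : Presheaf.IsLocallySurjective (QuotSh.J Scheme.fppfPrecoverage S) η := by
    refine ⟨fun {T} x => ?_⟩
    obtain ⟨Z, i, hi, hfac⟩ := GrothLib.QuotSec13.exists_closed' s t hc x
    haveI := hi
    haveI : Mono i := (Over.forget S).mono_of_mono_map (inferInstanceAs (Mono i.left))
    obtain ⟨e, he, hest⟩ := GrothLib.QuotSec13.symm_iso s t
    haveI : IsIso e.left := inferInstanceAs (IsIso ((Over.forget S).map e))
    have htl : t.left = e.left ≫ s.left := by rw [← hest, Over.comp_left]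
    haveI := HasRingHomProperty.descendsAlong_flat (P := @Flat) GrothLib.AlgSp.codescendsAlong_flat.{u}
    have hfl : Flat (i ≫ snd U T).left :=
      GrothLib.QuotSec13.prop_of_factor s t @Flat (htl ▸ inferInstance) x i hfac
    have hsu : Surjective (i ≫ snd U T).left :=
      GrothLib.QuotSec13.prop_of_factor s t @Surjective (htl ▸ inferInstance) x i hfac
    have hfp : LocallyOfFinitePresentation (i ≫ snd U T).left :=
      GrothLib.QuotSec13.prop_of_factor s t @LocallyOfFinitePresentation (htl ▸ inferInstance) x i hfac
    haveI := hfl; haveI := hsu; haveI := hfp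
    let ρ := i ≫ snd U T
    have hcov : Sieve.generate (Presieve.singleton ρ) ∈ QuotSh.J Scheme.fppfPrecoverage S T := by
      rw [GrothendieckTopology.mem_over_iff]
      refine GrothendieckTopology.superset_covering _ ?_
        (Precoverage.generate_mem_toGrothendieck (GrothLib.GrpdQuot.singleton_mem_fppf ρ.left))
      rw [Sieve.generate_le_iff]
      rintro W f ⟨⟩
      rw [Sieve.overEquiv_generate]
      exact ⟨_, 𝟙 _, ρ.left, ⟨Z, ρ, 𝟙 _, ⟨⟩, (Category.id_comp _).symm⟩, Category.id_comp _⟩
    refine GrothendieckTopology.superset_covering _ ?_ hcov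
    rw [Sieve.generate_le_iff]
    rintro W f ⟨⟩
    refine ⟨⟨Quotient.mk (GrothLib.GrpdQuot.pointSetoid s t Z) (i ≫ fst U T)⟩, ?_⟩
    exact (hfac i).1 ⟨𝟙 Z, Category.id_comp i⟩
  have hG : Presheaf.IsSheaf (QuotSh.J Scheme.fppfPrecoverage S) G.obj := by
    refine Presheaf.IsSheaf.of_le (fun T C hC => ?_) G.property
    rw [GrothendieckTopology.mem_over_iff] at hC ⊢
    exact Scheme.fppfTopology_le_fpqcTopology _ hC
  haveI : IsIso ((presheafToSheaf (QuotSh.J Scheme.fppfPrecoverage S) (Type (u + 1))).map η) :=
    (GrothendieckTopology.W_iff _ η).1 ((QuotSh.J Scheme.fppfPrecoverage S).W_of_isLocallyBijective η)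
  obtain ⟨e₁⟩ := nonempty_iso_quot Scheme.fppfPrecoverage s t
  let e : QuotSh.quot Scheme.fppfPrecoverage s t ≅ ⟨G.obj, hG⟩ :=
    e₁ ≪≫ asIso ((presheafToSheaf (QuotSh.J Scheme.fppfPrecoverage S) (Type (u + 1))).map η) ≪≫
      (sheafificationIso (⟨G.obj, hG⟩ : Sheaf (QuotSh.J Scheme.fppfPrecoverage S) (Type (u + 1)))).symm
  exact (Presheaf.isSheaf_of_iso_iff ((sheafToPresheaf _ _).mapIso e)).2 G.property

end


open CartesianMonoidalCategory in
/-- The comparison of topologies, for an equivalence relation of schemes over a base scheme `S` with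
closed graph: let `s, t : R ⇉ U` be an equivalence relation of schemes over `S` with `s` flat,
surjective and locally of finite presentation and `(t, s) : R ⟶ U ×_S U` a closed immersion. Then
the fppf quotient sheaf `U/R` on schemes over `S` satisfies the sheaf condition for the fpqc
topology. (The published statement takes `R ⟶ U` faithfully flat and quasi-compact and says that its
fpqc quotient sheaf is also the quotient for the canonical topology; this row takes `R ⟶ U` flat,
surjective and locally of finite presentation and says that the fppf quotient sheaf is already an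
fpqc sheaf.) -/
theorem result {S : Scheme.{u}} {R U : Over S} (s t : R ⟶ U)
    [IsEquivalenceRelation s t]
    [Flat s.left] [Surjective s.left] [LocallyOfFinitePresentation s.left]
    (hc : IsClosedImmersion (lift t s).left) :
    Presheaf.IsSheaf (QuotSh.J Scheme.fpqcPrecoverage S)
      (QuotSh.quot Scheme.fppfPrecoverage s t).obj := by
  exact isSheaf_fpqc_quot_fppf s t hc


end Groth.Agent.S6043
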