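import Groth.Statements.S6045
import Groth.Agent.Lib.SchEffective.OpenImm

set_option autoImplicit false
open CategoryTheory CategoryTheory.Limits AlgebraicGeometry
universe u
open GrpQ

namespace Groth.Agent.S6045

/-- Open immersions descend along the fpqc topology. For an fpqc covering family `f i : X i ⟶ S` of a
scheme `S`, every descent datum for schemes relative to the family all of whose members `Z i ⟶ X i`
are open immersions is effective. -/
theorem result {S : Scheme.{u}} {ι : Type u} {X : ι → Scheme.{u}}
    (f : ∀ i, X i ⟶ S) (hf : Presieve.ofArrows X f ∈ Scheme.fpqcPrecoverage S)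
    (D : Desc.SchDDFam f) (hD : ∀ i, IsOpenImmersion (D.obj i).hom) :
    D.IsEffective := by
  refine GrothLib.SchEffective.isEffective_of_affine_case @IsOpenImmersion (fun m Y V q hq => ?_) (fun A B p hA hB hp hs E hE => ?_) f hf D hD
  · exact GrothLib.SchEffective.sigmaMap_mem @IsOpenImmersion q hq
  · obtain ⟨U, e, -, sq, inv⟩ := GrothLib.SchEffective.exists_descent_of_openImmersion p E
    exact ⟨U, GrothLib.SchEffective.effective_of_isPullback E U e sq inv⟩

end Groth.Agent.S6045
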