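import Groth.Statements.S6048
import Groth.Agent.Lib.ShfQuot.Elements
import Mathlib.CategoryTheory.Subobject.Limits

set_option autoImplicit false
open CategoryTheory CategoryTheory.Limits MonoidalCategory
universe w v₁ u₁
open ShfCat

namespace Groth.Agent.S6048

open CartesianMonoidalCategory SemiCartesianMonoidalCategory in
/-- For sheaves of sets on a site with sheafification: let `p₁, p₂ : R ⇉ X` be an equivalence relation
of sheaves with universally effective quotient `π : X ⟶ X/R` and `Y` a sheaf. (a) A subsheaf `Z ⊆ X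
× Y` stable under `R × Y`, covering `Y`, and any two of whose points over the same point of `Y` are
`R`-related, is the pullback of `π` along exactly one `f : Y ⟶ X/R`; (b) every `f : Y ⟶ X/R` arises
in this way. -/
theorem result {C : Type u₁} [Category.{v₁} C]
    (J : GrothendieckTopology C) [HasSheafify J (Type w)]
    {R X : Sheaf J (Type w)} {p₁ p₂ : R ⟶ X}
    (e : UniversallyEffectiveEquivalenceRelation p₁ p₂) (Y : Sheaf J (Type w)) :
    (∀ (Z : Sheaf J (Type w)) (ι : Z ⟶ X ⊗ Y), Mono ι →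
      (∀ (W : Sheaf J (Type w)) (r : W ⟶ R) (y : W ⟶ Y),
        (∃ z : W ⟶ Z, z ≫ ι = lift (r ≫ p₁) y) ↔ (∃ z : W ⟶ Z, z ≫ ι = lift (r ≫ p₂) y)) →
      Epi (ι ≫ snd X Y) →
      (∀ (W : Sheaf J (Type w)) (z₁ z₂ : W ⟶ Z), z₁ ≫ ι ≫ snd X Y = z₂ ≫ ι ≫ snd X Y →
        ∃ r : W ⟶ R, r ≫ p₁ = z₁ ≫ ι ≫ fst X Y ∧ r ≫ p₂ = z₂ ≫ ι ≫ fst X Y) →
      ∃! f : Y ⟶ e.B, IsPullback (ι ≫ fst X Y) (ι ≫ snd X Y) e.π f) ∧
    (∀ f : Y ⟶ e.B, ∃ (Z : Sheaf J (Type w)) (ι : Z ⟶ X ⊗ Y), Mono ι ∧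
      (∀ (W : Sheaf J (Type w)) (r : W ⟶ R) (y : W ⟶ Y),
        (∃ z : W ⟶ Z, z ≫ ι = lift (r ≫ p₁) y) ↔ (∃ z : W ⟶ Z, z ≫ ι = lift (r ≫ p₂) y)) ∧
      Epi (ι ≫ snd X Y) ∧
      (∀ (W : Sheaf J (Type w)) (z₁ z₂ : W ⟶ Z), z₁ ≫ ι ≫ snd X Y = z₂ ≫ ι ≫ snd X Y →
        ∃ r : W ⟶ R, r ≫ p₁ = z₁ ≫ ι ≫ fst X Y ∧ r ≫ p₂ = z₂ ≫ ι ≫ fst X Y) ∧
      IsPullback (ι ≫ fst X Y) (ι ≫ snd X Y) e.π f) := by
  open GrothLib.ShfQuot CartesianMonoidalCategory SemiCartesianMonoidalCategory in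
  haveI : Epi e.π := inferInstance
  refine ⟨fun Z ι hι hst hep hrel => ?_, fun f => ?_⟩
  · haveI := hep
    haveI := hι
    obtain ⟨f, hf⟩ := exists_desc (ι ≫ snd X Y) (ι ≫ fst X Y ≫ e.π) (fun {W} a b hab => by
      obtain ⟨r, h₁, h₂⟩ := hrel W a b hab
      calc a ≫ ι ≫ fst X Y ≫ e.π = (r ≫ p₁) ≫ e.π := by rw [h₁]; simp
        _ = (r ≫ p₂) ≫ e.π := by rw [Category.assoc, Category.assoc, e.isKernelPair.w]
        _ = b ≫ ι ≫ fst X Y ≫ e.π := by rw [h₂]; simp)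
    have hw : (ι ≫ fst X Y) ≫ e.π = (ι ≫ snd X Y) ≫ f := by rw [hf, Category.assoc]
    refine ⟨f, ?_, fun f' hf' => ?_⟩
    · have key : ∀ {W : Sheaf J (Type w)} (x : W ⟶ X) (y : W ⟶ Y), x ≫ e.π = y ≫ f →
          ∃ z : W ⟶ Z, z ≫ ι = lift x y := fun {W} x y hxy => by
        obtain ⟨P, c, z, _, hz⟩ := exists_cover (ι ≫ snd X Y) y
        have hk : (z ≫ ι ≫ fst X Y) ≫ e.π = (c ≫ x) ≫ e.π := by
          rw [Category.assoc, hw, ← Category.assoc, hz, Category.assoc, Category.assoc, hxy]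
        obtain ⟨r, hr₁, hr₂⟩ := e.isKernelPair.exists_lift _ _ hk
        obtain ⟨z', hz'⟩ := (hst P r (c ≫ y)).1 ⟨z, CartesianMonoidalCategory.hom_ext _ _
          (by rw [Category.assoc, lift_fst, hr₁]) (by rw [Category.assoc, lift_snd, hz])⟩
        refine exists_factor ι c (lift x y) z' ?_
        rw [hz', comp_lift, hr₂]
      refine IsPullback.of_isLimit (c := PullbackCone.mk (ι ≫ fst X Y) (ι ≫ snd X Y) hw)
        (PullbackCone.IsLimit.mk hw (fun s => (key s.fst s.snd s.condition).choose) (fun s => ?_) (fun s => ?_)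
          (fun s m h₁ h₂ => ?_))
      · rw [← Category.assoc, (key s.fst s.snd s.condition).choose_spec, lift_fst]
      · rw [← Category.assoc, (key s.fst s.snd s.condition).choose_spec, lift_snd]
      · rw [← cancel_mono ι, (key s.fst s.snd s.condition).choose_spec]
        exact CartesianMonoidalCategory.hom_ext _ _ (by rw [lift_fst, Category.assoc, h₁])
          (by rw [lift_snd, Category.assoc, h₂])
    · rw [← cancel_epi (ι ≫ snd X Y), ← hw, hf'.w]
  · have hpb := IsPullback.of_hasPullback e.π f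
    refine ⟨pullback e.π f, lift (pullback.fst e.π f) (pullback.snd e.π f), ⟨fun a b h => ?_⟩,
      fun W r y => ?_, ?_, fun W z₁ z₂ h => ?_, ?_⟩
    · exact pullback.hom_ext (by simpa using congrArg (· ≫ fst X Y) h) (by simpa using congrArg (· ≫ snd X Y) h)
    · have hiff : ∀ x : W ⟶ X, (∃ z : W ⟶ pullback e.π f,
          z ≫ lift (pullback.fst e.π f) (pullback.snd e.π f) = lift x y) ↔ x ≫ e.π = y ≫ f := fun x => by
        refine ⟨fun ⟨z, hz⟩ => ?_, fun h => ⟨pullback.lift x y h, by rw [comp_lift, pullback.lift_fst, pullback.lift_snd]⟩⟩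
        have h₁ := congrArg (· ≫ fst X Y) hz
        have h₂ := congrArg (· ≫ snd X Y) hz
        simp only [Category.assoc, lift_fst, lift_snd] at h₁ h₂
        rw [← h₁, ← h₂, Category.assoc, Category.assoc, pullback.condition]
      rw [hiff, hiff, Category.assoc, Category.assoc, e.isKernelPair.w]
    · rw [lift_snd]; exact epi_of_isPullback hpb.flip
    · simp only [lift_snd, lift_fst] at h ⊢
      obtain ⟨r, h₁, h₂⟩ := e.isKernelPair.exists_lift (z₁ ≫ pullback.fst e.π f) (z₂ ≫ pullback.fst e.π f)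
        (by rw [Category.assoc, Category.assoc, pullback.condition, reassoc_of% h])
      exact ⟨r, h₁, h₂⟩
    · rw [lift_fst, lift_snd]; exact hpb

end Groth.Agent.S6048
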