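import Groth.Statements.S6050
import Groth.Agent.Lib.ShfQuot.GroupQuot
import Groth.Agent.Lib.ShfQuot.CartesianSub

set_option autoImplicit false
open CategoryTheory CategoryTheory.Limits MonoidalCategory
universe w v₁ u₁
open ShfCat

namespace Groth.Agent.S6050

open MonObj CartesianMonoidalCategory SemiCartesianMonoidalCategory in
/-- Let `u : H ⟶ G` be a normal subgroup sheaf of a sheaf of groups `G` on a site, `G' = G/H` the
quotient sheaf with its group structure making `π : G ⟶ G'` a homomorphism. Then `K' ↦ K' ×_{G'} G`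
is a bijection from the subgroup sheaves of `G'` onto the subgroup sheaves of `G` containing `H`
(its inverse is `K ↦ K/H`), and normal subgroup sheaves correspond to normal subgroup sheaves.
Stated for sheaves of sets in `Type w` with sheafification; a subgroup sheaf is a subobject
admitting a group structure for which its inclusion is a homomorphism. -/
theorem result {C : Type u₁} [Category.{v₁} C]
    (J : GrothendieckTopology C) [HasSheafify J (Type w)]
    {H G : Sheaf J (Type w)} [hH : GrpObj H] [hG : GrpObj G] (u : H ⟶ G) [Mono u]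
    (hu : @IsMonHom (Sheaf J (Type w)) _ _ H G hH.toMonObj hG.toMonObj u)
    (hn : ∀ (Y : Sheaf J (Type w)) (g : Y ⟶ G) (h : Y ⟶ H), ∃ h' : Y ⟶ H, g * (h ≫ u) * g⁻¹ = h' ≫ u)
    [hQ : GrpObj (coequalizer (fst G H) ((G ◁ u) ≫ hG.mul))]
    (hπ : @IsMonHom (Sheaf J (Type w)) _ _ G (coequalizer (fst G H) ((G ◁ u) ≫ hG.mul)) hG.toMonObj hQ.toMonObj
      (coequalizer.π (fst G H) ((G ◁ u) ≫ hG.mul))) :
    Set.BijOn (Subobject.pullback (coequalizer.π (fst G H) ((G ◁ u) ≫ hG.mul))).obj
      {K' : Subobject (coequalizer (fst G H) ((G ◁ u) ≫ hG.mul)) |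
        ∃ str : GrpObj (K' : Sheaf J (Type w)),
          @IsMonHom (Sheaf J (Type w)) _ _ _ _ str.toMonObj hQ.toMonObj K'.arrow}
      {K : Subobject G | Subobject.mk u ≤ K ∧
        ∃ str : GrpObj (K : Sheaf J (Type w)),
          @IsMonHom (Sheaf J (Type w)) _ _ _ _ str.toMonObj hG.toMonObj K.arrow} ∧
    ∀ (K' : Subobject (coequalizer (fst G H) ((G ◁ u) ≫ hG.mul)))
      (str' : GrpObj (K' : Sheaf J (Type w)))
      (str : GrpObj ((Subobject.pullback (coequalizer.π (fst G H) ((G ◁ u) ≫ hG.mul))).obj K' : Sheaf J (Type w))),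
      @IsMonHom (Sheaf J (Type w)) _ _ _ _ str'.toMonObj hQ.toMonObj K'.arrow →
      @IsMonHom (Sheaf J (Type w)) _ _ _ _ str.toMonObj hG.toMonObj
        ((Subobject.pullback (coequalizer.π (fst G H) ((G ◁ u) ≫ hG.mul))).obj K').arrow →
      ((∀ (Y : Sheaf J (Type w)) (g : Y ⟶ coequalizer (fst G H) ((G ◁ u) ≫ hG.mul))
          (k : Y ⟶ (K' : Sheaf J (Type w))),
          ∃ k' : Y ⟶ (K' : Sheaf J (Type w)), g * (k ≫ K'.arrow) * g⁻¹ = k' ≫ K'.arrow) ↔
        (∀ (Y : Sheaf J (Type w)) (g : Y ⟶ G)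
          (k : Y ⟶ ((Subobject.pullback (coequalizer.π (fst G H) ((G ◁ u) ≫ hG.mul))).obj K' : Sheaf J (Type w))),
          ∃ k' : Y ⟶ ((Subobject.pullback (coequalizer.π (fst G H) ((G ◁ u) ≫ hG.mul))).obj K' : Sheaf J (Type w)),
            g * (k ≫ ((Subobject.pullback (coequalizer.π (fst G H) ((G ◁ u) ≫ hG.mul))).obj K').arrow) * g⁻¹ =
              k' ≫ ((Subobject.pullback (coequalizer.π (fst G H) ((G ◁ u) ≫ hG.mul))).obj K').arrow)) := by
  haveI := hu
  haveI := hπ
  have hD : GrothLib.CartQuot.GoodImage (Sheaf J (Type w)) :=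
    { toGoodEpi := GrothLib.ShfQuot.goodEpi
      cover := fun f hf y => GrothLib.ShfQuot.exists_cover f y
      image := fun f => GrothLib.ShfQuot.image_factor f }
  exact GrothLib.CartQuot.bijOn hD u _ (fun a b => GrothLib.ShfQuot.π_eq_iff u a b)

end Groth.Agent.S6050
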