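import Groth.Statements.S6055
import Groth.Agent.Lib.ShfQuot.GroupQuot

set_option autoImplicit false
open CategoryTheory CategoryTheory.Limits MonoidalCategory
universe w v₁ u₁
open ShfCat

namespace Groth.Agent.S6055

open MonObj CartesianMonoidalCategory SemiCartesianMonoidalCategory in
/-- Let `G` be a sheaf of groups on a site, `H, L ⊆ G` subgroup sheaves and `π : G ⟶ G/H` the quotient
sheaf map. Then the pair `L × (H ∩ L) ⇉ L` (projection, right multiplication) is the kernel pair of
`L ⟶ G ⟶ G/H`, so that the image of `L` in `G/H` is the quotient sheaf `L/(H ∩ L)`. Sheaves of sets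
in `Type w` with sheafification; `H ∩ L` is the fibre product `H ×_G L`. (The published statement
assumes `H` normal and also identifies this image with `(L·H)/H`; normality is not needed for the
part stated here.) -/
theorem result {C : Type u₁} [Category.{v₁} C]
    (J : GrothendieckTopology C) [HasSheafify J (Type w)]
    {H L G : Sheaf J (Type w)} [hH : GrpObj H] [hL : GrpObj L] [hG : GrpObj G]
    (u : H ⟶ G) (l : L ⟶ G) [Mono u] [Mono l]
    (hu : @IsMonHom (Sheaf J (Type w)) _ _ H G hH.toMonObj hG.toMonObj u)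
    (hl : @IsMonHom (Sheaf J (Type w)) _ _ L G hL.toMonObj hG.toMonObj l) :
    IsKernelPair (l ≫ coequalizer.π (fst G H) ((G ◁ u) ≫ hG.mul))
      (fst L (pullback u l)) ((L ◁ pullback.snd u l) ≫ hL.mul) := by
  open MonObj CartesianMonoidalCategory SemiCartesianMonoidalCategory GrothLib.ShfQuot in
  haveI := hu
  haveI := hl
  let π := coequalizer.π (fst G H) ((G ◁ u) ≫ hG.mul)
  let p₂ : L ⊗ pullback u l ⟶ L := (L ◁ pullback.snd u l) ≫ hL.mul
  have hp : ∀ {Y : Sheaf J (Type w)} (x : Y ⟶ L ⊗ pullback u l),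
      x ≫ p₂ = (x ≫ fst _ _) * ((x ≫ snd _ _) ≫ pullback.snd u l) := fun x => by
    rw [Category.assoc]; exact comp_mul_whisker x _
  have hw : fst L (pullback u l) ≫ l ≫ π = p₂ ≫ l ≫ π := by
    rw [← Category.assoc, ← Category.assoc, π_eq_iff]
    refine ⟨snd _ _ ≫ pullback.fst u l, ?_⟩
    rw [← Category.id_comp p₂, hp, Category.id_comp, Category.id_comp, MonObj.mul_comp, Category.assoc,
      Category.assoc, pullback.condition]
  have key : ∀ {Y : Sheaf J (Type w)} (a b : Y ⟶ L), a ≫ l ≫ π = b ≫ l ≫ π →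
      ∃ x : Y ⟶ L ⊗ pullback u l, x ≫ fst _ _ = a ∧ x ≫ p₂ = b := fun a b h => by
    rw [← Category.assoc, ← Category.assoc, π_eq_iff] at h
    obtain ⟨k, hk⟩ := h
    have hk' : k ≫ u = (a⁻¹ * b) ≫ l := by
      rw [MonObj.mul_comp, GrpObj.inv_comp, hk, inv_mul_cancel_left]
    refine ⟨lift a (pullback.lift k (a⁻¹ * b) hk'), lift_fst _ _, ?_⟩
    rw [hp, lift_fst, lift_snd, pullback.lift_snd, mul_inv_cancel_left]
  refine IsPullback.of_isLimit (c := PullbackCone.mk (fst L (pullback u l)) p₂ hw)
    (PullbackCone.IsLimit.mk hw (fun s => (key s.fst s.snd s.condition).choose)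
      (fun s => (key s.fst s.snd s.condition).choose_spec.1)
      (fun s => (key s.fst s.snd s.condition).choose_spec.2) (fun s m h₁ h₂ => ?_))
  obtain ⟨ha, hb⟩ := (key s.fst s.snd s.condition).choose_spec
  refine CartesianMonoidalCategory.hom_ext _ _ (h₁.trans ha.symm) ?_
  rw [hp, h₁] at h₂
  rw [hp, ha] at hb
  exact (cancel_mono (pullback.snd u l)).1 (mul_left_cancel (h₂.trans hb.symm))

end Groth.Agent.S6055
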