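import Groth.Statements.S6056
import Groth.Agent.Lib.FppfQuot.Stages

set_option autoImplicit false
open CategoryTheory CategoryTheory.Limits AlgebraicGeometry MonoidalCategory
universe u
open RedSub

namespace Groth.Agent.S6056

open MonObj CartesianMonoidalCategory SemiCartesianMonoidalCategory in
/-- For group schemes and fppf quotients: let `K ⊆ G` be a subgroup scheme and `H ⊆ K` a subgroup scheme
normal in `K`; suppose `G/H` is represented by `q_H : G ⟶ Q_H` and `K/H` by a homomorphism `K ⟶ K'`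
of group schemes, and let `act : Q_H ×_S K' ⟶ Q_H` be the right action induced by the multiplication
of `G`. Then: (i) if `G/K` is represented by `q_K : G ⟶ Q_K`, the map `Q_H ⟶ Q_K` under `G` is an
fppf covering whose kernel pair is `Q_H ×_S K' ⇉ Q_H` (projection, action), i.e. `Q_K =
(G/H)/(K/H)`; (ii) conversely, if `p : Q_H ⟶ Y` is an fppf covering with that kernel pair, then `q_H
≫ p` represents `G/K`. -/
theorem result {S : Scheme.{u}} {H K G QH Kb : Over S}
    [hH : GrpObj H] [hK : GrpObj K] [hG : GrpObj G] [hKb : GrpObj Kb]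
    (h : H ⟶ K) (k : K ⟶ G) [Mono h] [Mono k] [IsMonHom h] [IsMonHom k]
    (hn : AlgGrp.IsNormalHom h)
    (qH : G ⟶ QH) (hqH : RedSub.IsQuotient (h ≫ k) qH)
    (qKb : K ⟶ Kb) [IsMonHom qKb] (hqKb : RedSub.IsQuotient h qKb)
    (act : QH ⊗ Kb ⟶ QH) (hact : (qH ⊗ₘ qKb) ≫ act = (G ◁ k) ≫ μ[G] ≫ qH) :
    (∀ (QK : Over S) (qK : G ⟶ QK), RedSub.IsQuotient k qK →
      ∀ qbar : QH ⟶ QK, qH ≫ qbar = qK →
        Surjective qbar.left ∧ Flat qbar.left ∧ LocallyOfFinitePresentation qbar.left ∧
          IsPullback (fst QH Kb) act qbar qbar) ∧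
    (∀ (Y : Over S) (p : QH ⟶ Y),
      Surjective p.left → Flat p.left → LocallyOfFinitePresentation p.left →
      IsPullback (fst QH Kb) act p p → RedSub.IsQuotient k (qH ≫ p)) := by
  exact ⟨fun QK qK hqK qbar hqbar => GrothLib.FppfQuot.stages hqH hqKb hact hqK qbar hqbar,
    fun Y p h1 h2 h3 hsq => GrothLib.FppfQuot.stages_converse hqH hqKb hact p ⟨h1, h2, h3⟩ hsq⟩

end Groth.Agent.S6056
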