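import Groth.Statements.S6058
import Groth.Agent.S5285
import Groth.Agent.Lib.MultLocal.TorsionDense

set_option autoImplicit false
universe u
open TensorProduct SGA3b
open SGA3b

namespace Groth.Agent.S6058

/-- Let A be a Noetherian ring, separated and complete for the I-adic topology, and H = Spec C a
commutative affine A-group (C cocommutative) with C flat and of finite type over A, such that the
reduction H₀ = Spec ((A/I) ⊗ C) is an isotrivial (A/I)-group of multiplicative type and such that
for every n > 0 the kernel ₙH = Spec (C/Jₙ) of the n-th power map is finite over A (Jₙ the ideal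
generated by the image of the augmentation ideal under the n-th power endomorphism). Then H is an
isotrivial A-group of multiplicative type. (Affine group schemes over an affine base are taken in
Hopf-algebra form; base change is the tensor product.) -/
theorem result (A : Type u) [CommRing A] [IsNoetherianRing A] (I : Ideal A) [IsAdicComplete I A]
    (C : Type u) [CommRing C] [HopfAlgebra A C] [Coalgebra.IsCocomm A C] [Module.Flat A C] (hft : Algebra.FiniteType A C)
    (h0 : IsIsotrivial (A ⧸ I) ((A ⧸ I) ⊗[A] C))
    (hfin : ∀ n : ℕ, 0 < n → Module.Finite A (C ⧸ torsionIdeal A C n)) :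
    IsIsotrivial A C := by
  have hfl : ∀ (q : Ideal C) [q.IsPrime], Ideal.map (algebraMap A C) I ≤ q → Module.Flat A (Localization.AtPrime q) :=
    fun q _ _ => Module.Flat.trans A C (Localization.AtPrime q)
  obtain ⟨e, he, heI, hK, hG⟩ := Groth.Agent.S5285.result A I C hft hfl h0
  obtain ⟨E, _, _, hEet, hEfin, hEff, M, _, ⟨ε⟩⟩ := hG
  haveI := hft
  haveI := hEff
  obtain ⟨g, hg⟩ := GrothLib.MultLocal.exists_frame_of_equiv ε
  have he0 : e = 0 := GrothLib.MultLocal.eq_zero_of_torsion he E hg fun n hn => by
    haveI := hfin n hn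
    exact GrothLib.MultLocal.mem_of_finite_quot ((IsAdicComplete.le_jacobson_bot I).trans_eq Ideal.jacobson_bot) _ he heI
  have hker : ∀ x : C, x ∈ Ideal.span {e} → x = 0 := fun x hx => by
    obtain ⟨y, rfl⟩ := Ideal.mem_span_singleton'.mp hx
    rw [he0, mul_zero]
  let π := Bialgebra.Quotient.mkBialgHom (R := A) (Ideal.span {e})
  have hbij : Function.Bijective π := by
    refine ⟨(injective_iff_map_eq_zero π).mpr fun x hx => hker x (Ideal.Quotient.eq_zero_iff_mem.mp hx),
      Ideal.Quotient.mk_surjective⟩
  let σ : (C ⧸ Ideal.span {e}) ≃ₐc[A] C := (BialgEquiv.ofBijective π hbij).symm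
  let τ : E ⊗[A] (C ⧸ Ideal.span {e}) →ₐc[E] E ⊗[A] C :=
    Bialgebra.TensorProduct.map (BialgHom.id E E) (σ : (C ⧸ Ideal.span {e}) →ₐc[A] C)
  have hτ : Function.Bijective τ :=
    (Algebra.TensorProduct.congr (AlgEquiv.refl (A₁ := E) (R := E)) σ.toAlgEquiv).bijective
  exact ⟨E, inferInstance, inferInstance, hEet, hEfin, hEff, M, inferInstance,
    ⟨(hg.push (BialgEquiv.ofBijective τ hτ)).equiv.symm⟩⟩

end Groth.Agent.S6058
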