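import Groth.Statements.S6060
import Groth.Agent.Lib.CentLoc14.Subgroups
-- import your own Groth.Agent.* helpers here

set_option autoImplicit false
open CategoryTheory MonoidalCategory CartesianMonoidalCategory MonObj GrpObj AlgebraicGeometry
universe u
open SGA3x

namespace Groth.Agent.S6060

/-- Let G be an S-group, suppose S locally Noetherian or G of finite presentation over S, and let i₁ :
H₁ ⟶ G, i₂ : H₂ ⟶ G be two sub-group-schemes (homomorphisms which are immersions) of multiplicative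
type and of finite type. Let s ∈ S be a point such that the fibre (H₁)_s is central in G_s (every
point of G_s commutes with every point of (H₁)_s) and (H₁)_s = (H₂)_s as subgroups of G_s (an
isomorphism of the fibres compatible with the inclusions). Then there is an open neighbourhood U of
s such that H₁|_U = H₂|_U as subgroups of G|_U. -/
theorem result {S : Scheme.{u}} (G H₁ H₂ : Over S) [GrpObj G] [GrpObj H₁] [GrpObj H₂]
    (hG : IsLocallyNoetherian S ∨ (LocallyOfFinitePresentation G.hom ∧ QuasiCompact G.hom ∧ QuasiSeparated G.hom))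
    (h₁ : SGA3x.IsMultTypeFT H₁) (h₂ : SGA3x.IsMultTypeFT H₂)
    (i₁ : H₁ ⟶ G) [IsMonHom i₁] [IsImmersion i₁.left] (i₂ : H₂ ⟶ G) [IsMonHom i₂] [IsImmersion i₂.left] (s : S)
    (hc : ∀ (X : Over (Spec (S.residueField s))) (g : X ⟶ Red.bc (S.fromSpecResidueField s) G)
      (h : X ⟶ Red.bc (S.fromSpecResidueField s) H₁),
      g * (h ≫ (Over.pullback (S.fromSpecResidueField s)).map i₁) = (h ≫ (Over.pullback (S.fromSpecResidueField s)).map i₁) * g)
    (hs : ∃ ψ : Red.bc (S.fromSpecResidueField s) H₁ ≅ Red.bc (S.fromSpecResidueField s) H₂,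
      ψ.hom ≫ (Over.pullback (S.fromSpecResidueField s)).map i₂ = (Over.pullback (S.fromSpecResidueField s)).map i₁) :
    ∃ U : S.Opens, s ∈ U ∧ ∃ ψ : Red.bc U.ι H₁ ≅ Red.bc U.ι H₂,
      ψ.hom ≫ (Over.pullback U.ι).map i₂ = (Over.pullback U.ι).map i₁ := by
  haveI : Mono i₁ := by haveI : Mono i₁.left := inferInstance; exact Over.mono_of_mono_left i₁
  haveI : Mono i₂ := by haveI : Mono i₂.left := inferInstance; exact Over.mono_of_mono_left i₂
  have hc₁ := GrothLib.DiagGrp.hasChartsFpqc_of_isMultTypeFT h₁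
  have hc₂ := GrothLib.DiagGrp.hasChartsFpqc_of_isMultTypeFT h₂
  obtain ⟨ψ, hψ⟩ := hs
  obtain ⟨hf, hf'⟩ := GrothLib.DiagGrp.factor_of_iso i₁ i₂ _ ψ hψ
  have hfin : LocallyOfFiniteType G.hom ∨ IsLocallyNoetherian S := hG.symm.imp (fun h => by haveI := h.1; infer_instance) id
  have hlfp : ∀ (H : Over S) [GrpObj H] (i : H ⟶ G), GrothLib.DiagGrp.HasChartsFpqc GrothLib.DiagGrp.fgM H →
      LocallyOfFinitePresentation i.left ∨ IsLocallyNoetherian S := fun H _ i hH => hfin.imp_left fun h =>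
    GrothLib.DiagGrp.lfp_of_comp_of_lft i.left G.hom (by
      rw [Over.w i]
      exact GrothLib.DiagGrp.lfp_of_isMultTypeFT hH) h
  obtain ⟨g, g'⟩ := GrothLib.CentLoc14.factor_stalk hc₁ hc₂ i₁ i₂ s hfin
    (GrothLib.CentLoc14.trivialAt_conj i₁ s hc) hf hf'
  obtain ⟨U₁, hs₁, hU₁⟩ := GrothLib.CentLoc14.exists_open_factor hc₁ i₁ i₂ (hlfp H₂ i₂ hc₂) s g
  obtain ⟨U₂, hs₂, hU₂⟩ := GrothLib.CentLoc14.exists_open_factor hc₂ i₂ i₁ (hlfp H₁ i₁ hc₁) s g'
  exact ⟨U₁ ⊓ U₂, ⟨hs₁, hs₂⟩, GrothLib.DiagGrp.exists_iso_of_factor i₁ i₂ _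
    (hU₁.precomp (S.homOfLE inf_le_left) _ (S.homOfLE_ι inf_le_left).symm)
    (hU₂.precomp (S.homOfLE inf_le_right) _ (S.homOfLE_ι inf_le_right).symm)⟩

end Groth.Agent.S6060
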