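import Groth.Statements.S6061
import Groth.Agent.Lib.HomScheme.QuasiIsotrivial

set_option autoImplicit false
open CategoryTheory MonoidalCategory CartesianMonoidalCategory MonObj GrpObj AlgebraicGeometry
universe u
open SGA3x

namespace Groth.Agent.S6061

/-- Representability; the twisted-constant structure is asserted at the level of S-schemes: Let H and G
be quasi-isotrivial S-groups of multiplicative type — etale-locally on S isomorphic, as group
schemes, to diagonalisable groups D(M), with M finitely generated in the case of G (G of finite
type). Then the functor of group homomorphisms from H to G is representable, by an S-scheme which is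
a quasi-isotrivial twisted constant S-scheme (etale-locally constant). The character groups M range
over Type 0, as in the prelude's D_S(M). (The published statement also asserts that the representing
object is a twisted constant group of type Hom(M, N), M and N the types of G and H respectively;
this row asserts only the scheme-level twisted constant structure, without the group structure or
the type.) -/
theorem result {S : Scheme.{u}} (H G : Over S) [GrpObj H] [GrpObj G]
    (hH : TwC.Locally S TwC.Topology.etale (fun S' f => ∃ (M : Type) (_ : AddCommGroup M),
      Nonempty (Grp.mk (Red.bc f H) ≅ Grp.mk (Red.DS S' M))))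
    (hG : TwC.Locally S TwC.Topology.etale (fun S' f => ∃ (M : Type) (_ : AddCommGroup M),
      AddGroup.FG M ∧ Nonempty (Grp.mk (Red.bc f G) ≅ Grp.mk (Red.DS S' M)))) :
    ∃ (A : Over S) (υ : H ⊗ A ⟶ G), AutFam.RepresentsHom H G A υ ∧ TwC.IsTwConst TwC.Topology.etale A := by
  refine GrothLib.HomScheme.exists_rep_quasiIsotrivial (fun s => ?_) fun s => ?_
  · obtain ⟨V, f, h1, h2, M, inst, h3⟩ := hH s
    exact ⟨V, f, h1, h2, M, inst, trivial, h3⟩
  · obtain ⟨V, f, h1, h2, M, inst, hM, h3⟩ := hG s
    exact ⟨V, f, h1, h2, M, inst, hM, h3⟩

end Groth.Agent.S6061
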