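import Groth.Statements.S6065
import Groth.Agent.Lib.TorsWeil14.Main

set_option autoImplicit false
open CategoryTheory MonoidalCategory CartesianMonoidalCategory MonObj GrpObj AlgebraicGeometry
universe u
open SGA3x

namespace Groth.Agent.S6065

open CategoryTheory.Limits in
/-- Let S be a locally Noetherian scheme, H a commutative S-group which is of finite type over S, and E
a nonempty set of integers n > 0 stable under multiplication, such that: a) for every n ∈ E the
kernel ₙH of the n-th power map of H (the pullback of the unit section along that map) is finite and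
flat over S; b) for every s ∈ S the family of fibres (ₙH)_s ⟶ H_s, n ∈ E, is schematically dense in
H_s (a section of the structure sheaf of H_s over an open subset whose pullback to every (ₙH)_s
vanishes is zero). Let Y be a closed subscheme of H. Then the functor on S-schemes whose value at S'
⟶ S is a point when H ×_S S' ⟶ H factors through Y and empty otherwise is representable by a closed
subscheme T of S; and if S is Noetherian there is n ∈ E such that, for every S' ⟶ S, H ×_S S' ⟶ H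
factors through Y if and only if ₙH ×_S S' ⟶ H does. -/
theorem result {S : Scheme.{u}} [IsLocallyNoetherian S]
    (H : Over S) [GrpObj H] [IsCommMonObj H] [LocallyOfFiniteType H.hom] [QuasiCompact H.hom]
    (E : Set ℕ) (hE : E.Nonempty) (hE0 : ∀ n ∈ E, 0 < n) (hEmul : ∀ m ∈ E, ∀ n ∈ E, m * n ∈ E)
    (ha : ∀ n ∈ E, IsFinite ((pullback.snd η[H].left (𝟙 H ^ n : H ⟶ H).left) ≫ H.hom) ∧ Flat ((pullback.snd η[H].left (𝟙 H ^ n : H ⟶ H).left) ≫ H.hom))
    (hb : ∀ (s : S) (V : (H.hom.fiber s).Opens) (t : Γ(H.hom.fiber s, V)),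
      (∀ n ∈ E, (MoreMor.fiberMap (pullback.snd η[H].left (𝟙 H ^ n : H ⟶ H).left) H.hom s).app V t = 0) → t = 0)
    (Y : Scheme.{u}) (y : Y ⟶ H.left) [IsClosedImmersion y] :
    (∃ (T : Scheme.{u}) (t : T ⟶ S), IsClosedImmersion t ∧
      ∀ (S' : Scheme.{u}) (g : S' ⟶ S), (∃ g' : S' ⟶ T, g' ≫ t = g) ↔
        ∃ l : pullback H.hom g ⟶ Y, l ≫ y = pullback.fst H.hom g) ∧
    (AlgebraicGeometry.IsNoetherian S → ∃ n ∈ E, ∀ (S' : Scheme.{u}) (g : S' ⟶ S),
      (∃ l : pullback H.hom g ⟶ Y, l ≫ y = pullback.fst H.hom g) ↔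
        ∃ l : pullback ((pullback.snd η[H].left (𝟙 H ^ n : H ⟶ H).left) ≫ H.hom) g ⟶ Y,
          l ≫ y = pullback.fst ((pullback.snd η[H].left (𝟙 H ^ n : H ⟶ H).left) ≫ H.hom) g ≫ (pullback.snd η[H].left (𝟙 H ^ n : H ⟶ H).left)) := by
  let xn : ℕ → (H ⟶ H) := fun n => 𝟙 H ^ n
  let v : ∀ n, pullback η[H].left (xn n).left ⟶ H.left := fun n => pullback.snd η[H].left (xn n).left
  haveI : IsLocallyNoetherian H.left := LocallyOfFiniteType.isLocallyNoetherian H.hom
  -- the closed subscheme attached to one kernel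
  have hT : ∀ n : E, ∃ (Tn : Scheme.{u}) (tn : Tn ⟶ S), IsClosedImmersion tn ∧
      ∀ (S' : Scheme.{u}) (g : S' ⟶ S), (∃ g' : S' ⟶ Tn, g' ≫ tn = g) ↔
        ∃ l : pullback (v n ≫ H.hom) g ⟶ Y, l ≫ y = pullback.fst (v n ≫ H.hom) g ≫ v n := by
    intro n
    haveI : IsFinite (v n ≫ H.hom) := (ha n n.2).1
    haveI : Flat (v n ≫ H.hom) := (ha n n.2).2
    haveI : LocallyOfFinitePresentation (v n ≫ H.hom) := inferInstance
    obtain ⟨Tn, tn, hcl, huniv, -⟩ := GrothLib.EssFree.exists_closed_essFree (v n ≫ H.hom)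
      (GrothLib.EssFree.of_finLocFree _) (pullback.fst (v n) y)
    refine ⟨Tn, tn, hcl, fun S' g => (huniv S' g).trans ⟨?_, ?_⟩⟩
    · rintro ⟨l, hl⟩
      exact ⟨l ≫ pullback.snd (v n) y, by rw [Category.assoc, ← pullback.condition, ← Category.assoc, hl]⟩
    · rintro ⟨l, hl⟩
      exact ⟨pullback.lift (pullback.fst _ _) l hl.symm, pullback.lift_fst _ _ _⟩
  choose Tn tn htn huniv using hT
  let J : E → S.IdealSheafData := fun n => (tn n).ker
  have hJ : ∀ (n : E) (S' : Scheme.{u}) (g : S' ⟶ S), (∃ g' : S' ⟶ Tn n, g' ≫ tn n = g) ↔ J n ≤ g.ker := by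
    intro n S' g
    haveI := htn n
    refine ⟨?_, fun h => ⟨IsClosedImmersion.lift (tn n) g h, IsClosedImmersion.lift_fac _ _ h⟩⟩
    rintro ⟨g', rfl⟩
    exact Scheme.Hom.le_ker_comp _ _
  let Jall := ⨆ n, J n
  -- everything lies in `Y` over the intersection
  have hdense : ∃ l : pullback H.hom Jall.subschemeι ⟶ Y, l ≫ y = pullback.fst H.hom Jall.subschemeι := by
    haveI : ∀ n : ULift.{u} E, Flat (v n.down ≫ H.hom) := fun n => (ha n.down n.down.2).2
    refine GrothLib.TorsWeil14.exists_factor_of_dense H.hom (fun n : ULift.{u} E => pullback η[H].left (xn n.down).left)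
      (fun n => v n.down) (fun s O t h => hb s O t fun n hn => h ⟨⟨n, hn⟩⟩) y Jall.subschemeι fun n => ?_
    exact (huniv n.down _ _).1 ((hJ n.down _ _).2 (by rw [Scheme.IdealSheafData.ker_subschemeι]; exact le_iSup J n.down))
  have restrict : ∀ (n : E) (S' : Scheme.{u}) (g : S' ⟶ S), (∃ l : pullback H.hom g ⟶ Y, l ≫ y = pullback.fst H.hom g) →
      J n ≤ g.ker := by
    rintro n S' g ⟨l, hl⟩
    refine (hJ n S' g).1 ((huniv n S' g).2 ⟨pullback.lift (pullback.fst _ _ ≫ v n) (pullback.snd _ _)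
      (by rw [Category.assoc]; exact pullback.condition) ≫ l, ?_⟩)
    rw [Category.assoc, hl, pullback.lift_fst]
  have extend : ∀ (S' : Scheme.{u}) (g : S' ⟶ S), Jall ≤ g.ker →
      ∃ l : pullback H.hom g ⟶ Y, l ≫ y = pullback.fst H.hom g := by
    intro S' g h
    obtain ⟨l, hl⟩ := hdense
    let g' := IsClosedImmersion.lift Jall.subschemeι g (by rw [Scheme.IdealSheafData.ker_subschemeι]; exact h)
    have hg' : g' ≫ Jall.subschemeι = g := IsClosedImmersion.lift_fac _ _ _
    refine ⟨pullback.lift (pullback.fst H.hom g) (pullback.snd H.hom g ≫ g')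
      (by rw [Category.assoc, hg', pullback.condition]) ≫ l, ?_⟩
    rw [Category.assoc, hl, pullback.lift_fst]
  refine ⟨⟨Jall.subscheme, Jall.subschemeι, inferInstance, fun S' g => ⟨?_, fun h => ?_⟩⟩, fun hN => ?_⟩
  · rintro ⟨g', rfl⟩
    refine extend _ _ ?_
    conv_lhs => rw [← Jall.ker_subschemeι]
    exact Scheme.Hom.le_ker_comp _ _
  · have hle : Jall ≤ g.ker := iSup_le fun n => restrict n S' g h
    exact ⟨IsClosedImmersion.lift Jall.subschemeι g (by rw [Scheme.IdealSheafData.ker_subschemeι]; exact hle),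
      IsClosedImmersion.lift_fac _ _ _⟩
  -- the family is directed
  have hmono : ∀ (n : E) (m : ℕ) (hm : n.1 * m ∈ E), J n ≤ J ⟨n.1 * m, hm⟩ := by
    intro n m hm
    haveI := htn ⟨n.1 * m, hm⟩
    refine (hJ n _ (tn ⟨n.1 * m, hm⟩)).1 ((huniv n _ _).2 ?_)
    obtain ⟨l, hl⟩ := (huniv ⟨n.1 * m, hm⟩ _ (tn ⟨n.1 * m, hm⟩)).1 ⟨𝟙 _, Category.id_comp _⟩
    have hη : η[H] ≫ xn m = η[H] := by
      show η[H] ≫ 𝟙 H ^ m = η[H]
      rw [MonObj.comp_pow, Category.comp_id]
      have : η[H] = (1 : 𝟙_ (Over S) ⟶ H) := by rw [Hom.one_def, toUnit_unique (toUnit _) (𝟙 _), Category.id_comp]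
      rw [this, one_pow]
    have hxx : xn n ≫ xn m = xn (n.1 * m) := by
      show (𝟙 H ^ n.1) ≫ 𝟙 H ^ m = 𝟙 H ^ (n.1 * m)
      rw [MonObj.comp_pow, Category.comp_id, pow_mul]
    let j : pullback η[H].left (xn n).left ⟶ pullback η[H].left (xn (n.1 * m)).left :=
      pullback.lift (pullback.fst _ _) (v n) (by
        rw [← hxx, Over.comp_left, ← Category.assoc, ← pullback.condition, Category.assoc, ← Over.comp_left, hη])
    have hj : j ≫ v (n.1 * m) = v n := pullback.lift_snd _ _ _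
    refine ⟨pullback.map _ _ _ _ j (𝟙 _) (𝟙 _) (by rw [Category.comp_id, reassoc_of% hj]) (by rw [Category.comp_id, Category.id_comp]) ≫ l, ?_⟩
    rw [Category.assoc, hl, pullback.lift_fst_assoc, Category.assoc, hj]
  obtain ⟨N, hNN⟩ : ∃ N : E, ∀ n, J n ≤ J N := by
    classical
    haveI := hN
    have hbasis : ∀ x : S, ∃ U : S.affineOpens, x ∈ U.1 := fun x => by
      obtain ⟨_, ⟨U, hU, rfl⟩, hxU, -⟩ := S.isBasis_affineOpens.exists_subset_of_mem_open (Set.mem_univ x) isOpen_univ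
      exact ⟨⟨U, hU⟩, hxU⟩
    choose U hxU using hbasis
    obtain ⟨cov, hcov⟩ := isCompact_univ.elim_finite_subcover (fun x => ((U x).1 : Set S)) (fun x => (U x).1.2)
      (fun x _ => Set.mem_iUnion.2 ⟨x, hxU x⟩)
    have hmax : ∀ x : S, ∃ m : E, ∀ n, (J n).ideal (U x) ≤ (J m).ideal (U x) := by
      intro x
      haveI : IsNoetherianRing Γ(S, (U x).1) := IsLocallyNoetherian.component_noetherian (U x)
      haveI : Nonempty E := hE.to_subtype
      obtain ⟨_, ⟨m, rfl⟩, hm⟩ := set_has_maximal_iff_noetherian.2 (inferInstance : IsNoetherian Γ(S, (U x).1) Γ(S, (U x).1))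
        (Set.range fun n => (J n).ideal (U x)) (Set.range_nonempty _)
      refine ⟨m, fun n => ?_⟩
      have hmem : m.1 * n.1 ∈ E := hEmul _ m.2 _ n.2
      have h1 : J m ≤ J ⟨m.1 * n.1, hmem⟩ := hmono m n hmem
      have h2 : J n ≤ J ⟨m.1 * n.1, hmem⟩ := by
        have := hmono n m (by rw [mul_comm]; exact hmem)
        simpa [mul_comm] using this
      rcases eq_or_lt_of_le (h1 (U x)) with h | h
      · rw [h]
        exact h2 (U x)
      · exact absurd h (hm _ ⟨_, rfl⟩)
    choose m hm using hmax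
    obtain ⟨N, hN⟩ : ∃ N : E, ∀ x ∈ cov, J (m x) ≤ J N := by
      clear hcov
      induction cov using Finset.induction_on with
      | empty => exact ⟨⟨_, hE.choose_spec⟩, fun x hx => absurd hx (Finset.notMem_empty x)⟩
      | insert a s _ ih =>
        obtain ⟨N, hN⟩ := ih
        have hmem : N.1 * (m a).1 ∈ E := hEmul _ N.2 _ (m a).2
        refine ⟨⟨_, hmem⟩, fun x hx => ?_⟩
        rcases Finset.mem_insert.1 hx with rfl | hx
        · have := hmono (m x) N.1 (by rw [mul_comm]; exact hmem)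
          simpa [mul_comm] using this
        · exact (hN x hx).trans (hmono N _ hmem)
    refine ⟨N, fun n => Scheme.IdealSheafData.le_of_iSup_eq_top (fun x : cov => U x) ?_ fun x => (hm x n).trans ((hN x x.2) (U x))⟩
    rw [eq_top_iff]
    intro z _
    obtain ⟨x, hx, hz⟩ := Set.mem_iUnion₂.1 (hcov (Set.mem_univ z))
    exact TopologicalSpace.Opens.mem_iSup.2 ⟨⟨x, hx⟩, hz⟩
  refine ⟨N, N.2, fun S' g => ⟨fun h => (huniv N S' g).1 ((hJ N S' g).2 (restrict N S' g h)), fun h => ?_⟩⟩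
  exact extend S' g (iSup_le fun n => (hNN n).trans ((hJ N S' g).1 ((huniv N S' g).2 h)))

end Groth.Agent.S6065
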