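import Groth.Statements.S6066
-- import your own Groth.Agent.* helpers here

import Groth.Agent.Lib.TorsWeil14.BaseChange
import Groth.Agent.Lib.EssFree.Transporter
import Groth.Agent.Lib.EssFree.Descent
set_option linter.style.haveILetI false
set_option backward.isDefEq.respectTransparency false

set_option autoImplicit false
open CategoryTheory MonoidalCategory CartesianMonoidalCategory MonObj GrpObj AlgebraicGeometry
universe u
open SGA3x

namespace Groth.Agent.S6066

open CategoryTheory.Limits in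
/-- Let S be a locally Noetherian scheme, H a commutative S-group which is of finite type over S, and E
a nonempty set of integers n > 0 stable under multiplication such that a) every kernel ₙH of the
n-th power map (n ∈ E; the pullback of the unit section along that map) is finite and flat over S
and b) for every s ∈ S the family of fibres (ₙH)_s ⟶ H_s, n ∈ E, is schematically dense in H_s. Let
u : H ⟶ G be a homomorphism into an S-group G locally of finite type over S and k : K ⟶ G a closed
sub-group-scheme. Then the transporter of u into K — the subfunctor of G of those points g, with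
values in an S-scheme X, such that for every X' ⟶ X and every X'-valued point h of H the point g
u(h) g⁻¹ lies in K — is representable by a closed subscheme of G; and if the scheme G is Noetherian
there is n ∈ E such that a point g of G lies in the transporter if and only if g u(h) g⁻¹ lies in K
for all points h of H with h^n = 1. (The published statement is over an arbitrary base S and also
asserts that the transporter is smooth over S when G is smooth, K is smooth or of multiplicative
type and the ₙH, n ∈ E, are of multiplicative type; this row assumes S locally Noetherian, the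
setting in which the printed argument through the base G applies, and does not state the smoothness
assertion.) -/
theorem result {S : Scheme.{u}} [IsLocallyNoetherian S]
    (H : Over S) [GrpObj H] [IsCommMonObj H] [LocallyOfFiniteType H.hom] [QuasiCompact H.hom]
    (E : Set ℕ) (hE : E.Nonempty) (hE0 : ∀ n ∈ E, 0 < n) (hEmul : ∀ m ∈ E, ∀ n ∈ E, m * n ∈ E)
    (ha : ∀ n ∈ E, IsFinite ((pullback.snd η[H].left (𝟙 H ^ n : H ⟶ H).left) ≫ H.hom) ∧ Flat ((pullback.snd η[H].left (𝟙 H ^ n : H ⟶ H).left) ≫ H.hom))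
    (hb : ∀ (s : S) (V : (H.hom.fiber s).Opens) (t : Γ(H.hom.fiber s, V)),
      (∀ n ∈ E, (MoreMor.fiberMap (pullback.snd η[H].left (𝟙 H ^ n : H ⟶ H).left) H.hom s).app V t = 0) → t = 0)
    (G K : Over S) [GrpObj G] [GrpObj K] [LocallyOfFiniteType G.hom] (u : H ⟶ G) [IsMonHom u]
    (k : K ⟶ G) [IsMonHom k] [IsClosedImmersion k.left] :
    (∃ (T : Over S) (j : T ⟶ G), IsClosedImmersion j.left ∧
      ∀ (X : Over S) (g : X ⟶ G), (∃ t : X ⟶ T, t ≫ j = g) ↔
        ∀ (X' : Over S) (x : X' ⟶ X) (h : X' ⟶ H), ∃ κ : X' ⟶ K, (x ≫ g) * (h ≫ u) * (x ≫ g)⁻¹ = κ ≫ k) ∧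
    (AlgebraicGeometry.IsNoetherian G.left → ∃ n ∈ E, ∀ (X : Over S) (g : X ⟶ G),
      (∀ (X' : Over S) (x : X' ⟶ X) (h : X' ⟶ H), ∃ κ : X' ⟶ K, (x ≫ g) * (h ≫ u) * (x ≫ g)⁻¹ = κ ≫ k) ↔
        ∀ (X' : Over S) (x : X' ⟶ X) (h : X' ⟶ H), h ^ n = 1 → ∃ κ : X' ⟶ K, (x ≫ g) * (h ≫ u) * (x ≫ g)⁻¹ = κ ≫ k) := by
  let conj : ∀ {X' : Over S}, (X' ⟶ G) → (X' ⟶ H) → (X' ⟶ G) := fun a h => a * (h ≫ u) * a⁻¹
  have nat : ∀ {X' X'' : Over S} (x : X'' ⟶ X') (a : X' ⟶ G) (h : X' ⟶ H), x ≫ conj a h = conj (x ≫ a) (x ≫ h) :=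
    fun x a h => by simp only [conj, MonObj.comp_mul, GrpObj.comp_inv, Category.assoc]
  let xn : ℕ → (H ⟶ H) := fun n => 𝟙 H ^ n
  let v : ∀ n, pullback η[H].left (xn n).left ⟶ H.left := fun n => pullback.snd η[H].left (xn n).left
  let N : ℕ → Over S := fun n => Over.mk (v n ≫ H.hom)
  let w : ∀ n, N n ⟶ H := fun n => Over.homMk (v n)
  -- the points of the kernels
  have hwN : ∀ (n : ℕ) {X' : Over S} (h : X' ⟶ H), h ^ n = 1 ↔ ∃ z : X' ⟶ N n, z ≫ w n = h := by
    intro n X' h
    have hpow : h ^ n = h ≫ xn n := by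
      show h ^ n = h ≫ 𝟙 H ^ n
      rw [MonObj.comp_pow, Category.comp_id]
    have hη : η[H].left ≫ H.hom = 𝟙 S := Over.w η[H]
    constructor
    · intro hn
      have h1 : (toUnit X').left ≫ η[H].left = h.left ≫ (xn n).left := by
        rw [← Over.comp_left, ← Over.comp_left, ← hpow, hn, Hom.one_def]
      exact ⟨Over.homMk (pullback.lift _ h.left h1) (by
        show pullback.lift _ h.left h1 ≫ v n ≫ H.hom = X'.hom
        rw [← Category.assoc, pullback.lift_snd, Over.w h]), Over.OverMorphism.ext (pullback.lift_snd _ _ _)⟩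
    · rintro ⟨z, rfl⟩
      have h2 : w n ≫ xn n = 1 := by
        apply Over.OverMorphism.ext
        have h3 : (toUnit (N n)).left = pullback.fst η[H].left (xn n).left := by
          have h4 := congrArg (· ≫ H.hom) (pullback.condition (f := η[H].left) (g := (xn n).left))
          simp only [Category.assoc, hη, Category.comp_id, Over.w (xn n)] at h4
          exact (Over.w (toUnit (N n))).trans h4.symm
        rw [Hom.one_def, Over.comp_left, Over.comp_left, h3]
        exact pullback.condition.symm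
      rw [hpow, Category.assoc, h2, MonObj.comp_one]
  let C : ℕ → ∀ (X : Over S), (X ⟶ G) → Prop := fun n X g => ∀ (X' : Over S) (x : X' ⟶ X) (z : X' ⟶ N n),
    ∃ κ : X' ⟶ K, conj (x ≫ g) (z ≫ w n) = κ ≫ k
  let Call : ∀ (X : Over S), (X ⟶ G) → Prop := fun X g => ∀ (X' : Over S) (x : X' ⟶ X) (h : X' ⟶ H),
    ∃ κ : X' ⟶ K, conj (x ≫ g) h = κ ≫ k
  -- the closed subscheme attached to one kernel
  have hT : ∀ n : E, ∃ (Tn : Scheme.{u}) (tn : Tn ⟶ G.left), IsClosedImmersion tn ∧
      ∀ (X : Over S) (g : X ⟶ G), (∃ g' : X.left ⟶ Tn, g' ≫ tn = g.left) ↔ C n X g := by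
    intro n
    let p := (CartesianMonoidalCategory.snd (N n) G).left
    haveI : IsFinite (v n ≫ H.hom) := (ha n n.2).1
    haveI : Flat (v n ≫ H.hom) := (ha n n.2).2
    haveI : LocallyOfFinitePresentation (v n ≫ H.hom) := inferInstance
    haveI : IsFinite p := inferInstanceAs (IsFinite (pullback.snd (v n ≫ H.hom) G.hom))
    haveI : Flat p := inferInstanceAs (Flat (pullback.snd (v n ≫ H.hom) G.hom))
    haveI : LocallyOfFinitePresentation p :=
      inferInstanceAs (LocallyOfFinitePresentation (pullback.snd (v n ≫ H.hom) G.hom))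
    let cn : N n ⊗ G ⟶ G := conj (CartesianMonoidalCategory.snd _ _) (CartesianMonoidalCategory.fst _ _ ≫ w n)
    obtain ⟨Tn, tn, hcl, huniv, -⟩ := GrothLib.EssFree.exists_closed_essFree p
      (GrothLib.EssFree.of_finLocFree _) (pullback.fst cn.left k.left)
    refine ⟨Tn, tn, hcl, fun X g => (huniv X.left g.left).trans ⟨?_, ?_⟩⟩
    · rintro ⟨l, hl⟩ X' x z
      let a : X' ⟶ N n ⊗ G := CartesianMonoidalCategory.lift z (x ≫ g)
      have ha' : a.left ≫ p = x.left ≫ g.left := by
        rw [← Over.comp_left, ← Over.comp_left]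
        exact congrArg Over.Hom.left (lift_snd _ _)
      have hκ : (pullback.lift a.left x.left ha' ≫ l ≫ pullback.snd cn.left k.left) ≫ k.left = a.left ≫ cn.left := by
        rw [Category.assoc, Category.assoc, ← pullback.condition, reassoc_of% hl, pullback.lift_fst_assoc]
      refine ⟨Over.homMk (pullback.lift a.left x.left ha' ≫ l ≫ pullback.snd cn.left k.left) (by
        rw [← Over.w k, ← Category.assoc, hκ, ← Over.comp_left, Over.w]), ?_⟩
      have h1 : a ≫ cn = conj (x ≫ g) (z ≫ w n) := by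
        rw [nat, lift_snd, ← Category.assoc, lift_fst]
      rw [← h1]
      exact Over.OverMorphism.ext hκ.symm
    · intro h
      let X' : Over S := Over.mk (pullback.fst p g.left ≫ (N n ⊗ G).hom)
      let a : X' ⟶ N n ⊗ G := Over.homMk (pullback.fst p g.left) rfl
      let x : X' ⟶ X := Over.homMk (pullback.snd p g.left) (by
        show pullback.snd p g.left ≫ X.hom = pullback.fst p g.left ≫ (N n ⊗ G).hom
        rw [← Over.w g, ← Category.assoc, ← pullback.condition, Category.assoc, Over.w])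
      have hx : x ≫ g = a ≫ CartesianMonoidalCategory.snd _ _ := Over.OverMorphism.ext pullback.condition.symm
      obtain ⟨κ, hκ⟩ := h X' x (a ≫ CartesianMonoidalCategory.fst _ _)
      rw [hx, Category.assoc, ← nat] at hκ
      exact ⟨pullback.lift (pullback.fst p g.left) κ.left (congrArg (fun t => t.left) hκ), pullback.lift_fst _ _ _⟩
  choose Tn tn htn huniv using hT
  let J : E → G.left.IdealSheafData := fun n => (tn n).ker
  have hJ : ∀ (n : E) (X : Over S) (g : X ⟶ G), C n X g ↔ J n ≤ g.left.ker := by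
    intro n X g
    rw [← huniv]
    haveI := htn n
    refine ⟨?_, fun h => ⟨IsClosedImmersion.lift (tn n) g.left h, IsClosedImmersion.lift_fac _ _ h⟩⟩
    rintro ⟨g', hg'⟩
    rw [← hg']
    exact Scheme.Hom.le_ker_comp _ _
  have restrict : ∀ (n : E) (X : Over S) (g : X ⟶ G), Call X g → C n X g := fun n X g h X' x z => h X' x (z ≫ w n)
  let Jall := ⨆ n, J n
  let T : Over S := Over.mk (Jall.subschemeι ≫ G.hom)
  let j : T ⟶ G := Over.homMk Jall.subschemeι
  -- the universal point over the intersection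
  let cT : H ⊗ T ⟶ G := conj (CartesianMonoidalCategory.snd _ _ ≫ j) (CartesianMonoidalCategory.fst _ _)
  haveI : IsIso (pullback.fst cT.left k.left) := by
    haveI : ∀ n : ULift.{u} E, Flat (v n.down ≫ H.hom) := fun n => (ha n.down n.down.2).2
    refine GrothLib.TorsWeil14.isIso_of_dense H.hom T.hom (fun n : ULift.{u} E => pullback η[H].left (xn n.down).left)
      (fun n => v n.down) (fun s O t h => hb s O t fun n hn => h ⟨⟨n, hn⟩⟩) (pullback.fst cT.left k.left) fun n => ?_
    have hn : C n.down T j := (hJ n.down T j).2 (by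
      show J n.down ≤ Jall.subschemeι.ker
      rw [Scheme.IdealSheafData.ker_subschemeι]
      exact le_iSup J n.down)
    obtain ⟨κ, hκ⟩ := hn (N n.down ⊗ T) (CartesianMonoidalCategory.snd _ _) (CartesianMonoidalCategory.fst _ _)
    let m : N n.down ⊗ T ⟶ H ⊗ T :=
      CartesianMonoidalCategory.lift (CartesianMonoidalCategory.fst _ _ ≫ w n.down) (CartesianMonoidalCategory.snd _ _)
    have hm : m ≫ cT = κ ≫ k := by
      rw [← hκ, nat, lift_fst, ← Category.assoc, lift_snd]
    have hm' : m.left = GrothLib.TorsWeil14.bcMember H.hom T.hom (v n.down) := by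
      apply pullback.hom_ext
      · exact (congrArg Over.Hom.left (lift_fst _ _)).trans (pullback.lift_fst _ _ _).symm
      · exact (congrArg Over.Hom.left (lift_snd _ _)).trans ((Category.comp_id _).symm.trans (pullback.lift_snd _ _ _).symm)
    exact ⟨pullback.lift m.left κ.left (congrArg (fun t => t.left) hm),
      (pullback.lift_fst _ _ _).trans hm'⟩
  have hκT : (inv (pullback.fst cT.left k.left) ≫ pullback.snd cT.left k.left) ≫ k.left = cT.left := by
    rw [Category.assoc, ← pullback.condition, IsIso.inv_hom_id_assoc]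
  let κT : H ⊗ T ⟶ K := Over.homMk (inv (pullback.fst cT.left k.left) ≫ pullback.snd cT.left k.left)
    (by rw [← Over.w k, ← Category.assoc, hκT, Over.w])
  have hall : Call T j := fun X' x h => ⟨CartesianMonoidalCategory.lift h x ≫ κT, by
    rw [Category.assoc, show κT ≫ k = cT from Over.OverMorphism.ext hκT, nat, lift_fst, ← Category.assoc, lift_snd]⟩
  have extend : ∀ (X : Over S) (g : X ⟶ G), Jall ≤ g.left.ker → (∃ t : X ⟶ T, t ≫ j = g) := by
    intro X g h
    refine ⟨Over.homMk (IsClosedImmersion.lift Jall.subschemeι g.left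
      (by rw [Scheme.IdealSheafData.ker_subschemeι]; exact h)) ?_, Over.OverMorphism.ext (IsClosedImmersion.lift_fac _ _ _)⟩
    show _ ≫ Jall.subschemeι ≫ G.hom = X.hom
    rw [IsClosedImmersion.lift_fac_assoc, Over.w g]
  have hTj : ∀ (X : Over S) (g : X ⟶ G), (∃ t : X ⟶ T, t ≫ j = g) → Call X g := by
    rintro X g ⟨t, rfl⟩ X' x h
    rw [← Category.assoc]
    exact hall X' (x ≫ t) h
  refine ⟨⟨T, j, inferInstanceAs (IsClosedImmersion Jall.subschemeι), fun X g => ⟨fun h => hTj X g h, fun h =>
    extend X g (iSup_le fun n => (hJ n X g).1 (restrict n X g h))⟩⟩, fun hN => ?_⟩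
  -- the family is directed
  have hmono : ∀ (n : E) (m : ℕ) (hm : n.1 * m ∈ E), J n ≤ J ⟨n.1 * m, hm⟩ := by
    intro n m hm
    haveI := htn ⟨n.1 * m, hm⟩
    let Tm : Over S := Over.mk (tn ⟨n.1 * m, hm⟩ ≫ G.hom)
    let jm : Tm ⟶ G := Over.homMk (tn ⟨n.1 * m, hm⟩)
    refine (hJ n Tm jm).1 fun X' x z => ?_
    obtain ⟨z', hz'⟩ := (hwN (n.1 * m) (z ≫ w n.1)).1 (by rw [pow_mul, (hwN n.1 _).2 ⟨z, rfl⟩, one_pow])
    rw [← hz']
    exact (huniv ⟨n.1 * m, hm⟩ Tm jm).1 ⟨𝟙 _, Category.id_comp _⟩ X' x z'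
  obtain ⟨M, hMM⟩ : ∃ M : E, ∀ n, J n ≤ J M := by
    classical
    haveI := hN
    have hbasis : ∀ x : G.left, ∃ U : G.left.affineOpens, x ∈ U.1 := fun x => by
      obtain ⟨_, ⟨U, hU, rfl⟩, hxU, -⟩ := G.left.isBasis_affineOpens.exists_subset_of_mem_open (Set.mem_univ x) isOpen_univ
      exact ⟨⟨U, hU⟩, hxU⟩
    choose U hxU using hbasis
    obtain ⟨cov, hcov⟩ := isCompact_univ.elim_finite_subcover (fun x => ((U x).1 : Set G.left)) (fun x => (U x).1.2)
      (fun x _ => Set.mem_iUnion.2 ⟨x, hxU x⟩)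
    have hmax : ∀ x : G.left, ∃ m : E, ∀ n, (J n).ideal (U x) ≤ (J m).ideal (U x) := by
      intro x
      haveI : IsNoetherianRing Γ(G.left, (U x).1) := IsLocallyNoetherian.component_noetherian (U x)
      haveI : Nonempty E := hE.to_subtype
      obtain ⟨_, ⟨m, rfl⟩, hm⟩ := set_has_maximal_iff_noetherian.2 (inferInstance : IsNoetherian Γ(G.left, (U x).1) Γ(G.left, (U x).1))
        (Set.range fun n => (J n).ideal (U x)) (Set.range_nonempty _)
      refine ⟨m, fun n => ?_⟩
      have hmem : m.1 * n.1 ∈ E := hEmul _ m.2 _ n.2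
      have h1 : J m ≤ J ⟨m.1 * n.1, hmem⟩ := hmono m n hmem
      have h2 : J n ≤ J ⟨m.1 * n.1, hmem⟩ := by
        have := hmono n m (by rw [mul_comm]; exact hmem)
        simpa [mul_comm] using this
      rcases eq_or_lt_of_le (h1 (U x)) with h | h
      · rw [h]
        exact h2 (U x)
      · exact absurd h (hm _ ⟨_, rfl⟩)
    choose m hm using hmax
    obtain ⟨M, hM⟩ : ∃ M : E, ∀ x ∈ cov, J (m x) ≤ J M := by
      clear hcov
      induction cov using Finset.induction_on with
      | empty => exact ⟨⟨_, hE.choose_spec⟩, fun x hx => absurd hx (Finset.notMem_empty x)⟩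
      | insert a s _ ih =>
        obtain ⟨M, hM⟩ := ih
        have hmem : M.1 * (m a).1 ∈ E := hEmul _ M.2 _ (m a).2
        refine ⟨⟨_, hmem⟩, fun x hx => ?_⟩
        rcases Finset.mem_insert.1 hx with rfl | hx
        · have := hmono (m x) M.1 (by rw [mul_comm]; exact hmem)
          simpa [mul_comm] using this
        · exact (hM x hx).trans (hmono M _ hmem)
    refine ⟨M, fun n => Scheme.IdealSheafData.le_of_iSup_eq_top (fun x : cov => U x) ?_ fun x => (hm x n).trans ((hM x x.2) (U x))⟩
    rw [eq_top_iff]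
    intro z _
    obtain ⟨x, hx, hz⟩ := Set.mem_iUnion₂.1 (hcov (Set.mem_univ z))
    exact TopologicalSpace.Opens.mem_iSup.2 ⟨⟨x, hx⟩, hz⟩
  refine ⟨M, M.2, fun X g => ⟨fun h X' x a _ => h X' x a, fun h => hTj X g (extend X g (iSup_le fun n => ?_))⟩⟩
  refine (hMM n).trans ((hJ M X g).1 fun X' x z => ?_)
  exact h X' x (z ≫ w M) ((hwN M _).2 ⟨z, rfl⟩)

end Groth.Agent.S6066
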