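import Groth.Statements.S6070
import Groth.Agent.Lib.MultPres14.Basic
import Groth.Agent.Lib.RankOne.Concrete
-- import your own Groth.Agent.* helpers here

set_option autoImplicit false
open CategoryTheory MonoidalCategory CartesianMonoidalCategory MonObj GrpObj AlgebraicGeometry
universe u
open SGA3x

namespace Groth.Agent.S6070

open GrothLib.MultPres14 CategoryTheory.Limits in
/-- In lifting form: what formal smoothness of the morphism H ↦ ₙH of the functor of multiplicative
subgroups means. Let S = Spec R be affine, J a nilpotent ideal of R, S₀ = Spec (R/J), n a natural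
number and G an S-group which is smooth over S. Let j₀ : H₀ ⟶ G₀ = G ×_S S₀ be a sub-group-scheme (a
homomorphism which is an immersion) of multiplicative type (fpqc-locally isomorphic, as a group, to
diagonalisable groups D(M), M allowed to vary and taken in Type 0), and l : L ⟶ G a sub-group-scheme
of multiplicative type whose base change to S₀ is the n-torsion of H₀ inside G₀: a point of G₀
factors through L ×_S S₀ if and only if it is j₀(h) for a point h of H₀ with h^n = 1. Then there is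
a sub-group-scheme j : H ⟶ G of multiplicative type whose base change to S₀ coincides with H₀ as a
subgroup of G₀ (an isomorphism compatible with the maps to G₀) and whose n-torsion is L: a point of
G factors through L if and only if it is j(h) for a point h of H with h^n = 1. -/
theorem result {R : Type u} [CommRing R] (J : Ideal R) (hJ : IsNilpotent J) (n : ℕ)
    (G : Over (Spec (CommRingCat.of R))) [GrpObj G] (hG : Smooth G.hom)
    (H₀ : Over (Spec (CommRingCat.of (R ⧸ J)))) [GrpObj H₀]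
    (hH₀ : TwC.Locally (Spec (CommRingCat.of (R ⧸ J))) TwC.Topology.fpqc (fun S' f => ∃ (M : Type) (_ : AddCommGroup M), Nonempty (Grp.mk (Red.bc f H₀) ≅ Grp.mk (Red.DS S' M))))
    (j₀ : H₀ ⟶ Red.bc (Spec.map (CommRingCat.ofHom (Ideal.Quotient.mk J))) G) [IsMonHom j₀] [IsImmersion j₀.left]
    (L : Over (Spec (CommRingCat.of R))) [GrpObj L] (hL : TwC.Locally (Spec (CommRingCat.of R)) TwC.Topology.fpqc (fun S' f => ∃ (M : Type) (_ : AddCommGroup M), Nonempty (Grp.mk (Red.bc f L) ≅ Grp.mk (Red.DS S' M))))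
    (l : L ⟶ G) [IsMonHom l] [IsImmersion l.left]
    (hL0 : ∀ (X : Over (Spec (CommRingCat.of (R ⧸ J)))) (g : X ⟶ Red.bc (Spec.map (CommRingCat.ofHom (Ideal.Quotient.mk J))) G),
      (∃ y : X ⟶ Red.bc (Spec.map (CommRingCat.ofHom (Ideal.Quotient.mk J))) L, y ≫ (Over.pullback (Spec.map (CommRingCat.ofHom (Ideal.Quotient.mk J)))).map l = g) ↔
        ∃ h : X ⟶ H₀, h ^ n = 1 ∧ h ≫ j₀ = g) :
    ∃ (H : Over (Spec (CommRingCat.of R))) (_ : GrpObj H) (j : H ⟶ G), IsMonHom j ∧ IsImmersion j.left ∧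
      TwC.Locally (Spec (CommRingCat.of R)) TwC.Topology.fpqc (fun S' f => ∃ (M : Type) (_ : AddCommGroup M), Nonempty (Grp.mk (Red.bc f H) ≅ Grp.mk (Red.DS S' M))) ∧
      (∃ φ : Red.bc (Spec.map (CommRingCat.ofHom (Ideal.Quotient.mk J))) H ≅ H₀, φ.hom ≫ j₀ = (Over.pullback (Spec.map (CommRingCat.ofHom (Ideal.Quotient.mk J)))).map j) ∧
      ∀ (X : Over (Spec (CommRingCat.of R))) (g : X ⟶ G),
        (∃ y : X ⟶ L, y ≫ l = g) ↔ ∃ h : X ⟶ H, h ^ n = 1 ∧ h ≫ j = g := by
  haveI := hG
  let q : Spec (CommRingCat.of (R ⧸ J)) ⟶ Spec (CommRingCat.of R) :=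
    Spec.map (CommRingCat.ofHom (Ideal.Quotient.mk J))
  haveI : LocallyOfFiniteType (Red.bc q G).hom := inferInstanceAs (LocallyOfFiniteType (pullback.snd G.hom q))
  haveI : LocallyOfFiniteType H₀.hom := by rw [← Over.w j₀]; infer_instance
  haveI : LocallyOfFiniteType L.hom := by rw [← Over.w l]; infer_instance
  haveI : Mono j₀ := (Over.forget _).mono_of_mono_map (show Mono j₀.left from inferInstance)
  haveI : Mono l := (Over.forget _).mono_of_mono_map (show Mono l.left from inferInstance)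
  haveI : (Over.pullback q).IsRightAdjoint := (Over.mapPullbackAdj q).isRightAdjoint
  have hchL := GrothLib.MultHopf14.hasChartsFpqc_fg (GrothLib.DiagGrp.hasChartsFpqc_of_locally hL)
  haveI : Flat L.hom := GrothLib.DiagGrp.flat_of_charts hchL
  obtain ⟨H, iH, hH, ⟨Φ⟩⟩ := GrothLib.MultHopf14.exists_lift_grp J (nil_mem hJ) H₀
    (GrothLib.MultHopf14.hasChartsFpqc_fg (GrothLib.DiagGrp.hasChartsFpqc_of_locally hH₀))
  have hHlfp : LocallyOfFinitePresentation H.hom := GrothLib.DiagGrp.lfp_of_isMultTypeFT hH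
  haveI : LocallyOfFiniteType H.hom := inferInstance
  haveI : IsAffineHom H.hom := GrothLib.EssFree.isAffineHom_of_charts hH
  have hcomm := GrothLib.DiagGrp.mul_comm_of_charts hH
  let φ : Red.bc q H ≅ H₀ := (Grp.forget _).mapIso Φ
  haveI : IsMonHom φ.hom := Φ.hom.hom.isMonHom_hom
  haveI : IsMonHom φ.inv := Φ.inv.hom.isMonHom_hom
  -- the given torsion subgroup inside the lift
  obtain ⟨a₀, ha₀n, ha₀⟩ := (hL0 _ _).mp ⟨𝟙 _, Category.id_comp ((Over.pullback q).map l)⟩
  haveI : IsMonHom a₀ := by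
    haveI : IsMonHom (a₀ ≫ j₀) := ha₀ ▸ inferInstance
    exact GrothLib.DiagGrp.isMonHom_of_points _ fun Y a b => by
      rw [← cancel_mono j₀, MonObj.mul_comp (a ≫ a₀), Category.assoc, Category.assoc, Category.assoc,
        MonObj.mul_comp]
  obtain ⟨f, hfm, hf⟩ := GrothLib.MultDef14.exists_hom_lift_multType J hchL hJ hH (a₀ ≫ φ.inv)
  haveI := hfm
  haveI : IsMonHom (f ^ n) := GrothLib.DiagGrp.isMonHom_of_points _ fun Y a b => by
    rw [MonObj.comp_pow, MonObj.comp_pow, MonObj.comp_pow, MonObj.mul_comp]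
    exact (show Commute (a ≫ f) (b ≫ f) from hcomm _ _ _).mul_pow n
  have hfn : f ^ n = 1 := by
    refine eq_one_of_mod hJ (hchL.mono fun _ _ _ => trivial) hHlfp (f ^ n) ?_
    rw [map_pow_map, hf]
    exact (map_pow (GrothLib.RankOne.postHom φ.inv _) a₀ n).symm.trans ((congrArg _ ha₀n).trans (map_one _))
  -- a lift of the given subgroup, corrected so as to contain it
  obtain ⟨j, hjm, hj⟩ := GrothLib.MultDef14.exists_hom_lift_spec hH
    (GrothLib.AlgSp.isFormallySmoothHom_of_smooth G.hom) J hJ (φ.hom ≫ j₀)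
  haveI := hjm
  have hfj : (Over.pullback q).map (f ≫ j) = (Over.pullback q).map l := by
    rw [Functor.map_comp, hf, hj, Category.assoc, Iso.inv_hom_id_assoc, ha₀]
  obtain ⟨g, hg, hgc⟩ := GrothLib.MultDef14.exists_conj_spec_lift J hchL (f ≫ j) l hJ hG 1 fun X p h => by
    rw [MonObj.comp_one, inv_one, _root_.one_mul, _root_.mul_one]
    exact (GrothLib.DiagGrp.comp_eq_of_bc q (u := f ≫ j) (v := l) hfj p.left (Over.w p) h).symm
  let j' : H ⟶ G := (toUnit H ≫ g) * j * (toUnit H ≫ g)⁻¹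
  have hj' : ∀ (X : Over (Spec (CommRingCat.of R))) (h : X ⟶ H),
      h ≫ j' = (toUnit X ≫ g) * (h ≫ j) * (toUnit X ≫ g)⁻¹ := fun X h => by
    simp only [j', MonObj.comp_mul, GrpObj.comp_inv]
    rw [← Category.assoc, toUnit_unique (h ≫ toUnit _) (toUnit _)]
  haveI : IsMonHom j' := GrothLib.DiagGrp.isMonHom_of_points _ fun Y a b => by
    rw [hj', hj', hj', MonObj.mul_comp]; group
  have hj'0 : (Over.pullback q).map j' = φ.hom ≫ j₀ := (map_conj j g hg).trans hj
  haveI : IsIso φ.hom.left := inferInstanceAs (IsIso ((Over.forget _).mapIso φ).hom)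
  obtain ⟨himm, hmono⟩ := mono_immersion_of_mod hJ j' (by rw [hj'0, Over.comp_left]; infer_instance)
  haveI := hmono
  have hfl : f ≫ j' = l := by
    rw [hj']
    refine Eq.trans ?_ (Category.id_comp l)
    refine ((hgc L (toUnit L) (𝟙 L)).trans ?_).symm
    rw [Category.id_comp]
  refine ⟨H, iH, j', inferInstance, himm, ?_, ⟨φ, hj'0.symm⟩, fun X x => ⟨?_, ?_⟩⟩
  · obtain ⟨S', π, h1, h2, h3, h4⟩ := hH
    exact ⟨S', π, h1, h2, h3, fun s' => by
      obtain ⟨U, hU, M, inst, -, e⟩ := h4 s'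
      exact ⟨U, hU, M, inst, e⟩⟩
  · rintro ⟨y, rfl⟩
    exact ⟨y ≫ f, by rw [← MonObj.comp_pow, hfn, MonObj.comp_one], by rw [Category.assoc, hfl]⟩
  rintro ⟨h, hhn, rfl⟩
  -- the kernel of the power map
  let K : Over (Spec (CommRingCat.of R)) := pullback ((𝟙 H) ^ n) η[H]
  let ι₀ : K ⟶ H := pullback.fst ((𝟙 H) ^ n) η[H]
  have hι₀ : ι₀ ^ n = 1 := by
    have e := pullback.condition (f := (𝟙 H) ^ n) (g := η[H])
    rw [MonObj.comp_pow, Category.comp_id] at e
    rw [e, Hom.one_def, toUnit_unique (pullback.snd ((𝟙 H) ^ n) η[H]) (toUnit _)]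
  have hlift : ∀ {Y : Over (Spec (CommRingCat.of R))} (y : Y ⟶ H), y ^ n = 1 → ∃ z : Y ⟶ K, z ≫ ι₀ = y := by
    intro Y y hy
    exact ⟨pullback.lift y (toUnit Y) (by rw [MonObj.comp_pow, Category.comp_id, hy, Hom.one_def]),
      pullback.lift_fst _ _ _⟩
  obtain ⟨fK, hfK⟩ := hlift f hfn
  haveI : Mono η[H] := SplitMono.mono ⟨toUnit H, toUnit_unique _ _⟩
  haveI : Mono ι₀ := inferInstance
  haveI : Mono f := mono_of_mono_fac hfl
  haveI : Mono fK := mono_of_mono_fac hfK
  haveI : Mono fK.left := inferInstance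
  have hiso : IsIso ((Over.pullback q).map fK) := by
    have hh : ((Over.pullback q).map ι₀ ≫ φ.hom) ^ n = 1 := by
      have e1 : (Over.pullback q).map ι₀ ^ n = 1 := by rw [← map_pow_map, hι₀, map_one_map]
      exact (map_pow (GrothLib.RankOne.postHom φ.hom _) _ n).symm.trans ((congrArg _ e1).trans (map_one _))
    obtain ⟨y, hy⟩ := (hL0 _ (((Over.pullback q).map ι₀ ≫ φ.hom) ≫ j₀)).mpr ⟨_, hh, rfl⟩
    refine ⟨y, ?_, ?_⟩
    · rw [← cancel_mono ((Over.pullback q).map l), Category.assoc, hy, Category.id_comp, Category.assoc, ← hj'0,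
        ← Functor.map_comp, ← Functor.map_comp, ← Category.assoc, hfK, hfl]
    · rw [← cancel_mono ((Over.pullback q).map ι₀), ← cancel_mono ((Over.pullback q).map j'), Category.id_comp,
        Category.assoc, Category.assoc, ← Functor.map_comp, ← Functor.map_comp, reassoc_of% hfK, hfl, hy,
        Category.assoc, Functor.map_comp, hj'0]
  haveI := isIso_of_mod hJ fK hiso
  obtain ⟨z, hz⟩ := hlift h hhn
  exact ⟨z ≫ inv fK, by rw [← hfl, Category.assoc, ← hfK, Category.assoc, IsIso.inv_hom_id_assoc, reassoc_of% hz]⟩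

end Groth.Agent.S6070
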