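import Groth.Statements.S6072
import Groth.Agent.Lib.MultLocal.TransBij
import Groth.Agent.Lib.MultLocal.FiniteLift
import Groth.Agent.S2974
import Mathlib.RingTheory.Finiteness.Descent

set_option autoImplicit false
universe u
open TensorProduct SGA3b
open SGA3b

namespace Groth.Agent.S6072

/-- Let R be a henselian local ring with residue field k and H₀ = Spec C₀ a k-group of multiplicative
type which is finite over k. Then H₀ lifts to R: there is an R-group H = Spec C of multiplicative
type, finite over R and isotrivial, together with an isomorphism of k-groups H ×_R k ≅ H₀, i.e. a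
bialgebra isomorphism k ⊗_R C ≅ C₀ (existence of an isomorphism; the lift is determined up to
isomorphism only). (Affine group schemes over an affine base are taken in Hopf-algebra form; base
change is the tensor product.) -/
theorem result (R : Type u) [CommRing R] [HenselianLocalRing R]
    (C₀ : Type u) [CommRing C₀] [HopfAlgebra (IsLocalRing.ResidueField R) C₀] [Module.Finite (IsLocalRing.ResidueField R) C₀]
    (h₀ : IsMultType (IsLocalRing.ResidueField R) C₀) :
    ∃ (C : Type u) (_ : CommRing C) (_ : HopfAlgebra R C), Module.Finite R C ∧ IsIsotrivial R C ∧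
      Nonempty ((IsLocalRing.ResidueField R ⊗[R] C) ≃ₐc[IsLocalRing.ResidueField R] C₀) := by
  let m := IsLocalRing.maximalIdeal R
  let k := IsLocalRing.ResidueField R
  haveI : Algebra.FiniteType k C₀ := inferInstance
  obtain ⟨E₀, _, _, hE, hfin, hff, M, _, ⟨e⟩⟩ := Groth.Agent.S2974.result k C₀ inferInstance h₀
  haveI := hfin
  haveI := hff
  haveI : Nontrivial E₀ := by
    obtain ⟨q, -⟩ := PrimeSpectrum.comap_surjective_of_faithfullyFlat (A := k) (B := E₀) ⟨⊥, Ideal.isPrime_bot⟩
    exact ⟨0, 1, fun h => q.isPrime.ne_top ((Ideal.eq_top_iff_one _).mpr (h ▸ q.asIdeal.zero_mem))⟩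
  haveI : Finite M := Module.Finite.finite_basis
    (((Finsupp.basisSingleOne (R := E₀) (ι := M)).map (MonoidAlgebra.coeffLinearEquiv E₀).symm).map
      e.toLinearEquiv.symm)
  letI : Algebra R E₀ := Algebra.compHom E₀ (algebraMap R k)
  haveI : IsScalarTower R k E₀ := IsScalarTower.of_algebraMap_eq fun _ => rfl
  letI : Algebra (R ⧸ m) E₀ := ‹Algebra k E₀›
  haveI : IsScalarTower R (R ⧸ m) E₀ := ‹IsScalarTower R k E₀›
  haveI : Module.Finite (R ⧸ m) E₀ := hfin
  haveI : Algebra.Etale (R ⧸ m) E₀ := hE
  haveI : Module.FaithfullyFlat (R ⧸ m) E₀ := hff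
  obtain ⟨B, _, _, π, hBfin, hBet, hBff, hπ, hker⟩ := GrothLib.MultLocal.exists_finite_etale_ff_lift m E₀
  obtain ⟨g, hg⟩ := GrothLib.MultLocal.exists_frame_of_equiv e
  haveI : Module.FaithfullyFlat R (PUnit.{u + 1} → B) :=
    Module.FaithfullyFlat.of_linearEquiv R B (LinearEquiv.funUnique PUnit.{u + 1} R B)
  haveI : Module.FaithfullyFlat k (PUnit.{u + 1} → E₀) :=
    Module.FaithfullyFlat.of_linearEquiv k E₀ (LinearEquiv.funUnique PUnit.{u + 1} k E₀)
  have hs : Function.Surjective (algebraMap R k) := IsLocalRing.residue_surjective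
  have hI : RingHom.ker (algebraMap R k) = m := IsLocalRing.ker_residue
  have h2 := GrothLib.MultLocal.red2_surjective (R₀ := k) π π hπ hπ
  have k2 := GrothLib.MultLocal.red2_ker hs hI π π hπ hπ hker hker
  obtain ⟨A, _, _, hA, hiso⟩ := GrothLib.MultLocal.exists_lift_of_frames_bij (ι := PUnit.{u + 1})
    (T := fun _ => B) (E := fun _ => E₀) hs (fun _ => π)
    (fun _ => GrothLib.MultLocal.IdemBij.of_henselian hπ hker)
    (fun _ _ => GrothLib.MultLocal.IdemBij.of_henselian h2 k2)
    (fun _ _ _ => GrothLib.MultLocal.IdemBij.of_henselian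
      (GrothLib.MultLocal.red2_surjective π (GrothLib.MultLocal.red2 k π π) hπ h2)
      (GrothLib.MultLocal.red2_ker hs hI π (GrothLib.MultLocal.red2 k π π) hπ h2 hker k2))
    (M := fun _ => M) (g := fun _ => g) (fun _ => hg)
  obtain ⟨f, hf⟩ := hA PUnit.unit
  haveI := hBff
  haveI : Module.Finite B (B ⊗[R] A) := Module.Finite.equiv
    ((MonoidAlgebra.coeffLinearEquiv B).symm.trans hf.equiv.toLinearEquiv : (M →₀ B) ≃ₗ[B] B ⊗[R] A)
  exact ⟨A, inferInstance, inferInstance, Module.Finite.of_finite_tensorProduct_of_faithfullyFlat B,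
    ⟨B, inferInstance, inferInstance, hBet, hBfin, hBff, M, inferInstance, ⟨hf.equiv.symm⟩⟩, hiso⟩

end Groth.Agent.S6072
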