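import Groth.Statements.S6073
import Groth.Agent.Lib.GenWords19.Commutator
-- import your own Groth.Agent.* helpers here

set_option autoImplicit false
universe u
open CategoryTheory CategoryTheory.Limits MonoidalCategory CartesianMonoidalCategory MonObj GrpObj AlgebraicGeometry
open SGA3

namespace Groth.Agent.S6073

/-- Let k be an algebraically closed field, G a group scheme locally of finite type over k, and a : A →
G, b : B → G two closed subgroup schemes which are geometrically reduced over k, such that either
(a) A and B are normal in G and of finite type over k, or (b) A is connected and B is of finite type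
over k. Let i : Γ → G be the commutator subgroup scheme (A, B): the smallest closed subgroup scheme
of G through which A ×_k B → G, (x, y) ↦ a(x) b(y) a(x)⁻¹ b(y)⁻¹, factors. Then the image of Γ(k) in
G(k) is the commutator subgroup of the images of A(k) and B(k): the subgroup of G(k) generated by
the commutators of a k-point of A with a k-point of B. -/
theorem result (k : Type u) [Field k] [IsAlgClosed k]
    (G A B : Over (Spec (CommRingCat.of k))) [GrpObj G] [GrpObj A] [GrpObj B] [LocallyOfFiniteType G.hom]
    (a : A ⟶ G) [IsMonHom a] [IsClosedImmersion a.left] (b : B ⟶ G) [IsMonHom b] [IsClosedImmersion b.left]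
    [GeometricallyReduced A.hom] [GeometricallyReduced B.hom] [QuasiCompact B.hom]
    (hcase : (AlgGrp.IsNormalHom a ∧ AlgGrp.IsNormalHom b ∧ QuasiCompact A.hom) ∨ ConnectedSpace A.left)
    (Γ : Over (Spec (CommRingCat.of k))) [GrpObj Γ] (i : Γ ⟶ G) [IsMonHom i] [IsClosedImmersion i.left]
    (hf : ∃ f' : A ⊗ B ⟶ Γ, f' ≫ i = (((fst A B) ≫ a) * ((snd A B) ≫ b) * ((fst A B) ≫ a)⁻¹ * ((snd A B) ≫ b)⁻¹))
    (hmin : ∀ (Γ' : Over (Spec (CommRingCat.of k))) (_ : GrpObj Γ') (i' : Γ' ⟶ G), IsMonHom i' → IsClosedImmersion i'.left →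
        (∃ f'' : A ⊗ B ⟶ Γ', f'' ≫ i' = (((fst A B) ≫ a) * ((snd A B) ≫ b) * ((fst A B) ≫ a)⁻¹ * ((snd A B) ≫ b)⁻¹)) → ∃ j : Γ ⟶ Γ', j ≫ i' = i) :
    Set.range (fun z : 𝟙_ (Over (Spec (CommRingCat.of k))) ⟶ Γ => z ≫ i) =
      ((⁅Subgroup.closure (Set.range (fun x : 𝟙_ (Over (Spec (CommRingCat.of k))) ⟶ A => x ≫ a)),
         Subgroup.closure (Set.range (fun y : 𝟙_ (Over (Spec (CommRingCat.of k))) ⟶ B => y ≫ b))⁆ : Subgroup (𝟙_ (Over (Spec (CommRingCat.of k))) ⟶ G)) :
        Set (𝟙_ (Over (Spec (CommRingCat.of k))) ⟶ G)) := by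
  haveI : LocallyOfFiniteType A.hom := by rw [← Over.w a]; infer_instance
  haveI : LocallyOfFiniteType B.hom := by rw [← Over.w b]; infer_instance
  have hA : QuasiCompact A.hom := by
    rcases hcase with ⟨-, -, h⟩ | hc
    · exact h
    · haveI := hc
      haveI : IrreducibleSpace A.left := ((irreducibleSpace_def _).mpr) (by
        have h := GrothLib.GrpSchField.connectedComponent_eq_irreducibleComponent A
          (η[A].left.base (IsLocalRing.closedPoint k))
        rw [PreconnectedSpace.connectedComponent_eq_univ] at h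
        rw [Set.top_eq_univ, h]
        exact isIrreducible_irreducibleComponent)
      haveI := GrothLib.Homog14.compactSpace_of_irreducible A
      exact (quasiCompact_iff_compactSpace A.hom).2 inferInstance
  haveI := hA
  have hb' : ∃ N, ∀ m, GrothLib.GenWords19.kpt '' GrothLib.GenWords19.words (GrothLib.GenWords19.commSet a b) m ⊆
      closure (GrothLib.GenWords19.kpt '' GrothLib.GenWords19.words (GrothLib.GenWords19.commSet a b) N) := by
    rcases hcase with ⟨ha, hb, -⟩ | hc
    · exact GrothLib.GenWords19.exists_bound_normal a b ha hb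
    · haveI := hc
      haveI : IrreducibleSpace A.left := ((irreducibleSpace_def _).mpr) (by
        have h := GrothLib.GrpSchField.connectedComponent_eq_irreducibleComponent A
          (η[A].left.base (IsLocalRing.closedPoint k))
        rw [PreconnectedSpace.connectedComponent_eq_univ] at h
        rw [Set.top_eq_univ, h]
        exact isIrreducible_irreducibleComponent)
      exact GrothLib.GenWords19.exists_bound_connected a b
  refine (GrothLib.GenWords19.range_points a b ⟨inferInstance, hA⟩ ⟨inferInstance, inferInstance⟩ hb' Γ i hf hmin).trans ?_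
  rw [show Set.range (fun x : 𝟙_ (Over (Spec (CommRingCat.of k))) ⟶ A => x ≫ a) =
      ((GrothLib.GenWords19.ptsHom a).range : Set _) from rfl,
    show Set.range (fun y : 𝟙_ (Over (Spec (CommRingCat.of k))) ⟶ B => y ≫ b) =
      ((GrothLib.GenWords19.ptsHom b).range : Set _) from rfl,
    Subgroup.closure_eq, Subgroup.closure_eq, Subgroup.commutator_def]
  congr 2
  ext u
  rw [GrothLib.GenWords19.mem_commSet]
  constructor
  · rintro ⟨x, y, h⟩
    exact ⟨_, ⟨x, rfl⟩, _, ⟨y, rfl⟩, h⟩
  · rintro ⟨_, ⟨x, rfl⟩, _, ⟨y, rfl⟩, h⟩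
    exact ⟨x, y, h⟩

end Groth.Agent.S6073
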