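import Groth.Statements.S6074
import Groth.Agent.Lib.GenWords19.Main
-- import your own Groth.Agent.* helpers here

set_option autoImplicit false
universe u
open CategoryTheory CategoryTheory.Limits MonoidalCategory CartesianMonoidalCategory MonObj GrpObj AlgebraicGeometry
open SGA3

namespace Groth.Agent.S6074

/-- Let k be a field, G a group scheme locally of finite type over k, X a k-scheme of finite type,
geometrically reduced and geometrically connected, and f : X → G a k-morphism whose image contains
the unit point of G. Let i : Γ → G be the smallest closed subgroup scheme of G through which f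
factors. Then there is a natural number N such that the underlying set of Γ is the set of points of
G lying under a word of length N in f: a point g of G is in the image of i if and only if there are
a k-scheme T, a point p of T, T-valued points x_1, …, x_N of X and signs such that the T-valued
point f(x_1)^{±1} ⋯ f(x_N)^{±1} of G maps p to g. (The set of points of G lying under words of
length exactly N is the image of the N-th iterated word morphism X^N → G built from f and its
inverse.) -/
theorem result (k : Type u) [Field k]
    (G X : Over (Spec (CommRingCat.of k))) [GrpObj G] [LocallyOfFiniteType G.hom]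
    [LocallyOfFiniteType X.hom] [QuasiCompact X.hom] [GeometricallyReduced X.hom] [GeometricallyConnected X.hom]
    (f : X ⟶ G) (he : ∃ x : X.left, f.left.base x ∈ Set.range (η[G] : 𝟙_ (Over (Spec (CommRingCat.of k))) ⟶ G).left.base)
    (Γ : Over (Spec (CommRingCat.of k))) [GrpObj Γ] (i : Γ ⟶ G) [IsMonHom i] [IsClosedImmersion i.left]
    (hf : ∃ f' : X ⟶ Γ, f' ≫ i = f)
    (hmin : ∀ (Γ' : Over (Spec (CommRingCat.of k))) (_ : GrpObj Γ') (i' : Γ' ⟶ G), IsMonHom i' → IsClosedImmersion i'.left →
        (∃ f'' : X ⟶ Γ', f'' ≫ i' = f) → ∃ j : Γ ⟶ Γ', j ≫ i' = i) :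
    ∃ N : ℕ, Set.range i.left.base =
      {g : G.left | ∃ (T : Over (Spec (CommRingCat.of k))) (p : T.left) (x : Fin N → (T ⟶ X)) (ε : Fin N → Bool),
        ((List.ofFn fun j : Fin N => if ε j then x j ≫ f else (x j ≫ f)⁻¹).prod : T ⟶ G).left.base p = g} := by
  obtain ⟨N, hN⟩ := GrothLib.GenWords19.exists_range_eq f he Γ i hf hmin
  exact ⟨N, hN.trans (GrothLib.GenWords19.pts_eq f N)⟩

end Groth.Agent.S6074
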