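import Groth.Statements.S6075


set_option autoImplicit false
universe u
open CategoryTheory CategoryTheory.Limits MonoidalCategory CartesianMonoidalCategory MonObj GrpObj AlgebraicGeometry
open SGA3

namespace Groth.Agent.S6075

/-- Let k be an algebraically closed field, G a group scheme locally of finite type over k, X a
geometrically reduced k-scheme locally of finite type, and f : X → G a k-morphism. Consider the
k-points g of G whose underlying point lies under a word in f: there are a k-scheme T, a point p of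
T, n ≥ 0, T-valued points x_1, …, x_n of X and signs such that the T-valued point f(x_1)^{±1} ⋯
f(x_n)^{±1} of G maps p to the point of g. These k-points form exactly the subgroup of G(k)
generated by the k-points of G whose underlying point lies in the image of f. (Words of length zero
are allowed here, so that the unit is on both sides when X is empty; for nonempty X this changes
nothing, while the published statement, with words of positive length only, fails for empty X.) -/
theorem result (k : Type u) [Field k] [IsAlgClosed k]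
    (G X : Over (Spec (CommRingCat.of k))) [GrpObj G] [LocallyOfFiniteType G.hom]
    [LocallyOfFiniteType X.hom] [GeometricallyReduced X.hom] (f : X ⟶ G) :
    {g : 𝟙_ (Over (Spec (CommRingCat.of k))) ⟶ G | ∃ (n : ℕ) (T : Over (Spec (CommRingCat.of k))) (p : T.left) (p₀ : (𝟙_ (Over (Spec (CommRingCat.of k)))).left)
        (x : Fin n → (T ⟶ X)) (ε : Fin n → Bool), ((List.ofFn fun j : Fin n => if ε j then x j ≫ f else (x j ≫ f)⁻¹).prod : T ⟶ G).left.base p = g.left.base p₀} =
      ((Subgroup.closure {g : 𝟙_ (Over (Spec (CommRingCat.of k))) ⟶ G | ∃ p₀ : (𝟙_ (Over (Spec (CommRingCat.of k)))).left, g.left.base p₀ ∈ Set.range f.left.base} :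
        Subgroup (𝟙_ (Over (Spec (CommRingCat.of k))) ⟶ G)) : Set (𝟙_ (Over (Spec (CommRingCat.of k))) ⟶ G)) := by
  let S := Spec (CommRingCat.of k)
  haveI : Subsingleton ↥(𝟙_ (Over S)).left := inferInstanceAs (Subsingleton ↥(Spec (CommRingCat.of k)))
  haveI : Nonempty ↥(𝟙_ (Over S)).left := inferInstanceAs (Nonempty ↥(Spec (CommRingCat.of k)))
  let o : ↥(𝟙_ (Over S)).left := IsLocalRing.closedPoint k
  have hpt : ∀ (W : Over S) [LocallyOfFiniteType W.hom] (C : Set W.left), IsClosed C → C.Nonempty →
      ∃ a : 𝟙_ (Over S) ⟶ W, a.left.base o ∈ C := by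
    intro W _ C hC hne
    haveI := LocallyOfFiniteType.jacobsonSpace W.hom
    obtain ⟨x, hx, hxc⟩ := nonempty_inter_closedPoints hne hC.isLocallyClosed
    refine ⟨Over.homMk (pointOfClosedPoint W.hom x hxc) (pointOfClosedPoint_comp W.hom x hxc), ?_⟩
    show pointOfClosedPoint W.hom x hxc o ∈ C
    rw [pointOfClosedPoint_apply]
    exact hx
  have hclosed : ∀ g : 𝟙_ (Over S) ⟶ G, IsClosed ({g.left.base o} : Set G.left) := fun g =>
    ((pointEquivClosedPoint G.hom) ⟨g.left, Over.w g⟩).2
  have hext : ∀ g g' : 𝟙_ (Over S) ⟶ G, g.left.base o = g'.left.base o → g = g' := fun g g' h =>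
    Over.OverMorphism.ext (ext_of_apply_closedPoint_eq G.hom (Over.w g) (Over.w g') h)
  have huniv : ∀ n : ℕ, ∃ (W : Over S) (x0 : Fin n → (W ⟶ X)), LocallyOfFiniteType W.hom ∧
      ∀ (T : Over S) (x : Fin n → (T ⟶ X)), ∃ t : T ⟶ W, ∀ j, t ≫ x0 j = x j := by
    intro n
    induction n with
    | zero =>
      exact ⟨𝟙_ (Over S), fun j => j.elim0, inferInstanceAs (LocallyOfFiniteType (𝟙 S)),
        fun T x => ⟨toUnit T, fun j => j.elim0⟩⟩
    | succ n ih =>
      obtain ⟨W, x0, hW, hx⟩ := ih
      haveI := hW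
      refine ⟨X ⊗ W, Fin.cons (fst X W) (fun j => snd X W ≫ x0 j), ?_, fun T x => ?_⟩
      · rw [Over.tensorObj_hom]; infer_instance
      · obtain ⟨t, ht⟩ := hx T (fun j => x j.succ)
        refine ⟨lift (x 0) t, fun j => ?_⟩
        refine Fin.cases ?_ ?_ j
        · simp
        · intro i; simp [ht i]
  apply Set.ext
  intro g
  simp only [Set.mem_setOf_eq, SetLike.mem_coe]
  constructor
  · rintro ⟨n, T, p, p₀, x, ε, hp⟩
    obtain ⟨W, x0, hW, hx⟩ := huniv n
    haveI := hW
    obtain ⟨t, ht⟩ := hx T x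
    let w : W ⟶ G := (List.ofFn fun j => if ε j then x0 j ≫ f else (x0 j ≫ f)⁻¹).prod
    have key : ∀ {U : Over S} (s : U ⟶ W), s ≫ w =
        (List.ofFn fun j => if ε j then (s ≫ x0 j) ≫ f else ((s ≫ x0 j) ≫ f)⁻¹).prod := by
      intro U s
      let φ : (W ⟶ G) →* (U ⟶ G) :=
        { toFun := fun a => s ≫ a
          map_one' := MonObj.comp_one s
          map_mul' := fun a b => MonObj.comp_mul s a b }
      show φ w = _
      rw [map_list_prod, List.map_ofFn]
      congr 2
      funext j
      simp only [Function.comp_apply, apply_ite φ, map_inv]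
      simp [φ]
    have h1 : (t ≫ w).left.base p = g.left.base o := by
      rw [key t]
      simp only [ht]
      rw [hp, Subsingleton.elim p₀ o]
    obtain ⟨a, ha⟩ := hpt W (w.left.base ⁻¹' {g.left.base o}) ((hclosed g).preimage w.left.continuous)
      ⟨t.left.base p, by simpa using h1⟩
    have hg : g = a ≫ w := hext _ _ (by simpa using ha.symm)
    rw [hg, key a]
    refine Subgroup.list_prod_mem _ fun y hy => ?_
    obtain ⟨j, rfl⟩ := List.mem_ofFn.1 hy
    have hm : (a ≫ x0 j) ≫ f ∈ {g : 𝟙_ (Over S) ⟶ G | ∃ p₀ : (𝟙_ (Over S)).left, g.left.base p₀ ∈ Set.range f.left.base} :=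
      ⟨o, _, rfl⟩
    split_ifs
    · exact Subgroup.subset_closure hm
    · exact Subgroup.inv_mem _ (Subgroup.subset_closure hm)
  · intro hg
    have hgen : ∀ y : 𝟙_ (Over S) ⟶ G, (∃ p₀ : (𝟙_ (Over S)).left, y.left.base p₀ ∈ Set.range f.left.base) →
        ∃ a : 𝟙_ (Over S) ⟶ X, a ≫ f = y := by
      rintro y ⟨p₀, x, hx⟩
      obtain ⟨a, ha⟩ := hpt X (f.left.base ⁻¹' {y.left.base o}) ((hclosed y).preimage f.left.continuous)
        ⟨x, by simpa [Subsingleton.elim p₀ o] using hx⟩
      exact ⟨a, hext _ _ (by simpa using ha)⟩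
    rw [← Subgroup.mem_toSubmonoid, Subgroup.closure_toSubmonoid] at hg
    obtain ⟨l, hl, rfl⟩ := Submonoid.exists_list_of_mem_closure hg
    have hword : ∀ j : Fin l.length, ∃ (a : 𝟙_ (Over S) ⟶ X) (b : Bool),
        (if b then a ≫ f else (a ≫ f)⁻¹) = l.get j := by
      intro j
      rcases hl _ (List.get_mem l j) with h | h
      · obtain ⟨a, ha⟩ := hgen _ h
        exact ⟨a, true, by simpa using ha⟩
      · obtain ⟨a, ha⟩ := hgen _ h
        exact ⟨a, false, by simp [ha]⟩
    choose a b hab using hword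
    refine ⟨l.length, 𝟙_ (Over S), o, o, a, b, ?_⟩
    simp only [hab, List.ofFn_get]

end Groth.Agent.S6075
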