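import Groth.Statements.S6076
import Groth.Agent.Lib.Constr.Basic
import Groth.Agent.Lib.DiagGrp.KernelFP
import Mathlib.AlgebraicGeometry.Morphisms.FinitePresentation
import Mathlib.Topology.Spectral.ConstructibleTopology

set_option autoImplicit false
universe u
open CategoryTheory CategoryTheory.Limits MonoidalCategory CartesianMonoidalCategory MonObj GrpObj AlgebraicGeometry
open SGA3

namespace Groth.Agent.S6076

/-- (iii) ⟹ (iv): let S be a scheme, X an S-scheme which is flat and locally of finite presentation over
S, H an S-group scheme locally of finite presentation over S with reduced fibres and quasi-compact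
underlying space, and f : X → H an S-morphism. Say that a point h of H lies under a word of length n
in f when there are an S-scheme T, a point p of T, T-valued points x_1, …, x_n of X and signs such
that the T-valued point f(x_1)^{±1} ⋯ f(x_n)^{±1} of H maps p to h. If every point of H lies under
some word in f, then there is a natural number n such that every point of H lies under a word of
length at most n. (The published statement concludes with words of one fixed length n and an
fppf-covering word morphism; for the constant group of order two over a field and f the non-trivial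
point, the points under words of length n alternate between the two points of H, so only the bound
on the length is stated here, and the covering assertion is not stated.) -/
theorem result (S : Scheme.{u}) (X H : Over S) [GrpObj H]
    [Flat X.hom] [LocallyOfFinitePresentation X.hom] [LocallyOfFinitePresentation H.hom]
    (hred : ∀ s : S, IsReduced (H.hom.fiber s)) [CompactSpace H.left] (f : X ⟶ H)
    (hsurj : ∀ h : H.left, ∃ (n : ℕ) (T : Over S) (p : T.left) (x : Fin n → (T ⟶ X)) (ε : Fin n → Bool),
      ((List.ofFn fun j : Fin n => if ε j then x j ≫ f else (x j ≫ f)⁻¹).prod : T ⟶ H).left.base p = h) :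
    ∃ n : ℕ, ∀ h : H.left, ∃ (m : ℕ) (_ : m ≤ n) (T : Over S) (p : T.left) (x : Fin m → (T ⟶ X)) (ε : Fin m → Bool),
      ((List.ofFn fun j : Fin m => if ε j then x j ≫ f else (x j ≫ f)⁻¹).prod : T ⟶ H).left.base p = h := by
  classical
  let E : ℕ → Set H.left := fun n => {h | ∃ (m : ℕ) (_ : m ≤ n) (T : Over S) (p : T.left) (x : Fin m → (T ⟶ X)) (ε : Fin m → Bool),
      ((List.ofFn fun j : Fin m => if ε j then x j ≫ f else (x j ≫ f)⁻¹).prod : T ⟶ H).left.base p = h}
  suffices h : ∃ n, ∀ h, h ∈ E n from h
  have hEmono : Monotone E := fun n n' hn h ⟨m, hm, rest⟩ => ⟨m, hm.trans hn, rest⟩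
  have huniv : ∀ n : ℕ, ∃ (W : Over S) (x0 : Fin n → (W ⟶ X)), LocallyOfFinitePresentation W.hom ∧
      ∀ (T : Over S) (x : Fin n → (T ⟶ X)), ∃ t : T ⟶ W, ∀ j, t ≫ x0 j = x j := by
    intro n
    induction n with
    | zero =>
      exact ⟨𝟙_ (Over S), fun j => j.elim0, inferInstanceAs (LocallyOfFinitePresentation (𝟙 S)),
        fun T x => ⟨toUnit T, fun j => j.elim0⟩⟩
    | succ n ih =>
      obtain ⟨W, x0, hW, hx⟩ := ih
      haveI := hW
      refine ⟨X ⊗ W, Fin.cons (fst X W) (fun j => snd X W ≫ x0 j), ?_, fun T x => ?_⟩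
      · rw [Over.tensorObj_hom]; infer_instance
      · obtain ⟨t, ht⟩ := hx T (fun j => x j.succ)
        refine ⟨lift (x 0) t, fun j => ?_⟩
        refine Fin.cases ?_ ?_ j
        · simp
        · intro i; simp [ht i]
  have hloc : ∀ (U : H.left.Opens), IsAffineOpen U → ∀ z : U.toScheme,
      ∃ (n : ℕ) (K : Set U.toScheme), Topology.IsConstructible K ∧ z ∈ K ∧ ∀ y ∈ K, U.ι.base y ∈ E n := by
    intro U hU z
    haveI : IsAffine U.toScheme := hU
    obtain ⟨n, T, p, x, ε, hp⟩ := hsurj (U.ι.base z)
    obtain ⟨W, x0, hW, hx⟩ := huniv n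
    obtain ⟨t, ht⟩ := hx T x
    let w : W ⟶ H := (List.ofFn fun j => if ε j then x0 j ≫ f else (x0 j ≫ f)⁻¹).prod
    have key : ∀ {T' : Over S} (s : T' ⟶ W), s ≫ w =
        (List.ofFn fun j => if ε j then (s ≫ x0 j) ≫ f else ((s ≫ x0 j) ≫ f)⁻¹).prod := by
      intro T' s
      let φ : (W ⟶ H) →* (T' ⟶ H) :=
        { toFun := fun a => s ≫ a
          map_one' := MonObj.comp_one s
          map_mul' := fun a b => MonObj.comp_mul s a b }
      show φ w = _
      rw [map_list_prod, List.map_ofFn]
      congr 2
      funext j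
      simp only [Function.comp_apply, apply_ite φ, map_inv]
      simp [φ]
    have h1 : w.left.base (t.left.base p) = U.ι.base z := by
      rw [← hp, ← Scheme.Hom.comp_apply, ← Over.comp_left, key t]
      simp only [ht]
    haveI : LocallyOfFinitePresentation w.left :=
      GrothLib.DiagGrp.lfp_of_comp_of_lft w.left H.hom (by rw [Over.w w]; exact hW) inferInstance
    let w' := w.left ∣_ U
    obtain ⟨v₀, hv₀⟩ : t.left.base p ∈ Set.range (w.left ⁻¹ᵁ U).ι := by
      rw [Scheme.Opens.range_ι]
      show w.left.base (t.left.base p) ∈ U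
      rw [h1]; exact z.2
    obtain ⟨V, hV, hvV, -⟩ := exists_isAffineOpen_mem_and_subset (x := v₀) (U := (⊤ : (w.left ⁻¹ᵁ U).toScheme.Opens)) trivial
    haveI : IsAffine V.toScheme := hV
    refine ⟨n, (V.ι ≫ w').base '' Set.univ, (V.ι ≫ w').isConstructible_image .univ, ?_, ?_⟩
    · refine ⟨⟨v₀, hvV⟩, trivial, U.ι.isOpenEmbedding.injective ?_⟩
      rw [← h1, ← hv₀, Scheme.Hom.comp_apply, ← Scheme.Hom.comp_apply w' U.ι, morphismRestrict_ι, Scheme.Hom.comp_apply]
      rfl
    · rintro _ ⟨v, -, rfl⟩
      refine ⟨n, le_rfl, W, (w.left ⁻¹ᵁ U).ι.base (V.ι.base v), x0, ε, ?_⟩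
      rw [Scheme.Hom.comp_apply, ← Scheme.Hom.comp_apply w' U.ι, morphismRestrict_ι, Scheme.Hom.comp_apply]
  have haff : ∀ (U : H.left.Opens), IsAffineOpen U → ∃ n, ∀ h ∈ U, h ∈ E n := by
    intro U hU
    haveI : IsAffine U.toScheme := hU
    choose n K hK hzK hKE using hloc U hU
    let e := WithTopology.toTopology (constructibleTopology U.toScheme)
    have hopen : ∀ z, @IsOpen _ (constructibleTopology U.toScheme) (K z) := fun z => by
      have := (GrothLib.Constr.isClosed_constructibleTopology_of_isConstructible (hK z).compl)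
      rwa [@isClosed_compl_iff _ (constructibleTopology U.toScheme)] at this
    haveI hc : @CompactSpace U.toScheme (constructibleTopology U.toScheme) := by
      haveI : CompactSpace (WithConstructibleTopology U.toScheme) := compactSpace_withConstructibleTopology
      exact @Function.Surjective.compactSpace _ _ _ (constructibleTopology U.toScheme) _
        (WithTopology.continuous_ofTopology _) _ (WithTopology.ofTopology_surjective _)
    obtain ⟨F, hF⟩ := @IsCompact.elim_finite_subcover _ (constructibleTopology U.toScheme) _ _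
      (@isCompact_univ _ (constructibleTopology U.toScheme) hc) K hopen (fun z _ => Set.mem_iUnion.2 ⟨z, hzK z⟩)
    refine ⟨F.sup n, fun h hh => ?_⟩
    obtain ⟨y, rfl⟩ : h ∈ Set.range U.ι.base := by rwa [Scheme.Opens.range_ι]
    obtain ⟨z, hzF, hyz⟩ := Set.mem_iUnion₂.1 (hF (Set.mem_univ y))
    exact hEmono (Finset.le_sup hzF) (hKE z y hyz)
  choose U hU hhU _ using fun h : H.left => exists_isAffineOpen_mem_and_subset (x := h) (U := (⊤ : H.left.Opens)) trivial
  obtain ⟨F, hF⟩ := isCompact_univ.elim_finite_subcover (fun h => (U h : Set H.left)) (fun h => (U h).2)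
    (fun h _ => Set.mem_iUnion.2 ⟨h, hhU h⟩)
  choose N hN using fun h => haff (U h) (hU h)
  refine ⟨F.sup N, fun h => ?_⟩
  obtain ⟨h', hh', hmem⟩ := Set.mem_iUnion₂.1 (hF (Set.mem_univ h))
  exact hEmono (Finset.le_sup hh') (hN h' h hmem)

end Groth.Agent.S6076
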