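import Groth.Statements.S6077
import Groth.Agent.Lib.GenWords19.FiniteIndex
-- import your own Groth.Agent.* helpers here

set_option autoImplicit false
universe u
open CategoryTheory CategoryTheory.Limits MonoidalCategory CartesianMonoidalCategory MonObj GrpObj AlgebraicGeometry
open SGA3

namespace Groth.Agent.S6077

/-- Let k be an algebraically closed field, G a group scheme locally of finite type over k, X a
geometrically reduced k-scheme locally of finite type, f : X → G a k-morphism, and h : H → G a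
closed subgroup scheme whose underlying set is contained in the image of f. Let i : Γ → G be the
smallest closed subgroup scheme of G through which f factors. Say that a point of G lies under a
word of length n in f when there are a k-scheme T, a point p of T, T-valued points x_1, …, x_n of X
and signs such that f(x_1)^{±1} ⋯ f(x_n)^{±1} maps p to it; let Γ'₀ be the set of k-points of G
whose point lies under some word (of any length n ≥ 0). Suppose that Γ'₀ is covered by finitely many
left translates a · H(k) of the image of H(k) in G(k), with the a in Γ'₀ (H(k) has finite index in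
Γ'₀). Then there is m such that the underlying set of Γ is the set of points of G lying under a word
of length m, and there are finitely many k-points a_1, …, a_r of G such that the underlying set of Γ
is the union of the left translates a_j · H of the underlying set of H. -/
theorem result (k : Type u) [Field k] [IsAlgClosed k]
    (G X H : Over (Spec (CommRingCat.of k))) [GrpObj G] [GrpObj H] [LocallyOfFiniteType G.hom]
    [LocallyOfFiniteType X.hom] [GeometricallyReduced X.hom] (f : X ⟶ G)
    (h : H ⟶ G) [IsMonHom h] [IsClosedImmersion h.left] (hH : Set.range h.left.base ⊆ Set.range f.left.base)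
    (Γ : Over (Spec (CommRingCat.of k))) [GrpObj Γ] (i : Γ ⟶ G) [IsMonHom i] [IsClosedImmersion i.left]
    (hf : ∃ f' : X ⟶ Γ, f' ≫ i = f)
    (hmin : ∀ (Γ' : Over (Spec (CommRingCat.of k))) (_ : GrpObj Γ') (i' : Γ' ⟶ G), IsMonHom i' → IsClosedImmersion i'.left →
        (∃ f'' : X ⟶ Γ', f'' ≫ i' = f) → ∃ j : Γ ⟶ Γ', j ≫ i' = i)
    (hfin : ∃ F : Finset (𝟙_ (Over (Spec (CommRingCat.of k))) ⟶ G),
      (∀ a ∈ F, ∃ (n : ℕ) (T : Over (Spec (CommRingCat.of k))) (p : T.left) (p₀ : (𝟙_ (Over (Spec (CommRingCat.of k)))).left) (x : Fin n → (T ⟶ X)) (ε : Fin n → Bool),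
        ((List.ofFn fun j : Fin n => if ε j then x j ≫ f else (x j ≫ f)⁻¹).prod : T ⟶ G).left.base p = a.left.base p₀) ∧
      ∀ g : 𝟙_ (Over (Spec (CommRingCat.of k))) ⟶ G, (∃ (n : ℕ) (T : Over (Spec (CommRingCat.of k))) (p : T.left) (p₀ : (𝟙_ (Over (Spec (CommRingCat.of k)))).left) (x : Fin n → (T ⟶ X)) (ε : Fin n → Bool),
        ((List.ofFn fun j : Fin n => if ε j then x j ≫ f else (x j ≫ f)⁻¹).prod : T ⟶ G).left.base p = g.left.base p₀) →
        ∃ a ∈ F, ∃ y : 𝟙_ (Over (Spec (CommRingCat.of k))) ⟶ H, g = a * (y ≫ h)) :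
    (∃ m : ℕ, Set.range i.left.base =
      {g : G.left | ∃ (T : Over (Spec (CommRingCat.of k))) (p : T.left) (x : Fin m → (T ⟶ X)) (ε : Fin m → Bool),
        ((List.ofFn fun j : Fin m => if ε j then x j ≫ f else (x j ≫ f)⁻¹).prod : T ⟶ G).left.base p = g}) ∧
    ∃ F : Finset (𝟙_ (Over (Spec (CommRingCat.of k))) ⟶ G), Set.range i.left.base =
      ⋃ a ∈ F, (fun z => ((λ_ G).inv ≫ (a ▷ G) ≫ μ[G]).left.base z) '' Set.range h.left.base := by
  obtain ⟨F, hF1, hF2⟩ := hfin
  have key : ∀ (g : 𝟙_ (Over (Spec (CommRingCat.of k))) ⟶ G) (n : ℕ),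
      (∃ (T : Over (Spec (CommRingCat.of k))) (p : T.left) (p₀ : (𝟙_ (Over (Spec (CommRingCat.of k)))).left)
        (x : Fin n → (T ⟶ X)) (ε : Fin n → Bool),
        ((List.ofFn fun j : Fin n => if ε j then x j ≫ f else (x j ≫ f)⁻¹).prod : T ⟶ G).left.base p = g.left.base p₀) ↔
      GrothLib.GenWords19.kpt g ∈ GrothLib.GenWords19.pts f n := by
    intro g n
    rw [GrothLib.GenWords19.pts_eq]
    exact ⟨fun ⟨T, p, p₀, x, ε, h⟩ => ⟨T, p, x, ε, h.trans (GrothLib.GenWords19.base_eq_kpt g p₀)⟩,
      fun ⟨T, p, x, ε, h⟩ => ⟨T, p, IsLocalRing.closedPoint k, x, ε, h⟩⟩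
  obtain ⟨⟨m, hm⟩, h2⟩ := GrothLib.GenWords19.finiteIndex f h hH Γ i hf hmin F
    (fun a ha => by obtain ⟨n, hn⟩ := hF1 a ha; exact ⟨n, (key a n).1 hn⟩)
    (fun g ⟨n, hn⟩ => hF2 g ⟨n, (key g n).2 hn⟩)
  refine ⟨⟨m, hm.trans (GrothLib.GenWords19.pts_eq f m)⟩, F, ?_⟩
  have e : ∀ a : 𝟙_ (Over (Spec (CommRingCat.of k))) ⟶ G,
      (λ_ G).inv ≫ (a ▷ G) ≫ μ[G] = (toUnit G ≫ a) * 𝟙 G := by
    intro a
    rw [Hom.mul_def, ← Category.assoc]
    congr 1
    apply CartesianMonoidalCategory.hom_ext <;>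
      simp
  simp only [e]
  exact h2

end Groth.Agent.S6077
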