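import Groth.Statements.S6081
import Groth.Agent.Lib.Hopf.Comod
import Groth.Prelude.Def_HopfRep

set_option autoImplicit false
universe u
open TensorProduct
open SGA3

namespace Groth.Agent.S6081

/-- Let R be a Noetherian ring and A a commutative Hopf algebra over R which is flat and of finite type
as an R-algebra, so that G = Spec A is an affine flat R-group scheme of finite type. Suppose that
the pair (G, Spec R) has the equivariant resolution property: for every A-comodule F which is
finitely generated as an R-module there are an A-comodule E which is finitely generated and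
projective as an R-module and a surjective R-linear map E → F compatible with the coactions. Then
there are a natural number d and a d × d matrix (a_ij) of elements of A with Δ(a_ij) = Σ_l a_il ⊗
a_lj and ε(a_ij) = δ_ij (a matrix corepresentation, i.e. a homomorphism G → GL_{d,R}) whose
determinant is a unit, such that A is generated as an R-algebra by the entries a_ij together with
the inverse of det(a_ij): G is a closed subgroup scheme of GL_{d,R}. (The published statement is
over a Noetherian scheme S, with G-equivariant coherent modules; this row is its assertion (ii), the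
case S affine, in Hopf-algebra form.) -/
theorem result (R : Type u) [CommRing R] [IsNoetherianRing R]
    (A : Type u) [CommRing A] [HopfAlgebra R A] [Module.Flat R A] [Algebra.FiniteType R A]
    (hRE : ∀ (F : Type u) [AddCommGroup F] [Module R F] [HopfRep.Comod R A F] [Module.Finite R F],
      ∃ (E : Type u) (_ : AddCommGroup E) (_ : Module R E) (_ : HopfRep.Comod R A E) (π : E →ₗ[R] F),
        Module.Finite R E ∧ Module.Projective R E ∧ Function.Surjective π ∧
        HopfRep.Comod.coact (k := R) (A := A) ∘ₗ π = π.rTensor A ∘ₗ HopfRep.Comod.coact (k := R) (A := A) (V := E)) :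
    ∃ (d : ℕ) (a : Matrix (Fin d) (Fin d) A),
      (∀ i j, CoalgebraStruct.comul (R := R) (a i j) = ∑ l, a i l ⊗ₜ[R] a l j) ∧
      (∀ i j, CoalgebraStruct.counit (R := R) (a i j) = if i = j then 1 else 0) ∧
      ∃ u : A, u * a.det = 1 ∧ Algebra.adjoin R (Set.range (fun p : Fin d × Fin d => a p.1 p.2) ∪ {u}) = ⊤ := by
  classical
  obtain ⟨s, hs⟩ := Algebra.FiniteType.out (R := R) (A := A)
  obtain ⟨W, hW, hsW, hWfg⟩ := GrothLib.Hopf.Comod.exists_fg_of_flat (k := R) (C := A) (V := A)
    (Submodule.span R (s : Set A)) ⟨s, rfl⟩
  -- a comodule on `W`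
  let j := W.subtype.rTensor A
  have hj : Function.Injective j := Module.Flat.rTensor_preserves_injective_linearMap _ Subtype.val_injective
  let δ : W →ₗ[R] TensorProduct R W A := (LinearEquiv.ofInjective j hj).symm.toLinearMap ∘ₗ
    ((CoalgebraStruct.comul (R := R) (A := A)) ∘ₗ W.subtype).codRestrict (LinearMap.range j) (fun w => hW w w.2)
  have hδ : ∀ w, j (δ w) = CoalgebraStruct.comul (R := R) (A := A) (w : A) := fun w => by
    show ((LinearEquiv.ofInjective j hj) (δ w) : TensorProduct R A A) = _
    simp [δ]
  letI hc : HopfRep.Comod R A W :=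
    { coact := δ
      coassoc := by
        have hj2 : Function.Injective (W.subtype.rTensor (TensorProduct R A A)) :=
          Module.Flat.rTensor_preserves_injective_linearMap _ Subtype.val_injective
        refine LinearMap.ext fun w => hj2 ?_
        have h1 : ∀ z, W.subtype.rTensor (TensorProduct R A A) (TensorProduct.assoc R W A A (δ.rTensor A z)) =
            TensorProduct.assoc R A A A ((CoalgebraStruct.comul (R := R) (A := A)).rTensor A (j z)) := by
          intro z
          induction z using TensorProduct.induction_on with
          | zero => simp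
          | add a b ha hb => simp only [map_add, ha, hb]
          | tmul w c =>
            rw [LinearMap.rTensor_tmul, show j (w ⊗ₜ c) = (w : A) ⊗ₜ c from rfl, LinearMap.rTensor_tmul, ← hδ w]
            generalize δ w = t
            induction t using TensorProduct.induction_on with
            | zero => simp
            | add a b ha hb => simp only [map_add, TensorProduct.add_tmul, ha, hb]
            | tmul a b => simp [j]
        simp only [LinearMap.comp_apply, LinearEquiv.coe_coe]
        rw [h1, hδ, ← LinearMap.comp_apply (W.subtype.rTensor (TensorProduct R A A)), LinearMap.rTensor_comp_lTensor,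
          ← LinearMap.lTensor_comp_rTensor, LinearMap.comp_apply, show W.subtype.rTensor A (δ w) = _ from hδ w]
        exact Coalgebra.coassoc_apply _
      counit_comp := by
        have hjR : Function.Injective (W.subtype.rTensor R) :=
          Module.Flat.rTensor_preserves_injective_linearMap _ Subtype.val_injective
        refine LinearMap.ext fun w => hjR ?_
        rw [LinearMap.comp_apply, ← LinearMap.comp_apply (W.subtype.rTensor R), LinearMap.rTensor_comp_lTensor,
          ← LinearMap.lTensor_comp_rTensor, LinearMap.comp_apply, show W.subtype.rTensor A (δ w) = _ from hδ w]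
        exact (LinearMap.congr_fun (Coalgebra.lTensor_counit_comp_comul (R := R) (A := A)) (w : A)).trans rfl }
  haveI : Module.Finite R W := Module.Finite.iff_fg.2 hWfg
  obtain ⟨E, _, _, hcE, π, _, _, hπ, hπc⟩ := hRE W
  obtain ⟨d, p, hp⟩ := Module.Finite.exists_fin' R E
  obtain ⟨i, hi⟩ := Module.projective_lifting_property p LinearMap.id hp
  have hpi : ∀ e, p (i e) = e := fun e => LinearMap.congr_fun hi e
  let V := Fin d → R
  let ρE := HopfRep.Comod.coact (k := R) (A := A) (V := E)
  let ρ : V →ₗ[R] TensorProduct R V A :=
    i.rTensor A ∘ₗ ρE ∘ₗ p + (TensorProduct.mk R V A).flip 1 ∘ₗ (LinearMap.id - i ∘ₗ p)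
  have hρi : ∀ e, ρ (i e) = i.rTensor A (ρE e) := fun e => by simp [ρ, hpi]
  have hρy : ∀ y : V, p y = 0 → ρ y = y ⊗ₜ (1 : A) := fun y hy => by simp [ρ, hy]
  have hsplit : ∀ (P : V → Prop), (∀ e, P (i e)) → (∀ y, p y = 0 → P y) → (∀ a b, P a → P b → P (a + b)) →
      ∀ x, P x := fun P h1 h2 h3 x => by
    have := h3 (i (p x)) (x - i (p x)) (h1 _) (h2 _ (by simp [hpi]))
    simpa using this
  have hco : ∀ x, TensorProduct.assoc R V A A (ρ.rTensor A (ρ x)) =
      (CoalgebraStruct.comul (R := R) (A := A)).lTensor V (ρ x) := by
    refine hsplit _ (fun e => ?_) (fun y hy => ?_) (fun a b ha hb => by rw [map_add, map_add, map_add, map_add, ha, hb])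
    · have h := congrArg (i.rTensor (TensorProduct R A A))
        (LinearMap.congr_fun (HopfRep.Comod.coassoc (k := R) (A := A) (V := E)) e)
      simp only [LinearMap.comp_apply, LinearEquiv.coe_coe] at h
      rw [hρi]
      have h1 : ∀ z, TensorProduct.assoc R V A A (ρ.rTensor A (i.rTensor A z)) =
          i.rTensor (TensorProduct R A A) (TensorProduct.assoc R E A A (ρE.rTensor A z)) := by
        intro z
        induction z using TensorProduct.induction_on with
        | zero => simp
        | add a b ha hb => simp only [map_add, ha, hb]
        | tmul w c =>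
          rw [LinearMap.rTensor_tmul, LinearMap.rTensor_tmul, hρi, LinearMap.rTensor_tmul]
          generalize ρE w = t
          induction t using TensorProduct.induction_on with
          | zero => simp
          | add a b ha hb => simp only [map_add, TensorProduct.add_tmul, ha, hb]
          | tmul a b => simp
      rw [h1, h, ← LinearMap.comp_apply, ← LinearMap.comp_apply (LinearMap.lTensor V _), LinearMap.rTensor_comp_lTensor,
        LinearMap.lTensor_comp_rTensor]
    · rw [hρy y hy, LinearMap.rTensor_tmul, hρy y hy]
      simp [Bialgebra.comul_one, Algebra.TensorProduct.one_def]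
  have hcu : ∀ x, TensorProduct.rid R V ((CoalgebraStruct.counit (R := R) (A := A)).lTensor V (ρ x)) = x := by
    refine hsplit _ (fun e => ?_) (fun y hy => ?_) (fun a b ha hb => by rw [map_add, map_add, map_add, ha, hb])
    · rw [hρi, ← LinearMap.comp_apply (LinearMap.lTensor V _), LinearMap.lTensor_comp_rTensor,
        ← LinearMap.rTensor_comp_lTensor, LinearMap.comp_apply]
      have h := LinearMap.congr_fun (HopfRep.Comod.counit_comp (k := R) (A := A) (V := E)) e
      simp only [LinearMap.comp_apply] at h
      rw [h]
      simp
    · rw [hρy y hy]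
      simp [Bialgebra.counit_one]
  -- coordinates
  let co : Fin d → (TensorProduct R V A →ₗ[R] A) := fun r =>
    (TensorProduct.lid R A).toLinearMap ∘ₗ (LinearMap.proj r : V →ₗ[R] R).rTensor A
  let a : Matrix (Fin d) (Fin d) A := fun r c => co r (ρ (Pi.single c 1))
  have hbasis : ∀ z : TensorProduct R V A, z = ∑ r, (Pi.single r (1 : R) : V) ⊗ₜ[R] co r z := by
    intro z
    induction z using TensorProduct.induction_on with
    | zero => simp
    | add x y hx hy => simp only [map_add, TensorProduct.tmul_add, Finset.sum_add_distrib, ← hx, ← hy]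
    | tmul v c =>
      simp only [co, LinearMap.comp_apply, LinearMap.rTensor_tmul, LinearEquiv.coe_coe, TensorProduct.lid_tmul,
        LinearMap.proj_apply]
      conv_lhs => rw [pi_eq_sum_univ' v, TensorProduct.sum_tmul]
      refine Finset.sum_congr rfl fun r _ => ?_
      rw [TensorProduct.smul_tmul]
  have hρe : ∀ c, ρ (Pi.single c 1) = ∑ r, (Pi.single r (1 : R) : V) ⊗ₜ[R] a r c := fun c => hbasis _
  have hcoord : ∀ (f : Fin d → A) (r : Fin d),
      co r (∑ l, (Pi.single l (1 : R) : V) ⊗ₜ[R] f l) = f r := by
    intro f r
    simp only [co, LinearMap.comp_apply, map_sum, LinearMap.rTensor_tmul, LinearEquiv.coe_coe,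
      TensorProduct.lid_tmul, LinearMap.proj_apply]
    rw [Finset.sum_eq_single r (fun b _ hb => by simp [Pi.single_eq_of_ne' hb]) (by simp)]
    simp
  have hΔ : ∀ r c, CoalgebraStruct.comul (R := R) (a r c) = ∑ l, a r l ⊗ₜ[R] a l c := by
    intro r c
    let L : TensorProduct R V (TensorProduct R A A) →ₗ[R] TensorProduct R A A :=
      (TensorProduct.lid R _).toLinearMap ∘ₗ (LinearMap.proj r : V →ₗ[R] R).rTensor _
    have h := congrArg L (hco (Pi.single c 1))
    rw [hρe] at h
    simp only [map_sum, LinearMap.rTensor_tmul, LinearMap.lTensor_tmul, hρe, TensorProduct.sum_tmul,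
      TensorProduct.assoc_tmul, L, LinearMap.comp_apply, LinearEquiv.coe_coe, TensorProduct.lid_tmul,
      LinearMap.proj_apply] at h
    simp [Pi.single_apply] at h
    exact h.symm
  have hε : ∀ r c, CoalgebraStruct.counit (R := R) (a r c) = if r = c then 1 else 0 := by
    intro r c
    have h := congrFun (hcu (Pi.single c 1)) r
    rw [hρe] at h
    simp only [map_sum, LinearMap.lTensor_tmul, TensorProduct.rid_tmul] at h
    have h2 : (∑ l, CoalgebraStruct.counit (R := R) (a l c) • (Pi.single l (1 : R) : Fin d → R)) r =
        (Pi.single c (1 : R) : Fin d → R) r := h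
    simp [Pi.single_apply] at h2
    exact h2
  refine ⟨d, a, hΔ, hε, (a.map (HopfAlgebra.antipode R (A := A))).det, ?_, ?_⟩
  · rw [← Matrix.det_mul, show a.map (HopfAlgebra.antipode R (A := A)) * a = 1 from ?_, Matrix.det_one]
    refine Matrix.ext fun r c => ?_
    have h := LinearMap.congr_fun (HopfAlgebra.mul_antipode_rTensor_comul (R := R) (A := A)) (a r c)
    simp only [LinearMap.comp_apply] at h
    rw [show Coalgebra.comul (R := R) (a r c) = _ from hΔ r c] at h
    simp only [map_sum, LinearMap.rTensor_tmul, LinearMap.mul'_apply] at h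
    rw [Matrix.mul_apply]
    simp only [Matrix.map_apply]
    rw [h, show Coalgebra.counit (R := R) (a r c) = _ from hε r c, Matrix.one_apply]
    split_ifs <;> simp
  · rw [eq_top_iff, ← hs]
    refine Algebra.adjoin_le fun g hg => ?_
    let ψ : V →ₗ[R] A := W.subtype ∘ₗ π ∘ₗ p
    have hψ : ∀ x, CoalgebraStruct.comul (R := R) (ψ x) = ψ.rTensor A (ρ x) := by
      refine hsplit _ (fun e => ?_) (fun y hy => ?_) (fun a b ha hb => by simp only [map_add, ha, hb])
      · rw [hρi]
        simp only [ψ, LinearMap.comp_apply, hpi]
        rw [show W.subtype (π e) = ((π e : W) : A) from rfl, ← hδ, show δ (π e) = π.rTensor A (ρE e) from LinearMap.congr_fun hπc e]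
        generalize ρE e = t
        induction t using TensorProduct.induction_on with
        | zero => simp
        | add a b ha hb => simp only [map_add, ha, hb]
        | tmul a b => simp [j, hpi]
      · rw [hρy y hy]
        simp [ψ, hy]
    obtain ⟨e, he⟩ := hπ ⟨g, hsW (Submodule.subset_span hg)⟩
    have hx : ψ (i e) = g := by simp [ψ, hpi, he]
    have hcol : ∀ c, ψ (Pi.single c 1) ∈ Algebra.adjoin R (Set.range (fun p : Fin d × Fin d => a p.1 p.2) ∪
        {(a.map (HopfAlgebra.antipode R (A := A))).det}) := by
      intro c
      have h := congrArg (fun t => TensorProduct.lid R A ((CoalgebraStruct.counit (R := R) (A := A)).rTensor A t))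
        (hψ (Pi.single c 1))
      have h' := LinearMap.congr_fun (Coalgebra.rTensor_counit_comp_comul (R := R) (A := A)) (ψ (Pi.single c 1))
      simp only [LinearMap.comp_apply, TensorProduct.mk_apply] at h'
      rw [show CoalgebraStruct.counit.rTensor A (CoalgebraStruct.comul (R := R) (ψ (Pi.single c 1))) = _ from h',
        TensorProduct.lid_tmul, one_smul, hρe] at h
      simp only [map_sum, LinearMap.rTensor_tmul, TensorProduct.lid_tmul] at h
      rw [h]
      refine sum_mem fun r _ => Subalgebra.smul_mem _ ?_ _
      apply Algebra.subset_adjoin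
      exact Or.inl ⟨(r, c), rfl⟩
    rw [← hx, pi_eq_sum_univ' (i e), map_sum]
    refine sum_mem fun c _ => ?_
    rw [map_smul]
    exact Subalgebra.smul_mem _ (hcol c) _

end Groth.Agent.S6081
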