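import Groth.Statements.S6083
import Groth.Agent.Lib.QuasiSec.AffineSpace

set_option autoImplicit false
universe u
open CategoryTheory CategoryTheory.Limits MonoidalCategory CartesianMonoidalCategory MonObj GrpObj AlgebraicGeometry
open SGA3

namespace Groth.Agent.S6083

/-- Let f : X → S be a morphism locally of finite presentation, s a point of S, x a point of the fibre
X_s = f⁻¹(s), n the local dimension of X_s at x, q : 𝔸^n_S → S the affine n-space over S and u : X →
𝔸^n_S a locally quasi-finite morphism with u q = f. Suppose that f is universally open at the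
generic point z of an irreducible component Z of X_s which contains x and has dimension n. Then u is
universally open at x. -/
theorem result (X S : Scheme.{u}) (f : X ⟶ S) [LocallyOfFinitePresentation f]
    (s : S) (x : X) (hxs : f.base x = s) (n : ℕ)
    (u : X ⟶ 𝔸(ULift.{u} (Fin n); S)) [LocallyQuasiFinite u] (hu : u ≫ (𝔸(ULift.{u} (Fin n); S) ↘ S) = f)
    (Z : Set ↥(f.base ⁻¹' {s})) (hZ : Z ∈ irreducibleComponents ↥(f.base ⁻¹' {s})) (hxZ : x ∈ (Subtype.val '' Z))
    (z : X) (hz : z ∈ Subtype.val '' Z ∧ Subtype.val '' Z ⊆ closure {z}) (hopen : EGA43.IsUnivOpenAt f z)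
    (hdimZ : topologicalKrullDim ↥Z = n) (hdimx : FlatMor.localDim ↥(f.base ⁻¹' {s}) ⟨x, hxs⟩ = n) :
    EGA43.IsUnivOpenAt u x := by
  exact GrothLib.QuasiSec.isUnivOpenAt_toAffineSpace f s x hxs n u hu Z
    (isClosed_of_mem_irreducibleComponents Z hZ) hZ.1 hxZ z hz hopen hdimZ.ge

end Groth.Agent.S6083
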