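import Groth.Statements.S6084
import Groth.Agent.Lib.GenSubgrp14.Basic
import Groth.Agent.Lib.GenSubgrp14.FiniteArtin
import Groth.Agent.Lib.Hensel.Noetherian

set_option autoImplicit false
set_option backward.isDefEq.respectTransparency false
set_option backward.isDefEq.respectTransparency.types false
universe u
open CategoryTheory CategoryTheory.Limits MonoidalCategory CartesianMonoidalCategory MonObj GrpObj AlgebraicGeometry
open SGA3

namespace Groth.Agent.S6084

/-- Let k be a perfect field, G a group scheme locally of finite type over k and u : F → G a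
homomorphism of k-group schemes which is a closed immersion and surjective on underlying spaces,
with F reduced (so F is G_red with its group structure). Let p : G → X be a k-morphism which is
flat, surjective and locally of finite presentation and makes the square formed by (f, g) ↦ u(f) ·
g, the second projection F ×_k G → G and p (twice) cartesian (X is the quotient of G by F acting by
left translations). Then X is the spectrum of a finite local k-algebra with residue field k: X is
affine, its underlying space is a single point at which the structure morphism induces an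
isomorphism of residue fields, and the ring of global sections of X is finite over k. -/
theorem result (k : Type u) [Field k] [PerfectField k]
    (F G : Over (Spec (CommRingCat.of k))) [GrpObj F] [GrpObj G] [LocallyOfFiniteType G.hom] [IsReduced F.left]
    (u : F ⟶ G) [IsMonHom u] [IsClosedImmersion u.left] [Surjective u.left]
    (X : Over (Spec (CommRingCat.of k))) (p : G ⟶ X) [Flat p.left] [Surjective p.left] [LocallyOfFinitePresentation p.left]
    (hp : IsPullback ((u ▷ G) ≫ μ[G]) (snd F G) p p) :
    IsAffine X.left ∧ (∃ x : X.left, (Set.univ : Set X.left) = {x} ∧ IsIso (X.hom.residueFieldMap x)) ∧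
      ((Scheme.ΓSpecIso (CommRingCat.of k)).inv ≫ X.hom.appTop).hom.Finite := by
  haveI : Subsingleton ↥(Spec (CommRingCat.of k)) := inferInstanceAs (Subsingleton (PrimeSpectrum k))
  let σ : G ⊗ G ⟶ G ⊗ G := lift (fst G G * (snd G G)⁻¹) (snd G G)
  have hall : ∀ g g' : G.left, p.left g = p.left g' := by
    intro g g'
    obtain ⟨z, hz1, hz2⟩ := Scheme.Pullback.exists_preimage_pullback (f := G.hom) (g := G.hom) g g'
      (Subsingleton.elim _ _)
    obtain ⟨f0, hf0⟩ := u.left.surjective ((fst G G).left (σ.left z))
    obtain ⟨r, hr⟩ := GrothLib.GenSubgrp14.range_lift_fst G u (σ.left z) f0 hf0.symm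
    have h1 : ((u ▷ G) ≫ μ[G]).left r = g := by
      rw [Over.comp_left, Scheme.Hom.comp_apply, hr, ← Scheme.Hom.comp_apply, ← Over.comp_left,
        show σ ≫ μ[G] = fst G G by
          rw [show μ[G] = fst G G * snd G G by rw [Hom.mul_def, lift_fst_snd, Category.id_comp],
            MonObj.comp_mul, lift_fst, lift_snd, inv_mul_cancel_right]]
      exact hz1
    have h2 : (snd F G).left r = g' := by
      rw [show snd F G = (u ▷ G) ≫ snd G G from (whiskerRight_snd u G).symm, Over.comp_left,
        Scheme.Hom.comp_apply, hr, ← Scheme.Hom.comp_apply, ← Over.comp_left, lift_snd]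
      exact hz2
    rw [← h1, ← h2, ← Scheme.Hom.comp_apply, ← Over.comp_left, hp.w, Over.comp_left, Scheme.Hom.comp_apply]
  let pt : ↥(Spec (CommRingCat.of k)) := IsLocalRing.closedPoint k
  let e0 : 𝟙_ (Over (Spec (CommRingCat.of k))) ⟶ X := η[G] ≫ p
  have he0 : e0.left ≫ X.hom = 𝟙 _ := Over.w e0
  let x0 : X.left := p.left (η[G].left pt)
  haveI hsub : Subsingleton X.left := ⟨fun a b => by
    obtain ⟨g, rfl⟩ := p.left.surjective a
    obtain ⟨g', rfl⟩ := p.left.surjective b
    exact hall g g'⟩
  obtain ⟨U, hU, hxU, -⟩ := exists_isAffineOpen_mem_and_subset (X := X.left) (x := x0) (U := ⊤) trivial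
  have hUtop : U = ⊤ := eq_top_iff.2 fun y _ => Subsingleton.elim x0 y ▸ hxU
  subst hUtop
  haveI : IsAffine X.left :=
    haveI : IsAffine (⊤ : X.left.Opens).toScheme := hU
    .of_isIso X.left.topIso.inv
  refine ⟨inferInstance, ⟨x0, Set.eq_singleton_iff_unique_mem.2 ⟨trivial, fun y _ => Subsingleton.elim _ _⟩, ?_⟩, ?_⟩
  · rw [Subsingleton.elim x0 (e0.left pt)]
    have gen : ∀ {Y Z : Scheme.{u}} (g : Z ⟶ Y) (f : Y ⟶ Z), g ≫ f = 𝟙 Z → ∀ z : Z,
        IsIso (f.residueFieldMap (g z)) := by
      intro Y Z g f h z
      have h1 : IsIso ((g ≫ f).residueFieldMap z) := by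
        rw [Scheme.Hom.residueFieldMap_congr h]
        exact IsIso.comp_isIso' inferInstance ((Scheme.residueFieldMap_id z).symm ▸ IsIso.id _)
      rw [Scheme.residueFieldMap_comp] at h1
      haveI := h1
      have hb := ConcreteCategory.bijective_of_isIso (f.residueFieldMap (g z) ≫ g.residueFieldMap z)
      refine (ConcreteCategory.isIso_iff_bijective _).2 ⟨(f.residueFieldMap (g z)).hom.injective, fun b => ?_⟩
      obtain ⟨a, ha⟩ := hb.2 ((g.residueFieldMap z).hom b)
      exact ⟨a, (g.residueFieldMap z).hom.injective ha⟩
    exact gen e0.left X.hom he0 pt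
  · haveI : Nonempty G.left := ⟨η[G].left pt⟩
    obtain ⟨V, hV, hgV, -⟩ := exists_isAffineOpen_mem_and_subset (X := G.left) (x := η[G].left pt) (U := ⊤) trivial
    haveI : IsAffine V.toScheme := hV
    haveI : Nonempty V.toScheme := ⟨⟨_, hgV⟩⟩
    let f : V.toScheme ⟶ X.left := V.ι ≫ p.left
    let α := (Scheme.ΓSpecIso (CommRingCat.of k)).inv ≫ X.hom.appTop
    have hC : (f.appTop.hom.comp α.hom).FiniteType := by
      have h : LocallyOfFiniteType (f ≫ X.hom) := by
        simp only [f, Category.assoc, Over.w p]; infer_instance
      have h' := HasRingHomProperty.appTop (P := @LocallyOfFiniteType) _ h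
      rw [Scheme.Hom.comp_appTop] at h'
      rw [show f.appTop.hom.comp α.hom = (X.hom.appTop ≫ f.appTop).hom.comp
        (Scheme.ΓSpecIso (CommRingCat.of k)).inv.hom from rfl]
      exact RingHom.FiniteType.comp h' (RingHom.FiniteType.of_surjective _
        (ConcreteCategory.bijective_of_isIso (Scheme.ΓSpecIso (CommRingCat.of k)).inv).surjective)
    have hflat : f.appTop.hom.Flat := HasRingHomProperty.appTop (P := @Flat) _ inferInstance
    haveI : Nonempty (⊤ : V.toScheme.Opens) := ⟨⟨Classical.arbitrary _, trivial⟩⟩
    exact GrothLib.GenSubgrp14.finite_of_ff_finiteType α.hom f.appTop.hom hC hflat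
      (X.left.isoSpec.inv.homeomorph.injective.subsingleton)
      ((Scheme.component_nontrivial V.toScheme ⊤))

end Groth.Agent.S6084
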