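import Groth.Agent.Lib.GrpLim14.Quotient
import Groth.Statements.S6087
-- import your own Groth.Agent.* helpers here

set_option autoImplicit false
universe u
open CategoryTheory CategoryTheory.Limits MonoidalCategory CartesianMonoidalCategory MonObj GrpObj AlgebraicGeometry
open SGA3

namespace Groth.Agent.S6087

/-- Let S be the limit of a cofiltered system (S_i) of quasi-compact quasi-separated schemes with affine
transition morphisms, j an index, G_j an S_j-group scheme of finite presentation over S_j and u_j :
G'_j → G_j a subgroup scheme (a homomorphism which is a monomorphism) with G'_j flat and of finite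
presentation over S_j. For a base change G, G' of G_j, G'_j say that G/G' is representable when
there are Q and a morphism p : G → Q which is flat, surjective and locally of finite presentation
and makes the square formed by (g, h) ↦ g · u(h), the first projection G × G' → G and p (twice)
cartesian. Then G/G' is representable over S for the base changes to S if and only if there is an
index i over j such that G_i/G'_i is representable over S_i for the base changes to S_i. (The
published statement is for representability of the fpqc quotient sheaf; with G' flat of finite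
presentation this is the same as the existence of such a p. The published setting takes all S_i
affine over a fixed quasi-compact quasi-separated S_0.) -/
theorem result {I : Type u} [SmallCategory I] [IsCofiltered I]
    (D : I ⥤ Scheme.{u}) (c : Limits.Cone D) (hc : Limits.IsLimit c)
    [∀ (i i' : I) (f : i ⟶ i'), IsAffineHom (D.map f)] [∀ i, CompactSpace (D.obj i)] [∀ i, QuasiSeparatedSpace (D.obj i)]
    (j : I) (Gj G'j : Over (D.obj j)) [GrpObj Gj] [GrpObj G'j]
    [LocallyOfFinitePresentation Gj.hom] [QuasiCompact Gj.hom] [QuasiSeparated Gj.hom]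
    [Flat G'j.hom] [LocallyOfFinitePresentation G'j.hom] [QuasiCompact G'j.hom] [QuasiSeparated G'j.hom]
    (uj : G'j ⟶ Gj) [IsMonHom uj] [Mono uj] :
    (∃ (Q : Over c.pt) (p : (Red.bc (c.π.app j) Gj) ⟶ Q), Flat p.left ∧ Surjective p.left ∧ LocallyOfFinitePresentation p.left ∧
        IsPullback (((Red.bc (c.π.app j) Gj) ◁ ((Over.pullback (c.π.app j)).map uj)) ≫ μ[(Red.bc (c.π.app j) Gj)]) (fst (Red.bc (c.π.app j) Gj) (Red.bc (c.π.app j) G'j)) p p) ↔
    ∃ (i : I) (f : i ⟶ j), ∃ (Q : Over (D.obj i)) (p : (Red.bc (D.map f) Gj) ⟶ Q), Flat p.left ∧ Surjective p.left ∧ LocallyOfFinitePresentation p.left ∧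
        IsPullback (((Red.bc (D.map f) Gj) ◁ ((Over.pullback (D.map f)).map uj)) ≫ μ[(Red.bc (D.map f) Gj)]) (fst (Red.bc (D.map f) Gj) (Red.bc (D.map f) G'j)) p p := by
  haveI : LocallyOfFinitePresentation (Gj ⊗ G'j).hom := by rw [Over.tensorObj_hom]; infer_instance
  haveI : QuasiCompact (Gj ⊗ G'j).hom := by rw [Over.tensorObj_hom]; infer_instance
  haveI : QuasiSeparated (Gj ⊗ G'j).hom := by rw [Over.tensorObj_hom]; infer_instance
  have key : ∀ {S' : Scheme.{u}} (g : S' ⟶ D.obj j),
      GrothLib.GrpLim14.HasQuot ((Over.pullback g).map ((Gj ◁ uj) ≫ μ[Gj])) ((Over.pullback g).map (fst Gj G'j)) ↔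
        GrothLib.GrpLim14.HasQuot ((Red.bc g Gj ◁ (Over.pullback g).map uj) ≫ μ[Red.bc g Gj]) (fst (Red.bc g Gj) (Red.bc g G'j)) := by
    intro S' g
    have h1 : Functor.LaxMonoidal.μ (Over.pullback g) Gj G'j ≫ (Over.pullback g).map ((Gj ◁ uj) ≫ μ[Gj]) =
        (Red.bc g Gj ◁ (Over.pullback g).map uj) ≫ μ[Red.bc g Gj] := by
      rw [Functor.map_comp, ← Category.assoc, ← Functor.LaxMonoidal.μ_natural_right, Category.assoc]
      rfl
    have h2 : Functor.LaxMonoidal.μ (Over.pullback g) Gj G'j ≫ (Over.pullback g).map (fst Gj G'j) =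
        fst (Red.bc g Gj) (Red.bc g G'j) := Functor.Monoidal.μ_fst _ _ _
    let e := Functor.Monoidal.μIso (Over.pullback g) Gj G'j
    have hw : ∀ w : Gj ⊗ G'j ⟶ Gj, (Over.pullback g).map w = e.inv ≫ Functor.LaxMonoidal.μ (Over.pullback g) Gj G'j ≫ (Over.pullback g).map w :=
      fun w => (e.inv_hom_id_assoc _).symm
    constructor
    · exact fun h => h.of_iso e.symm (Iso.refl _) (by rw [← h1]; simp [e]) (by rw [← h2]; simp [e])
    · exact fun h => h.of_iso e (Iso.refl _) (by rw [← h1]; simp [e]) (by rw [← h2]; simp [e])
  refine Iff.trans (key (c.π.app j)).symm ((GrothLib.GrpLim14.hasQuot_iff D hc _ _).trans ?_)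
  exact exists_congr fun i => exists_congr fun f => key (D.map f)

end Groth.Agent.S6087
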