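import Groth.Statements.S6088
import Groth.Agent.Lib.GrpLim14.Normal

set_option autoImplicit false
universe u
open CategoryTheory CategoryTheory.Limits MonoidalCategory CartesianMonoidalCategory MonObj GrpObj AlgebraicGeometry
open SGA3

namespace Groth.Agent.S6088

/-- Let S be the limit of a cofiltered system (S_i) of quasi-compact quasi-separated schemes with affine
transition morphisms, j an index and u_j : H_j → G_j a homomorphism of S_j-group schemes of finite
presentation over S_j; write u and u_i for its base changes to S and to S_i. Then u is a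
monomorphism with H normal in G (for every S-scheme T, conjugates of T-points of H by T-points of G
are T-points of H) if and only if there is an index i over j such that u_i is a monomorphism with
H_i normal in G_i; and u is a monomorphism with H central in G (every T-point of H commutes with
every T-point of G) if and only if there is an index i over j with the same property for u_i. (The
published statement starts from a homomorphism u of S-groups of finite presentation and first
descends it to some u_j; this row starts from u_j. The published setting takes all S_i affine over a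
fixed quasi-compact quasi-separated S_0.) -/
theorem result {I : Type u} [SmallCategory I] [IsCofiltered I]
    (D : I ⥤ Scheme.{u}) (c : Limits.Cone D) (hc : Limits.IsLimit c)
    [∀ (i i' : I) (f : i ⟶ i'), IsAffineHom (D.map f)] [∀ i, CompactSpace (D.obj i)] [∀ i, QuasiSeparatedSpace (D.obj i)]
    (j : I) (Gj Hj : Over (D.obj j)) [GrpObj Gj] [GrpObj Hj]
    [LocallyOfFinitePresentation Gj.hom] [QuasiCompact Gj.hom] [QuasiSeparated Gj.hom]
    [LocallyOfFinitePresentation Hj.hom] [QuasiCompact Hj.hom] [QuasiSeparated Hj.hom]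
    (uj : Hj ⟶ Gj) [IsMonHom uj] :
    ((Mono ((Over.pullback (c.π.app j)).map uj) ∧ AlgGrp.IsNormalHom ((Over.pullback (c.π.app j)).map uj)) ↔
      ∃ (i : I) (f : i ⟶ j), Mono ((Over.pullback (D.map f)).map uj) ∧ AlgGrp.IsNormalHom ((Over.pullback (D.map f)).map uj)) ∧
    ((Mono ((Over.pullback (c.π.app j)).map uj) ∧ (∀ (T : Over c.pt) (g : T ⟶ (Red.bc (c.π.app j) Gj)) (n : T ⟶ (Red.bc (c.π.app j) Hj)), g * (n ≫ ((Over.pullback (c.π.app j)).map uj)) = (n ≫ ((Over.pullback (c.π.app j)).map uj)) * g)) ↔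
      ∃ (i : I) (f : i ⟶ j), Mono ((Over.pullback (D.map f)).map uj) ∧ (∀ (T : Over (D.obj i)) (g : T ⟶ (Red.bc (D.map f) Gj)) (n : T ⟶ (Red.bc (D.map f) Hj)), g * (n ≫ ((Over.pullback (D.map f)).map uj)) = (n ≫ ((Over.pullback (D.map f)).map uj)) * g)) := by
  obtain ⟨P, p, q, sq⟩ : ∃ (P : Over (D.obj j)) (p q : P ⟶ Hj), IsPullback p q uj uj :=
    ⟨_, _, _, IsPullback.of_hasPullback uj uj⟩
  haveI : QuasiCompact uj.left :=
    haveI : QuasiCompact (uj.left ≫ Gj.hom) := by rw [Over.w uj]; infer_instance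
    QuasiCompact.of_comp uj.left Gj.hom
  haveI : QuasiSeparated uj.left :=
    haveI : QuasiSeparated (uj.left ≫ Gj.hom) := by rw [Over.w uj]; infer_instance
    QuasiSeparated.of_comp uj.left Gj.hom
  haveI : QuasiCompact p.left := MorphismProperty.of_isPullback (sq.map (Over.forget _)).flip ‹QuasiCompact uj.left›
  haveI : QuasiSeparated p.left := MorphismProperty.of_isPullback (sq.map (Over.forget _)).flip ‹QuasiSeparated uj.left›
  haveI : QuasiCompact P.hom := by rw [← Over.w p]; infer_instance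
  haveI : QuasiSeparated P.hom := by rw [← Over.w p]; infer_instance
  haveI : QuasiCompact (Gj ⊗ Hj).hom := by rw [Over.tensorObj_hom]; infer_instance
  haveI : QuasiSeparated (Gj ⊗ Hj).hom := by rw [Over.tensorObj_hom]; infer_instance
  have up : ∀ {i : I} (f : i ⟶ j), c.π.app i ≫ D.map f = c.π.app j := fun f => c.w f
  have join : ∀ {i₁ i₂ : I} (f₁ : i₁ ⟶ j) (f₂ : i₂ ⟶ j), ∃ (i : I) (f : i ⟶ j) (g₁ : i ⟶ i₁) (g₂ : i ⟶ i₂),
      D.map g₁ ≫ D.map f₁ = D.map f ∧ D.map g₂ ≫ D.map f₂ = D.map f := by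
    intro i₁ i₂ f₁ f₂
    obtain ⟨i, g₁, g₂, h⟩ := IsCofiltered.cospan f₁ f₂
    exact ⟨i, g₁ ≫ f₁, g₁, g₂, (D.map_comp _ _).symm, by rw [← D.map_comp, h]⟩
  simp only [GrothLib.GrpLim14.mono_map_iff _ sq, GrothLib.GrpLim14.isNormalHom_map_iff,
    GrothLib.GrpLim14.central_map_iff]
  refine ⟨⟨fun ⟨hM, hN⟩ => ?_, fun ⟨i, f, hM, hN⟩ =>
      ⟨GrothLib.GrpLim14.map_eq_of_comp (up f) hM, hN.of_comp (up f)⟩⟩,
    ⟨fun ⟨hM, hN⟩ => ?_, fun ⟨i, f, hM, hN⟩ =>
      ⟨GrothLib.GrpLim14.map_eq_of_comp (up f) hM, GrothLib.GrpLim14.map_eq_of_comp (up f) hN⟩⟩⟩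
  all_goals obtain ⟨i₁, f₁, h₁⟩ := GrothLib.GrpLim14.exists_map_eq D hc P Hj p q hM
  · obtain ⟨i₂, f₂, h₂⟩ := GrothLib.GrpLim14.exists_factors D hc uj _ hN
    obtain ⟨i, f, g₁, g₂, e₁, e₂⟩ := join f₁ f₂
    exact ⟨i, f, GrothLib.GrpLim14.map_eq_of_comp e₁ h₁, h₂.of_comp e₂⟩
  · obtain ⟨i₂, f₂, h₂⟩ := GrothLib.GrpLim14.exists_map_eq D hc (Gj ⊗ Hj) Gj _ _ hN
    obtain ⟨i, f, g₁, g₂, e₁, e₂⟩ := join f₁ f₂
    exact ⟨i, f, GrothLib.GrpLim14.map_eq_of_comp e₁ h₁, GrothLib.GrpLim14.map_eq_of_comp e₂ h₂⟩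

end Groth.Agent.S6088
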