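import Groth.Statements.S6093
import Groth.Agent.Lib.GModStable14.Basic

set_option autoImplicit false
universe u
open CategoryTheory MonObj GrpObj AlgebraicGeometry
open scoped TensorProduct
open SGA3

namespace Groth.Agent.S6093

/-- Let R be a Noetherian ring, G a group scheme over Spec R which is flat, quasi-compact and
quasi-separated over Spec R (not necessarily affine), E an R-module carrying a G-module structure
(for every R-algebra B, a natural action of the B-points of G on B ⊗_R E by B-linear automorphisms),
and M a finitely generated R-submodule of E. Then M is contained in a finitely generated submodule N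
of E which is stable under G: for every R-algebra B and every B-valued point g of G, the action of g
carries the image of B ⊗_R N in B ⊗_R E into itself. (The published statement is over a Noetherian
base scheme S with quasi-coherent and coherent modules; this row is the case S affine, with test
schemes affine.) -/
theorem result (R : Type u) [CommRing R] [IsNoetherianRing R]
    (G : Over (Spec (CommRingCat.of R))) [GrpObj G] [Flat G.hom] [QuasiCompact G.hom] [QuasiSeparated G.hom]
    (E : Type u) [AddCommGroup E] [Module R E] (m : VecGrp.GMod G E) (M : Submodule R E) (hM : M.FG) :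
    ∃ N : Submodule R E, M ≤ N ∧ N.FG ∧
      ∀ (B : Type u) [CommRing B] [Algebra R B] (g : VecGrp.pt R B ⟶ G) (x : E), x ∈ N →
        m.ρ B g ((1 : B) ⊗ₜ[R] x) ∈ LinearMap.range (N.subtype.baseChange B) := by
  classical
  obtain ⟨n, B₀, hB₀, v, hv, hfl, hcov⟩ := GrothLib.GModStable14.exists_charts G
  letI := hB₀
  haveI := hv
  haveI := hfl
  obtain ⟨S, hS⟩ := hM
  choose F hF hFm using fun (q : Fin n × S) =>
    GrothLib.GModStable14.exists_fg_mem_range (R := R) (m.ρ (B₀ q.1) (v q.1) ((1 : B₀ q.1) ⊗ₜ[R] (q.2 : E)))
  let M' : Submodule R E := ⨆ q, F q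
  have hM' : M'.FG := Submodule.fg_iSup F hF
  have hmem : ∀ q : Fin n × S, m.ρ (B₀ q.1) (v q.1) ((1 : B₀ q.1) ⊗ₜ[R] (q.2 : E)) ∈
      LinearMap.range (M'.subtype.baseChange (B₀ q.1)) := by
    intro q
    obtain ⟨y, hy⟩ := hFm q
    refine ⟨(Submodule.inclusion (le_iSup F q)).baseChange (B₀ q.1) y, ?_⟩
    rw [← LinearMap.comp_apply, ← LinearMap.baseChange_comp, Submodule.subtype_comp_inclusion]
    exact hy
  refine ⟨GrothLib.GModStable14.core m M', ?_, ?_, fun B _ _ g x hx =>
    GrothLib.GModStable14.core_stable B₀ v hcov m M' B g hx⟩
  · rw [← hS, Submodule.span_le]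
    intro s hs
    exact GrothLib.GModStable14.mem_core_of_charts B₀ v hcov m M' fun a => hmem (a, ⟨s, hs⟩)
  · haveI : IsNoetherian R ↥M' := isNoetherian_of_fg_of_noetherian M' hM'
    have h := (IsNoetherian.noetherian ((GrothLib.GModStable14.core m M').comap M'.subtype)).map M'.subtype
    rwa [Submodule.map_comap_eq, Submodule.range_subtype, inf_eq_right.2 (GrothLib.GModStable14.core_le m M')] at h

end Groth.Agent.S6093
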