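import Groth.Statements.S6094
import Groth.Agent.Lib.GModComod14.Basic

set_option autoImplicit false
universe u
open CategoryTheory MonObj GrpObj AlgebraicGeometry
open scoped TensorProduct
open SGA3

namespace Groth.Agent.S6094

/-- Let R be a commutative ring, A a commutative Hopf algebra over R, G = Spec A the corresponding
affine group scheme over Spec R, and E an R-module. A G-module structure on E (for every R-algebra
B, a natural action of the B-valued points of G on B ⊗_R E by B-linear automorphisms) and a right
A-comodule structure δ : E → E ⊗_R A are said to correspond when, for every R-algebra B, every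
B-valued point g of G with associated algebra map f : A → B and every x ∈ E, the point g sends 1 ⊗ x
to the image of δ(x) under E ⊗_R A → B ⊗_R E, y ⊗ a ↦ f(a) ⊗ y. Then every comodule structure on E
corresponds to exactly one G-module structure, and every G-module structure corresponds to exactly
one R-linear δ : E → E ⊗_R A which is coassociative and counital. -/
theorem result (R : Type u) [CommRing R] (A : Type u) [CommRing A] [HopfAlgebra R A]
    (E : Type u) [AddCommGroup E] [Module R E] :
    (∀ [HopfRep.Comod R A E], ∃! m : VecGrp.GMod ((Spec (CommRingCat.of A)).asOver (Spec (CommRingCat.of R))) E,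
        (∀ (B : Type u) [CommRing B] [Algebra R B] (g : VecGrp.pt R B ⟶ ((Spec (CommRingCat.of A)).asOver (Spec (CommRingCat.of R)))) (x : E),
          m.ρ B g ((1 : B) ⊗ₜ[R] x) =
            (TensorProduct.comm R E B) (LinearMap.lTensor E (Spec.mapMulEquiv.symm g).ofConv.toLinearMap (HopfRep.Comod.coact (k := R) (A := A) x)))) ∧
    (∀ m : VecGrp.GMod ((Spec (CommRingCat.of A)).asOver (Spec (CommRingCat.of R))) E, ∃! δ : E →ₗ[R] E ⊗[R] A,
        ((TensorProduct.assoc R E A A).toLinearMap ∘ₗ δ.rTensor A ∘ₗ δ =
            (CoalgebraStruct.comul (R := R) (A := A)).lTensor E ∘ₗ δ ∧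
          (CoalgebraStruct.counit (R := R) (A := A)).lTensor E ∘ₗ δ = (TensorProduct.mk R E R).flip 1) ∧
        (∀ (B : Type u) [CommRing B] [Algebra R B] (g : VecGrp.pt R B ⟶ ((Spec (CommRingCat.of A)).asOver (Spec (CommRingCat.of R)))) (x : E),
          m.ρ B g ((1 : B) ⊗ₜ[R] x) =
            (TensorProduct.comm R E B) (LinearMap.lTensor E (Spec.mapMulEquiv.symm g).ofConv.toLinearMap (δ x)))) := by
  refine ⟨fun {_} => ?_, fun m => ?_⟩
  · obtain ⟨m, hm⟩ := GrothLib.GModComod14.exists_gmod (HopfRep.Comod.coact (k := R) (A := A) (V := E))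
      HopfRep.Comod.coassoc HopfRep.Comod.counit_comp
    refine ⟨m, fun B _ _ g x => hm B g x, fun m' hm' => GrothLib.GModComod14.gmod_ext fun B _ _ g x => ?_⟩
    exact (hm' B g x).trans (hm B g x).symm
  · refine ⟨GrothLib.GModComod14.coact m, ⟨⟨GrothLib.GModComod14.coact_coassoc m,
      GrothLib.GModComod14.coact_counit m⟩, fun B _ _ g x => GrothLib.GModComod14.ρ_eq m g x⟩, fun δ hδ => ?_⟩
    refine GrothLib.GModComod14.T_injective fun x => ?_
    have h1 := hδ.2 A (GrothLib.GModComod14.point (AlgHom.id R A)) x
    have h2 := GrothLib.GModComod14.ρ_eq m (GrothLib.GModComod14.point (AlgHom.id R A)) x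
    rw [GrothLib.GModComod14.alg_point] at h2
    rw [← h2, h1]
    show _ = TensorProduct.comm R E A (LinearMap.lTensor E (GrothLib.GModComod14.alg _).toLinearMap (δ x))
    rw [GrothLib.GModComod14.alg_point]
    rfl

end Groth.Agent.S6094
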