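import Groth.Statements.S6100
import Groth.Agent.Lib.MaxTorBC14.Radical
-- import your own Groth.Agent.* helpers here

set_option autoImplicit false
open CategoryTheory MonoidalCategory CartesianMonoidalCategory MonObj GrpObj AlgebraicGeometry
universe u
open RedSub

namespace Groth.Agent.S6100

/-- Let G be a reductive S-group, H ⟶ G a subgroup of type (R) which is a reductive S-group, rad(H) ⟶
Z(H) ⟶ H its radical, z : Z ⟶ G the centraliser of rad(H) in G, Z(Z) ⟶ Z the centre of Z and rad(Z)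
⟶ Z(Z) a maximal torus. Then H ⊆ Centr_G(rad H), and rad(Centr_G(rad H)) = rad(H) as subgroups of G,
so that rad(H) is a C-critical torus (the radical of its own centraliser). -/
theorem result {S : Scheme.{u}} {G H ZH R Z ZZ RZ : Over S} [GrpObj G] [GrpObj H]
    [GrpObj ZH] [GrpObj R] [GrpObj Z] [GrpObj ZZ] [GrpObj RZ] (hG : Red.IsReductive G)
    (i : H ⟶ G) (hi : RedSub.IsTypeR i) (hH : Red.IsReductive H)
    (jz : ZH ⟶ H) (hZH : Red.IsCentre jz) (r : R ⟶ ZH) (hR : Red.IsMaximalTorus r)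
    (z : Z ⟶ G) (hZ : Red.IsCentralizerOf (r ≫ jz ≫ i) z)
    (jzz : ZZ ⟶ Z) (hZZ : Red.IsCentre jzz) (rz : RZ ⟶ ZZ) (hRZ : Red.IsMaximalTorus rz) :
    (∃ k : H ⟶ Z, k ≫ z = i) ∧ ∃ e : R ≅ RZ, e.hom ≫ rz ≫ jzz ≫ z = r ≫ jz ≫ i := by
  obtain ⟨him, himm⟩ := id hi.1
  haveI := him; haveI := himm
  haveI : Mono i := (Over.forget S).mono_of_mono_map (show Mono i.left from inferInstance)
  obtain ⟨hjm, hjmono, hjiff⟩ := id hZH
  haveI := hjm; haveI := hjmono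
  obtain ⟨hrm, hrmono, hRt, -⟩ := id hR
  haveI := hrm; haveI := hrmono
  obtain ⟨hzm, hzmono, hziff⟩ := id hZ
  haveI := hzm; haveI := hzmono
  obtain ⟨hzzm, hzzmono, hzziff⟩ := id hZZ
  haveI := hzzm; haveI := hzzmono
  obtain ⟨hrzm, hrzmono, hRZt, -⟩ := id hRZ
  haveI := hrzm; haveI := hrzmono
  have hRH : ∀ (X : Over S) (x : X ⟶ R) (h : X ⟶ H),
      (x ≫ r ≫ jz ≫ i) * (h ≫ i) = (h ≫ i) * (x ≫ r ≫ jz ≫ i) := fun X x h => by
    have e := congrArg (· ≫ i) ((hjiff X ((x ≫ r) ≫ jz)).1 ⟨x ≫ r, rfl⟩ X (𝟙 X) h)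
    simpa only [MonObj.mul_comp, Category.assoc, Category.id_comp, Category.comp_id] using e
  have hRZ' : ∀ (X : Over S) (g : X ⟶ Z) (x : X ⟶ R),
      (g ≫ z) * (x ≫ r ≫ jz ≫ i) = (x ≫ r ≫ jz ≫ i) * (g ≫ z) := fun X g x => by
    simpa only [Category.id_comp] using (hziff X (g ≫ z)).1 ⟨g, rfl⟩ X (𝟙 X) x
  obtain ⟨k, hk⟩ := (hziff H i).2 fun X h x => (hRH X x h).symm
  obtain ⟨uZ, huZ⟩ := (hziff R (r ≫ jz ≫ i)).2 fun X x y => by
    rw [← MonObj.mul_comp, ← MonObj.mul_comp, GrothLib.RankCell14.comm_torus hRt x y]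
  obtain ⟨uC, huC⟩ := (hzziff R uZ).2 fun X x g => by
    rw [Category.comp_id, ← cancel_mono z, MonObj.mul_comp, MonObj.mul_comp, Category.assoc, huZ]
    exact (hRZ' X g x).symm
  haveI : IsMonHom (uZ ≫ z) := by rw [huZ]; infer_instance
  haveI : IsMonHom uZ := GrothLib.CentMT14.isMonHom_of_comp uZ z
  haveI : IsMonHom (uC ≫ jzz) := by rw [huC]; infer_instance
  haveI : IsMonHom uC := GrothLib.CentMT14.isMonHom_of_comp uC jzz
  haveI := hG.1; haveI := hG.2.1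
  obtain ⟨w, hw⟩ := GrothLib.MaxTorBC14.exists_factor_maxTorus_comm (jzz ≫ z) rz hRZ hRt uC fun X x y => by
    rw [← cancel_mono jzz, MonObj.mul_comp, MonObj.mul_comp]
    simpa only [Category.id_comp, Category.comp_id] using
      (hzziff X ((x ≫ uC) ≫ jzz)).1 ⟨x ≫ uC, rfl⟩ X (𝟙 X) ((y ≫ rz) ≫ jzz)
  have hw' : w ≫ rz ≫ jzz ≫ z = r ≫ jz ≫ i := by
    rw [← Category.assoc, hw, ← Category.assoc, huC, huZ]
  obtain ⟨w₂, hw₂⟩ := GrothLib.MaxTorBC14.exists_factor_radical hG i hi jz hZH r hR hRZt (rz ≫ jzz ≫ z)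
    fun X y h => by
      have e := congrArg (· ≫ z) ((hzziff X ((y ≫ rz) ≫ jzz)).1 ⟨y ≫ rz, rfl⟩ X (𝟙 X) (h ≫ k))
      simpa only [MonObj.mul_comp, Category.assoc, Category.id_comp, Category.comp_id, hk] using e
  refine ⟨⟨k, hk⟩, ⟨w, w₂, ?_, ?_⟩, hw'⟩
  · rw [← cancel_mono r, ← cancel_mono jz, ← cancel_mono i]
    simp only [Category.assoc, Category.id_comp, hw₂, hw']
  · rw [← cancel_mono rz, ← cancel_mono jzz, ← cancel_mono z]
    simp only [Category.assoc, Category.id_comp, hw₂, hw']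

end Groth.Agent.S6100
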