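import Groth.Statements.S6106
import Groth.Agent.Lib.MaxTorBC14.Comm
-- import your own Groth.Agent.* helpers here

set_option autoImplicit false
open CategoryTheory MonoidalCategory CartesianMonoidalCategory MonObj GrpObj AlgebraicGeometry
universe u
open RedSub

namespace Groth.Agent.S6106

/-- Let G be a reductive S-group, q : Q ⟶ G a subtorus, Z = Centr_G(Q), Z(Z) its centre and rad(Z) ⟶
Z(Z) a maximal torus. If q' : Q' ⟶ G is a subtorus containing Q which is C-critical (Q' is the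
radical of its centraliser Z': it factors through the centre Z(Z') as a maximal torus of Z(Z')),
then rad(Centr_G(Q)) ⊆ Q' as subgroups of G. Since rad(Centr_G(Q)) contains Q and is itself
C-critical, this says it is the smallest C-critical torus of G containing Q. -/
theorem result {S : Scheme.{u}} {G Q Z ZZ RZ Q' Z' ZZ' : Over S} [GrpObj G]
    [GrpObj Q] [GrpObj Z] [GrpObj ZZ] [GrpObj RZ] [GrpObj Q'] [GrpObj Z'] [GrpObj ZZ'] (hG : Red.IsReductive G)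
    (q : Q ⟶ G) [IsMonHom q] [Mono q] (hQ : Red.IsTorus Q) (z : Z ⟶ G) (hZ : Red.IsCentralizerOf q z)
    (jzz : ZZ ⟶ Z) (hZZ : Red.IsCentre jzz) (rz : RZ ⟶ ZZ) (hRZ : Red.IsMaximalTorus rz)
    (q' : Q' ⟶ G) [IsMonHom q'] [Mono q'] (hQ' : Red.IsTorus Q') (k : Q ⟶ Q') (hk : k ≫ q' = q)
    (z' : Z' ⟶ G) (hZ' : Red.IsCentralizerOf q' z') (jzz' : ZZ' ⟶ Z') (hZZ' : Red.IsCentre jzz')
    (m' : Q' ⟶ ZZ') (hm' : m' ≫ jzz' ≫ z' = q') (hcrit : Red.IsMaximalTorus m') :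
    ∃ l : RZ ⟶ Q', l ≫ q' = rz ≫ jzz ≫ z := by
  obtain ⟨hGa, hGs, -⟩ := hG
  haveI := hGa; haveI := hGs
  obtain ⟨hzm, hzmono, hziff⟩ := hZ
  haveI := hzm; haveI := hzmono
  obtain ⟨hjm, hjmono, hjiff⟩ := hZZ
  haveI := hjm; haveI := hjmono
  obtain ⟨hrm, hrmono, hRt, -⟩ := id hRZ
  haveI := hrm; haveI := hrmono
  obtain ⟨hz'm, hz'mono, hz'iff⟩ := hZ'
  haveI := hz'm; haveI := hz'mono
  obtain ⟨hj'm, hj'mono, hj'iff⟩ := hZZ'
  haveI := hj'm; haveI := hj'mono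
  obtain ⟨hm'm, hm'mono, -, -⟩ := id hcrit
  haveI := hm'm; haveI := hm'mono
  let u : RZ ⟶ G := rz ≫ jzz ≫ z
  have hcc : ∀ (X : Over S) (a : X ⟶ RZ) (g : X ⟶ Z), (a ≫ u) * (g ≫ z) = (g ≫ z) * (a ≫ u) := fun X a g => by
    have e := (hjiff X (a ≫ rz ≫ jzz)).1 ⟨a ≫ rz, Category.assoc _ _ _⟩ X (𝟙 X) g
    have e2 := congrArg (· ≫ z) e
    simpa only [u, MonObj.mul_comp, Category.assoc, Category.id_comp, Category.comp_id] using e2
  -- the bigger torus and its centralizer lie in the centralizer of the smaller one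
  have hsub : ∀ (X : Over S) (g : X ⟶ Z'), ∃ g₁ : X ⟶ Z, g₁ ≫ z = g ≫ z' := fun X g =>
    (hziff X (g ≫ z')).2 fun X' x t => by
      have e := (hz'iff X (g ≫ z')).1 ⟨g, rfl⟩ X' x (t ≫ k)
      rwa [Category.assoc, hk] at e
  obtain ⟨u', hu'⟩ := (hz'iff RZ u).2 fun X x t => by
    obtain ⟨t₁, ht₁⟩ := hsub X (t ≫ m' ≫ jzz')
    have e := hcc X x t₁
    rw [ht₁] at e
    simpa only [Category.assoc, hm'] using e
  obtain ⟨uC, huC⟩ := (hj'iff RZ u').2 fun X x g => by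
    obtain ⟨g₁, hg₁⟩ := hsub X g
    rw [Category.comp_id, ← cancel_mono z', MonObj.mul_comp, MonObj.mul_comp, Category.assoc, hu', ← hg₁]
    exact hcc X x g₁
  haveI : IsMonHom (u' ≫ z') := by rw [hu']; infer_instance
  haveI : IsMonHom u' := GrothLib.CentMT14.isMonHom_of_comp u' z'
  haveI : IsMonHom (uC ≫ jzz') := by rw [huC]; infer_instance
  haveI : IsMonHom uC := GrothLib.CentMT14.isMonHom_of_comp uC jzz'
  obtain ⟨w, hw⟩ := GrothLib.MaxTorBC14.exists_factor_maxTorus_comm (jzz' ≫ z') m' hcrit hRt uC fun X x t => by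
    rw [← cancel_mono jzz', MonObj.mul_comp, MonObj.mul_comp]
    simpa only [Category.id_comp, Category.comp_id, Category.assoc] using
      (hj'iff X ((x ≫ uC) ≫ jzz')).1 ⟨x ≫ uC, rfl⟩ X (𝟙 X) ((t ≫ m') ≫ jzz')
  refine ⟨w, ?_⟩
  calc w ≫ q' = (w ≫ m') ≫ jzz' ≫ z' := by rw [Category.assoc, hm']
    _ = u := by rw [hw, ← Category.assoc, huC, hu']

end Groth.Agent.S6106
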