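import Groth.Statements.S6119
import Groth.Agent.Lib.FppfQuot.Stages
-- import your own Groth.Agent.* helpers here

set_option autoImplicit false
set_option linter.style.haveILetI false
set_option linter.unusedVariables false
open CategoryTheory MonoidalCategory CartesianMonoidalCategory MonObj GrpObj AlgebraicGeometry
universe u
open RedSub

namespace Groth.Agent.S6119

open CategoryTheory.Limits GrothLib.FppfQuot

/-- The identification G/H ≅ corad(G)/corad(H): let G be a reductive S-group, d : D ⟶ G its derived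
group and f₀ : G ⟶ C its coradical (C commutative, D = Ker f₀, f₀ the fppf quotient G/D, D killed by
every homomorphism to a commutative S-group scheme). Let t : T'' ⟶ C be a subtorus, H = G x_C T''
its preimage under f₀ (with projections k : H ⟶ G and g : H ⟶ T''), and q : G ⟶ Q the fppf quotient
of G by H. Then q factors uniquely as f₀ followed by q' : C ⟶ Q, and q' exhibits Q as the fppf
quotient of C by T''. -/
theorem result {S : Scheme.{u}} {G D C T'' H Q : Over S} [GrpObj G] [GrpObj D]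
    [GrpObj C] [GrpObj T''] [GrpObj H] (hG : Red.IsReductive G) (d : D ⟶ G) [IsMonHom d]
    (f₀ : G ⟶ C) [IsMonHom f₀] (hC : ∀ (X : Over S) (a b : X ⟶ C), a * b = b * a) (hker : AlgGrp.IsKernel d f₀)
    (hquot : RedSub.IsQuotient d f₀) (hkill : RedSub.KilledByCommutative d)
    (t : T'' ⟶ C) [IsMonHom t] [Mono t] (hT'' : Red.IsTorus T'') (k : H ⟶ G) [IsMonHom k] (g : H ⟶ T'') [IsMonHom g]
    (hsq : IsPullback k g f₀ t) (q : G ⟶ Q) (hq : RedSub.IsQuotient k q) :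
    ∃! q' : C ⟶ Q, f₀ ≫ q' = q ∧ RedSub.IsQuotient t q' := by
  have hf₀ := isCover_of_isQuotient hquot
  have hcq := isCover_of_isQuotient hq
  have hepi₀ := hf₀.epi
  have hdf : d ≫ f₀ = 1 := hker.w
  obtain ⟨q', hq'⟩ := hf₀.desc q fun {W} a b hab => by
    obtain ⟨h, rfl⟩ := (comp_eq_iff hquot a b).1 hab
    have hw : (h ≫ d) ≫ f₀ = (1 : W ⟶ T'') ≫ t := by
      rw [Category.assoc, hdf, MonObj.comp_one, MonObj.one_comp]
    exact (comp_eq_iff hq _ _).2 ⟨hsq.lift _ _ hw, by rw [hsq.lift_fst]⟩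
  refine ⟨q', ⟨hq', ?_⟩, fun q'' hq'' => (cancel_epi f₀).1 (hq''.1.trans hq'.symm)⟩
  have hl : f₀.left ≫ q'.left = q.left := congrArg Over.Hom.left hq'
  haveI := hf₀.1; haveI := hf₀.2.1; haveI := hf₀.2.2
  refine ⟨?_, GrothLib.AlgSp.srcDescends_flat f₀.left q'.left hf₀.2.1 hf₀.1 (hl ▸ hcq.2.1),
    GrothLib.FppfSource.fppfSourceDescends_lfp f₀.left q'.left hf₀.2.1 hf₀.2.2 hf₀.1 (hl ▸ hcq.2.2), ?_⟩
  · haveI : Surjective (f₀.left ≫ q'.left) := hl ▸ hcq.1
    exact Surjective.of_comp f₀.left q'.left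
  have hinv : ∀ {W : Over S} (a : W ⟶ C) (h : W ⟶ T''), (a * (h ≫ t)) ≫ q' = a ≫ q' := by
    intro W a h
    obtain ⟨W₁, c₁, ã, hc₁, ha⟩ := hf₀.exists_lift a
    obtain ⟨W₂, c₂, hh, hc₂, hhl⟩ := hf₀.exists_lift (c₁ ≫ h ≫ t)
    haveI := (hc₂.comp hc₁).epi
    rw [← cancel_epi (c₂ ≫ c₁)]
    have hz : hh ≫ f₀ = ((c₂ ≫ c₁) ≫ h) ≫ t := by simp only [hhl, Category.assoc]
    have h1 : ((c₂ ≫ ã) * hh) ≫ q = (c₂ ≫ ã) ≫ q :=
      ((comp_eq_iff hq _ _).2 ⟨hsq.lift hh _ hz, by rw [hsq.lift_fst]⟩).symm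
    rw [← hq', ← Category.assoc _ f₀, ← Category.assoc _ f₀, MonObj.mul_comp] at h1
    have ea : (c₂ ≫ ã) ≫ f₀ = (c₂ ≫ c₁) ≫ a := by simp only [Category.assoc, ha]
    rw [ea, hz, Category.assoc _ h t, ← MonObj.comp_mul, Category.assoc, Category.assoc] at h1
    simpa only [Category.assoc] using h1
  refine isPullback_of_points ?_ fun {W} a b hab => ?_
  · have h1 := GrothLib.CartQuot.comp_act t (𝟙 (C ⊗ T''))
    simp only [Category.id_comp] at h1
    rw [h1]
    exact (hinv _ _).symm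
  obtain ⟨W₁, c₁, ã, hc₁, ha⟩ := hf₀.exists_lift a
  obtain ⟨W₂, c₂, b', hc₂, hb⟩ := hf₀.exists_lift (c₁ ≫ b)
  have hcov := hc₂.comp hc₁
  have hepi := hcov.epi
  have h1 : (c₂ ≫ ã) ≫ q = b' ≫ q := by
    rw [← hq', reassoc_of% hb, Category.assoc, reassoc_of% ha, hab]
  obtain ⟨ζ, hζ⟩ := (comp_eq_iff hq _ _).1 h1
  have h2 : (c₂ ≫ c₁) ≫ b = ((c₂ ≫ c₁) ≫ a) * ((ζ ≫ g) ≫ t) := by
    have e := congrArg (· ≫ f₀) hζ
    simp only [MonObj.mul_comp, Category.assoc, hb, ha, hsq.w] at e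
    simpa only [Category.assoc] using e
  have h3 : (c₂ ≫ c₁) ≫ (a⁻¹ * b) = (ζ ≫ g) ≫ t := by
    rw [MonObj.comp_mul, GrpObj.comp_inv, h2, inv_mul_cancel_left]
  obtain ⟨e, he⟩ := hcov.desc (ζ ≫ g) fun {V} x y hxy => by
    rw [← cancel_mono t, Category.assoc, Category.assoc y, ← h3, ← Category.assoc, hxy, Category.assoc]
  have het : e ≫ t = a⁻¹ * b := by
    rw [← cancel_epi (c₂ ≫ c₁), h3, ← Category.assoc, he]
  refine ⟨lift a e, ⟨lift_fst _ _, ?_⟩, fun z hz => ?_⟩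
  · rw [GrothLib.CartQuot.comp_act, lift_fst, lift_snd_assoc, het, mul_inv_cancel_left]
  · apply CartesianMonoidalCategory.hom_ext
    · rw [lift_fst]; exact hz.1
    · rw [lift_snd]
      have e' := hz.2
      rw [GrothLib.CartQuot.comp_act, hz.1] at e'
      rw [← cancel_mono t, het, ← e', inv_mul_cancel_left, Category.assoc]

end Groth.Agent.S6119
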