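import Groth.Statements.S6120
import Mathlib.CategoryTheory.Limits.Shapes.Equalizers

set_option autoImplicit false
open CategoryTheory CategoryTheory.Limits Opposite
universe w v₁ v₂ u₁ u₂
open SGA4

namespace Groth.Agent.S6120

/-- Let `I` be a category with a family of objects `i α` (`α : A`) such that every binary product `i α ⨯
i β` exists in `I` and every object of `I` admits a morphism to some `i α`. Let `F : Iᵒᵖ ⥤ C` be a
functor, and assume that `C` has equalizers and that the products `∏ F (i α)` and `∏ F (i α ⨯ i β)`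
exist in `C`. Then the limit of `F` exists, the canonical map `lim F ⟶ ∏ F (i α)` is a monomorphism,
and a map `t : T ⟶ ∏ F (i α)` factors through `lim F` exactly when its composites with the two maps
`∏ F (i α) ⇉ ∏ F (i α ⨯ i β)` induced by the two projections agree: `lim F` is the equalizer of that
pair. (The published statement assumes that `C` has all limits of the size of `A`; only equalizers
and the two products named are assumed here, which is what the equalizer construction uses.) -/
theorem result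
    {I : Type u₁} [Category.{v₁} I] {C : Type u₂} [Category.{v₂} C] {A : Type w} (i : A → I)
    [∀ α β, HasBinaryProduct (i α) (i β)]
    (hcov : ∀ j : I, ∃ α, Nonempty (j ⟶ i α))
    (F : Iᵒᵖ ⥤ C) [HasEqualizers C]
    [HasProduct (fun α => F.obj (op (i α)))]
    [HasProduct (fun p : A × A => F.obj (op (i p.1 ⨯ i p.2)))] :
    HasLimit F ∧ ∀ [HasLimit F],
      Mono (Pi.lift (fun α => limit.π F (op (i α)))) ∧
      ∀ (T : C) (t : T ⟶ ∏ᶜ (fun α => F.obj (op (i α)))),
        (∃ s : T ⟶ limit F, s ≫ Pi.lift (fun α => limit.π F (op (i α))) = t) ↔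
        t ≫ Pi.lift (fun p : A × A =>
            Pi.π (fun α => F.obj (op (i α))) p.1 ≫ F.map (prod.fst : i p.1 ⨯ i p.2 ⟶ i p.1).op) =
        t ≫ Pi.lift (fun p : A × A =>
            Pi.π (fun α => F.obj (op (i α))) p.2 ≫ F.map (prod.snd : i p.1 ⨯ i p.2 ⟶ i p.2).op) := by
  classical
  let P := ∏ᶜ fun α => F.obj (op (i α))
  let d₁ : P ⟶ ∏ᶜ fun p : A × A => F.obj (op (i p.1 ⨯ i p.2)) := Pi.lift (fun p : A × A =>
    Pi.π (fun α => F.obj (op (i α))) p.1 ≫ F.map (prod.fst : i p.1 ⨯ i p.2 ⟶ i p.1).op)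
  let d₂ : P ⟶ ∏ᶜ fun p : A × A => F.obj (op (i p.1 ⨯ i p.2)) := Pi.lift (fun p : A × A =>
    Pi.π (fun α => F.obj (op (i α))) p.2 ≫ F.map (prod.snd : i p.1 ⨯ i p.2 ⟶ i p.2).op)
  have hd : ∀ {T : C} (t : T ⟶ P), t ≫ d₁ = t ≫ d₂ →
      ∀ (j : I) (α β : A) (a : j ⟶ i α) (b : j ⟶ i β),
        t ≫ Pi.π (fun α => F.obj (op (i α))) α ≫ F.map a.op =
          t ≫ Pi.π (fun α => F.obj (op (i α))) β ≫ F.map b.op := by
    intro T t ht j α β a b
    have := congrArg (· ≫ Pi.π (fun p : A × A => F.obj (op (i p.1 ⨯ i p.2))) (α, β) ≫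
      F.map (prod.lift a b).op) ht
    simpa only [d₁, d₂, Category.assoc, Pi.lift_π_assoc, ← F.map_comp, ← op_comp, prod.lift_fst,
      prod.lift_snd] using this
  choose α a using fun j => (hcov j)
  let e : equalizer d₁ d₂ ⟶ P := equalizer.ι d₁ d₂
  let c : Cone F :=
    { pt := equalizer d₁ d₂
      π :=
        { app := fun j => e ≫ Pi.π (fun α => F.obj (op (i α))) (α j.unop) ≫
            F.map (a j.unop).some.op
          naturality := fun j j' f => by
            refine (Category.id_comp _).trans ?_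
            rw [Category.assoc, Category.assoc, ← F.map_comp]
            exact hd e (equalizer.condition d₁ d₂) j'.unop _ _ _ (f.unop ≫ (a j.unop).some) } }
  have hcomp : ∀ {T : C} (s : T ⟶ c.pt) (β : A), s ≫ c.π.app (op (i β)) =
      (s ≫ e) ≫ Pi.π (fun α => F.obj (op (i α))) β := by
    intro T s β
    have := hd e (equalizer.condition d₁ d₂) (i β) (α (i β)) β (a (i β)).some (𝟙 (i β))
    show s ≫ e ≫ _ ≫ _ = _
    rw [this, op_id, CategoryTheory.Functor.map_id, Category.comp_id, Category.assoc]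
  have hfam : ∀ (s : Cone F),
      Pi.lift (fun β => s.π.app (op (i β))) ≫ d₁ = Pi.lift (fun β => s.π.app (op (i β))) ≫ d₂ := by
    intro s
    apply Pi.hom_ext
    intro p
    simp only [d₁, d₂, Category.assoc, Pi.lift_π, Pi.lift_π_assoc]
    rw [s.w, s.w]
  have hc : IsLimit c :=
    { lift := fun s => equalizer.lift _ (hfam s)
      fac := fun s j => by
        show equalizer.lift _ (hfam s) ≫ e ≫ _ ≫ _ = _
        rw [equalizer.lift_ι_assoc, Pi.lift_π_assoc]
        exact s.w (a j.unop).some.op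
      uniq := fun s m hm => equalizer.hom_ext (Pi.hom_ext _ _ fun β => by
        rw [equalizer.lift_ι, Pi.lift_π, ← hm, hcomp]) }
  refine ⟨⟨⟨⟨c, hc⟩⟩⟩, fun {_} => ?_⟩
  let l : limit F ⟶ P := Pi.lift fun β => limit.π F (op (i β))
  let φ := (limit.isLimit F).conePointUniqueUpToIso hc
  have hφ : φ.hom ≫ e = l := Pi.hom_ext _ _ fun β => by
    rw [← hcomp]
    exact ((limit.isLimit F).conePointUniqueUpToIso_hom_comp hc _).trans
      (Pi.lift_π (fun β => limit.π F (op (i β))) β).symm
  show Mono l ∧ ∀ (T : C) (t : T ⟶ P), (∃ s, s ≫ l = t) ↔ t ≫ d₁ = t ≫ d₂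
  refine ⟨by rw [← hφ]; infer_instance, fun T t => ⟨?_, fun h =>
    ⟨equalizer.lift t h ≫ φ.inv, by rw [← hφ, Category.assoc, Iso.inv_hom_id_assoc, equalizer.lift_ι]⟩⟩⟩
  rintro ⟨s, rfl⟩
  rw [← hφ, Category.assoc, Category.assoc, Category.assoc, Category.assoc,
    equalizer.condition]

end Groth.Agent.S6120
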