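import Groth.Statements.S6121


set_option autoImplicit false
open CategoryTheory
universe v₁ v₂ u₁ u₂
open SGA4

namespace Groth.Agent.S6121

/-- For a fibered functor `p : E ⥤ B` (every morphism of `B` has a cartesian lift with prescribed
codomain, and cartesian morphisms compose), `p` reflects isomorphisms if and only if every fibre
category of `p` (objects over `b`, morphisms lying over the identity of `b`) is a groupoid. -/
theorem result
    {B : Type u₁} [Category.{v₁} B] {E : Type u₂} [Category.{v₂} E] (p : E ⥤ B) [p.IsFibered] :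
    p.ReflectsIsomorphisms ↔ ∀ b : B, IsGroupoid (p.Fiber b) := by
  constructor
  · intro _ b
    refine ⟨fun {x y} φ => ?_⟩
    have hl : p.IsHomLift (𝟙 b) φ.1 := φ.2
    have : IsIso (p.map φ.1) := by
      have h₁ := IsHomLift.fac' p (𝟙 b) φ.1
      rw [h₁]; infer_instance
    have : IsIso φ.1 := isIso_of_reflects_iso φ.1 p
    exact ⟨⟨inv φ.1, inferInstance⟩, Functor.Fiber.hom_ext (IsIso.hom_inv_id φ.1),
      Functor.Fiber.hom_ext (IsIso.inv_hom_id φ.1)⟩
  · intro h
    refine ⟨fun {x y} f _ => ?_⟩
    let ψ := Functor.IsPreFibered.pullbackMap (p := p) (rfl : p.obj y = p.obj y) (p.map f)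
    have : IsIso ψ := Functor.IsStronglyCartesian.isIso_of_base_isIso p (p.map f) ψ
    let a := Functor.IsCartesian.map p (p.map f) ψ f
    let a' : (Functor.Fiber.mk rfl : p.Fiber (p.obj x)) ⟶
        Functor.Fiber.mk (Functor.IsPreFibered.pullbackObj_proj (p := p) rfl (p.map f)) :=
      ⟨a, Functor.IsCartesian.map_isHomLift p (p.map f) ψ f⟩
    have : IsIso a' := (h (p.obj x)).all_isIso a'
    have : IsIso a := inferInstanceAs (IsIso (Functor.Fiber.fiberInclusion.map a'))
    rw [← Functor.IsCartesian.fac p (p.map f) ψ f]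
    infer_instance

end Groth.Agent.S6121
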