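import Groth.Statements.S6122


set_option autoImplicit false
open CategoryTheory
universe v₁ v₂ u₁ u₂
open SGA4

namespace Groth.Agent.S6122

/-- For a fibered functor `p : E ⥤ B` (every morphism of `B` has a cartesian lift with prescribed
codomain, and cartesian morphisms compose), `p` is faithful if and only if every fibre category of
`p` (objects over `b`, morphisms lying over the identity of `b`) has at most one morphism between
any two objects. -/
theorem result
    {B : Type u₁} [Category.{v₁} B] {E : Type u₂} [Category.{v₂} E] (p : E ⥤ B) [p.IsFibered] :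
    p.Faithful ↔ ∀ (b : B) (x y : p.Fiber b), Subsingleton (x ⟶ y) := by
  constructor
  · intro _ b x y
    exact ⟨fun φ ψ => Functor.Fiber.hom_ext (p.map_injective (by
      have h₁ := IsHomLift.fac' p (𝟙 b) (Functor.Fiber.fiberInclusion.map φ)
      have h₂ := IsHomLift.fac' p (𝟙 b) (Functor.Fiber.fiberInclusion.map ψ)
      exact h₁.trans h₂.symm))⟩
  · intro h
    refine ⟨fun {x y} f g hfg => ?_⟩
    let ψ := Functor.IsPreFibered.pullbackMap (p := p) (rfl : p.obj y = p.obj y) (p.map f)
    have hg : p.IsHomLift (p.map f) g := hfg ▸ IsHomLift.map p g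
    let a := Functor.IsCartesian.map p (p.map f) ψ f
    let b := Functor.IsCartesian.map p (p.map f) ψ g
    have : a = b := congrArg Subtype.val
      ((h (p.obj x) (Functor.Fiber.mk rfl)
        (Functor.Fiber.mk (Functor.IsPreFibered.pullbackObj_proj (p := p) rfl (p.map f)))).elim
          ⟨a, Functor.IsCartesian.map_isHomLift p (p.map f) ψ f⟩
          ⟨b, Functor.IsCartesian.map_isHomLift p (p.map f) ψ g⟩)
    rw [← Functor.IsCartesian.fac p (p.map f) ψ f, ← Functor.IsCartesian.fac p (p.map f) ψ g]
    exact congrArg (· ≫ ψ) this

end Groth.Agent.S6122
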