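import Groth.Statements.S6124
import Mathlib.CategoryTheory.Limits.Preserves.Shapes.Pullbacks
import Mathlib.CategoryTheory.Limits.Shapes.Diagonal
import Mathlib.CategoryTheory.Limits.Shapes.Pullback.IsPullback.Basic


set_option autoImplicit false
open CategoryTheory CategoryTheory.Limits Opposite
universe w v₁ v₂ u₁ u₂
open SGA4

namespace Groth.Agent.S6124

/-- Let `E` have pullbacks, let `P` be a detecting family of objects of `E` (a morphism `f` is
invertible as soon as every map out of an object of `P` factors uniquely through `f`), and let `φ i
: E ⥤ E' i` be functors preserving pullbacks. Then the `φ i` jointly reflect isomorphisms if and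
only if, for every `X` with `P X` and every subobject `X'` of `X` other than `⊤`, some `φ i` takes
the inclusion `X' ⟶ X` to a morphism that is not invertible. -/
theorem result
    {E : Type u₁} [Category.{v₁} E] [HasPullbacks E] (P : ObjectProperty E) (hP : P.IsDetecting)
    {κ : Type w} {E' : κ → Type u₂} [∀ k, Category.{v₂} (E' k)] (φ : ∀ k, E ⥤ E' k)
    [∀ k, PreservesLimitsOfShape WalkingCospan (φ k)] :
    (∀ ⦃X Y : E⦄ (f : X ⟶ Y), (∀ k, IsIso ((φ k).map f)) → IsIso f) ↔
      ∀ (X : E), P X → ∀ (X' : Subobject X), X' ≠ ⊤ → ∃ k, ¬ IsIso ((φ k).map X'.arrow) := by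
  constructor
  · intro h X _ X' hX'
    by_contra hne
    simp only [not_exists, not_not] at hne
    have := h X'.arrow hne
    exact hX' (Subobject.eq_top_of_isIso_arrow X')
  · intro h
    have key : ∀ {X Y : E} (u : X ⟶ Y) [Mono u], (∀ k, IsIso ((φ k).map u)) → IsIso u := by
      intro X Y u _ hu
      refine hP u fun G hG g => ?_
      have hS : (Subobject.mk (pullback.snd u g)) = ⊤ := by
        by_contra hne
        obtain ⟨k, hk⟩ := h G hG _ hne
        have := hu k
        have : IsIso ((φ k).map (pullback.snd u g)) :=
          ((IsPullback.of_hasPullback u g).map (φ k)).isIso_snd_of_isIso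
        refine hk ?_
        rw [← Subobject.underlyingIso_hom_comp_eq_mk, Functor.map_comp]
        infer_instance
      have : IsIso (pullback.snd u g) := (Subobject.isIso_iff_mk_eq_top _).2 hS
      refine ⟨inv (pullback.snd u g) ≫ pullback.fst u g, ?_, fun y hy => ?_⟩
      · show (inv (pullback.snd u g) ≫ pullback.fst u g) ≫ u = g
        rw [Category.assoc, pullback.condition, IsIso.inv_hom_id_assoc]
      · rw [← cancel_mono u, hy, Category.assoc, pullback.condition, IsIso.inv_hom_id_assoc]
    intro X Y f hf
    have : IsIso (pullback.diagonal f) := key _ fun k => by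
      have := hf k
      have : IsIso ((φ k).map (pullback.fst f f)) :=
        ((IsPullback.of_hasPullback f f).map (φ k)).isIso_fst_of_isIso
      have : IsIso ((φ k).map (pullback.diagonal f) ≫ (φ k).map (pullback.fst f f)) := by
        rw [← (φ k).map_comp, pullback.diagonal_fst]; infer_instance
      exact IsIso.of_isIso_comp_right _ ((φ k).map (pullback.fst f f))
    have : Mono f := ⟨fun {T} a b hab => by
      have e : pullback.fst f f = pullback.snd f f := by
        rw [← cancel_epi (pullback.diagonal f), pullback.diagonal_fst, pullback.diagonal_snd]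
      rw [← pullback.lift_fst a b hab, e, pullback.lift_snd]⟩
    exact key f hf

end Groth.Agent.S6124
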