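import Groth.Statements.S6126
import Mathlib.CategoryTheory.Limits.Shapes.BinaryProducts

set_option autoImplicit false
open CategoryTheory CategoryTheory.Limits
universe v₁ u₁
open SGA4

namespace Groth.Agent.S6126

/-- Let `E` be a category with `v₁`-small hom-sets admitting a separating family of objects `G t`
indexed by a `v₁`-small type, in which every object admits a monomorphism into an injective object.
Assume that each coproduct `G t ⨿ G t` exists and that every morphism out of `G t ⨿ G t` factors as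
an effective epimorphism followed by a monomorphism. Then `E` admits a coseparating family of
injective objects indexed by a `v₁`-small type. (The published statement moreover bounds the size of
this family in terms of the hom-sets `Hom (G t', G t ⨿ G t)`; only existence is stated here. The
published statement speaks of generating and cogenerating families; its proof uses and produces
joint faithfulness of maps out of, resp. into, the family, which is the sense taken here.) -/
theorem result
    {E : Type u₁} [Category.{v₁} E] {ι : Type v₁} (G : ι → E)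
    (hG : (ObjectProperty.ofObj G).IsSeparating)
    [EnoughInjectives E] [∀ t, HasBinaryCoproduct (G t) (G t)]
    (hfac : ∀ (t : ι) (X : E) (f : G t ⨿ G t ⟶ X),
      ∃ (Y : E) (e : G t ⨿ G t ⟶ Y) (m : Y ⟶ X), EffectiveEpi e ∧ Mono m ∧ e ≫ m = f) :
    ∃ (κ : Type v₁) (H : κ → E),
      (∀ k, Injective (H k)) ∧ (ObjectProperty.ofObj H).IsCoseparating := by
  classical
  let Rel : ι → Type v₁ := fun t => Set (Σ t' : ι, (G t' ⟶ G t ⨿ G t) × (G t' ⟶ G t ⨿ G t))
  let Real : ∀ t, Rel t → Prop := fun t R => ∃ (Y : E) (e : G t ⨿ G t ⟶ Y),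
    EffectiveEpi e ∧ R = {p | p.2.1 ≫ e = p.2.2 ≫ e}
  have hex : ∀ p : {p : Σ t, Rel t // Real p.1 p.2}, ∃ (Y : E) (e : G p.1.1 ⨿ G p.1.1 ⟶ Y),
    EffectiveEpi e ∧ p.1.2 = {q | q.2.1 ≫ e = q.2.2 ≫ e} := fun p => p.2
  choose Y e he hR using hex
  let pres := fun p => (EnoughInjectives.presentation (Y p)).some
  refine ⟨_, fun p => (pres p).J, fun p => (pres p).injective, fun X Z a b hab => ?_⟩
  refine hG _ _ fun A hA g => ?_
  obtain ⟨t, rfl⟩ := (ObjectProperty.ofObj_iff _ _).1 hA
  obtain ⟨Y', e', m, he', hm, hfac'⟩ := hfac t Z (coprod.desc (g ≫ a) (g ≫ b))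
  let p : {p : Σ t, Rel t // Real p.1 p.2} :=
    ⟨⟨t, {q | q.2.1 ≫ e' = q.2.2 ≫ e'}⟩, Y', e', he', rfl⟩
  have heq : ∀ (t' : ι) (q₁ q₂ : G t' ⟶ G t ⨿ G t), q₁ ≫ e' = q₂ ≫ e' → q₁ ≫ e p = q₂ ≫ e p :=
    fun t' q₁ q₂ h => by
      have : (⟨t', q₁, q₂⟩ : Σ t' : ι, (G t' ⟶ G t ⨿ G t) × (G t' ⟶ G t ⨿ G t)) ∈ p.1.2 := h
      rw [hR p] at this
      exact this
  have hdesc : ∀ {T : E} (g₁ g₂ : T ⟶ G t ⨿ G t), g₁ ≫ e' = g₂ ≫ e' → g₁ ≫ e p = g₂ ≫ e p :=
    fun g₁ g₂ h => hG _ _ fun A hA r => by
      obtain ⟨t', rfl⟩ := (ObjectProperty.ofObj_iff _ _).1 hA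
      rw [← Category.assoc, ← Category.assoc]
      exact heq t' _ _ (by rw [Category.assoc, Category.assoc, h])
  let θ : Y' ⟶ Y p := EffectiveEpi.desc e' (e p) hdesc
  have hθ : e' ≫ θ = e p := EffectiveEpi.fac _ _ _
  have : Injective (pres p).J := (pres p).injective
  let w : Z ⟶ (pres p).J := Injective.factorThru (θ ≫ (pres p).f) m
  have hw := hab _ (ObjectProperty.ofObj_apply (fun p => (pres p).J) p) w
  have h₁ : coprod.inl ≫ e p = coprod.inr ≫ e p := by
    have := (pres p).mono
    rw [← cancel_mono (pres p).f, ← hθ, Category.assoc, Category.assoc, Category.assoc,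
      Category.assoc, ← Injective.comp_factorThru (θ ≫ (pres p).f) m]
    show coprod.inl ≫ e' ≫ m ≫ w = coprod.inr ≫ e' ≫ m ≫ w
    rw [reassoc_of% hfac', coprod.inl_desc_assoc, coprod.inr_desc_assoc, Category.assoc,
      Category.assoc, hw]
  have h₂ : coprod.inl ≫ e' = coprod.inr ≫ e' := by
    have hmem : (⟨t, coprod.inl, coprod.inr⟩ :
        Σ t' : ι, (G t' ⟶ G t ⨿ G t) × (G t' ⟶ G t ⨿ G t)) ∈ p.1.2 := by
      rw [hR p]; exact h₁
    exact hmem
  have := congrArg (· ≫ m) h₂
  simpa only [Category.assoc, hfac', coprod.inl_desc, coprod.inr_desc] using this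

end Groth.Agent.S6126
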