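import Groth.Statements.S6128
import Groth.Agent.Lib.Topos.Canonical

set_option autoImplicit false
open CategoryTheory
universe u
open SGA4

namespace Groth.Agent.S6128

/-- Let `u : C ⥤ C'` be a functor between small sites. If the right Kan extension along `u` of the
underlying presheaf of every sheaf of sets on `C` is a sheaf on `C'`, then `u` is cocontinuous: for
every object `Y` of `C` and every covering sieve `R` of `u Y`, the sieve of morphisms `g : Z ⟶ Y`
with `u g ∈ R` covers `Y`. -/
theorem result
    {C : Type u} [SmallCategory C] {C' : Type u} [SmallCategory C']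
    (J : GrothendieckTopology C) (J' : GrothendieckTopology C') (u : C ⥤ C')
    (h : ∀ G : Sheaf J (Type u), Presheaf.IsSheaf J' ((u.op.ran).obj G.obj)) :
    u.IsCocontinuous J J' := by
  refine ⟨fun {Y R} hR => ?_⟩
  have hW : J.W (((Functor.whiskeringLeft _ _ (Type u)).obj u.op).map R.functorInclusion) := by
    intro G hG
    rw [Adjunction.map_comp_bijective_iff (u.op.ranAdjunction (Type u)) R.functorInclusion]
    have hs := (Presieve.isSheafFor_iff_yonedaSheafCondition).1
      ((((isSheaf_iff_isSheaf_of_type _ _).1 (h ⟨G, hG⟩))) R hR)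
    exact (Function.bijective_iff_existsUnique _).2 hs
  have := ((J.W_iff_isLocallyBijective _).1 hW).2
  refine J.superset_covering ?_ (Presheaf.imageSieve_mem J
    (((Functor.whiskeringLeft _ _ (Type u)).obj u.op).map R.functorInclusion)
    (U := Opposite.op Y) (𝟙 (u.obj Y)))
  rintro Z g ⟨⟨k, hk⟩, hk'⟩
  show R (u.map g)
  have : k = u.map g := hk'.trans (Category.comp_id (u.map g))
  rw [← this]
  exact hk

end Groth.Agent.S6128
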