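import Groth.Statements.S6129
import Groth.Agent.Lib.SGA4Lan.Basic

set_option autoImplicit false
open CategoryTheory CategoryTheory.Limits
universe u
open SGA4

namespace Groth.Agent.S6129

/-- Let `u : C ⥤ C'` be a faithful functor between small categories such that for every object `X` of
`C` the induced functor on over-categories `C/X ⥤ C'/u X` is full and faithful. Then the left Kan
extension functor `u_!` on presheaves of sets is faithful, the unit `H ⟶ u^* u_! H` of the
adjunction `u_! ⊣ u^*` is a monomorphism for every presheaf `H`, and for every morphism of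
presheaves `α : H ⟶ K` the naturality square of the unit at `α` (with sides `α` and `u^* u_! α`) is
cartesian. (The published statement assumes only the condition on the slice functors, and its proof
uses that `u` is faithful; the slice condition alone does not suffice: for a nontrivial group viewed
as a one-object category mapping to the point every slice functor is an equivalence, while `u_!` is
the orbit-set functor on `G`-sets, which is not faithful, and the unit `G ⟶ G/G` is not a
monomorphism. So `u` is taken faithful here.) -/
theorem result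
    {C : Type u} [SmallCategory C] {C' : Type u} [SmallCategory C'] (u : C ⥤ C') [u.Faithful]
    (hu : ∀ X : C, (Over.post (X := X) u).Full ∧ (Over.post (X := X) u).Faithful) :
    (u.op.lan : (Cᵒᵖ ⥤ Type u) ⥤ (C'ᵒᵖ ⥤ Type u)).Faithful ∧
    (∀ H : Cᵒᵖ ⥤ Type u, Mono ((u.op.lanAdjunction (Type u)).unit.app H)) ∧
    ∀ (H K : Cᵒᵖ ⥤ Type u) (α : H ⟶ K),
      IsPullback ((u.op.lanAdjunction (Type u)).unit.app H) α
        (((Functor.whiskeringLeft Cᵒᵖ C'ᵒᵖ (Type u)).obj u.op).map (u.op.lan.map α))
        ((u.op.lanAdjunction (Type u)).unit.app K) := by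
  have hu' := fun X => (hu X).1
  refine ⟨⟨fun {F G φ ψ} h => GrothLib.SGA4Lan.lan_faithful_of_unit_injective u
      (GrothLib.SGA4Lan.unit_injective_of_slice u hu' G) h⟩, fun H => ?_, fun H K α => ?_⟩
  · rw [GrothLib.SGA4Lan.unit_eq]
    haveI : ∀ X : Cᵒᵖ, Mono ((GrothLib.SGA4Lan.η u H).app X) := fun ⟨X⟩ =>
      (mono_iff_injective _).2 (GrothLib.SGA4Lan.unit_injective_of_slice u hu' H X)
    exact NatTrans.mono_of_mono_app _
  · rw [GrothLib.SGA4Lan.unit_eq, GrothLib.SGA4Lan.unit_eq]
    exact GrothLib.SGA4Lan.isPullback_unit u hu' α

end Groth.Agent.S6129
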