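import Groth.Statements.S6131
import Groth.Agent.Lib.Topos.Canonical

set_option autoImplicit false
open CategoryTheory CategoryTheory.Limits
universe u
open SGA4

namespace Groth.Agent.S6131

/-- For a small site `(C, J)` and an object `X` of `C`, the sheaf associated to the presheaf represented
by `X` is an initial object of the category of sheaves of sets if and only if the empty sieve covers
`X`. -/
theorem result
    {C : Type u} [SmallCategory C] (J : GrothendieckTopology C) (X : C) :
    Nonempty (IsInitial ((presheafToSheaf J (Type u)).obj (yoneda.obj X))) ↔ (⊥ : Sieve X) ∈ J X := by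
  constructor
  · rintro ⟨h⟩
    let π : ∀ i : PEmpty.{u + 1}, (PEmpty.elim i : Sheaf J (Type u)) ⟶
        (presheafToSheaf J (Type u)).obj (yoneda.obj X) := fun i => i.elim
    have hπ : SGA4.IsEpiFamily π := fun Z a b _ => h.hom_ext a b
    refine J.superset_covering ?_ ((GrothLib.Topos.isEpiFamily_iff_liftSieve_mem π).1 hπ X
      ((toSheafify J (yoneda.obj X)).app (Opposite.op X) (𝟙 X)))
    rintro V f ⟨i, -⟩
    exact i.elim
  · intro h
    have hZ : ∀ Z : Sheaf J (Type u),
        Unique ((presheafToSheaf J (Type u)).obj (yoneda.obj X) ⟶ Z) := fun Z => by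
      have hs := ((isSheaf_iff_isSheaf_of_type _ _).1 Z.property) _ h
      let x : GrothLib.Topos.sec Z X :=
        hs.amalgamate (fun V f hf => hf.elim) (fun _ _ _ _ _ _ _ h₁ => h₁.elim)
      exact
        { default := (GrothLib.Topos.secEquiv X Z).symm x
          uniq := fun a => (GrothLib.Topos.secEquiv X Z).injective
            (hs.isSeparatedFor.ext fun V f hf => hf.elim) }
    exact ⟨IsInitial.ofUniqueHom (fun Z => (hZ Z).default) (fun Z m => (hZ Z).uniq m)⟩

end Groth.Agent.S6131
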