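import Groth.Statements.S6137
import Groth.Agent.Lib.ProRep20.Basic

set_option autoImplicit false
open CategoryTheory CategoryTheory.Limits
universe v u
open SGA4

namespace Groth.Agent.S6137

/-- Let `C` be a category with `v`-small hom-sets admitting all `v`-small limits, and `F : C ⥤ Type v` a
functor. Then `F` is corepresentable if and only if it is pro-representable (viewed as a presheaf on
`Cᵒᵖ` it is an ind-object, i.e. a small filtered colimit of corepresentable functors) and preserves
all `v`-small limits. -/
theorem result
    {C : Type u} [Category.{v} C] [HasLimitsOfSize.{v, v} C] (F : C ⥤ Type v) :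
    F.IsCorepresentable ↔
      IsIndObject (unopUnop C ⋙ F) ∧ PreservesLimitsOfSize.{v, v} F := by
  exact GrothLib.ProRep20.isCorepresentable_iff F

end Groth.Agent.S6137
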