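import Groth.Statements.S6138
import Mathlib.CategoryTheory.Limits.Preserves.Shapes.Equalizers
import Mathlib.CategoryTheory.Limits.Types.Equalizers
import Mathlib.CategoryTheory.Limits.Shapes.RegularMono


set_option autoImplicit false
open CategoryTheory CategoryTheory.Limits Opposite
universe v u
open SGA4

namespace Groth.Agent.S6138

/-- Let `C` have coequalizers and pullbacks, let `F` be a presheaf of sets on `C` taking coequalizers of
`C` to equalizers, and let `u ∈ F(X)`, viewed as a morphism `h_X ⟶ F`. Then this morphism is a
monomorphism (the map `v ↦ F(v)(u)` is injective on `Hom(Y, X)` for every `Y`) if and only if `u` is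
minimal: whenever `u = F(p)(u')` for an effective epimorphism `p : X ⟶ X'` and some `u' ∈ F(X')`,
`p` is an isomorphism. (Coequalizers are used for one implication and pullbacks for the other; both
are assumed here.) -/
theorem result
    {C : Type u} [Category.{v} C] [HasCoequalizers C] [HasPullbacks C]
    (F : Cᵒᵖ ⥤ Type v) [PreservesLimitsOfShape WalkingParallelPair F]
    {X : C} (u : F.obj (op X)) :
    (∀ (Y : C) (v v' : Y ⟶ X), F.map v.op u = F.map v'.op u → v = v') ↔
      ∀ (X' : C) (p : X ⟶ X') (u' : F.obj (op X')),
        EffectiveEpi p → F.map p.op u' = u → IsIso p := by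
  constructor
  · intro h X' p u' _ hu
    have : Mono p := ⟨fun {T} a b hab => h T a b (by
      rw [← hu, ← Functor.map_comp_apply, ← Functor.map_comp_apply, ← op_comp, ← op_comp, hab])⟩
    exact isIso_of_mono_of_strongEpi p
  · intro h Y v v' hv
    let q := coequalizer.π v v'
    have hl : IsLimit (Fork.ofι (F.map q.op) (by
        rw [← F.map_comp, ← F.map_comp, ← op_comp, ← op_comp, coequalizer.condition]) :
        Fork (F.map v.op) (F.map v'.op)) :=
      isLimitForkMapOfIsLimit F _ (Fork.IsLimit.mk
        (Fork.ofι q.op (by rw [← op_comp, ← op_comp, coequalizer.condition]) : Fork v.op v'.op)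
        (fun t => (coequalizer.desc t.ι.unop (congrArg Quiver.Hom.unop t.condition)).op)
        (fun t => Quiver.Hom.unop_inj (coequalizer.π_desc _ _))
        (fun t m hm => Quiver.Hom.unop_inj (coequalizer.hom_ext
          ((congrArg Quiver.Hom.unop hm).trans
            (coequalizer.π_desc t.ι.unop (congrArg Quiver.Hom.unop t.condition)).symm))))
    obtain ⟨u', hu', -⟩ := (Types.type_equalizer_iff_unique _ _).1 ⟨hl⟩ u hv
    have : IsRegularEpi q := isRegularEpi_of_regularEpi
      { W := Y, left := v, right := v', w := coequalizer.condition v v',
        isColimit := coequalizerIsCoequalizer v v' }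
    have : IsIso q := h _ q u' inferInstance hu'
    rw [← cancel_mono q]
    exact coequalizer.condition v v'

end Groth.Agent.S6138
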