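import Groth.Statements.S6139


set_option autoImplicit false
open CategoryTheory CategoryTheory.Limits
universe v u
open SGA4

namespace Groth.Agent.S6139

/-- For an object `X` of a category `C`, the empty sieve on `X` is covering for the canonical topology
of `C` (the finest topology for which every representable presheaf is a sheaf) if and only if `X` is
a strict initial object: `X` is initial and every morphism with target `X` is an isomorphism. (The
source phrases the first condition as: for some topology coarser than the canonical one the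
associated sheaf of `h_X` is initial; that sheaf is initial exactly when the empty sieve covers `X`,
and coverage by the empty sieve passes to the finer canonical topology.) -/
theorem result
    {C : Type u} [Category.{v} C] (X : C) :
    (⊥ : Sieve X) ∈ Sheaf.canonicalTopology C X ↔
      (Nonempty (IsInitial X) ∧ ∀ (Y : C) (f : Y ⟶ X), IsIso f) := by
  constructor
  · intro h
    have hY : ∀ (Y : C), (Y ⟶ X) → ∀ Z : C, Nonempty (Unique (Y ⟶ Z)) := fun Y f Z => by
      have hs := Sheaf.isSheaf_yoneda_obj Z _ ((Sheaf.canonicalTopology C).pullback_stable f h)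
      let x : Y ⟶ Z := hs.amalgamate (fun V g hg => hg.elim) (fun _ _ _ _ _ _ _ h₁ => h₁.elim)
      exact ⟨{ default := x, uniq := fun a => hs.isSeparatedFor.ext fun V g hg => hg.elim }⟩
    have hi : ∀ (Y : C), (Y ⟶ X) → Nonempty (IsInitial Y) := fun Y f =>
      ⟨IsInitial.ofUniqueHom (fun Z => (hY Y f Z).some.default)
        (fun Z m => (hY Y f Z).some.uniq m)⟩
    obtain ⟨h₀⟩ := hi X (𝟙 X)
    exact ⟨⟨h₀⟩, fun Y f => ⟨⟨h₀.to Y, (hi Y f).some.hom_ext _ _, h₀.hom_ext _ _⟩⟩⟩
  · rintro ⟨⟨hX⟩, hiso⟩
    refine Sheaf.mem_finestTopology_of_forall_isSheafFor ?_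
    rintro P ⟨Z, rfl⟩ Y f
    have := hiso Y f
    have hY : IsInitial Y := hX.ofIso (asIso f).symm
    intro x _
    exact ⟨hY.to Z, fun V g hg => (hg : False).elim, fun y _ => hY.hom_ext _ _⟩

end Groth.Agent.S6139
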