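import Groth.Statements.S6140
import Groth.Agent.Lib.Topos.SiteCanonical

set_option autoImplicit false
open CategoryTheory CategoryTheory.Limits
universe u
open SGA4

namespace Groth.Agent.S6140

/-- Let `C` be a small category with pullbacks, `p₁ p₂ : R ⇉ X` an equivalence relation in `C` admitting
a coequalizer cofork `c`, and `ε` the canonical functor to sheaves of sets for the canonical
topology of `C`. Then the equivalence relation is effective and universal (`R` is the kernel pair of
the quotient map, which is a coequalizer all of whose base changes are effective epimorphisms) if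
and only if `ε` takes `c` to a coequalizer of `ε p₁, ε p₂`. (For a small category every topology has
a small topologically generating family, so both implications of the published statement apply. The
published statement asks only that the quotient map have all base changes; this row assumes that `C`
has all pullbacks.) -/
theorem result
    {C : Type u} [SmallCategory C] [HasPullbacks C] {R X : C} (p₁ p₂ : R ⟶ X)
    (hR : SGA4.IsEquivRel p₁ p₂) (c : Cofork p₁ p₂) (hc : IsColimit c) :
    SGA4.IsEffectiveUniversalEquivRel p₁ p₂ ↔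
      Nonempty (IsColimit ((yoneda ⋙ presheafToSheaf (Sheaf.canonicalTopology C) (Type u)).mapCocone c)) := by
  let K := Sheaf.canonicalTopology C
  let Φ : C ⥤ Sheaf K (Type u) := yoneda ⋙ presheafToSheaf K (Type u)
  have ff : Φ.FullyFaithful := GrothLib.Topos.repFullyFaithful K
  have := ff.full
  have := ff.faithful
  let q := c.π
  obtain ⟨r, hr₁, hr₂⟩ := (hR X).2.refl (𝟙 X)
  constructor
  · rintro ⟨B, π, hpb, hpo, heff⟩
    let l := Cofork.IsColimit.desc hc π hpo.w
    let l' := hpo.desc q q c.condition
    have h1 : q ≫ l = π := Cofork.IsColimit.π_desc' hc _ _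
    have h2 : π ≫ l' = q := hpo.inl_desc _ _ _
    have : IsIso l := by
      refine ⟨l', Cofork.IsColimit.hom_ext hc ?_, hpo.hom_ext ?_ ?_⟩
      · show q ≫ l ≫ l' = q ≫ 𝟙 _
        rw [← Category.assoc, h1, h2, Category.comp_id]
      · rw [← Category.assoc, h2, h1, Category.comp_id]
      · rw [← Category.assoc, h2, h1, Category.comp_id]
    have hcovπ := GrothLib.Topos.singleton_mem_canonicalTopology π heff
    have hfam := GrothLib.Topos.fam_repMap_of_ofArrows_mem hcovπ
    have hepi : Epi (Φ.map q) := ⟨fun a b hab => by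
      have : IsIso (Φ.map l) := inferInstance
      rw [← cancel_epi (inv (Φ.map l))]
      refine hfam _ _ _ fun _ => ?_
      show Φ.map π ≫ _ = Φ.map π ≫ _
      rw [← h1, Φ.map_comp, Category.assoc, Category.assoc, IsIso.hom_inv_id_assoc,
        IsIso.hom_inv_id_assoc, hab]⟩
    have hq : IsPullback p₁ p₂ q q :=
      hpb.of_iso (Iso.refl _) (Iso.refl _) (Iso.refl _) (asIso l).symm (by simp) (by simp)
        (by simp [← h1]) (by simp [← h1])
    have sq := (hq.map yoneda).map (presheafToSheaf K (Type u))
    have := GrothLib.Topos.effectiveEpi_of_epi (Φ.map q)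
    refine ⟨(isColimitMapCoconeCoforkEquiv Φ c.condition).symm ?_ |>
      fun h => h.ofIsoColimit (Cocone.ext (Iso.refl _) (by rintro (_ | _) <;> simp [q, Φ] <;> rfl))⟩
    exact Cofork.IsColimit.mk _ (fun t => EffectiveEpi.desc (Φ.map q) t.π fun g₁ g₂ hg => by
        rw [← sq.lift_fst g₁ g₂ hg]
        conv_rhs => rw [← sq.lift_snd g₁ g₂ hg]
        rw [Category.assoc, Category.assoc]
        exact congrArg _ t.condition)
      (fun t => EffectiveEpi.fac (Φ.map q) _ _)
      (fun t m hm => EffectiveEpi.uniq (Φ.map q) _ _ m hm)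
  · rintro ⟨h⟩
    have h' := isColimitMapCoconeCoforkEquiv Φ c.condition
      (h.ofIsoColimit (Cocone.ext (Iso.refl _) (by rintro (_ | _) <;> simp [Φ] <;> rfl)))
    have hepi : Epi (Φ.map q) := epi_of_isColimit_cofork h'
    have hcov := GrothLib.Topos.ofArrows_mem_of_fam (J := K) (s := fun _ : PUnit.{u + 1} => q)
      (GrothLib.Topos.QC.fam_single.{u} (Φ.map q))
    refine ⟨c.pt, q, ?_, ?_, fun B' g => ?_⟩
    · have hy : SGA4.IsEquivRel (yoneda.map p₁) (yoneda.map p₂) := by
        obtain ⟨σ, hs₁, hs₂⟩ := (hR R).2.symm ⟨𝟙 R, Category.id_comp p₁, Category.id_comp p₂⟩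
        obtain ⟨t, ht₁, ht₂⟩ := (hR (pullback p₂ p₁)).2.trans
          ⟨pullback.fst p₂ p₁, rfl, rfl⟩ ⟨pullback.snd p₂ p₁, (pullback.condition).symm, rfl⟩
        intro T
        refine ⟨fun a b hab => ?_, ⟨fun a => ?_, ?_, ?_⟩⟩
        · simp only [Prod.mk.injEq] at hab
          apply NatTrans.ext
          funext V
          refine ConcreteCategory.hom_ext _ _ fun x => (hR V.unop).1 ?_
          exact Prod.ext (ConcreteCategory.congr_hom (NatTrans.congr_app hab.1 V) x)
            (ConcreteCategory.congr_hom (NatTrans.congr_app hab.2 V) x)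
        · exact ⟨a ≫ yoneda.map r,
            by rw [Category.assoc, ← yoneda.map_comp, hr₁, yoneda.map_id, Category.comp_id],
            by rw [Category.assoc, ← yoneda.map_comp, hr₂, yoneda.map_id, Category.comp_id]⟩
        · rintro a b ⟨f, rfl, rfl⟩
          exact ⟨f ≫ yoneda.map σ, by rw [Category.assoc, ← yoneda.map_comp, hs₁],
            by rw [Category.assoc, ← yoneda.map_comp, hs₂]⟩
        · rintro a b e ⟨f, rfl, rfl⟩ ⟨f', hf', rfl⟩
          have sq := (IsPullback.of_hasPullback p₂ p₁).map yoneda
          refine ⟨sq.lift f f' hf'.symm ≫ yoneda.map t, ?_, ?_⟩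
          · rw [Category.assoc, ← yoneda.map_comp, ht₁, yoneda.map_comp, sq.lift_fst_assoc]
          · rw [Category.assoc, ← yoneda.map_comp, ht₂, yoneda.map_comp, sq.lift_snd_assoc]
      exact IsPullback.of_map Φ c.condition (GrothLib.Topos.Glue.isPullback_of_isColimit _ _
        (GrothLib.Topos.Glue.isEquivRel_map (presheafToSheaf K (Type u)) hy) h')
    · have hd : ∀ t : PushoutCocone p₁ p₂, t.inl = t.inr := fun t => by
        have := congrArg (r ≫ ·) t.condition
        simpa only [← Category.assoc, hr₁, hr₂, Category.id_comp] using this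
      refine ⟨⟨c.condition⟩, ⟨PushoutCocone.IsColimit.mk _
        (fun t => Cofork.IsColimit.desc hc t.inl (t.condition.trans (by rw [hd t])))
        (fun t => Cofork.IsColimit.π_desc' hc _ _)
        (fun t => (Cofork.IsColimit.π_desc' hc _ _).trans (hd t))
        (fun t m hm _ => Cofork.IsColimit.hom_ext hc
          (hm.trans (Cofork.IsColimit.π_desc' hc _ _).symm))⟩⟩
    · refine GrothLib.Topos.effectiveEpi_of_mem_canonicalTopology _ ?_
      refine K.superset_covering ?_ (K.pullback_stable g hcov)
      rintro V k ⟨_, a, _, ⟨⟨⟩⟩, hk⟩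
      exact ⟨_, pullback.lift a k hk, _, Presieve.ofArrows.mk PUnit.unit, pullback.lift_snd _ _ _⟩

end Groth.Agent.S6140
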