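import Groth.Statements.S6142
import Mathlib.CategoryTheory.Adjunction.FullyFaithful
import Mathlib.CategoryTheory.Sites.Subcanonical
import Mathlib.CategoryTheory.Sites.Pullback

set_option autoImplicit false
open CategoryTheory
universe u
open SGA4

namespace Groth.Agent.S6142

/-- Let `u : C ⥤ C'` be a continuous and cocontinuous functor between small sites whose topologies are
subcanonical. If the left adjoint `u_!` of the restriction functor `u^*` on sheaves of sets is full
and faithful, then `u` is full and faithful. -/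
theorem result
    {C : Type u} [SmallCategory C] {C' : Type u} [SmallCategory C']
    (J : GrothendieckTopology C) (K : GrothendieckTopology C') [J.Subcanonical] [K.Subcanonical]
    (u : C ⥤ C') [u.IsContinuous J K] [u.IsCocontinuous J K]
    (h : (u.sheafPullback (Type u) J K).Full ∧ (u.sheafPullback (Type u) J K).Faithful) :
    u.Full ∧ u.Faithful := by
  obtain ⟨_, _⟩ := h
  let ad := u.sheafAdjunctionContinuous (Type u) J K
  haveI : IsIso ad.unit := inferInstance
  let ψ : ∀ Y : C, J.yoneda.obj Y ⟶ (u.sheafPushforwardContinuous (Type u) J K).obj (K.yoneda.obj (u.obj Y)) :=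
    fun Y => (J.yonedaEquiv (F := (u.sheafPushforwardContinuous (Type u) J K).obj (K.yoneda.obj (u.obj Y)))).symm
      (𝟙 (u.obj Y))
  have hφ : ∀ Y : C, IsIso ((ad.homEquiv _ _).symm (ψ Y)) := fun Y => by
    apply isIso_of_coyoneda_map_bijective
    intro G
    have e : (fun g => (ad.homEquiv _ _).symm (ψ Y) ≫ g : (K.yoneda.obj (u.obj Y) ⟶ G) → _) =
        (ad.homEquiv _ _).symm ∘ (J.yonedaEquiv).symm ∘ K.yonedaEquiv := by
      funext g
      change _ = (ad.homEquiv _ _).symm ((J.yonedaEquiv).symm (K.yonedaEquiv g))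
      rw [← Adjunction.homEquiv_naturality_right_symm]
      congr 1
      apply J.yonedaEquiv.injective
      rw [Equiv.apply_symm_apply, GrothendieckTopology.yonedaEquiv_apply, GrothendieckTopology.yonedaEquiv_apply]
      change g.hom.app _ ((ψ Y).hom.app _ (𝟙 Y)) = _
      rw [← GrothendieckTopology.yonedaEquiv_apply, Equiv.apply_symm_apply]
      rfl
    rw [e]
    exact (Equiv.bijective _).comp ((Equiv.bijective _).comp (Equiv.bijective _))
  have hψ : ∀ Y : C, IsIso (ψ Y) := fun Y => by
    haveI := hφ Y
    rw [← (ad.homEquiv _ _).apply_symm_apply (ψ Y), Adjunction.homEquiv_unit]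
    infer_instance
  have hb : ∀ X Y : C, Function.Bijective (fun a : X ⟶ Y => u.map a) := fun X Y => by
    haveI := hψ Y
    have h1 : IsIso (((sheafToPresheaf J (Type u)).map (ψ Y)).app (Opposite.op X)) := inferInstance
    have h2 := (isIso_iff_bijective _).1 h1
    have e2 : ∀ a : X ⟶ Y, (ψ Y).hom.app (Opposite.op X) a = u.map a := fun a =>
      Category.comp_id (u.map a)
    exact ⟨fun a b h => h2.1 ((e2 a).trans (h.trans (e2 b).symm)),
      fun g => let ⟨a, ha⟩ := h2.2 g; ⟨a, (e2 a).symm.trans ha⟩⟩
  exact ⟨⟨fun {X Y} => (hb X Y).2⟩, ⟨fun {X Y} => @(hb X Y).1⟩⟩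

end Groth.Agent.S6142
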