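import Groth.Statements.S6143
import Groth.Agent.Lib.Topos.SiteCanonical

set_option autoImplicit false
open CategoryTheory CategoryTheory.Limits
universe u
open SGA4

namespace Groth.Agent.S6143

/-- Let `C` be a small category, `X` an object and `s i : Y i ⟶ X` a family of morphisms all of whose
base changes exist. Then the associated sheaf of `h_X` for the canonical topology, with the maps
induced by the `s i`, is a coproduct of the associated sheaves of the `h_{Y i}` (in sheaves of sets
for the canonical topology) if and only if `X` is a disjoint universal coproduct of the `Y i` in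
`C`: the cofan `(X, s)` is a colimit, the injections of a coproduct of the family are monomorphisms
with pairwise pullbacks initial, and the colimit is stable under base change. (The source asks for
the coproduct decomposition after sheafification for some topology coarser than the canonical one;
this is equivalent to asking it for the canonical topology itself.) -/
theorem result
    {C : Type u} [SmallCategory C] {X : C} {ι : Type u} (Y : ι → C) (s : ∀ i, Y i ⟶ X)
    [∀ (i : ι) (Z : C) (g : Z ⟶ X), HasPullback (s i) g] :
    Nonempty (IsColimit (Cofan.mk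
        ((presheafToSheaf (Sheaf.canonicalTopology C) (Type u)).obj (yoneda.obj X))
        (fun i => (presheafToSheaf (Sheaf.canonicalTopology C) (Type u)).map (yoneda.map (s i))))) ↔
      (Nonempty (IsColimit (Cofan.mk X s)) ∧ CoproductDisjoint Y ∧
        IsUniversalColimit (Cofan.mk X s)) := by
  let K := Sheaf.canonicalTopology C
  let Φ : C ⥤ Sheaf K (Type u) := yoneda ⋙ presheafToSheaf K (Type u)
  have ff : Φ.FullyFaithful := GrothLib.Topos.repFullyFaithful K
  have := ff.full
  have := ff.faithful
  constructor
  · intro hh
    obtain ⟨h⟩ := hh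
    obtain ⟨hfam, hm, hd⟩ := GrothLib.Topos.disjoint_of_isColimit_cofan _ h
    have hcol : ∀ W : C, Function.Bijective fun (z : X ⟶ W) (i : ι) => s i ≫ z := fun W =>
      (GrothLib.Topos.isColimit_rep_cofan_iff (J := K) Y s).1 ⟨h⟩ (K.yoneda.obj W)
    choose d hdd using fun (c : Cofan Y) => (hcol c.pt).2 fun i => c.inj i
    have hc : IsColimit (Cofan.mk X s) := Cofan.IsColimit.mk _ d
      (fun c i => congrFun (hdd c) i)
      (fun c m hm => (hcol c.pt).1 (funext fun i => (hm i).trans (congrFun (hdd c) i).symm))
    have : ∀ i, Mono (Cofan.inj (Cofan.mk X s) i) := fun i => Φ.mono_of_mono_map (hm i)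
    refine ⟨⟨hc⟩, CoproductDisjoint.of_cofan hc (fun {i j} _ => pullback.cone (s i) (s j))
      (fun _ => pullback.isLimit _ _) (fun {i j} hij => ?_), ?_⟩
    · have sq : IsPullback (Φ.map (pullback.fst (s i) (s j))) (Φ.map (pullback.snd (s i) (s j)))
          (Φ.map (s i)) (Φ.map (s j)) :=
        ((IsPullback.of_hasPullback (s i) (s j)).map yoneda).map (presheafToSheaf K (Type u))
      have hI : IsInitial (Φ.obj (pullback (s i) (s j))) := (hd i j hij).some.ofIso sq.isoPullback.symm
      exact IsInitial.ofUniqueHom (fun W => ff.preimage (hI.to _))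
        (fun W m => ff.map_injective (hI.hom_ext _ _))
    · intro F' c' α f hw hα hpb
      have hu := GrothLib.Topos.Glue.isUniversalColimit_discrete (J := K) (Φ.mapCocone (Cofan.mk X s))
        (by
          refine (IsColimit.precomposeHomEquiv (Discrete.natIso fun _ => Iso.refl _ :
            Discrete.functor (fun i => Φ.obj (Y i)) ≅ Discrete.functor Y ⋙ Φ) _).1
            (h.ofIsoColimit (Cocone.ext (Iso.refl _) ?_))
          rintro ⟨i⟩
          exact (Category.comp_id _).trans (Category.id_comp _).symm)
        (Φ.mapCocone c') (Functor.whiskerRight α Φ) (Φ.map f)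
        (NatTrans.ext (funext fun j => by
          show Φ.map (α.app j) ≫ Φ.map _ = Φ.map (c'.ι.app j) ≫ Φ.map f
          rw [← Φ.map_comp, ← Φ.map_comp]
          exact congrArg Φ.map (NatTrans.congr_app hw j)))
        (.of_discrete _) (fun j => ((hpb j).map yoneda).map (presheafToSheaf K (Type u)))
      exact ⟨isColimitOfReflects Φ hu.some⟩
  · rintro ⟨⟨hc⟩, hd, hu⟩
    have hbc : ∀ (W : C) (f : W ⟶ X),
        Nonempty (IsColimit (Cofan.mk W fun k => pullback.snd (s k) f)) := fun W f =>
      hu (Cofan.mk W fun k => pullback.snd (s k) f)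
        (Discrete.natTrans fun k : Discrete ι => pullback.fst (s k.as) f) f
        (NatTrans.ext (funext fun ⟨k⟩ => pullback.condition)) (.of_discrete _)
        (fun k => (IsPullback.of_hasPullback (s k.as) f).flip)
    have hcov : Sieve.ofArrows Y s ∈ K X := by
      refine GrothLib.Topos.ofArrows_mem_canonicalTopology s fun W f Z x _ => ?_
      obtain ⟨hW⟩ := hbc W f
      exact ⟨Cofan.IsColimit.desc hW x, fun i => Cofan.IsColimit.fac hW x i,
        fun l hl => Cofan.IsColimit.hom_ext hW _ _ fun i =>
          (hl i).trans (Cofan.IsColimit.fac hW x i).symm⟩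
    refine GrothLib.Topos.isColimit_cofan_of_disjoint _ (GrothLib.Topos.fam_repMap_of_ofArrows_mem hcov)
      (fun i => ?_) fun i j hij => ?_
    · have : Mono (s i) := Mono.of_coproductDisjoint hc i
      exact inferInstance
    let hP : IsInitial (pullback (s i) (s j)) :=
      IsInitial.ofCoproductDisjointOfIsColimit hij hc
    have hstrict : ∀ (W : C) (g : W ⟶ pullback (s i) (s j)) (Z : C) (a b : W ⟶ Z), a = b := by
      intro W g Z a b
      obtain ⟨hW⟩ := hbc W (g ≫ pullback.fst (s i) (s j) ≫ s i)
      classical
      let d : W ⟶ Z := Cofan.IsColimit.desc hW fun k =>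
        if k = i then pullback.snd _ _ ≫ a else pullback.snd _ _ ≫ b
      have e₁ : a = d := by
        let l := pullback.lift (f := s i) (g := g ≫ pullback.fst (s i) (s j) ≫ s i)
          (g ≫ pullback.fst _ _) (𝟙 W) (by rw [Category.id_comp, Category.assoc])
        have := congrArg (l ≫ ·) (Cofan.IsColimit.fac hW (fun k =>
          if k = i then pullback.snd (s k) (g ≫ pullback.fst (s i) (s j) ≫ s i) ≫ a
          else pullback.snd (s k) (g ≫ pullback.fst (s i) (s j) ≫ s i) ≫ b) i)
        simp only [Cofan.mk_pt, cofan_mk_inj, if_true, ← Category.assoc, l,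
          pullback.lift_snd, Category.id_comp] at this
        exact this.symm
      have e₂ : b = d := by
        let l := pullback.lift (f := s j) (g := g ≫ pullback.fst (s i) (s j) ≫ s i)
          (g ≫ pullback.snd _ _) (𝟙 W) (by
            rw [Category.id_comp, Category.assoc, ← pullback.condition])
        have := congrArg (l ≫ ·) (Cofan.IsColimit.fac hW (fun k =>
          if k = i then pullback.snd (s k) (g ≫ pullback.fst (s i) (s j) ≫ s i) ≫ a
          else pullback.snd (s k) (g ≫ pullback.fst (s i) (s j) ≫ s i) ≫ b) j)
        simp only [Cofan.mk_pt, cofan_mk_inj, if_neg (Ne.symm hij), ← Category.assoc, l,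
          pullback.lift_snd, Category.id_comp] at this
        exact this.symm
      rw [e₁, e₂]
    have hbot : (⊥ : Sieve (pullback (s i) (s j))) ∈ K (pullback (s i) (s j)) := by
      refine Sheaf.mem_finestTopology_of_forall_isSheafFor ?_
      rintro P ⟨Z, rfl⟩ W g x _
      exact ⟨g ≫ hP.to Z, fun V r hr => (hr : False).elim, fun y _ => hstrict W g Z _ _⟩
    obtain ⟨hI⟩ := (GrothLib.Topos.bot_mem_iff (J := K) _).1 hbot
    exact ⟨hI.ofIso ((((IsPullback.of_hasPullback (s i) (s j)).map yoneda).map
      (presheafToSheaf K (Type u))).isoPullback)⟩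

end Groth.Agent.S6143
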