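import Groth.Statements.S6144
import Mathlib.Logic.Small.Set
import Mathlib.CategoryTheory.Limits.Shapes.Diagonal

set_option autoImplicit false
open CategoryTheory CategoryTheory.Limits
universe w v u
open SGA4

namespace Groth.Agent.S6144

/-- Let `E` be a category with `v`-small hom-sets and pullbacks, admitting a detecting family of objects
indexed by a `v`-small type (maps out of the family jointly reflect isomorphisms). Then every
detecting family `Y : I → E`, indexed by an arbitrary type, contains a detecting subfamily indexed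
by a `v`-small subset of `I`. -/
theorem result
    {E : Type u} [Category.{v} E] [HasPullbacks E] {κ : Type v} (G : κ → E)
    (hG : (ObjectProperty.ofObj G).IsDetecting) {I : Type w} (Y : I → E)
    (hY : (ObjectProperty.ofObj Y).IsDetecting) :
    ∃ J : Set I, Small.{v} J ∧ (ObjectProperty.ofObj (fun j : J => Y j)).IsDetecting := by
  classical
  have : ObjectProperty.Small.{v} (ObjectProperty.ofObj G) := inferInstance
  have := wellPowered_of_isDetecting hG
  have hw : ∀ (k : κ) (S : Subobject (G k)), S ≠ ⊤ →
      ∃ (i : I) (t : Y i ⟶ G k), ¬ S.Factors t := by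
    intro k S hS
    by_contra hne
    simp only [not_exists, not_not] at hne
    refine hS ?_
    suffices h' : IsIso S.arrow from Subobject.eq_top_of_isIso_arrow S
    refine hY S.arrow fun A hA t => ?_
    obtain ⟨i, rfl⟩ := (ObjectProperty.ofObj_iff _ _).1 hA
    exact ⟨S.factorThru t (hne i t), Subobject.factorThru_arrow _ _ _,
      fun y hy => by rw [← cancel_mono S.arrow]; exact hy.trans (Subobject.factorThru_arrow _ _ _).symm⟩
  choose i t ht using hw
  let f : (Σ k : κ, {S : Subobject (G k) // S ≠ ⊤}) → I := fun p => i p.1 p.2.1 p.2.2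
  refine ⟨Set.range f, inferInstance, ?_⟩
  have key : ∀ {A B : E} (m : A ⟶ B) [Mono m],
      (∀ j ∈ Set.range f, ∀ h : Y j ⟶ B, ∃ h', h' ≫ m = h) → IsIso m := by
    intro A B m _ hm
    refine hG m fun C hC g => ?_
    obtain ⟨k, rfl⟩ := (ObjectProperty.ofObj_iff _ _).1 hC
    have htop : Subobject.mk (pullback.snd m g) = ⊤ := by
      by_contra hne
      refine ht k _ hne ?_
      obtain ⟨h', hh'⟩ := hm _ ⟨⟨k, _, hne⟩, rfl⟩ (t k _ hne ≫ g)
      exact Subobject.mk_factors_iff _ _ |>.2 ⟨pullback.lift h' (t k _ hne) hh', pullback.lift_snd _ _ _⟩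
    have : IsIso (pullback.snd m g) := (Subobject.isIso_iff_mk_eq_top _).2 htop
    refine ⟨inv (pullback.snd m g) ≫ pullback.fst m g, ?_, fun y hy => ?_⟩
    · show (inv (pullback.snd m g) ≫ pullback.fst m g) ≫ m = g
      rw [Category.assoc, pullback.condition, IsIso.inv_hom_id_assoc]
    · rw [← cancel_mono m, hy, Category.assoc, pullback.condition, IsIso.inv_hom_id_assoc]
  intro A B u hu
  have hmem : ∀ j ∈ Set.range f, ∀ h : Y j ⟶ B, ∃! h', h' ≫ u = h := fun j hj h =>
    hu (Y j) (ObjectProperty.ofObj_apply (fun j : Set.range f => Y j) ⟨j, hj⟩) h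
  have : IsIso (pullback.diagonal u) := key _ fun j hj h => by
    refine ⟨h ≫ pullback.fst u u, ?_⟩
    have e : h ≫ pullback.fst u u = h ≫ pullback.snd u u :=
      (hmem j hj ((h ≫ pullback.fst u u) ≫ u)).unique rfl
        (by rw [Category.assoc, Category.assoc, pullback.condition])
    apply pullback.hom_ext
    · rw [Category.assoc, pullback.diagonal_fst, Category.comp_id]
    · rw [Category.assoc, pullback.diagonal_snd, Category.comp_id, e]
  have : Mono u := ⟨fun {T} a b hab => by
    have e : pullback.fst u u = pullback.snd u u := by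
      rw [← cancel_epi (pullback.diagonal u), pullback.diagonal_fst, pullback.diagonal_snd]
    rw [← pullback.lift_fst a b hab, e, pullback.lift_snd]⟩
  exact key u fun j hj h => (hmem j hj h).exists

end Groth.Agent.S6144
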