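import Groth.Statements.S6149
import Groth.Agent.Lib.ModFlat.Cycles
import Groth.Agent.Lib.ModFlat.KFlatBounded
-- import your own Groth.Agent.* helpers here

set_option autoImplicit false
universe u
open CategoryTheory
open ModSite

namespace Groth.Agent.S6149
open GrothLib.ModFlat HomologicalComplex in
noncomputable def toCochain {A : Type*} [Category A] [Abelian A] (M : ChainComplex A ℤ) : CochainComplex A ℤ where
  X n := M.X (-n)
  d i j := M.d (-i) (-j)
  shape i j h := M.shape _ _ (by simp only [ComplexShape.down_Rel, ComplexShape.up_Rel] at h ⊢; omega)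
  d_comp_d' i j k _ _ := M.d_comp_d _ _ _

open HomologicalComplex in
theorem exactAt_toCochain {A : Type*} [Category A] [Abelian A] (M : ChainComplex A ℤ) (n : ℤ) :
    (toCochain M).ExactAt n ↔ M.ExactAt (-n) := by
  rw [(toCochain M).exactAt_iff' (n - 1) n (n + 1) (by simp) (by simp),
    M.exactAt_iff' (-(n - 1)) (-n) (-(n + 1)) (by simp; omega) (by simp; omega)]
  exact ShortComplex.exact_iff_of_iso (Iso.refl _)


open CategoryTheory.Limits in
/-- Ringed topos of sheaves on a small site with commutative structure sheaf O: let M be an acyclic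
chain complex of flat O-modules with M_i = 0 for i below some bound. Then for every O-module F the
complex M (x)_O F (tensoring termwise with F) is acyclic. The instance binder on the tensor functor
(it preserves zero morphisms) always holds and is only needed to form the complex. -/
theorem result {C : Type u} [SmallCategory C] {J : GrothendieckTopology C}
    (O : Sheaf J CommRingCat.{u}) (M : ChainComplex (ModSite.Mod O) ℤ) (F : ModSite.Mod O)
    [((ModSite.tensorBi O).flip.obj F).PreservesZeroMorphisms]
    (hb : ∃ i₀ : ℤ, ∀ i, i < i₀ → IsZero (M.X i)) (hM : ∀ i, ModSite.IsFlat (M.X i)) (hac : M.Acyclic) :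
    ((((ModSite.tensorBi O).flip.obj F).mapHomologicalComplex (ComplexShape.down ℤ)).obj M).Acyclic := by
  have hac' : (toCochain M).Acyclic := fun n => (exactAt_toCochain M n).2 (hac (-n))
  obtain ⟨i₀, hi₀⟩ := hb
  have hK := GrothLib.ModFlat.isKFlat_of_bounded_above (toCochain M) (-i₀) (fun n hn => hi₀ (-n) (by omega))
    (fun n => hM (-n))
  intro i
  have h := GrothLib.ModFlat.acyclic_map_T hac' hK F (-i)
  have h2 : ((((ModSite.tensorBi O).flip.obj F).mapHomologicalComplex (ComplexShape.down ℤ)).obj M).ExactAt (-(-i)) :=
    (exactAt_toCochain _ (-i)).1 h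
  rwa [neg_neg] at h2

end Groth.Agent.S6149
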