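import Groth.Statements.S6152
import Groth.Agent.Lib.ModFlat.Basic
-- import your own Groth.Agent.* helpers here

set_option autoImplicit false
universe u
open CategoryTheory
open ModSite

namespace Groth.Agent.S6152

/-- Second assertion (ringed topos of sheaves on a small site (C, J) with commutative structure sheaf
O): if G is a topologically generating family of objects (every object of C admits a covering family
by members of G), then the free O-modules A_X = j_{X!}(O|X), X in G, form a generating family of the
category of O-modules; stated as: this family detects isomorphisms and is separating. -/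
theorem result {C : Type u} [SmallCategory C] {J : GrothendieckTopology C}
    (O : Sheaf J CommRingCat.{u}) (G : Set C)
    (hG : ∀ X : C, ∃ (ι : Type u) (Y : ι → C) (f : ∀ i, Y i ⟶ X), Sieve.ofArrows Y f ∈ J X ∧ ∀ i, Y i ∈ G) :
    (ObjectProperty.ofObj fun X : G => ModSite.freeOn O (X : C)).IsDetecting ∧
    (ObjectProperty.ofObj fun X : G => ModSite.freeOn O (X : C)).IsSeparating := by
  have hiso : ∀ {M N : Mod O} (f : M ⟶ N),
      (∀ Y ∈ G, Function.Bijective (f.val.app (Opposite.op Y))) → IsIso f := by
    intro M N f hf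
    have hinj : ∀ X, Function.Injective (f.val.app (Opposite.op X)) := fun X s t hst => by
      obtain ⟨ι, Y, p, hp, hY⟩ := hG X
      refine M.isSheaf.isSeparated X _ hp s t ?_
      rintro Z q ⟨_, a, _, ⟨i⟩, rfl⟩
      have h : (M.val.map (p i).op s) = M.val.map (p i).op t := (hf _ (hY i)).1 (by
        rw [PresheafOfModules.naturality_apply, PresheafOfModules.naturality_apply, hst])
      change M.val.map (a ≫ p i).op s = M.val.map (a ≫ p i).op t
      rw [op_comp, PresheafOfModules.map_comp_apply, PresheafOfModules.map_comp_apply, h]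
    have hsurj : ∀ X, Function.Surjective (f.val.app (Opposite.op X)) := fun X n => by
      obtain ⟨ι, Yc, p, hp, hY⟩ := hG X
      choose m hm using fun i => (hf _ (hY i)).2 (N.val.map (p i).op n)
      have hc : Presieve.Arrows.Compatible (M.val.presheaf ⋙ CategoryTheory.forget _) (π := p) m := by
        intro a b Z ga gb w
        apply hinj Z
        change f.val.app (Opposite.op Z) (M.val.map ga.op (m a)) = f.val.app (Opposite.op Z) (M.val.map gb.op (m b))
        rw [PresheafOfModules.naturality_apply, PresheafOfModules.naturality_apply, hm, hm,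
          ← PresheafOfModules.map_comp_apply, ← PresheafOfModules.map_comp_apply, ← op_comp, ← op_comp, w]
      have hsh : Presieve.IsSheafFor (M.val.presheaf ⋙ CategoryTheory.forget _) (Presieve.ofArrows Yc p) := by
        rw [Presieve.isSheafFor_iff_generate]
        exact (isSheaf_iff_isSheaf_of_type _ _).1
          (Presheaf.isSheaf_of_iso_iff (Iso.refl _) |>.1
            (Presheaf.isSheaf_comp_of_isSheaf J M.val.presheaf (CategoryTheory.forget _) M.isSheaf)) _ hp
      obtain ⟨t, ht, -⟩ := (Presieve.isSheafFor_arrows_iff _ _).1 hsh m hc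
      refine ⟨t, N.isSheaf.isSeparated _ _ hp _ _ ?_⟩
      rintro Z q ⟨_, a, _, ⟨i⟩, rfl⟩
      have h : f.val.app (Opposite.op (Yc i)) (M.val.map (p i).op t) = N.val.map (p i).op n := by
        rw [show M.val.map (p i).op t = m i from ht i, hm]
      change N.val.map (a ≫ p i).op (f.val.app _ t) = N.val.map (a ≫ p i).op n
      rw [op_comp, PresheafOfModules.map_comp_apply, PresheafOfModules.map_comp_apply,
        ← PresheafOfModules.naturality_apply, h]
    have : IsIso ((SheafOfModules.toSheaf (ringSh O)).map f) := by
      have : IsIso ((sheafToPresheaf J AddCommGrpCat).map ((SheafOfModules.toSheaf (ringSh O)).map f)) := by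
        rw [NatTrans.isIso_iff_isIso_app]
        intro X
        rw [ConcreteCategory.isIso_iff_bijective]
        exact ⟨hinj X.unop, hsurj X.unop⟩
      exact isIso_of_reflects_iso _ (sheafToPresheaf J AddCommGrpCat)
    exact isIso_of_reflects_iso f (SheafOfModules.toSheaf (ringSh O))
  have hsep : ∀ {M N : Mod O} (f g : M ⟶ N),
      (∀ Y ∈ G, ∀ s, f.val.app (Opposite.op Y) s = g.val.app (Opposite.op Y) s) → f = g := by
    intro M N f g hfg
    ext X s
    obtain ⟨ι, Y, p, hp, hY⟩ := hG X.unop
    refine N.isSheaf.isSeparated _ _ hp _ _ ?_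
    rintro Z q ⟨_, a, _, ⟨i⟩, rfl⟩
    change N.val.map (a ≫ p i).op (f.val.app X s) = N.val.map (a ≫ p i).op (g.val.app X s)
    have e : N.val.map (p i).op (f.val.app X s) = N.val.map (p i).op (g.val.app X s) := by
      rw [← PresheafOfModules.naturality_apply, ← PresheafOfModules.naturality_apply, hfg _ (hY i)]
    rw [op_comp, PresheafOfModules.map_comp_apply, PresheafOfModules.map_comp_apply]
    exact congrArg _ e
  refine ⟨fun M N f hf => hiso f fun Y hY => ⟨fun s t hst => ?_, fun n => ?_⟩,
    fun M N f g hfg => hsep f g fun Y hY s => ?_⟩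
  · let e := GrothLib.ModFlat.freeOnEquiv O Y M
    obtain ⟨k, -, hk⟩ := hf (freeOn O Y) (ObjectProperty.ofObj_apply (fun X : G => freeOn O (X : C)) ⟨Y, hY⟩) (e.symm s ≫ f)
    have h1 := hk (e.symm s) rfl
    have h2 := hk (e.symm t) <| (GrothLib.ModFlat.freeOnEquiv O Y N).injective <| by
      rw [GrothLib.ModFlat.freeOnEquiv_comp, GrothLib.ModFlat.freeOnEquiv_comp, Equiv.apply_symm_apply,
        Equiv.apply_symm_apply, hst]
    exact e.symm.injective (h1.trans h2.symm)
  · let e := GrothLib.ModFlat.freeOnEquiv O Y N
    obtain ⟨k, hk, -⟩ := hf (freeOn O Y) (ObjectProperty.ofObj_apply (fun X : G => freeOn O (X : C)) ⟨Y, hY⟩) (e.symm n)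
    refine ⟨GrothLib.ModFlat.freeOnEquiv O Y M k, ?_⟩
    rw [← GrothLib.ModFlat.freeOnEquiv_comp, hk, Equiv.apply_symm_apply]
  · let e := GrothLib.ModFlat.freeOnEquiv O Y M
    have h := hfg (freeOn O Y) (ObjectProperty.ofObj_apply (fun X : G => freeOn O (X : C)) ⟨Y, hY⟩) (e.symm s)
    have := congrArg (GrothLib.ModFlat.freeOnEquiv O Y N) h
    rwa [GrothLib.ModFlat.freeOnEquiv_comp, GrothLib.ModFlat.freeOnEquiv_comp, Equiv.apply_symm_apply] at this

end Groth.Agent.S6152
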