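import Groth.Statements.S6153
import Groth.Agent.Lib.ModFlat.Basic
-- import your own Groth.Agent.* helpers here

set_option autoImplicit false
universe u
open CategoryTheory
open ModSite

namespace Groth.Agent.S6153

/-- Morphisms of ringed sites between small sites with commutative structure sheaves: for a morphism of
ringed sites f : (C, O_C) -> (D, O_D) given by a functor u : D -> C and every object X of D, the
inverse image f^*(A'_X) of the free O_D-module on X is isomorphic to the free O_C-module A_{u(X)} on
u(X). Existence of an isomorphism of modules only (the source's isomorphism is the canonical one). -/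
theorem result {C D : Type u} [SmallCategory C] [SmallCategory D] {J : GrothendieckTopology C}
    {K : GrothendieckTopology D} {O_C : Sheaf J CommRingCat.{u}} {O_D : Sheaf K CommRingCat.{u}}
    (f : ModSite.RMor O_C O_D) (X : D) :
    Nonempty (f.pull.obj (ModSite.freeOn O_D X) ≅ ModSite.freeOn O_C (f.fn.obj X)) := by
  refine ⟨((Coyoneda.fullyFaithful (C := ModSite.Mod O_C)).preimageIso ?_).unop.symm⟩
  exact NatIso.ofComponents (fun G => (((f.adj.homEquiv (ModSite.freeOn O_D X) G).trans
      (GrothLib.ModFlat.freeOnEquiv O_D X (f.push.obj G))).trans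
      (GrothLib.ModFlat.freeOnEquiv O_C (f.fn.obj X) G).symm).toIso) (fun {G G'} b => by
    ext a
    apply (GrothLib.ModFlat.freeOnEquiv O_C (f.fn.obj X) G').injective
    change GrothLib.ModFlat.freeOnEquiv O_C (f.fn.obj X) G'
        ((GrothLib.ModFlat.freeOnEquiv O_C (f.fn.obj X) G').symm
          (GrothLib.ModFlat.freeOnEquiv O_D X (f.push.obj G') (f.adj.homEquiv _ _ (a ≫ b)))) =
      GrothLib.ModFlat.freeOnEquiv O_C (f.fn.obj X) G'
        ((GrothLib.ModFlat.freeOnEquiv O_C (f.fn.obj X) G).symm
          (GrothLib.ModFlat.freeOnEquiv O_D X (f.push.obj G) (f.adj.homEquiv _ _ a)) ≫ b)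
    rw [GrothLib.ModFlat.freeOnEquiv_comp, Equiv.apply_symm_apply, Equiv.apply_symm_apply,
      Adjunction.homEquiv_naturality_right, GrothLib.ModFlat.freeOnEquiv_comp]
    rfl)

end Groth.Agent.S6153
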