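import Groth.Statements.S6156
import Groth.Agent.Lib.ModExtZero.KFlat
-- import your own Groth.Agent.* helpers here

set_option autoImplicit false
universe u
open CategoryTheory
open ModSite

namespace Groth.Agent.S6156

/-- Ringed topos of sheaves on a small site with commutative structure sheaf O, localised at an object
X: j_X^* Hom_O(M, N) is isomorphic to Hom_{O|X}(j_X^* M, j_X^* N). Existence of an isomorphism only
(the source's Phi_X is canonical); the binders providing the internal hom functors always hold. -/
theorem result {C : Type u} [SmallCategory C] {J : GrothendieckTopology C} (O : Sheaf J CommRingCat.{u})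
    (X : C) (M N : ModSite.Mod O) [ModSite.HasSheafHom M] [ModSite.HasSheafHom ((ModSite.restr O X).obj M)] :
    Nonempty ((ModSite.restr O X).obj ((ModSite.sheafHom M).obj N) ≅
      (ModSite.sheafHom ((ModSite.restr O X).obj M)).obj ((ModSite.restr O X).obj N)) := by
  let e : (ModSite.extZero O X ⋙ (ModSite.tensorBi O).flip.obj M) ≅
      (ModSite.tensorBi (O.over X)).flip.obj ((ModSite.restr O X).obj M) ⋙ ModSite.extZero O X :=
    NatIso.ofComponents (fun P => (GrothLib.ModExtZero.projIso O X P M).symm) (fun {P P'} a => by
      dsimp only [Functor.comp_map, Iso.symm_hom]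
      rw [Iso.comp_inv_eq, Category.assoc, Iso.eq_inv_comp]
      exact (GrothLib.ModExtZero.projIso_natural_left a M).symm)
  let adj₁ := (ModSite.extZeroAdj O X).comp (ModSite.sheafHomAdj M)
  let adj₂ := (ModSite.sheafHomAdj ((ModSite.restr O X).obj M)).comp (ModSite.extZeroAdj O X)
  exact ⟨((adj₁.ofNatIsoLeft e).rightAdjointUniq adj₂).app N⟩

end Groth.Agent.S6156
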