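import Groth.Statements.S6170
import Groth.Agent.Lib.ModExtZero.KFlat
-- import your own Groth.Agent.* helpers here

set_option autoImplicit false
universe u
open CategoryTheory
open ModSite

namespace Groth.Agent.S6170

/-- Ringed topos of sheaves on a small site with commutative structure sheaf O: the sections of the
internal hom Hom_O(M, N) over an object X form a group isomorphic to Hom_{O|X}(j_X^* M, j_X^* N).
Existence of an additive isomorphism only (the source's is canonical); the internal-hom binder
always holds. -/
theorem result {C : Type u} [SmallCategory C] {J : GrothendieckTopology C} (O : Sheaf J CommRingCat.{u})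
    (M N : ModSite.Mod O) [ModSite.HasSheafHom M] (X : C) :
    Nonempty (ModSite.sect ((ModSite.sheafHom M).obj N) X ≃+ ((ModSite.restr O X).obj M ⟶ (ModSite.restr O X).obj N)) := by
  have := GrothLib.ModFlat.additive_T (O := O) M
  have := GrothLib.ModExtZero.additive_extZero O X
  let U := SheafOfModules.unit (ModSite.ringSh (O.over X))
  let e₀ : (ModSite.freeOn O X ⟶ (ModSite.sheafHom M).obj N) ≃+ ModSite.sect ((ModSite.sheafHom M).obj N) X :=
    AddEquiv.mk' (GrothLib.ModFlat.freeOnEquiv O X _) fun a b => by
      have h := fun (c : ModSite.freeOn O X ⟶ (ModSite.sheafHom M).obj N) =>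
        GrothLib.ModFlat.freeOnEquiv_comp X (𝟙 _) c
      simp only [Category.id_comp] at h
      rw [h (a + b), h a, h b]
      rfl
  let e₁ := (ModSite.sheafHomAdj M).homAddEquiv (ModSite.freeOn O X) N
  let i : (ModSite.extZero O X).obj ((ModSite.restr O X).obj M) ≅ ((ModSite.tensorBi O).flip.obj M).obj (ModSite.freeOn O X) :=
    (ModSite.extZero O X).mapIso (GrothLib.ModExtZero.tensorUnitIso _).symm ≪≫ GrothLib.ModExtZero.projIso O X U M
  let e₂ : (((ModSite.tensorBi O).flip.obj M).obj (ModSite.freeOn O X) ⟶ N) ≃+
      ((ModSite.extZero O X).obj ((ModSite.restr O X).obj M) ⟶ N) :=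
    AddEquiv.mk' (Iso.homCongr i.symm (Iso.refl N)) fun a b => by simp [Iso.homCongr, Preadditive.comp_add]
  let e₃ := (ModSite.extZeroAdj O X).homAddEquiv ((ModSite.restr O X).obj M) N
  exact ⟨e₀.symm.trans (e₁.symm.trans (e₂.trans e₃))⟩

end Groth.Agent.S6170
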