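import Groth.Statements.S6172
import Groth.Agent.Lib.Topos.OpenClosed

set_option autoImplicit false
universe u
open CategoryTheory
open SGA4

namespace Groth.Agent.S6172

open CategoryTheory.Limits MonoidalCategory in
/-- Topos E of sheaves of sets on a small site, localised at an object Z: with j_Z : E/Z -> E the
localisation morphism, j_Z^* X = Z x X over Z, and j_{Z*} its right adjoint (taken as an instance
hypothesis, which holds in any topos), j_{Z*} j_Z^* Y is isomorphic to the internal hom Hom(Z, Y)
for every object Y. Existence of an isomorphism only (the source's is canonical). -/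
theorem result {C : Type u} [SmallCategory C] (J : GrothendieckTopology C)
    (Z Y : Sheaf J (Type u)) [(Over.star Z).IsLeftAdjoint] :
    Nonempty (((Over.star Z).rightAdjoint).obj ((Over.star Z).obj Y) ≅ (ihom Z).obj Y) := by
  let e : Over.star Z ⋙ Over.forget Z ≅ tensorLeft Z :=
    NatIso.ofComponents
      (fun X => (prodIsProd Z X).conePointUniqueUpToIso
        (CartesianMonoidalCategory.tensorProductIsBinaryProduct Z X))
      (fun {X X'} f => by
        apply CartesianMonoidalCategory.hom_ext
        · have h1 : ∀ W, ((prodIsProd Z W).conePointUniqueUpToIso
              (CartesianMonoidalCategory.tensorProductIsBinaryProduct Z W)).hom ≫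
              CartesianMonoidalCategory.fst Z W = prod.fst := fun W =>
            (prodIsProd Z W).conePointUniqueUpToIso_hom_comp
              (CartesianMonoidalCategory.tensorProductIsBinaryProduct Z W) ⟨WalkingPair.left⟩
          rw [Category.assoc, Category.assoc]
          erw [h1 X', CartesianMonoidalCategory.whiskerLeft_fst, h1 X]
          exact (prod.map_fst _ _).trans (Category.comp_id _)
        · have h2 : ∀ W, ((prodIsProd Z W).conePointUniqueUpToIso
              (CartesianMonoidalCategory.tensorProductIsBinaryProduct Z W)).hom ≫
              CartesianMonoidalCategory.snd Z W = prod.snd := fun W =>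
            (prodIsProd Z W).conePointUniqueUpToIso_hom_comp
              (CartesianMonoidalCategory.tensorProductIsBinaryProduct Z W) ⟨WalkingPair.right⟩
          rw [Category.assoc, Category.assoc]
          erw [h2 X', CartesianMonoidalCategory.whiskerLeft_snd, ← Category.assoc, h2 X]
          exact prod.map_snd _ _)
  let a₂ := (Adjunction.ofIsLeftAdjoint (Over.star Z))
  let a₃ : Over.star Z ⋙ Over.forget Z ⊣ Over.star Z ⋙ (Over.star Z).rightAdjoint :=
    a₂.comp (Over.forgetAdjStar Z)
  exact ⟨(((a₃.ofNatIsoLeft e).rightAdjointUniq (ihom.adjunction Z))).app Y⟩

end Groth.Agent.S6172
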