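import Groth.Statements.S6173
import Mathlib.CategoryTheory.Sites.Point.Over
import Mathlib.CategoryTheory.Sites.Point.Map

set_option autoImplicit false
universe u
open CategoryTheory
open SGA4

namespace Groth.Agent.S6173

/-- Second assertion (topos of sheaves on a small site (C, J); E/X_i the induced topoi, modelled by the
sites (C/X_i, J/X_i); 'enough points' = a small conservative family of points, equivalently all
fibre functors together are conservative): if (X_i) is a family of objects covering the final object
and every E/X_i has enough points, then E has enough points. (The first assertion, that E/X inherits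
enough points from E, is Mathlib's instance.) -/
theorem result {C : Type u} [SmallCategory C] (J : GrothendieckTopology C) {ι : Type u}
    (X : ι → C) (hX : J.CoversTop X) (h : ∀ i, GrothendieckTopology.HasEnoughPoints.{u} (J.over (X i))) :
    GrothendieckTopology.HasEnoughPoints.{u} J := by
  choose P hPs hP using fun i => (h i).exists_objectProperty
  let G : (Σ i, (P i).FullSubcategory) → GrothendieckTopology.Point.{u} J :=
    fun j => j.2.obj.map (Over.forget (X j.1)) J
  haveI : ∀ i, ObjectProperty.Small.{u} (P i) := hPs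
  refine ⟨⟨ObjectProperty.ofObj G, inferInstance, ObjectProperty.IsConservativeFamilyOfPoints.mk' ?_⟩⟩
  intro Y S hS
  refine J.transitive (hX Y) S ?_
  rintro Z g ⟨i, ⟨k⟩⟩
  obtain ⟨ι', W, s, hR⟩ := ((Sieve.overEquiv (Over.mk k)).symm (S.pullback g)).exists_eq_ofArrows
  have hmem : (Sieve.overEquiv (Over.mk k)).symm (S.pullback g) ∈ J.over (X i) (Over.mk k) := by
    rw [hR, (hP i).jointly_reflect_ofArrows_mem_of_small]
    intro Φ x
    open GrothendieckTopology.Point.ofIsCofiltered in
    obtain ⟨W', f, hf, w, hw⟩ := hS ⟨G ⟨i, Φ⟩, ObjectProperty.ofObj.mk _⟩ (fiberMk (p := CategoryOfElements.π Φ.obj.fiber ⋙ Over.forget (X i))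
      (U := Φ.obj.fiber.elementsMk (Over.mk k) x) g)
    obtain ⟨u', a, rfl⟩ := GrothendieckTopology.Point.ofIsCofiltered.fiberMk_jointly_surjective w
    replace hw := (GrothendieckTopology.Point.ofIsCofiltered.fiber_map_fiberMk
      (CategoryOfElements.π Φ.obj.fiber ⋙ Over.forget (X i)) a f).symm.trans hw
    let q₁ := IsCofiltered.minToLeft u' (Φ.obj.fiber.elementsMk (Over.mk k) x)
    let q₂ := IsCofiltered.minToRight u' (Φ.obj.fiber.elementsMk (Over.mk k) x)
    rw [← GrothendieckTopology.Point.ofIsCofiltered.fiberMk_map_comp _ q₁,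
      ← GrothendieckTopology.Point.ofIsCofiltered.fiberMk_map_comp _ q₂] at hw
    obtain ⟨V, r, hr⟩ := GrothendieckTopology.Point.ofIsCofiltered.exists_of_fiberMk_eq_fiberMk hw
    have hq : ((Sieve.overEquiv (Over.mk k)).symm (S.pullback g)) (r ≫ q₂).1 := by
      rw [Sieve.overEquiv_symm_iff, Sieve.pullback_apply]
      have e : (r ≫ q₂).1.left ≫ g = ((r ≫ q₁).1.left ≫ a) ≫ f := by
        simp at hr ⊢; exact hr.symm
      rw [e]
      exact S.downward_closed hf _
    rw [hR] at hq
    obtain ⟨_, t, _, ⟨j⟩, hj⟩ := hq
    refine ⟨j, Φ.obj.fiber.map t V.2, ?_⟩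
    rw [← ConcreteCategory.comp_apply, ← Functor.map_comp, hj]
    exact (r ≫ q₂).2
  rw [GrothendieckTopology.mem_over_iff, OrderIso.apply_symm_apply] at hmem
  exact hmem

end Groth.Agent.S6173
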