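import Groth.Statements.S6176
import Groth.Agent.Lib.Topos.OpenClosed

set_option autoImplicit false
universe u
open CategoryTheory
open SGA4

namespace Groth.Agent.S6176

open CategoryTheory.Limits in
/-- The clause on products (topos of sheaves of sets on a small site; j : E/U -> E the open embedding
defined by an open U, i.e. a subobject of the final object, so that j_! is the forgetful functor
from objects over U): j_! commutes with products indexed by a nonempty u-small set. (Commutation
with fibre products and cofiltered limits, the other clauses, holds for the forgetful functor of any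
slice.) -/
theorem result {C : Type u} [SmallCategory C] (J : GrothendieckTopology C)
    (U : Sheaf J (Type u)) (hU : SGA4.IsOpen U) (I : Type u) [Nonempty I] :
    PreservesLimitsOfShape (Discrete I) (Over.forget U) := by
  have : Mono (terminal.from U) := hU
  have huniq : ∀ {A : Sheaf J (Type u)} (a b : A ⟶ U), a = b := fun a b => by
    rw [← cancel_mono (terminal.from U)]
    exact Subsingleton.elim _ _
  refine ⟨fun {K} => ⟨fun {c} hc => ⟨?_⟩⟩⟩
  have i₀ : I := Classical.arbitrary I
  exact
    { lift := fun s =>
        (hc.lift ⟨Over.mk (s.π.app ⟨i₀⟩ ≫ (K.obj ⟨i₀⟩).hom),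
          Discrete.natTrans fun i => Over.homMk (s.π.app i) (huniq _ _)⟩).left
      fac := fun s i => congrArg CommaMorphism.left
        (hc.fac ⟨Over.mk (s.π.app ⟨i₀⟩ ≫ (K.obj ⟨i₀⟩).hom),
          Discrete.natTrans fun i => Over.homMk (s.π.app i) (huniq _ _)⟩ i)
      uniq := fun s m hm => by
        refine (congrArg CommaMorphism.left (hc.uniq ⟨Over.mk (s.π.app ⟨i₀⟩ ≫ (K.obj ⟨i₀⟩).hom),
          Discrete.natTrans fun i => Over.homMk (s.π.app i) (huniq _ _)⟩
          (Over.homMk m (huniq _ _)) fun i => ?_))
        refine CommaMorphism.ext (hm i) (Subsingleton.elim _ _)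
        }

end Groth.Agent.S6176
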