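import Groth.Statements.S6180
import Groth.Agent.S6179
import Groth.Agent.Lib.EtSite.SetPoints
-- import your own Groth.Agent.* helpers here

set_option autoImplicit false
open CategoryTheory CategoryTheory.Limits AlgebraicGeometry Opposite
universe u
open EtDesc

namespace Groth.Agent.S6180

/-- Let X be a scheme, x a point of X, R a strict henselisation of O_{X,x} with strict localisation X̄ =
Spec R -> X and attached geometric point ξ : Spec κ(R) -> X. The fibre functor F ↦ F_ξ on etale
sheaves of sets on X is isomorphic to the functor F ↦ Γ(X̄, F̄), F̄ the inverse image of F on X̄.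
(The published statement gives a canonical isomorphism — global sections of F̄ identified with its
stalk at the closed point of X̄, then with F_ξ; this row asserts only that an isomorphism of
functors exists.) -/
theorem result (X : Scheme.{u}) (x : X)
    (R : Type u) [CommRing R] [IsLocalRing R] [Algebra (X.presheaf.stalk x) R]
    [IsLocalHom (algebraMap (X.presheaf.stalk x) R)] [Hensel.IsStrictHenselization (X.presheaf.stalk x) R]
    [IsSepClosed (IsLocalRing.ResidueField R)] :
    Nonempty ((Scheme.pointSmallEtale (Hens2.geomPt X x R)).sheafFiber (A := Type (u + 1)) ≅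
      EtDesc.pullSh (Hens2.specOf X x R) ⋙
        (sheafSections (Spec (CommRingCat.of R)).smallEtaleTopology (Type (u + 1))).obj
          (op (EtCoh.top (Spec (CommRingCat.of R))))) := by
  haveI : HenselianLocalRing R := Hensel.IsStrictHenselization.henselian (R := X.presheaf.stalk x)
  let ξ₀ := Spec.map (CommRingCat.ofHom (IsLocalRing.residue R))
  let Φ := Scheme.pointSmallEtale ξ₀
  let t : Φ.fiber.obj (EtCoh.top (Spec (CommRingCat.of R))) :=
    Over.homMk (Spec.map (CommRingCat.ofHom (IsLocalRing.residue R))) (Category.comp_id _)
  let α : (sheafSections (Spec (CommRingCat.of R)).smallEtaleTopology (Type (u + 1))).obj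
      (op (EtCoh.top (Spec (CommRingCat.of R)))) ≅ GrothLib.EtSite.stalkSh ξ₀ :=
    NatIso.ofComponents (fun F => @asIso _ _ _ _ (Φ.toPresheafFiber (EtCoh.top (Spec (CommRingCat.of R))) t F.obj)
        ((isIso_iff_bijective _).2 (Groth.Agent.S6179.result R F)))
      (fun g => (Φ.toPresheafFiber_naturality g.hom _ t).symm)
  exact ⟨(GrothLib.EtSite.pullStalkShIso ξ₀ (Hens2.specOf X x R)).symm ≪≫
    (Functor.isoWhiskerLeft _ α).symm⟩

end Groth.Agent.S6180
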