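import Groth.Statements.S6181
import Groth.Agent.Lib.EtSite.PushStalk
import Mathlib.CategoryTheory.Limits.FunctorCategory.Shapes.Products
-- import your own Groth.Agent.* helpers here

set_option autoImplicit false
open CategoryTheory CategoryTheory.Limits AlgebraicGeometry Opposite
universe u
open EtDesc

namespace Groth.Agent.S6181

/-- Let f : X -> Y be a finite morphism of schemes, Ω an algebraically closed field and η : Spec Ω -> Y
a geometric point. The functor F ↦ (f_* F)_η on etale sheaves of sets on X is isomorphic to the
product, over the geometric points ξ : Spec Ω -> X lying over η, of the fibre functors F ↦ F_ξ. (The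
published statement gives a canonical isomorphism and indexes the product by the points of the
geometric fibre over a separable closure of the residue field; this row asserts only that an
isomorphism of functors exists and indexes the product by the Ω-valued points of X over η, which for
Ω algebraically closed correspond to those points.) -/
theorem result {X Y : Scheme.{u}} (f : X ⟶ Y) [IsFinite f]
    {Ω : Type u} [Field Ω] [IsAlgClosed Ω] (η : Spec (CommRingCat.of Ω) ⟶ Y) :
    Nonempty (EtDesc.pushSh f ⋙ (Scheme.pointSmallEtale η).sheafFiber (A := Type (u + 1)) ≅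
      ∏ᶜ fun ξ : {ξ : Spec (CommRingCat.of Ω) ⟶ X // ξ ≫ f = η} =>
        ((Scheme.pointSmallEtale ξ.1).sheafFiber (A := Type (u + 1)) : EtDesc.Sh X ⥤ Type (u + 1))) := by
  have := GrothLib.EtSite.finite_points_over f η
  let b : EtDesc.pushSh f ⋙ (Scheme.pointSmallEtale η).sheafFiber (A := Type (u + 1)) ⟶
      ∏ᶜ fun ξ : {ξ : Spec (CommRingCat.of Ω) ⟶ X // ξ ≫ f = η} =>
        ((Scheme.pointSmallEtale ξ.1).sheafFiber (A := Type (u + 1)) : EtDesc.Sh X ⥤ Type (u + 1)) :=
    Pi.lift fun ξ => { app := fun G => GrothLib.EtSite.evSh f ξ.1 ξ.2 G
                       naturality := fun G G' a => by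
                         ext x
                         exact GrothLib.EtSite.evSh_naturality f ξ.1 ξ.2 a x }
  have : ∀ G, IsIso (b.app G) := fun G => by
    have hc : IsIso (b.app G ≫ (piObjIso _ G).hom) := by
      refine (ConcreteCategory.isIso_iff_bijective _).2 ?_
      refine (Function.Bijective.of_comp_iff' (Concrete.productEquiv fun ξ : {ξ : Spec (CommRingCat.of Ω) ⟶ X // ξ ≫ f = η} => ((Scheme.pointSmallEtale ξ.1).sheafFiber (A := Type (u + 1))).obj G).bijective _).1 ?_
      refine (congrArg Function.Bijective ?_).mpr (GrothLib.EtSite.evSh_bijective f G (η := η))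
      funext p ξ
      simp only [Function.comp_apply, Concrete.productEquiv_apply_apply,
        ← ConcreteCategory.comp_apply, Category.assoc, piObjIso_hom_comp_π, ← NatTrans.comp_app]
      simp [b]
    exact IsIso.of_isIso_comp_right _ (piObjIso _ G).hom
  have := NatIso.isIso_of_isIso_app b
  exact ⟨asIso b⟩

end Groth.Agent.S6181
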