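import Groth.Statements.S6182
import Groth.Agent.Lib.Topos.QCSite

set_option autoImplicit false
open CategoryTheory CategoryTheory.Limits Opposite
universe u
open ToposFin

namespace Groth.Agent.S6182

/-- Let (C, J) and (D, K) be small sites with fibre products in which every object is quasi-compact, and
G : C -> D a continuous functor whose inverse-image functor on sheaves of sets f^* (the sheaf
pullback along G, from sheaves on C to sheaves on D) preserves finite limits, so that G is a
morphism of sites and f a morphism of topoi. Then f is coherent: f^* sends quasi-compact objects to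
quasi-compact objects and quasi-separated objects to quasi-separated objects. -/
theorem result {C D : Type u} [SmallCategory C] [SmallCategory D]
    [HasPullbacks C] [HasPullbacks D] (J : GrothendieckTopology C) (K : GrothendieckTopology D)
    (hC : ∀ X : C, ToposFin.IsQCSite J X) (hD : ∀ Y : D, ToposFin.IsQCSite K Y)
    (G : C ⥤ D) [Functor.IsContinuous G J K] [PreservesFiniteLimits (G.sheafPullback (Type u) J K)] :
    (∀ X : ToposFin.Sh J, ToposFin.IsQC X → ToposFin.IsQC ((G.sheafPullback (Type u) J K).obj X)) ∧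
      (∀ X : ToposFin.Sh J, ToposFin.IsQS X → ToposFin.IsQS ((G.sheafPullback (Type u) J K).obj X)) := by
  let F := G.sheafPullback (Type u) J K
  let adj := G.sheafAdjunctionContinuous (Type u) J K
  have hcoh : ∀ V : C, ToposFin.IsCoherent (F.obj (ToposFin.eps J V)) := fun V =>
    GrothLib.Topos.QC.isCoherent_of_iso (GrothLib.Topos.QC.sheafPullback_eps K G V).some.symm (GrothLib.Topos.QC.isCoherent_eps hD (G.obj V))
  have hFfam : ∀ {X : ToposFin.Sh J} {ι : Type u} {V : ι → ToposFin.Sh J} {v : ∀ i, V i ⟶ X},
      GrothLib.Topos.QC.Fam v → GrothLib.Topos.QC.Fam (fun i => F.map (v i)) := fun hv Z a b hab => by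
    apply (adj.homEquiv _ _).injective
    refine hv _ _ _ fun i => ?_
    rw [← Adjunction.homEquiv_naturality_left, ← Adjunction.homEquiv_naturality_left, hab i]
  have hFqc : ∀ X : ToposFin.Sh J, ToposFin.IsQC X → ToposFin.IsQC (F.obj X) := fun X hX => by
    obtain ⟨n, V, v, hv, hV⟩ := GrothLib.Topos.QC.exists_finite_cover
      (P := fun L => ∃ V : C, L = ToposFin.eps J V) GrothLib.Topos.QC.gen_eps hX
    refine GrothLib.Topos.QC.isQC_of_finite_cover (hFfam (GrothLib.Topos.QC.fam_ulift.{0, u} hv)) fun k => ?_
    obtain ⟨W, hW⟩ := hV k.down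
    rw [hW]; exact (hcoh W).1
  refine ⟨hFqc, fun X hX => ?_⟩
  obtain ⟨ι, V, v, hV, hv⟩ := GrothLib.Topos.QC.gen_eps X
  have hV' : ∀ i, ToposFin.IsCoherent (F.obj (V i)) := fun i => by
    obtain ⟨W, hW⟩ := hV i; rw [hW]; exact hcoh W
  have hV'' : ∀ i, ToposFin.IsQC (V i) := fun i => by
    obtain ⟨W, hW⟩ := hV i; rw [hW]; exact (GrothLib.Topos.QC.isCoherent_eps hC W).1
  refine (GrothLib.Topos.QC.isQS_iff_of_coherent_cover (GrothLib.Topos.QC.hasQCGenerators_of_qc_site hD) (hFfam hv) hV').2.2
    fun i j => ?_
  exact GrothLib.Topos.QC.isQC_of_iso ((IsPullback.of_hasPullback (v i) (v j)).map F).isoPullback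
    (hFqc _ (hX _ _ _ _ (hV'' i) (hV'' j)))

end Groth.Agent.S6182
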