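import Groth.Statements.S6184
import Groth.Agent.Lib.BigEt.AbSections
-- import your own Groth.Agent.* helpers here

set_option autoImplicit false
open CategoryTheory CategoryTheory.Limits AlgebraicGeometry Opposite
universe u
open BigSite

namespace Groth.Agent.S6184

/-- Let X be a scheme, u the inclusion of the small etale site of X into the big etale site (X-schemes
with the etale topology), u_* restriction of sheaves along it and u^* its left adjoint. For every
sheaf of sets G and every abelian sheaf G on the small etale site, the unit G -> u_* u^* G is an
isomorphism (so u^* is fully faithful). Stated for sheaves of sets (first conjunct, with Mathlib's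
sheaf pullback along the inclusion) and for abelian sheaves (second conjunct, the prelude's
adjunction on the big etale site). -/
theorem result (X : Scheme.{u}) :
    (∀ G : EtDesc.Sh X, IsIso (((EtFppf.a X).sheafAdjunctionContinuous (Type (u + 1)) X.smallEtaleTopology
      (QuotSh.J Scheme.etalePrecoverage X)).unit.app G)) ∧
    (∀ G : EtCoh.Ab X, IsIso ((BigSite.piEtAdj Scheme.etalePrecoverage X).unit.app G)) := by
  open GrothLib.BigEt GrothLib.EtSec in
  exact
    let hle : QuotSh.J Scheme.etalePrecoverage X ≤ QuotSh.J Scheme.fpqcPrecoverage X :=
      etale_le_fppf.trans fppf_le_fpqc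
    ⟨fun G =>
      haveI := isIso_secsComparison (QuotSh.J Scheme.etalePrecoverage X) hle le_rfl G
      haveI : IsIso ((secsUnit (QuotSh.J Scheme.etalePrecoverage X) hle).app G) := by
        haveI : IsIso ((sheafToPresheaf _ _).map ((secsUnit (QuotSh.J Scheme.etalePrecoverage X) hle).app G)) := by
          haveI : ∀ W, IsIso (((sheafToPresheaf _ _).map
              ((secsUnit (QuotSh.J Scheme.etalePrecoverage X) hle).app G)).app W) := fun W =>
            (CategoryTheory.isIso_iff_bijective _).2 (secOf_bijective G W.unop)
          exact NatIso.isIso_of_isIso_app _
        exact isIso_of_fully_faithful (sheafToPresheaf _ _) _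
      IsIso.of_isIso_fac_right
        ((((EtFppf.a X).sheafAdjunctionContinuous (Type (u + 1)) X.smallEtaleTopology
          (QuotSh.J Scheme.etalePrecoverage X)).homEquiv_unit G _
          ((secsComparison (QuotSh.J Scheme.etalePrecoverage X) hle).app G)).symm.trans
            (Equiv.apply_symm_apply _ _)),
      fun G => isIso_unit_secsAb (QuotSh.J Scheme.etalePrecoverage X) hle le_rfl G⟩

end Groth.Agent.S6184
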