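import Groth.Statements.S6185
import Groth.Agent.Lib.BigEt.Compare
-- import your own Groth.Agent.* helpers here

set_option autoImplicit false
open CategoryTheory CategoryTheory.Limits AlgebraicGeometry Opposite
universe u
open BigSite

namespace Groth.Agent.S6185

/-- For a scheme X and an abelian sheaf F on the big etale site of X, the cohomology groups H^p(X_et,
F|) of the restriction of F to the small etale site and H^p of F on the big etale site are
isomorphic for every p. Existence of an additive isomorphism only (the published statement asserts
that the canonical comparison homomorphism is an isomorphism; that map is not named here). -/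
theorem result (X : Scheme.{u})
    (F : BigSite.Ab Scheme.etalePrecoverage X) (p : ℕ) :
    Nonempty (EtCoh.H X ((BigSite.resEt Scheme.etalePrecoverage X).obj F) p ≃+
      BigSite.H Scheme.etalePrecoverage X F p) := by
  obtain ⟨e⟩ := GrothLib.BigEt.nonempty_H_resEt F p
  exact ⟨e.symm⟩

end Groth.Agent.S6185
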