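import Groth.Statements.S6189
import Groth.Agent.Lib.KSix19.StalkPullback

set_option autoImplicit false
universe u
open CategoryTheory CategoryTheory.Limits AlgebraicGeometry
attribute [local instance] HasDerivedCategory.standard
open KSix

namespace Groth.Agent.S6189

/-- For a flat base change: let f : X ⟶ Y be a morphism of schemes, h : Y' ⟶ Y flat, X' = X ×_Y Y' with
projections g : X' ⟶ X and f' : X' ⟶ Y', and F a cochain complex of O_X-modules with tor amplitude
in [a, b] relative to f (stalkwise flat models placed in [a, b] over the local rings of Y). Then,
the derived pullback Lg^* being assumed to exist, Lg^* F has tor amplitude in [a, b] relative to f'.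
(The published statement assumes only that X and Y' are tor-independent over Y; this row takes h
flat, which implies that condition, and puts no condition on f.) -/
theorem result {X Y Y' : Scheme.{u}} (f : X ⟶ Y) (h : Y' ⟶ Y) [Flat h]
    [DCoh.HasLpull (pullback.fst f h)] (F : CochainComplex X.Modules ℤ) (a b : ℤ)
    (hF : DerSch.HasTorAmplitude f a b F) :
    DerSch.HasTorAmplitudeD (pullback.snd f h) a b ((DCoh.Lpull (pullback.fst f h)).obj (DCoh.toD X F)) := by
  exact GrothLib.KSix19.hasTorAmplitudeD_lpull_flat (IsPullback.of_hasPullback f h) hF

end Groth.Agent.S6189
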