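import Groth.Statements.S6193
import Groth.Agent.Lib.KSix19.RpushAmp.Main
-- import your own Groth.Agent.* helpers here

set_option autoImplicit false
universe u
open CategoryTheory CategoryTheory.Limits AlgebraicGeometry
attribute [local instance] HasDerivedCategory.standard
open KSix

namespace Groth.Agent.S6193

/-- Let f : X ⟶ Y be quasi-compact, quasi-separated and locally of finite tor dimension (the structure
sheaf of X is locally of finite tor amplitude relative to f, stalkwise), the derived direct image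
being assumed to exist, and let E ∈ D(O_X), given by a cochain complex F, have bounded
quasi-coherent cohomology. If E is locally of finite tor dimension in the absolute sense on X, then
Rf_* E is locally of finite tor dimension in the absolute sense on Y. -/
theorem result {X Y : Scheme.{u}} (f : X ⟶ Y) [QuasiCompact f] [QuasiSeparated f]
    [DCoh.HasRpush f] (hf : DerSch.LocFiniteTorDim f) (F : CochainComplex X.Modules ℤ)
    (hqc : DCoh.IsQCohD (DCoh.toD X F)) (c d : ℤ) [(DCoh.toD X F).IsGE c] [(DCoh.toD X F).IsLE d]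
    (hE : DCoh.LocHasFiniteTorDim (DCoh.toD X F)) :
    DCoh.LocHasFiniteTorDim ((DCoh.Rpush f).obj (DCoh.toD X F)) := by
  have hF : DerSch.LocFiniteTorAmplitude f F := by
    intro x
    obtain ⟨V, a, b, hx, hV⟩ := hE x
    obtain ⟨V₁, n, hx₁, hn⟩ := GrothLib.KSix19.RpushAmp.exists_torDim_near hf x
    refine ⟨V ⊓ V₁, a - n, b, ⟨hx, hx₁⟩, fun x' hx' => ?_⟩
    have h1 : DCoh.HasFlatAmplitudeIn a b (DCoh.toD V.toScheme ((GrothLib.OX.resCx V.ι).obj F)) :=
      hV _ ⟨Iso.refl _⟩
    have h2 : DerSch.HasTorAmplitudeAt (𝟙 X) a b F x' :=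
      (GrothLib.KSix19.hasTorAmplitudeAt_id_restrict_iff V.ι ⟨x', hx'.1⟩ a b _).1
        (GrothLib.KSix19.stalks_of_flatAmplitude h1 _)
    have h3 := GrothLib.KSix19.hasTorAmplitudeAt_comp (𝟙 X) f x' n (hn x' hx'.2) h2
    rwa [Category.id_comp] at h3
  intro y
  let G := DerivedCategory.Q.objPreimage ((DCoh.Rpush f).obj (DCoh.toD X F))
  let e : DCoh.toD Y G ≅ (DCoh.Rpush f).obj (DCoh.toD X F) := DerivedCategory.Q.objObjPreimageIso _
  obtain ⟨W, a, b, hy, hW⟩ := GrothLib.KSix19.RpushAmp.locFinite_Rpush f (𝟙 Y) f (Category.comp_id f) F hqc c d hF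
    G ⟨e⟩ y
  refine ⟨W, a, b, hy, fun F' ⟨e'⟩ => ?_⟩
  have key : DCoh.HasFlatAmplitudeIn a b (DCoh.toD W.toScheme ((GrothLib.OX.resCx W.ι).obj G)) :=
    GrothLib.KSix19.flatAmplitude_of_stalks' fun z =>
      (GrothLib.KSix19.hasTorAmplitudeAt_id_restrict_iff W.ι z _ _ _).2 (hW z.1 z.2)
  obtain ⟨E, hv, hfl, ⟨r⟩⟩ := key
  obtain ⟨k⟩ := GrothLib.OX.nonempty_iso_restrictCx W (e ≪≫ e'.symm)
  exact ⟨E, hv, hfl, ⟨r ≪≫ k⟩⟩

end Groth.Agent.S6193
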