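import Groth.Statements.S6194
import Groth.Agent.Lib.KSix19.StalkPerfect
import Groth.Agent.S5612

set_option autoImplicit false
universe u
open CategoryTheory CategoryTheory.Limits AlgebraicGeometry
attribute [local instance] HasDerivedCategory.standard
open KSix

namespace Groth.Agent.S6194

/-- Let X be a scheme such that, at every point x, every module over the local ring of X at x has finite
tor dimension (for instance a regular scheme), and let E ∈ D(O_X), given by a cochain complex F,
have bounded cohomology. Then E is pseudo-coherent if and only if E is perfect. (The published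
statement is for a ringed topos with enough points; this row is the case of schemes.) -/
theorem result {X : Scheme.{u}}
    (hX : ∀ (x : X) (M : Type u) [AddCommGroup M] [Module (X.presheaf.stalk x) M], DRing.HasFiniteTorDim (X.presheaf.stalk x) M)
    (F : CochainComplex X.Modules ℤ) (c d : ℤ) [(DCoh.toD X F).IsGE c] [(DCoh.toD X F).IsLE d] :
    (∀ m : ℤ, DCoh.IsPseudoCoherentD m (DCoh.toD X F)) ↔ DCoh.IsPerfect (DCoh.toD X F) := by
  refine ⟨fun hPC => ?_, fun h m => GrothLib.OX.isPseudoCoherentD_of_isPerfect h m⟩
  obtain ⟨P, b, hP, hflat, ⟨e⟩⟩ := GrothLib.KSix19.exists_flat_rep F d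
  refine GrothLib.OX.isPerfect_iff.2 fun x => ?_
  have hz : ∀ i, i < c ∨ d < i → IsZero (P.homology i) := fun i hi => by
    have h0 : IsZero ((DerivedCategory.homologyFunctor X.Modules i).obj (DCoh.toD X F)) := by
      rcases hi with hi | hi
      · exact DerivedCategory.isZero_of_isGE _ c i hi
      · exact DerivedCategory.isZero_of_isLE _ d i hi
    exact h0.of_iso ((GrothLib.OX.hdIso P i).symm ≪≫ (DerivedCategory.homologyFunctor _ i).mapIso e)
  obtain ⟨a₀, q, hamp⟩ := (Groth.Agent.S5612.result (hX x)
    (DRing.toD ((GrothLib.KSix19.stalkCx x).obj P))).1.2 ⟨c, d, fun i hi => by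
      refine (GrothLib.DR.exactAt_iff _ i).1 ((HomologicalComplex.exactAt_iff_isZero_homology _ _).2 ?_)
      exact ((GrothLib.OX.stalk x).map_isZero (hz i hi)).of_iso
        ((P.sc i).mapHomologyIso (GrothLib.OX.stalk x))⟩
  obtain ⟨U, j, hj, hxj, hS⟩ := GrothLib.KSix19.exists_strict_of_stalk hP hflat (a := min a₀ c) (q := q)
    (fun i hi => (HomologicalComplex.exactAt_iff_isZero_homology _ _).2 (hz i (Or.inl (by omega))))
    (GrothLib.OX.isPseudoCoherentD_of_iso (hPC _) e.symm) x
    (GrothLib.DR.hasTorAmplitudeIn_mono (by omega) le_rfl hamp)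
  exact ⟨U, j, hj, hxj, hS.of_iso ((GrothLib.OX.resD j).mapIso e)⟩

end Groth.Agent.S6194
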