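import Groth.Statements.S6199
import Groth.Agent.Lib.OX.FibreRank

set_option autoImplicit false
universe u
open CategoryTheory CategoryTheory.Limits AlgebraicGeometry
attribute [local instance] HasDerivedCategory.standard
open KSix

namespace Groth.Agent.S6199

/-- Let X be a scheme, p an integer and E ∈ D⁻(O_X) a (p-1)-pseudo-coherent object. Then, the derived
pullbacks to the points Spec κ(x) ⟶ X being assumed to exist, the function x ↦ dim_{κ(x)} H^p(E ⊗^L
κ(x)) is upper semicontinuous: for every n the set where it is < n is open. (The published statement
also asserts that this function is constructible; that clause is not stated here.) -/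
theorem result (X : Scheme.{u})
    [∀ x : X, DCoh.HasLpull (X.fromSpecResidueField x)] (E : DCoh.D X) (d : ℤ) [E.IsLE d] (p : ℤ)
    (hE : DCoh.IsPseudoCoherentD (p - 1) E) (n : ℕ) :
    IsOpen {x : X | PerfD.betti E x p < n} := by
  exact GrothLib.OX.isOpen_betti_lt hE n

end Groth.Agent.S6199
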