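import Groth.Statements.S6203
import Groth.Agent.Lib.KSix19.RelOps

set_option autoImplicit false
universe u
open CategoryTheory CategoryTheory.Limits AlgebraicGeometry
attribute [local instance] HasDerivedCategory.standard
open KSix

namespace Groth.Agent.S6203

/-- Let f : X ⟶ Y be locally of finite type, n an integer, E a cochain complex of O_X-modules, and (U i)
a family of opens of X with union X such that, for every i, the termwise restriction E|_{U i} is
n-pseudo-coherent relative to U i ⟶ X ⟶ Y (chart form). Then E is n-pseudo-coherent relative to f. -/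
theorem result {X Y : Scheme.{u}} (f : X ⟶ Y) [LocallyOfFiniteType f] (n : ℤ)
    (E : CochainComplex X.Modules ℤ) {ι : Type u} (U : ι → X.Opens) (hU : ⨆ i, U i = ⊤)
    (h : ∀ i : ι, DerSch.IsPseudoCoherentRel ((U i).ι ≫ f) n (DCoh.toD (U i : Scheme.{u}) ((DCoh.restrictCx (U i)).obj E))) :
    DerSch.IsPseudoCoherentRel f n (DCoh.toD X E) := by
  refine GrothLib.KSix19.isPseudoCoherentRel_of_cover fun x => ?_
  obtain ⟨i, hi⟩ := TopologicalSpace.Opens.mem_iSup.1 (hU ▸ TopologicalSpace.Opens.mem_top x : x ∈ ⨆ i, U i)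
  exact ⟨_, (U i).ι, inferInstance, ⟨⟨x, hi⟩, rfl⟩, h i⟩

end Groth.Agent.S6203
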