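import Groth.Statements.S6211
import Groth.Agent.Lib.KSix19.RelPCModel
-- import your own Groth.Agent.* helpers here

set_option autoImplicit false
universe u
open CategoryTheory CategoryTheory.Limits AlgebraicGeometry
attribute [local instance] HasDerivedCategory.standard
open KSix

namespace Groth.Agent.S6211

/-- Sufficiency: let f : X ⟶ Y be locally of finite type, h : Y' ⟶ Y flat, surjective and quasi-compact,
X' = X ×_Y Y' with projections g : X' ⟶ X and f' : X' ⟶ Y', n an integer, and E an object of D(O_X)
with bounded above cohomology whose cohomology sheaves are quasi-coherent. If, the derived pullback
Lg^* being assumed to exist, Lg^* E is n-pseudo-coherent relative to f' (chart form), then E is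
n-pseudo-coherent relative to f. (Necessity is the flat base change statement. The published
statement takes h faithfully flat, that is flat and surjective; this row also takes h quasi-compact:
for A an infinite product of copies of the field with two elements, the disjoint union of the
spectra of all local rings of A is flat and surjective over Spec A but not quasi-compact, and the
ideal sheaf of finitely supported sequences, which is not of finite type, pulls back to a module of
finite type on it, so descent of pseudo-coherence fails; the published proof's final step, descent
of finite type for quasi-coherent modules, needs quasi-compactness.) -/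
theorem result {X Y Y' : Scheme.{u}} (f : X ⟶ Y) [LocallyOfFiniteType f]
    (h : Y' ⟶ Y) [Flat h] [Surjective h] [QuasiCompact h] [DCoh.HasLpull (pullback.fst f h)] (n b : ℤ) (E : DCoh.D X) [E.IsLE b]
    (hq : DCoh.IsQCohD E) (hE : DerSch.IsPseudoCoherentRel (pullback.snd f h) n ((DCoh.Lpull (pullback.fst f h)).obj E)) :
    DerSch.IsPseudoCoherentRel f n E := by
  exact GrothLib.KSix19.isPseudoCoherentRel_of_flat_descent (IsPullback.of_hasPullback f h) hq (b := b) hE

end Groth.Agent.S6211
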