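import Groth.Statements.S6213
import Groth.Agent.Lib.KSix19.Terms

set_option autoImplicit false
universe u
open CategoryTheory CategoryTheory.Limits AlgebraicGeometry
attribute [local instance] HasDerivedCategory.standard
open KSix

namespace Groth.Agent.S6213

/-- Let f : X ⟶ Y be locally of finite type and M an O_X-module. Then M placed in degree 0 has perfect
amplitude in [0, 0] relative to f (pseudo-coherent relative to f in chart form and of stalkwise tor
amplitude in [0, 0] over the local rings of Y) if and only if M is flat over Y at every point of X
and M placed in degree 0 is (-1)-pseudo-coherent relative to f (that is, finitely presented relative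
to f). -/
theorem result {X Y : Scheme.{u}} (f : X ⟶ Y)
    [LocallyOfFiniteType f] (M : X.Modules) :
    DerSch.HasPerfAmplitudeRel f 0 0 ((HomologicalComplex.single _ (ComplexShape.up ℤ) 0).obj M) ↔
      (FlatMod.IsFlatOver f M ∧ DerSch.IsPseudoCoherentRel f (-1) (DCoh.toD X ((HomologicalComplex.single _ (ComplexShape.up ℤ) 0).obj M))) := by
  exact GrothLib.KSix19.hasPerfAmplitudeRel_single_iff f M

end Groth.Agent.S6213
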