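import Groth.Statements.S6218
import Groth.Agent.Lib.KSix19.TorAmp

set_option autoImplicit false
universe u
open CategoryTheory CategoryTheory.Limits AlgebraicGeometry
attribute [local instance] HasDerivedCategory.standard
open KSix

namespace Groth.Agent.S6218

/-- Let i : X ⟶ Y be a closed immersion, g : Y ⟶ S smooth, a and b integers, and F a cochain complex of
O_X-modules such that the termwise direct image i_* F has perfect amplitude in [a, b] on Y in the
absolute sense (locally isomorphic in D to a complex of finite locally free modules placed in [a,
b]). Then F has perfect amplitude in [a, b] relative to i ≫ g (pseudo-coherent relative to it in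
chart form, with stalkwise tor amplitude in [a, b] over the local rings of S). -/
theorem result {X Y S : Scheme.{u}} (i : X ⟶ Y) [IsClosedImmersion i]
    (g : Y ⟶ S) [Smooth g] (a b : ℤ) (F : CochainComplex X.Modules ℤ)
    (hF : KSix.HasPerfectAmplitudeIn a b (DCoh.toD Y (((Scheme.Modules.pushforward i).mapHomologicalComplex (ComplexShape.up ℤ)).obj F))) :
    DerSch.HasPerfAmplitudeRel (i ≫ g) a b F := by
  exact ⟨fun m => (GrothLib.KSix19.isPseudoCoherentRel_closedImmersion_iff i g
      (fun k => GrothLib.KSix19.isNPseudoCoherent_of_flat g k) m F).2
      (GrothLib.OX.isPseudoCoherentD_of_isPerfect (GrothLib.KSix19.isPerfect_of_perfectAmplitude hF) m),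
    GrothLib.KSix19.hasTorAmplitude_of_flatAmplitude i g (GrothLib.KSix19.flatAmplitude_of_perfectAmplitude hF)⟩

end Groth.Agent.S6218
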