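import Groth.Statements.S6225
import Groth.Agent.Lib.KSix19.NPCRing

set_option autoImplicit false
universe u
open CategoryTheory CategoryTheory.Limits AlgebraicGeometry
attribute [local instance] HasDerivedCategory.standard
open KSix

namespace Groth.Agent.S6225

/-- Last assertion: a morphism f : X ⟶ Y locally of finite type is (-1)-pseudo-coherent (O_X placed in
degree 0 is (-1)-pseudo-coherent relative to f, in chart form) if and only if f is locally of finite
presentation. -/
theorem result {X Y : Scheme.{u}} (f : X ⟶ Y) [LocallyOfFiniteType f] :
    DerSch.IsNPseudoCoherent f (-1) ↔ LocallyOfFinitePresentation f := by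
  exact GrothLib.KSix19.isNPseudoCoherent_negOne_iff f

end Groth.Agent.S6225
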