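import Groth.Statements.S6230
import Groth.Agent.Lib.KSix19.RelPCModel
import Groth.Agent.Lib.KSix19.StalkPullback
-- import your own Groth.Agent.* helpers here

set_option autoImplicit false
universe u
open CategoryTheory CategoryTheory.Limits AlgebraicGeometry
attribute [local instance] HasDerivedCategory.standard
open KSix

namespace Groth.Agent.S6230

/-- For a flat base change: let f : X ⟶ Y be locally of finite type, h : Y' ⟶ Y flat, X' = X ×_Y Y' with
projections g : X' ⟶ X and f' : X' ⟶ Y', a and b integers, and F a cochain complex of O_X-modules
with perfect amplitude in [a, b] relative to f (pseudo-coherent relative to f in chart form,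
stalkwise tor amplitude in [a, b] over the local rings of Y). Then, the derived pullback Lg^* being
assumed to exist, Lg^* F has perfect amplitude in [a, b] relative to f': every cochain complex
representing it does. (The published statement assumes only that X and Y' are tor-independent over
Y; this row takes h flat, which implies that condition.) -/
theorem result {X Y Y' : Scheme.{u}} (f : X ⟶ Y) [LocallyOfFiniteType f]
    (h : Y' ⟶ Y) [Flat h] [DCoh.HasLpull (pullback.fst f h)] (a b : ℤ) (F : CochainComplex X.Modules ℤ)
    (hF : DerSch.HasPerfAmplitudeRel f a b F) :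
    ∀ F' : CochainComplex (pullback f h).Modules ℤ,
      Nonempty (DCoh.toD (pullback f h) F' ≅ (DCoh.Lpull (pullback.fst f h)).obj (DCoh.toD X F)) →
        DerSch.HasPerfAmplitudeRel (pullback.snd f h) a b F' := by
  intro F' ⟨e⟩
  have H := IsPullback.of_hasPullback f h
  haveI := GrothLib.KSix19.isLE_of_torAmplitude f hF.2
  refine ⟨fun m => ?_, GrothLib.KSix19.hasTorAmplitudeD_lpull_flat H hF.2 F' ⟨e⟩⟩
  have hm := GrothLib.KSix19.isPseudoCoherentRel_lpull_flat H
    (GrothLib.KSix19.isQCohD_of_relAll hF.1) (b := b) (hF.1 m)
  exact GrothLib.KSix19.isPseudoCoherentRel_of_iso e.symm hm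

end Groth.Agent.S6230
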