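import Groth.Statements.S6235
import Groth.Agent.Lib.KSix19.Chart

set_option autoImplicit false
universe u
open CategoryTheory CategoryTheory.Limits AlgebraicGeometry
attribute [local instance] HasDerivedCategory.standard
open KSix

namespace Groth.Agent.S6235

/-- Let f : X ⟶ Y be a morphism of schemes and E an object of D(O_X) which is pseudo-coherent relative
to f (chart form, every degree; in particular f is locally of finite type). Then the cohomology
sheaves of E are quasi-coherent. -/
theorem result {X Y : Scheme.{u}} (f : X ⟶ Y) (E : DCoh.D X)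
    (hE : DerSch.IsPseudoCoherentRelAll f E) : DCoh.IsQCohD E := by
  intro k
  let G := DerivedCategory.Q.objPreimage E
  let e : DCoh.toD X G ≅ E := DerivedCategory.Q.objObjPreimageIso E
  suffices h : ∀ x : X, ∃ U : X.Opens, x ∈ U ∧
      ((Scheme.Modules.restrictFunctor U.ι).obj (DCoh.HD E k)).IsQuasicoherent by
    choose U hx hU using h
    exact GrothLib.QCoh.isQuasicoherent_of_restrict (DCoh.HD E k) U
      (eq_top_iff.2 fun x _ => TopologicalSpace.Opens.mem_iSup.2 ⟨x, hx x⟩) hU
  intro x
  obtain ⟨U, V, hle, N, φ, hxU, -, -, hcl, hpc⟩ := GrothLib.KSix19.exists_chart (hE (k - 1)) x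
  refine ⟨U, hxU, ?_⟩
  exact @GrothLib.QCoh.isQuasicoherent_of_iso _ _ _
    ((G.sc k).mapHomologyIso (Scheme.Modules.restrictFunctor U.ι) ≪≫
      (Scheme.Modules.restrictFunctor U.ι).mapIso ((GrothLib.OX.hdIso G k).symm ≪≫
        (DerivedCategory.homologyFunctor _ k).mapIso e))
    (GrothLib.KSix19.isQCoh_of_chart (DerSch.chartImm U φ) (hpc G ⟨e⟩) (k := k) (by omega))

end Groth.Agent.S6235
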