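import Groth.Statements.S6239
-- import your own Groth.Agent.* helpers here

set_option autoImplicit false
universe u
open CategoryTheory CategoryTheory.Limits AlgebraicGeometry
attribute [local instance] HasDerivedCategory.standard
open KSix

namespace Groth.Agent.S6239

/-- Let f : X ⟶ Y be a morphism with X quasi-compact and F a cochain complex of O_X-modules which is
perfect relative to f (pseudo-coherent relative to f in chart form, and locally on X of finite
stalkwise tor amplitude over the local rings of Y). Then F has finite perfect amplitude relative to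
f: one interval [a, b] works at every point of X. -/
theorem result {X Y : Scheme.{u}} [CompactSpace X] (f : X ⟶ Y)
    (F : CochainComplex X.Modules ℤ) (hF : DerSch.IsPerfectRel f F) :
    DerSch.HasFinitePerfAmplitudeRel f F := by
  choose V a b hxV hV using hF.2
  obtain ⟨t, ht⟩ := isCompact_univ.elim_finite_subcover (fun x => (V x : Set X)) (fun x => (V x).2)
    (fun x _ => Set.mem_iUnion.2 ⟨x, hxV x⟩)
  obtain ⟨A, hA⟩ := (t.finite_toSet.image a).bddBelow
  obtain ⟨B, hB⟩ := (t.finite_toSet.image b).bddAbove
  refine ⟨A, B, hF.1, fun x => ?_⟩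
  obtain ⟨y, hy, hxy⟩ := Set.mem_iUnion₂.1 (ht (Set.mem_univ x))
  obtain ⟨E, hv, hfl, he⟩ := hV y x hxy
  have h1 : A ≤ a y := hA ⟨y, hy, rfl⟩
  have h2 : b y ≤ B := hB ⟨y, hy, rfl⟩
  exact ⟨E, fun i hi => hv i (by omega), hfl, he⟩

end Groth.Agent.S6239
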