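import Groth.Statements.S6241
import Groth.Agent.Lib.KSix19.TensorStalk
import Groth.Agent.Lib.KSix19.KoszulPerf

set_option autoImplicit false
universe u
open CategoryTheory CategoryTheory.Limits AlgebraicGeometry
attribute [local instance] HasDerivedCategory.standard
open KSix

namespace Groth.Agent.S6241

/-- Let f : X ⟶ Y be a morphism of schemes and F a cochain complex of O_X-modules with bounded above
cohomology and tor amplitude in [m, n] relative to f in the stalkwise sense (at every point x of X
the complex of stalks F_x is isomorphic, in the derived category of the local ring of Y at f x, to a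
complex of flat modules placed in [m, n]). Then for every open V of Y and every O_V-module M, the
derived pullback along the restriction f⁻¹(V) ⟶ V of f and the derived tensor product with the
restriction of F to f⁻¹(V) being assumed to exist, the cohomology sheaves of L(f|)^* M ⊗^L (F
restricted to f⁻¹(V)) vanish outside [m, n]. (The published statement is for a morphism of ringed
topoi whose source has enough points, with V an object of the target topos; this row is the case of
schemes, V an open subscheme, and the derived tensor product taken with the restriction of F as the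
fixed right-hand factor.) -/
theorem result {X Y : Scheme.{u}} (f : X ⟶ Y)
    (F : CochainComplex X.Modules ℤ) (e : ℤ) [(DCoh.toD X F).IsLE e] (m n : ℤ)
    (hF : DerSch.HasTorAmplitude f m n F) (V : Y.Opens) (M : (V : Scheme.{u}).Modules)
    [DCoh.HasLpull (f ∣_ V)] [DCoh.HasLTensorCx ((DCoh.restrictCx (f ⁻¹ᵁ V)).obj F)]
    (i : ℤ) (hi : i < m ∨ n < i) :
    IsZero (DCoh.HD ((DCoh.LTensorCx ((DCoh.restrictCx (f ⁻¹ᵁ V)).obj F)).obj
      ((DCoh.Lpull (f ∣_ V)).obj (DCoh.inD (V : Scheme.{u}) M))) i) := by
  let W := f ⁻¹ᵁ V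
  have hres : DerSch.HasTorAmplitude (f ∣_ V) m n ((GrothLib.OX.resCx W.ι).obj F) := by
    intro x
    have h := (GrothLib.KSix19.hasTorAmplitudeAt_restrict_iff W.ι f x m n F).2 (hF _)
    rw [show W.ι ≫ f = (f ∣_ V) ≫ V.ι from (morphismRestrict_ι f V).symm] at h
    obtain ⟨e₁⟩ := GrothLib.KSix19.nonempty_stalkCxOver_comp (f ∣_ V) V.ι x ((GrothLib.OX.resCx W.ι).obj F)
    have hb : Function.Bijective (V.ι.stalkMap ((f ∣_ V) x)).hom :=
      ConcreteCategory.bijective_of_isIso (V.ι.stalkMap ((f ∣_ V) x))
    exact GrothLib.KSix19.amp_of_hasSection _ (RingHom.Flat.of_bijective hb)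
      (GrothLib.KSix19.hasSection_of_surjective _ hb.2)
      (GrothLib.KSix19.amp_of_iso (e₁ ≪≫ GrothLib.DR.restrictToDIso _ _) h)
  let G := (HomologicalComplex.single (V : Scheme.{u}).Modules (ComplexShape.up ℤ) 0).obj M
  have hG : ∀ j : ℤ, j < 0 ∨ 0 < j → G.ExactAt j := fun j hj =>
    HomologicalComplex.ExactAt.of_isZero (HomologicalComplex.isZero_single_obj_X _ _ _ _ (by omega))
  haveI : (DCoh.toD (V : Scheme.{u}) G).IsLE 0 := (DerivedCategory.isLE_iff _ _).2 fun q hq =>
    ((HomologicalComplex.exactAt_iff_isZero_homology _ q).1 (hG q (Or.inr hq))).of_iso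
      (GrothLib.OX.hdIso G q)
  let e₀ : DCoh.inD (V : Scheme.{u}) M ≅ DCoh.toD (V : Scheme.{u}) G :=
    (DerivedCategory.singleFunctorIsoCompQ (V : Scheme.{u}).Modules 0).app M
  exact (GrothLib.KSix19.isZero_HD_ltensor_lpull (f ∣_ V) hres G hG (i := i) (by omega)).of_iso
    ((DerivedCategory.homologyFunctor _ i).mapIso ((DCoh.LTensorCx _).mapIso ((DCoh.Lpull (f ∣_ V)).mapIso e₀)))

end Groth.Agent.S6241
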