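import Groth.Statements.S6242
import Groth.Agent.Lib.KSix19.TorDimBC

set_option autoImplicit false
universe u
open CategoryTheory CategoryTheory.Limits AlgebraicGeometry
attribute [local instance] HasDerivedCategory.standard
open KSix

namespace Groth.Agent.S6242

/-- Flat second factor: let S be a scheme and, for i = 1, 2, f_i : X_i ⟶ Y_i a morphism of S-schemes
(structure morphisms q_i : Y_i ⟶ S, and X_i over S through f_i ≫ q_i), with X₂ and Y₂ flat over S.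
Let X = X₁ ×_S X₂ and Y = Y₁ ×_S Y₂, given by pullback squares, and f : X ⟶ Y the morphism
compatible with the two projections. If f₁ has tor dimension at most n₁ and f₂ has tor dimension at
most n₂ (stalkwise: the local ring of the source at each point is isomorphic, in the derived
category of the local ring of the target, to a complex of flat modules placed in [-n_i, 0]), then f
has tor dimension at most n₁ + n₂; in particular f has finite tor dimension. (The published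
statement assumes only that X₁, X₂ and Y₁, Y₂ are tor-independent over S; this row takes X₂ and Y₂
flat over S, which implies both conditions, and records the bound n₁ + n₂ that the published proof
gives.) -/
theorem result {S X₁ Y₁ X₂ Y₂ X Y : Scheme.{u}} (f₁ : X₁ ⟶ Y₁) (q₁ : Y₁ ⟶ S)
    (f₂ : X₂ ⟶ Y₂) (q₂ : Y₂ ⟶ S) [Flat q₂] [Flat (f₂ ≫ q₂)]
    (pX₁ : X ⟶ X₁) (pX₂ : X ⟶ X₂) (hX : IsPullback pX₁ pX₂ (f₁ ≫ q₁) (f₂ ≫ q₂))
    (pY₁ : Y ⟶ Y₁) (pY₂ : Y ⟶ Y₂) (hY : IsPullback pY₁ pY₂ q₁ q₂)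
    (f : X ⟶ Y) (hf₁ : f ≫ pY₁ = pX₁ ≫ f₁) (hf₂ : f ≫ pY₂ = pX₂ ≫ f₂)
    (n₁ n₂ : ℕ) (h₁ : DerSch.HasTorDimLE f₁ n₁) (h₂ : DerSch.HasTorDimLE f₂ n₂) :
    DerSch.HasTorDimLE f (n₁ + n₂) := by
  let M := pullback q₁ (f₂ ≫ q₂)
  let m₁ : M ⟶ Y₁ := pullback.fst _ _
  let m₂ : M ⟶ X₂ := pullback.snd _ _
  have hM : IsPullback m₁ m₂ q₁ (f₂ ≫ q₂) := IsPullback.of_hasPullback _ _
  let u : X ⟶ M := hM.lift (pX₁ ≫ f₁) pX₂ (by simpa using hX.w)
  let v : M ⟶ Y := hY.lift m₁ (m₂ ≫ f₂) (by simpa using hM.w)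
  have hu₁ : u ≫ m₁ = pX₁ ≫ f₁ := hM.lift_fst _ _ _
  have hu₂ : u ≫ m₂ = pX₂ := hM.lift_snd _ _ _
  have hv₁ : v ≫ pY₁ = m₁ := hY.lift_fst _ _ _
  have hv₂ : v ≫ pY₂ = m₂ ≫ f₂ := hY.lift_snd _ _ _
  have hf : f = u ≫ v := hY.hom_ext (by rw [Category.assoc, hv₁, hu₁, hf₁])
    (by rw [Category.assoc, hv₂, hf₂, ← Category.assoc, hu₂])
  have H₁ : IsPullback pX₁ u f₁ m₁ := IsPullback.of_bot (by rw [hu₂]; exact hX) hu₁.symm hM
  have H₂ : IsPullback m₂ v f₂ pY₂ := IsPullback.of_bot (by rw [hv₁]; exact hM.flip) hv₂.symm hY.flip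
  haveI : Flat m₁ := MorphismProperty.of_isPullback hM.flip ‹Flat (f₂ ≫ q₂)›
  subst hf
  intro x
  have := GrothLib.KSix19.hasTorAmplitudeAt_comp u v x n₂
    (GrothLib.KSix19.hasTorDimLE_baseChange_flat_base hY.flip H₂ h₂ (u x))
    (GrothLib.KSix19.hasTorDimLE_flat_baseChange H₁ h₁ x)
  rwa [show -(((n₁ + n₂ : ℕ)) : ℤ) = -(n₁ : ℤ) - n₂ by push_cast; ring]

end Groth.Agent.S6242
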