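import Groth.Statements.S6247
import Groth.Agent.Lib.KSix19.SiteSemi.Main
-- import your own Groth.Agent.* helpers here

set_option autoImplicit false
universe u
open CategoryTheory CategoryTheory.Limits AlgebraicGeometry
attribute [local instance] HasDerivedCategory.standard
open KSix

namespace Groth.Agent.S6247

/-- One ringed site: let (C, J, O) be a small site with a sheaf of commutative rings O, let E be a
cochain complex of O-modules isomorphic in D(O) to a complex P of flat O-modules which vanishes
outside [m, n] (E has flat amplitude in [m, n]), and let F be a cochain complex of flat O-modules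
which vanishes outside [m', n']. Then, the derived tensor product − ⊗^L_O F being assumed to exist,
E ⊗^L_O F is isomorphic in D(O) to a complex of flat O-modules vanishing outside [m + m', n + n']:
flat amplitudes add, and in particular the derived tensor product of two objects of finite flat
amplitude has finite flat amplitude. (The published statement is for a morphism of ringed topoi f
from S' to S and the external derived tensor product of an object over S' with an object over S,
flatness meaning exactness of the tensor product functor; this row is the case S' = S with f the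
identity, on the topos of sheaves on a small site, with the second factor given by its own flat
model.) -/
theorem result {C : Type u} [SmallCategory C]
    {J : GrothendieckTopology C} (O : Sheaf J CommRingCat.{u}) (E P : CochainComplex (ModSite.Mod O) ℤ)
    (m n : ℤ) (hP : ∀ i : ℤ, ModSite.IsFlat (P.X i)) (hPb : ∀ i : ℤ, i < m ∨ n < i → IsZero (P.X i))
    (eP : DerivedCategory.Q.obj P ≅ DerivedCategory.Q.obj E) (F : CochainComplex (ModSite.Mod O) ℤ)
    (m' n' : ℤ) (hF : ∀ i : ℤ, ModSite.IsFlat (F.X i)) (hFb : ∀ i : ℤ, i < m' ∨ n' < i → IsZero (F.X i))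
    [ModSite.HasLTensorCx F] :
    ∃ G : CochainComplex (ModSite.Mod O) ℤ, (∀ i : ℤ, ModSite.IsFlat (G.X i)) ∧
      (∀ i : ℤ, i < m + m' ∨ n + n' < i → IsZero (G.X i)) ∧
      Nonempty (DerivedCategory.Q.obj G ≅ (ModSite.LTensorCx F).obj (DerivedCategory.Q.obj E)) := by
  let B := ModSite.tensorBi O
  let G := ((ModSite.tensorCx O).obj P).obj F
  refine ⟨G, fun i => ?_, fun i hi => ?_, ?_⟩
  · let fam : ULift.{u} ℤ → ModSite.Mod O := fun p => (B.obj (P.X p.down)).obj (F.X (i - p.down))
    have hfam : ModSite.IsFlat (∐ fam) := GrothLib.ModFlat.isFlat_of_cofan fam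
      (fun p => GrothLib.ModFlat.isFlat_tensor _ _ (hP _) (hF _)) _ (coproductIsCoproduct fam)
    exact GrothLib.ModFlat.isFlat_of_iso
      (Sigma.whiskerEquiv Equiv.ulift.{u} (fun _ => Iso.refl _) ≪≫ (GrothLib.ModFlat.degIso P i).app F) hfam
  · rw [IsZero.iff_id_eq_zero]
    refine HomologicalComplex.mapBifunctor.hom_ext fun p q hpq => ?_
    have hpq' : p + q = i := hpq
    have hz : IsZero ((B.obj (P.X p)).obj (F.X q)) := by
      by_cases hp : p < m ∨ n < p
      · exact ((GrothLib.ModFlat.T (F.X q)).map_isZero (hPb p hp))
      · exact ((B.obj (P.X p)).map_isZero (hFb q (by omega)))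
    exact hz.eq_of_src _ _
  · haveI := GrothLib.ModFlat.additive_flip_obj (O := O)
    obtain ⟨v⟩ := (GrothLib.KSix19.SiteSemi.cxResolvable_tensor F).totalLeftDerived_value
      (GrothLib.ModFlat.isKFlat_of_bounded_above (K := P) n (fun i hi => hPb i (Or.inr hi)) hP)
    exact ⟨v.symm ≪≫ (ModSite.LTensorCx F).mapIso eP⟩

end Groth.Agent.S6247
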