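import Groth.Statements.S6249
import Groth.Agent.Lib.KSix19.SiteSemi.Main
-- import your own Groth.Agent.* helpers here

set_option autoImplicit false
universe u
open CategoryTheory CategoryTheory.Limits AlgebraicGeometry
attribute [local instance] HasDerivedCategory.standard
open KSix

namespace Groth.Agent.S6249

/-- Let (C, J, O) be a small site with a sheaf of commutative rings O, Mod(O) the category of O-modules,
E ∈ D⁻(O) given by a cochain complex, and p an integer. Then, the derived tensor product − ⊗^L_O E
being assumed to exist, the functor M ↦ H^p(M ⊗^L E) from Mod(O) to Mod(O) is right exact if and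
only if the functor M ↦ H^{p+1}(M ⊗^L E) is left exact. (The published statement is for a
commutative ringed topos and writes E ⊗^L M; this row is the topos of sheaves on a small site, with
the derived tensor product taken with E as the fixed right-hand factor.) -/
theorem result {C : Type u} [SmallCategory C]
    {J : GrothendieckTopology C} (O : Sheaf J CommRingCat.{u}) (E : CochainComplex (ModSite.Mod O) ℤ)
    (e : ℤ) [(DerivedCategory.Q.obj E).IsLE e] (p : ℤ) [ModSite.HasLTensorCx E] :
    PreservesFiniteColimits (DerivedCategory.singleFunctor (ModSite.Mod O) 0 ⋙ ModSite.LTensorCx E ⋙ DerivedCategory.homologyFunctor (ModSite.Mod O) p) ↔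
      PreservesFiniteLimits (DerivedCategory.singleFunctor (ModSite.Mod O) 0 ⋙ ModSite.LTensorCx E ⋙ DerivedCategory.homologyFunctor (ModSite.Mod O) (p + 1)) := by
  obtain ⟨F', q, hF', hflat, hq, -⟩ := GrothLib.ModFlat.exists_kflat_resolution (G := E)
  obtain ⟨e₀⟩ := GrothLib.KSix19.SiteSemi.nonempty_functor_iso E hF' q p
  obtain ⟨e₁⟩ := GrothLib.KSix19.SiteSemi.nonempty_functor_iso E hF' q (p + 1)
  refine Iff.trans ?_ (Iff.trans (GrothLib.KSix19.SiteSemi.colimits_iff_limits_succ hflat p) ?_)
  · exact ⟨fun _ => preservesFiniteColimits_of_natIso e₀, fun _ => preservesFiniteColimits_of_natIso e₀.symm⟩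
  · exact ⟨fun _ => preservesFiniteLimits_of_natIso e₁.symm, fun _ => preservesFiniteLimits_of_natIso e₁⟩

end Groth.Agent.S6249
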