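import Groth.Statements.S6251
import Groth.Agent.Lib.KSix19.ProjPush.Closed
import Groth.Agent.S6235
import Groth.Agent.Lib.KSix19.BettiExact.Proj
import Groth.Agent.Lib.KSix19.BettiExact.Semi
import Groth.Agent.Lib.DCoh.LocFree
import Groth.Agent.Lib.KSix19.BettiExact.Converse
-- import your own Groth.Agent.* helpers here

set_option autoImplicit false
universe u
open CategoryTheory CategoryTheory.Limits AlgebraicGeometry
attribute [local instance] HasDerivedCategory.standard
open KSix

namespace Groth.Agent.S6251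

/-- Let Y be a quasi-compact quasi-separated scheme, r a natural number, i : X ⟶ P^r_Y a closed
immersion with f : X ⟶ Y its composite with the projection, p an integer, and E ∈ D^b(O_X), given by
a cochain complex F, perfect relative to f (pseudo-coherent relative to f in chart form and locally
on X of finite stalkwise tor amplitude over the local rings of Y). The derived functors Lf^*, − ⊗^L
F and Rf_* and the derived pullbacks to the points Spec κ(y) ⟶ Y being assumed to exist: if the
functor M ↦ R^p f_*(Lf^* M ⊗^L F) is exact on the full subcategory of quasi-coherent O_Y-modules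
(preserves finite limits and finite colimits there), then H^p(Rf_* E) is a finite locally free
O_Y-module and the function y ↦ dim_{κ(y)} H^p(Rf_* E ⊗^L κ(y)) is locally constant on Y. (The
published statement is for a proper morphism of quasi-compact schemes with Y quasi-separated, under
the finiteness property for proper pseudo-coherent direct images, which holds for projective
morphisms; it allows a closed immersion into P(M) with M quasi-coherent of finite type on Y, and
this row takes M free of rank r + 1; it writes the functor as M ↦ R^p f_*(E ⊗^L Lf^* M), and this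
row takes the derived tensor product with F as the fixed right-hand factor.) -/
theorem result {X Y : Scheme.{u}} [CompactSpace Y]
    [QuasiSeparatedSpace Y] (r : ℕ) (i : X ⟶ CohB1.ProjSpaceOver r Y) [IsClosedImmersion i]
    (F : CochainComplex X.Modules ℤ) (a b : ℤ) [(DCoh.toD X F).IsGE a] [(DCoh.toD X F).IsLE b]
    (hF : DerSch.IsPerfectRel (i ≫ CohB1.ProjSpaceOver.toBase r Y) F) (p : ℤ) [DCoh.HasLpull (i ≫ CohB1.ProjSpaceOver.toBase r Y)]
    [DCoh.HasLTensorCx F] [DCoh.HasRpush (i ≫ CohB1.ProjSpaceOver.toBase r Y)]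
    [PreservesFiniteLimits ((QCohCat.isQCoh Y).ι ⋙ DerivedCategory.singleFunctor Y.Modules 0 ⋙ DCoh.Lpull (i ≫ CohB1.ProjSpaceOver.toBase r Y) ⋙ DCoh.LTensorCx F ⋙ DCoh.Rpush (i ≫ CohB1.ProjSpaceOver.toBase r Y) ⋙ DerivedCategory.homologyFunctor Y.Modules p)]
    [PreservesFiniteColimits ((QCohCat.isQCoh Y).ι ⋙ DerivedCategory.singleFunctor Y.Modules 0 ⋙ DCoh.Lpull (i ≫ CohB1.ProjSpaceOver.toBase r Y) ⋙ DCoh.LTensorCx F ⋙ DCoh.Rpush (i ≫ CohB1.ProjSpaceOver.toBase r Y) ⋙ DerivedCategory.homologyFunctor Y.Modules p)]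
    [∀ y : Y, DCoh.HasLpull (Y.fromSpecResidueField y)] :
    FlatMod.IsFinLocFree (DCoh.HD ((DCoh.Rpush (i ≫ CohB1.ProjSpaceOver.toBase r Y)).obj (DCoh.toD X F)) p) ∧
      IsLocallyConstant (fun y : Y => PerfD.betti ((DCoh.Rpush (i ≫ CohB1.ProjSpaceOver.toBase r Y)).obj (DCoh.toD X F)) y p) := by
  haveI : IsProper (CohB1.ProjSpaceOver.toBase r Y) := GrothLib.Chow.isProper_toBase r Y
  have hq : DCoh.IsQCohD (DCoh.toD X F) := Groth.Agent.S6235.result _ _ hF.1
  obtain ⟨B, _, ⟨eB⟩, hB⟩ := GrothLib.KSix19.BettiExact.exists_proj_model (i ≫ CohB1.ProjSpaceOver.toBase r Y) F hq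
  obtain ⟨e⟩ := hB p
  have hE : DCoh.IsPseudoCoherentD (p - 1) (DCoh.toD Y B) :=
    GrothLib.OX.isPseudoCoherentD_of_iso (GrothLib.KSix19.ProjPush.isPseudoCoherentD_Rpush_of_rel r i _ a hF.1 (p - 1)) eB.symm
  let G := (QCohCat.isQCoh Y).ι ⋙ DerivedCategory.singleFunctor Y.Modules 0 ⋙ DCoh.LTensorCx B ⋙
    DerivedCategory.homologyFunctor Y.Modules p
  haveI : PreservesFiniteLimits G := preservesFiniteLimits_of_natIso e.symm
  haveI : PreservesFiniteColimits G := preservesFiniteColimits_of_natIso e.symm
  haveI : G.PreservesMonomorphisms := inferInstance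
  haveI : G.PreservesEpimorphisms := inferInstance
  obtain ⟨h1, h2⟩ : FlatMod.IsFinLocFree (DCoh.HD (DCoh.toD Y B) p) ∧
      IsLocallyConstant (fun y : Y => PerfD.betti (DCoh.toD Y B) y p) := by
    refine GrothLib.KSix19.BettiExact.of_exact B p hE (fun M => Coh.IsQCoh M) ?_ ?_ ?_ ?_
    · intro W j _ _ N hN
      haveI : QuasiCompact j := GrothLib.OX.quasiCompact_of_isCompact_range j
        (by rw [← Set.image_univ]; exact isCompact_univ.image j.continuous)
      haveI : N.IsQuasicoherent := hN
      exact GrothLib.QCoh.isQuasicoherent_pushforward j N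
    · intro M N g hM hN
      haveI : M.IsQuasicoherent := hM
      haveI : N.IsQuasicoherent := hN
      exact GrothLib.QCoh.isQuasicoherent_cokernel g
    · intro M N g hg hM hN
      let g' : (⟨M, hM⟩ : QCohCat.QCoh Y) ⟶ ⟨N, hN⟩ := ObjectProperty.homMk g
      haveI : Mono g' := (QCohCat.isQCoh Y).ι.mono_of_mono_map (f := g') hg
      exact inferInstanceAs (Mono (G.map g'))
    · intro M N g hg hM hN
      let g' : (⟨M, hM⟩ : QCohCat.QCoh Y) ⟶ ⟨N, hN⟩ := ObjectProperty.homMk g
      haveI : Epi g' := (QCohCat.isQCoh Y).ι.epi_of_epi_map (f := g') hg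
      exact inferInstanceAs (Epi (G.map g'))
  refine ⟨GrothLib.DCoh.isFinLocFree_of_iso ((DerivedCategory.homologyFunctor Y.Modules p).mapIso eB) h1, ?_⟩
  have h : (fun y : Y => PerfD.betti (DCoh.toD Y B) y p) =
      fun y : Y => PerfD.betti ((DCoh.Rpush (i ≫ CohB1.ProjSpaceOver.toBase r Y)).obj (DCoh.toD X F)) y p :=
    funext fun y => GrothLib.KSix19.BettiExact.betti_congr eB y p
  rw [← h]; exact h2

end Groth.Agent.S6251
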