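import Groth.Statements.S6257
import Groth.Agent.Lib.KSix19.ExtTensor
-- import your own Groth.Agent.* helpers here

set_option autoImplicit false
set_option linter.style.haveILetI false
universe u
open CategoryTheory CategoryTheory.Limits AlgebraicGeometry
attribute [local instance] HasDerivedCategory.standard
open KSix

namespace Groth.Agent.S6257

/-- Flat second factor: let S be a scheme and, for i = 1, 2, f_i : X_i ⟶ Y_i a morphism of S-schemes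
(structure morphisms q_i : Y_i ⟶ S), with X₂ and Y₂ flat over S; let X = X₁ ×_S X₂ and Y = Y₁ ×_S Y₂
be given by pullback squares, with projections p₁ : X ⟶ X₁, p₂ : X ⟶ X₂, and f : X ⟶ Y the morphism
compatible with the projections. Let E_i be a cochain complex of O_{X_i}-modules with tor amplitude
in [a_i, b_i] relative to f_i (stalkwise: flat models placed in [a_i, b_i] over the local rings of
Y_i). The external derived tensor product E₁ ⊗^L_S E₂ = Lp₁^* E₁ ⊗^L Lp₂^* E₂ is written, the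
derived pullbacks being assumed to exist, as Lp₁^* E₁ ⊗^L K₂ for any cochain complex K₂ representing
Lp₂^* E₂ for which the derived tensor product exists. Then E₁ ⊗^L_S E₂ has tor amplitude in [a₁ +
a₂, b₁ + b₂] relative to f: every cochain complex representing it has stalkwise flat models in that
interval over the local rings of Y. (The published statement assumes only that X₁, X₂ and Y₁, Y₂ are
tor-independent over S; this row takes X₂ and Y₂ flat over S, which implies both conditions.) -/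
theorem result {S X₁ Y₁ X₂ Y₂ X Y : Scheme.{u}} (f₁ : X₁ ⟶ Y₁) (q₁ : Y₁ ⟶ S)
    (f₂ : X₂ ⟶ Y₂) (q₂ : Y₂ ⟶ S) [Flat q₂] [Flat (f₂ ≫ q₂)]
    (pX₁ : X ⟶ X₁) (pX₂ : X ⟶ X₂) (hX : IsPullback pX₁ pX₂ (f₁ ≫ q₁) (f₂ ≫ q₂))
    (pY₁ : Y ⟶ Y₁) (pY₂ : Y ⟶ Y₂) (hY : IsPullback pY₁ pY₂ q₁ q₂)
    (f : X ⟶ Y) (hf₁ : f ≫ pY₁ = pX₁ ≫ f₁) (hf₂ : f ≫ pY₂ = pX₂ ≫ f₂)
    (E₁ : CochainComplex X₁.Modules ℤ) (a₁ b₁ : ℤ) (h₁ : DerSch.HasTorAmplitude f₁ a₁ b₁ E₁)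
    (E₂ : CochainComplex X₂.Modules ℤ) (a₂ b₂ : ℤ) (h₂ : DerSch.HasTorAmplitude f₂ a₂ b₂ E₂)
    [DCoh.HasLpull pX₁] [DCoh.HasLpull pX₂] :
    ∀ (K₂ : CochainComplex X.Modules ℤ) [DCoh.HasLTensorCx K₂],
      Nonempty (DCoh.toD X K₂ ≅ (DCoh.Lpull pX₂).obj (DCoh.toD X₂ E₂)) →
        DerSch.HasTorAmplitudeD f (a₁ + a₂) (b₁ + b₂) ((DCoh.LTensorCx K₂).obj ((DCoh.Lpull pX₁).obj (DCoh.toD X₁ E₁))) := by
  intro K₂ _ ⟨eK⟩
  let M := pullback q₁ (f₂ ≫ q₂)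
  let m₁ : M ⟶ Y₁ := pullback.fst _ _
  let m₂ : M ⟶ X₂ := pullback.snd _ _
  have hM : IsPullback m₁ m₂ q₁ (f₂ ≫ q₂) := IsPullback.of_hasPullback _ _
  let u : X ⟶ M := hM.lift (pX₁ ≫ f₁) pX₂ (by simpa using hX.w)
  let v : M ⟶ Y := hY.lift m₁ (m₂ ≫ f₂) (by simpa using hM.w)
  have hu₁ : u ≫ m₁ = pX₁ ≫ f₁ := hM.lift_fst _ _ _
  have hu₂ : u ≫ m₂ = pX₂ := hM.lift_snd _ _ _
  have hv₁ : v ≫ pY₁ = m₁ := hY.lift_fst _ _ _
  have hv₂ : v ≫ pY₂ = m₂ ≫ f₂ := hY.lift_snd _ _ _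
  have hf : f = u ≫ v := hY.hom_ext (by rw [Category.assoc, hv₁, hu₁, hf₁])
    (by rw [Category.assoc, hv₂, hf₂, ← Category.assoc, hu₂])
  have H₁ : IsPullback pX₁ u f₁ m₁ := IsPullback.of_bot (by rw [hu₂]; exact hX) hu₁.symm hM
  have H₂ : IsPullback m₂ v f₂ pY₂ := IsPullback.of_bot (by rw [hv₁]; exact hM.flip) hv₂.symm hY.flip
  haveI : Flat m₁ := MorphismProperty.of_isPullback hM.flip ‹Flat (f₂ ≫ q₂)›
  haveI := GrothLib.OX.hasLpull m₂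
  haveI := GrothLib.OX.hasLpull u
  haveI := GrothLib.KSix19.isLE_of_torAmplitude f₁ h₁
  haveI := GrothLib.KSix19.isLE_of_torAmplitude f₂ h₂
  obtain ⟨P₁, t₁, hP₁, hfl₁, ⟨e₁⟩⟩ := GrothLib.KSix19.exists_flat_rep E₁ b₁
  obtain ⟨P₂, t₂, hP₂, hfl₂, ⟨e₂⟩⟩ := GrothLib.KSix19.exists_flat_rep E₂ b₂
  have hk₁ : DCoh.IsKFlat P₁ := GrothLib.OX.isKFlat_of_bounded_above P₁ t₁ hP₁ hfl₁
  have hk₂ : DCoh.IsKFlat P₂ := GrothLib.OX.isKFlat_of_bounded_above P₂ t₂ hP₂ hfl₂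
  let F := ((Scheme.Modules.pullback pX₁).mapHomologicalComplex (ComplexShape.up ℤ)).obj P₁
  let G := ((Scheme.Modules.pullback m₂).mapHomologicalComplex (ComplexShape.up ℤ)).obj P₂
  have hkF : DCoh.IsKFlat F := GrothLib.OX.isKFlat_pullback pX₁ hk₁
  have hkG : DCoh.IsKFlat G := GrothLib.OX.isKFlat_pullback m₂ hk₂
  obtain ⟨vF⟩ := GrothLib.OX.lpull_value pX₁ P₁ hk₁
  obtain ⟨vG⟩ := GrothLib.OX.lpull_value m₂ P₂ hk₂
  obtain ⟨v₂⟩ := GrothLib.OX.lpull_value pX₂ P₂ hk₂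
  obtain ⟨vu⟩ := GrothLib.OX.lpull_value u G hkG
  have hF : DerSch.HasTorAmplitude u a₁ b₁ F :=
    GrothLib.KSix19.hasTorAmplitudeD_lpull_flat H₁ h₁ F ⟨vF.symm ≪≫ (DCoh.Lpull pX₁).mapIso e₁⟩
  have hG : DerSch.HasTorAmplitude v a₂ b₂ G :=
    GrothLib.KSix19.hasTorAmplitudeD_lpull_flat_base hY.flip H₂ h₂ G ⟨vG.symm ≪≫ (DCoh.Lpull m₂).mapIso e₂⟩
  haveI := GrothLib.OX.hasLTensorCx F
  let L := ((Scheme.Modules.pullback u).mapHomologicalComplex (ComplexShape.up ℤ)).obj G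
  let eL : L ≅ ((Scheme.Modules.pullback pX₂).mapHomologicalComplex (ComplexShape.up ℤ)).obj P₂ :=
    (NatIso.mapHomologicalComplex (Scheme.Modules.pullbackComp u m₂ ≪≫ Scheme.Modules.pullbackCongr hu₂)
      (ComplexShape.up ℤ)).app P₂
  obtain ⟨w⟩ := GrothLib.OX.ltensorCx_value_of_isKFlat F hkF K₂
  obtain ⟨w₂⟩ := GrothLib.OX.ltensorCx_value K₂ F hkF
  rw [hf]
  intro W ⟨eW⟩
  refine GrothLib.KSix19.hasTorAmplitudeD_ltensor_lpull u v hF hG W ⟨eW ≪≫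
    (DCoh.LTensorCx K₂).mapIso ((DCoh.Lpull pX₁).mapIso e₁.symm ≪≫ vF) ≪≫ w₂ ≪≫
    DerivedCategory.Q.mapIso (GrothLib.OX.tensorCxSymm K₂ F) ≪≫ w.symm ≪≫
    (DCoh.LTensorCx F).mapIso (eK ≪≫ (DCoh.Lpull pX₂).mapIso e₂.symm ≪≫ v₂ ≪≫
      DerivedCategory.Q.mapIso eL.symm ≪≫ vu.symm)⟩

end Groth.Agent.S6257
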