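import Groth.Statements.S6260
import Groth.Agent.Lib.KSix19.FlatBaseChange2

set_option autoImplicit false
universe u
open CategoryTheory CategoryTheory.Limits AlgebraicGeometry
attribute [local instance] HasDerivedCategory.standard
open KSix

namespace Groth.Agent.S6260

/-- Let S be a scheme and, for i = 1, 2, f_i : X_i ⟶ Y_i a morphism of S-schemes (structure morphisms
q_i : Y_i ⟶ S), with X₂ and Y₂ flat over S; let X = X₁ ×_S X₂ and Y = Y₁ ×_S Y₂ be given by pullback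
squares, with projections p₁ : X ⟶ X₁, p₂ : X ⟶ X₂, and f : X ⟶ Y the morphism compatible with the
projections. If f₁ and f₂ are locally of finite type and pseudo-coherent (their structure sheaves in
degree 0 are n-pseudo-coherent relative to them for every n, in chart form), then f = f₁ ×_S f₂ is
pseudo-coherent. (The published statement assumes only that X₁, X₂ and Y₁, Y₂ are tor-independent
over S; this row takes X₂ and Y₂ flat over S, which implies both conditions.) -/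
theorem result {S X₁ Y₁ X₂ Y₂ X Y : Scheme.{u}} (f₁ : X₁ ⟶ Y₁) (q₁ : Y₁ ⟶ S)
    (f₂ : X₂ ⟶ Y₂) (q₂ : Y₂ ⟶ S) [Flat q₂] [Flat (f₂ ≫ q₂)]
    (pX₁ : X ⟶ X₁) (pX₂ : X ⟶ X₂) (hX : IsPullback pX₁ pX₂ (f₁ ≫ q₁) (f₂ ≫ q₂))
    (pY₁ : Y ⟶ Y₁) (pY₂ : Y ⟶ Y₂) (hY : IsPullback pY₁ pY₂ q₁ q₂)
    (f : X ⟶ Y) (hf₁ : f ≫ pY₁ = pX₁ ≫ f₁) (hf₂ : f ≫ pY₂ = pX₂ ≫ f₂)
    [LocallyOfFiniteType f₁] [LocallyOfFiniteType f₂]
    (h₁ : ∀ n : ℤ, DerSch.IsNPseudoCoherent f₁ n) (h₂ : ∀ n : ℤ, DerSch.IsNPseudoCoherent f₂ n) (n : ℤ) :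
    DerSch.IsNPseudoCoherent f n := by
  let M := pullback q₁ (f₂ ≫ q₂)
  let m₁ : M ⟶ Y₁ := pullback.fst _ _
  let m₂ : M ⟶ X₂ := pullback.snd _ _
  have hM : IsPullback m₁ m₂ q₁ (f₂ ≫ q₂) := IsPullback.of_hasPullback _ _
  let u : X ⟶ M := hM.lift (pX₁ ≫ f₁) pX₂ (by simpa using hX.w)
  let v : M ⟶ Y := hY.lift m₁ (m₂ ≫ f₂) (by simpa using hM.w)
  have hu₁ : u ≫ m₁ = pX₁ ≫ f₁ := hM.lift_fst _ _ _
  have hu₂ : u ≫ m₂ = pX₂ := hM.lift_snd _ _ _
  have hv₁ : v ≫ pY₁ = m₁ := hY.lift_fst _ _ _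
  have hv₂ : v ≫ pY₂ = m₂ ≫ f₂ := hY.lift_snd _ _ _
  have hf : f = u ≫ v := hY.hom_ext (by rw [Category.assoc, hv₁, hu₁, hf₁])
    (by rw [Category.assoc, hv₂, hf₂, ← Category.assoc, hu₂])
  have H₁ : IsPullback pX₁ u f₁ m₁ := IsPullback.of_bot (by rw [hu₂]; exact hX) hu₁.symm hM
  have H₂ : IsPullback m₂ v f₂ pY₂ := IsPullback.of_bot (by rw [hv₁]; exact hM.flip) hv₂.symm hY.flip
  haveI : Flat m₁ := MorphismProperty.of_isPullback hM.flip ‹Flat (f₂ ≫ q₂)›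
  haveI : LocallyOfFiniteType u := MorphismProperty.of_isPullback H₁ ‹LocallyOfFiniteType f₁›
  haveI : LocallyOfFiniteType v := MorphismProperty.of_isPullback H₂ ‹LocallyOfFiniteType f₂›
  rw [hf, show n = max n n from (max_self n).symm]
  exact GrothLib.KSix19.isNPseudoCoherent_comp u v
    (GrothLib.KSix19.isNPseudoCoherent_flat_baseChange H₁ (h₁ n))
    (GrothLib.KSix19.isNPseudoCoherent_baseChange_flat_base hY.flip H₂ h₂ n)

end Groth.Agent.S6260
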