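import Groth.Statements.S6261
import Groth.Agent.Lib.KSix19.ExtTensorPC
-- import your own Groth.Agent.* helpers here

set_option autoImplicit false
universe u
open CategoryTheory CategoryTheory.Limits AlgebraicGeometry
attribute [local instance] HasDerivedCategory.standard
open KSix

namespace Groth.Agent.S6261

/-- Flat first factor: let S be a scheme and, for i = 1, 2, f_i : X_i ⟶ Y_i a morphism of S-schemes
(structure morphisms q_i : Y_i ⟶ S), with X₁ and Y₁ flat over S; let X = X₁ ×_S X₂ and Y = Y₁ ×_S Y₂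
be given by pullback squares, with projections p₁ : X ⟶ X₁, p₂ : X ⟶ X₂, and f : X ⟶ Y the morphism
compatible with the projections; assume f₁ and f₂ locally of finite type. Let E₁ be a cochain
complex of O_{X₁}-modules with perfect amplitude in [a₁, b₁] relative to f₁ (pseudo-coherent
relative to f₁ in chart form and of stalkwise tor amplitude in [a₁, b₁] over the local rings of Y₁),
and E₂ ∈ D(O_{X₂}), given by a cochain complex, pseudo-coherent relative to f₂ and acyclic outside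
[a₂, b₂]. The external derived tensor product E₁ ⊗^L_S E₂ = Lp₁^* E₁ ⊗^L Lp₂^* E₂ is written, the
derived pullbacks being assumed to exist, as Lp₁^* E₁ ⊗^L K₂ for any cochain complex K₂ representing
Lp₂^* E₂ for which the derived tensor product exists. Then E₁ ⊗^L_S E₂ is pseudo-coherent relative
to f and acyclic outside [a₁ + a₂, b₁ + b₂]. (The published statement assumes only that X₁, X₂ and
Y₁, Y₂ are tor-independent over S; as for the acyclicity statement it rests on, that is not enough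
for the lower bound: over the spectrum S of a discrete valuation ring with closed point s, X₁ = Y₁ =
s with E₁ the structure sheaf and X₂ = Y₂ = S with E₂ the residue field at s in degree 0 satisfy
every hypothesis with [a_i, b_i] = [0, 0], yet the external product has nonzero cohomology in degree
-1. This row takes X₁ and Y₁ flat over S.) -/
theorem result {S X₁ Y₁ X₂ Y₂ X Y : Scheme.{u}} (f₁ : X₁ ⟶ Y₁) (q₁ : Y₁ ⟶ S)
    (f₂ : X₂ ⟶ Y₂) (q₂ : Y₂ ⟶ S) [Flat q₁] [Flat (f₁ ≫ q₁)]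
    (pX₁ : X ⟶ X₁) (pX₂ : X ⟶ X₂) (hX : IsPullback pX₁ pX₂ (f₁ ≫ q₁) (f₂ ≫ q₂))
    (pY₁ : Y ⟶ Y₁) (pY₂ : Y ⟶ Y₂) (hY : IsPullback pY₁ pY₂ q₁ q₂)
    (f : X ⟶ Y) (hf₁ : f ≫ pY₁ = pX₁ ≫ f₁) (hf₂ : f ≫ pY₂ = pX₂ ≫ f₂)
    [LocallyOfFiniteType f₁] [LocallyOfFiniteType f₂]
    (E₁ : CochainComplex X₁.Modules ℤ) (a₁ b₁ : ℤ) (h₁ : DerSch.HasPerfAmplitudeRel f₁ a₁ b₁ E₁)
    (E₂ : CochainComplex X₂.Modules ℤ) (a₂ b₂ : ℤ) (h₂ : DerSch.IsPseudoCoherentRelAll f₂ (DCoh.toD X₂ E₂))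
    [(DCoh.toD X₂ E₂).IsGE a₂] [(DCoh.toD X₂ E₂).IsLE b₂] [DCoh.HasLpull pX₁] [DCoh.HasLpull pX₂] :
    ∀ (K₂ : CochainComplex X.Modules ℤ) [DCoh.HasLTensorCx K₂],
      Nonempty (DCoh.toD X K₂ ≅ (DCoh.Lpull pX₂).obj (DCoh.toD X₂ E₂)) →
        DerSch.IsPseudoCoherentRelAll f ((DCoh.LTensorCx K₂).obj ((DCoh.Lpull pX₁).obj (DCoh.toD X₁ E₁))) ∧
          (((DCoh.LTensorCx K₂).obj ((DCoh.Lpull pX₁).obj (DCoh.toD X₁ E₁)))).IsGE (a₁ + a₂) ∧ (((DCoh.LTensorCx K₂).obj ((DCoh.Lpull pX₁).obj (DCoh.toD X₁ E₁)))).IsLE (b₁ + b₂) := by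
  intro K₂ _ ⟨eK⟩
  obtain ⟨K₁, ⟨e₁⟩⟩ := GrothLib.KSix19.exists_rep ((DCoh.Lpull pX₁).obj (DCoh.toD X₁ E₁))
  haveI := GrothLib.OX.hasLTensorCx K₁
  haveI := GrothLib.KSix19.isLE_of_torAmplitude f₁ h₁.2
  have h := GrothLib.KSix19.hasTorAmplitude_comp_flat f₁ q₁ h₁.2
  obtain ⟨s⟩ := GrothLib.KSix19.nonempty_ltensor_symm (K₁ := K₁) (K₂ := K₂) e₁ eK
  refine ⟨fun m => ?_, (DerivedCategory.isGE_iff _ _).2 fun i hi =>
      GrothLib.KSix19.isZero_HD_externalTensor (d := b₂) hX h E₂ K₂ eK (Or.inl hi),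
    (DerivedCategory.isLE_iff _ _).2 fun i hi =>
      GrothLib.KSix19.isZero_HD_externalTensor (c := a₂) hX h E₂ K₂ eK (Or.inr hi)⟩
  have hm := (GrothLib.KSix19.isPseudoCoherentRel_externalTensor f₂ q₂ f₁ q₁ pX₂ pX₁ hX.flip pY₂ pY₁ hY.flip f hf₂ hf₁
    (GrothLib.KSix19.isQCohD_of_relAll h₂) (h₂ (m - b₁)) (b₁ := b₂)
    (GrothLib.KSix19.isQCohD_of_relAll h₁.1) (h₁.1 (m - b₂)) (b₂ := b₁) K₁ e₁).1
  exact GrothLib.KSix19.isPseudoCoherentRel_of_iso s.symm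
    (GrothLib.KSix19.isPseudoCoherentRel_mono (by omega) hm)

end Groth.Agent.S6261
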