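import Groth.Statements.S6263
import Mathlib
-- import your own Groth.Agent.* helpers here

set_option autoImplicit false
universe u
open CAlg

namespace Groth.Agent.S6263

/-- For a ring map R → S and a finite S-module N which is flat as an R-module, generalizations lift
along the map from the support of N (a subset of Spec S) to Spec R: if p ≤ p' are primes of R and q'
is a prime of S in the support of N whose inverse image in R is p', then some prime q ≤ q' of S lies
in the support of N and has inverse image p. -/
theorem result {R S : Type u} [CommRing R] [CommRing S] [Algebra R S] (N : Type u) [AddCommGroup N] [Module S N] [Module R N] [IsScalarTower R S N] [Module.Finite S N] [Module.Flat R N] (p p' : Ideal R) [p.IsPrime] [p'.IsPrime] (hle : p ≤ p') (q' : PrimeSpectrum S) (hq' : q' ∈ Module.support S N) (hover : q'.asIdeal.under R = p') : ∃ q : PrimeSpectrum S, q ≤ q' ∧ q ∈ Module.support S N ∧ q.asIdeal.under R = p := by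
  classical
  let I : Ideal S := p.map (algebraMap R S) ⊔ Module.annihilator S N
  let W : Submonoid S := Algebra.algebraMapSubmonoid S p.primeCompl ⊔ q'.asIdeal.primeCompl
  have hann : Module.annihilator S N ≤ q'.asIdeal := Module.mem_support_iff_of_finite.mp hq'
  have hdisj : Disjoint (I : Set S) (W : Set S) := by
    rw [Set.disjoint_left]
    intro x hxI hxW
    obtain ⟨_, ⟨r, hr, rfl⟩, s, hs, rfl⟩ := Submonoid.mem_sup.mp hxW
    obtain ⟨π, hπ, a, ha, hsum⟩ := Submodule.mem_sup.mp hxI
    have hrs : ∀ n : N, algebraMap R S r • (s • n) ∈ (p.map (algebraMap R S) • (⊤ : Submodule S N)) := fun n ↦ by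
      rw [← mul_smul, ← hsum, add_smul, Module.mem_annihilator.mp ha n, add_zero]
      exact Submodule.smul_mem_smul hπ Submodule.mem_top
    have hres : (p.map (algebraMap R S) • (⊤ : Submodule S N)).restrictScalars R = p • (⊤ : Submodule R N) := by
      rw [Ideal.smul_restrictScalars]; rfl
    have hr0 : IsSMulRegular (R ⧸ p) r := fun a b hab ↦ by
      obtain ⟨a, rfl⟩ := Ideal.Quotient.mk_surjective a
      obtain ⟨b, rfl⟩ := Ideal.Quotient.mk_surjective b
      have h2 : Ideal.Quotient.mk p (r * a) = Ideal.Quotient.mk p (r * b) := hab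
      rw [Ideal.Quotient.eq, ← mul_sub] at h2
      exact Ideal.Quotient.eq.mpr (((‹p.IsPrime›).mem_or_mem h2).resolve_left hr)
    have hinj : Function.Injective ((DistribSMul.toLinearMap R (R ⧸ p) r).rTensor N) :=
      Module.Flat.rTensor_preserves_injective_linearMap _ hr0
    have hreg : IsSMulRegular (N ⧸ (p • (⊤ : Submodule R N))) r := by
      let e := TensorProduct.quotTensorEquivQuotSMul N p
      intro a b hab
      apply e.symm.injective
      apply hinj
      have key : ∀ z, (DistribSMul.toLinearMap R (R ⧸ p) r).rTensor N z = r • z := fun z ↦ by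
        induction z using TensorProduct.induction_on with
        | zero => simp
        | tmul a n => rw [LinearMap.rTensor_tmul, TensorProduct.smul_tmul']; rfl
        | add a b ha hb => rw [map_add, ha, hb, smul_add]
      rw [key, key, ← map_smul, ← map_smul]
      exact congrArg e.symm hab
    have hsN : ∀ n : N, s • n ∈ q'.asIdeal • (⊤ : Submodule S N) := fun n ↦ by
      have h1 : r • (s • n) ∈ p • (⊤ : Submodule R N) := by
        rw [← hres, Submodule.restrictScalars_mem, ← algebraMap_smul S r (s • n)]; exact hrs n
      have h2 : s • n ∈ p • (⊤ : Submodule R N) := by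
        rw [← Submodule.Quotient.mk_eq_zero]
        apply hreg
        show r • Submodule.Quotient.mk (s • n) = r • (0 : N ⧸ (p • (⊤ : Submodule R N)))
        rw [smul_zero, ← Submodule.Quotient.mk_smul, (Submodule.Quotient.mk_eq_zero _).mpr h1]
      rw [← hres, Submodule.restrictScalars_mem] at h2
      have hpq : p.map (algebraMap R S) ≤ q'.asIdeal :=
        Ideal.map_le_iff_le_comap.mpr (hle.trans hover.ge)
      exact Submodule.smul_mono hpq le_rfl h2
    -- Nakayama
    obtain ⟨t, ht, ht'⟩ : ∃ t : S, t ∉ q'.asIdeal ∧ ∀ n : N, t • n = 0 := by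
      obtain ⟨k, g, hg⟩ := Module.Finite.exists_fin (R := S) (M := N)
      have hrep : ∀ i, ∃ c : Fin k → S, (∀ j, c j ∈ q'.asIdeal) ∧ ∑ j, c j • g j = s • g i := fun i ↦ by
        have h1 := hsN (g i)
        rw [← hg, Submodule.mem_ideal_smul_span_iff_exists_sum] at h1
        obtain ⟨c, hc, hsum⟩ := h1
        exact ⟨c, hc, by rw [← hsum, Finsupp.sum_fintype]; simp⟩
      choose C hC hCsum using hrep
      let M : Matrix (Fin k) (Fin k) S := Matrix.scalar (Fin k) s - Matrix.of C
      have hM : ∀ i, ∑ j, M i j • g j = 0 := fun i ↦ by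
        simp only [M, Matrix.sub_apply, Matrix.of_apply, sub_smul, Finset.sum_sub_distrib, hCsum]
        simp [Matrix.diagonal_apply, ite_smul]
      refine ⟨M.det, fun hdet ↦ hs (q'.2.mem_of_pow_mem k ?_), fun n ↦ ?_⟩
      · have : M.map (Ideal.Quotient.mk q'.asIdeal) = Matrix.scalar (Fin k) (Ideal.Quotient.mk q'.asIdeal s) := by
          ext i j
          simp [M, Ideal.Quotient.eq_zero_iff_mem.mpr (hC i j), Matrix.diagonal_apply, apply_ite (Ideal.Quotient.mk q'.asIdeal)]
        have h3 := RingHom.map_det (Ideal.Quotient.mk q'.asIdeal) M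
        rw [RingHom.mapMatrix_apply, this, Matrix.scalar_apply, Matrix.det_diagonal, Finset.prod_const, Finset.card_univ, Fintype.card_fin, Ideal.Quotient.eq_zero_iff_mem.mpr hdet, ← map_pow] at h3
        exact Ideal.Quotient.eq_zero_iff_mem.mp h3.symm
      · have hn : n ∈ Submodule.span S (Set.range g) := hg ▸ Submodule.mem_top
        induction hn using Submodule.span_induction with
        | mem x hx =>
          obtain ⟨i, rfl⟩ := hx
          have hadj : ∑ j, (M.adjugate * M) i j • g j = 0 := by
            simp only [Matrix.mul_apply, Finset.sum_smul]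
            rw [Finset.sum_comm]
            simp [mul_smul, ← Finset.smul_sum, hM]
          rw [Matrix.adjugate_mul] at hadj
          simpa [Matrix.smul_apply, Matrix.one_apply, ite_smul] using hadj
        | zero => simp
        | add x y _ _ hx hy => rw [smul_add, hx, hy, add_zero]
        | smul a x _ hx => rw [smul_comm, hx, smul_zero]
    exact ht (hann (Module.mem_annihilator.mpr ht'))
  obtain ⟨Q, hQ, hle', hd⟩ := Ideal.exists_le_prime_disjoint I W hdisj
  refine ⟨⟨Q, hQ⟩, fun x hx ↦ ?_, Module.mem_support_iff_of_finite.mpr (le_sup_right.trans hle'), ?_⟩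
  · by_contra h
    exact Set.disjoint_left.mp hd hx ((le_sup_right : _ ≤ W) h)
  · refine le_antisymm (fun r hr ↦ ?_) (Ideal.map_le_iff_le_comap.mp (le_sup_left.trans hle'))
    by_contra h
    exact Set.disjoint_left.mp hd hr ((le_sup_left : _ ≤ W) ⟨r, h, rfl⟩)

end Groth.Agent.S6263
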