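import Groth.Statements.S6265
import Mathlib
-- import your own Groth.Agent.* helpers here

set_option autoImplicit false
universe u
open CAlg

namespace Groth.Agent.S6265

/-- Let R → S be a ring map with the going-down property such that over every prime of R lies at most
one prime of S, and let p be a prime of R and q a prime of S above it. Then the localization S_p of
S at the image of R - p is a localization of S at q, i.e. S_p = S_q. -/
theorem result {R S : Type u} [CommRing R] [CommRing S] [Algebra R S] [Algebra.HasGoingDown R S] (hinj : ∀ q₁ q₂ : Ideal S, q₁.IsPrime → q₂.IsPrime → q₁.under R = q₂.under R → q₁ = q₂) (p : Ideal R) [p.IsPrime] (q : Ideal S) [q.IsPrime] [q.LiesOver p] : IsLocalization.AtPrime (Localization (Algebra.algebraMapSubmonoid S p.primeCompl)) q := by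
  refine IsLocalization.isLocalization_of_is_exists_mul_mem _ (Algebra.algebraMapSubmonoid S p.primeCompl) q.primeCompl ?_ ?_
  · rintro _ ⟨r, hr, rfl⟩ h
    exact hr ((Ideal.mem_of_liesOver q p r).mpr h)
  · intro s
    by_contra hc
    push Not at hc
    obtain ⟨Q, hQ, hle, hdisj⟩ := Ideal.exists_le_prime_disjoint (Ideal.span {(s : S)}) (Algebra.algebraMapSubmonoid S p.primeCompl) (by
      rw [Set.disjoint_left]
      intro x hx hx'
      obtain ⟨t, rfl⟩ := Ideal.mem_span_singleton'.mp hx
      exact hc t hx')
    have hQp : Q.under R ≤ p := fun r hr ↦ by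
      by_contra h
      exact Set.disjoint_left.mp hdisj hr ⟨r, h, rfl⟩
    obtain ⟨Q', hQ'q, hQ'prime, hQ'⟩ := Ideal.exists_ideal_le_liesOver_of_le (S := S) (p := Q.under R) (q := p) q hQp
    rw [hinj Q' Q hQ'prime hQ hQ'.over.symm] at hQ'q
    exact s.2 (hQ'q (hle (Ideal.subset_span rfl)))

end Groth.Agent.S6265
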