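import Groth.Statements.S6267
import Groth.Agent.Lib.UnivInj.Basic
-- import your own Groth.Agent.* helpers here

set_option autoImplicit false
universe u
open CAlg

namespace Groth.Agent.S6267
open TensorProduct

/-- Let R be a ring and f : M → M' a map of R-modules with M' flat. Then f is universally injective
exactly when, for each finitely generated ideal I of R, the induced map M ⊗ R/I → M' ⊗ R/I (that is,
M/IM → M'/IM') is injective. -/
theorem result {R : Type u} [CommRing R] {M M' : Type u} [AddCommGroup M] [Module R M] [AddCommGroup M'] [Module R M'] [Module.Flat R M'] (f : M →ₗ[R] M') : CAlgX.UniversallyInjective R f ↔ ∀ I : Ideal R, I.FG → Function.Injective (f.rTensor (R ⧸ I)) := by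
  refine ⟨fun h I _ => h _, fun h => ?_⟩
  have hinj : Function.Injective f := fun a b hab => by
    have h1 := h ⊥ Submodule.fg_bot (a₁ := a ⊗ₜ 1) (a₂ := b ⊗ₜ 1) (by simp [hab])
    have h2 := congrArg (fun t => TensorProduct.rid R M (LinearMap.lTensor M (Submodule.quotEquivOfEqBot (⊥ : Ideal R) rfl).toLinearMap t)) h1
    simpa [show (Submodule.quotEquivOfEqBot (⊥ : Ideal R) rfl) 1 = 1 from rfl] using h2
  have hflat : Module.Flat R (M' ⧸ LinearMap.range f) :=
    GrothLib.UnivInj.flat_quotient (LinearMap.exact_map_mkQ_range f) (Submodule.mkQ_surjective _) h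
  exact GrothLib.UnivInj.of_flat_quotient hinj (LinearMap.exact_map_mkQ_range f) (Submodule.mkQ_surjective _)

end Groth.Agent.S6267
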