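import Groth.Statements.S6268
import Groth.Agent.Lib.UnivInj.Basic
-- import your own Groth.Agent.* helpers here

set_option autoImplicit false
universe u
open CAlg

namespace Groth.Agent.S6268
open TensorProduct

/-- Suppose the structure map R → S of an R-algebra S is universally injective as an R-linear map. Then
tensoring with S detects injectivity and surjectivity of R-linear maps (and hence reflects
isomorphisms): for an R-linear g : M → N, if S ⊗ g is injective then so is g, and if S ⊗ g is
surjective then so is g. -/
theorem result {R S : Type u} [CommRing R] [CommRing S] [Algebra R S] (hS : CAlgX.UniversallyInjective R (Algebra.linearMap R S)) {M N : Type u} [AddCommGroup M] [Module R M] [AddCommGroup N] [Module R N] (g : M →ₗ[R] N) : (Function.Injective (g.lTensor S) → Function.Injective g) ∧ (Function.Surjective (g.lTensor S) → Function.Surjective g) := by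
  have hinj : ∀ (X : Type u) [AddCommGroup X] [Module R X],
      Function.Injective (fun x : X => (1 : S) ⊗ₜ[R] x) := fun X _ _ a b hab => by
    have h1 := hS X (a₁ := (1 : R) ⊗ₜ a) (a₂ := (1 : R) ⊗ₜ b) (by simpa using hab)
    simpa using congrArg (TensorProduct.lid R X) h1
  refine ⟨fun h a b hab => hinj M (h (by simp [hab])), fun h => ?_⟩
  rw [← LinearMap.range_eq_top, Submodule.eq_top_iff']
  intro n
  rw [← Submodule.Quotient.mk_eq_zero]
  refine hinj (N ⧸ LinearMap.range g) ?_
  obtain ⟨t, ht⟩ := h ((1 : S) ⊗ₜ n)
  show (1 : S) ⊗ₜ[R] (Submodule.Quotient.mk n : N ⧸ LinearMap.range g) = (1 : S) ⊗ₜ[R] (0 : N ⧸ LinearMap.range g)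
  rw [TensorProduct.tmul_zero]
  calc (1 : S) ⊗ₜ[R] (Submodule.Quotient.mk n : N ⧸ LinearMap.range g)
      = LinearMap.lTensor S (LinearMap.range g).mkQ (LinearMap.lTensor S g t) := by
        rw [ht, LinearMap.lTensor_tmul, Submodule.mkQ_apply]
    _ = 0 := by
        rw [← LinearMap.comp_apply, ← LinearMap.lTensor_comp, LinearMap.range_mkQ_comp, LinearMap.lTensor_zero,
          LinearMap.zero_apply]

end Groth.Agent.S6268
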