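import Groth.Statements.S6270
import Mathlib.RingTheory.Flat.EquationalCriterion
import Mathlib.RingTheory.Idempotents
import Mathlib.LinearAlgebra.TensorProduct.Quotient

set_option autoImplicit false
universe u
open scoped TensorProduct
open CAlg

namespace Groth.Agent.S6270

/-- Let R be a ring, I ⊆ R a nilpotent ideal and M an R-module. If M is flat over R and M/IM (that is,
R/I ⊗ M) is a projective R/I-module, then M is a projective R-module. -/
theorem result {R : Type u} [CommRing R] (I : Ideal R) (hI : IsNilpotent I) (M : Type u) [AddCommGroup M] [Module R M] [Module.Flat R M] (hproj : Module.Projective (R ⧸ I) ((R ⧸ I) ⊗[R] M)) : Module.Projective R M := by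
  classical
  obtain ⟨N, hN⟩ := hI
  -- free cover
  let F := M →₀ R
  let π : F →ₗ[R] M := Finsupp.linearCombination R id
  have hπ : Function.Surjective π := Finsupp.linearCombination_id_surjective R M
  let J : Submodule R F := I • ⊤
  let mk : F →ₗ[R] F ⧸ J := J.mkQ
  -- the section modulo `I`
  haveI := hproj
  have hs1 := Module.projective_lifting_property
    (LinearMap.baseChange (R ⧸ I) π) (LinearMap.id : (R ⧸ I) ⊗[R] M →ₗ[R ⧸ I] (R ⧸ I) ⊗[R] M)
    (by exact LinearMap.lTensor_surjective _ hπ)
  obtain ⟨s1, hs1⟩ := hs1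
  let εF := TensorProduct.quotTensorEquivQuotSMul F I
  let σ : M →ₗ[R] F ⧸ J := εF.toLinearMap ∘ₗ (s1.restrictScalars R) ∘ₗ TensorProduct.mk R (R ⧸ I) M 1
  let π0 : F ⧸ J →ₗ[R] M ⧸ I • (⊤ : Submodule R M) := J.mapQ _ π (by
    rw [← Submodule.map_le_iff_le_comap, Submodule.map_smul'']
    exact Submodule.smul_mono le_rfl le_top)
  have hσ : ∀ y, π0 (σ y) = Submodule.Quotient.mk y := by
    have key : π0 ∘ₗ εF.toLinearMap =
        (TensorProduct.quotTensorEquivQuotSMul M I).toLinearMap ∘ₗ π.lTensor (R ⧸ I) := by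
      apply TensorProduct.ext'
      intro r x
      obtain ⟨r, rfl⟩ := Ideal.Quotient.mk_surjective r
      simp [εF, π0]
    intro y
    have h1 := LinearMap.congr_fun key (s1 (1 ⊗ₜ[R] y))
    have h2 : π.lTensor (R ⧸ I) (s1 (1 ⊗ₜ[R] y)) = 1 ⊗ₜ[R] y :=
      LinearMap.congr_fun hs1 (1 ⊗ₜ[R] y)
    simp only [LinearMap.comp_apply, LinearEquiv.coe_coe, h2] at h1
    rw [TensorProduct.quotTensorEquivQuotSMul_mk_one_tmul] at h1
    exact h1
  obtain ⟨φ, hφ⟩ := Module.projective_lifting_property mk (σ ∘ₗ π) J.mkQ_surjective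
  -- the ring map to endomorphisms of the reduction
  have hJ : ∀ ψ : F →ₗ[R] F, J ≤ J.comap ψ := fun ψ => by
    rw [← Submodule.map_le_iff_le_comap, Submodule.map_smul'']
    exact Submodule.smul_mono le_rfl le_top
  let Ψ : Module.End R F →+* Module.End R (F ⧸ J) :=
    { toFun := fun ψ => J.mapQ J ψ (hJ ψ)
      map_one' := by apply Submodule.linearMap_qext; ext; simp
      map_mul' := fun a b => by apply Submodule.linearMap_qext; ext; simp
      map_zero' := by apply Submodule.linearMap_qext; ext; simp
      map_add' := fun a b => by apply Submodule.linearMap_qext; ext; simp }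
  have hΨ : ∀ (ψ : Module.End R F) (x : F), Ψ ψ (mk x) = mk (ψ x) := fun ψ x => rfl
  have hnil : ∀ ψ ∈ RingHom.ker Ψ, IsNilpotent ψ := by
    intro ψ hψ
    have h1 : LinearMap.range ψ ≤ I • ⊤ := by
      rintro _ ⟨x, rfl⟩
      have := LinearMap.congr_fun (RingHom.mem_ker.1 hψ) (mk x)
      rw [hΨ, LinearMap.zero_apply] at this
      exact (Submodule.Quotient.mk_eq_zero J).1 this
    have h2 : ∀ k : ℕ, LinearMap.range (ψ ^ k) ≤ I ^ k • ⊤ := by
      intro k
      induction k with
      | zero => simp
      | succ k ih =>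
        rw [pow_succ', Module.End.mul_eq_comp, LinearMap.range_comp]
        refine (Submodule.map_mono ih).trans ?_
        rw [Submodule.map_smul'', Submodule.map_top, pow_succ, Submodule.mul_smul]
        exact Submodule.smul_mono le_rfl h1
    refine ⟨N, ?_⟩
    have := h2 N
    rw [hN, Submodule.zero_eq_bot, Submodule.bot_smul] at this
    exact LinearMap.range_eq_bot.1 (le_bot_iff.1 this)
  have hφ' : ∀ x, mk (φ x) = σ (π x) := LinearMap.congr_fun hφ
  have hσI : ∀ y ∈ I • (⊤ : Submodule R M), σ y = 0 := by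
    intro y hy
    refine Submodule.smul_induction_on hy (fun r hr z _ => ?_) (fun a b ha hb => by
      rw [map_add, ha, hb, add_zero])
    obtain ⟨w, hw⟩ := J.mkQ_surjective (σ z)
    rw [map_smul, ← hw, ← map_smul]
    exact (Submodule.Quotient.mk_eq_zero J).2 (Submodule.smul_mem_smul hr Submodule.mem_top)
  have hidem : IsIdempotentElem (Ψ φ) := by
    apply Submodule.linearMap_qext
    refine LinearMap.ext fun x => ?_
    change Ψ φ (Ψ φ (mk x)) = Ψ φ (mk x)
    rw [hΨ, hΨ, hφ', hφ']
    have h1 : π0 (mk (φ x)) = Submodule.Quotient.mk (π x) := by rw [hφ', hσ]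
    have h2 : π (φ x) - π x ∈ I • (⊤ : Submodule R M) :=
      (Submodule.Quotient.eq _).1 h1
    have h3 := hσI _ h2
    rwa [map_sub, sub_eq_zero] at h3
  obtain ⟨e, he, hΨe⟩ := exists_isIdempotentElem_eq_of_ker_isNilpotent Ψ hnil _ ⟨φ, rfl⟩ hidem
  have hmke : ∀ x, mk (e x) = σ (π x) := fun x => by rw [← hΨ, hΨe, hΨ, hφ']
  have hee : ∀ x, e (e x) = e x := fun x => LinearMap.congr_fun he x
  -- `π` restricted to the image of `e` is bijective
  let P : Submodule R F := LinearMap.range e
  have hsurj : Submodule.map π P = ⊤ := by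
    have h1 : (⊤ : Submodule R M) ≤ Submodule.map π P ⊔ I • ⊤ := by
      intro y _
      obtain ⟨x, rfl⟩ := hπ y
      refine Submodule.mem_sup.2 ⟨π (e x), ⟨e x, ⟨x, rfl⟩, rfl⟩, π x - π (e x), ?_, by abel⟩
      apply (Submodule.Quotient.eq _).1
      calc Submodule.Quotient.mk (π x) = π0 (σ (π x)) := (hσ _).symm
        _ = π0 (mk (e x)) := by rw [hmke]
        _ = Submodule.Quotient.mk (π (e x)) := rfl
    have h2 : ∀ k : ℕ, (⊤ : Submodule R M) ≤ Submodule.map π P ⊔ I ^ k • ⊤ := by
      intro k
      induction k with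
      | zero => simp
      | succ k ih =>
        refine ih.trans (sup_le le_sup_left ((Submodule.smul_mono le_rfl h1).trans ?_))
        rw [Submodule.smul_sup, pow_succ, Submodule.mul_smul]
        exact sup_le_sup Submodule.smul_le_right le_rfl
    have := h2 N
    rw [hN, Submodule.zero_eq_bot, Submodule.bot_smul, sup_bot_eq] at this
    exact top_le_iff.1 this
  let L : Submodule R F := LinearMap.ker π ⊓ P
  have hL : L ≤ I • L := by
    intro x hx
    obtain ⟨hx1, hx2⟩ := hx
    obtain ⟨x0, rfl⟩ := hx2
    rw [SetLike.mem_coe, LinearMap.mem_ker] at hx1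
    have h1 : e x0 ∈ I • (⊤ : Submodule R F) := by
      have := hmke (e x0)
      rw [hee, hx1, map_zero] at this
      exact (Submodule.Quotient.mk_eq_zero J).1 this
    have h2 : e x0 ∈ I • P := by
      have := Submodule.mem_map_of_mem (f := e) h1
      rwa [hee, Submodule.map_smul'', Submodule.map_top] at this
    have h2' : e x0 ∈ I • Submodule.span R (Set.range (Subtype.val : P → F)) := by
      rw [Subtype.range_coe, Submodule.span_eq]; exact h2
    obtain ⟨a, ha, hax⟩ := (Submodule.mem_ideal_smul_span_iff_exists_sum I _ _).1 h2'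
    let ι := {i // i ∈ a.support}
    have hrel : ∑ i : ι, a i.1 • π (i.1 : F) = 0 := by
      rw [← hx1, ← hax, Finsupp.sum, map_sum]
      simp only [map_smul]
      exact Finset.sum_coe_sort a.support (fun i => a i • π i)
    obtain ⟨n, c, y, hy, hc⟩ := Module.Flat.isTrivialRelation_of_sum_smul_eq_zero hrel
    have hz : ∀ j, ∃ z ∈ P, π z = y j := fun j => by
      have := (hsurj ▸ Submodule.mem_top : y j ∈ Submodule.map π P)
      exact Submodule.mem_map.1 this
    choose z hzP hzy using hz
    have h3 : e x0 = ∑ i : ι, a i.1 • ((i.1 : F) - ∑ j, c i j • z j) := by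
      simp only [smul_sub, Finset.smul_sum, smul_smul, Finset.sum_sub_distrib]
      rw [Finset.sum_comm]
      simp only [← Finset.sum_smul, hc, zero_smul, Finset.sum_const_zero, sub_zero]
      rw [← hax, Finsupp.sum, ← Finset.sum_coe_sort]
    rw [h3]
    refine Submodule.sum_mem _ fun i _ => Submodule.smul_mem_smul (ha i.1) ⟨?_, ?_⟩
    · rw [SetLike.mem_coe, LinearMap.mem_ker, map_sub, map_sum]
      simp only [map_smul, hzy, ← hy i, sub_self]
    · exact P.sub_mem i.1.2 (P.sum_mem fun j _ => P.smul_mem _ (hzP j))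
  have hL0 : L = ⊥ := by
    have : ∀ k : ℕ, L ≤ I ^ k • L := by
      intro k
      induction k with
      | zero => simp
      | succ k ih =>
        refine ih.trans ((Submodule.smul_mono le_rfl hL).trans ?_)
        rw [pow_succ, Submodule.mul_smul]
    have := this N
    rwa [hN, Submodule.zero_eq_bot, Submodule.bot_smul, le_bot_iff] at this
  have hbij : Function.Bijective (π ∘ₗ P.subtype) := by
    constructor
    · rw [injective_iff_map_eq_zero]
      intro x hx
      have : (x : F) ∈ L := ⟨hx, x.2⟩
      rw [hL0, Submodule.mem_bot] at this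
      simpa using this
    · rw [← LinearMap.range_eq_top, LinearMap.range_comp, Submodule.range_subtype, hsurj]
  haveI : Module.Projective R P := Module.Projective.of_split P.subtype e.rangeRestrict (by
    ext ⟨x, x0, rfl⟩
    simp [hee])
  exact Module.Projective.of_equiv (LinearEquiv.ofBijective _ hbij)

end Groth.Agent.S6270
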