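import Groth.Statements.S6271
import Mathlib
-- import your own Groth.Agent.* helpers here

set_option autoImplicit false
universe u
open scoped TensorProduct
open CAlg

namespace Groth.Agent.S6271

/-- Let R be a ring, I ⊆ R a locally nilpotent ideal (every element of I is nilpotent) and P̄ a finite
projective R/I-module. Then there is a finite projective R-module P such that P/IP (that is, R/I ⊗
P) is isomorphic to P̄ as an R/I-module. -/
theorem result {R : Type u} [CommRing R] (I : Ideal R) (hI : ∀ x ∈ I, IsNilpotent x) (Pb : Type u) [AddCommGroup Pb] [Module (R ⧸ I) Pb] [Module.Projective (R ⧸ I) Pb] [Module.Finite (R ⧸ I) Pb] : ∃ (P : Type u) (_ : AddCommGroup P) (_ : Module R P), Module.Projective R P ∧ Module.Finite R P ∧ Nonempty (((R ⧸ I) ⊗[R] P) ≃ₗ[R ⧸ I] Pb) := by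
  classical
  obtain ⟨n, g, hg⟩ := Module.Finite.exists_fin' (R ⧸ I) Pb
  obtain ⟨σ, hσ⟩ := Module.projective_lifting_property g LinearMap.id hg
  have hgσ : ∀ x, g (σ x) = x := fun x => LinearMap.congr_fun hσ x
  let Ψ : Matrix (Fin n) (Fin n) R →+* Matrix (Fin n) (Fin n) (R ⧸ I) := (Ideal.Quotient.mk I).mapMatrix
  have hnil : ∀ x ∈ RingHom.ker Ψ, IsNilpotent x := by
    intro x hx
    let J : Ideal R := Ideal.span (Set.range fun p : Fin n × Fin n => x p.1 p.2)
    have hJI : J ≤ nilradical R := by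
      rw [Ideal.span_le]
      rintro _ ⟨p, rfl⟩
      refine hI _ (Ideal.Quotient.eq_zero_iff_mem.mp ?_)
      exact congrFun (congrFun hx p.1) p.2
    have hfg : J.FG := Submodule.fg_span (Set.finite_range _)
    obtain ⟨k, hk⟩ := Ideal.exists_pow_le_of_le_radical_of_fg (J := (⊥ : Ideal R)) (by simpa [nilradical] using hJI) hfg
    refine ⟨k, ?_⟩
    have hmem : ∀ m i j, (x ^ m) i j ∈ J ^ m := by
      intro m
      induction m with
      | zero => intro i j; simp
      | succ m ih =>
        intro i j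
        rw [pow_succ x m, Matrix.mul_apply]
        refine Ideal.sum_mem _ fun l _ => ?_
        rw [pow_succ J m]
        exact Ideal.mul_mem_mul (ih i l) (Ideal.subset_span ⟨(l, j), rfl⟩)
    ext i j
    simpa using hk (hmem k i j)
  let E : Matrix (Fin n) (Fin n) (R ⧸ I) := LinearMap.toMatrix' (σ ∘ₗ g)
  have hE : IsIdempotentElem E := by
    show E * E = E
    rw [← LinearMap.toMatrix'_comp]
    congr 1
    ext x
    simp [hgσ]
  have hEr : E ∈ Ψ.range := by
    choose b hb using fun i j => Ideal.Quotient.mk_surjective (E i j)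
    exact ⟨Matrix.of b, by ext i j; simp [Ψ, hb]⟩
  obtain ⟨e, he, hee⟩ := exists_isIdempotentElem_eq_of_ker_isNilpotent Ψ hnil E hEr hE
  let red : (Fin n → R) →ₗ[R] (Fin n → R ⧸ I) := (Algebra.linearMap R (R ⧸ I)).compLeft (Fin n)
  have hred : ∀ v, red (e.mulVecLin v) = σ (g (red v)) := by
    intro v
    have h1 : red (e.mulVecLin v) = E.mulVec (red v) := by
      rw [← hee]
      ext i
      exact RingHom.map_mulVec (Ideal.Quotient.mk I) e v i
    rw [h1, ← Matrix.toLin'_apply, Matrix.toLin'_toMatrix', LinearMap.comp_apply]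
  letI : Module R Pb := Module.compHom Pb (Ideal.Quotient.mk I)
  haveI : IsScalarTower R (R ⧸ I) Pb := IsScalarTower.of_algebraMap_smul fun _ _ => rfl
  let P := LinearMap.range e.mulVecLin
  have hfix : ∀ v, e.mulVecLin (e.mulVecLin v) = e.mulVecLin v := fun v => by
    rw [Matrix.mulVecLin_apply, Matrix.mulVecLin_apply, Matrix.mulVec_mulVec, he]
  haveI : Module.Finite R P := Module.Finite.range _
  have hP : Module.Projective R P := Module.Projective.of_split P.subtype e.mulVecLin.rangeRestrict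
    (LinearMap.ext fun ⟨_, v, rfl⟩ => Subtype.ext (hfix v))
  let L : P →ₗ[R] Pb := g.restrictScalars R ∘ₗ red ∘ₗ P.subtype
  refine ⟨P, inferInstance, inferInstance, hP, inferInstance,
    ⟨LinearEquiv.ofBijective (L.liftBaseChange (R ⧸ I)) ⟨?_, fun x => ?_⟩⟩⟩
  · refine (injective_iff_map_eq_zero _).2 fun t ht => ?_
    obtain ⟨p, rfl⟩ : ∃ p : P, (1 : R ⧸ I) ⊗ₜ[R] p = t :=
      TensorProduct.mk_surjective R P (R ⧸ I) Ideal.Quotient.mk_surjective t
    obtain ⟨w, v, rfl⟩ := p
    rw [LinearMap.liftBaseChange_tmul, one_smul] at ht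
    have h1 : red (e.mulVecLin v) = 0 := by
      rw [← hfix v, hred]
      have : g (red (e.mulVecLin v)) = 0 := ht
      rw [this, map_zero]
    have h2 : (⟨e.mulVecLin v, v, rfl⟩ : P) =
        ∑ i, (e.mulVecLin v i) • (⟨e.mulVecLin (Pi.single i 1), _, rfl⟩ : P) := by
      ext1
      rw [Submodule.coe_sum]
      simp only [Submodule.coe_smul, ← map_smul, ← map_sum]
      rw [← pi_eq_sum_univ' (e.mulVecLin v), hfix]
    rw [h2, TensorProduct.tmul_sum]
    refine Finset.sum_eq_zero fun i _ => ?_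
    rw [← TensorProduct.smul_tmul, Algebra.smul_def, mul_one]
    have h3 : algebraMap R (R ⧸ I) (e.mulVecLin v i) = 0 := congrFun h1 i
    rw [h3, TensorProduct.zero_tmul]
  · obtain ⟨w, rfl⟩ := hg x
    choose v hv using fun i => Ideal.Quotient.mk_surjective (w i)
    refine ⟨(1 : R ⧸ I) ⊗ₜ[R] ⟨e.mulVecLin v, v, rfl⟩, ?_⟩
    rw [LinearMap.liftBaseChange_tmul, one_smul]
    show g (red (e.mulVecLin v)) = g w
    rw [hred, hgσ]
    congr 1
    ext i
    exact hv i

end Groth.Agent.S6271
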