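import Groth.Statements.S6272
import Mathlib
-- import your own Groth.Agent.* helpers here

set_option autoImplicit false
universe u
open scoped TensorProduct
open CAlg

namespace Groth.Agent.S6272

open scoped TensorProduct

theorem kills {R : Type u} [CommRing R] (I : Ideal R) (M : Type u) [AddCommGroup M] [Module R M]
    (r : R) (hr : r ∈ I) (a : M ⧸ (I • ⊤ : Submodule R M)) : r • a = 0 := by
  obtain ⟨a, rfl⟩ := Submodule.Quotient.mk_surjective _ a
  rw [← Submodule.Quotient.mk_smul, Submodule.Quotient.mk_eq_zero]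
  exact Submodule.smul_mem_smul hr trivial

theorem free_cover {R : Type u} [CommRing R] (I J : Ideal R) (hIJ : I ⊓ J = ⊥) (P : Type u)
    [AddCommGroup P] [Module R P] :
    ∃ (F : Type u) (_ : AddCommGroup F) (_ : Module R F) (_ : Module.Projective R F) (π : F →ₗ[R] P),
      Function.Surjective π ∧ ∀ f : F, f ∈ (I • ⊤ : Submodule R F) → f ∈ (J • ⊤ : Submodule R F) → f = 0 := by
  refine ⟨P →₀ R, inferInstance, inferInstance, inferInstance, Finsupp.linearCombination R id,
    fun x => ⟨Finsupp.single x 1, (Finsupp.linearCombination_single R 1 x).trans (one_smul R x)⟩, fun f a b => ?_⟩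
  have coord : ∀ (L : Ideal R) (g : P →₀ R), g ∈ (L • ⊤ : Submodule R (P →₀ R)) → ∀ i, g i ∈ L := fun L g hg i =>
    Submodule.smul_induction_on (p := fun g : P →₀ R => g i ∈ L) hg
      (fun r hr m _ => by rw [Finsupp.smul_apply]; exact L.mul_mem_right _ hr)
      (fun u v hu hv => by rw [Finsupp.add_apply]; exact L.add_mem hu hv)
  ext i
  have h3 : f i ∈ I ⊓ J := ⟨coord I f a i, coord J f b i⟩
  rw [hIJ] at h3
  simpa using h3

theorem lift {R : Type u} [CommRing R] (I : Ideal R) (P : Type u) [AddCommGroup P] [Module R P]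
    (hI : Module.Projective (R ⧸ I) ((R ⧸ I) ⊗[R] P)) (A B : Type u) [AddCommGroup A] [Module R A]
    [AddCommGroup B] [Module R B] (hA : ∀ r ∈ I, ∀ a : A, r • a = 0) (g : A →ₗ[R] B)
    (hg : Function.Surjective g) (f : P →ₗ[R] B) : ∃ f' : P →ₗ[R] A, g ∘ₗ f' = f := by
  have hB : ∀ r ∈ I, ∀ b : B, r • b = 0 := fun r hr b => by
    obtain ⟨a, rfl⟩ := hg b
    rw [← map_smul, hA r hr, map_zero]
  have tA : Module.IsTorsionBySet R A I := fun a r => hA r.1 r.2 a
  have tB : Module.IsTorsionBySet R B I := fun b r => hB r.1 r.2 b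
  letI := tA.module
  letI := tB.module
  haveI : IsScalarTower R (R ⧸ I) A := IsScalarTower.of_algebraMap_smul fun _ _ => rfl
  haveI : IsScalarTower R (R ⧸ I) B := IsScalarTower.of_algebraMap_smul fun _ _ => rfl
  haveI := hI
  let g' : A →ₗ[R ⧸ I] B := g.extendScalarsOfSurjective Ideal.Quotient.mk_surjective
  obtain ⟨h, hh⟩ := Module.projective_lifting_property g' (f.liftBaseChange (R ⧸ I)) hg
  refine ⟨(h.restrictScalars R) ∘ₗ TensorProduct.mk R (R ⧸ I) P 1, ?_⟩
  ext x
  have := LinearMap.congr_fun hh ((1 : R ⧸ I) ⊗ₜ x)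
  rw [LinearMap.comp_apply, LinearMap.liftBaseChange_tmul, one_smul] at this
  exact this

/-- Over a ring R, take two ideals I and J meeting in zero (I ∩ J = 0) and an R-module P. If the
R/I-module P/IP (that is, R/I ⊗ P) and the R/J-module P/JP (that is, R/J ⊗ P) are both projective,
then P itself is projective over R. -/
theorem result {R : Type u} [CommRing R] (I J : Ideal R) (hIJ : I ⊓ J = ⊥) (P : Type u) [AddCommGroup P] [Module R P] (hI : Module.Projective (R ⧸ I) ((R ⧸ I) ⊗[R] P)) (hJ : Module.Projective (R ⧸ J) ((R ⧸ J) ⊗[R] P)) : Module.Projective R P := by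
  classical
  obtain ⟨F, _, _, _, π, hπ, hsep⟩ := free_cover I J hIJ P
  let K : Submodule R F := LinearMap.ker π
  have hmap : ∀ (L : Ideal R), (L • ⊤ : Submodule R F) ≤ (L • ⊤ : Submodule R P).comap π := fun L => by
    rw [← Submodule.map_le_iff_le_comap, Submodule.map_smul'']
    exact Submodule.smul_mono le_rfl le_top
  let πb : ∀ L : Ideal R, (F ⧸ (L • ⊤ : Submodule R F)) →ₗ[R] P ⧸ (L • ⊤ : Submodule R P) :=
    fun L => Submodule.mapQ _ _ π (hmap L)
  have hπb : ∀ L, Function.Surjective (πb L) := fun L y => by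
    obtain ⟨x, rfl⟩ := Submodule.Quotient.mk_surjective _ y
    obtain ⟨f, rfl⟩ := hπ x
    exact ⟨Submodule.Quotient.mk f, rfl⟩
  obtain ⟨sI, hsI⟩ := lift I P hI (F ⧸ (I • ⊤ : Submodule R F)) _ (kills I F) (πb I) (hπb I) (Submodule.mkQ _)
  obtain ⟨sJ, hsJ⟩ := lift J P hJ (F ⧸ (J • ⊤ : Submodule R F)) _ (kills J F) (πb J) (hπb J) (Submodule.mkQ _)
  let rI : (F ⧸ (I • ⊤ : Submodule R F)) →ₗ[R] F ⧸ ((I ⊔ J) • ⊤ : Submodule R F) :=
    Submodule.factor (Submodule.smul_mono le_sup_left le_rfl)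
  let rJ : (F ⧸ (J • ⊤ : Submodule R F)) →ₗ[R] F ⧸ ((I ⊔ J) • ⊤ : Submodule R F) :=
    Submodule.factor (Submodule.smul_mono le_sup_right le_rfl)
  let δ : P →ₗ[R] F ⧸ ((I ⊔ J) • ⊤ : Submodule R F) := rI ∘ₗ sI - rJ ∘ₗ sJ
  have hδ : ∀ x, δ x ∈ LinearMap.ker (πb (I ⊔ J)) := by
    intro x
    have e1 : πb (I ⊔ J) (rI (sI x)) = Submodule.Quotient.mk x := by
      obtain ⟨f, hf⟩ := Submodule.Quotient.mk_surjective _ (sI x)
      have := LinearMap.congr_fun hsI x
      rw [LinearMap.comp_apply, ← hf] at this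
      rw [← hf]
      show (Submodule.Quotient.mk (π f) : P ⧸ _) = _
      exact congrArg (Submodule.factor (Submodule.smul_mono le_sup_left le_rfl)) this
    have e2 : πb (I ⊔ J) (rJ (sJ x)) = Submodule.Quotient.mk x := by
      obtain ⟨f, hf⟩ := Submodule.Quotient.mk_surjective _ (sJ x)
      have := LinearMap.congr_fun hsJ x
      rw [LinearMap.comp_apply, ← hf] at this
      rw [← hf]
      show (Submodule.Quotient.mk (π f) : P ⧸ _) = _
      exact congrArg (Submodule.factor (Submodule.smul_mono le_sup_right le_rfl)) this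
    rw [LinearMap.mem_ker]
    show πb (I ⊔ J) (rI (sI x) - rJ (sJ x)) = 0
    rw [map_sub, e1, e2, sub_self]
  let q : (K ⧸ (I • ⊤ : Submodule R K)) →ₗ[R] LinearMap.ker (πb (I ⊔ J)) :=
    Submodule.liftQ _ (((Submodule.mkQ ((I ⊔ J) • ⊤ : Submodule R F)) ∘ₗ K.subtype).codRestrict _
      (fun c => by
        show (Submodule.Quotient.mk (π c.1) : P ⧸ _) = 0
        rw [c.2]; rfl))
      (Submodule.smul_le.mpr fun r hr c _ => by
        rw [LinearMap.mem_ker]
        ext
        show (Submodule.Quotient.mk (r • c.1) : F ⧸ _) = 0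
        rw [Submodule.Quotient.mk_eq_zero]
        exact Submodule.smul_mem_smul (Ideal.mem_sup_left hr) trivial)
  have hq : Function.Surjective q := by
    rintro ⟨y, hy⟩
    obtain ⟨f, rfl⟩ := Submodule.Quotient.mk_surjective _ y
    have h1 : π f ∈ Submodule.map π ((I ⊔ J) • ⊤ : Submodule R F) := by
      rw [Submodule.map_smul'', Submodule.map_top, LinearMap.range_eq_top.mpr hπ]
      exact (Submodule.Quotient.mk_eq_zero _).mp (LinearMap.mem_ker.mp hy)
    obtain ⟨g, hg, hgf⟩ := h1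
    refine ⟨Submodule.Quotient.mk ⟨f - g, by rw [LinearMap.mem_ker, map_sub, hgf, sub_self]⟩, ?_⟩
    ext
    show (Submodule.Quotient.mk (f - g) : F ⧸ _) = Submodule.Quotient.mk f
    rw [Submodule.Quotient.eq, sub_sub_cancel_left]
    exact Submodule.neg_mem _ hg
  obtain ⟨ε, hε⟩ := lift I P hI (K ⧸ (I • ⊤ : Submodule R K)) _ (kills I K) q hq (δ.codRestrict _ hδ)
  let ι : (K ⧸ (I • ⊤ : Submodule R K)) →ₗ[R] F ⧸ (I • ⊤ : Submodule R F) :=
    Submodule.mapQ _ _ K.subtype (by
      rw [← Submodule.map_le_iff_le_comap, Submodule.map_smul'']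
      exact Submodule.smul_mono le_rfl le_top)
  let tI := sI - ι ∘ₗ ε
  have hag : ∀ x, rI (tI x) = rJ (sJ x) := by
    intro x
    obtain ⟨c, hc⟩ := Submodule.Quotient.mk_surjective _ (ε x)
    have h1 := congrArg Subtype.val (LinearMap.congr_fun hε x)
    rw [LinearMap.comp_apply, ← hc] at h1
    show rI (sI x - ι (ε x)) = _
    rw [map_sub, ← hc]
    have h2 : rI (ι (Submodule.Quotient.mk c)) = rI (sI x) - rJ (sJ x) := h1
    rw [h2, sub_sub_cancel]
  let Φ : F →ₗ[R] (F ⧸ (I • ⊤ : Submodule R F)) × (F ⧸ (J • ⊤ : Submodule R F)) :=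
    LinearMap.prod (Submodule.mkQ _) (Submodule.mkQ _)
  have hΦ : Function.Injective Φ := by
    rw [← LinearMap.ker_eq_bot, eq_bot_iff]
    intro f hf
    rw [LinearMap.mem_ker] at hf
    have a := (Submodule.Quotient.mk_eq_zero _).mp (Prod.mk.inj hf).1
    have b := (Submodule.Quotient.mk_eq_zero _).mp (Prod.mk.inj hf).2
    exact hsep f a b
  have hrange : ∀ x, (tI.prod sJ) x ∈ LinearMap.range Φ := by
    intro x
    obtain ⟨a, ha⟩ := Submodule.Quotient.mk_surjective _ (tI x)
    obtain ⟨b, hb⟩ := Submodule.Quotient.mk_surjective _ (sJ x)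
    have h := hag x
    rw [← ha, ← hb] at h
    have h' : a - b ∈ ((I ⊔ J) • ⊤ : Submodule R F) := (Submodule.Quotient.eq _).mp h
    rw [Submodule.sup_smul] at h'
    obtain ⟨i, hi, j, hj, hij⟩ := Submodule.mem_sup.mp h'
    refine ⟨a - i, ?_⟩
    refine Prod.ext ?_ ?_
    · show (Submodule.Quotient.mk (a - i) : F ⧸ _) = tI x
      rw [← ha, Submodule.Quotient.eq, sub_sub_cancel_left]
      exact Submodule.neg_mem _ hi
    · show (Submodule.Quotient.mk (a - i) : F ⧸ _) = sJ x
      rw [← hb, Submodule.Quotient.eq, show a - i - b = j by rw [← add_sub_cancel_left i j, hij]; abel]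
      exact hj
  let σ : P →ₗ[R] F := (LinearEquiv.ofInjective Φ hΦ).symm.toLinearMap ∘ₗ (tI.prod sJ).codRestrict _ hrange
  have hσ : ∀ x, Φ (σ x) = (tI x, sJ x) := fun x =>
    congrArg Subtype.val ((LinearEquiv.ofInjective Φ hΦ).apply_symm_apply ⟨_, hrange x⟩)
  let d : P →ₗ[R] P := π ∘ₗ σ - LinearMap.id
  have hdI : ∀ x, d x ∈ (I • ⊤ : Submodule R P) := by
    intro x
    have h1 : (Submodule.Quotient.mk (σ x) : F ⧸ _) = tI x := congrArg Prod.fst (hσ x)
    obtain ⟨c, hc⟩ := Submodule.Quotient.mk_surjective _ (ε x)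
    have h2 : πb I (tI x) = Submodule.Quotient.mk x := by
      show πb I (sI x - ι (ε x)) = _
      rw [map_sub, ← LinearMap.comp_apply (πb I) sI, hsI, ← hc]
      show Submodule.Quotient.mk x - (Submodule.Quotient.mk (π c.1) : P ⧸ _) = _
      rw [c.2]
      simp
    rw [← h1] at h2
    exact (Submodule.Quotient.eq _).mp h2
  have hdJ : ∀ x, d x ∈ (J • ⊤ : Submodule R P) := by
    intro x
    have h1 : (Submodule.Quotient.mk (σ x) : F ⧸ _) = sJ x := congrArg Prod.snd (hσ x)
    have h2 : πb J (sJ x) = Submodule.Quotient.mk x := LinearMap.congr_fun hsJ x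
    rw [← h1] at h2
    exact (Submodule.Quotient.eq _).mp h2
  have hdd : ∀ x, d (d x) = 0 := by
    intro x
    refine Submodule.smul_induction_on (p := fun y => d y = 0) (hdI x) ?_
      (fun u v hu hv => by rw [map_add, hu, hv, add_zero])
    intro r hr y _
    rw [map_smul]
    refine Submodule.smul_induction_on (p := fun z => r • z = 0) (hdJ y) ?_
      (fun u v hu hv => by rw [smul_add, hu, hv, add_zero])
    intro s hs z _
    have h4 : r * s ∈ I ⊓ J := ⟨I.mul_mem_right _ hr, J.mul_mem_left _ hs⟩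
    rw [hIJ, Ideal.mem_bot] at h4
    rw [smul_smul, h4, zero_smul]
  refine Module.Projective.of_split (σ ∘ₗ (LinearMap.id - d)) π ?_
  ext x
  have hd : ∀ y, d y = π (σ y) - y := fun y => rfl
  show π (σ (x - d x)) = x
  have h5 : π (σ (x - d x)) = d (x - d x) + (x - d x) := by rw [hd (x - d x)]; abel
  rw [h5, map_sub, hdd]; abel

end Groth.Agent.S6272
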