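import Groth.Statements.S6273
import Mathlib.RingTheory.Spectrum.Prime.Topology
import Mathlib.Tactic.LinearCombination

set_option autoImplicit false
universe u
open CAlg

namespace Groth.Agent.S6273

/-- Let R be a ring, S ⊆ R a multiplicative subset and A = S⁻¹R. If the image of Spec(A) → Spec(R) is
closed, then the localization map R → A is surjective; in particular A is isomorphic to R/I for the
ideal I = ker(R → A). -/
theorem result {R : Type u} [CommRing R] (S : Submonoid R) (A : Type u) [CommRing A] [Algebra R A] [IsLocalization S A] (hcl : IsClosed (Set.range (PrimeSpectrum.comap (algebraMap R A)))) : Function.Surjective (algebraMap R A) := by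
  have hrange : Set.range (PrimeSpectrum.comap (algebraMap R A)) =
      PrimeSpectrum.zeroLocus (RingHom.ker (algebraMap R A) : Set R) := by
    rw [← hcl.closure_eq, PrimeSpectrum.closure_range_comap]
  intro z
  obtain ⟨⟨a, s⟩, hs⟩ := IsLocalization.surj S z
  have h1 : Ideal.span {(s : R)} ⊔ RingHom.ker (algebraMap R A) = ⊤ := by
    by_contra hne
    obtain ⟨m, hm, hle⟩ := Ideal.exists_le_maximal _ hne
    have h2 : (⟨m, hm.isPrime⟩ : PrimeSpectrum R) ∈
        Set.range (PrimeSpectrum.comap (algebraMap R A)) := by
      rw [hrange, PrimeSpectrum.mem_zeroLocus]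
      exact SetLike.coe_subset_coe.2 (le_trans le_sup_right hle)
    obtain ⟨q, hq⟩ := h2
    have hsm : (s : R) ∈ m := hle (Ideal.mem_sup_left (Ideal.mem_span_singleton_self _))
    rw [← show (PrimeSpectrum.comap (algebraMap R A) q).asIdeal = m from
      congrArg PrimeSpectrum.asIdeal hq] at hsm
    exact q.2.ne_top (Ideal.eq_top_of_isUnit_mem _ hsm (IsLocalization.map_units A s))
  obtain ⟨_, hx, k, hk, hxk⟩ := Submodule.mem_sup.1 ((Ideal.eq_top_iff_one _).1 h1)
  obtain ⟨r, rfl⟩ := Ideal.mem_span_singleton'.1 hx
  refine ⟨a * r, ?_⟩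
  have h3 := congrArg (algebraMap R A) hxk
  rw [map_add, map_mul, map_one, RingHom.mem_ker.1 hk, add_zero] at h3
  rw [map_mul, ← hs]
  linear_combination z * h3

end Groth.Agent.S6273
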