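import Groth.Statements.S6274
import Groth.Agent.S6273
import Mathlib.RingTheory.Spectrum.Prime.ConstructibleSet

set_option autoImplicit false
universe u
open CAlg

namespace Groth.Agent.S6274

/-- Let R be a ring, S ⊆ R a multiplicative subset and A = S⁻¹R, and assume the image of Spec(A) →
Spec(R) is closed. If Spec(R) is a Noetherian topological space (which holds when R is Noetherian)
or S is finitely generated as a monoid, then R is isomorphic to A × R' for some ring R', by an
isomorphism whose first component is the localization map R → A. -/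
theorem result {R : Type u} [CommRing R] (S : Submonoid R) (A : Type u) [CommRing A] [Algebra R A] [IsLocalization S A] (hcl : IsClosed (Set.range (PrimeSpectrum.comap (algebraMap R A)))) (h : TopologicalSpace.NoetherianSpace (PrimeSpectrum R) ∨ S.FG) : ∃ (R' : Type u) (_ : CommRing R') (e : R ≃+* A × R'), ∀ x : R, (e x).1 = algebraMap R A x := by
  classical
  have hsurj := Groth.Agent.S6273.result S A hcl
  have hZ : Set.range (PrimeSpectrum.comap (algebraMap R A)) =
      {p : PrimeSpectrum R | Disjoint (S : Set R) p.asIdeal} :=
    PrimeSpectrum.localization_comap_range A S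
  set Z := Set.range (PrimeSpectrum.comap (algebraMap R A)) with hZdef
  have hopen : IsOpen Z := by
    rcases h with h | h
    · haveI := h
      have hgen : StableUnderGeneralization Z := by
        rw [hZ]
        intro p q hqp hp
        exact hp.mono_right ((PrimeSpectrum.le_iff_specializes q p).2 hqp)
      refine PrimeSpectrum.isOpen_of_stableUnderGeneralization_of_isConstructible hgen ?_
      rw [← Topology.isConstructible_compl]
      exact IsCompact.isConstructible (TopologicalSpace.NoetherianSpace.isCompact _) hcl.isOpen_compl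
    · obtain ⟨G, hG⟩ := h
      have : Z = ⋂ t ∈ G, (PrimeSpectrum.basicOpen t : Set (PrimeSpectrum R)) := by
        rw [hZ]
        ext p
        simp only [Set.mem_ofPred_eq, Set.mem_iInter, SetLike.mem_coe,
          PrimeSpectrum.mem_basicOpen]
        constructor
        · intro hp t ht
          exact Set.disjoint_left.1 hp (hG ▸ Submonoid.subset_closure ht)
        · intro hp
          have hle : S ≤ p.asIdeal.primeCompl := by
            rw [← hG, Submonoid.closure_le]
            exact fun t ht => hp t ht
          exact Set.disjoint_left.2 fun s hs => hle hs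
      rw [this]
      exact isOpen_biInter_finset fun t _ => (PrimeSpectrum.basicOpen t).2
  obtain ⟨e, he, hZe⟩ := PrimeSpectrum.exists_idempotent_basicOpen_eq_of_isClopen
    (s := Z) ⟨hcl, hopen⟩
  have he1 : algebraMap R A e = 1 := by
    have hu : IsUnit (algebraMap R A e) := by
      by_contra hne
      obtain ⟨m, hm, hem⟩ := exists_max_ideal_of_mem_nonunits hne
      have hmZ : PrimeSpectrum.comap (algebraMap R A) ⟨m, hm.isPrime⟩ ∈ Z := ⟨_, rfl⟩
      rw [hZe] at hmZ
      exact hmZ hem
    exact (IsIdempotentElem.iff_eq_one_of_isUnit hu).1 (he.map (algebraMap R A))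
  let φ : R →+* A × (R ⧸ Ideal.span {e}) :=
    (algebraMap R A).prod (Ideal.Quotient.mk (Ideal.span {e}))
  have hbij : Function.Bijective φ := by
    constructor
    · rw [injective_iff_map_eq_zero]
      intro x hx
      have hxA : algebraMap R A x = 0 := congrArg Prod.fst hx
      have hxq : Ideal.Quotient.mk (Ideal.span {e}) x = 0 := congrArg Prod.snd hx
      obtain ⟨r, hr⟩ := Ideal.mem_span_singleton'.1 (Ideal.Quotient.eq_zero_iff_mem.1 hxq)
      obtain ⟨s, hs⟩ := (IsLocalization.map_eq_zero_iff S A x).1 hxA
      have htop : Ideal.span {(s : R)} ⊔ Ideal.span {1 - e} = ⊤ := by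
        by_contra hne
        obtain ⟨m, hm, hle⟩ := Ideal.exists_le_maximal _ hne
        have hem : e ∉ m := fun hem => hm.ne_top ((Ideal.eq_top_iff_one _).2 (by
          simpa using m.add_mem hem (hle (Ideal.mem_sup_right (Ideal.mem_span_singleton_self _)))))
        have hmZ : (⟨m, hm.isPrime⟩ : PrimeSpectrum R) ∈ Z := by
          rw [hZe]; exact hem
        rw [hZ] at hmZ
        exact Set.disjoint_left.1 hmZ s.2
          (hle (Ideal.mem_sup_left (Ideal.mem_span_singleton_self _)))
      obtain ⟨u, hu, v, hv, huv⟩ := Submodule.mem_sup.1 ((Ideal.eq_top_iff_one _).1 htop)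
      obtain ⟨a, rfl⟩ := Ideal.mem_span_singleton'.1 hu
      obtain ⟨b, rfl⟩ := Ideal.mem_span_singleton'.1 hv
      have h2 : e * e = e := he
      linear_combination (-x) * huv + a * hs + b * hr * (e - 1) - b * r * h2
    · rintro ⟨a, q⟩
      obtain ⟨a0, rfl⟩ := hsurj a
      obtain ⟨r, rfl⟩ := Ideal.Quotient.mk_surjective q
      refine ⟨a0 * e + r * (1 - e), Prod.ext ?_ ?_⟩
      · show algebraMap R A (a0 * e + r * (1 - e)) = algebraMap R A a0
        simp [he1]
      · show Ideal.Quotient.mk (Ideal.span {e}) (a0 * e + r * (1 - e)) = _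
        have h0 : Ideal.Quotient.mk (Ideal.span {e}) e = 0 :=
          Ideal.Quotient.eq_zero_iff_mem.2 (Ideal.mem_span_singleton_self e)
        simp [h0]
  exact ⟨R ⧸ Ideal.span {e}, inferInstance, RingEquiv.ofBijective φ hbij, fun x => rfl⟩

end Groth.Agent.S6274
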