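import Groth.Statements.S6275
import Mathlib.RingTheory.Localization.AtPrime.Basic
import Mathlib.RingTheory.Localization.Away.Basic
import Mathlib.RingTheory.Noetherian.Basic
-- import your own Groth.Agent.* helpers here

set_option autoImplicit false
universe u
open CAlg

namespace Groth.Agent.S6275

/-- Let R be a Noetherian ring and p ⊆ R a prime. Then there is f ∈ R, f ∉ p, such that R_f → R_p is
injective; equivalently every x ∈ R mapping to zero in R_p maps to zero in R_f. (The cases of a
domain and of a reduced ring with finitely many minimal primes are not included here.) -/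
theorem result {R : Type u} [CommRing R] [IsNoetherianRing R] (p : Ideal R) [p.IsPrime] : ∃ f : R, f ∉ p ∧ ∀ x : R, algebraMap R (Localization.AtPrime p) x = 0 → algebraMap R (Localization.Away f) x = 0 := by
  classical
  obtain ⟨S, hS⟩ := IsNoetherian.noetherian (RingHom.ker (algebraMap R (Localization.AtPrime p)))
  have : ∀ a ∈ S, ∃ s : R, s ∉ p ∧ s * a = 0 := fun a ha => by
    obtain ⟨⟨s, hs⟩, h⟩ := (IsLocalization.map_eq_zero_iff p.primeCompl _ a).1
      (RingHom.mem_ker.1 (hS ▸ Submodule.subset_span ha))
    exact ⟨s, hs, h⟩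
  choose! s hs hs0 using this
  refine ⟨∏ a ∈ S, s a, fun h => ?_, fun x hx => ?_⟩
  · obtain ⟨a, ha, ha2⟩ := (Ideal.IsPrime.prod_mem_iff (hp := ‹p.IsPrime›)).1 h
    exact hs a ha ha2
  · have hle : RingHom.ker (algebraMap R (Localization.AtPrime p)) ≤
        RingHom.ker (algebraMap R (Localization.Away (∏ a ∈ S, s a))) := by
      rw [← hS, Submodule.span_le]
      intro a ha
      rw [SetLike.mem_coe, RingHom.mem_ker, IsLocalization.map_eq_zero_iff (Submonoid.powers (∏ a ∈ S, s a))]
      refine ⟨⟨_, 1, rfl⟩, ?_⟩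
      obtain ⟨c, hc⟩ := Finset.dvd_prod_of_mem s ha
      show (∏ a ∈ S, s a) ^ 1 * a = 0
      rw [pow_one, hc, mul_comm (s a), mul_assoc, hs0 a ha, mul_zero]
    exact RingHom.mem_ker.1 (hle (RingHom.mem_ker.2 hx))

end Groth.Agent.S6275
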