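import Groth.Statements.S6282
import Mathlib
-- import your own Groth.Agent.* helpers here

set_option autoImplicit false
universe u
open scoped TensorProduct
open CAlg

namespace Groth.Agent.S6282

/-- Let S → S' be a homomorphism of R-algebras, M an S-module, and M' = S' ⊗_S M with its induced
R-module structure. (1) When S' is flat over S, R-flatness of M passes to M'. (2) When S' is
faithfully flat over S, M is R-flat exactly when M' is. -/
theorem result {R S S' : Type u} [CommRing R] [CommRing S] [CommRing S'] [Algebra R S] [Algebra R S'] [Algebra S S'] [IsScalarTower R S S'] (M : Type u) [AddCommGroup M] [Module S M] [Module R M] [IsScalarTower R S M] : ([Module.Flat S S'] → Module.Flat R M → Module.Flat R (S' ⊗[S] M)) ∧ ([Module.FaithfullyFlat S S'] → (Module.Flat R M ↔ Module.Flat R (S' ⊗[S] M))) := by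
  have key : ∀ (N N' : Type u) [AddCommGroup N] [AddCommGroup N'] [Module R N] [Module R N'] (f : N →ₗ[R] N'),
      (Function.Injective ((TensorProduct.AlgebraTensorModule.lTensor S M f).lTensor S') ↔
        Function.Injective (f.lTensor (S' ⊗[S] M))) := by
    intro N N' _ _ _ _ f
    have h : ((TensorProduct.AlgebraTensorModule.lTensor S M f).lTensor S') ∘ (TensorProduct.AlgebraTensorModule.assoc R S S S' M N) =
        (TensorProduct.AlgebraTensorModule.assoc R S S S' M N') ∘ (f.lTensor (S' ⊗[S] M)) := by
      funext z
      simp only [Function.comp_apply]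
      induction z using TensorProduct.induction_on with
      | zero => simp
      | tmul w n =>
        induction w using TensorProduct.induction_on with
        | zero => simp
        | tmul s m => simp
        | add a b ha hb => simp only [TensorProduct.add_tmul, map_add, ha, hb]
      | add a b ha hb => simp only [map_add, ha, hb]
    rw [← Function.Injective.of_comp_iff' _ (TensorProduct.AlgebraTensorModule.assoc R S S S' M N).bijective, h,
      (TensorProduct.AlgebraTensorModule.assoc R S S S' M N').injective.of_comp_iff]
  refine ⟨fun {_} hM ↦ ?_, fun {_} ↦ ⟨fun hM ↦ ?_, fun hM ↦ ?_⟩⟩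
  · rw [Module.Flat.iff_lTensor_preserves_injective_linearMap'.{u}] at hM ⊢
    intro N N' _ _ _ _ f hf
    exact (key N N' f).mp (Module.Flat.lTensor_preserves_injective_linearMap _ (hM f hf))
  · rw [Module.Flat.iff_lTensor_preserves_injective_linearMap'.{u}] at hM ⊢
    intro N N' _ _ _ _ f hf
    exact (key N N' f).mp (Module.Flat.lTensor_preserves_injective_linearMap _ (hM f hf))
  · rw [Module.Flat.iff_lTensor_preserves_injective_linearMap'.{u}] at hM ⊢
    intro N N' _ _ _ _ f hf
    exact (Module.FaithfullyFlat.lTensor_injective_iff_injective S S' _).mp ((key N N' f).mpr (hM f hf))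

end Groth.Agent.S6282
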