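import Groth.Statements.S6283
import Mathlib
-- import your own Groth.Agent.* helpers here

set_option autoImplicit false
universe u
open scoped TensorProduct
open CAlg

namespace Groth.Agent.S6283

/-- Let R → S be a flat ring map, M an R-module and m ∈ M. Then Ann_R(m)S = Ann_S(1 ⊗ m), the
annihilator in S of the element 1 ⊗ m of S ⊗_R M. If moreover M is a finite R-module then Ann_R(M)S
= Ann_S(S ⊗_R M). -/
theorem result {R S : Type u} [CommRing R] [CommRing S] [Algebra R S] [Module.Flat R S] (M : Type u) [AddCommGroup M] [Module R M] : (∀ m : M, ((Submodule.span R {m}).annihilator).map (algebraMap R S) = (Submodule.span S {(1 : S) ⊗ₜ[R] m}).annihilator) ∧ (Module.Finite R M → (Module.annihilator R M).map (algebraMap R S) = Module.annihilator S (S ⊗[R] M)) := by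
  classical
  have key : ∀ {N : Type u} [AddCommGroup N] [Module R N] (φ : R →ₗ[R] N) (s : S),
      s ⊗ₜ[R] φ 1 = 0 ↔ s ∈ Ideal.map (algebraMap R S) (LinearMap.ker φ) := by
    intro N _ _ φ s
    have hex := Module.Flat.lTensor_exact S (LinearMap.exact_subtype_ker_map φ)
    have h1 : φ.lTensor S (s ⊗ₜ 1) = s ⊗ₜ φ 1 := LinearMap.lTensor_tmul _ _ _ _
    rw [← h1, hex (s ⊗ₜ[R] (1 : R))]
    constructor
    · rintro ⟨z, hz⟩
      have h2 : s = TensorProduct.rid R S ((LinearMap.ker φ).subtype.lTensor S z) := by rw [hz]; simp
      rw [h2]
      clear hz h2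
      induction z using TensorProduct.induction_on with
      | zero => simp
      | tmul a r =>
        rw [LinearMap.lTensor_tmul, TensorProduct.rid_tmul, Algebra.smul_def]
        exact Ideal.mul_mem_right _ _ (Ideal.mem_map_of_mem _ r.2)
      | add a b ha hb => simp only [map_add]; exact add_mem ha hb
    · intro hs
      clear h1
      induction hs using Submodule.span_induction with
      | mem x hx =>
        obtain ⟨r, hr, rfl⟩ := hx
        exact ⟨1 ⊗ₜ ⟨r, hr⟩, by rw [LinearMap.lTensor_tmul, Submodule.coe_subtype, show algebraMap R S r = r • (1 : S) from Algebra.algebraMap_eq_smul_one r, TensorProduct.smul_tmul, smul_eq_mul, mul_one]⟩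
      | zero => exact ⟨0, by simp⟩
      | add a b _ _ ha hb =>
        obtain ⟨za, ha⟩ := ha
        obtain ⟨zb, hb⟩ := hb
        exact ⟨za + zb, by rw [map_add, ha, hb, TensorProduct.add_tmul]⟩
      | smul a b _ hb =>
        obtain ⟨zb, hb⟩ := hb
        refine ⟨a • zb, ?_⟩
        have : ∀ z : S ⊗[R] (LinearMap.ker φ), (LinearMap.ker φ).subtype.lTensor S (a • z) = a • (LinearMap.ker φ).subtype.lTensor S z := fun z ↦ by
          induction z using TensorProduct.induction_on with
          | zero => simp
          | tmul x y => simp [TensorProduct.smul_tmul']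
          | add x y hx hy => simp only [smul_add, map_add, hx, hy]
        rw [this, hb, TensorProduct.smul_tmul']
  refine ⟨fun m ↦ ?_, fun hfin ↦ ?_⟩
  · ext s
    rw [Submodule.mem_annihilator_span_singleton, TensorProduct.smul_tmul', smul_eq_mul, mul_one]
    have : (Submodule.span R {m}).annihilator = LinearMap.ker (LinearMap.toSpanSingleton R M m) := by
      ext r; simp [Submodule.mem_annihilator_span_singleton]
    rw [this, ← key (LinearMap.toSpanSingleton R M m) s]
    simp
  · obtain ⟨n, g, hg⟩ := Module.Finite.exists_fin (R := R) (M := M)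
    let φ : R →ₗ[R] (Fin n → M) := LinearMap.toSpanSingleton R (Fin n → M) g
    have hφ : Module.annihilator R M = LinearMap.ker φ := by
      ext r
      rw [← Submodule.annihilator_top, ← hg, Submodule.mem_annihilator_span, LinearMap.mem_ker]
      refine ⟨fun h ↦ funext fun i ↦ h ⟨g i, i, rfl⟩, ?_⟩
      rintro h ⟨_, i, rfl⟩
      exact congrFun h i
    ext s
    rw [hφ, ← key φ s, Module.mem_annihilator]
    constructor
    · intro h x
      have hi : ∀ i, s ⊗ₜ[R] g i = 0 := fun i ↦ by
        have := congrArg (fun w ↦ TensorProduct.piRight R R S (fun _ : Fin n ↦ M) w i) h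
        simpa [φ] using this
      induction x using TensorProduct.induction_on with
      | zero => simp
      | add a b ha hb => rw [smul_add, ha, hb, add_zero]
      | tmul t m =>
        rw [TensorProduct.smul_tmul', smul_eq_mul]
        have hm : m ∈ Submodule.span R (Set.range g) := hg ▸ Submodule.mem_top
        induction hm using Submodule.span_induction with
        | mem y hy =>
          obtain ⟨i, rfl⟩ := hy
          rw [mul_comm, ← smul_eq_mul, ← TensorProduct.smul_tmul', hi, smul_zero]
        | zero => simp
        | add a b _ _ ha hb => rw [TensorProduct.tmul_add, ha, hb, add_zero]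
        | smul r a _ ha => rw [TensorProduct.tmul_smul, ha, smul_zero]
    · intro h
      apply (TensorProduct.piRight R R S (fun _ : Fin n ↦ M)).injective
      funext i
      have := h (1 ⊗ₜ g i)
      simpa [φ, TensorProduct.smul_tmul'] using this

end Groth.Agent.S6283
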