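import Groth.Statements.S6285
import Mathlib.RingTheory.Spectrum.Prime.Topology
import Mathlib.RingTheory.Support
import Mathlib.LinearAlgebra.Matrix.Adjugate

set_option autoImplicit false
universe u
open CAlg

namespace Groth.Agent.S6285

/-- For a ring R and an R-module M of finite presentation, the support Supp(M) is closed in Spec(R), and
its complement in Spec(R) is quasi-compact. -/
theorem result (R : Type u) [CommRing R] (M : Type u) [AddCommGroup M] [Module R M] [Module.FinitePresentation R M] : IsClosed (Module.support R M) ∧ IsCompact (Module.support R M)ᶜ := by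
  classical
  obtain ⟨n, m, π, A, hπ, hex⟩ := Module.FinitePresentation.exists_fin' R M
  let g : Fin m → (Fin n → R) := fun k => A (Pi.single k 1)
  have hg : Submodule.span R (Set.range g) = LinearMap.ker π := by
    rw [LinearMap.exact_iff.1 hex, LinearMap.range_eq_map, ← (Pi.basisFun R (Fin m)).span_eq,
      Submodule.map_span, ← Set.range_comp]
    congr 2
    ext k : 1
    simp [g]
  let D : (Fin n → Fin m) → R := fun σ => (Matrix.of fun i => g (σ i)).det
  let J : Ideal R := Ideal.span (Set.range D)
  have hJann : J ≤ Module.annihilator R M := by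
    rw [Ideal.span_le]
    rintro _ ⟨σ, rfl⟩
    rw [SetLike.mem_coe, Module.mem_annihilator]
    intro x
    obtain ⟨v, rfl⟩ := hπ x
    set G : Matrix (Fin n) (Fin n) R := Matrix.of fun i => g (σ i)
    have hv : D σ • v = ∑ j, (Matrix.vecMul v G.adjugate) j • g (σ j) := by
      have h1 : Matrix.vecMul (Matrix.vecMul v G.adjugate) G = D σ • v := by
        rw [Matrix.vecMul_vecMul, Matrix.adjugate_mul, Matrix.vecMul_smul, Matrix.vecMul_one]
      rw [← h1]
      exact Matrix.vecMul_eq_sum _ _
    rw [← map_smul, hv, map_sum]
    refine Finset.sum_eq_zero fun j _ => ?_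
    rw [map_smul, LinearMap.mem_ker.1 (hg ▸ Submodule.subset_span (Set.mem_range_self (σ j)) :
      g (σ j) ∈ LinearMap.ker π), smul_zero]
  have hpow : ∀ f ∈ Module.annihilator R M, f ^ n ∈ J := by
    intro f hf
    have hc : ∀ i : Fin n, ∃ c : Fin m → R, ∑ k, c k • g k = f • (Pi.single i 1 : Fin n → R) := by
      intro i
      apply Submodule.mem_span_range_iff_exists_fun R |>.1
      rw [hg, LinearMap.mem_ker, map_smul]
      exact Module.mem_annihilator.1 hf _
    choose c hc using hc
    have h1 : Matrix.detRowAlternating (fun i : Fin n => f • (Pi.single i 1 : Fin n → R)) = f ^ n := by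
      rw [AlternatingMap.map_smul_univ]
      have h2 : (fun i : Fin n => (Pi.single i 1 : Fin n → R)) = (1 : Matrix (Fin n) (Fin n) R) := by
        ext i j
        simp [Matrix.one_apply, Pi.single_apply, eq_comm]
      have h3 : Matrix.detRowAlternating (fun i : Fin n => (Pi.single i 1 : Fin n → R)) = (1 : R) := by
        rw [h2]
        exact Matrix.det_one
      rw [h3, Finset.prod_const, Finset.card_univ, Fintype.card_fin, smul_eq_mul, mul_one]
    rw [← h1, show (fun i : Fin n => f • (Pi.single i 1 : Fin n → R)) = fun i => ∑ k, c i k • g k from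
      funext fun i => (hc i).symm]
    change (Matrix.detRowAlternating : (Fin n → R) [⋀^Fin n]→ₗ[R] R).toMultilinearMap _ ∈ J
    rw [MultilinearMap.map_sum]
    refine Submodule.sum_mem _ fun σ _ => ?_
    rw [MultilinearMap.map_smul_univ, smul_eq_mul]
    exact Ideal.mul_mem_left _ _ (Ideal.subset_span ⟨σ, rfl⟩)
  have hsupp : Module.support R M = PrimeSpectrum.zeroLocus (J : Set R) := by
    rw [Module.support_eq_zeroLocus]
    apply Set.Subset.antisymm
    · exact PrimeSpectrum.zeroLocus_anti_mono_ideal hJann
    · intro p hp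
      rw [PrimeSpectrum.mem_zeroLocus] at hp ⊢
      intro f hf
      exact p.2.mem_of_pow_mem n (hp (hpow f hf))
  have hc := (PrimeSpectrum.isCompact_isOpen_iff_ideal (s := (Module.support R M)ᶜ)).2
    ⟨J, Submodule.fg_span (Set.finite_range D), by rw [hsupp]⟩
  exact ⟨isOpen_compl_iff.1 hc.2, hc.1⟩

end Groth.Agent.S6285
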