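import Groth.Statements.S6286
import Mathlib

set_option autoImplicit false
universe u
open scoped TensorProduct
open CAlg

namespace Groth.Agent.S6286

open TensorProduct

variable (k : Type u) [Field k] (R S : Type u) [CommRing R] [Algebra k R] [CommRing S] [Algebra k S]

lemma mem_ext (p : PrimeSpectrum R) (z : R ⊗[k] S) :
    z ∈ p.asIdeal.map (algebraMap R (R ⊗[k] S)) ↔
      Algebra.TensorProduct.map (Ideal.Quotient.mkₐ k p.asIdeal) (AlgHom.id k S) z = 0 := by
  have h := Algebra.TensorProduct.map_ker (Ideal.Quotient.mkₐ k p.asIdeal) (AlgHom.id k S)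
    (Ideal.Quotient.mkₐ_surjective k _) Function.surjective_id
  have hk : RingHom.ker (AlgHom.id k S) = ⊥ := by ext x; simp
  have hp : RingHom.ker (Ideal.Quotient.mkₐ k p.asIdeal) = p.asIdeal := Ideal.Quotient.mkₐ_ker k _
  rw [hk, hp, Ideal.map_bot, sup_bot_eq] at h
  rw [← RingHom.mem_ker, h]
  rfl

/-- When does some prime over `p` avoid `g`. -/
lemma crit (g : R ⊗[k] S) (p : PrimeSpectrum R) :
    (∃ q : PrimeSpectrum (R ⊗[k] S), g ∉ q.asIdeal ∧
        q.asIdeal.comap (algebraMap R (R ⊗[k] S)) = p.asIdeal) ↔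
      ∀ (n : ℕ) (s : R), s ∉ p.asIdeal →
        algebraMap R (R ⊗[k] S) s * g ^ n ∉ p.asIdeal.map (algebraMap R (R ⊗[k] S)) := by
  constructor
  · rintro ⟨q, hg, hq⟩ n s hs hmem
    have := Ideal.map_le_iff_le_comap.2 hq.ge hmem
    rcases q.2.mem_or_mem this with h | h
    · exact hs (hq ▸ h)
    · exact hg (q.2.mem_of_pow_mem n h)
  · intro h
    let M : Submonoid (R ⊗[k] S) := p.asIdeal.primeCompl.map (algebraMap R (R ⊗[k] S)) ⊔ Submonoid.powers g
    obtain ⟨q, hq, hle, hd⟩ := Ideal.exists_le_prime_disjoint (p.asIdeal.map (algebraMap R (R ⊗[k] S))) M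
      (Set.disjoint_right.2 fun x hx hxm => by
        obtain ⟨y, hy, w, hw, rfl⟩ := Submonoid.mem_sup.1 hx
        obtain ⟨s, hs, rfl⟩ := hy
        obtain ⟨n, rfl⟩ := hw
        exact h n s hs hxm)
    refine ⟨⟨q, hq⟩, fun hg => Set.disjoint_left.1 hd hg (Submonoid.mem_sup_right (Submonoid.mem_powers g)),
      le_antisymm (fun s hs => ?_) (Ideal.map_le_iff_le_comap.1 hle)⟩
    by_contra hsp
    exact Set.disjoint_left.1 hd hs (Submonoid.mem_sup_left ⟨s, hsp, rfl⟩)


/-- Let k be a field, R and S k-algebras, S' ⊆ S a k-subalgebra and f ∈ R ⊗ₖ S', with image f again in R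
⊗ₖ S. Then the images in Spec(R) of Spec((R ⊗ₖ S)_f) and of Spec((R ⊗ₖ S')_f) coincide: a prime p of
R is the contraction of a prime of R ⊗ₖ S not containing f if and only if it is the contraction of a
prime of R ⊗ₖ S' not containing f. -/
theorem result (k : Type u) [Field k] (R S : Type u) [CommRing R] [Algebra k R] [CommRing S] [Algebra k S] (S' : Subalgebra k S) (f : R ⊗[k] S') (p : PrimeSpectrum R) : (∃ q : PrimeSpectrum (R ⊗[k] S), Algebra.TensorProduct.map (AlgHom.id k R) S'.val f ∉ q.asIdeal ∧ q.asIdeal.comap (algebraMap R (R ⊗[k] S)) = p.asIdeal) ↔ (∃ q' : PrimeSpectrum (R ⊗[k] S'), f ∉ q'.asIdeal ∧ q'.asIdeal.comap (algebraMap R (R ⊗[k] S')) = p.asIdeal) := by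
  rw [crit k R S _ p, crit k R S' _ p]
  refine forall_congr' fun n => forall_congr' fun s => imp_congr_right fun _ => not_congr ?_
  have e : algebraMap R (R ⊗[k] S) s * Algebra.TensorProduct.map (AlgHom.id k R) S'.val f ^ n =
      Algebra.TensorProduct.map (AlgHom.id k R) S'.val (algebraMap R (R ⊗[k] S') s * f ^ n) := by
    simp [Algebra.TensorProduct.algebraMap_apply]
  rw [e, mem_ext k R S, mem_ext k R S']
  set z := algebraMap R (R ⊗[k] S') s * f ^ n
  have hcomm : Algebra.TensorProduct.map (Ideal.Quotient.mkₐ k p.asIdeal) (AlgHom.id k S)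
      (Algebra.TensorProduct.map (AlgHom.id k R) S'.val z) =
      Algebra.TensorProduct.map (AlgHom.id k (R ⧸ p.asIdeal)) S'.val
        (Algebra.TensorProduct.map (Ideal.Quotient.mkₐ k p.asIdeal) (AlgHom.id k S') z) := by
    rw [← AlgHom.comp_apply, ← AlgHom.comp_apply, ← Algebra.TensorProduct.map_comp,
      ← Algebra.TensorProduct.map_comp]
    rfl
  rw [hcomm]
  have hinj : Function.Injective (Algebra.TensorProduct.map (AlgHom.id k (R ⧸ p.asIdeal)) S'.val) :=
    Module.Flat.lTensor_preserves_injective_linearMap (R := k) (M := R ⧸ p.asIdeal)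
      S'.val.toLinearMap Subtype.val_injective
  exact map_eq_zero_iff _ hinj

end Groth.Agent.S6286
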