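import Groth.Statements.S6287
import Mathlib
-- import your own Groth.Agent.* helpers here

set_option autoImplicit false
universe u
open CAlg

namespace Groth.Agent.S6287

/-- Let (A_i) be a directed system of valuation rings. Then the colimit A = colim A_i is a valuation
ring (in particular a domain). -/
theorem result {ι : Type u} [Preorder ι] [Nonempty ι] [IsDirected ι (· ≤ ·)] (G : ι → Type u) [∀ i, CommRing (G i)] [∀ i, IsDomain (G i)] [∀ i, ValuationRing (G i)] (f : ∀ i j, i ≤ j → G i →+* G j) [DirectedSystem G fun i j h => f i j h] : ∃ _ : IsDomain (Ring.DirectLimit G fun i j h => f i j h), ValuationRing (Ring.DirectLimit G fun i j h => f i j h) := by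
  classical
  let D := Ring.DirectLimit G fun i j h => f i j h
  have key : ∀ a b : D, ∃ (i : ι) (x y : G i), Ring.DirectLimit.of G (fun i j h => f i j h) i x = a ∧
      Ring.DirectLimit.of G (fun i j h => f i j h) i y = b := by
    intro a b
    obtain ⟨i, x, rfl⟩ := Ring.DirectLimit.exists_of a
    obtain ⟨j, y, rfl⟩ := Ring.DirectLimit.exists_of b
    obtain ⟨k, hik, hjk⟩ := exists_ge_ge i j
    exact ⟨k, f i k hik x, f j k hjk y, Ring.DirectLimit.of_f hik x, Ring.DirectLimit.of_f hjk y⟩
  have : Nontrivial D := by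
    refine ⟨⟨1, 0, fun h => ?_⟩⟩
    obtain ⟨i⟩ := ‹Nonempty ι›
    rw [← map_one (Ring.DirectLimit.of G (fun i j h => f i j h) i)] at h
    obtain ⟨j, hij, hj⟩ := Ring.DirectLimit.of.zero_exact (f' := f) h
    exact one_ne_zero (((f i j hij).map_one).symm.trans hj)
  have : NoZeroDivisors D := ⟨fun {a b} hab => by
    obtain ⟨i, x, y, rfl, rfl⟩ := key a b
    rw [← map_mul] at hab
    obtain ⟨j, hij, hj⟩ := Ring.DirectLimit.of.zero_exact (f' := f) hab
    rw [map_mul] at hj
    rcases mul_eq_zero.1 hj with h | h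
    · exact Or.inl (by rw [← Ring.DirectLimit.of_f hij x, h, map_zero])
    · exact Or.inr (by rw [← Ring.DirectLimit.of_f hij y, h, map_zero])⟩
  have hdom : IsDomain D := NoZeroDivisors.to_isDomain D
  refine ⟨hdom, ValuationRing.iff_dvd_total.2 ⟨fun a b => ?_⟩⟩
  obtain ⟨i, x, y, rfl, rfl⟩ := key a b
  exact (ValuationRing.dvd_total x y).imp (map_dvd _) (map_dvd _)

end Groth.Agent.S6287
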