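import Groth.Statements.S6288
import Mathlib.RingTheory.Valuation.ValuationSubring
import Mathlib.RingTheory.Algebraic.Integral
import Mathlib.RingTheory.IntegralClosure.IntegrallyClosed
import Mathlib.RingTheory.Valuation.LocalSubring
-- import your own Groth.Agent.* helpers here

set_option autoImplicit false
universe u
open CAlg

namespace Groth.Agent.S6288

/-- Let L/K be an algebraic extension of fields and B ⊆ L a valuation ring with fraction field L which
is not a field. Then A = K ∩ B is a valuation ring of K (automatic) which is again not a field, i.e.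
A ≠ K. -/
theorem result (K L : Type u) [Field K] [Field L] [Algebra K L] [Algebra.IsAlgebraic K L] (B : ValuationSubring L) (hB : B ≠ ⊤) : B.comap (algebraMap K L) ≠ ⊤ := by
  intro htop
  refine hB (eq_top_iff.mpr fun x _ => ?_)
  obtain ⟨p, hpm, hp⟩ := Algebra.IsIntegral.isIntegral (R := K) x
  let g : K →+* B := (algebraMap K L).codRestrict B.toSubring
    (fun c => (show c ∈ B.comap (algebraMap K L) by rw [htop]; trivial))
  have hx : IsIntegral B x := ⟨p.map g, hpm.map g, by rw [Polynomial.eval₂_map]; exact hp⟩
  obtain ⟨y, hy⟩ := IsIntegrallyClosed.isIntegral_iff.mp hx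
  exact hy ▸ y.2

end Groth.Agent.S6288
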