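import Groth.Statements.S6289
import Mathlib.RingTheory.Valuation.ValuationSubring
-- import your own Groth.Agent.* helpers here

set_option autoImplicit false
universe u
open CAlg

namespace Groth.Agent.S6289

/-- Let A' be a valuation ring with residue field K and A ⊆ K a valuation ring with fraction field K.
Then the subring C of A' consisting of the elements whose residue class lies in A is a valuation
ring. -/
theorem result (A' : Type u) [CommRing A'] [IsDomain A'] [ValuationRing A'] (A : ValuationSubring (IsLocalRing.ResidueField A')) : ValuationRing (A.toSubring.comap (IsLocalRing.residue A')) := by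
  refine (ValuationRing.iff_dvd_total).mpr ⟨fun x y => ?_⟩
  have key : ∀ {u v : A.toSubring.comap (IsLocalRing.residue A')} (c : A'),
      (u : A') * c = v → IsLocalRing.residue A' c ∈ A → u ∣ v := fun c hc hcA => ⟨⟨c, hcA⟩, (Subtype.ext hc).symm⟩
  rcases ValuationRing.cond (x : A') (y : A') with ⟨c, hc | hc⟩
  · rcases A.mem_or_inv_mem (IsLocalRing.residue A' c) with h | h
    · exact Or.inl (key c hc h)
    · by_cases h0 : IsLocalRing.residue A' c = 0
      · exact Or.inl (key c hc (h0 ▸ A.zero_mem))
      obtain ⟨w, hw⟩ := (IsLocalRing.residue_ne_zero_iff_isUnit c).mp h0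
      refine Or.inr (key (↑w⁻¹ : A') ?_ ?_)
      · rw [← hc, ← hw, mul_assoc, Units.mul_inv, mul_one]
      · rw [map_units_inv, hw]; exact h
  · rcases A.mem_or_inv_mem (IsLocalRing.residue A' c) with h | h
    · exact Or.inr (key c hc h)
    · by_cases h0 : IsLocalRing.residue A' c = 0
      · exact Or.inr (key c hc (h0 ▸ A.zero_mem))
      obtain ⟨w, hw⟩ := (IsLocalRing.residue_ne_zero_iff_isUnit c).mp h0
      refine Or.inl (key (↑w⁻¹ : A') ?_ ?_)
      · rw [← hc, ← hw, mul_assoc, Units.mul_inv, mul_one]
      · rw [map_units_inv, hw]; exact h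

end Groth.Agent.S6289
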