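import Groth.Statements.S6290
import Mathlib.RingTheory.Filtration

set_option autoImplicit false
universe u
open CAlg

namespace Groth.Agent.S6290

/-- Let R be a Noetherian ring, I ⊆ R an ideal, M a finite R-module and N = ⋂ₙ IⁿM. Then for every prime
p ⊇ I there is f ∈ R, f ∉ p, with N_f = 0, i.e. every element of N is annihilated by some power of
f. -/
theorem result {R : Type u} [CommRing R] [IsNoetherianRing R] (I : Ideal R) (M : Type u) [AddCommGroup M] [Module R M] [Module.Finite R M] (p : Ideal R) [p.IsPrime] (hIp : I ≤ p) : ∃ f : R, f ∉ p ∧ ∀ x ∈ (⨅ n : ℕ, I ^ n • (⊤ : Submodule R M)), ∃ k : ℕ, f ^ k • x = 0 := by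
  classical
  obtain ⟨T, hT⟩ := IsNoetherian.noetherian (⨅ n : ℕ, I ^ n • (⊤ : Submodule R M))
  have key : ∀ g ∈ T, ∃ f : R, f ∉ p ∧ f • g = 0 := by
    intro g hg
    obtain ⟨r, hr⟩ := (I.mem_iInf_smul_pow_eq_bot_iff g).1 (hT ▸ Submodule.subset_span hg)
    refine ⟨1 - (r : R), fun h => ?_, by rw [sub_smul, one_smul, hr, sub_self]⟩
    have h1 := p.add_mem h (hIp r.2)
    rw [sub_add_cancel] at h1
    exact (Ideal.ne_top_iff_one p).1 (Ideal.IsPrime.ne_top') h1
  choose! f hfp hf using key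
  refine ⟨∏ g ∈ T, f g, fun h => ?_, fun x hx => ⟨1, ?_⟩⟩
  · obtain ⟨g, hg, hgp⟩ := (‹p.IsPrime›).prod_mem_iff.1 h
    exact hfp g hg hgp
  rw [← hT] at hx
  rw [pow_one]
  induction hx using Submodule.span_induction with
  | mem y hy => rw [← Finset.prod_erase_mul _ _ hy, mul_smul, hf y hy, smul_zero]
  | zero => rw [smul_zero]
  | add y z _ _ h1 h2 => rw [smul_add, h1, h2, add_zero]
  | smul c y _ h1 => rw [smul_comm, h1, smul_zero]

end Groth.Agent.S6290
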