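import Groth.Statements.S6291
import Mathlib.RingTheory.FiniteLength
import Mathlib.RingTheory.Nakayama
import Mathlib.RingTheory.LocalRing.MaximalIdeal.Basic
import Mathlib.RingTheory.Jacobson.Ideal

set_option autoImplicit false
universe u
open CAlg

namespace Groth.Agent.S6291

/-- Let R be a local ring with maximal ideal m and M an R-module of finite length. Then mⁿM = 0 for some
n. -/
theorem result {R : Type u} [CommRing R] [IsLocalRing R] (M : Type u) [AddCommGroup M] [Module R M] (hM : IsFiniteLength R M) : ∃ n : ℕ, (IsLocalRing.maximalIdeal R) ^ n • (⊤ : Submodule R M) = ⊥ := by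
  have hNA := isFiniteLength_iff_isNoetherian_isArtinian.1 hM
  haveI := hNA.1
  haveI := hNA.2
  set m := IsLocalRing.maximalIdeal R
  have hanti : Monotone fun k : ℕ => OrderDual.toDual (m ^ k • (⊤ : Submodule R M)) :=
    fun a b hab => Submodule.smul_mono_left (Ideal.pow_le_pow_right hab)
  obtain ⟨n, hn⟩ := IsArtinian.monotone_stabilizes ⟨_, hanti⟩
  refine ⟨n, Submodule.eq_bot_of_le_smul_of_le_jacobson_bot m _ (IsNoetherian.noetherian _) ?_
    (IsLocalRing.jacobson_eq_maximalIdeal _ bot_ne_top).ge⟩
  have := hn (n + 1) (Nat.le_succ n)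
  rw [← mul_smul, ← pow_succ']
  exact (OrderDual.toDual_inj.1 this).le

end Groth.Agent.S6291
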