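import Groth.Statements.S6294
import Groth.Agent.Lib.TotalFrac.Basic
-- import your own Groth.Agent.* helpers here

set_option autoImplicit false
universe u
open CAlg

namespace Groth.Agent.S6294

/-- Let R be a ring with finitely many minimal primes q₁, …, q_t, and assume that the zerodivisors of R
are precisely the elements of q₁ ∪ … ∪ q_t. Then Q(R), the total ring of fractions of R, equals
R_{q₁} × … × R_{q_t}: the diagonal map R → ∏ R_{q_i} is a localization of R at its non-zerodivisors. -/
theorem result {R : Type u} [CommRing R] {ι : Type} [Fintype ι] (q : ι → Ideal R) [∀ i, (q i).IsPrime] (hinj : Function.Injective q) (hmin : ∀ P : Ideal R, P ∈ minimalPrimes R ↔ P ∈ Set.range q) (hzd : ∀ x : R, x ∈ nonZeroDivisors R ↔ ∀ i, x ∉ q i) : IsLocalization (nonZeroDivisors R) (∀ i, Localization.AtPrime (q i)) := by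
  exact GrothLib.TotalFrac.isLocalization_pi q hinj (fun i => (hmin _).2 ⟨i, rfl⟩) hzd

end Groth.Agent.S6294
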