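import Groth.Statements.S6295
import Mathlib.RingTheory.Ideal.MinimalPrime.Localization
import Mathlib.RingTheory.LocalRing.ResidueField.Basic
import Mathlib.RingTheory.LocalProperties.Reduced
-- import your own Groth.Agent.* helpers here

set_option autoImplicit false
universe u
open CAlg

namespace Groth.Agent.S6295

/-- Let R be a reduced ring. Then every localization R_p at a minimal prime p is a field and the map R →
∏_{p minimal} R_p is injective (so R is a subring of a product of fields); moreover the set of
zerodivisors of R is the union of the minimal primes. -/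
theorem result (R : Type u) [CommRing R] [IsReduced R] : (∀ p : PrimeSpectrum R, p.asIdeal ∈ minimalPrimes R → IsField (Localization.AtPrime p.asIdeal)) ∧ Function.Injective (algebraMap R (∀ p : {p : PrimeSpectrum R // p.asIdeal ∈ minimalPrimes R}, Localization.AtPrime p.1.asIdeal)) ∧ (∀ x : R, x ∉ nonZeroDivisors R ↔ ∃ p ∈ minimalPrimes R, x ∈ p) := by
  refine ⟨fun p hp => ?_, ?_, ?_⟩
  · rw [IsLocalRing.isField_iff_maximalIdeal_eq, eq_bot_iff]
    have : IsReduced (Localization.AtPrime p.asIdeal) := inferInstance
    intro x hx
    refine IsReduced.eq_zero x ?_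
    rw [← mem_nilradical, nilradical_eq_sInf, Submodule.mem_sInf]
    rintro (q : Ideal (Localization.AtPrime p.asIdeal)) (hq : q.IsPrime)
    have hq1 : q.comap (algebraMap R (Localization.AtPrime p.asIdeal)) ≤ p.asIdeal := by
      refine (Ideal.comap_mono (IsLocalRing.le_maximalIdeal hq.ne_top)).trans ?_
      exact le_of_eq (IsLocalization.AtPrime.comap_maximalIdeal _ p.asIdeal)
    have hq2 := hp.2 ⟨Ideal.comap_isPrime _ q, bot_le⟩ hq1
    have hq3 : q.comap (algebraMap R (Localization.AtPrime p.asIdeal)) = p.asIdeal := le_antisymm hq1 hq2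
    rw [← IsLocalization.map_under p.asIdeal.primeCompl (Localization.AtPrime p.asIdeal) q,
      show q.under R = p.asIdeal from hq3, Localization.AtPrime.map_eq_maximalIdeal]
    exact hx
  · rw [injective_iff_map_eq_zero]
    intro x hx
    refine IsReduced.eq_zero x ?_
    rw [← mem_nilradical, nilradical, ← Ideal.sInf_minimalPrimes, Submodule.mem_sInf]
    intro (q : Ideal R) hq
    have := hq.1.1
    have h0 := congrFun hx ⟨⟨q, this⟩, hq⟩
    obtain ⟨⟨s, hs⟩, hsx⟩ := (IsLocalization.map_eq_zero_iff q.primeCompl (Localization.AtPrime q) x).1 h0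
    exact (this.mem_or_mem (show s * x ∈ q by simp [hsx])).resolve_left hs
  · intro x
    constructor
    · intro hx
      rw [mem_nonZeroDivisors_iff_right] at hx
      push Not at hx
      obtain ⟨y, hxy, hy⟩ := hx
      by_contra h
      push Not at h
      apply hy
      refine IsReduced.eq_zero y ?_
      rw [← mem_nilradical, nilradical, ← Ideal.sInf_minimalPrimes, Submodule.mem_sInf]
      intro (q : Ideal R) hq
      exact (hq.1.1.mem_or_mem (show y * x ∈ q by simp [hxy])).resolve_right (h q hq)
    · rintro ⟨q, hq, hxq⟩ hx
      exact Set.disjoint_left.1 (Ideal.disjoint_nonZeroDivisors_of_mem_minimalPrimes hq) hxq hx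

end Groth.Agent.S6295
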