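import Groth.Statements.S6298
import Mathlib.RingTheory.Ideal.Operations
import Mathlib.Order.Preorder.Finite

set_option autoImplicit false
universe u
open CAlg

namespace Groth.Agent.S6298

/-- Let R be a ring, x ∈ R, I ⊆ R an ideal and p₁, …, p_r prime ideals such that for each i the coset x
+ I is not contained in p_i. Then there is y ∈ I with x + y ∉ p_i for all i. -/
theorem result {R : Type u} [CommRing R] (x : R) (I : Ideal R) {r : ℕ} (p : Fin r → Ideal R) [∀ i, (p i).IsPrime] (h : ∀ i, ∃ y ∈ I, x + y ∉ p i) : ∃ y ∈ I, ∀ i, x + y ∉ p i := by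
  classical
  let P : Finset (Ideal R) := Finset.univ.image p
  have hprime : ∀ q ∈ P, q.IsPrime := by
    intro q hq
    obtain ⟨i, -, rfl⟩ := Finset.mem_image.1 hq
    infer_instance
  let M := P.filter fun q => Maximal (· ∈ P) q
  let S := M.filter fun q => x ∈ q
  let T := M.filter fun q => x ∉ q
  let J : Ideal R := I * ∏ q ∈ T, q
  have hnot : ¬ (J : Set R) ⊆ ⋃ q ∈ (↑S : Set (Ideal R)), q := by
    intro hsub
    obtain ⟨q, hq, hJ⟩ := (Ideal.subset_union_prime (s := S) (f := fun q : Ideal R => q) ⊥ ⊥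
      (fun q hq _ _ => hprime q (Finset.mem_filter.1 (Finset.mem_filter.1 hq).1).1) (I := J)).1 hsub
    obtain ⟨hqM, hxq⟩ := Finset.mem_filter.1 hq
    obtain ⟨hqP, hqmax⟩ := Finset.mem_filter.1 hqM
    have := hprime q hqP
    rcases this.mul_le.1 hJ with h' | h'
    · obtain ⟨i, -, rfl⟩ := Finset.mem_image.1 hqP
      obtain ⟨y, hy, hxy⟩ := h i
      exact hxy (add_mem hxq (h' hy))
    · obtain ⟨q', hq', hle⟩ := (Ideal.IsPrime.prod_le this).1 h'
      obtain ⟨hq'M, hxq'⟩ := Finset.mem_filter.1 hq'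
      obtain ⟨-, hq'max⟩ := Finset.mem_filter.1 hq'M
      exact hxq' (hq'max.2 hqP hle hxq)
  obtain ⟨y, hyJ, hy⟩ := Set.not_subset.1 hnot
  simp only [Set.mem_iUnion, Finset.mem_coe, not_exists] at hy
  refine ⟨y, (Ideal.mul_le_left (I := I) (J := ∏ q ∈ T, q)) hyJ, fun i hi => ?_⟩
  obtain ⟨q, hle, hmax⟩ := P.exists_le_maximal (Finset.mem_image_of_mem p (Finset.mem_univ i))
  have hxy : x + y ∈ q := hle hi
  have hqM : q ∈ M := Finset.mem_filter.2 ⟨hmax.1, hmax⟩
  by_cases hxq : x ∈ q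
  · exact hy q (Finset.mem_filter.2 ⟨hqM, hxq⟩) ((Ideal.add_mem_iff_right q hxq).1 hxy)
  · have hyT : y ∈ ∏ q ∈ T, q := (Ideal.mul_le_right (I := I) (J := ∏ q ∈ T, q)) hyJ
    have hle : (∏ q ∈ T, q) ≤ T.inf (fun q : Ideal R => q) := Ideal.prod_le_inf
    have hyq : y ∈ q := (Finset.inf_le (f := fun q : Ideal R => q)
      (show q ∈ T from Finset.mem_filter.2 ⟨hqM, hxq⟩)) (hle hyT)
    exact hxq ((Ideal.add_mem_iff_left q hyq).1 hxy)

end Groth.Agent.S6298
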