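import Groth.Statements.S6299
import Mathlib
-- import your own Groth.Agent.* helpers here

set_option autoImplicit false
universe u
open CAlg

namespace Groth.Agent.S6299

/-- Let R be a Noetherian normal domain. Then the power series ring R[[x]] is a Noetherian normal domain
(here: it is an integrally closed domain and a Noetherian ring). -/
theorem result (R : Type u) [CommRing R] [IsDomain R] [IsNoetherianRing R] [IsIntegrallyClosed R] : IsIntegrallyClosed (PowerSeries R) ∧ IsNoetherianRing (PowerSeries R) := by
  refine ⟨?_, inferInstance⟩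
  let K := FractionRing R
  let L := FractionRing (PowerSeries R)
  let Φ := PowerSeries.map (algebraMap R K)
  have hΦ : Function.Injective Φ := PowerSeries.map_injective _ (IsFractionRing.injective R K)
  -- almost integral power series over `K` have coefficients in `R`
  have key : ∀ (d : PowerSeries R), d ≠ 0 → ∀ (i : ℕ) (f : PowerSeries K),
      (∀ n : ℕ, Φ d * f ^ n ∈ Φ.range) → PowerSeries.coeff i f ∈ (algebraMap R K).range := by
    intro d hd
    have h0 : ∀ f : PowerSeries K, (∀ n : ℕ, Φ d * f ^ n ∈ Φ.range) →
        PowerSeries.constantCoeff f ∈ (algebraMap R K).range := by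
      intro f hf
      obtain ⟨m, hm⟩ : ∃ m : ℕ, (d.order : ℕ∞) = m :=
        ⟨_, (ENat.coe_toNat (by simpa [PowerSeries.order_eq_top] using hd)).symm⟩
      obtain ⟨hm0, hm1⟩ := (PowerSeries.order_eq_nat (φ := d) (n := m)).1 hm
      have hd' : PowerSeries.X ^ m ∣ d := PowerSeries.X_pow_dvd_iff.2 hm1
      obtain ⟨d', rfl⟩ := hd'
      have hd'0 : PowerSeries.constantCoeff d' ≠ 0 := by
        have := hm0
        rwa [PowerSeries.coeff_X_pow_mul', if_pos le_rfl, Nat.sub_self,
          PowerSeries.coeff_zero_eq_constantCoeff_apply] at this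
      have : IsIntegral R (PowerSeries.constantCoeff f) := by
        refine IsAlmostIntegral.isIntegral_of_nonZeroDivisors_le_comap
          ⟨PowerSeries.constantCoeff d', mem_nonZeroDivisors_of_ne_zero hd'0, fun n => ?_⟩
          (fun x hx => mem_nonZeroDivisors_of_ne_zero
            (by simpa using nonZeroDivisors.ne_zero hx))
        obtain ⟨g, hg⟩ := hf n
        have e := congrArg (PowerSeries.coeff (0 + m)) hg
        rw [show Φ (PowerSeries.X ^ m * d') = PowerSeries.X ^ m * Φ d' by simp [Φ],
          mul_assoc, PowerSeries.coeff_X_pow_mul,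
          PowerSeries.coeff_zero_eq_constantCoeff_apply, map_mul PowerSeries.constantCoeff,
          map_pow PowerSeries.constantCoeff, PowerSeries.coeff_map] at e
        refine ⟨PowerSeries.coeff (0 + m) g, ?_⟩
        rw [e, Algebra.smul_def]; congr 1
      exact IsIntegrallyClosed.isIntegral_iff.1 this
    intro i
    induction i with
    | zero =>
      intro f hf
      rw [PowerSeries.coeff_zero_eq_constantCoeff_apply]
      exact h0 f hf
    | succ i ih =>
      intro f hf
      obtain ⟨a, ha⟩ := h0 f hf
      let g := PowerSeries.mk fun p => PowerSeries.coeff (p + 1) f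
      have hfg : f = PowerSeries.X * g + Φ (PowerSeries.C a) := by
        rw [PowerSeries.map_C, ha]
        exact PowerSeries.eq_X_mul_shift_add_const f
      have hg : ∀ n : ℕ, Φ d * g ^ n ∈ Φ.range := by
        intro n
        have hX : Φ d * (PowerSeries.X * g) ^ n ∈ Φ.range := by
          rw [show PowerSeries.X * g = f + Φ (-PowerSeries.C a) by rw [map_neg, hfg]; ring, add_pow,
            Finset.mul_sum]
          refine sum_mem fun j _ => ?_
          obtain ⟨u, hu⟩ := hf j
          exact ⟨u * (-PowerSeries.C a) ^ (n - j) * (n.choose j : PowerSeries R), by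
            rw [map_mul, map_mul, map_pow, map_natCast, hu]; ring⟩
        obtain ⟨u, hu⟩ := hX
        refine ⟨PowerSeries.mk fun p => PowerSeries.coeff (p + n) u, ?_⟩
        refine PowerSeries.ext fun p => ?_
        have e := congrArg (PowerSeries.coeff (p + n)) hu
        rw [mul_pow, mul_left_comm, PowerSeries.coeff_X_pow_mul, PowerSeries.coeff_map] at e
        rw [PowerSeries.coeff_map, PowerSeries.coeff_mk]
        exact e
      have := ih g hg
      rwa [PowerSeries.coeff_mk] at this
  rw [isIntegrallyClosed_iff L]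
  intro x hx
  obtain ⟨d, hd, hdn⟩ := hx.isAlmostIntegral
  have hd0 := nonZeroDivisors.ne_zero hd
  obtain ⟨w, hw⟩ := hdn 1
  rw [pow_one, Algebra.smul_def] at hw
  -- the image of `x` in `K⟦X⟧`
  obtain ⟨u, v, hv, rfl⟩ := IsFractionRing.div_surjective (PowerSeries R) x
  have hv0 : Φ v ≠ 0 := by
    rw [← map_zero Φ]
    exact fun h => nonZeroDivisors.ne_zero hv (hΦ h)
  let F := FractionRing (PowerSeries K)
  have hint : IsIntegral (PowerSeries K) (algebraMap _ F (Φ u) / algebraMap _ F (Φ v)) := by
    let ψ : L →+* F := IsFractionRing.lift (g := (algebraMap (PowerSeries K) F).comp Φ)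
      ((IsFractionRing.injective (PowerSeries K) F).comp hΦ)
    have hψ : ∀ a, ψ (algebraMap (PowerSeries R) L a) = algebraMap (PowerSeries K) F (Φ a) :=
      fun a => IsFractionRing.lift_algebraMap _ a
    obtain ⟨p, hp, hpx⟩ := hx
    refine ⟨p.map Φ, hp.map Φ, ?_⟩
    rw [← hψ, ← hψ, ← map_div₀, Polynomial.eval₂_map]
    have : (algebraMap (PowerSeries K) F).comp Φ = ψ.comp (algebraMap (PowerSeries R) L) :=
      RingHom.ext fun a => (hψ a).symm
    rw [this, ← Polynomial.hom_eval₂, hpx, map_zero]
  obtain ⟨f, hf⟩ := IsIntegrallyClosed.isIntegral_iff.1 hint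
  have hfu : f * Φ v = Φ u := by
    apply IsFractionRing.injective (PowerSeries K) F
    rw [map_mul, hf, div_mul_cancel₀]
    exact fun h => hv0 (IsFractionRing.injective (PowerSeries K) F (h.trans (map_zero _).symm))
  have hvL : algebraMap (PowerSeries R) L v ≠ 0 := fun h =>
    nonZeroDivisors.ne_zero hv (IsFractionRing.injective (PowerSeries R) L (h.trans (map_zero _).symm))
  have hdf : ∀ n : ℕ, Φ d * f ^ n ∈ Φ.range := by
    intro n
    obtain ⟨g, hg⟩ := hdn n
    refine ⟨g, ?_⟩
    have hg' : g * v ^ n = d * u ^ n := by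
      apply IsFractionRing.injective (PowerSeries R) L
      rw [map_mul, map_mul, map_pow, map_pow, hg, Algebra.smul_def, div_pow, mul_assoc,
        div_mul_cancel₀ _ (pow_ne_zero n hvL)]
    apply mul_right_cancel₀ (pow_ne_zero n hv0)
    rw [mul_assoc, ← mul_pow, hfu, ← map_pow, ← map_pow, ← map_mul, ← map_mul, hg']
  choose c hc using fun i => key d hd0 i f hdf
  refine ⟨PowerSeries.mk c, ?_⟩
  have hmk : Φ (PowerSeries.mk c) = f := PowerSeries.ext fun i => by
    rw [PowerSeries.coeff_map, PowerSeries.coeff_mk, hc]
  rw [eq_div_iff hvL, ← map_mul]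
  congr 1
  apply hΦ
  rw [map_mul, hmk, hfu]

end Groth.Agent.S6299
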