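import Groth.Statements.S6300
import Mathlib
-- import your own Groth.Agent.* helpers here

set_option autoImplicit false
universe u
open CAlg

namespace Groth.Agent.S6300

/-- Let R be a normal ring (every localization at a prime is an integrally closed domain). Then R[x] is
a normal ring. -/
theorem result (R : Type u) [CommRing R] (hR : EGA4.IsNormalRing R) : EGA4.IsNormalRing (Polynomial R) := by
  intro q _
  let p := q.comap Polynomial.C
  obtain ⟨_, _⟩ := hR p
  let S := Polynomial (Localization.AtPrime p)
  let pc := Submonoid.map Polynomial.C.toMonoidHom p.primeCompl
  let : Algebra (Polynomial R) S := Polynomial.algebra R (Localization.AtPrime p)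
  have : IsLocalization pc S := Polynomial.isLocalization _ _
  let qS := q.map (algebraMap (Polynomial R) S)
  have disj : Disjoint (pc : Set (Polynomial R)) (q : Set (Polynomial R)) := by
    simpa [pc, p] using! Set.disjoint_image_left.mpr
      (Set.disjoint_compl_left_iff_subset.mpr (fun _ a ↦ a))
  have : qS.IsPrime := IsLocalization.isPrime_of_isPrime_disjoint pc _ _ ‹_› disj
  have : IsLocalization.AtPrime (Localization.AtPrime qS) q := by
    convert IsLocalization.isLocalization_isLocalization_atPrime_isLocalization pc
      (Localization.AtPrime qS) qS
    exact (IsLocalization.under_map_of_isPrime_disjoint pc _ ‹_› disj).symm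
  let e := (IsLocalization.algEquiv q.primeCompl (Localization.AtPrime qS) (Localization.AtPrime q)).toRingEquiv
  have : IsDomain (Localization.AtPrime qS) :=
    IsLocalization.isDomain_localization (Ideal.primeCompl_le_nonZeroDivisors qS)
  have : IsIntegrallyClosed (Localization.AtPrime qS) :=
    isIntegrallyClosed_of_isLocalization _ qS.primeCompl (Ideal.primeCompl_le_nonZeroDivisors qS)
  exact ⟨e.symm.injective.isDomain, IsIntegrallyClosed.of_equiv (R := Localization.AtPrime qS) e⟩

end Groth.Agent.S6300
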