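import Groth.Statements.S6301
import Mathlib.RingTheory.Flat.EquationalCriterion
import Mathlib.LinearAlgebra.FreeModule.Basic
import Mathlib.Algebra.Module.Projective

set_option autoImplicit false
universe u
open CAlg

namespace Groth.Agent.S6301

/-- An R-module M is flat exactly when, for every finitely presented R-module P and every surjective
R-module map N → M, the induced map Hom_R(P, N) → Hom_R(P, M) is surjective (modules P, N taken in
the same universe). -/
theorem result {R : Type u} [CommRing R] (M : Type u) [AddCommGroup M] [Module R M] : Module.Flat R M ↔ ∀ (P : Type u) [AddCommGroup P] [Module R P], Module.FinitePresentation R P → ∀ (N : Type u) [AddCommGroup N] [Module R N] (g : N →ₗ[R] M), Function.Surjective g → ∀ h : P →ₗ[R] M, ∃ h' : P →ₗ[R] N, g.comp h' = h := by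
  constructor
  · intro _ P _ _ hP N _ _ g hg h
    haveI := hP
    obtain ⟨k, a, b, rfl⟩ := Module.Flat.exists_factorization_of_finitePresentation h
    obtain ⟨b', hb'⟩ := Module.projective_lifting_property g b hg
    exact ⟨b' ∘ₗ a, by rw [← LinearMap.comp_assoc, hb']⟩
  · intro H
    refine Module.Flat.of_forall_exists_factorization fun {l f x} hx => ?_
    classical
    let P := (Fin l →₀ R) ⧸ Submodule.span R {f}
    haveI : Module.FinitePresentation R P :=
      Module.finitePresentation_of_surjective _ (Submodule.span R {f}).mkQ_surjective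
        (by rw [Submodule.ker_mkQ]; exact Submodule.fg_span_singleton f)
    let g : (M →₀ R) →ₗ[R] M := Finsupp.linearCombination R id
    let h : P →ₗ[R] M := (Submodule.span R {f}).liftQ x
      ((Submodule.span_singleton_le_iff_mem _ _).2 hx)
    obtain ⟨h', hh'⟩ := H P inferInstance (M →₀ R) g (Finsupp.linearCombination_id_surjective R M) h
    let φ : (Fin l →₀ R) →ₗ[R] (M →₀ R) := h' ∘ₗ (Submodule.span R {f}).mkQ
    let T : Finset M := Finset.univ.biUnion fun i : Fin l => (φ (Finsupp.single i 1)).support
    let en := T.equivFin
    let j : (Fin T.card →₀ R) →ₗ[R] (M →₀ R) :=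
      Finsupp.lmapDomain R R (fun i => ((en.symm i : T) : M))
    let q : (M →₀ R) →ₗ[R] (Fin T.card →₀ R) :=
      Finsupp.lcomapDomain (fun i => ((en.symm i : T) : M))
        (Subtype.val_injective.comp en.symm.injective)
    have hjq : ∀ z : M →₀ R, z.support ⊆ T → j (q z) = z := by
      intro z hz
      refine Finsupp.mapDomain_comapDomain _ (Subtype.val_injective.comp en.symm.injective) _ ?_
      intro m hm
      exact ⟨en ⟨m, hz hm⟩, by simp⟩
    refine ⟨T.card, q ∘ₗ φ, g ∘ₗ j, ?_, ?_⟩
    · apply Finsupp.lhom_ext
      intro i r
      have h1 : φ (Finsupp.single i 1) = j (q (φ (Finsupp.single i 1))) :=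
        (hjq _ (fun m hm => Finset.mem_biUnion.2 ⟨i, Finset.mem_univ i, hm⟩)).symm
      rw [show Finsupp.single i r = r • Finsupp.single i (1 : R) by simp, map_smul, map_smul]
      congr 1
      change _ = g (j (q (φ (Finsupp.single i 1))))
      rw [← h1]
      exact (LinearMap.congr_fun hh' ((Submodule.span R {f}).mkQ (Finsupp.single i 1))).symm
    · have h2 : φ f = 0 := by
        change h' ((Submodule.span R {f}).mkQ f) = 0
        rw [show (Submodule.span R {f}).mkQ f = 0 from
          (Submodule.Quotient.mk_eq_zero _).2 (Submodule.mem_span_singleton_self f)]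
        exact map_zero h'
      rw [LinearMap.comp_apply, h2, map_zero]

end Groth.Agent.S6301
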