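import Groth.Statements.S6303
import Mathlib.RingTheory.Flat.Basic
import Mathlib.LinearAlgebra.TensorProduct.RightExactness
import Mathlib.LinearAlgebra.TensorProduct.Prod

set_option autoImplicit false
universe u
open CAlg

namespace Groth.Agent.S6303

/-- Let R be a ring, I, J ⊆ R ideals and M a flat R-module. Then IM ∩ JM = (I ∩ J)M. -/
theorem result {R : Type u} [CommRing R] (I J : Ideal R) (M : Type u) [AddCommGroup M] [Module R M] [Module.Flat R M] : (I • (⊤ : Submodule R M)) ⊓ (J • ⊤) = (I ⊓ J) • (⊤ : Submodule R M) := by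
  refine le_antisymm (fun m hm => ?_) (le_inf (Submodule.smul_mono_left inf_le_left)
    (Submodule.smul_mono_left inf_le_right))
  let f : R →ₗ[R] (R ⧸ I) × (R ⧸ J) := (Submodule.mkQ I).prod (Submodule.mkQ J)
  have hex : Function.Exact (I ⊓ J : Ideal R).subtype f := by
    intro x
    simp [f, Prod.ext_iff, Ideal.Quotient.eq_zero_iff_mem, Ideal.mem_inf]
  have h0 : ∀ (K : Ideal R) (y : M), y ∈ K • (⊤ : Submodule R M) →
      y ⊗ₜ[R] (Submodule.mkQ K 1) = 0 := by
    intro K y hy
    refine Submodule.smul_induction_on hy (fun r hr z _ => ?_) fun a b ha hb => ?_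
    · rw [TensorProduct.smul_tmul, ← map_smul, Submodule.mkQ_apply,
        (Submodule.Quotient.mk_eq_zero K).2 (by simpa using hr), TensorProduct.tmul_zero]
    · rw [TensorProduct.add_tmul, ha, hb, add_zero]
  have h : f.lTensor M (m ⊗ₜ 1) = 0 := by
    apply (TensorProduct.prodRight R R M (R ⧸ I) (R ⧸ J)).injective
    rw [LinearMap.lTensor_tmul, TensorProduct.prodRight_tmul, map_zero]
    exact Prod.ext (h0 I m hm.1) (h0 J m hm.2)
  obtain ⟨w, hw⟩ := (Module.Flat.lTensor_exact M hex _).1 h
  have key : ∀ w : TensorProduct R M (I ⊓ J : Ideal R),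
      TensorProduct.rid R M ((I ⊓ J : Ideal R).subtype.lTensor M w) ∈
        (I ⊓ J) • (⊤ : Submodule R M) := by
    intro w
    induction w using TensorProduct.induction_on with
    | zero => simp
    | add a b ha hb => rw [map_add, map_add]; exact add_mem ha hb
    | tmul y j => simpa using Submodule.smul_mem_smul j.2 (Submodule.mem_top : y ∈ ⊤)
  simpa [hw] using key w

end Groth.Agent.S6303
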