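import Groth.Statements.S6305
import Groth.Agent.Lib.UnivInj.Basic
-- import your own Groth.Agent.* helpers here

set_option autoImplicit false
universe u
open CAlg

namespace Groth.Agent.S6305
open TensorProduct

/-- An R-module M is flat exactly when every short exact sequence 0 → M₁ → M₂ → M → 0 of R-modules is
universally exact, i.e. its first map M₁ → M₂ is universally injective. -/
theorem result {R : Type u} [CommRing R] (M : Type u) [AddCommGroup M] [Module R M] : Module.Flat R M ↔ ∀ (M₁ M₂ : Type u) [AddCommGroup M₁] [Module R M₁] [AddCommGroup M₂] [Module R M₂] (f : M₁ →ₗ[R] M₂) (g : M₂ →ₗ[R] M), Function.Injective f → Function.Exact f g → Function.Surjective g → CAlgX.UniversallyInjective R f := by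
  refine ⟨fun _ M₁ M₂ _ _ _ _ f g hf hex hg => GrothLib.UnivInj.of_flat_quotient hf hex hg, fun h => ?_⟩
  let g := Finsupp.linearCombination R (id : M → M)
  have hg : Function.Surjective g := Finsupp.linearCombination_id_surjective R M
  have hui := h (LinearMap.ker g) (M →₀ R) (LinearMap.ker g).subtype g (Submodule.injective_subtype _)
    (LinearMap.exact_subtype_ker_map g) hg
  exact GrothLib.UnivInj.flat_quotient (M := LinearMap.ker g) (N := M →₀ R) (f := (LinearMap.ker g).subtype) (LinearMap.exact_subtype_ker_map g) hg
    fun I _ => hui (R ⧸ I)

end Groth.Agent.S6305
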