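import Groth.Statements.S6307
import Mathlib.RingTheory.Ideal.Colon

set_option autoImplicit false
universe u
open CAlg

namespace Groth.Agent.S6307

/-- Let R be a ring, J ⊆ R a principal ideal and I ⊆ J an ideal. Then I = J · (I : J). -/
theorem result {R : Type u} [CommRing R] (I J : Ideal R) (hJ : J.IsPrincipal) (hIJ : I ≤ J) : I = J * I.colon J := by
  obtain ⟨a, rfl⟩ := hJ
  refine le_antisymm (fun x hx => ?_) ?_
  · obtain ⟨r, rfl⟩ := Ideal.mem_span_singleton'.1 (hIJ hx)
    rw [mul_comm r a]
    refine Ideal.mul_mem_mul (Ideal.mem_span_singleton_self a) ?_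
    refine Submodule.mem_colon.2 fun y hy => ?_
    obtain ⟨s, rfl⟩ := Ideal.mem_span_singleton'.1 hy
    have : r • (s * a) = s * (r * a) := by rw [smul_eq_mul]; ring
    rw [this]
    exact I.mul_mem_left s hx
  · refine Ideal.mul_le.2 fun y hy z hz => ?_
    rw [mul_comm]
    exact Submodule.mem_colon.1 hz y hy

end Groth.Agent.S6307
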