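import Groth.Statements.S6308
import Mathlib
-- import your own Groth.Agent.* helpers here

set_option autoImplicit false
universe u
open scoped TensorProduct
open CAlg

namespace Groth.Agent.S6308

/-- Let R be a ring and φ : M → N a map of R-modules with N finite. For a prime p, the localization φ_p
: M_p → N_p is surjective if and only if φ ⊗ κ(p) : M ⊗ κ(p) → N ⊗ κ(p) is surjective; the set U of
such primes is open in Spec(R); and for every f ∈ R with D(f) ⊆ U the map M_f → N_f is surjective. -/
theorem result {R : Type u} [CommRing R] {M N : Type u} [AddCommGroup M] [Module R M] [AddCommGroup N] [Module R N] [Module.Finite R N] (φ : M →ₗ[R] N) : (∀ p : PrimeSpectrum R, Function.Surjective (LocalizedModule.map p.asIdeal.primeCompl φ) ↔ Function.Surjective (φ.lTensor p.asIdeal.ResidueField)) ∧ IsOpen {p : PrimeSpectrum R | Function.Surjective (LocalizedModule.map p.asIdeal.primeCompl φ)} ∧ (∀ f : R, (↑(PrimeSpectrum.basicOpen f) : Set (PrimeSpectrum R)) ⊆ {p : PrimeSpectrum R | Function.Surjective (LocalizedModule.map p.asIdeal.primeCompl φ)}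 → Function.Surjective (LocalizedModule.map (Submonoid.powers f) φ)) := by
  classical
  let Q := N ⧸ LinearMap.range φ
  have hcrit : ∀ W : Submonoid R, Function.Surjective (LocalizedModule.map W φ) ↔ Subsingleton (LocalizedModule W Q) := fun W ↦ by
    have hex : Function.Exact (LocalizedModule.map W φ) (LocalizedModule.map W (LinearMap.range φ).mkQ) := LocalizedModule.map_exact W φ (LinearMap.range φ).mkQ (LinearMap.exact_map_mkQ_range φ)
    have hs : Function.Surjective (LocalizedModule.map W (LinearMap.range φ).mkQ) :=
      LocalizedModule.map_surjective W _ (Submodule.mkQ_surjective _)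
    refine ⟨fun h ↦ ⟨fun a b ↦ ?_⟩, fun h x ↦ (hex x).mp (Subsingleton.elim _ _)⟩
    obtain ⟨a', rfl⟩ := hs a
    obtain ⟨b', rfl⟩ := hs b
    rw [(hex a').mpr (h a'), (hex b').mpr (h b')]
  have hsupp : ∀ p : PrimeSpectrum R, Function.Surjective (LocalizedModule.map p.asIdeal.primeCompl φ) ↔ p ∉ Module.support R Q := fun p ↦ by
    rw [hcrit, Module.notMem_support_iff]
  refine ⟨fun p ↦ ?_, ?_, fun f hf ↦ ?_⟩
  · rw [hsupp, Module.mem_support_iff_nontrivial_residueField_tensorProduct, not_nontrivial_iff_subsingleton]
    have hex := lTensor_exact p.asIdeal.ResidueField (LinearMap.exact_map_mkQ_range φ) (Submodule.mkQ_surjective _)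
    have hs := LinearMap.lTensor_surjective p.asIdeal.ResidueField (g := (LinearMap.range φ).mkQ) (Submodule.mkQ_surjective _)
    refine ⟨fun h x ↦ (hex x).mp (Subsingleton.elim _ _), fun h ↦ ⟨fun a b ↦ ?_⟩⟩
    obtain ⟨a', rfl⟩ := hs a
    obtain ⟨b', rfl⟩ := hs b
    rw [(hex a').mpr (h a'), (hex b').mpr (h b')]
  · simp only [hsupp]
    have : IsClosed (Module.support R Q) := by
      rw [Module.support_eq_zeroLocus]; exact PrimeSpectrum.isClosed_zeroLocus _
    exact this.isOpen_compl
  · rw [hcrit]
    refine LocalizedModule.subsingleton_iff_support_subset.mpr fun x hx ↦ ?_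
    by_contra h
    exact (hsupp x).mp (hf (by simpa [PrimeSpectrum.mem_zeroLocus] using h)) hx

end Groth.Agent.S6308
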