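import Groth.Statements.S6309
import Groth.Agent.Lib.CokerLocal.Basic
-- import your own Groth.Agent.* helpers here

set_option autoImplicit false
universe u
open scoped TensorProduct
open CAlg

namespace Groth.Agent.S6309

/-- Let R be a ring and φ : P₁ → P₂ a map of finite projective R-modules. The set U of primes p of R
such that φ ⊗ κ(p) is injective is open, and for every f ∈ R with D(f) ⊆ U the map (P₁)_f → (P₂)_f
is injective and Coker(φ)_f is a finite projective module over R_f. -/
theorem result {R : Type u} [CommRing R] {P₁ P₂ : Type u} [AddCommGroup P₁] [Module R P₁] [AddCommGroup P₂] [Module R P₂] [Module.Finite R P₁] [Module.Projective R P₁] [Module.Finite R P₂] [Module.Projective R P₂] (φ : P₁ →ₗ[R] P₂) : IsOpen {p : PrimeSpectrum R | Function.Injective (φ.lTensor p.asIdeal.ResidueField)} ∧ ∀ f : R, (↑(PrimeSpectrum.basicOpen f) : Set (PrimeSpectrum R)) ⊆ {p : PrimeSpectrum R | Function.Injective (φ.lTensor p.asIdeal.ResidueField)} → Function.Injective (LocalizedModule.map (Submonoid.powers f) φ)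 ∧ Module.Finite (Localization.Away f) (LocalizedModule (Submonoid.powers f) (P₂ ⧸ LinearMap.range φ)) ∧ Module.Projective (Localization.Away f) (LocalizedModule (Submonoid.powers f) (P₂ ⧸ LinearMap.range φ)) := by
  let L : Ideal R :=
    { carrier := {g | ∃ h : P₂ →ₗ[R] P₁, h ∘ₗ φ = g • LinearMap.id}
      add_mem' := fun {a b} ⟨h, hh⟩ ⟨h', hh'⟩ => ⟨h + h', by rw [LinearMap.add_comp, hh, hh', add_smul]⟩
      zero_mem' := ⟨0, by simp⟩
      smul_mem' := fun c a ⟨h, hh⟩ => ⟨c • h, by rw [LinearMap.smul_comp, hh, smul_smul, smul_eq_mul]⟩ }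
  have hinj_of : ∀ (q : PrimeSpectrum R), (∃ g ∈ L, g ∉ q.asIdeal) →
      Function.Injective (φ.lTensor q.asIdeal.ResidueField) := by
    rintro q ⟨g, ⟨h, hh⟩, hg⟩
    rw [injective_iff_map_eq_zero]
    intro z hz
    have h1 := congrArg (h.lTensor q.asIdeal.ResidueField) hz
    rw [map_zero, ← LinearMap.comp_apply, ← LinearMap.lTensor_comp, hh, LinearMap.lTensor_smul,
      LinearMap.lTensor_id, LinearMap.smul_apply, LinearMap.id_apply] at h1
    rw [← algebraMap_smul q.asIdeal.ResidueField g z] at h1
    exact (smul_eq_zero.1 h1).resolve_left fun h0 => hg (Ideal.algebraMap_residueField_eq_zero.1 h0)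
  have hset : {p : PrimeSpectrum R | Function.Injective (φ.lTensor p.asIdeal.ResidueField)} =
      (PrimeSpectrum.zeroLocus (L : Set R))ᶜ := by
    ext q
    simp only [Set.mem_setOf_eq, Set.mem_compl_iff, PrimeSpectrum.mem_zeroLocus, Set.not_subset]
    refine ⟨fun hq => ?_, fun ⟨g, hg, hgq⟩ => hinj_of q ⟨g, hg, hgq⟩⟩
    obtain ⟨g, hg, h, hh⟩ := GrothLib.CokerLocal.exists_leftInv_of_fibre_injective φ q hq
    exact ⟨g, ⟨h, hh⟩, hg⟩
  rw [hset]
  refine ⟨(PrimeSpectrum.isClosed_zeroLocus _).isOpen_compl, fun f hf => ?_⟩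
  obtain ⟨n, h, hh⟩ : ∃ n : ℕ, f ^ n ∈ L := by
    have : f ∈ L.radical := by
      rw [Ideal.radical_eq_sInf, Ideal.mem_sInf]
      rintro J ⟨hLJ, hJ⟩
      by_contra hfJ
      exact hf (show (⟨J, hJ⟩ : PrimeSpectrum R) ∈ PrimeSpectrum.basicOpen f from hfJ) hLJ
    exact this
  let S := Submonoid.powers f
  let a : S := ⟨f ^ n, n, rfl⟩
  have hg : GrothLib.CokerProj.GenInv φ (a : R) := ⟨h, fun x => by
    have := congrArg φ (LinearMap.congr_fun hh x)
    simpa [a] using this⟩
  refine ⟨?_, ?_, GrothLib.CokerLocal.projective_localized φ S a hg⟩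
  · rw [injective_iff_map_eq_zero]
    intro z hz
    induction z using LocalizedModule.induction_on with
    | h m t =>
      have := congrArg (LocalizedModule.map S h) hz
      rw [LocalizedModule.map_mk, LocalizedModule.map_mk, map_zero,
        show h (φ m) = (a : R) • m from LinearMap.congr_fun hh m] at this
      have h2 := congrArg (fun z => Localization.mk (1 : R) a • z) this
      simp only [LocalizedModule.mk_smul_mk, one_smul, smul_zero] at h2
      rw [← h2]
      exact (LocalizedModule.mk_cancel_common_left a t m).symm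
  · exact Module.Finite.of_isLocalizedModule S (LocalizedModule.mkLinearMap S (P₂ ⧸ LinearMap.range φ))

end Groth.Agent.S6309
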