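import Groth.Statements.S6310
import Mathlib
-- import your own Groth.Agent.* helpers here

set_option autoImplicit false
universe u
open CAlg

namespace Groth.Agent.S6310

/-- Let R be a ring, S ⊆ R a multiplicative subset, I ⊆ R an ideal and M a finite R-module. If x₁, …,
x_r ∈ M have images generating S⁻¹(M/IM) as an S⁻¹R-module, then there is f ∈ S + I (f = s + i with
s ∈ S, i ∈ I) such that x₁, …, x_r generate M_f as an R_f-module. -/
theorem result {R : Type u} [CommRing R] (S : Submonoid R) (I : Ideal R) (M : Type u) [AddCommGroup M] [Module R M] [Module.Finite R M] {r : ℕ} (x : Fin r → M) (hx : Submodule.span (Localization S) (Set.range fun j => LocalizedModule.mkLinearMap S (M ⧸ (I • (⊤ : Submodule R M))) (Submodule.Quotient.mk (x j))) = ⊤) : ∃ (s : R) (i : R), s ∈ S ∧ i ∈ I ∧ Submodule.span (Localization.Away (s + i)) (Set.range fun j => LocalizedModule.mkLinearMap (Submonoid.powers (s + i)) M (x j)) = ⊤ := by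
  skip
  classical
  set IM : Submodule R M := I • ⊤ with hIM
  set N : Submodule R M := Submodule.span R (Set.range x) with hN
  have h1 : ∀ m : M, ∃ t : S, (t : R) • m ∈ N ⊔ IM := by
    intro m
    have hm : LocalizedModule.mkLinearMap S (M ⧸ IM) (Submodule.Quotient.mk m) ∈
        Submodule.span (Localization S) (LocalizedModule.mkLinearMap S (M ⧸ IM) ''
          Set.range (fun j => (Submodule.Quotient.mk (x j) : M ⧸ IM))) := by
      rw [← Set.range_comp]
      exact hx ▸ Submodule.mem_top
    rw [← Submodule.localized'_span (Localization S) S (LocalizedModule.mkLinearMap S (M ⧸ IM))] at hm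
    obtain ⟨q, hq, s0, hs⟩ := hm
    rw [IsLocalizedModule.mk'_eq_iff, Submonoid.smul_def, ← map_smul] at hs
    obtain ⟨u, hu⟩ := IsLocalizedModule.exists_of_eq (S := S) hs
    refine ⟨u * s0, ?_⟩
    have hle : Submodule.span R (Set.range fun j => (Submodule.Quotient.mk (x j) : M ⧸ IM)) ≤
        Submodule.map IM.mkQ N := by
      rw [hN, Submodule.map_span, ← Set.range_comp]; rfl
    obtain ⟨k, hk, hkq⟩ := hle hq
    have e : IM.mkQ ((u : R) • k) = IM.mkQ (((u * s0 : S) : R) • m) := by
      rw [map_smul, map_smul, hkq]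
      simp only [Submonoid.smul_def] at hu
      rw [hu, smul_smul, Submonoid.coe_mul]; rfl
    rw [Submodule.mkQ_apply, Submodule.mkQ_apply, Submodule.Quotient.eq] at e
    have := Submodule.sub_mem _ (Submodule.mem_sup_left (T := IM) (Submodule.smul_mem _ (u : R) hk))
      (Submodule.mem_sup_right (S := N) e)
    simpa using this
  obtain ⟨T, hT⟩ := (Module.Finite.fg_top (R := R) (M := M))
  choose t ht using h1
  let s : S := ∏ m ∈ T, t m
  have h2 : ∀ m : M, (s : R) • m ∈ N ⊔ IM := by
    intro m
    have hm : m ∈ Submodule.span R (↑T : Set M) := by rw [hT]; trivial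
    induction hm using Submodule.span_induction with
    | mem y hy =>
      obtain ⟨d, hd⟩ : t y ∣ s := Finset.dvd_prod_of_mem _ hy
      rw [hd, Submonoid.coe_mul, mul_comm, mul_smul]
      exact Submodule.smul_mem _ _ (ht y)
    | zero => simp
    | add y z _ _ hy hz => rw [smul_add]; exact Submodule.add_mem _ hy hz
    | smul a y _ hy => rw [smul_comm]; exact Submodule.smul_mem _ a hy
  let f : Module.End R (M ⧸ N) := (s : R) • LinearMap.id
  have hf : LinearMap.range f ≤ I • ⊤ := by
    rintro _ ⟨q, rfl⟩
    obtain ⟨m, rfl⟩ := Submodule.Quotient.mk_surjective _ q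
    obtain ⟨a, haN, b, hb, hab⟩ := Submodule.mem_sup.mp (h2 m)
    show (s : R) • Submodule.Quotient.mk m ∈ _
    rw [← Submodule.Quotient.mk_smul, ← hab, Submodule.Quotient.mk_add,
      (Submodule.Quotient.mk_eq_zero N).mpr haN, zero_add]
    have h3 : (N.mkQ b) ∈ Submodule.map N.mkQ IM := Submodule.mem_map_of_mem hb
    rw [hIM, Submodule.map_smul''] at h3
    exact (Submodule.smul_mono le_rfl le_top) h3
  obtain ⟨p, hp, -, hcoef, hpf⟩ :=
    LinearMap.exists_monic_and_natDegree_eq_and_coeff_mem_pow_and_aeval_eq_zero R f I hf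
  have hdiff : p.eval (s : R) - (s : R) ^ p.natDegree ∈ I := by
    rw [Polynomial.eval_eq_sum_range, Finset.sum_range_succ, hp.coeff_natDegree, one_mul,
      add_sub_cancel_right]
    refine Ideal.sum_mem _ fun k hk => Ideal.mul_mem_right _ _ ?_
    exact Ideal.pow_le_self (by have := Finset.mem_range.mp hk; omega) (hcoef k)
  have hkill : ∀ m : M, p.eval (s : R) • m ∈ N := by
    intro m
    rw [← Submodule.Quotient.mk_eq_zero, Submodule.Quotient.mk_smul]
    have hfe : f = algebraMap R (Module.End R (M ⧸ N)) (s : R) := by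
      ext; simp [f]
    rw [hfe, Polynomial.aeval_algebraMap_apply_eq_algebraMap_eval] at hpf
    have := LinearMap.congr_fun hpf (Submodule.Quotient.mk m)
    simpa using this
  refine ⟨(s : R) ^ p.natDegree, p.eval (s : R) - (s : R) ^ p.natDegree, pow_mem s.2 _, hdiff, ?_⟩
  rw [add_sub_cancel]
  set g := p.eval (s : R)
  rw [show (fun j => LocalizedModule.mkLinearMap (Submonoid.powers g) M (x j)) = LocalizedModule.mkLinearMap (Submonoid.powers g) M ∘ x from rfl, Set.range_comp,
    ← Submodule.localized'_span (Localization.Away g) (Submonoid.powers g)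
      (LocalizedModule.mkLinearMap (Submonoid.powers g) M), ← hN, eq_top_iff]
  intro y _
  induction y using LocalizedModule.induction_on with
  | h m d =>
    refine ⟨g • m, hkill m, ⟨g, Submonoid.mem_powers g⟩ * d, ?_⟩
    rw [IsLocalizedModule.mk_eq_mk']
    exact IsLocalizedModule.mk'_cancel_left (LocalizedModule.mkLinearMap (Submonoid.powers g) M) m ⟨g, Submonoid.mem_powers g⟩ d

end Groth.Agent.S6310
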