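import Groth.Statements.S6311
import Groth.Agent.Lib.K0Sub.Basic
import Mathlib
open CategoryTheory

set_option autoImplicit false
universe u
open CategoryTheory
open CAlg

namespace Groth.Agent.S6311

theorem rank_add {R : Type u} [CommRing R] [IsLocalRing R] (S : ShortComplex (ModuleCat.{u} R)) (hS : S.ShortExact)
    (h1 : Module.Finite R S.X₁ ∧ Module.Projective R S.X₁) (h2 : Module.Finite R S.X₂ ∧ Module.Projective R S.X₂)
    (h3 : Module.Finite R S.X₃ ∧ Module.Projective R S.X₃) :
    (Module.finrank R S.X₂ : ℤ) = Module.finrank R S.X₁ + Module.finrank R S.X₃ := by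
  haveI := h1.1
  haveI := h2.1
  haveI := h3.1
  haveI := h1.2
  haveI := h3.2
  haveI : Module.Free R S.X₁ := Module.free_of_flat_of_isLocalRing
  haveI : Module.Free R S.X₃ := Module.free_of_flat_of_isLocalRing
  obtain ⟨s, hs⟩ := Module.projective_lifting_property S.g.hom LinearMap.id hS.moduleCat_surjective_g
  have hex := (CategoryTheory.ShortComplex.ShortExact.moduleCat_exact_iff_function_exact S).mp hS.exact
  obtain ⟨e, -⟩ := hex.splitSurjectiveEquiv hS.moduleCat_injective_f ⟨s, hs⟩
  rw [e.finrank_eq, Module.finrank_prod, Nat.cast_add]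

theorem cl_eq_finrank {R : Type u} [CommRing R] [IsLocalRing R] :
    ∀ (n : ℕ) (M : ModuleCat.{u} R) [Module.Finite R M] [Module.Free R M], Module.finrank R M = n →
      KZero.clSub (fun M : ModuleCat.{u} R => Module.Finite R M ∧ Module.Projective R M) M =
        n • KZero.clSub (fun M : ModuleCat.{u} R => Module.Finite R M ∧ Module.Projective R M) (ModuleCat.of R R) := by
  intro n
  induction n with
  | zero =>
    intro M _ _ hM
    haveI : Subsingleton M := Module.subsingleton_of_rank_zero (R := R) (by rw [← Module.finrank_eq_rank, hM, Nat.cast_zero])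
    rw [zero_smul, GrothLib.K0Sub.clSub_isZero (ModuleCat.isZero_of_subsingleton M)]
  | succ n ih =>
    intro M _ _ hM
    let b := Module.finBasisOfFinrankEq R M hM
    let f : R →ₗ[R] M := LinearMap.toSpanSingleton R M (b 0)
    let g : M →ₗ[R] (Fin n → R) := LinearMap.pi fun i => b.coord i.succ
    have hgf : g ∘ₗ f = 0 := LinearMap.ext_ring (funext fun i => by simp [g, f])
    let S : ShortComplex (ModuleCat.{u} R) := ShortComplex.mk (X₁ := ModuleCat.of R R) (X₂ := M)
      (X₃ := ModuleCat.of R (Fin n → R)) (ModuleCat.ofHom f) (ModuleCat.ofHom g) (by ext1; exact hgf)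
    have hexact : Function.Exact f g := fun x => by
      constructor
      · intro hx
        refine ⟨b.repr x 0, b.repr.injective (Finsupp.ext fun i => ?_)⟩
        refine Fin.cases ?_ (fun j => ?_) i
        · simp [f]
        · have := congrFun hx j
          simp [g] at this
          simp [f, this]
      · rintro ⟨r, rfl⟩
        exact LinearMap.congr_fun hgf r
    have hS : S.ShortExact :=
      { exact := (CategoryTheory.ShortComplex.ShortExact.moduleCat_exact_iff_function_exact S).mpr hexact
        mono_f := (ModuleCat.mono_iff_injective _).2 fun r r' h => by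
          have := congrArg (fun x => b.repr x 0) (show f r = f r' from h)
          simpa [f] using this
        epi_g := (ModuleCat.epi_iff_surjective _).2 fun v => ⟨b.repr.symm (Finsupp.equivFunOnFinite.symm (Fin.cons 0 v)),
          funext fun i => by
            show b.coord i.succ _ = _
            simp⟩ }
    have hcl := GrothLib.K0Sub.clSub_add (P := fun M : ModuleCat.{u} R => Module.Finite R M ∧ Module.Projective R M) hS
      ⟨inferInstanceAs (Module.Finite R R), inferInstanceAs (Module.Projective R R)⟩
      ⟨inferInstanceAs (Module.Finite R M), inferInstanceAs (Module.Projective R M)⟩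
      ⟨inferInstanceAs (Module.Finite R (Fin n → R)), inferInstanceAs (Module.Projective R (Fin n → R))⟩
    rw [show KZero.clSub (fun M : ModuleCat.{u} R => Module.Finite R M ∧ Module.Projective R M) M =
      KZero.clSub (fun M : ModuleCat.{u} R => Module.Finite R M ∧ Module.Projective R M) S.X₂ from rfl, hcl]
    haveI : Module.Finite R (ModuleCat.of R (Fin n → R)) := inferInstanceAs (Module.Finite R (Fin n → R))
    haveI : Module.Free R (ModuleCat.of R (Fin n → R)) := inferInstanceAs (Module.Free R (Fin n → R))
    rw [show S.X₃ = ModuleCat.of R (Fin n → R) from rfl,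
      ih (ModuleCat.of R (Fin n → R)) (Module.finrank_fin_fun R), succ_nsmul, add_comm]



/-- Let R be a local ring. Then K₀(R), the Grothendieck group of the category of finite projective
R-modules, is isomorphic to ℤ via the rank; precisely, there is an isomorphism K₀(R) ≅ ℤ of abelian
groups sending the class [R] to 1 (such an isomorphism is then unique, K₀(R) being generated by
[R]). -/
theorem result (R : Type u) [CommRing R] [IsLocalRing R] : ∃ e : KZero.K0sub (fun M : ModuleCat.{u} R => Module.Finite R M ∧ Module.Projective R M) ≃+ ℤ, e (KZero.clSub (fun M : ModuleCat.{u} R => Module.Finite R M ∧ Module.Projective R M) (ModuleCat.of R R)) = 1 := by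
  classical
  obtain ⟨φ, hφ⟩ := GrothLib.K0Sub.exists_lift (P := fun M : ModuleCat.{u} R => Module.Finite R M ∧ Module.Projective R M)
    (fun M : ModuleCat.{u} R => (Module.finrank R M : ℤ)) (fun S hS h1 h2 h3 => rank_add S hS h1 h2 h3)
  have hR : Module.Finite R (ModuleCat.of R R) ∧ Module.Projective R (ModuleCat.of R R) :=
    ⟨inferInstanceAs (Module.Finite R R), inferInstanceAs (Module.Projective R R)⟩
  let ψ : ℤ →+ KZero.K0sub (fun M : ModuleCat.{u} R => Module.Finite R M ∧ Module.Projective R M) :=
    zmultiplesHom _ (KZero.clSub (fun M : ModuleCat.{u} R => Module.Finite R M ∧ Module.Projective R M) (ModuleCat.of R R))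
  have h1 : φ (KZero.clSub (fun M : ModuleCat.{u} R => Module.Finite R M ∧ Module.Projective R M) (ModuleCat.of R R)) = 1 := by
    rw [hφ _ hR]
    show (Module.finrank R R : ℤ) = 1
    rw [Module.finrank_self, Nat.cast_one]
  have hleft : ψ.comp φ = AddMonoidHom.id _ := GrothLib.K0Sub.hom_ext fun M hM => by
    show ψ (φ _) = _
    rw [hφ M hM]
    haveI := hM.1
    haveI := hM.2
    haveI : Module.Free R M := Module.free_of_flat_of_isLocalRing
    rw [AddMonoidHom.id_apply, cl_eq_finrank _ M rfl, zmultiplesHom_apply, natCast_zsmul]
  have hright : φ.comp ψ = AddMonoidHom.id ℤ := AddMonoidHom.ext_int (by simp [ψ, h1])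
  exact ⟨φ.toAddEquiv ψ hleft hright, h1⟩

end Groth.Agent.S6311
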