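import Groth.Statements.S6312
import Mathlib.RingTheory.Length
import Mathlib.Algebra.Module.LocalizedModule.Submodule

set_option autoImplicit false
universe u
open CAlg

namespace Groth.Agent.S6312

/-- Let R be a ring, M an R-module and S ⊆ R a multiplicative subset. Then length_{S⁻¹R}(S⁻¹M) ≤
length_R(M). -/
theorem result {R : Type u} [CommRing R] (S : Submonoid R) (M : Type u) [AddCommGroup M] [Module R M] : Module.length (Localization S) (LocalizedModule S M) ≤ Module.length R M := by
  rw [← WithBot.coe_le_coe, Module.coe_length, Module.coe_length]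
  let f := LocalizedModule.mkLinearMap S M
  let φ : Submodule (Localization S) (LocalizedModule S M) → Submodule R M :=
    fun N => (N.restrictScalars R).comap f
  refine Order.krullDim_le_of_strictMono φ ?_
  intro N₁ N₂ hlt
  refine lt_of_le_of_ne (fun x hx => hlt.le hx) fun he => ?_
  apply hlt.ne
  refine le_antisymm hlt.le ?_
  intro x hx
  obtain ⟨⟨m, s⟩, hms⟩ := IsLocalizedModule.surj S f x
  have h1 : m ∈ φ N₂ := by
    change f m ∈ N₂
    rw [← hms]
    exact (N₂.restrictScalars R).smul_mem (s : R) hx
  rw [← he] at h1
  change f m ∈ N₁ at h1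
  rw [← hms] at h1
  have h2 := N₁.smul_mem (IsLocalization.mk' (Localization S) (1 : R) s) h1
  rwa [Submonoid.smul_def, ← IsScalarTower.algebraMap_smul (Localization S) (s : R) x, smul_smul,
    IsLocalization.mk'_spec, map_one, one_smul] at h2

end Groth.Agent.S6312
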