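import Groth.Statements.S6313
import Groth.Agent.Lib.Flatness.Tor
-- import your own Groth.Agent.* helpers here

set_option autoImplicit false
universe u
open CategoryTheory
open CAlg

namespace Groth.Agent.S6313

/-- For a ring R and an R-module M, flatness of M over R is equivalent to the vanishing of Tor₁ᴿ(M, R/I)
for every finitely generated ideal I ⊆ R. -/
theorem result (R : Type u) [CommRing R] (M : Type u) [AddCommGroup M] [Module R M] : Module.Flat R M ↔ ∀ I : Ideal R, I.FG → Limits.IsZero (((CategoryTheory.Tor (ModuleCat.{u} R) 1).obj (ModuleCat.of R M)).obj (ModuleCat.of R (R ⧸ I))) := by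
  refine ⟨fun hM I _ ↦ (GrothLib.Flatness.isZero_tor_one_iff_good R M _).mpr
    fun A B _ _ _ _ i q hi _ _ ↦ Module.Flat.lTensor_preserves_injective_linearMap i hi, fun h ↦ ?_⟩
  rw [Module.Flat.iff_lTensor_injective]
  intro I hI
  exact (GrothLib.Flatness.isZero_tor_one_iff_good R M _).mp (h I hI) I R I.subtype (Submodule.mkQ I)
    I.injective_subtype (Submodule.mkQ_surjective _) (LinearMap.exact_subtype_mkQ I)

end Groth.Agent.S6313
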