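import Groth.Statements.S6318
import Mathlib
-- import your own Groth.Agent.* helpers here

set_option autoImplicit false
universe u
open CategoryTheory
open CAlg

namespace Groth.Agent.S6318

section Aux
open CategoryTheory Limits
variable {R : Type u} [CommRing R] [IsNoetherianRing R]

abbrev FinMod (R : Type u) [CommRing R] := {N : ModuleCat.{u} R // Module.Finite R N}

noncomputable def coverRk (N : FinMod R) : ℕ :=
  haveI := N.2; (Module.Finite.exists_fin' R N.1).choose

noncomputable abbrev coverF (N : FinMod R) : ModuleCat.{u} R := ModuleCat.of R (Fin (coverRk N) → R)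

noncomputable def coverπ (N : FinMod R) : coverF N ⟶ N.1 :=
  haveI := N.2; ModuleCat.ofHom (Module.Finite.exists_fin' R N.1).choose_spec.choose

theorem coverπ_surj (N : FinMod R) : Function.Surjective (coverπ N).hom :=
  haveI := N.2; (Module.Finite.exists_fin' R N.1).choose_spec.choose_spec

theorem coverF_finite (N : FinMod R) : Module.Finite R (coverF N) :=
  inferInstanceAs (Module.Finite R (Fin (coverRk N) → R))

theorem coverF_proj (N : FinMod R) : Module.Projective R (coverF N) :=
  inferInstanceAs (Module.Projective R (Fin (coverRk N) → R))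

variable (M : ModuleCat.{u} R) [hM : Module.Finite R M]

/-- The syzygies. -/
noncomputable def syz : ℕ → FinMod R
  | 0 => ⟨M, hM⟩
  | n + 1 => ⟨ModuleCat.of R (LinearMap.ker (coverπ (syz n)).hom), by
      haveI := coverF_finite (syz n)
      exact inferInstanceAs (Module.Finite R (LinearMap.ker (coverπ (syz n)).hom))⟩

/-- The terms of the resolution. -/
noncomputable abbrev resX (n : ℕ) : ModuleCat.{u} R := coverF (syz M n)

/-- The differentials. -/
noncomputable def resD (n : ℕ) : resX M (n + 1) ⟶ resX M n :=
  coverπ (syz M (n + 1)) ≫ ModuleCat.ofHom (LinearMap.ker (coverπ (syz M n)).hom).subtype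

theorem resD_range (n : ℕ) : LinearMap.range (resD M n).hom = LinearMap.ker (coverπ (syz M n)).hom := by
  show LinearMap.range ((LinearMap.ker (coverπ (syz M n)).hom).subtype.comp (coverπ (syz M (n + 1))).hom) = _
  exact (LinearMap.range_comp_of_range_eq_top _ (LinearMap.range_eq_top.2 (coverπ_surj _))).trans
    (Submodule.range_subtype _)

theorem resD_ker (n : ℕ) : LinearMap.ker (resD M n).hom = LinearMap.ker (coverπ (syz M (n + 1))).hom := by
  show LinearMap.ker ((LinearMap.ker (coverπ (syz M n)).hom).subtype.comp (coverπ (syz M (n + 1))).hom) = _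
  exact LinearMap.ker_comp_of_ker_eq_bot _ (Submodule.ker_subtype _)

/-- The resolution as a complex. -/
noncomputable def resCx : ChainComplex (ModuleCat.{u} R) ℕ :=
  ChainComplex.of (resX M) (resD M) fun n => ModuleCat.hom_ext (LinearMap.ext fun v => by
    show (resD M n).hom ((resD M (n + 1)).hom v) = 0
    exact LinearMap.mem_ker.1 ((resD_ker M n).ge ((resD_range M (n + 1)).le (LinearMap.mem_range_self _ v))))

theorem resCx_d (n : ℕ) : (resCx M).d (n + 1) n = resD M n := ChainComplex.of_d (resX M) (resD M) n

theorem resCx_d_aug : (resCx M).d 1 0 ≫ coverπ (syz M 0) = 0 := by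
  rw [resCx_d]
  refine ModuleCat.hom_ext (LinearMap.ext fun v => ?_)
  show (coverπ (syz M 0)).hom ((resD M 0).hom v) = 0
  exact LinearMap.mem_ker.1 ((resD_range M 0).le (LinearMap.mem_range_self _ v))

/-- The resolution. -/
noncomputable def res : ProjectiveResolution M where
  complex := resCx M
  projective i := (IsProjective.iff_projective _).1 (coverF_proj (syz M i))
  π := (ChainComplex.toSingle₀Equiv _ _).symm ⟨coverπ (syz M 0), resCx_d_aug M⟩
  quasiIso := ⟨fun i => by
    cases i with
    | zero =>
      rw [ChainComplex.quasiIsoAt₀_iff, ShortComplex.quasiIso_iff_of_zeros']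
      · refine ⟨(ShortComplex.moduleCat_exact_iff _).2 fun v hv => ?_, (ModuleCat.epi_iff_surjective _).2 ?_⟩
        · have hv' : (coverπ (syz M 0)).hom v = 0 := by
            have h := hv
            simp [ChainComplex.toSingle₀Equiv_symm_apply_f_zero] at h
            exact h
          obtain ⟨w, hw⟩ := (resD_range M 0).ge (LinearMap.mem_ker.2 hv')
          exact ⟨w, (congrArg (fun f => f.hom w) (resCx_d M 0)).trans hw⟩
        · intro x
          obtain ⟨v, hv⟩ := coverπ_surj (syz M 0) x
          refine ⟨v, ?_⟩
          simp [ChainComplex.toSingle₀Equiv_symm_apply_f_zero]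
          exact hv
      · exact (resCx M).shape _ _ (by simp)
      · rfl
      · rfl
    | succ i =>
      rw [quasiIsoAt_iff_exactAt' _ _ (HomologicalComplex.exactAt_single_obj _ _ _ _ (by simp)),
        HomologicalComplex.exactAt_iff' _ (i + 1 + 1) (i + 1) i (by simp) (by simp)]
      refine (ShortComplex.moduleCat_exact_iff _).2 fun v hv => ?_
      have hv' : (resD M i).hom v = 0 := (congrArg (fun f => f.hom v) (resCx_d M i)).symm.trans hv
      obtain ⟨w, hw⟩ := (resD_range M (i + 1)).ge ((resD_ker M i).le (LinearMap.mem_ker.2 hv'))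
      exact ⟨w, (congrArg (fun f => f.hom w) (resCx_d M (i + 1))).trans hw⟩⟩

end Aux

/-- Let R be a Noetherian ring and M a finite R-module. Then M has a resolution … → F₂ → F₁ → F₀ → M → 0
with every Fᵢ finite free; stated as the existence of a projective resolution of M in the category
of R-modules all of whose terms are finite free. -/
theorem result (R : Type u) [CommRing R] [IsNoetherianRing R] (M : Type u) [AddCommGroup M] [Module R M] [Module.Finite R M] : ∃ F : ProjectiveResolution (ModuleCat.of R M), ∀ n : ℕ, Module.Finite R (F.complex.X n) ∧ Module.Free R (F.complex.X n) := by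
  exact ⟨res (ModuleCat.of R M), fun n => ⟨coverF_finite (syz (ModuleCat.of R M) n),
    inferInstanceAs (Module.Free R (Fin (coverRk (syz (ModuleCat.of R M) n)) → R))⟩⟩

end Groth.Agent.S6318
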