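import Groth.Statements.S6315
import Groth.Agent.S6318
import Mathlib
-- import your own Groth.Agent.* helpers here

set_option autoImplicit false
universe u
open CategoryTheory
open CAlg

namespace Groth.Agent.S6315

open CategoryTheory MonoidalCategory TensorProduct

theorem finite_of_iso {R : Type u} [CommRing R] {X Y : ModuleCat.{u} R} (e : X ≅ Y) (h : Module.Finite R X) :
    Module.Finite R Y :=
  haveI := h
  Module.Finite.equiv e.toLinearEquiv

theorem finite_homology {R : Type u} [CommRing R] [IsNoetherianRing R] (C : ChainComplex (ModuleCat.{u} R) ℕ)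
    {p : ℕ} (h : Module.Finite R (C.X p)) :
    Module.Finite R ((HomologicalComplex.homologyFunctor (ModuleCat.{u} R) (ComplexShape.down ℕ) p).obj C) := by
  refine finite_of_iso ((C.sc p).moduleCatHomologyIso).symm ?_
  haveI : Module.Finite R (C.sc p).X₂ := h
  exact inferInstanceAs (Module.Finite R (LinearMap.ker (C.sc p).g.hom ⧸ LinearMap.range (C.sc p).moduleCatToCycles))

/-- Let R be a Noetherian ring and M, N finite R-modules. Then Tor_pᴿ(M, N) is a finite R-module for all
p. -/
theorem result (R : Type u) [CommRing R] [IsNoetherianRing R] (M N : Type u) [AddCommGroup M] [Module R M] [AddCommGroup N] [Module R N] [Module.Finite R M] [Module.Finite R N] (p : ℕ) : Module.Finite R (((CategoryTheory.Tor (ModuleCat.{u} R) p).obj (ModuleCat.of R M)).obj (ModuleCat.of R N)) := by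
  obtain ⟨F, hF⟩ := Groth.Agent.S6318.result R N
  refine finite_of_iso (F.isoLeftDerivedObj ((tensoringLeft (ModuleCat.{u} R)).obj (ModuleCat.of R M)) p).symm ?_
  refine finite_homology _ ?_
  haveI := (hF p).1
  exact inferInstanceAs (Module.Finite R (M ⊗[R] (F.complex.X p : Type u)))

end Groth.Agent.S6315
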