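import Groth.Statements.S6319
import Groth.Agent.Lib.K0Sub.Basic
import Mathlib
-- import your own Groth.Agent.* helpers here

set_option autoImplicit false
universe u
open CategoryTheory
open CAlg

namespace Groth.Agent.S6319

/-- Let R be an Artinian local ring. The length function defines a homomorphism of abelian groups
length_R : K'₀(R) → ℤ on the Grothendieck group of finite R-modules, sending the class of a finite
module M to its (finite) length. -/
theorem result (R : Type u) [CommRing R] [IsArtinianRing R] [IsLocalRing R] : ∃ φ : KZero.K0sub (fun M : ModuleCat.{u} R => Module.Finite R M) →+ ℤ, ∀ (M : ModuleCat.{u} R), Module.Finite R M → (φ (KZero.clSub (fun M : ModuleCat.{u} R => Module.Finite R M) M) : ℤ) = (Module.length R M).toNat := by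
  haveI : IsNoetherianRing R := inferInstance
  obtain ⟨ψ, hψ⟩ := GrothLib.K0Sub.exists_lift (P := fun M : ModuleCat.{u} R => Module.Finite R M)
    (fun M : ModuleCat.{u} R => ((Module.length R M).toNat : ℤ)) (fun S hS h1 h2 h3 => by
      haveI : Module.Finite R S.X₁ := h1
      haveI : Module.Finite R S.X₂ := h2
      haveI : Module.Finite R S.X₃ := h3
      have h := Module.length_eq_add_of_exact S.f.hom S.g.hom hS.moduleCat_injective_f
        hS.moduleCat_surjective_g ((CategoryTheory.ShortComplex.ShortExact.moduleCat_exact_iff_function_exact S).mp hS.exact)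
      show ((Module.length R S.X₂).toNat : ℤ) = (Module.length R S.X₁).toNat + (Module.length R S.X₃).toNat
      rw [h, ENat.toNat_add Module.length_ne_top Module.length_ne_top, Nat.cast_add])
  exact ⟨ψ, hψ⟩

end Groth.Agent.S6319
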