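import Groth.Statements.S6321
import Groth.Agent.Lib.Gonflement.Limit
import Mathlib.RingTheory.Flat.FaithfullyFlat.Algebra
import Mathlib.RingTheory.RingHom.FaithfullyFlat

set_option autoImplicit false
universe u
open CAlg

namespace Groth.Agent.S6321

/-- Let R be a ring and (Sᵢ, φᵢⱼ) a directed system of faithfully flat R-algebras whose transition maps
are R-algebra maps. Then S = colim Sᵢ is a faithfully flat R-algebra: for any index i the composite
R → Sᵢ → S is faithfully flat. -/
theorem result {R : Type u} [CommRing R] {ι : Type u} [Preorder ι] [Nonempty ι] [IsDirected ι (· ≤ ·)] (G : ι → Type u) [∀ i, CommRing (G i)] [∀ i, Algebra R (G i)] (f : ∀ i j, i ≤ j → G i →+* G j) [DirectedSystem G fun i j h => f i j h] (hcompat : ∀ i j (h : i ≤ j), (f i j h).comp (algebraMap R (G i)) = algebraMap R (G j)) (hff : ∀ i, (algebraMap R (G i)).FaithfullyFlat) (i : ι) : ((Ring.DirectLimit.of G (fun i j h => f i j h) i).comp (algebraMap R (G i))).FaithfullyFlat := by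
  have hg : ∀ i j (h : i ≤ j),
      (Ring.DirectLimit.of G (fun i j h => f i j h) j).comp (f i j h) =
        Ring.DirectLimit.of G (fun i j h => f i j h) i := fun i j h =>
    RingHom.ext fun x => Ring.DirectLimit.of_f h x
  have hsurj : ∀ b : Ring.DirectLimit G (fun i j h => f i j h),
      ∃ i x, Ring.DirectLimit.of G (fun i j h => f i j h) i x = b := Ring.DirectLimit.exists_of
  have hker : ∀ i x, Ring.DirectLimit.of G (fun i j h => f i j h) i x = 0 →
      ∃ j, ∃ h : i ≤ j, f i j h x = 0 := fun i x h => Ring.DirectLimit.of.zero_exact h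
  classical
  set S := Ring.DirectLimit G fun i j h => f i j h
  letI := ((Ring.DirectLimit.of G (fun i j h => f i j h) i).comp (algebraMap R (G i))).toAlgebra
  have hR : ∀ j r, Ring.DirectLimit.of G (fun i j h => f i j h) j (algebraMap R (G j) r) =
      algebraMap R S r := by
    intro j r
    obtain ⟨k, hik, hjk⟩ := exists_ge_ge i j
    show _ = Ring.DirectLimit.of G (fun i j h => f i j h) i (algebraMap R (G i) r)
    rw [← RingHom.congr_fun (hg i k hik), ← RingHom.congr_fun (hg j k hjk)]
    simp only [RingHom.comp_apply]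
    exact congrArg _ ((RingHom.congr_fun (hcompat j k hjk) r).trans
      (RingHom.congr_fun (hcompat i k hik) r).symm)
  let l : ∀ j, G j →ₐ[R] S := fun j => AlgHom.mk _ (hR j)
  have hflat : ∀ j, Module.Flat R (G j) := fun j => by
    have := hff j
    rw [RingHom.faithfullyFlat_algebraMap_iff] at this
    infer_instance
  rw [RingHom.FaithfullyFlat]
  show Module.FaithfullyFlat R S
  haveI : Module.Flat R S := by
    refine GrothLib.Gonflement.flat_of_forall_relation fun n r x hx => ?_
    obtain ⟨j, -, hj⟩ := GrothLib.Gonflement.exists_stage_finset G f _ hg hsurj i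
      (Finset.univ.image x)
    have hy : ∀ t, ∃ y, l j y = x t := fun t => hj (by simp)
    choose y hy using hy
    obtain ⟨k, hjk, hk⟩ := hker j (∑ t, r t • y t) (by
      show l j (∑ t, r t • y t) = 0
      simp only [map_sum, map_smul, hy]
      exact hx)
    refine ⟨G k, inferInstance, inferInstance, (l k).toLinearMap, fun t => f j k hjk (y t),
      hflat k, fun t => (RingHom.congr_fun (hg j k hjk) (y t)).trans (hy t), ?_⟩
    rw [← hk, map_sum]
    refine Finset.sum_congr rfl fun t _ => ?_
    rw [Algebra.smul_def, Algebra.smul_def, map_mul, ← RingHom.comp_apply, hcompat]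
  refine ⟨fun {m} hm htop => ?_⟩
  have hS : m.map (algebraMap R S) = ⊤ := by
    have h := Ideal.smul_top_eq_map (R := R) (S := S) m
    rw [htop] at h
    simpa using h.symm
  rw [Ideal.eq_top_iff_one, Ideal.map, Ideal.span, Submodule.mem_span_iff_exists_finset_subset] at hS
  obtain ⟨c, t, ht, -, hc⟩ := hS
  obtain ⟨j, -, hj⟩ := GrothLib.Gonflement.exists_stage_finset G f _ hg hsurj i (t.image c)
  have hy : ∀ s ∈ t, ∃ y, l j y = c s := fun s hs => hj (by simpa using ⟨s, hs, rfl⟩)
  choose! y hy using hy
  have hr : ∀ s ∈ t, ∃ r ∈ m, algebraMap R S r = s := fun s hs => ht hs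
  choose! r hrm hr using hr
  obtain ⟨k, hjk, hk⟩ := GrothLib.Gonflement.exists_eq G f _ hg hker
    (x := ∑ s ∈ t, y s * algebraMap R (G j) (r s)) (y := 1) (i := j) (by
    show l j _ = l j 1
    rw [map_one, ← hc, map_sum]
    refine Finset.sum_congr rfl fun s hs => ?_
    rw [map_mul, hy s hs, AlgHom.commutes, hr s hs]
    rfl)
  have hk' : (1 : G k) ∈ m.map (algebraMap R (G k)) := by
    rw [← map_one (f j k hjk), ← hk, map_sum]
    refine Ideal.sum_mem _ fun s hs => ?_
    rw [map_mul, ← RingHom.comp_apply, hcompat]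
    exact Ideal.mul_mem_left _ _ (Ideal.mem_map_of_mem _ (hrm s hs))
  have := hff k
  rw [RingHom.faithfullyFlat_algebraMap_iff] at this
  refine hm.ne_top ?_
  rw [← Ideal.comap_map_eq_self_of_faithfullyFlat (B := G k) m, (Ideal.eq_top_iff_one _).2 hk',
    Ideal.comap_top]

end Groth.Agent.S6321
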