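import Groth.Statements.S6322
import Mathlib
import Groth.Agent.Lib.FreeLift.Basic
-- import your own Groth.Agent.* helpers here

set_option autoImplicit false
universe u
open CategoryTheory
open CAlg

namespace Groth.Agent.S6322

/-- Let R be a ring, M → N a map of R-modules, N• → N a resolution (a chain complex with a
quasi-isomorphism onto N placed in degree 0) and … → F₁ → F₀ → M a complex with every Fᵢ free (F• a
chain complex with an augmentation to M in degree 0, exactness not required). Then (1) there is a
map of complexes F• → N• compatible with M → N through the augmentations, and (2) any two such maps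
are homotopic. -/
theorem result (R : Type u) [CommRing R] (M N : ModuleCat.{u} R) (g : M ⟶ N) (F Nc : ChainComplex (ModuleCat.{u} R) ℕ) (hF : ∀ i, Module.Free R (F.X i)) (εF : F ⟶ (ChainComplex.single₀ (ModuleCat.{u} R)).obj M) (εN : Nc ⟶ (ChainComplex.single₀ (ModuleCat.{u} R)).obj N) [QuasiIso εN] : (∃ φ : F ⟶ Nc, φ ≫ εN = εF ≫ (ChainComplex.single₀ (ModuleCat.{u} R)).map g) ∧ ∀ α β : F ⟶ Nc, α ≫ εN = εF ≫ (ChainComplex.single₀ (ModuleCat.{u} R)).map g → β ≫ εN = εF ≫ (ChainComplex.single₀ (ModuleCat.{u} R)).map g → Nonempty (Homotopy α β) := by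
  haveI : ∀ i, Projective (F.X i) := fun i => by
    haveI := hF i
    haveI : Module.Projective R (F.X i) := inferInstance
    exact (IsProjective.iff_projective (R := R) (F.X i)).1 inferInstance
  exact GrothLib.FreeLift.exists_lift_and_homotopy εN g F εF

end Groth.Agent.S6322
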