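import Groth.Statements.S6326
import Mathlib
-- import your own Groth.Agent.* helpers here

set_option autoImplicit false
universe u
open CategoryTheory CategoryTheory.Limits
open CAlg

namespace Groth.Agent.S6326

/-- Let R be a ring and N an R-module such that whenever M is the colimit of a filtered diagram (Mᵢ) of
R-modules (indexed by a filtered category in the same universe), the comparison map colim Hom_R(N,
Mᵢ) → Hom_R(N, M) is injective. Then N is finitely generated. (The implication from finite
generation back to this injectivity also holds; only the characterizing direction is stated here.) -/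
theorem result (R : Type u) [CommRing R] (N : Type u) [AddCommGroup N] [Module R N] (h : ∀ (J : Type u) [SmallCategory J] [IsFiltered J] (F : J ⥤ ModuleCat.{u} R), Function.Injective (colimit.post F (coyoneda.obj (Opposite.op (ModuleCat.of R N))))) : Module.Finite R N := by
  classical
  let J := {S : Submodule R N // S.FG}
  have : Nonempty J := ⟨⟨⊥, Submodule.fg_bot⟩⟩
  have : IsDirected J (· ≤ ·) := ⟨fun a b => ⟨⟨a.1 ⊔ b.1, a.2.sup b.2⟩, le_sup_left, le_sup_right⟩⟩
  let F : J ⥤ ModuleCat.{u} R :=
    { obj := fun S => ModuleCat.of R (N ⧸ S.1)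
      map := fun {S T} g => ModuleCat.ofHom (Submodule.factor g.le)
      map_id := fun S => by ext x; rfl
      map_comp := fun _ _ => by ext x; rfl }
  let G := coyoneda.obj (Opposite.op (ModuleCat.of R N))
  let b : J := ⟨⊥, Submodule.fg_bot⟩
  let q : ModuleCat.of R N ⟶ F.obj b := ModuleCat.ofHom (⊥ : Submodule R N).mkQ
  have hq : q ≫ colimit.ι F b = 0 := by
    ext x
    let S : J := ⟨Submodule.span R {x}, Submodule.fg_span_singleton x⟩
    have hle : b ≤ S := show (⊥ : Submodule R N) ≤ _ from bot_le
    rw [← colimit.w F (homOfLE hle)]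
    have h0 : (F.map (homOfLE hle)) (q x) = 0 :=
      (Submodule.Quotient.mk_eq_zero _).2 (Submodule.mem_span_singleton_self x)
    show (colimit.ι F S) ((F.map (homOfLE hle)) (q x)) = (0 : ModuleCat.of R N ⟶ colimit F) x
    rw [h0, map_zero]
    rfl
  have heq : colimit.ι (F ⋙ G) b q = colimit.ι (F ⋙ G) b (0 : ModuleCat.of R N ⟶ F.obj b) := by
    apply h J F
    rw [← ConcreteCategory.comp_apply, ← ConcreteCategory.comp_apply, colimit.ι_post]
    show q ≫ colimit.ι F b = 0 ≫ colimit.ι F b
    rw [hq, zero_comp]
  obtain ⟨S, f, g, hS⟩ := (Types.FilteredColimit.colimit_eq_iff (F ⋙ G)).1 heq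
  refine ⟨?_⟩
  convert S.2
  rw [eq_comm, eq_top_iff]
  intro x _
  have h1 : q ≫ F.map f = 0 ≫ F.map g := hS
  have h2 := congrArg (fun t : ModuleCat.of R N ⟶ F.obj S => t x) h1
  simp only [zero_comp] at h2
  exact (Submodule.Quotient.mk_eq_zero _).1 h2

end Groth.Agent.S6326
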