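import Groth.Statements.S6327
import Mathlib.Algebra.Category.ModuleCat.Colimits
import Mathlib.Algebra.Category.ModuleCat.FilteredColimits
import Mathlib.RingTheory.Finiteness.Basic
import Mathlib.Algebra.Module.FinitePresentation
import Mathlib.CategoryTheory.Limits.ConcreteCategory.Basic

set_option autoImplicit false
universe u
open CategoryTheory CategoryTheory.Limits
open CAlg

namespace Groth.Agent.S6327

private lemma exists_section {R : Type u} [CommRing R] {N : Type u} [AddCommGroup N] [Module R N]
    (h : ∀ (J : Type u) [SmallCategory J] [IsFiltered J] (F : J ⥤ ModuleCat.{u} R),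
      Function.Bijective (colimit.post F (coyoneda.obj (Opposite.op (ModuleCat.of R N)))))
    {J : Type u} [SmallCategory J] [IsFiltered J] (F : J ⥤ ModuleCat.{u} R) (α : F ⟶ (Functor.const J).obj (ModuleCat.of R N))
    (hinj : ∀ (j : J) (x : F.obj j), (α.app j).hom x = 0 → ∃ (k : J) (g : j ⟶ k), (F.map g).hom x = 0)
    (hsurj : ∀ y : N, ∃ (j : J) (x : F.obj j), (α.app j).hom x = y) :
    ∃ (j : J) (a : N →ₗ[R] F.obj j), (α.app j).hom ∘ₗ a = LinearMap.id := by
  let c : Cocone F := ⟨ModuleCat.of R N, α⟩
  let d : colimit F ⟶ ModuleCat.of R N := colimit.desc F c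
  have hd : Function.Bijective d.hom := by
    refine ⟨(injective_iff_map_eq_zero _).2 fun z hz => ?_, fun y => ?_⟩
    · obtain ⟨j, x, rfl⟩ := CategoryTheory.Limits.Concrete.colimit_exists_rep F z
      have hx : (c.ι.app j).hom x = 0 := (congrArg (fun t => t.hom x) (colimit.ι_desc c j)).symm.trans hz
      obtain ⟨k, g, hg⟩ := hinj j x hx
      refine (congrArg (fun t => t.hom x) (colimit.w F g)).symm.trans ?_
      exact (congrArg (colimit.ι F k).hom hg).trans (map_zero _)
    · obtain ⟨j, x, hx⟩ := hsurj y
      exact ⟨(colimit.ι F j).hom x, (congrArg (fun t => t.hom x) (colimit.ι_desc c j)).trans hx⟩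
  let e' : colimit F ≅ ModuleCat.of R N := (LinearEquiv.ofBijective d.hom hd).toModuleIso
  obtain ⟨z, hz⟩ := (h J F).2 e'.inv
  obtain ⟨j, a, rfl⟩ := CategoryTheory.Limits.Concrete.colimit_exists_rep (F ⋙ coyoneda.obj (Opposite.op (ModuleCat.of R N))) z
  refine ⟨j, a.hom, ?_⟩
  have h1 : a ≫ colimit.ι F j = e'.inv := (ConcreteCategory.congr_hom (colimit.ι_post F (coyoneda.obj (Opposite.op (ModuleCat.of R N))) j) a).symm.trans hz
  have h2 : a ≫ α.app j = 𝟙 _ :=
    (congrArg (a ≫ ·) (colimit.ι_desc c j).symm).trans ((Category.assoc _ _ _).symm.trans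
      ((congrArg (· ≫ d) h1).trans e'.inv_hom_id))
  exact congrArg ModuleCat.Hom.hom h2


/-- Let R be a ring and N an R-module such that whenever M is the colimit of a filtered diagram (Mᵢ) of
R-modules (indexed by a filtered category in the same universe), the comparison map colim Hom_R(N,
Mᵢ) → Hom_R(N, M) is bijective. Then N is finitely presented. (The implication from finite
presentation back to this bijectivity also holds; only the characterizing direction is stated here.) -/
theorem result (R : Type u) [CommRing R] (N : Type u) [AddCommGroup N] [Module R N] (h : ∀ (J : Type u) [SmallCategory J] [IsFiltered J] (F : J ⥤ ModuleCat.{u} R), Function.Bijective (colimit.post F (coyoneda.obj (Opposite.op (ModuleCat.of R N))))) : Module.FinitePresentation R N := by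
  classical
  -- the finitely generated submodules
  let F : Finset N ⥤ ModuleCat.{u} R :=
    { obj := fun s => ModuleCat.of R (Submodule.span R (s : Set N))
      map := fun {s t} g => ModuleCat.ofHom (Submodule.inclusion (Submodule.span_mono (Finset.coe_subset.2 (leOfHom g))))
      map_id := fun s => rfl
      map_comp := fun g g' => rfl }
  obtain ⟨s, a, ha⟩ := exists_section h F
    { app := fun s => ModuleCat.ofHom (Submodule.span R (s : Set N)).subtype }
    (fun s x hx => ⟨s, 𝟙 s, Subtype.ext hx⟩)
    (fun x => ⟨{x}, ⟨x, Submodule.subset_span (by simp)⟩, rfl⟩)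
  haveI : Module.Finite R N := Module.Finite.of_surjective (Submodule.span R (s : Set N)).subtype fun x =>
    ⟨a x, LinearMap.congr_fun ha x⟩
  -- the finitely generated relations
  obtain ⟨n, π, hπ⟩ := Module.Finite.exists_fin' R N
  let K := LinearMap.ker π
  let sp : Finset K → Submodule R (Fin n → R) := fun t => (Submodule.span R (t : Set K)).map K.subtype
  have hsp : ∀ t, sp t ≤ K := fun t => Submodule.map_subtype_le K _
  let G : Finset K ⥤ ModuleCat.{u} R :=
    { obj := fun t => ModuleCat.of R ((Fin n → R) ⧸ sp t)
      map := fun {t t'} g => ModuleCat.ofHom (Submodule.factor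
        (Submodule.map_mono (Submodule.span_mono (Finset.coe_subset.2 (leOfHom g)))))
      map_id := fun t => ModuleCat.hom_ext (LinearMap.ext fun x => Submodule.Quotient.induction_on _ x fun v => rfl)
      map_comp := fun g g' => ModuleCat.hom_ext (LinearMap.ext fun x => Submodule.Quotient.induction_on _ x fun v => rfl) }
  obtain ⟨t, b, hb⟩ := exists_section h G
    { app := fun t => ModuleCat.ofHom ((sp t).liftQ π (hsp t))
      naturality := fun t t' g => ModuleCat.hom_ext (LinearMap.ext fun x => Submodule.Quotient.induction_on _ x fun v => rfl) }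
    (fun t x hx => by
      obtain ⟨v, rfl⟩ := Submodule.mkQ_surjective _ x
      have hv : v ∈ K := hx
      refine ⟨insert ⟨v, hv⟩ t, homOfLE (Finset.subset_insert _ _), (Submodule.Quotient.mk_eq_zero _).2 ?_⟩
      exact ⟨⟨v, hv⟩, Submodule.subset_span (Finset.mem_coe.2 (Finset.mem_insert_self _ _)), rfl⟩)
    (fun x => by
      obtain ⟨v, rfl⟩ := hπ x
      exact ⟨∅, Submodule.Quotient.mk v, rfl⟩)
  haveI : Module.FinitePresentation R ((Fin n → R) ⧸ sp t) :=
    Module.finitePresentation_of_surjective (sp t).mkQ (Submodule.mkQ_surjective _) (by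
      rw [Submodule.ker_mkQ]
      exact (Submodule.fg_span t.finite_toSet).map _)
  refine Module.finitePresentation_of_surjective ((sp t).liftQ π (hsp t)) (fun x => ⟨b x, LinearMap.congr_fun hb x⟩) ?_
  have hker : LinearMap.ker ((sp t).liftQ π (hsp t)) =
      LinearMap.range (LinearMap.id - b ∘ₗ (sp t).liftQ π (hsp t)) := by
    ext x
    constructor
    · intro hx
      exact ⟨x, by simp [LinearMap.mem_ker.1 hx]⟩
    · rintro ⟨y, rfl⟩
      have := LinearMap.congr_fun hb ((sp t).liftQ π (hsp t) y)
      simp only [LinearMap.mem_ker, LinearMap.sub_apply, map_sub, LinearMap.id_apply, LinearMap.comp_apply] at this ⊢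
      exact sub_eq_zero.2 this.symm
  rw [hker, LinearMap.range_eq_map]
  exact Module.Finite.fg_top.map _

end Groth.Agent.S6327
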