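import Groth.Statements.S6328
import Mathlib
-- import your own Groth.Agent.* helpers here

set_option autoImplicit false
universe u
open CAlg

namespace Groth.Agent.S6328

/-- Every module M over a ring R can be written as the direct limit of a directed system (Mᵢ, μᵢⱼ) of
finitely presented R-modules. -/
theorem result (R : Type u) [CommRing R] (M : Type u) [AddCommGroup M] [Module R M] : ∃ (ι : Type u) (_ : Preorder ι) (_ : IsDirected ι (· ≤ ·)) (_ : Nonempty ι) (_ : DecidableEq ι) (G : ι → Type u) (_ : ∀ i, AddCommGroup (G i)) (_ : ∀ i, Module R (G i)) (f : ∀ i j, i ≤ j → G i →ₗ[R] G j) (_ : DirectedSystem G fun i j h => f i j h), (∀ i, Module.FinitePresentation R (G i)) ∧ Nonempty (Module.DirectLimit G f ≃ₗ[R] M) := by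
  classical
  let F (s : Finset M) := ((s : Type u) →₀ R)
  let ev (s : Finset M) : F s →ₗ[R] M := Finsupp.linearCombination R (fun x : (s : Type u) ↦ (x : M))
  let inc (s t : Finset M) (h : s ⊆ t) : F s →ₗ[R] F t := Finsupp.lmapDomain R R (fun x : (s : Type u) ↦ (⟨x.1, h x.2⟩ : (t : Type u)))
  have ev_inc : ∀ s t h x, ev t (inc s t h x) = ev s x := fun s t h x ↦ by
    induction x using Finsupp.induction_linear with
    | zero => simp
    | add a b ha hb => simp only [map_add, ha, hb]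
    | single i r => simp only [ev, inc]; erw [Finsupp.lmapDomain_apply, Finsupp.mapDomain_single, Finsupp.linearCombination_single, Finsupp.linearCombination_single]
  have inc_inc : ∀ s t w h h' x, inc t w h' (inc s t h x) = inc s w (h.trans h') x := fun s t w h h' x ↦ by
    simp only [inc]; erw [Finsupp.lmapDomain_apply, Finsupp.lmapDomain_apply, Finsupp.lmapDomain_apply, ← Finsupp.mapDomain_comp]; rfl
  have inc_refl : ∀ s x, inc s s subset_rfl x = x := fun s x ↦ by
    exact Finsupp.mapDomain_id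
  let ι := Σ' s : Finset M, {N : Submodule R (F s) // N.FG ∧ N ≤ LinearMap.ker (ev s)}
  let le (i j : ι) : Prop := ∃ h : i.1 ⊆ j.1, i.2.1.map (inc _ _ h) ≤ j.2.1
  have le_refl' : ∀ i, le i i := fun i ↦ ⟨subset_rfl, by
    rintro _ ⟨x, hx, rfl⟩; rwa [inc_refl]⟩
  have le_trans' : ∀ i j k, le i j → le j k → le i k := fun i j k ⟨h, hh⟩ ⟨h', hh'⟩ ↦ ⟨h.trans h', by
    rintro _ ⟨x, hx, rfl⟩
    rw [← inc_inc _ _ _ h h']
    exact hh' ⟨_, hh ⟨x, hx, rfl⟩, rfl⟩⟩
  let pre : Preorder ι := { le := le, lt := fun a b ↦ le a b ∧ ¬ le b a, lt_iff_le_not_ge := fun _ _ ↦ Iff.rfl, le_refl := le_refl', le_trans := le_trans' }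
  have hker : ∀ (i : ι) t (h : i.1 ⊆ t), i.2.1.map (inc _ _ h) ≤ LinearMap.ker (ev t) := by
    rintro i t h _ ⟨x, hx, rfl⟩
    rw [LinearMap.mem_ker, ev_inc]; exact i.2.2.2 hx
  have dir : @IsDirected ι (· ≤ ·) := ⟨fun i j ↦ ⟨⟨i.1 ∪ j.1, i.2.1.map (inc _ _ Finset.subset_union_left) ⊔ j.2.1.map (inc _ _ Finset.subset_union_right),
    (i.2.2.1.map _).sup (j.2.2.1.map _), sup_le (hker i _ _) (hker j _ _)⟩, ⟨_, le_sup_left⟩, ⟨_, le_sup_right⟩⟩⟩
  have ne : Nonempty ι := ⟨⟨∅, ⊥, Submodule.fg_bot, bot_le⟩⟩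
  let G (i : ι) := F i.1 ⧸ i.2.1
  letI gi : ∀ i, AddCommGroup (G i) := fun i ↦ inferInstanceAs (AddCommGroup (F i.1 ⧸ i.2.1))
  letI gm : ∀ i, Module R (G i) := fun i ↦ inferInstanceAs (Module R (F i.1 ⧸ i.2.1))
  let f (i j : ι) (h : i ≤ j) : G i →ₗ[R] G j :=
    Submodule.mapQ _ _ (inc _ _ h.1) (Submodule.map_le_iff_le_comap.mp h.2)
  have sys : DirectedSystem G fun i j h ↦ f i j h :=
    { map_self := fun i x ↦ by
        obtain ⟨x, rfl⟩ := Submodule.Quotient.mk_surjective _ x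
        exact congrArg Submodule.Quotient.mk (inc_refl _ x)
      map_map := fun i j k hij hjk x ↦ by
        obtain ⟨x, rfl⟩ := Submodule.Quotient.mk_surjective _ x
        exact congrArg Submodule.Quotient.mk (inc_inc _ _ _ _ _ x) }
  let g (i : ι) : G i →ₗ[R] M := Submodule.liftQ _ (ev i.1) i.2.2.2
  have hg : ∀ i j h x, g j (f i j h x) = g i x := fun i j h x ↦ by
    obtain ⟨x, rfl⟩ := Submodule.Quotient.mk_surjective _ x
    exact ev_inc _ _ _ x
  refine ⟨ι, pre, dir, ne, inferInstance, G, gi, gm, f, sys, fun i ↦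
    Module.finitePresentation_of_surjective i.2.1.mkQ (Submodule.mkQ_surjective _) (by rw [Submodule.ker_mkQ]; exact i.2.2.1),
    ⟨LinearEquiv.ofBijective (Module.DirectLimit.lift R ι G f g hg) ⟨?_, fun m ↦ ?_⟩⟩⟩
  · rw [injective_iff_map_eq_zero]
    intro z hz
    obtain ⟨i, x, rfl⟩ := Module.DirectLimit.exists_of z
    obtain ⟨x, rfl⟩ := Submodule.Quotient.mk_surjective _ x
    rw [Module.DirectLimit.lift_of] at hz
    let j : ι := ⟨i.1, i.2.1 ⊔ R ∙ x, i.2.2.1.sup (Submodule.fg_span_singleton x),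
      sup_le i.2.2.2 ((Submodule.span_singleton_le_iff_mem _ _).mpr hz)⟩
    have hij : i ≤ j := ⟨subset_rfl, by rintro _ ⟨y, hy, rfl⟩; rw [inc_refl]; exact Submodule.mem_sup_left hy⟩
    rw [← Module.DirectLimit.of_f (hij := hij)]
    refine (congrArg _ ?_).trans (map_zero _)
    refine (Submodule.Quotient.mk_eq_zero _).mpr ?_
    rw [inc_refl]
    exact Submodule.mem_sup_right (Submodule.mem_span_singleton_self x)
  · refine ⟨Module.DirectLimit.of R ι G f ⟨{m}, ⊥, Submodule.fg_bot, bot_le⟩ (Submodule.Quotient.mk (Finsupp.single ⟨m, Finset.mem_singleton_self m⟩ 1)), ?_⟩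
    rw [Module.DirectLimit.lift_of]
    exact (Finsupp.linearCombination_single R 1 _).trans (one_smul R m)

end Groth.Agent.S6328
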