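import Groth.Statements.S6329
import Groth.Agent.S6312
import Mathlib
-- import your own Groth.Agent.* helpers here

set_option autoImplicit false
universe u
open CAlg

namespace Groth.Agent.S6329

theorem subsingleton_loc {R : Type u} [CommRing R] (P : Submonoid R) {M : Type u} [AddCommGroup M] [Module R M]
    [Subsingleton M] : Subsingleton (LocalizedModule P M) :=
  LocalizedModule.subsingleton_iff.mpr fun m => ⟨1, P.one_mem, Subsingleton.elim _ _⟩

/-- Let R be a ring, M an R-module and 0 = M₀ ⊂ M₁ ⊂ … ⊂ Mₙ = M a maximal chain of submodules (a
composition series; each Mᵢ/Mᵢ₋₁ is simple, of the form R/mᵢ with mᵢ = (Mᵢ₋₁ : Mᵢ) maximal). Then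
for every maximal ideal m of R the number of indices i with mᵢ = m equals length_{R_m}(M_m). -/
theorem result {R : Type u} [CommRing R] (M : Type u) [AddCommGroup M] [Module R M] (s : CompositionSeries (Submodule R M)) (h0 : s.head = ⊥) (h1 : s.last = ⊤) (m : Ideal R) [m.IsMaximal] : ((Finset.univ.filter fun i : Fin s.length => (s i.castSucc).colon (s i.succ : Set M) = m).card : ℕ∞) = Module.length (Localization.AtPrime m) (LocalizedModule m.primeCompl M) := by
  classical
  set P := m.primeCompl
  let L : Fin (s.length + 1) → ℕ∞ := fun i => Module.length (Localization P) (LocalizedModule P (s i : Submodule R M))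
  have key : ∀ i : Fin (s.length + 1), L i =
      ((Finset.univ.filter fun j : Fin s.length => j.castSucc < i ∧ (s j.castSucc).colon (s j.succ : Set M) = m).card : ℕ∞) := by
    intro i
    induction i using Fin.induction with
    | zero =>
      have : Subsingleton (s 0 : Submodule R M) := by
        rw [show s 0 = ⊥ from h0]; infer_instance
      haveI : Subsingleton (LocalizedModule P (s 0 : Submodule R M)) := subsingleton_loc P
      simp [L, Module.length_eq_zero]
    | succ i ih =>
      have hle : s i.castSucc ≤ s i.succ := (s.step i).le
      let K : Submodule R (s i.succ : Submodule R M) := (s i.castSucc).comap (s i.succ).subtype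
      have hsimple : IsSimpleModule R ((s i.succ : Submodule R M) ⧸ K) :=
        (covBy_iff_quot_is_simple hle).mp (s.step i)
      have hcol : (s i.castSucc).colon (s i.succ : Set M) = Module.annihilator R ((s i.succ : Submodule R M) ⧸ K) := by
        ext r
        rw [Submodule.mem_colon, Module.mem_annihilator]
        constructor
        · intro h q
          obtain ⟨x, rfl⟩ := Submodule.Quotient.mk_surjective _ q
          rw [← Submodule.Quotient.mk_smul, Submodule.Quotient.mk_eq_zero]
          exact h x.1 x.2
        · intro h x hx
          have := h (Submodule.Quotient.mk ⟨x, hx⟩)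
          rw [← Submodule.Quotient.mk_smul, Submodule.Quotient.mk_eq_zero] at this
          exact this
      have hQ : Module.length (Localization P) (LocalizedModule P ((s i.succ : Submodule R M) ⧸ K)) =
          if (s i.castSucc).colon (s i.succ : Set M) = m then 1 else 0 := by
        haveI := hsimple
        split_ifs with h
        · refine le_antisymm ((Groth.Agent.S6312.result P _).trans (Module.length_eq_one R _).le) ?_
          haveI := IsSimpleModule.nontrivial R ((s i.succ : Submodule R M) ⧸ K)
          obtain ⟨q, hq⟩ := exists_ne (0 : (s i.succ : Submodule R M) ⧸ K)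
          haveI : Nontrivial (LocalizedModule P ((s i.succ : Submodule R M) ⧸ K)) := by
            refine ⟨⟨LocalizedModule.mkLinearMap P _ q, 0, fun h0 => ?_⟩⟩
            obtain ⟨t, ht⟩ := (IsLocalizedModule.eq_zero_iff P (LocalizedModule.mkLinearMap P _)).mp h0
            refine t.2 (h ▸ hcol ▸ Module.mem_annihilator.mpr fun y => ?_)
            have hspan : Submodule.span R {q} = ⊤ :=
              IsSimpleModule.span_singleton_eq_top R hq
            obtain ⟨c, rfl⟩ := Submodule.mem_span_singleton.mp (hspan ▸ Submodule.mem_top (x := y))
            rw [smul_comm]
            rw [Submonoid.smul_def] at ht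
            rw [ht, smul_zero]
          exact Order.one_le_iff_pos.mpr Module.length_pos
        · have hmax : (Module.annihilator R ((s i.succ : Submodule R M) ⧸ K)).IsMaximal :=
            IsSimpleModule.annihilator_isMaximal
          obtain ⟨t, ht, htm⟩ : ∃ t ∈ (s i.castSucc).colon (s i.succ : Set M), t ∉ m := by
            by_contra hne
            push Not at hne
            exact h ((hcol ▸ hmax).eq_of_le (Ideal.IsPrime.ne_top inferInstance) hne)
          rw [Module.length_eq_zero_iff, LocalizedModule.subsingleton_iff]
          exact fun q => ⟨t, htm, Module.mem_annihilator.mp (hcol ▸ ht) q⟩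
      have hadd := Module.length_eq_add_of_exact (R := Localization P)
        (LocalizedModule.map P (Submodule.inclusion hle)) (LocalizedModule.map P K.mkQ)
        (LocalizedModule.map_injective P _ (Submodule.inclusion_injective hle))
        (LocalizedModule.map_surjective P _ K.mkQ_surjective)
        (LocalizedModule.map_exact P _ _ (LinearMap.exact_iff.mpr (by
          rw [Submodule.ker_mkQ, Submodule.range_inclusion])))
      show Module.length _ _ = _
      rw [hadd, hQ, show Module.length (Localization P) (LocalizedModule P (s i.castSucc : Submodule R M)) = _ from ih]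
      have hsplit : (Finset.univ.filter fun j : Fin s.length => j.castSucc < i.succ ∧ (s j.castSucc).colon (s j.succ : Set M) = m) =
          (Finset.univ.filter fun j : Fin s.length => j.castSucc < i.castSucc ∧ (s j.castSucc).colon (s j.succ : Set M) = m) ∪
            (if (s i.castSucc).colon (s i.succ : Set M) = m then {i} else ∅) := by
        ext j
        simp only [Finset.mem_union, Finset.mem_filter, Finset.mem_univ, true_and]
        rw [Fin.castSucc_lt_succ_iff, Fin.castSucc_lt_castSucc_iff, le_iff_lt_or_eq]
        split_ifs with h <;> aesop
      rw [hsplit, Finset.card_union_of_disjoint]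
      · split_ifs <;> simp
      · split_ifs <;> simp
  have hl := key (Fin.last s.length)
  simp only [Fin.castSucc_lt_last, true_and] at hl
  rw [← hl]
  show Module.length _ (LocalizedModule P (s (Fin.last s.length) : Submodule R M)) = _
  let e : (s (Fin.last s.length) : Submodule R M) ≃ₗ[R] M := LinearEquiv.ofTop _ h1
  exact (LinearEquiv.ofBijective (LocalizedModule.map P e.toLinearMap)
    ⟨LocalizedModule.map_injective P _ e.injective, LocalizedModule.map_surjective P _ e.surjective⟩).length_eq

end Groth.Agent.S6329
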