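import Groth.Statements.S6330
import Mathlib
-- import your own Groth.Agent.* helpers here

set_option autoImplicit false
universe u
open scoped TensorProduct
open CAlg

namespace Groth.Agent.S6330

/-- Let R be a ring and φ : P₁ → P₂ a map of finite projective R-modules. The set W of primes p of R
such that φ ⊗ κ(p) is surjective is open, and for every f ∈ R with D(f) ⊆ W the map (P₁)_f → (P₂)_f
is surjective and Ker(φ)_f is a finite projective module over R_f. -/
theorem result {R : Type u} [CommRing R] {P₁ P₂ : Type u} [AddCommGroup P₁] [Module R P₁] [AddCommGroup P₂] [Module R P₂] [Module.Finite R P₁] [Module.Projective R P₁] [Module.Finite R P₂] [Module.Projective R P₂] (φ : P₁ →ₗ[R] P₂) : IsOpen {p : PrimeSpectrum R | Function.Surjective (φ.lTensor p.asIdeal.ResidueField)} ∧ ∀ f : R, (↑(PrimeSpectrum.basicOpen f) : Set (PrimeSpectrum R)) ⊆ {p : PrimeSpectrum R | Function.Surjective (φ.lTensor p.asIdeal.ResidueField)} → Function.Surjective (LocalizedModule.map (Submonoid.powers f) φ) ∧ Module.Finite (Localization.Away f) (LocalizedModule (Submonoid.powers f) (LinearMap.ker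 φ)) ∧ Module.Projective (Localization.Away f) (LocalizedModule (Submonoid.powers f) (LinearMap.ker φ)) := by
  classical
  let C := P₂ ⧸ LinearMap.range φ
  have hW : ∀ p : PrimeSpectrum R, Function.Surjective (φ.lTensor p.asIdeal.ResidueField) ↔ p ∉ Module.support R C := by
    intro p
    rw [Module.mem_support_iff_nontrivial_residueField_tensorProduct, not_nontrivial_iff_subsingleton]
    have hex := lTensor_exact p.asIdeal.ResidueField (LinearMap.exact_map_mkQ_range φ) (Submodule.mkQ_surjective _)
    have hs := LinearMap.lTensor_surjective p.asIdeal.ResidueField (Submodule.mkQ_surjective (LinearMap.range φ))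
    constructor
    · intro h
      refine ⟨fun a b => ?_⟩
      obtain ⟨a, rfl⟩ := hs a
      obtain ⟨b, rfl⟩ := hs b
      obtain ⟨a', rfl⟩ := h a
      obtain ⟨b', rfl⟩ := h b
      rw [hex.apply_apply_eq_zero, hex.apply_apply_eq_zero]
    · intro h y
      exact (hex y).mp (Subsingleton.elim _ _)
  refine ⟨?_, fun f hf => ?_⟩
  · have : {p : PrimeSpectrum R | Function.Surjective (φ.lTensor p.asIdeal.ResidueField)} = (Module.support R C)ᶜ := by
      ext p; exact hW p
    rw [this, isOpen_compl_iff, Module.support_eq_zeroLocus]
    exact PrimeSpectrum.isClosed_zeroLocus _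
  let S := Submonoid.powers f
  have hker : ∀ m : C, ∃ n : ℕ, f ^ n • m = 0 := by
    intro m
    have hsup : Module.support R C ⊆ PrimeSpectrum.zeroLocus {f} := fun p hp => by
      by_contra hfp
      refine (hW p).mp (hf ?_) hp
      simpa [PrimeSpectrum.mem_zeroLocus] using hfp
    rw [Module.support_eq_zeroLocus, PrimeSpectrum.subset_zeroLocus_iff_subset_vanishingIdeal, PrimeSpectrum.vanishingIdeal_zeroLocus_eq_radical, Set.singleton_subset_iff] at hsup
    obtain ⟨n, hn⟩ := hsup
    exact ⟨n, Module.mem_annihilator.mp hn m⟩
  let φf := LocalizedModule.map S φ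
  have hsurj : Function.Surjective φf := by
    intro y
    induction y using LocalizedModule.induction_on with
    | h m s =>
      obtain ⟨n, hn⟩ := hker (Submodule.Quotient.mk m)
      rw [← Submodule.Quotient.mk_smul, Submodule.Quotient.mk_eq_zero] at hn
      obtain ⟨x, hx⟩ := hn
      let t : S := ⟨f ^ n, pow_mem (Submonoid.mem_powers f) n⟩
      refine ⟨LocalizedModule.mk x (t * s), ?_⟩
      rw [LocalizedModule.map_mk, hx]
      exact LocalizedModule.mk_cancel_common_left t s m
  have hinj : Function.Injective (LocalizedModule.map S (LinearMap.ker φ).subtype) :=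
    LocalizedModule.map_injective S _ (LinearMap.ker φ).injective_subtype
  have hexact : Function.Exact (LocalizedModule.map S (LinearMap.ker φ).subtype) φf :=
    LocalizedModule.map_exact S _ _ (LinearMap.exact_subtype_ker_map φ)
  obtain ⟨σ, hσ⟩ := Module.projective_lifting_property φf LinearMap.id hsurj
  let pr : LocalizedModule S P₁ →ₗ[Localization S] LinearMap.range (LocalizedModule.map S (LinearMap.ker φ).subtype) :=
    (LinearMap.id - σ ∘ₗ φf).codRestrict _ (fun x => by
      apply (hexact _).mp
      show φf (x - σ (φf x)) = 0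
      rw [map_sub, ← LinearMap.comp_apply φf σ, hσ, LinearMap.id_apply, sub_self])
  let e := LinearEquiv.ofInjective _ hinj
  have hsplit : (e.symm.toLinearMap ∘ₗ pr) ∘ₗ (LocalizedModule.map S (LinearMap.ker φ).subtype) = LinearMap.id := by
    apply LinearMap.ext
    intro x
    show e.symm (pr _) = x
    rw [LinearEquiv.symm_apply_eq]
    apply Subtype.ext
    show _ - σ (φf _) = _
    rw [hexact.apply_apply_eq_zero, map_zero, sub_zero]
    rfl
  refine ⟨hsurj, Module.Finite.of_surjective (e.symm.toLinearMap ∘ₗ pr) ?_, Module.Projective.of_split _ _ hsplit⟩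
  intro x
  exact ⟨_, LinearMap.congr_fun hsplit x⟩

end Groth.Agent.S6330
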