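import Groth.Statements.S6331
import Mathlib.Dynamics.Newton
import Mathlib.RingTheory.Ideal.Quotient.Operations
import Mathlib.RingTheory.Nilpotent.Basic

set_option autoImplicit false
universe u
open CAlg

namespace Groth.Agent.S6331

/-- Let R be a ring, I ⊆ R an ideal all of whose elements are nilpotent, and n ≥ 1 an integer whose
image in R/I is invertible. Then (1) raising to the n-th power is a bijection of the subset 1 + I of
R onto itself: for every y ∈ I there is exactly one x ∈ I with (1 + x)ⁿ = 1 + y; (2) a unit u of R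
has an n-th root in R exactly when the residue class of u has an n-th root in R/I. -/
theorem result {R : Type u} [CommRing R] (I : Ideal R) (hI : ∀ x ∈ I, IsNilpotent x) (n : ℕ) (hn : 1 ≤ n) (hinv : IsUnit ((n : ℕ) : R ⧸ I)) : (∀ y ∈ I, ∃! x : R, x ∈ I ∧ (1 + x) ^ n = 1 + y) ∧ (∀ u : Rˣ, (∃ v : R, v ^ n = (u : R)) ↔ ∃ w : R ⧸ I, w ^ n = Ideal.Quotient.mk I (u : R)) := by
  have hnu : IsUnit (n : R) := by
    obtain ⟨a, ha⟩ := Ideal.Quotient.mk_surjective (↑hinv.unit⁻¹ : R ⧸ I)
    have h1 : (n : R) * a - 1 ∈ I := by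
      rw [← Ideal.Quotient.eq, map_mul, map_natCast, ha, map_one, hinv.mul_val_inv]
    have h2 := (hI _ h1).isUnit_one_add
    rw [add_sub_cancel] at h2
    exact (IsUnit.mul_iff.1 h2).1
  constructor
  · intro y hy
    let P : Polynomial R := (1 + Polynomial.X) ^ n - Polynomial.C (1 + y)
    have hP0 : Polynomial.aeval (0 : R) P = -y := by simp [P]
    have hd : IsUnit (Polynomial.aeval (0 : R) (Polynomial.derivative P)) := by
      simp [P, Polynomial.derivative_pow, hnu]
    obtain ⟨r, ⟨hr, hr0⟩, huniq⟩ := Polynomial.existsUnique_nilpotent_sub_and_aeval_eq_zero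
      (hP0 ▸ (hI y hy).neg) hd
    rw [zero_sub, isNilpotent_neg_iff] at hr
    have hr1 : (1 + r) ^ n = 1 + y := by
      have h1 : (1 + r) ^ n - (1 + y) = 0 := by simpa [P] using hr0
      exact sub_eq_zero.1 h1
    refine ⟨r, ⟨?_, hr1⟩, fun x hx => huniq x ⟨?_, ?_⟩⟩
    · rw [← Ideal.Quotient.eq_zero_iff_mem]
      let Q : Polynomial (R ⧸ I) := (1 + Polynomial.X) ^ n - 1
      have hQ0 : Polynomial.aeval (0 : R ⧸ I) Q = 0 := by simp [Q]
      have hQd : IsUnit (Polynomial.aeval (0 : R ⧸ I) (Polynomial.derivative Q)) := by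
        simp [Q, Polynomial.derivative_pow, hinv]
      have h2 := Polynomial.existsUnique_nilpotent_sub_and_aeval_eq_zero
        (P := Q) (x := (0 : R ⧸ I)) (by rw [hQ0]; exact IsNilpotent.zero) hQd
      refine h2.unique ⟨?_, ?_⟩ ⟨?_, hQ0⟩
      · rw [zero_sub, isNilpotent_neg_iff]
        exact hr.map _
      · have h3 := congrArg (Ideal.Quotient.mk I) hr1
        rw [map_pow, map_add, map_one, map_add, map_one, Ideal.Quotient.eq_zero_iff_mem.2 hy,
          add_zero] at h3
        simp [Q, h3]
      · simp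
    · rw [zero_sub, isNilpotent_neg_iff]
      exact hI x hx.1
    · simp [P, hx.2]
  · intro u
    constructor
    · rintro ⟨v, hv⟩
      exact ⟨Ideal.Quotient.mk I v, by rw [← map_pow, hv]⟩
    · rintro ⟨w, hw⟩
      obtain ⟨v, rfl⟩ := Ideal.Quotient.mk_surjective w
      rw [← map_pow, Ideal.Quotient.eq] at hw
      let P : Polynomial R := Polynomial.X ^ n - Polynomial.C (u : R)
      have hP0 : IsNilpotent (Polynomial.aeval v P) := by simpa [P] using hI _ hw
      have hvu : IsUnit v := by
        have h1 : IsUnit (v ^ n) := by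
          have h2 := (hI _ hw).isUnit_add_left_of_commute u.isUnit (Commute.all _ _)
          rwa [add_sub_cancel] at h2
        exact (isUnit_pow_iff (by omega)).1 h1
      have hd : IsUnit (Polynomial.aeval v (Polynomial.derivative P)) := by
        simp only [P, Polynomial.derivative_sub, Polynomial.derivative_X_pow,
          Polynomial.derivative_C, sub_zero, map_mul, map_pow, Polynomial.aeval_X, map_natCast]
        exact hnu.mul (hvu.pow _)
      obtain ⟨r, ⟨-, hr⟩, -⟩ := Polynomial.existsUnique_nilpotent_sub_and_aeval_eq_zero hP0 hd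
      exact ⟨r, sub_eq_zero.1 (by simpa [P] using hr)⟩

end Groth.Agent.S6331
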