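import Groth.Statements.S6334
import Groth.Agent.Lib.FieldExtra.Insep
-- import your own Groth.Agent.* helpers here

set_option autoImplicit false
universe u
open Fields

namespace Groth.Agent.S6334

open IntermediateField in
/-- Let E/F be a finite purely inseparable extension of fields of characteristic p > 0. Then there are
elements a_1, ..., a_n of E generating E over F such that for each i the p-th power of a_i lies in
F(a_1, ..., a_{i-1}) while a_i itself does not (so each step adjoins a p-th root and has degree p);
in particular [E : F] = p ^ n. -/
theorem result {F E : Type u} [Field F] [Field E] [Algebra F E] (p : ℕ)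
    [Fact p.Prime] [CharP F p] [FiniteDimensional F E] [IsPurelyInseparable F E] :
    ∃ (n : ℕ) (a : Fin n → E), adjoin F (Set.range a) = ⊤ ∧
      (∀ i : Fin n, a i ^ p ∈ adjoin F (a '' {j | j < i}) ∧ a i ∉ adjoin F (a '' {j | j < i})) ∧
      Module.finrank F E = p ^ n := by
  exact GrothLib.FieldExtra.pthRoots p

end Groth.Agent.S6334
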