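import Groth.Statements.S6335
import Groth.Agent.Lib.FieldExtra.Insep
-- import your own Groth.Agent.* helpers here

set_option autoImplicit false
universe u
open Fields

namespace Groth.Agent.S6335

/-- Let K be a field of characteristic p > 0, L/K a separable algebraic extension and a an element of L.
If a is a root of a polynomial P over K which is separable (pairwise distinct roots in an algebraic
closure) and all of whose coefficients are p-th powers in K, then a is a p-th power in L. (Part (1),
the case where P is the minimal polynomial of a, is a special case.) -/
theorem result {K L : Type u} [Field K] [Field L] [Algebra K L]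
    (p : ℕ) [Fact p.Prime] [CharP K p] [Algebra.IsSeparable K L] (a : L) (P : Polynomial K)
    (hroot : Polynomial.aeval a P = 0) (hsep : P.Separable) (hcoeff : ∀ i : ℕ, ∃ b : K, b ^ p = P.coeff i) :
    ∃ c : L, c ^ p = a := by
  exact GrothLib.FieldExtra.exists_pth_root p a P hroot hsep hcoeff

end Groth.Agent.S6335
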