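import Groth.Statements.S6338
import Groth.Agent.Lib.UnivInj.Basic
-- import your own Groth.Agent.* helpers here

set_option autoImplicit false
universe u
open CAlg

namespace Groth.Agent.S6338
open TensorProduct

/-- Let M₁ → M₂ be a universally injective map of modules over a commutative ring (equivalently the
first map of a universally exact short exact sequence). If M₂ is Mittag-Leffler then so is M₁. -/
theorem result (R : Type u) [CommRing R] {M₁ M₂ : Type u}
    [AddCommGroup M₁] [Module R M₁] [AddCommGroup M₂] [Module R M₂] (f : M₁ →ₗ[R] M₂)
    (hf : CAlgX.UniversallyInjective R f) (h₂ : CAlg.IsMittagLeffler R M₂) :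
    CAlg.IsMittagLeffler R M₁ := by
  intro ι Q _ _
  have hcomm : ∀ t, TensorProduct.piRightHom R R M₂ Q (f.rTensor (∀ i, Q i) t) =
      fun i => f.rTensor (Q i) (TensorProduct.piRightHom R R M₁ Q t i) := fun t => by
    induction t using TensorProduct.induction_on with
    | zero => ext; simp
    | tmul m q => ext; simp
    | add a b ha hb => ext i; simp [map_add, ha, hb]
  intro a b hab
  exact hf _ (h₂ ι Q (by rw [hcomm, hcomm, hab]))

end Groth.Agent.S6338
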