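import Groth.Statements.S6339
import Groth.Agent.Lib.UnivInj.Basic
-- import your own Groth.Agent.* helpers here

set_option autoImplicit false
universe u
open CAlg

namespace Groth.Agent.S6339
open TensorProduct

/-- Let 0 → M₁ → M₂ → M₃ → 0 be a universally exact short exact sequence of modules over a commutative
ring (the first map is universally injective, the second is surjective with kernel the image of the
first). If M₁ and M₃ are Mittag-Leffler then so is M₂. -/
theorem result (R : Type u) [CommRing R] {M₁ M₂ M₃ : Type u}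
    [AddCommGroup M₁] [Module R M₁] [AddCommGroup M₂] [Module R M₂] [AddCommGroup M₃] [Module R M₃]
    (f : M₁ →ₗ[R] M₂) (g : M₂ →ₗ[R] M₃) (hf : CAlgX.UniversallyInjective R f)
    (hg : Function.Surjective g) (hfg : LinearMap.range f = LinearMap.ker g)
    (h₁ : CAlg.IsMittagLeffler R M₁) (h₃ : CAlg.IsMittagLeffler R M₃) :
    CAlg.IsMittagLeffler R M₂ := by
  intro ι Q _ _
  have nat : ∀ {A B : Type u} [AddCommGroup A] [AddCommGroup B] [Module R A] [Module R B] (h : A →ₗ[R] B)
      (t : A ⊗[R] (∀ i, Q i)), TensorProduct.piRightHom R R B Q (h.rTensor (∀ i, Q i) t) =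
      fun i => h.rTensor (Q i) (TensorProduct.piRightHom R R A Q t i) := fun {A B} _ _ _ _ h t => by
    induction t using TensorProduct.induction_on with
    | zero => ext; simp
    | tmul m q => ext; simp
    | add a b ha hb => ext i; simp [map_add, ha, hb]
  rw [injective_iff_map_eq_zero]
  intro z hz
  have h3 : g.rTensor (∀ i, Q i) z = 0 := h₃ ι Q (by rw [nat, hz, map_zero]; ext i; simp)
  obtain ⟨w, rfl⟩ := ((rTensor_exact (∀ i, Q i) (LinearMap.exact_iff.2 hfg.symm) hg) z).1 h3
  rw [nat] at hz
  rw [show w = 0 from h₁ ι Q (by ext i; exact hf _ (by rw [congrFun hz i]; simp)), map_zero]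

end Groth.Agent.S6339
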