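import Groth.Statements.S6341
import Groth.Agent.Lib.UnivInj.Basic
import Mathlib.LinearAlgebra.TensorProduct.DirectLimit
-- import your own Groth.Agent.* helpers here

set_option autoImplicit false
universe u
open CAlg

namespace Groth.Agent.S6341
open TensorProduct

/-- The colimit of a directed system of Mittag-Leffler modules with universally injective transition
maps is Mittag-Leffler. -/
theorem result (R : Type u) [CommRing R] {ι : Type u}
    [Preorder ι] [IsDirected ι (· ≤ ·)] [DecidableEq ι] (G : ι → Type u) [∀ i, AddCommGroup (G i)]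
    [∀ i, Module R (G i)] (f : ∀ i j, i ≤ j → G i →ₗ[R] G j) [DirectedSystem G fun i j h => f i j h]
    (hf : ∀ i j (h : i ≤ j), CAlgX.UniversallyInjective R (f i j h))
    (hG : ∀ i, CAlg.IsMittagLeffler R (G i)) :
    CAlg.IsMittagLeffler R (Module.DirectLimit G f) := by
  intro κ Q _ _
  rcases isEmpty_or_nonempty ι with hι | hι
  · intro a b _
    have : Subsingleton (Module.DirectLimit G f ⊗[R] (∀ i, Q i)) := by
      have : ∀ z : Module.DirectLimit G f, z = 0 := fun z =>
        LinearMap.congr_fun (Module.DirectLimit.hom_ext (g₁ := LinearMap.id)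
          (g₂ := (0 : Module.DirectLimit G f →ₗ[R] Module.DirectLimit G f)) fun i => isEmptyElim i) z
      exact subsingleton_of_forall_eq 0 fun t => by
        induction t using TensorProduct.induction_on with
        | zero => rfl
        | tmul z q => rw [this z, TensorProduct.zero_tmul]
        | add x y hx hy => rw [hx, hy, add_zero]
    exact Subsingleton.elim a b
  -- the maps into the limit are universally injective
  have hof : ∀ i, CAlgX.UniversallyInjective R (Module.DirectLimit.of R ι G f i) := fun i P _ _ => by
    rw [injective_iff_map_eq_zero]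
    intro x hx
    have h1 := congrArg (TensorProduct.directLimitLeft f P) hx
    rw [TensorProduct.directLimitLeft_rTensor_of, map_zero] at h1
    obtain ⟨j, hij, hj⟩ := Module.DirectLimit.of.zero_exact h1
    exact hf i j hij P (by rw [map_zero]; exact hj)
  have hrep : ∀ z : Module.DirectLimit G f ⊗[R] (∀ i, Q i), ∃ i w,
      (Module.DirectLimit.of R ι G f i).rTensor (∀ i, Q i) w = z := fun z => by
    induction z using TensorProduct.induction_on with
    | zero => exact ⟨Classical.arbitrary ι, 0, map_zero _⟩
    | tmul y q =>
      obtain ⟨i, x, rfl⟩ := Module.DirectLimit.exists_of y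
      exact ⟨i, x ⊗ₜ q, rfl⟩
    | add x y hx hy =>
      obtain ⟨i, a, rfl⟩ := hx
      obtain ⟨j, b, rfl⟩ := hy
      obtain ⟨k, hik, hjk⟩ := exists_ge_ge i j
      refine ⟨k, (f i k hik).rTensor _ a + (f j k hjk).rTensor _ b, ?_⟩
      rw [map_add, ← LinearMap.comp_apply, ← LinearMap.comp_apply, ← LinearMap.rTensor_comp, ← LinearMap.rTensor_comp]
      congr 3 <;> ext v <;> exact Module.DirectLimit.of_f
  rw [injective_iff_map_eq_zero]
  intro z hz
  obtain ⟨i, w, rfl⟩ := hrep z
  have hnat : ∀ t, TensorProduct.piRightHom R R (Module.DirectLimit G f) Q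
      ((Module.DirectLimit.of R ι G f i).rTensor (∀ i, Q i) t) =
      fun k => (Module.DirectLimit.of R ι G f i).rTensor (Q k) (TensorProduct.piRightHom R R (G i) Q t k) := fun t => by
    induction t using TensorProduct.induction_on with
    | zero => ext; simp
    | tmul m q => ext; simp
    | add a b ha hb => ext k; simp [map_add, ha, hb]
  rw [hnat] at hz
  rw [show w = 0 from hG i κ Q (by rw [map_zero]; ext k; exact hof i (Q k) (by rw [congrFun hz k]; simp)), map_zero]

end Groth.Agent.S6341
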