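import Groth.Statements.S6346
import Groth.Agent.Lib.ML.Flat

set_option autoImplicit false
universe u
open scoped TensorProduct
open CAlg

namespace Groth.Agent.S6346

/-- Let M be a flat module over a commutative ring R. Then M is Mittag-Leffler exactly when, for each
finite free module F = R^n and each element x of F ⊗ M there is a smallest submodule F' of F such
that x lies in the image of F' ⊗ M → F ⊗ M. -/
theorem result (R : Type u) [CommRing R] (M : Type u)
    [AddCommGroup M] [Module R M] [Module.Flat R M] :
    CAlg.IsMittagLeffler R M ↔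
      ∀ (n : ℕ) (x : (Fin n → R) ⊗[R] M), ∃ F' : Submodule R (Fin n → R),
        x ∈ LinearMap.range (F'.subtype.rTensor M) ∧
        ∀ F'' : Submodule R (Fin n → R), x ∈ LinearMap.range (F''.subtype.rTensor M) → F' ≤ F'' := by
  refine ⟨fun hM n x => ?_, GrothLib.ML.ml_of_smallest⟩
  obtain ⟨F', _, h1, h2⟩ := GrothLib.ML.exists_smallest hM _ x
  exact ⟨F', h1, h2⟩

end Groth.Agent.S6346
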