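import Groth.Statements.S6348
import Groth.Agent.Lib.ML.Ops

set_option autoImplicit false
universe u
open scoped TensorProduct
open CAlg

namespace Groth.Agent.S6348

/-- For a ring map R → S and a Mittag-Leffler R-module M, the S-module S ⊗_R M is Mittag-Leffler. (The
companion parts on flat modules, projective modules and direct sums of countably generated modules
are standard base-change facts.) -/
theorem result (R S : Type u) [CommRing R] [CommRing S] [Algebra R S] (M : Type u)
    [AddCommGroup M] [Module R M] (hM : CAlg.IsMittagLeffler R M) :
    CAlg.IsMittagLeffler S (S ⊗[R] M) := by
  exact GrothLib.ML.ml_baseChange S hM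

end Groth.Agent.S6348
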