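import Groth.Statements.S6349
import Groth.Agent.Lib.Flatness.Criterion
import Mathlib
-- import your own Groth.Agent.* helpers here

set_option autoImplicit false
universe u
open scoped TensorProduct
open CAlg

namespace Groth.Agent.S6349

/-- Let I be an ideal of a commutative ring R and M an R-module such that M/IM is flat over R/I and
Tor_1^R(R/I, M) = 0, i.e. the map I ⊗_R M → M is injective. Then M/IⁿM is flat over R/Iⁿ for every n
≥ 1. (When I is nilpotent this yields flatness of M itself, a standard companion statement.) -/
theorem result (R : Type u) [CommRing R] (I : Ideal R) (M : Type u)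
    [AddCommGroup M] [Module R M] [Module.Flat (R ⧸ I) ((R ⧸ I) ⊗[R] M)]
    (htor : Function.Injective ((Submodule.subtype I).rTensor M)) (n : ℕ) (hn : 1 ≤ n) :
    Module.Flat (R ⧸ I ^ n) ((R ⧸ I ^ n) ⊗[R] M) := by
  let R' := R ⧸ I ^ n
  have h1 : Function.Injective (I.subtype.lTensor M) :=
    (LinearMap.lTensor_inj_iff_rTensor_inj _ _).2 htor
  rw [Module.Flat.iff_rTensor_injective']
  intro J
  let Q := R' ⧸ J
  have hQ : GrothLib.Flatness.Good R M Q := by
    refine GrothLib.Flatness.good_of_pow I h1 inferInstance n Q fun x a => ?_
    obtain ⟨y, rfl⟩ := Submodule.Quotient.mk_surjective _ x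
    have h0 : (a : R) • (y : R') = 0 := by
      rw [Algebra.smul_def, Ideal.Quotient.algebraMap_eq, Ideal.Quotient.eq_zero_iff_mem.2 a.2, zero_mul]
    show (a : R) • Submodule.Quotient.mk y = (0 : Q)
    rw [← Submodule.Quotient.mk_smul, h0, Submodule.Quotient.mk_zero]
  have h2 : Function.Injective ((J.subtype.restrictScalars R).lTensor M) :=
    hQ J R' (J.subtype.restrictScalars R) ((J.mkQ).restrictScalars R) J.injective_subtype
      J.mkQ_surjective (LinearMap.exact_subtype_mkQ J)
  have h3 : Function.Injective ((J.subtype.restrictScalars R).rTensor M) :=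
    (LinearMap.lTensor_inj_iff_rTensor_inj _ _).1 h2
  let eJ := TensorProduct.AlgebraTensorModule.cancelBaseChange R R' R' J M
  let eR := TensorProduct.AlgebraTensorModule.cancelBaseChange R R' R' R' M
  have key : ∀ x, eR (J.subtype.rTensor _ x) = (J.subtype.restrictScalars R).rTensor M (eJ x) := fun x => by
    induction x using TensorProduct.induction_on with
    | zero => simp
    | add x y hx hy => simp only [map_add, hx, hy]
    | tmul a y =>
      induction y using TensorProduct.induction_on with
      | zero => simp
      | add x y hx hy => simp only [TensorProduct.tmul_add, map_add, hx, hy]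
      | tmul r m =>
        rw [LinearMap.rTensor_tmul, TensorProduct.AlgebraTensorModule.cancelBaseChange_tmul,
          TensorProduct.AlgebraTensorModule.cancelBaseChange_tmul, LinearMap.rTensor_tmul]
        rfl
  intro x y hxy
  apply eJ.injective
  apply h3
  rw [← key, ← key, hxy]

end Groth.Agent.S6349
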