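import Groth.Statements.S6350
import Groth.Agent.Lib.Flatness.Artinian
import Mathlib
-- import your own Groth.Agent.* helpers here

set_option autoImplicit false
universe u
open scoped TensorProduct
open CAlg

namespace Groth.Agent.S6350

/-- Let (R, m) be a local ring with nilpotent maximal ideal and M a flat R-module. A family of elements
of M is a basis of M over R if and only if its image is a basis of the R/m-vector space M/mM = R/m ⊗
M. -/
theorem result (R : Type u) [CommRing R] [IsLocalRing R]
    (hnil : IsNilpotent (IsLocalRing.maximalIdeal R)) (M : Type u) [AddCommGroup M] [Module R M] [Module.Flat R M]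
    {A : Type u} (x : A → M) :
    (LinearIndependent R x ∧ Submodule.span R (Set.range x) = ⊤) ↔
      (LinearIndependent (R ⧸ IsLocalRing.maximalIdeal R)
          (fun a => (1 : R ⧸ IsLocalRing.maximalIdeal R) ⊗ₜ[R] x a) ∧
        Submodule.span (R ⧸ IsLocalRing.maximalIdeal R)
          (Set.range fun a => (1 : R ⧸ IsLocalRing.maximalIdeal R) ⊗ₜ[R] x a) = ⊤) := by
  classical
  let k := R ⧸ IsLocalRing.maximalIdeal R
  let x' : A → k ⊗[R] M := fun a ↦ (1 : k) ⊗ₜ[R] x a
  constructor
  · rintro ⟨h1, h2⟩
    let b := Module.Basis.mk h1 h2.ge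
    let b' := b.baseChange k
    have e : ⇑b' = x' := funext fun a ↦ by
      rw [Module.Basis.baseChange_apply, Module.Basis.mk_apply]
    exact ⟨(e ▸ b'.linearIndependent : LinearIndependent k x'), (e ▸ b'.span_eq : Submodule.span k (Set.range x') = ⊤)⟩
  · rintro ⟨h1, h2⟩
    have hli : LinearIndependent R x := Module.IsLocalRing.linearIndependent_of_flat x h1
    refine ⟨hli, eq_top_iff.mpr fun y _ ↦ ?_⟩
    obtain ⟨n, hn⟩ := hnil
    have hle : (⊤ : Submodule R M) ≤ Submodule.span R (Set.range x) ⊔ IsLocalRing.maximalIdeal R • ⊤ := by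
      intro z _
      have hz : (1 : k) ⊗ₜ[R] z ∈ Submodule.span R (Set.range x') := by
        rw [← Submodule.restrictScalars_span R k Ideal.Quotient.mk_surjective, show Submodule.span k (Set.range x') = ⊤ from h2]
        trivial
      rw [show x' = TensorProduct.mk R k M 1 ∘ x from rfl, Set.range_comp, Submodule.span_image] at hz
      obtain ⟨w, hw, hwz⟩ := hz
      refine Submodule.mem_sup.mpr ⟨w, hw, z - w, ?_, add_sub_cancel _ _⟩
      refine (GrothLib.Flatness.one_tmul_eq_zero_iff _ _).mp ?_
      rw [TensorProduct.tmul_sub, sub_eq_zero]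
      exact hwz.symm
    have hstep : ∀ j : ℕ, y ∈ Submodule.span R (Set.range x) ⊔ IsLocalRing.maximalIdeal R ^ j • (⊤ : Submodule R M) := by
      intro j
      induction j with
      | zero =>
        rw [pow_zero, Ideal.one_eq_top, Submodule.top_smul]
        exact Submodule.mem_sup_right trivial
      | succ j ih =>
        refine SetLike.le_def.mp (sup_le le_sup_left ?_) ih
        refine (Submodule.smul_mono le_rfl hle).trans ?_
        rw [Submodule.smul_sup, pow_succ, Submodule.mul_smul]
        exact sup_le_sup Submodule.smul_le_right le_rfl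
    simpa [hn] using hstep n

end Groth.Agent.S6350
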