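import Groth.Statements.S6351
import Mathlib
-- import your own Groth.Agent.* helpers here

set_option autoImplicit false
universe u
open scoped TensorProduct
open CAlg

namespace Groth.Agent.S6351

/-- Let I be a nilpotent ideal of a commutative ring R and M an R-module with Tor_1^R(R/I, M) = 0, i.e.
I ⊗_R M → M injective. If a family of elements of M maps to a basis of the R/I-module M/IM = R/I ⊗
M, then it is a basis of M over R. -/
theorem result (R : Type u) [CommRing R] (I : Ideal R)
    (hI : IsNilpotent I) (M : Type u) [AddCommGroup M] [Module R M]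
    (htor : Function.Injective ((Submodule.subtype I).rTensor M)) {A : Type u} (x : A → M)
    (hli : LinearIndependent (R ⧸ I) (fun a => (1 : R ⧸ I) ⊗ₜ[R] x a))
    (hsp : Submodule.span (R ⧸ I) (Set.range fun a => (1 : R ⧸ I) ⊗ₜ[R] x a) = ⊤) :
    LinearIndependent R x ∧ Submodule.span R (Set.range x) = ⊤ := by
  obtain ⟨m, hm⟩ := hI
  have hpow : ∀ (V : Type u) [AddCommGroup V] [Module R V] (S : Submodule R V),
      ∀ j, S ≤ I • S → S ≤ I ^ j • S := by
    intro V _ _ S j hS
    induction j with
    | zero => simp
    | succ j ih =>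
      calc S ≤ I • S := hS
        _ ≤ I • (I ^ j • S) := Submodule.smul_mono le_rfl ih
        _ = I ^ (j + 1) • S := by rw [← Submodule.smul_assoc, pow_succ', Ideal.smul_eq_mul]
  have htop : Submodule.span R (Set.range x) = ⊤ := by
    set S := Submodule.span R (Set.range x)
    have h1 : (⊤ : Submodule R M) ≤ S ⊔ I • ⊤ := by
      intro y _
      have hy : ((1 : R ⧸ I) ⊗ₜ[R] y) ∈ (Submodule.span (R ⧸ I)
          (Set.range fun a => (1 : R ⧸ I) ⊗ₜ[R] x a)).restrictScalars R := by rw [hsp]; trivial
      rw [Submodule.restrictScalars_span _ _ Ideal.Quotient.mk_surjective] at hy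
      have e : (Set.range fun a => (1 : R ⧸ I) ⊗ₜ[R] x a) =
          TensorProduct.mk R (R ⧸ I) M 1 '' Set.range x := by rw [← Set.range_comp]; rfl
      rw [e, Submodule.span_image] at hy
      obtain ⟨s, hs, hsy⟩ := hy
      have h0 : (TensorProduct.quotTensorEquivQuotSMul M I) ((1 : R ⧸ I) ⊗ₜ[R] (y - s)) = 0 := by
        have hsy' : (1 : R ⧸ I) ⊗ₜ[R] s = (1 : R ⧸ I) ⊗ₜ[R] y := hsy
        rw [TensorProduct.tmul_sub, hsy', sub_self, map_zero]
      rw [← map_one (Ideal.Quotient.mk I), TensorProduct.quotTensorEquivQuotSMul_mk_tmul, one_smul,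
        Submodule.Quotient.mk_eq_zero] at h0
      simpa using Submodule.add_mem_sup hs h0
    have h2 : ∀ j, (⊤ : Submodule R M) ≤ S ⊔ I ^ j • ⊤ := fun j => by
      induction j with
      | zero => simp
      | succ j ih =>
        refine h1.trans (sup_le le_sup_left ((Submodule.smul_mono le_rfl ih).trans ?_))
        rw [Submodule.smul_sup, ← Submodule.smul_assoc, pow_succ', Ideal.smul_eq_mul]
        exact sup_le_sup_right Submodule.smul_le_right _
    simpa [hm] using h2 m
  refine ⟨?_, htop⟩
  let π := Finsupp.linearCombination R x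
  have hπ : Function.Surjective π := by
    rw [← LinearMap.range_eq_top, Finsupp.range_linearCombination, htop]
  have hK : LinearMap.ker π ≤ I • LinearMap.ker π := by
    intro c hc
    have hcI : ∀ a, c a ∈ I := by
      intro a
      by_cases ha : a ∈ c.support
      swap
      · rw [Finsupp.notMem_support_iff.1 ha]; exact I.zero_mem
      refine Ideal.Quotient.eq_zero_iff_mem.1
        (linearIndependent_iff'.1 hli c.support (fun a => Ideal.Quotient.mk I (c a)) ?_ a ha)
      have := congrArg (TensorProduct.mk R (R ⧸ I) M 1) (LinearMap.mem_ker.1 hc)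
      simp only [π, Finsupp.linearCombination_apply, Finsupp.sum, map_sum, map_smul, map_zero,
        TensorProduct.mk_apply] at this
      rw [← this]
      exact Finset.sum_congr rfl fun a _ => algebraMap_smul (R ⧸ I) (c a) ((1 : R ⧸ I) ⊗ₜ[R] x a)
    let t : I ⊗[R] (A →₀ R) :=
      c.support.sum fun a => (⟨c a, hcI a⟩ : I) ⊗ₜ[R] Finsupp.single a 1
    have ht : π.lTensor I t = 0 := by
      apply htor
      rw [map_zero]
      apply (TensorProduct.lid R M).injective
      rw [map_zero]
      refine Eq.trans ?_ (LinearMap.mem_ker.1 hc)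
      have hsingle : ∀ a, π (Finsupp.single a 1) = x a := fun a => by simp [π]
      conv_rhs => rw [← Finsupp.sum_single c]
      simp only [t, Finsupp.sum, map_sum, LinearMap.lTensor_tmul, LinearMap.rTensor_tmul,
        TensorProduct.lid_tmul, hsingle, Submodule.subtype_apply]
      refine Finset.sum_congr rfl fun a _ => ?_
      rw [← Finsupp.smul_single_one, map_smul, hsingle]
    have hex : Function.Exact (LinearMap.ker π).subtype π := fun y =>
      ⟨fun h => ⟨⟨y, h⟩, rfl⟩, by rintro ⟨z, rfl⟩; exact z.2⟩
    obtain ⟨w, hw⟩ := (lTensor_exact (M := ↥(LinearMap.ker π)) (N := A →₀ R) (P := M) I hex hπ t).1 ht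
    let μ : I ⊗[R] (A →₀ R) →ₗ[R] (A →₀ R) :=
      TensorProduct.lift ((LinearMap.lsmul R (A →₀ R)).comp I.subtype)
    have hμ : μ t = c := by
      conv_rhs => rw [← Finsupp.sum_single c]
      simp [t, μ, Finsupp.sum, map_sum]
    have : ∀ u, μ ((LinearMap.ker π).subtype.lTensor I u) ∈ I • LinearMap.ker π := by
      intro u
      induction u with
      | zero => simp
      | add u v hu hv => rw [map_add, map_add]; exact add_mem hu hv
      | tmul i k => simpa [μ] using Submodule.smul_mem_smul i.2 k.2
    rw [← hμ, ← hw]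
    exact this w
  rw [linearIndependent_iff_ker]
  refine le_bot_iff.1 ((hpow _ _ m hK).trans ?_)
  simp [hm]

end Groth.Agent.S6351
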