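import Groth.Statements.S6352
import Groth.Agent.Lib.Flatness.Criterion
import Mathlib
-- import your own Groth.Agent.* helpers here

set_option autoImplicit false
universe u
open scoped TensorProduct
open CAlg

namespace Groth.Agent.S6352

/-- Let R → R' be an injective ring map, I ⊆ R a nilpotent ideal and M an R-module. Then flatness of M
over R follows from flatness of M/IM over R/I together with flatness of R' ⊗_R M over R'. -/
theorem result (R R' : Type u) [CommRing R] [CommRing R']
    [Algebra R R'] (hinj : Function.Injective (algebraMap R R')) (I : Ideal R) (hI : IsNilpotent I)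
    (M : Type u) [AddCommGroup M] [Module R M] [Module.Flat (R ⧸ I) ((R ⧸ I) ⊗[R] M)]
    [Module.Flat R' (R' ⊗[R] M)] : Module.Flat R M := by
  classical
  rw [Module.Flat.iff_rTensor_injective']
  intro K
  let μ : R →ₗ[R] R' := Algebra.linearMap R R'
  suffices key : Function.Injective ((μ ∘ₗ K.subtype).rTensor M) by
    rw [LinearMap.rTensor_comp] at key
    exact Function.Injective.of_comp key
  let I' : Ideal R' := I.map (algebraMap R R')
  let Kn : ℕ → Submodule R R := fun n ↦ K ⊓ ((I' ^ n).restrictScalars R).comap μ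
  have hanti : ∀ n, Kn (n + 1) ≤ Kn n := fun n ↦
    inf_le_inf_left _ (Submodule.comap_mono fun x hx ↦ Ideal.pow_le_pow_right (Nat.le_succ n) hx)
  obtain ⟨N₀, hN₀⟩ := hI
  have hflatR' : ∀ (P Q : Submodule R' R') (hPQ : Q ≤ P),
      Function.Injective ((((Submodule.mapQ (Q.comap P.subtype) Q P.subtype le_rfl)).restrictScalars R).rTensor M) := by
    intro P Q hPQ
    let f : (P ⧸ Q.comap P.subtype) →ₗ[R'] R' ⧸ Q := Submodule.mapQ (Q.comap P.subtype) Q P.subtype le_rfl
    have hf : Function.Injective f := by
      rw [injective_iff_map_eq_zero]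
      intro z hz
      obtain ⟨z, rfl⟩ := Submodule.Quotient.mk_surjective _ z
      exact (Submodule.Quotient.mk_eq_zero _).mpr ((Submodule.Quotient.mk_eq_zero Q).mp (show Submodule.Quotient.mk (z : R') = (0 : R' ⧸ Q) from hz))
    have hinj' := Module.Flat.rTensor_preserves_injective_linearMap (M := R' ⊗[R] M) f hf
    let eA := TensorProduct.AlgebraTensorModule.cancelBaseChange R R' R' (P ⧸ Q.comap P.subtype) M
    let eB := TensorProduct.AlgebraTensorModule.cancelBaseChange R R' R' (R' ⧸ Q) M
    have hk : ∀ x, eB (f.rTensor _ x) = (f.restrictScalars R).rTensor M (eA x) := fun x ↦ by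
      induction x using TensorProduct.induction_on with
      | zero => simp
      | add a b ha hb => simp only [map_add, ha, hb]
      | tmul a w =>
        induction w using TensorProduct.induction_on with
        | zero => simp
        | add a b ha hb => simp only [TensorProduct.tmul_add, map_add, ha, hb]
        | tmul r m =>
          simp only [eA, eB, LinearMap.rTensor_tmul, TensorProduct.AlgebraTensorModule.cancelBaseChange_tmul]
          exact congrArg (fun z ↦ z ⊗ₜ[R] m) (f.map_smul r a).symm
    intro a b hab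
    obtain ⟨a, rfl⟩ := eA.surjective a
    obtain ⟨b, rfl⟩ := eA.surjective b
    rw [← hk, ← hk] at hab
    rw [hinj' (eB.injective hab)]
  suffices main : ∀ j n, n + j = N₀ → Function.Injective ((μ ∘ₗ (Kn n).subtype).rTensor M) by
    have h0 := main N₀ 0 (zero_add _)
    have e0 : Kn 0 = K := by simp [Kn]
    rw [e0] at h0
    exact h0
  intro j
  induction j with
  | zero =>
    intro n hn
    obtain rfl : n = N₀ := hn
    have : Subsingleton (Kn n) := ⟨fun a b ↦ Subtype.ext (by
      have hz : ∀ c : Kn n, (c : R) = 0 := fun c ↦ by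
        have hc : algebraMap R R' c ∈ I' ^ n := c.2.2
        rw [← Ideal.map_pow, hN₀, Ideal.zero_eq_bot, Ideal.map_bot, Submodule.mem_bot] at hc
        exact hinj (hc.trans (map_zero _).symm)
      rw [hz a, hz b])⟩
    exact fun a b _ ↦ Subsingleton.elim a b
  | succ j ih =>
    intro n hn
    have ihn := ih (n + 1) (by omega)
    let i₁ : Kn (n + 1) →ₗ[R] Kn n := Submodule.inclusion (hanti n)
    let P : Submodule R' R' := I' ^ n
    let Q : Submodule R' R' := I' ^ (n + 1)
    have hPQ : Q ≤ P := Ideal.pow_le_pow_right (Nat.le_succ n)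
    let g : Kn n →ₗ[R] (P ⧸ Q.comap P.subtype) :=
      ((Q.comap P.subtype).mkQ.restrictScalars R) ∘ₗ ((μ ∘ₗ (Kn n).subtype).codRestrict (P.restrictScalars R) fun c ↦ c.2.2)
    have hkerg : Function.Exact i₁ g := fun c ↦ by
      constructor
      · intro hc
        have hc' : algebraMap R R' c ∈ Q := (Submodule.Quotient.mk_eq_zero (Q.comap P.subtype)).mp hc
        exact ⟨⟨c.1, c.2.1, hc'⟩, rfl⟩
      · rintro ⟨d, rfl⟩
        exact (Submodule.Quotient.mk_eq_zero _).mpr d.2.2
    have hexg : Function.Exact i₁ g.rangeRestrict := fun c ↦ by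
      rw [← hkerg c]
      exact ⟨fun h ↦ congrArg Subtype.val h, fun h ↦ Subtype.ext h⟩
    have htorC : Module.IsTorsionBySet R (LinearMap.range g) I := fun z r ↦ Subtype.ext (by
      show (r : R) • (z : P ⧸ Q.comap P.subtype) = 0
      obtain ⟨w, hw⟩ := Submodule.Quotient.mk_surjective _ (z : P ⧸ Q.comap P.subtype)
      rw [← hw, ← Submodule.Quotient.mk_smul, Submodule.Quotient.mk_eq_zero]
      show (r : R) • (w : R') ∈ Q
      rw [Algebra.smul_def]
      show _ ∈ I' ^ (n + 1)
      rw [pow_succ']
      exact Ideal.mul_mem_mul (Ideal.mem_map_of_mem _ r.2) w.2)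
    have htorB : Module.IsTorsionBySet R (P ⧸ Q.comap P.subtype) I := fun z r ↦ by
      obtain ⟨w, rfl⟩ := Submodule.Quotient.mk_surjective _ z
      rw [← Submodule.Quotient.mk_smul, Submodule.Quotient.mk_eq_zero]
      show (r : R) • (w : R') ∈ Q
      rw [Algebra.smul_def]
      show _ ∈ I' ^ (n + 1)
      rw [pow_succ']
      exact Ideal.mul_mem_mul (Ideal.mem_map_of_mem _ r.2) w.2
    have hC : Function.Injective ((LinearMap.range g).subtype.rTensor M) := by
      rw [← LinearMap.lTensor_inj_iff_rTensor_inj]
      exact GrothLib.Flatness.lTensor_injective_of_flat_quotient I inferInstance htorC htorB _ (Submodule.injective_subtype _)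
    rw [injective_iff_map_eq_zero]
    intro x hx
    let ψ := (Submodule.mapQ (Q.comap P.subtype) Q P.subtype le_rfl).restrictScalars R
    have hfac : ψ ∘ₗ (LinearMap.range g).subtype ∘ₗ g.rangeRestrict = (Q.mkQ.restrictScalars R) ∘ₗ (μ ∘ₗ (Kn n).subtype) := rfl
    have h1 : g.rangeRestrict.rTensor M x = 0 := hC (by
      rw [map_zero]
      apply hflatR' P Q hPQ
      rw [map_zero, ← LinearMap.rTensor_comp_apply, ← LinearMap.rTensor_comp_apply]
      show (ψ ∘ₗ (LinearMap.range g).subtype ∘ₗ g.rangeRestrict).rTensor M x = 0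
      rw [hfac, LinearMap.rTensor_comp_apply, hx, map_zero])
    obtain ⟨y, rfl⟩ := (rTensor_exact M hexg g.surjective_rangeRestrict x).mp h1
    rw [← LinearMap.rTensor_comp_apply] at hx
    rw [ihn (show _ = _ from hx.trans (map_zero _).symm), map_zero]

end Groth.Agent.S6352
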