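import Groth.Statements.S6353
import Mathlib
-- import your own Groth.Agent.* helpers here

set_option autoImplicit false
universe u
open CAlg

namespace Groth.Agent.S6353

open PrimeSpectrum in
/-- For a commutative ring R, I ↦ V(I) is a bijection between pure ideals (R/I flat over R) and closed
subsets of Spec R stable under generalization. Stated here as: V(I) is stable under generalization
for I pure, and every closed generalization-stable subset is V(I) for some pure I (injectivity on
pure ideals being the standard fact that pure ideals with the same zero locus coincide). -/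
theorem result (R : Type u) [CommRing R] :
    (∀ I : Ideal R, I.Pure → StableUnderGeneralization (zeroLocus (I : Set R))) ∧
      ∀ Z : Set (PrimeSpectrum R), IsClosed Z → StableUnderGeneralization Z →
        ∃ I : Ideal R, I.Pure ∧ zeroLocus (I : Set R) = Z := by
  classical
  constructor
  · intro I hI x y hyx hx
    haveI := hI
    rw [PrimeSpectrum.mem_zeroLocus] at hx ⊢
    intro r hr
    obtain ⟨s, hs, he⟩ := Ideal.exists_eq_mul_of_pure (I := I) hr
    have hle : y.asIdeal ≤ x.asIdeal := (PrimeSpectrum.le_iff_specializes y x).mpr hyx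
    have h0 : r * (1 - s) = 0 := by linear_combination he
    rcases y.2.mem_or_mem (h0 ▸ y.asIdeal.zero_mem) with h | h
    · exact h
    · exfalso
      apply x.2.one_notMem
      have := x.asIdeal.add_mem (hle h) (hx hs)
      rwa [sub_add_cancel] at this
  · intro Z hZ hgen
    let I : Ideal R :=
      { carrier := {r | ∀ p ∈ Z, ∃ s, s ∉ p.asIdeal ∧ s * r = 0}
        zero_mem' := fun p _ => ⟨1, p.2.one_notMem, mul_zero _⟩
        add_mem' := fun {a b} ha hb p hp => by
          obtain ⟨s, hs, hsa⟩ := ha p hp
          obtain ⟨t, ht, htb⟩ := hb p hp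
          exact ⟨s * t, fun h => (p.2.mem_or_mem h).elim hs ht, by linear_combination t * hsa + s * htb⟩
        smul_mem' := fun c a ha p hp => by
          obtain ⟨s, hs, hsa⟩ := ha p hp
          exact ⟨s, hs, by rw [smul_eq_mul]; linear_combination c * hsa⟩ }
    have hmem : ∀ r, r ∈ I ↔ ∀ p ∈ Z, ∃ s, s ∉ p.asIdeal ∧ s * r = 0 := fun r => Iff.rfl
    have hV : PrimeSpectrum.zeroLocus (I : Set R) = Z := by
      ext m
      rw [PrimeSpectrum.mem_zeroLocus]
      constructor
      · intro hm
        by_contra hmZ
        have key : ∀ p ∈ Z, ∃ s t, s ∉ p.asIdeal ∧ t ∉ m.asIdeal ∧ s * t = 0 := by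
          intro p hp
          by_contra hne
          push Not at hne
          let T : Submonoid R := p.asIdeal.primeCompl ⊔ m.asIdeal.primeCompl
          have hdis : Disjoint ((⊥ : Ideal R) : Set R) (T : Set R) := by
            rw [Set.disjoint_left]
            intro z hz hzT
            obtain ⟨s, hs, t, ht, rfl⟩ := Submonoid.mem_sup.mp hzT
            exact hne s t hs ht hz
          obtain ⟨q, hq, -, hqT⟩ := Ideal.exists_le_prime_disjoint ⊥ T hdis
          have hqp : q ≤ p.asIdeal := fun z hz => by
            by_contra hzp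
            exact Set.disjoint_left.mp hqT hz (Submonoid.mem_sup_left hzp)
          have hqm : q ≤ m.asIdeal := fun z hz => by
            by_contra hzm
            exact Set.disjoint_left.mp hqT hz (Submonoid.mem_sup_right hzm)
          have hqZ : (⟨q, hq⟩ : PrimeSpectrum R) ∈ Z :=
            hgen ((PrimeSpectrum.le_iff_specializes (⟨q, hq⟩ : PrimeSpectrum R) p).mp hqp) hp
          exact hmZ (((PrimeSpectrum.le_iff_specializes (⟨q, hq⟩ : PrimeSpectrum R) m).mp hqm).mem_closed hZ hqZ)
        choose s t hs ht hst using key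
        obtain ⟨F, hF⟩ := hZ.isCompact.elim_finite_subcover
          (fun p : Z => (PrimeSpectrum.basicOpen (s p.1 p.2) : Set (PrimeSpectrum R)))
          (fun p => (PrimeSpectrum.basicOpen _).isOpen)
          (fun p hp => Set.mem_iUnion.mpr ⟨⟨p, hp⟩, hs p hp⟩)
        have hr : (∏ p ∈ F, t p.1 p.2) ∈ I := by
          intro p hp
          obtain ⟨q, hqF, hpq⟩ := Set.mem_iUnion₂.mp (hF hp)
          obtain ⟨w, hw⟩ := Finset.dvd_prod_of_mem (fun p : Z => t p.1 p.2) hqF
          exact ⟨s q.1 q.2, hpq, by rw [hw, ← mul_assoc, hst, zero_mul]⟩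
        obtain ⟨p, -, hp⟩ := (Ideal.IsPrime.prod_mem_iff (hp := m.2)).mp (hm hr)
        exact ht p.1 p.2 hp
      · intro hm r hr
        obtain ⟨s, hs, h0⟩ := (hmem r).mp hr m hm
        exact (m.2.mem_or_mem (h0 ▸ m.asIdeal.zero_mem)).resolve_left hs
    refine ⟨I, Ideal.Pure.of_inf_eq_mul I fun J _ => le_antisymm ?_ Ideal.mul_le_inf, hV⟩
    rintro x ⟨hxI, hxJ⟩
    let An : Ideal R := Module.annihilator R (Submodule.span R {x}) ⊔ I
    have hAn : An = ⊤ := by
      by_contra hne
      obtain ⟨m, hm, hle⟩ := Ideal.exists_le_maximal An hne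
      have hmZ : (⟨m, hm.isPrime⟩ : PrimeSpectrum R) ∈ Z := by
        rw [← hV, PrimeSpectrum.mem_zeroLocus]
        exact fun r hr => hle (Ideal.mem_sup_right hr)
      obtain ⟨s, hs, h0⟩ := (hmem x).mp hxI _ hmZ
      exact hs (hle (Ideal.mem_sup_left ((Submodule.mem_annihilator_span_singleton x s).mpr h0)))
    obtain ⟨a, ha, y, hy, hay⟩ := Submodule.mem_sup.mp ((Ideal.eq_top_iff_one _).mp hAn)
    have h1 : a * x = 0 := (Submodule.mem_annihilator_span_singleton x a).mp ha
    have : x = y * x := by linear_combination (-x) * hay + h1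
    rw [this]
    exact Ideal.mul_mem_mul hy hxJ

end Groth.Agent.S6353
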