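import Groth.Statements.S6354
import Mathlib
-- import your own Groth.Agent.* helpers here

set_option autoImplicit false
universe u
open CAlg

namespace Groth.Agent.S6354

open PrimeSpectrum in
/-- For an ideal I of a commutative ring R these four conditions are equivalent: (1) I is finitely
generated and pure; (2) I = (e) for some idempotent e; (3) I is pure with V(I) open in Spec R; (4)
R/I is projective as an R-module. -/
theorem result (R : Type u) [CommRing R] (I : Ideal R) :
    List.TFAE [I.Pure ∧ I.FG, ∃ e : R, IsIdempotentElem e ∧ I = Ideal.span {e},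
      I.Pure ∧ IsOpen (zeroLocus (I : Set R)), Module.Projective R (R ⧸ I)] := by
  tfae_have 1 → 2 := fun ⟨hp, hfg⟩ => by
    haveI := hp
    exact (Ideal.isIdempotentElem_iff_of_fg I hfg).mp (Ideal.isIdempotentElem_of_pure I)
  tfae_have 2 → 4 := by
    rintro ⟨e, he, rfl⟩
    haveI : Module.Projective R ((R ⧸ Ideal.span {e}) × R ⧸ Ideal.span {1 - e}) :=
      Module.Projective.of_equiv (AlgEquiv.prodQuotientOfIsIdempotentElem R he he.one_sub (by simp)
        (by grind [IsIdempotentElem]) |>.toLinearEquiv)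
    exact Module.Projective.of_split (LinearMap.inl R _ (R ⧸ Ideal.span {1 - e})) (LinearMap.fst R _ _)
      (LinearMap.ext fun x => rfl)
  tfae_have 4 → 1 := fun h => by
    haveI := h
    refine ⟨inferInstanceAs (Module.Flat R (R ⧸ I)), ?_⟩
    have := Module.finitePresentation_of_projective R (R ⧸ I)
    have hk := Module.FinitePresentation.fg_ker (Submodule.mkQ I) (Submodule.mkQ_surjective I)
    rwa [Submodule.ker_mkQ] at hk
  tfae_have 2 → 3 := by
    rintro ⟨e, he, rfl⟩
    refine ⟨Ideal.Pure.of_isIdempotentElem ⟨{e}, by simp⟩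
      ((Ideal.isIdempotentElem_iff_of_fg _ ⟨{e}, by simp⟩).mpr ⟨e, he, rfl⟩), ?_⟩
    rw [PrimeSpectrum.zeroLocus_span]
    rw [PrimeSpectrum.zeroLocus_eq_basicOpen_of_isIdempotentElem e he]
    exact (PrimeSpectrum.basicOpen (1 - e)).isOpen
  tfae_have 3 → 2 := by
    rintro ⟨hp, ho⟩
    haveI := hp
    obtain ⟨e, he, hs⟩ := PrimeSpectrum.isClopen_iff.mp ⟨PrimeSpectrum.isClosed_zeroLocus (I : Set R), ho⟩
    refine ⟨1 - e, he.one_sub, ?_⟩
    haveI : (Ideal.span {1 - e}).Pure := Ideal.Pure.of_isIdempotentElem ⟨{1 - e}, by simp⟩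
      ((Ideal.isIdempotentElem_iff_of_fg _ ⟨{1 - e}, by simp⟩).mpr ⟨1 - e, he.one_sub, rfl⟩)
    rw [← Ideal.zeroLocus_inj_of_pure, hs, PrimeSpectrum.zeroLocus_span]
    exact PrimeSpectrum.basicOpen_eq_zeroLocus_of_isIdempotentElem e he
  tfae_finish

end Groth.Agent.S6354
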