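import Groth.Statements.S6355
import Mathlib.RingTheory.Ideal.Pure
import Mathlib.RingTheory.Spectrum.Prime.FreeLocus
import Mathlib.RingTheory.LocalProperties.FinitePresentation
import Mathlib.RingTheory.Ideal.IdempotentFG
import Mathlib.RingTheory.FiniteLength
import Mathlib.LinearAlgebra.FreeModule.Finite.Basic
import Mathlib.Tactic.Ring
import Mathlib.Tactic.LinearCombination
-- import your own Groth.Agent.* helpers here

set_option autoImplicit false
universe u
open CAlg

namespace Groth.Agent.S6355

variable {R : Type u} [CommRing R] {M : Type u} [AddCommGroup M] [Module R M]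

/-- Near a prime, a finite flat module is generated by rank many elements. -/
theorem exists_gen_near [Module.Finite R M] [Module.Flat R M] (p : PrimeSpectrum R) (n : ℕ)
    (hn : Module.rankAtStalk M p = n) :
    ∃ (g : (Fin n → R) →ₗ[R] M) (s : R), s ∉ p.asIdeal ∧ ∀ x : M, s • x ∈ LinearMap.range g := by
  classical
  let S := p.asIdeal.primeCompl
  let Rp := Localization.AtPrime p.asIdeal
  let mk := LocalizedModule.mkLinearMap S M
  haveI : Module.Free Rp (LocalizedModule S M) := Module.free_of_flat_of_isLocalRing
  let b : Module.Basis (Fin n) Rp (LocalizedModule S M) := Module.finBasisOfFinrankEq Rp _ hn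
  choose mt hmt using fun i => IsLocalizedModule.surj S mk (b i)
  let m : Fin n → M := fun i => (mt i).1
  let g : (Fin n → R) →ₗ[R] M := Fintype.linearCombination R m
  have key : ∀ x : M, ∃ u ∈ S, u • x ∈ LinearMap.range g := by
    intro x
    let c : Fin n → Rp := fun i => b.repr (mk x) i * IsLocalization.mk' Rp (1 : R) (mt i).2
    obtain ⟨u, hu⟩ := IsLocalization.exist_integer_multiples S Finset.univ c
    choose a ha using fun i => hu i (Finset.mem_univ i)
    have hxc : mk x = ∑ i, c i • mk (m i) := by
      conv_lhs => rw [← b.sum_repr (mk x)]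
      refine Finset.sum_congr rfl fun i _ => ?_
      have h : mk (m i) = algebraMap R Rp ((mt i).2 : R) • b i := by
        rw [algebraMap_smul]; exact (hmt i).symm
      rw [h, smul_smul]
      simp only [c, mul_assoc, IsLocalization.mk'_spec, map_one, mul_one]
    have h0 : mk ((u : R) • x) = mk (g a) := by
      rw [map_smul, hxc, Finset.smul_sum, Fintype.linearCombination_apply, map_sum]
      refine Finset.sum_congr rfl fun i _ => ?_
      rw [← smul_assoc, ← ha i, map_smul, algebraMap_smul]
    obtain ⟨v, hv⟩ := (IsLocalizedModule.eq_iff_exists S mk).1 h0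
    refine ⟨(v : R) * u, S.mul_mem v.2 u.2, ?_⟩
    rw [mul_smul]
    exact ⟨(v : R) • a, by rw [map_smul]; exact hv.symm⟩
  obtain ⟨G, hG⟩ := Module.Finite.fg_top (R := R) (M := M)
  choose u hu hux using key
  refine ⟨g, ∏ x ∈ G, u x, ?_, fun x => ?_⟩
  · exact S.prod_mem fun x _ => hu x
  · have hle : Submodule.span R (G : Set M) ≤
        Submodule.comap (LinearMap.lsmul R M (∏ x ∈ G, u x)) (LinearMap.range g) := by
      rw [Submodule.span_le]
      intro y hy
      show (∏ x ∈ G, u x) • y ∈ LinearMap.range g
      rw [← Finset.prod_erase_mul _ _ (Finset.mem_coe.1 hy), mul_smul]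
      exact Submodule.smul_mem _ _ (hux y)
    exact hle (hG ▸ Submodule.mem_top)

theorem localized_surjective {N : Type u} [AddCommGroup N] [Module R N] (g : N →ₗ[R] M) (s : R)
    (h : ∀ x : M, s • x ∈ LinearMap.range g) (S : Submonoid R) (hs : s ∈ S) :
    Function.Surjective (LocalizedModule.map S g) := by
  intro y
  induction y using LocalizedModule.induction_on with
  | h x t =>
    obtain ⟨a, ha⟩ := h x
    refine ⟨LocalizedModule.mk a (t * ⟨s, hs⟩), ?_⟩
    rw [LocalizedModule.map_mk, ha]
    exact LocalizedModule.mk_eq.2 ⟨1, by simp only [one_smul, mul_smul, Submonoid.smul_def]⟩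

theorem finrank_localized_fun [Nontrivial R] (q : PrimeSpectrum R) (n : ℕ) :
    Module.finrank (Localization.AtPrime q.asIdeal)
      (LocalizedModule q.asIdeal.primeCompl (Fin n → R)) = n := by
  have h := congrFun (Module.rankAtStalk_eq_finrank_of_free (R := R) (M := Fin n → R)) q
  rw [Module.rankAtStalk] at h
  rw [h]
  simp

theorem rank_le_near [Module.Finite R M] [Module.Flat R M] {n : ℕ} (g : (Fin n → R) →ₗ[R] M) {s : R}
    (h : ∀ x : M, s • x ∈ LinearMap.range g) (q : PrimeSpectrum R) (hs : s ∉ q.asIdeal) :
    Module.rankAtStalk M q ≤ n := by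
  haveI : Nontrivial R := q.nontrivial
  conv_rhs => rw [← finrank_localized_fun q n]
  rw [Module.rankAtStalk]
  exact LinearMap.finrank_le_finrank_of_surjective (localized_surjective g s h q.asIdeal.primeCompl hs)

theorem projective_of_isOpen_rank [Module.Finite R M] [Module.Flat R M]
    (h : ∀ n : ℕ, IsOpen {p : PrimeSpectrum R | Module.rankAtStalk M p = n}) :
    Module.Projective R M := by
  classical
  have key : ∀ p : PrimeSpectrum R, ∃ s : R, s ∉ p.asIdeal ∧
      Module.FinitePresentation (Localization.Away s) (LocalizedModule.Away s M) := by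
    intro p
    haveI : Nontrivial R := p.nontrivial
    set n := Module.rankAtStalk M p with hn
    obtain ⟨g, s, hs, hg⟩ := exists_gen_near p n hn.symm
    obtain ⟨_, ⟨f, rfl⟩, hpf, hf⟩ := PrimeSpectrum.isTopologicalBasis_basic_opens.exists_subset_of_mem_open
      (a := p) (by simpa [hn] using hn.symm : p ∈ {q | Module.rankAtStalk M q = n}) (h n)
    have hsf : s * f ∉ p.asIdeal := fun hc => (p.isPrime.mem_or_mem hc).elim hs hpf
    refine ⟨s * f, hsf, ?_⟩
    let gS := LocalizedModule.map (Submonoid.powers (s * f)) g
    have hsurj : Function.Surjective gS :=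
      localized_surjective g (s * f)
        (fun x => by rw [mul_comm, mul_smul]; exact Submodule.smul_mem _ _ (hg x)) _
        (Submonoid.mem_powers _)
    have hinj : Function.Injective gS := by
      rw [injective_iff_map_eq_zero]
      intro y hy
      induction y using LocalizedModule.induction_on with
      | h a t =>
        rw [LocalizedModule.map_mk, ← LocalizedModule.zero_mk t] at hy
        obtain ⟨w, hw⟩ := LocalizedModule.mk_eq.1 hy
        simp only [smul_zero, Submonoid.smul_def] at hw
        let J : Ideal R := (Submodule.span R {a}).annihilator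
        have hJ : s * f ∈ J.radical := by
          rw [Ideal.radical_eq_sInf, Submodule.mem_sInf]
          rintro Q ⟨hQJ, hQ⟩
          by_contra hsfQ
          let q : PrimeSpectrum R := ⟨Q, hQ⟩
          have hsQ : s ∉ Q := fun hc => hsfQ (Ideal.mul_mem_right f (show Ideal R from Q) hc)
          have hrk : Module.rankAtStalk M q = n :=
            hf (show q ∈ PrimeSpectrum.basicOpen f from fun hc => hsfQ (Ideal.mul_mem_left (show Ideal R from Q) s hc))
          let gq := LocalizedModule.map q.asIdeal.primeCompl g
          haveI : Module.Free (Localization.AtPrime q.asIdeal) (LocalizedModule q.asIdeal.primeCompl M) :=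
            Module.free_of_flat_of_isLocalRing
          haveI : Module.Free (Localization.AtPrime q.asIdeal)
              (LocalizedModule q.asIdeal.primeCompl (Fin n → R)) :=
            Module.free_of_flat_of_isLocalRing
          let e : LocalizedModule q.asIdeal.primeCompl M ≃ₗ[Localization.AtPrime q.asIdeal]
              LocalizedModule q.asIdeal.primeCompl (Fin n → R) :=
            LinearEquiv.ofFinrankEq _ _ (hrk.trans (finrank_localized_fun q n).symm)
          have hbij : Function.Injective gq := by
            have := OrzechProperty.injective_of_surjective_endomorphism (e.toLinearMap ∘ₗ gq)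
              (e.surjective.comp (localized_surjective g s hg _ hsQ))
            rw [LinearMap.coe_comp] at this
            exact this.of_comp
          have hwQ : ((w : R) * (t : R)) ∉ Q := by
            obtain ⟨i, hi⟩ := w.2
            obtain ⟨j, hj⟩ := t.2
            simp only at hi hj
            rw [← hi, ← hj, ← pow_add]
            exact fun hc => hsfQ (hQ.mem_of_pow_mem _ hc)
          have h0 : gq (LocalizedModule.mk a 1) = 0 := by
            rw [LocalizedModule.map_mk, ← LocalizedModule.zero_mk 1]
            refine LocalizedModule.mk_eq.2 ⟨⟨_, hwQ⟩, ?_⟩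
            simp only [one_smul, smul_zero, Submonoid.smul_def]
            rw [mul_smul]
            exact hw
          have h1 := hbij (h0.trans gq.map_zero.symm)
          rw [← LocalizedModule.zero_mk 1] at h1
          obtain ⟨v, hv⟩ := LocalizedModule.mk_eq.1 h1
          simp only [one_smul, smul_zero, Submonoid.smul_def] at hv
          exact v.2 (hQJ ((Submodule.mem_annihilator_span_singleton _ _).2 hv))
        obtain ⟨k, hk⟩ := hJ
        rw [← LocalizedModule.zero_mk t]
        refine LocalizedModule.mk_eq.2 ⟨⟨_, k, rfl⟩, ?_⟩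
        simp only [smul_zero, Submonoid.smul_def]
        rw [smul_comm, (Submodule.mem_annihilator_span_singleton _ _).1 hk, smul_zero]
    haveI : Module.FinitePresentation (Localization.Away (s * f))
        (LocalizedModule.Away (s * f) (Fin n → R)) := inferInstance
    exact Module.finitePresentation_of_surjective gS hsurj
      (by rw [LinearMap.ker_eq_bot.2 hinj]; exact Submodule.fg_bot)
  choose s hs hfp using key
  haveI : Module.FinitePresentation R M := by
    refine Module.FinitePresentation.of_localizationSpan (Set.range s) ?_ ?_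
    · by_contra hne
      obtain ⟨m, hm, hle⟩ := Ideal.exists_le_maximal _ hne
      exact hs ⟨m, hm.isPrime⟩ (hle (Ideal.subset_span ⟨_, rfl⟩))
    · rintro ⟨_, p, rfl⟩
      exact hfp p
  exact Module.freeLocus_eq_univ_iff.1 Module.freeLocus_eq_univ

theorem isOpen_rank_eq (hR : ∀ Z : Set (PrimeSpectrum R), IsClosed Z → StableUnderGeneralization Z → IsOpen Z)
    [Module.Finite R M] [Module.Flat R M] (n : ℕ) :
    IsOpen {p : PrimeSpectrum R | Module.rankAtStalk M p = n} := by
  have hclosed : ∀ m : ℕ, IsClosed {p : PrimeSpectrum R | m ≤ Module.rankAtStalk M p} := by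
    intro m
    rw [← isOpen_compl_iff, isOpen_iff_forall_mem_open]
    intro p hp
    simp only [Set.mem_compl_iff, Set.mem_setOf_eq, not_le] at hp
    obtain ⟨g, s, hs, hg⟩ := exists_gen_near (M := M) p _ rfl
    refine ⟨PrimeSpectrum.basicOpen s, fun q hq => ?_, (PrimeSpectrum.basicOpen s).2, hs⟩
    simp only [Set.mem_compl_iff, Set.mem_setOf_eq, not_le]
    exact lt_of_le_of_lt (rank_le_near g hg q hq) hp
  have hopen : ∀ m : ℕ, IsOpen {p : PrimeSpectrum R | m ≤ Module.rankAtStalk M p} := fun m =>
    hR _ (hclosed m) fun p q hqp hp => by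
      simp only [Set.mem_setOf_eq] at hp ⊢
      rwa [Module.rankAtStalk_eq_of_le_of_finite_of_flat M ((PrimeSpectrum.le_iff_specializes q p).2 hqp)]
  have heq : {p : PrimeSpectrum R | Module.rankAtStalk M p = n} =
      {p | n ≤ Module.rankAtStalk M p} \ {p | n + 1 ≤ Module.rankAtStalk M p} := by
    ext p
    simp only [Set.mem_setOf_eq, Set.mem_diff]
    omega
  rw [heq]
  exact (hopen n).sdiff (hclosed (n + 1))

theorem isOpen_of_projective (h : ∀ (M : Type u) [AddCommGroup M] [Module R M],
      Module.Finite R M → Module.Flat R M → Module.Projective R M)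
    (Z : Set (PrimeSpectrum R)) (hZc : IsClosed Z) (hZg : StableUnderGeneralization Z) : IsOpen Z := by
  classical
  let I : Ideal R := ⨅ p : Z, RingHom.ker (algebraMap R (Localization.AtPrime p.1.asIdeal))
  have hI : ∀ x, x ∈ I ↔ ∀ p ∈ Z, ∃ t ∉ p.asIdeal, t * x = 0 := by
    intro x
    simp only [I, Submodule.mem_iInf, RingHom.mem_ker, Subtype.forall]
    refine forall₂_congr fun p hp => ?_
    rw [IsLocalization.map_eq_zero_iff p.asIdeal.primeCompl]
    exact ⟨fun ⟨t, ht⟩ => ⟨t, t.2, ht⟩, fun ⟨t, h1, h2⟩ => ⟨⟨t, h1⟩, h2⟩⟩
  have hZI : Z = PrimeSpectrum.zeroLocus (I : Set R) := by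
    refine Set.Subset.antisymm (fun p hp x hx => ?_) (fun q hq => ?_)
    · obtain ⟨t, ht, htx⟩ := (hI x).1 hx p hp
      exact (p.isPrime.mem_or_mem (htx ▸ p.asIdeal.zero_mem)).resolve_left ht
    · by_contra hqZ
      -- every point of Z is separated from q
      have hsep : ∀ p ∈ Z, ∃ s t : R, s ∉ q.asIdeal ∧ t ∉ p.asIdeal ∧ t * s = 0 := by
        intro p hp
        by_contra hno
        push Not at hno
        let U : Submonoid R := p.asIdeal.primeCompl ⊔ q.asIdeal.primeCompl
        have hd : Disjoint (((⊥ : Ideal R)) : Set R) (U : Set R) := by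
          rw [Set.disjoint_left]
          intro x hx hxU
          obtain ⟨t, ht, s, hs, rfl⟩ := Submonoid.mem_sup.1 hxU
          exact hno s t hs ht hx
        obtain ⟨Q, hQ, -, hQU⟩ := Ideal.exists_le_prime_disjoint ⊥ U hd
        have hQp : Q ≤ p.asIdeal := fun x hx => by
          by_contra hc
          exact Set.disjoint_left.1 hQU hx (Submonoid.mem_sup_left hc)
        have hQq : Q ≤ q.asIdeal := fun x hx => by
          by_contra hc
          exact Set.disjoint_left.1 hQU hx (Submonoid.mem_sup_right hc)
        refine hqZ (hZc.stableUnderSpecialization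
          ((PrimeSpectrum.le_iff_specializes ⟨Q, hQ⟩ q).1 hQq) ?_)
        exact hZg ((PrimeSpectrum.le_iff_specializes ⟨Q, hQ⟩ p).1 hQp) hp
      choose s t hs ht hts using hsep
      obtain ⟨F, hF⟩ := hZc.isCompact.elim_finite_subcover
        (fun p : Z => (PrimeSpectrum.basicOpen (t p.1 p.2) : Set (PrimeSpectrum R)))
        (fun p => (PrimeSpectrum.basicOpen _).2)
        (fun p hp => Set.mem_iUnion.2 ⟨⟨p, hp⟩, ht p hp⟩)
      have hmem : ∏ p ∈ F, s p.1 p.2 ∈ I := by
        rw [hI]
        intro p' hp'
        obtain ⟨p, hpF, hpt⟩ := Set.mem_iUnion₂.1 (hF hp')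
        refine ⟨t p.1 p.2, hpt, ?_⟩
        rw [← Finset.mul_prod_erase F _ hpF, ← mul_assoc, hts, zero_mul]
      obtain ⟨p, -, hp⟩ := (Ideal.IsPrime.prod_mem_iff (hp := q.isPrime)).1 (hq hmem)
      exact hs p.1 p.2 hp
  haveI hpure : Module.Flat R (R ⧸ I) := by
    refine Ideal.Pure.of_inf_eq_mul I fun J _ => le_antisymm (fun x hx => ?_) Ideal.mul_le_inf
    let A : Ideal R := (Submodule.span R {x}).annihilator
    have htop : A ⊔ I = ⊤ := by
      by_contra hne
      obtain ⟨m, hm, hle⟩ := Ideal.exists_le_maximal _ hne
      have hmZ : (⟨m, hm.isPrime⟩ : PrimeSpectrum R) ∈ Z := by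
        rw [hZI]; exact fun y hy => hle (Ideal.mem_sup_right hy)
      obtain ⟨u, hu, hux⟩ := (hI x).1 hx.1 _ hmZ
      exact hu (hle (Ideal.mem_sup_left ((Submodule.mem_annihilator_span_singleton _ _).2 hux)))
    obtain ⟨a, ha, y, hy, hay⟩ := Submodule.mem_sup.1 (htop ▸ Submodule.mem_top : (1 : R) ∈ A ⊔ I)
    have hxy : x = y * x := by
      have h0 : a * x = 0 := (Submodule.mem_annihilator_span_singleton _ _).1 ha
      linear_combination -(x * hay) + h0
    rw [hxy]
    exact Ideal.mul_mem_mul hy hx.2
  haveI : Module.Projective R (R ⧸ I) := h (R ⧸ I) inferInstance hpure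
  haveI := Module.finitePresentation_of_projective R (R ⧸ I)
  have hfg : I.FG := by
    have := Module.FinitePresentation.fg_ker (Submodule.mkQ I) (Submodule.mkQ_surjective I)
    rwa [Submodule.ker_mkQ] at this
  obtain ⟨e, he, hIe⟩ := (Ideal.isIdempotentElem_iff_of_fg _ hfg).1
    (@Ideal.isIdempotentElem_of_pure _ _ I hpure)
  have hopen : Z = (PrimeSpectrum.basicOpen (1 - e) : Set (PrimeSpectrum R)) := by
    rw [hZI, hIe]
    ext p
    simp only [PrimeSpectrum.mem_zeroLocus, SetLike.mem_coe, PrimeSpectrum.mem_basicOpen]
    constructor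
    · intro hp hc
      have : e ∈ p.asIdeal := hp (Submodule.mem_span_singleton_self e)
      exact p.isPrime.ne_top ((Ideal.eq_top_iff_one _).2 (by simpa using add_mem hc this))
    · intro hc x hx
      obtain ⟨r, rfl⟩ := Submodule.mem_span_singleton.1 hx
      have h0 : e * (1 - e) = 0 := by rw [mul_sub, mul_one, he.eq, sub_self]
      exact p.asIdeal.mul_mem_left r
        ((p.isPrime.mem_or_mem (h0 ▸ p.asIdeal.zero_mem)).resolve_right hc)
  rw [hopen]
  exact (PrimeSpectrum.basicOpen (1 - e)).2

/-- For a commutative ring R the following are equivalent: (1) every subset of Spec R which is closed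
and stable under generalization is open; (2) every finite flat R-module is finite locally free, i.e.
(for finite modules) projective. -/
theorem result (R : Type u) [CommRing R] :
    (∀ Z : Set (PrimeSpectrum R), IsClosed Z → StableUnderGeneralization Z → IsOpen Z) ↔
      ∀ (M : Type u) [AddCommGroup M] [Module R M], Module.Finite R M → Module.Flat R M →
        Module.Projective R M := by
  refine ⟨fun hR M _ _ _ _ => projective_of_isOpen_rank (isOpen_rank_eq hR), fun h => ?_⟩
  exact isOpen_of_projective h

end Groth.Agent.S6355
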