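import Groth.Statements.S6358
import Groth.Agent.Lib.ML.Dominate

set_option autoImplicit false
universe u
open CAlg

namespace Groth.Agent.S6358

/-- A module M over a commutative ring R is Mittag-Leffler exactly when each linear map f from a finite
free module R^n into M is mutually dominated by some linear map g : R^n → Q with Q finitely
presented, meaning that f ⊗ id_N and g ⊗ id_N have the same kernel for every R-module N. -/
theorem result (R : Type u) [CommRing R] (M : Type u)
    [AddCommGroup M] [Module R M] :
    CAlg.IsMittagLeffler R M ↔
      ∀ (n : ℕ) (f : (Fin n → R) →ₗ[R] M),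
        ∃ (Q : Type u) (_ : AddCommGroup Q) (_ : Module R Q) (_ : Module.FinitePresentation R Q)
          (g : (Fin n → R) →ₗ[R] Q),
          ∀ (N : Type u) [AddCommGroup N] [Module R N],
            LinearMap.ker (f.rTensor N) = LinearMap.ker (g.rTensor N) := by
  refine ⟨fun hM n f => ?_, GrothLib.ML.isMittagLeffler_of_free⟩
  obtain ⟨Q, _, _, hQ, g, _, _, hg⟩ := GrothLib.ML.exists_dominating hM f
  exact ⟨Q, inferInstance, inferInstance, hQ, g, hg⟩

end Groth.Agent.S6358
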