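import Groth.Statements.S6362
import Groth.Agent.Lib.FieldExtra.Galois
-- import your own Groth.Agent.* helpers here

set_option autoImplicit false
universe u
open scoped TensorProduct
open Fields

namespace Groth.Agent.S6362

/-- Let K/F be a finite separable extension and L/F an extension with L algebraically closed. Then the
L-algebra map K ⊗_F L → ∏_σ L, indexed by the F-algebra maps σ : K → L and sending a ⊗ b to (σ(a)
b)_σ, is an isomorphism; stated as bijectivity of that map. -/
theorem result {F K L : Type u} [Field F] [Field K] [Field L]
    [Algebra F K] [Algebra F L] [FiniteDimensional F K] [Algebra.IsSeparable F K] [IsAlgClosed L] :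
    Function.Bijective (fun x : K ⊗[F] L => fun σ : K →ₐ[F] L =>
      Algebra.TensorProduct.lift σ (AlgHom.id F L) (fun a b => Commute.all (σ a) b) x) := by
  have h := (GrothLib.FieldExtra.piEmb_bijective (F := F) (K := K) (L := L)).comp
    (Algebra.TensorProduct.comm F K L).bijective
  refine (congrArg Function.Bijective (funext fun x => funext fun σ => ?_)).mp h
  induction x using TensorProduct.induction_on with
  | zero => simp
  | tmul a b => simp [GrothLib.FieldExtra.piEmb_tmul, mul_comm]
  | add a b ha hb => simp only [Function.comp_apply, map_add, Pi.add_apply] at *; rw [ha, hb]

end Groth.Agent.S6362
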