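import Groth.Statements.S6363
import Groth.Agent.Lib.FieldExtra.Galois
-- import your own Groth.Agent.* helpers here

set_option autoImplicit false
universe u
open scoped TensorProduct
open Fields

namespace Groth.Agent.S6363

/-- For a finite field extension L/K and a normal closure M of L/K, some K-algebra homomorphism from the
n-fold tensor power L ⊗_K ⋯ ⊗_K L to M is surjective, where n = [L : K]_s is the separable degree
(so n ≤ [L : K]). -/
theorem result {K L M : Type u} [Field K] [Field L] [Field M]
    [Algebra K L] [Algebra K M] [Algebra L M] [IsScalarTower K L M] [FiniteDimensional K L]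
    [IsNormalClosure K L M] :
    ∃ f : (⨂[K] _ : Fin (Field.finSepDegree K L), L) →ₐ[K] M, Function.Surjective f := by
  exact GrothLib.FieldExtra.exists_surjective_piTensor

end Groth.Agent.S6363
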