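import Groth.Statements.S6364
import Groth.Agent.Lib.FieldExtra.CharTrace
-- import your own Groth.Agent.* helpers here

set_option autoImplicit false
universe u
open Fields

namespace Groth.Agent.S6364

open IntermediateField in
/-- Let L/K be a finite extension and a ∈ L with minimal polynomial P over K. Then P ^ e, with e = [L :
K(a)], is the characteristic polynomial of multiplication by a (the K-linear map x ↦ a x on L), and
e · deg P = [L : K]. -/
theorem result {K L : Type u} [Field K] [Field L] [Algebra K L] [FiniteDimensional K L]
    (a : L) :
    (Algebra.lmul K L a).charpoly = minpoly K a ^ Module.finrank K⟮a⟯ L ∧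
      Module.finrank K⟮a⟯ L * (minpoly K a).natDegree = Module.finrank K L := by
  exact GrothLib.FieldExtra.charpoly_lmul a

end Groth.Agent.S6364
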