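import Groth.Statements.S6366
import Mathlib.Algebra.Module.FinitePresentation
import Mathlib.LinearAlgebra.Pi

set_option autoImplicit false
universe u
open CAlg

namespace Groth.Agent.S6366

/-- Finitely generated submodules of `R^n` are finitely presented over a coherent ring. -/
theorem fp_of_fg {R : Type u} [CommRing R]
    (hR : ∀ I : Ideal R, I.FG → Module.FinitePresentation R I) :
    ∀ (n : ℕ) (N : Submodule R (Fin n → R)), N.FG → Module.FinitePresentation R N := by
  intro n
  induction n with
  | zero =>
    intro N _
    haveI : Module.Free R N := Module.Free.of_subsingleton R N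
    haveI : Module.Finite R N := inferInstance
    exact Module.finitePresentation_of_projective R N
  | succ n ih =>
    intro N hN
    haveI : Module.Finite R N := Module.Finite.iff_fg.2 hN
    let p : (Fin (n + 1) → R) →ₗ[R] R := LinearMap.proj 0
    let I : Ideal R := N.map p
    haveI := hR I (hN.map p)
    let g : N →ₗ[R] I := p.restrict (fun x hx => ⟨x, hx, rfl⟩)
    have hg : Function.Surjective g := by
      rintro ⟨_, x, hx, rfl⟩
      exact ⟨⟨x, hx⟩, rfl⟩
    have hker : (LinearMap.ker g).FG := Module.FinitePresentation.fg_ker g hg
    haveI : Module.FinitePresentation R (LinearMap.ker g) := by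
      let q : (Fin (n + 1) → R) →ₗ[R] (Fin n → R) := LinearMap.funLeft R R Fin.succ
      let j : LinearMap.ker g →ₗ[R] (Fin n → R) := q ∘ₗ N.subtype ∘ₗ (LinearMap.ker g).subtype
      have hj : Function.Injective j := by
        rw [injective_iff_map_eq_zero]
        rintro ⟨⟨x, hx⟩, hgx⟩ h
        apply Subtype.ext
        apply Subtype.ext
        funext i
        refine Fin.cases ?_ (fun i => ?_) i
        · exact congrArg Subtype.val hgx
        · exact congrFun h i
      haveI : Module.Finite R (LinearMap.ker g) := Module.Finite.iff_fg.2 hker
      haveI := ih (LinearMap.range j) (Module.Finite.iff_fg.1 (Module.Finite.range j))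
      exact Module.FinitePresentation.of_equiv (R := R) (M := LinearMap.range j) (N := LinearMap.ker g)
        (LinearEquiv.ofInjective j hj).symm
    exact Module.finitePresentation_of_ker g hg


/-- Let R be a coherent ring, i.e. every finitely generated ideal of R is finitely presented. Then an
R-module is coherent (finitely generated, and every finitely generated submodule is finitely
presented) if and only if it is finitely presented. -/
theorem result (R : Type u) [CommRing R]
    (hR : ∀ I : Ideal R, I.FG → Module.FinitePresentation R I) (M : Type u) [AddCommGroup M] [Module R M] :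
    (Module.Finite R M ∧ ∀ N : Submodule R M, N.FG → Module.FinitePresentation R N) ↔ Module.FinitePresentation R M := by
  constructor
  · rintro ⟨hM, h⟩
    haveI := h ⊤ Module.Finite.fg_top
    exact Module.FinitePresentation.of_equiv Submodule.topEquiv
  · intro hM
    refine ⟨inferInstance, fun N hN => ?_⟩
    obtain ⟨n, K, e, hK⟩ := Module.FinitePresentation.exists_fin R M
    let π : (Fin n → R) →ₗ[R] M := e.symm.toLinearMap ∘ₗ K.mkQ
    have hπ : Function.Surjective π := e.symm.surjective.comp K.mkQ_surjective
    have hkerπ : LinearMap.ker π = K := by simp [π, LinearMap.ker_comp]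
    let N' := N.comap π
    have hN' : N'.FG := by
      refine Submodule.fg_of_fg_map_of_fg_inf_ker π ?_ ?_
      · rwa [Submodule.map_comap_eq_of_surjective hπ]
      · rw [inf_eq_right.2 (LinearMap.ker_le_comap π), hkerπ]
        exact hK
    haveI := fp_of_fg hR n N' hN'
    let f : N' →ₗ[R] N := π.restrict (fun x hx => hx)
    refine Module.finitePresentation_of_surjective f ?_ ?_
    · rintro ⟨y, hy⟩
      obtain ⟨x, rfl⟩ := hπ y
      exact ⟨⟨x, hy⟩, rfl⟩
    · apply Submodule.fg_of_fg_map_injective N'.subtype N'.injective_subtype
      have : Submodule.map N'.subtype (LinearMap.ker f) = K := by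
        ext x
        constructor
        · rintro ⟨⟨x, hx⟩, hfx, rfl⟩
          rw [← hkerπ]
          exact congrArg Subtype.val hfx
        · intro hx
          rw [← hkerπ] at hx
          exact ⟨⟨x, by simp [N', LinearMap.mem_ker.1 hx]⟩, Subtype.ext hx, rfl⟩
      rwa [this]

end Groth.Agent.S6366
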