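import Groth.Statements.S6367
import Mathlib.Algebra.Module.FinitePresentation
import Mathlib.Algebra.Exact.Basic
-- import your own Groth.Agent.* helpers here

set_option autoImplicit false
universe u
open CAlg

namespace Groth.Agent.S6367

/-- Let 0 → M₁ → M₂ → M₃ → 0 be a short exact sequence of R-modules (f injective, g surjective, image of
f = kernel of g). If M₁ and M₃ are coherent — finitely generated with every finitely generated
submodule finitely presented — then so is M₂. -/
theorem result (R : Type u) [CommRing R] {M₁ M₂ M₃ : Type u}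
    [AddCommGroup M₁] [Module R M₁] [AddCommGroup M₂] [Module R M₂] [AddCommGroup M₃] [Module R M₃]
    (f : M₁ →ₗ[R] M₂) (g : M₂ →ₗ[R] M₃) (hf : Function.Injective f) (hg : Function.Surjective g)
    (hfg : LinearMap.range f = LinearMap.ker g)
    (h₁ : (Module.Finite R M₁ ∧ ∀ N : Submodule R M₁, N.FG → Module.FinitePresentation R N))
    (h₃ : (Module.Finite R M₃ ∧ ∀ N : Submodule R M₃, N.FG → Module.FinitePresentation R N)) :
    (Module.Finite R M₂ ∧ ∀ N : Submodule R M₂, N.FG → Module.FinitePresentation R N) := by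
  obtain ⟨hfin₁, hfp₁⟩ := h₁
  obtain ⟨hfin₃, hfp₃⟩ := h₃
  haveI := hfin₁; haveI := hfin₃
  have hex : Function.Exact f g := LinearMap.exact_iff.mpr hfg.symm
  have hM₂ : Module.Finite R M₂ := by
    refine ⟨Submodule.fg_of_fg_map_of_fg_inf_ker g ?_ ?_⟩
    · rw [Submodule.map_top, LinearMap.range_eq_top.mpr hg]; exact hfin₃.fg_top
    · rw [top_inf_eq, ← hfg, LinearMap.range_eq_map]; exact hfin₁.fg_top.map f
  refine ⟨hM₂, fun N hN => ?_⟩
  haveI : Module.Finite R N := Module.Finite.iff_fg.mpr hN
  let l : N →ₗ[R] N.map g := (g ∘ₗ N.subtype).codRestrict (N.map g) fun x => ⟨x, x.2, rfl⟩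
  have hl : Function.Surjective l := by
    rintro ⟨_, x, hx, rfl⟩
    exact ⟨⟨x, hx⟩, rfl⟩
  haveI : Module.FinitePresentation R (N.map g) := hfp₃ _ (hN.map g)
  have hker : (LinearMap.ker l).FG := Module.FinitePresentation.fg_ker l hl
  let N₁ : Submodule R M₁ := N.comap f
  let i : N₁ →ₗ[R] LinearMap.ker l := ((f ∘ₗ N₁.subtype).codRestrict N fun x => x.2).codRestrict _ fun x => by
    refine LinearMap.mem_ker.mpr (Subtype.ext ?_)
    exact (hex.apply_apply_eq_zero (x : M₁))
  have hi : Function.Injective i := fun a b h =>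
    Subtype.ext (hf (congrArg (fun z : LinearMap.ker l => ((z : N) : M₂)) h))
  have hi' : Function.Surjective i := by
    rintro ⟨⟨x, hx⟩, hlx⟩
    obtain ⟨y, hy⟩ := (hex x).mp (congrArg Subtype.val (LinearMap.mem_ker.mp hlx))
    exact ⟨⟨y, (show f y ∈ N from hy.symm ▸ hx)⟩, Subtype.ext (Subtype.ext hy)⟩
  let e := LinearEquiv.ofBijective i ⟨hi, hi'⟩
  haveI : Module.Finite R (LinearMap.ker l) := Module.Finite.iff_fg.mpr hker
  haveI : Module.Finite R N₁ := Module.Finite.equiv e.symm
  haveI : Module.FinitePresentation R N₁ := hfp₁ _ (Module.Finite.iff_fg.mp inferInstance)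
  haveI : Module.FinitePresentation R (LinearMap.ker l) := Module.FinitePresentation.of_equiv e
  exact Module.finitePresentation_of_ker l hl

end Groth.Agent.S6367
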