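import Groth.Statements.S6369
import Mathlib.RingTheory.DedekindDomain.Ideal.Basic
import Mathlib.RingTheory.Ideal.Maximal

set_option autoImplicit false
universe u
open CAlg

namespace Groth.Agent.S6369

/-- (1) ⇒ (3): let R be a domain such that every nonzero ideal is a product of nonzero prime ideals,
uniquely up to permutation of the factors. Then R is Noetherian, integrally closed and of dimension
at most one, i.e. a Dedekind domain in the Noetherian sense. (The converse and the description by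
discrete valuation rings at maximal ideals are the standard equivalences.) -/
theorem result (R : Type u) [CommRing R] [IsDomain R]
    (h : ∀ I : Ideal R, I ≠ ⊥ → ∃! s : Multiset (Ideal R), (∀ p ∈ s, p.IsPrime ∧ p ≠ ⊥) ∧ s.prod = I) :
    IsDedekindDomain R := by
  classical
  -- cancellation of nonzero ideals
  have cancel : ∀ I J K : Ideal R, I ≠ ⊥ → J ≠ ⊥ → K ≠ ⊥ → I * J = I * K → J = K := by
    intro I J K hI hJ hK hIJ
    obtain ⟨s, ⟨hs, rfl⟩, -⟩ := h I hI
    obtain ⟨t, ⟨ht, rfl⟩, -⟩ := h J hJ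
    obtain ⟨t', ⟨ht', rfl⟩, -⟩ := h K hK
    have hne : s.prod * t.prod ≠ ⊥ := mul_ne_zero hI hJ
    have he := (h _ hne).unique (y₁ := s + t) (y₂ := s + t')
      ⟨fun p hp ↦ (Multiset.mem_add.mp hp).elim (hs p) (ht p), Multiset.prod_add s t⟩
      ⟨fun p hp ↦ (Multiset.mem_add.mp hp).elim (hs p) (ht' p), by rw [Multiset.prod_add, hIJ]⟩
    rw [add_left_cancel he]
  -- nonzero primes are maximal
  have hmax : ∀ p : Ideal R, p.IsPrime → p ≠ ⊥ → p.IsMaximal := by
    intro p hp hp0
    rw [Ideal.isMaximal_iff]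
    refine ⟨fun h1 ↦ hp.ne_top ((Ideal.eq_top_iff_one _).mpr h1), fun J a hpJ hap haJ ↦ ?_⟩
    set A : Ideal R := Ideal.span {a} with hA
    have ha0 : a ≠ 0 := fun h0 ↦ hap (h0 ▸ p.zero_mem)
    have hA0 : A ≠ ⊥ := by simp [hA, ha0]
    have hpA : p ⊔ A ≠ ⊥ := fun he ↦ hp0 (sup_eq_bot_iff.mp he).1
    have hsq : (p ⊔ A) * (p ⊔ A) = p * p ⊔ A * A := by
      refine cancel (p ⊔ A) _ _ hpA (mul_ne_zero hpA hpA)
        (fun he ↦ mul_ne_zero hp0 hp0 (sup_eq_bot_iff.mp he).1) ?_
      refine le_antisymm ?_ (Ideal.mul_mono_right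
        (sup_le (Ideal.mul_mono le_sup_left le_sup_left) (Ideal.mul_mono le_sup_right le_sup_right)))
      have e1 : (p ⊔ A) * (p ⊔ A) ≤ (p * p ⊔ A * A) ⊔ p * A := by
        rw [Ideal.sup_mul, Ideal.mul_sup, Ideal.mul_sup, mul_comm A p]
        exact sup_le (sup_le (le_sup_of_le_left le_sup_left) le_sup_right)
          (sup_le le_sup_right (le_sup_of_le_left le_sup_right))
      refine (Ideal.mul_mono_right e1).trans ?_
      rw [Ideal.mul_sup (p ⊔ A) (p * p ⊔ A * A)]
      refine sup_le le_rfl ?_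
      rw [Ideal.sup_mul p A (p * A)]
      refine sup_le ?_ ?_
      · calc p * (p * A) = A * (p * p) := by ring
          _ ≤ _ := Ideal.mul_mono le_sup_right le_sup_left
      · calc A * (p * A) = p * (A * A) := by ring
          _ ≤ _ := Ideal.mul_mono le_sup_left le_sup_right
    have hle : p * (p ⊔ A) ≤ p * (p ⊔ A * A) := by
      intro x hx
      have hx2 : x ∈ p * p ⊔ A * A := by
        rw [← hsq]; exact Ideal.mul_mono_left le_sup_left hx
      obtain ⟨y, hy, z, hz, rfl⟩ := Submodule.mem_sup.mp hx2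
      rw [hA, Ideal.span_singleton_mul_span_singleton, Ideal.mem_span_singleton'] at hz
      obtain ⟨r, rfl⟩ := hz
      have hpy : y ∈ p := (Ideal.mul_le_left (I := p) (J := p)) hy
      have hr : r * (a * a) ∈ p := by
        have hyx : y + r * (a * a) ∈ p := (Ideal.mul_le_right (I := p ⊔ A) (J := p)) (by rwa [mul_comm] at hx)
        have := p.sub_mem hyx hpy
        rwa [add_sub_cancel_left] at this
      have hr' : r ∈ p := (hp.mem_or_mem hr).resolve_right fun haa ↦ hap ((hp.mem_or_mem haa).elim id id)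
      have hy' : y ∈ p * (p ⊔ A * A) := (Ideal.mul_mono_right (I := p) (le_sup_left : p ≤ p ⊔ A * A)) hy
      refine add_mem hy' (Ideal.mul_mem_mul hr' ?_)
      exact Ideal.mem_sup_right (Ideal.mul_mem_mul (Ideal.mem_span_singleton_self a) (Ideal.mem_span_singleton_self a))
    have hle' : p * (p ⊔ A * A) ≤ p * (p ⊔ A) :=
      Ideal.mul_mono_right (sup_le le_sup_left (le_sup_of_le_right (Ideal.mul_le_left (I := A) (J := A))))
    have he : p ⊔ A = p ⊔ A * A :=
      cancel p _ _ hp0 hpA (fun he ↦ hp0 (sup_eq_bot_iff.mp he).1) (le_antisymm hle hle')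
    have ha2 : a ∈ p ⊔ A * A := he ▸ Ideal.mem_sup_right (Ideal.mem_span_singleton_self a)
    rw [hA, Ideal.span_singleton_mul_span_singleton] at ha2
    obtain ⟨y, hy, z, hz, hyz⟩ := Submodule.mem_sup.mp ha2
    obtain ⟨r, rfl⟩ := Ideal.mem_span_singleton'.mp hz
    have hprod : a * (1 - r * a) ∈ p := by
      have : a * (1 - r * a) = y := by linear_combination -hyz
      rwa [this]
    have h1 := hpJ ((hp.mem_or_mem hprod).resolve_left hap)
    simpa using J.add_mem h1 (J.mul_mem_left r haJ)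
  -- all nonzero ideals are invertible
  let K := FractionRing R
  have hprodunit : ∀ s : Multiset (Ideal R),
      IsUnit (s.prod : FractionalIdeal (nonZeroDivisors R) K) ↔
        ∀ q ∈ s, IsUnit (q : FractionalIdeal (nonZeroDivisors R) K) := by
    intro s
    induction s using Multiset.induction with
    | empty => simp
    | cons q s ih => simp [FractionalIdeal.coeIdeal_mul, ih]
  have hunit : ∀ I : Ideal R, I ≠ ⊥ → IsUnit (I : FractionalIdeal (nonZeroDivisors R) K) := by
    intro I hI
    obtain ⟨s, ⟨hs, rfl⟩, -⟩ := h I hI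
    refine (hprodunit s).mpr fun P hP ↦ ?_
    obtain ⟨hPp, hP0⟩ := hs P hP
    obtain ⟨a, haP, ha0⟩ := Submodule.exists_mem_ne_zero_of_ne_bot hP0
    obtain ⟨t, ⟨ht, htprod⟩, -⟩ := h (Ideal.span {a}) (by simpa using ha0)
    have hu : IsUnit (t.prod : FractionalIdeal (nonZeroDivisors R) K) := by
      rw [htprod, FractionalIdeal.coeIdeal_span_singleton]
      refine IsUnit.of_mul_eq_one (FractionalIdeal.spanSingleton _ (algebraMap R K a)⁻¹) ?_
      rw [FractionalIdeal.spanSingleton_mul_spanSingleton, mul_inv_cancel₀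
        (IsFractionRing.to_map_ne_zero_of_mem_nonZeroDivisors (mem_nonZeroDivisors_of_ne_zero ha0)),
        FractionalIdeal.spanSingleton_one]
    obtain ⟨q, hq, hqP⟩ := (Ideal.IsPrime.multiset_prod_le hPp).mp
      (htprod ▸ (Ideal.span_singleton_le_iff_mem (I := P)).mpr haP : t.prod ≤ P)
    have := hmax q (ht q hq).1 (ht q hq).2
    rw [← Ideal.IsMaximal.eq_of_le this hPp.ne_top hqP]
    exact (hprodunit t).mp hu q hq
  rw [isDedekindDomain_iff_mul_inv_cancel (K := K)]
  intro I hI
  obtain ⟨a, J, ha, rfl⟩ := FractionalIdeal.exists_eq_spanSingleton_mul I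
  rw [FractionalIdeal.mul_inv_cancel_iff_isUnit]
  refine IsUnit.mul ?_ (hunit J fun hJ ↦ hI (by simp [hJ]))
  refine IsUnit.of_mul_eq_one (FractionalIdeal.spanSingleton _ (algebraMap R K a)) ?_
  rw [FractionalIdeal.spanSingleton_mul_spanSingleton, inv_mul_cancel₀
    (IsFractionRing.to_map_ne_zero_of_mem_nonZeroDivisors (mem_nonZeroDivisors_of_ne_zero ha)),
    FractionalIdeal.spanSingleton_one]

end Groth.Agent.S6369
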