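import Groth.Statements.S6370
import Groth.Agent.Lib.CAlgMisc.KrullAkizuki
import Mathlib.RingTheory.DedekindDomain.Basic
import Mathlib.RingTheory.Spectrum.Prime.Topology
import Mathlib.RingTheory.IntegralClosure.IntegrallyClosed
import Mathlib.RingTheory.DedekindDomain.IntegralClosure
-- import your own Groth.Agent.* helpers here

set_option autoImplicit false
universe u
open CAlg

namespace Groth.Agent.S6370

/-- For a one-dimensional Noetherian domain A with fraction field K, a finite field extension L of K
(separable or not) and B the integral closure of A in L: B is a Dedekind domain, Spec B → Spec A is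
surjective and has finite fibres, and at every maximal ideal Q of B the residue field B/Q is finite
over A/(Q ∩ A). -/
theorem result (A K L B : Type u) [CommRing A] [IsDomain A]
    [IsNoetherianRing A] (hdim : ringKrullDim A = 1) [Field K] [Algebra A K] [IsFractionRing A K]
    [Field L] [Algebra K L] [FiniteDimensional K L] [Algebra A L] [IsScalarTower A K L]
    [CommRing B] [IsDomain B] [Algebra A B] [Algebra B L] [IsScalarTower A B L] [IsIntegralClosure B A L] :
    IsDedekindDomain B ∧ Function.Surjective (PrimeSpectrum.comap (algebraMap A B)) ∧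
      (∀ p : PrimeSpectrum A, (PrimeSpectrum.comap (algebraMap A B) ⁻¹' {p}).Finite) ∧
      ∀ Q : Ideal B, Q.IsMaximal → Module.Finite (A ⧸ Q.comap (algebraMap A B)) (B ⧸ Q) := by
  have : Ring.DimensionLEOne A := ⟨fun {p} hp hp' =>
    Ring.krullDimLE_one_iff_of_noZeroDivisors.mp (Ring.krullDimLE_iff.mpr (by simp [hdim])) p hp hp'⟩
  have hBL : Function.Injective (algebraMap B L) := IsIntegralClosure.algebraMap_injective B A L
  have : IsNoetherianRing B := GrothLib.KrullAkizuki.isNoetherianRing_of_between A K hBL
  have : Algebra.IsIntegral A B := IsIntegralClosure.isIntegral_algebra A L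
  have hAB : Function.Injective (algebraMap A B) := by
    have h : Function.Injective (algebraMap A L) := by
      rw [IsScalarTower.algebraMap_eq A K L]
      exact (algebraMap K L).injective.comp (IsFractionRing.injective A K)
    rw [IsScalarTower.algebraMap_eq A B L, RingHom.coe_comp] at h
    exact h.of_comp
  have : FaithfulSMul A B := (faithfulSMul_iff_algebraMap_injective A B).mpr hAB
  have : Ring.DimensionLEOne B := Ring.DimensionLEOne.of_isIntegral A B
  have : IsFractionRing B L := IsIntegralClosure.isFractionRing_of_finite_extension A K L B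
  have hic : ∀ {x : L}, IsIntegral B x → ∃ y, algebraMap B L y = x := fun {x} hx =>
      ⟨IsIntegralClosure.mk' B x (isIntegral_trans (R := A) x hx), IsIntegralClosure.algebraMap_mk' B x _⟩
  refine ⟨(isDedekindDomain_iff B L).mpr ⟨inferInstance, inferInstance, inferInstance, hic⟩,
    ?_, fun p => ?_, fun Q hQ => ?_⟩
  · exact Algebra.IsIntegral.comap_surjective A B
  · rcases eq_or_ne p.asIdeal ⊥ with hp | hp
    · refine Set.Finite.subset (Set.finite_singleton (⟨⊥, Ideal.isPrime_bot⟩ : PrimeSpectrum B)) ?_
      intro q hq
      refine PrimeSpectrum.ext (Ideal.eq_bot_of_comap_eq_bot (R := A) ?_)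
      rw [← hp]
      exact congrArg PrimeSpectrum.asIdeal hq
    · refine Set.Finite.subset (((p.asIdeal.map (algebraMap A B)).finite_minimalPrimes_of_isNoetherianRing
        B).preimage (f := PrimeSpectrum.asIdeal) (fun _ _ _ _ h => PrimeSpectrum.ext h)) ?_
      intro q hq
      have hq' : q.asIdeal.comap (algebraMap A B) = p.asIdeal := congrArg PrimeSpectrum.asIdeal hq
      obtain ⟨m, hm, hmq⟩ := Ideal.exists_minimalPrimes_le (Ideal.map_le_iff_le_comap.mpr hq'.ge)
      have hm0 : m ≠ ⊥ := fun h0 => hp ((Ideal.map_eq_bot_iff_of_injective hAB).mp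
        (le_bot_iff.mp (h0 ▸ hm.1.2)))
      rw [Set.mem_preimage, ← (hm.1.1.isMaximal hm0).eq_of_le q.isPrime.ne_top hmq]
      exact hm
  · have hne : Q ≠ ⊥ := by
      intro h
      have hb : (⊥ : Ideal A).IsMaximal := by
        have := Ideal.isMaximal_comap_of_isIntegral_of_isMaximal (R := A) Q
        rwa [h, ← RingHom.ker_eq_comap_bot, (RingHom.injective_iff_ker_eq_bot _).mp hAB] at this
      have := ringKrullDim_eq_zero_of_isField (Ring.isField_iff_maximal_bot.mpr hb)
      simp [hdim] at this
    have := GrothLib.KrullAkizuki.finite_quotient (R := A) K hBL hne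
    exact Module.Finite.of_restrictScalars_finite A _ _

end Groth.Agent.S6370
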