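import Groth.Statements.S6371
import Mathlib
-- import your own Groth.Agent.* helpers here

set_option autoImplicit false
universe u
open CAlg

namespace Groth.Agent.S6371

open scoped TensorProduct

/-- A ring map R → S is an epimorphism of rings if and only if for every prime p of R the localized map
R_p → S_p is an epimorphism, where S_p is S localized at the image of R ∖ p. -/
theorem result (R S : Type u) [CommRing R] [CommRing S] [Algebra R S] :
    Algebra.IsEpi R S ↔ ∀ (p : Ideal R) [p.IsPrime],
      Algebra.IsEpi (Localization.AtPrime p) (Localization (Algebra.algebraMapSubmonoid S p.primeCompl)) := by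
  classical
  constructor
  · intro hR p _
    let Sp := Localization (Algebra.algebraMapSubmonoid S p.primeCompl)
    rw [Algebra.isEpi_iff_forall_one_tmul_eq]
    intro x
    let j : S →ₗ[R] Sp := (IsScalarTower.toAlgHom R S Sp).toLinearMap
    obtain ⟨⟨s, t⟩, hst⟩ := IsLocalizedModule.surj p.primeCompl j x
    let g : S ⊗[R] S →ₗ[R] Sp ⊗[Localization.AtPrime p] Sp :=
      TensorProduct.lift (((TensorProduct.mk (Localization.AtPrime p) Sp Sp).restrictScalars₁₂ R R).compl₁₂ j j)
    have h1 : (1 : Sp) ⊗ₜ[Localization.AtPrime p] j s = j s ⊗ₜ[Localization.AtPrime p] 1 := by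
      have := congrArg g ((Algebra.isEpi_iff_forall_one_tmul_eq R S).1 hR s)
      simp only [g, TensorProduct.lift.tmul] at this
      have hj1 : j 1 = 1 := map_one (algebraMap S Sp)
      simp only [LinearMap.compl₁₂_apply, LinearMap.restrictScalars₁₂_apply_apply, TensorProduct.mk_apply, hj1] at this
      exact this
    have h2 : algebraMap R (Localization.AtPrime p) t • x = j s := by
      rw [algebraMap_smul]; exact hst
    rw [← h2, TensorProduct.tmul_smul, ← TensorProduct.smul_tmul'] at h1
    exact (IsLocalization.map_units (Localization.AtPrime p) t).smul_left_cancel.mp h1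
  · intro H
    rw [Algebra.isEpi_iff_forall_one_tmul_eq]
    intro s
    rw [← sub_eq_zero]
    by_contra hne
    let z : S ⊗[R] S := (1 : S) ⊗ₜ[R] s - s ⊗ₜ[R] 1
    let J : Ideal R := Module.annihilator R (Submodule.span R {z})
    have hJ : ∀ r, r ∈ J ↔ r • z = 0 := fun r => by
      exact Submodule.mem_annihilator_span_singleton z r
    have hJ1 : J ≠ ⊤ := by
      intro h
      apply hne
      have := (hJ 1).mp (h ▸ trivial)
      rwa [one_smul] at this
    obtain ⟨p, hp, hJp⟩ := Ideal.exists_le_maximal J hJ1
    haveI := hp
    let Sp := Localization (Algebra.algebraMapSubmonoid S p.primeCompl)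
    let j : S →ₗ[R] Sp := (IsScalarTower.toAlgHom R S Sp).toLinearMap
    haveI : IsLocalizedModule p.primeCompl (TensorProduct.map j j) := inferInstance
    have h1 : TensorProduct.map j j z = 0 := by
      apply (IsLocalization.moduleTensorEquiv p.primeCompl (Localization.AtPrime p) Sp Sp).symm.injective
      rw [map_zero, map_sub, map_sub, TensorProduct.map_tmul, TensorProduct.map_tmul, sub_eq_zero]
      have hj1 : j 1 = 1 := map_one (algebraMap S Sp)
      rw [hj1]
      exact (Algebra.isEpi_iff_forall_one_tmul_eq _ _).1 (H p) (j s)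
    obtain ⟨t, ht⟩ := (IsLocalizedModule.eq_zero_iff p.primeCompl (TensorProduct.map j j)).mp h1
    exact t.2 (hJp ((hJ t).mpr ht))

end Groth.Agent.S6371
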