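import Groth.Statements.S6372
import Mathlib.Algebra.Algebra.Epi
import Mathlib.RingTheory.Flat.FaithfullyFlat.Algebra

set_option autoImplicit false
universe u
open CAlg

namespace Groth.Agent.S6372

/-- A faithfully flat epimorphism of rings is an isomorphism: if R → S is faithfully flat and an
epimorphism in the category of rings then it is bijective. -/
theorem result (R S : Type u) [CommRing R] [CommRing S] [Algebra R S]
    [Module.FaithfullyFlat R S] [Algebra.IsEpi R S] : Function.Bijective (algebraMap R S) := by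
  refine ⟨FaithfulSMul.algebraMap_injective R S, ?_⟩
  show Function.Surjective (Algebra.linearMap R S)
  rw [← Module.FaithfullyFlat.lTensor_surjective_iff_surjective R S]
  intro z
  induction z using TensorProduct.induction_on with
  | zero => exact ⟨0, map_zero _⟩
  | add a b ha hb =>
    obtain ⟨x, rfl⟩ := ha
    obtain ⟨y, rfl⟩ := hb
    exact ⟨x + y, map_add _ _ _⟩
  | tmul a b =>
    refine ⟨(a * b) ⊗ₜ 1, ?_⟩
    rw [LinearMap.lTensor_tmul, Algebra.linearMap_apply, map_one]
    calc (a * b) ⊗ₜ[R] (1 : S) = (a ⊗ₜ[R] (1 : S)) * (b ⊗ₜ[R] (1 : S)) := by simp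
      _ = (a ⊗ₜ[R] (1 : S)) * ((1 : S) ⊗ₜ[R] b) := by rw [Algebra.tmul_comm R b 1]
      _ = a ⊗ₜ[R] b := by simp

end Groth.Agent.S6372
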