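import Groth.Statements.S6374
import Mathlib
-- import your own Groth.Agent.* helpers here

set_option autoImplicit false
universe u
open CAlg

namespace Groth.Agent.S6374

/-- For an epimorphism of rings R → S, the induced map Spec S → Spec R is injective and induces trivial
residue field extensions; stated in the form the proof gives: for every prime p of R the fibre ring
S ⊗_R κ(p) is either zero or κ(p) → S ⊗_R κ(p) is bijective, together with injectivity of Spec S →
Spec R. -/
theorem result (R S : Type u) [CommRing R] [CommRing S] [Algebra R S]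
    [Algebra.IsEpi R S] :
    Function.Injective (PrimeSpectrum.comap (algebraMap R S)) ∧
      ∀ (p : Ideal R) [p.IsPrime],
        Subsingleton (p.Fiber S) ∨ Function.Bijective (algebraMap p.ResidueField (p.Fiber S)) := by
  have hfield : ∀ (p : Ideal R) [p.IsPrime],
      Subsingleton (p.Fiber S) ∨ Function.Bijective (algebraMap p.ResidueField (p.Fiber S)) := by
    intro p _
    rcases subsingleton_or_nontrivial (p.Fiber S) with h | h
    · exact Or.inl h
    refine Or.inr ⟨(algebraMap p.ResidueField (p.Fiber S)).injective, fun b => ?_⟩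
    let K := p.ResidueField
    let B := p.Fiber S
    have hcomm : ∀ x : B, (1 : B) ⊗ₜ[K] x = x ⊗ₜ[K] 1 := by
      intro x
      induction x using TensorProduct.induction_on with
      | zero => simp
      | add x y hx hy => rw [TensorProduct.tmul_add, TensorProduct.add_tmul, hx, hy]
      | tmul k s =>
        let g : S →ₗ[R] B := (Algebra.TensorProduct.includeRight : S →ₐ[R] B).toLinearMap
        have hs : g 1 ⊗ₜ[K] g s = g s ⊗ₜ[K] g 1 := by
          have h1 := congrArg
            (TensorProduct.lift (((TensorProduct.mk K B B).restrictScalars₁₂ R R).compl₁₂ g g))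
            ((Algebra.isEpi_iff_forall_one_tmul_eq R S).1 inferInstance s)
          exact h1
        have hg1 : g 1 = 1 := map_one (Algebra.TensorProduct.includeRight : S →ₐ[R] B)
        have hks : (k ⊗ₜ[R] s : B) = k • g s := by
          show k ⊗ₜ[R] s = k • ((1 : K) ⊗ₜ[R] s)
          rw [TensorProduct.smul_tmul', smul_eq_mul, mul_one]
        rw [hg1] at hs
        rw [hks, TensorProduct.tmul_smul, hs, TensorProduct.smul_tmul']
    let Q := B ⧸ LinearMap.range (Algebra.linearMap K B)
    let q : B →ₗ[K] Q := (LinearMap.range (Algebra.linearMap K B)).mkQ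
    have hq1 : q 1 = 0 := (Submodule.Quotient.mk_eq_zero _).2 ⟨1, map_one (algebraMap K B)⟩
    have hb : (1 : B) ⊗ₜ[K] q b = 0 := by
      have := congrArg (q.lTensor B) (hcomm b)
      rwa [LinearMap.lTensor_tmul, LinearMap.lTensor_tmul, hq1, TensorProduct.tmul_zero] at this
    have hinj : Function.Injective ((Algebra.linearMap K B).rTensor Q) :=
      Module.Flat.rTensor_preserves_injective_linearMap _ (algebraMap K B).injective
    have h0 : (1 : K) ⊗ₜ[K] q b = 0 := by
      apply hinj
      rw [LinearMap.rTensor_tmul, map_zero, Algebra.linearMap_apply, map_one]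
      exact hb
    have : q b = 0 := by simpa using congrArg (TensorProduct.lid K Q) h0
    exact (Submodule.Quotient.mk_eq_zero _).1 this
  refine ⟨fun q q' hqq => ?_, hfield⟩
  let p := PrimeSpectrum.comap (algebraMap R S) q
  have hsub : Subsingleton (PrimeSpectrum (p.asIdeal.Fiber S)) := by
    rcases hfield p.asIdeal with h | h
    · exact ⟨fun a => absurd (Subsingleton.elim (1 : p.asIdeal.Fiber S) 0)
        (fun e => a.isPrime.ne_top (Ideal.eq_top_iff_one _ |>.2 (e ▸ a.asIdeal.zero_mem)))⟩
    · exact (PrimeSpectrum.comap_injective_of_surjective _ h.2).subsingleton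
  have : Subsingleton ↥(PrimeSpectrum.comap (algebraMap R S) ⁻¹' {p}) :=
    (PrimeSpectrum.preimageEquivFiber R S p).subsingleton
  exact congrArg Subtype.val (Subsingleton.elim
    (⟨q, rfl⟩ : ↥(PrimeSpectrum.comap (algebraMap R S) ⁻¹' {p})) ⟨q', hqq.symm⟩)

end Groth.Agent.S6374
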