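import Groth.Statements.S6375
import Mathlib.LinearAlgebra.TensorProduct.Basic
import Mathlib.LinearAlgebra.Isomorphisms
import Mathlib.SetTheory.Cardinal.Arithmetic

set_option autoImplicit false
universe u
open CAlg

namespace Groth.Agent.S6375

open scoped TensorProduct
open Finsupp in
lemma witness {R S : Type u} [CommRing R] [CommRing S] [Algebra R S] [Algebra.IsEpi R S] (g : S) :
    ∃ (n m : ℕ) (P : Fin m → Fin n → R) (i₀ i₁ : Fin n) (v : Fin n → S),
      v i₀ = 1 ∧ v i₁ = g ∧ (∀ l, ∑ i, P l i • v i = 0) ∧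
      ∀ w : Fin n → S, w i₀ = 1 → (∀ l, ∑ i, P l i • w i = 0) → w i₁ = g := by
  classical
  let π : (S →₀ R) →ₗ[R] S := Finsupp.linearCombination R id
  let c : (S →₀ R) →ₗ[R] (S →₀ S) := Finsupp.mapRange.linearMap (Algebra.linearMap R S)
  let W : Submodule S (S →₀ S) := Submodule.span S (c '' (LinearMap.ker π : Set (S →₀ R)))
  let h : (S →₀ R) →ₗ[R] (S →₀ S) ⧸ W := (W.mkQ.restrictScalars R) ∘ₗ c
  have hπ : LinearMap.range π = ⊤ := LinearMap.range_eq_top.mpr fun s ↦ ⟨single s 1, by simp [π]⟩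
  have hk : LinearMap.ker π ≤ LinearMap.ker h := fun k hk ↦ by
    simpa [h] using (Submodule.Quotient.mk_eq_zero W).mpr (Submodule.subset_span ⟨k, hk, rfl⟩)
  let hbar : S →ₗ[R] (S →₀ S) ⧸ W :=
    (Submodule.liftQ _ h hk) ∘ₗ (π.quotKerEquivOfSurjective (LinearMap.range_eq_top.mp hπ)).symm.toLinearMap
  have hbar_apply : ∀ s : S, hbar s = W.mkQ (single s 1) := by
    intro s
    have e : (π.quotKerEquivOfSurjective (LinearMap.range_eq_top.mp hπ)).symm s
        = Submodule.Quotient.mk (single s (1:R)) := by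
      rw [LinearEquiv.symm_apply_eq]; simp [π]
    simp only [hbar, LinearMap.comp_apply, LinearEquiv.coe_toLinearMap, e, Submodule.liftQ_apply, h,
      LinearMap.restrictScalars_apply, c, Finsupp.mapRange.linearMap_apply, Finsupp.mapRange_single]
    simp
  let Ψ : S ⊗[R] S →ₗ[R] (S →₀ S) ⧸ W :=
    TensorProduct.lift (LinearMap.mk₂ R (fun s z ↦ z • hbar s)
      (by intros; simp [smul_add]) (by intros r s z; rw [map_smul, smul_comm])
      (by intros; simp [add_smul]) (by intros; rw [smul_assoc]))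
  have key : W.mkQ (single g 1) = W.mkQ (single 1 g) := by
    have e := congrArg Ψ ((Algebra.isEpi_iff_forall_one_tmul_eq R S).mp inferInstance g)
    simp only [Ψ, TensorProduct.lift.tmul, LinearMap.mk₂_apply, hbar_apply, ← map_smul,
      smul_single, smul_eq_mul, one_mul, mul_one] at e
    exact e.symm
  rw [Submodule.mkQ_apply, Submodule.mkQ_apply, Submodule.Quotient.eq, Submodule.mem_span_set'] at key
  obtain ⟨m, z, k, hkz⟩ := key
  choose k' hk' hck using fun l ↦ (k l).2
  let D : Finset S := insert 1 (insert g (Finset.univ.biUnion fun l ↦ (k' l).support))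
  let e := D.equivFin
  refine ⟨D.card, m, fun l i ↦ k' l (e.symm i).1, e ⟨1, by simp [D]⟩, e ⟨g, by simp [D]⟩,
    fun i ↦ (e.symm i).1, by simp, by simp, fun l ↦ ?_, fun w hw1 hw ↦ ?_⟩
  · rw [e.symm.sum_comp (fun d : D ↦ k' l d.1 • d.1), D.sum_coe_sort (fun d ↦ k' l d • d)]
    have h0 : π (k' l) = 0 := hk' l
    rw [Finsupp.linearCombination_apply, Finsupp.sum] at h0
    rw [← h0]
    refine (Finset.sum_subset (fun x hx ↦ ?_) fun x _ hx ↦ ?_).symm
    · exact Finset.mem_insert_of_mem (Finset.mem_insert_of_mem (Finset.mem_biUnion.mpr ⟨l, Finset.mem_univ l, hx⟩))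
    · simp [Finsupp.notMem_support_iff.mp hx]
  · let w' : S → S := fun s ↦ if hs : s ∈ D then w (e ⟨s, hs⟩) else 0
    let L : (S →₀ S) →ₗ[S] S := Finsupp.linearCombination S w'
    have hL := congrArg L hkz
    have hk0 : ∀ l, L (k l).1 = 0 := by
      intro l
      rw [← hck l, ← hw l]
      simp only [L, c, Finsupp.mapRange.linearMap_apply, Finsupp.linearCombination_apply]
      rw [Finsupp.sum_mapRange_index (by simp)]
      rw [Finsupp.sum, ← e.sum_comp (fun i ↦ k' l (e.symm i).1 • w i)]
      simp only [Equiv.symm_apply_apply]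
      have hw' : ∀ d : D, w (e d) = w' d.1 := fun d ↦ by simp [w', d.2]
      simp only [hw']
      rw [D.sum_coe_sort (fun d ↦ k' l d • w' d)]
      simp only [Algebra.linearMap_apply, smul_eq_mul, ← Algebra.smul_def]
      refine Finset.sum_subset (fun x hx ↦ ?_) fun x _ hx ↦ ?_
      · exact Finset.mem_insert_of_mem (Finset.mem_insert_of_mem (Finset.mem_biUnion.mpr ⟨l, Finset.mem_univ l, hx⟩))
      · simp [Finsupp.notMem_support_iff.mp hx]
    simp only [map_sum, map_smul, hk0, smul_zero, mul_zero, Finset.sum_const_zero, map_sub, L,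
      Finsupp.linearCombination_single, smul_eq_mul, one_mul] at hL
    have h1 : w' 1 = 1 := by simp [w', D, hw1]
    have h2 : w' g = w (e ⟨g, by simp [D]⟩) := by simp [w', D]
    rw [h1, h2, mul_one] at hL
    exact sub_eq_zero.mp hL.symm

/-- For an infinite source ring: if R → S is an epimorphism of rings with R infinite, then |S| ≤ |R| as
cardinals. (For finite R the published statement also asserts |S| ≤ |R|, but its proof only gives
that S is countable and omits the rest, so that case is not included.) -/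
theorem result (R S : Type u) [CommRing R] [CommRing S] [Algebra R S] [Algebra.IsEpi R S]
    [Infinite R] : Cardinal.mk S ≤ Cardinal.mk R := by
  classical
  choose n m P i₀ i₁ v hv0 hv1 hv hu using fun g : S ↦ witness (R := R) g
  let T : Type u := Σ (nm : ℕ × ℕ), (Fin nm.2 → Fin nm.1 → R) × Fin nm.1 × Fin nm.1
  let F : S → T := fun g ↦ ⟨(n g, m g), P g, i₀ g, i₁ g⟩
  have hF : Function.Injective F := by
    intro g g' he
    have : ∀ t : T, (∃ a, F a = t) → ∀ (w : Fin t.1.1 → S), w t.2.2.1 = 1 →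
        (∀ l, ∑ i, t.2.1 l i • w i = 0) → ∀ a, F a = t → w t.2.2.2 = a := by
      rintro t - w hw1 hw a rfl
      exact hu a w hw1 hw
    have h1 := this (F g) ⟨g, rfl⟩ (v g) (hv0 g) (hv g) g' he.symm
    exact (hv1 g).symm.trans h1
  refine (Cardinal.mk_le_of_injective hF).trans ?_
  have hR : Cardinal.aleph0 ≤ Cardinal.mk R := Cardinal.aleph0_le_mk R
  rw [Cardinal.mk_sigma]
  refine (Cardinal.sum_le_sum _ (fun _ ↦ Cardinal.mk R) fun nm ↦ ?_).trans ?_
  · rw [Cardinal.mk_prod]
    refine (mul_le_mul' ?_ ?_).trans (Cardinal.mul_eq_self hR).le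
    · rw [← Cardinal.mk_congr (Equiv.curry _ _ _)]
      rw [Cardinal.mk_arrow]
      simpa [← Nat.cast_mul, Cardinal.power_natCast] using Cardinal.power_nat_le (n := nm.2 * nm.1) hR
    · exact (Cardinal.lift_lt_aleph0.mpr Cardinal.mk_lt_aleph0).le.trans hR
  · rw [Cardinal.sum_const]
    simpa using (Cardinal.mul_eq_self hR).le.trans' (mul_le_mul' hR le_rfl)

end Groth.Agent.S6375
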