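import Groth.Statements.S6377
import Groth.Agent.Lib.TorBal22.Basic
import Groth.Agent.Lib.FlatFP.TorShift
import Groth.Agent.Lib.FlatCx.FlatSES
import Groth.Agent.Lib.FibreFlat.Quotient
import Mathlib.LinearAlgebra.DirectSum.Finsupp
import Mathlib.RingTheory.Flat.Localization
import Mathlib.Algebra.Module.Torsion.Basic
import Mathlib.RingTheory.Ideal.Operations


set_option autoImplicit false
universe u
open CategoryTheory
open scoped TensorProduct
open CAlg

namespace Groth.Agent.S6377

open TensorProduct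

/-- A flat resolution, elementwise. -/
structure Res (A : Type u) [CommRing A] (M : Type u) [AddCommGroup M] [Module A M] where
  P : ℕ → Type u
  [grp : ∀ i, AddCommGroup (P i)]
  [mdl : ∀ i, Module A (P i)]
  flat : ∀ i, Module.Flat A (P i)
  d : ∀ i, P (i + 1) →ₗ[A] P i
  ε : P 0 →ₗ[A] M
  dd : ∀ i x, d i (d (i + 1) x) = 0
  dε : ∀ x, ε (d 0 x) = 0
  ex₀ : ∀ x, ε x = 0 → ∃ y, d 0 y = x
  ex : ∀ i x, d i x = 0 → ∃ y, d (i + 1) y = x
  surj : Function.Surjective ε

attribute [instance] Res.grp Res.mdl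

variable {A : Type u} [CommRing A] {M : Type u} [AddCommGroup M] [Module A M]

/-- `Tor_{i+1}(M, N) = 0`, elementwise. -/
def Res.Z (D : Res A M) (N : Type u) [AddCommGroup N] [Module A N] (i : ℕ) : Prop :=
  ∀ x : D.P (i + 1) ⊗[A] N, (D.d i).rTensor N x = 0 → ∃ y, (D.d (i + 1)).rTensor N y = x

theorem comm_maps {X Y N N' : Type u} [AddCommGroup X] [Module A X] [AddCommGroup Y] [Module A Y] [AddCommGroup N]
    [Module A N] [AddCommGroup N'] [Module A N'] (d : X →ₗ[A] Y) (f : N →ₗ[A] N') (x : X ⊗[A] N) :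
    d.rTensor N' (f.lTensor X x) = f.lTensor Y (d.rTensor N x) := by
  rw [← LinearMap.comp_apply, ← LinearMap.comp_apply, LinearMap.rTensor_comp_lTensor,
    LinearMap.lTensor_comp_rTensor]

theorem pure_of_ker {S : Type u} [CommRing S] {C R : Type u} [AddCommGroup C] [Module S C] [AddCommGroup R] [Module S R]
    [Module.Flat S C] [Module.Flat S R] (f : C →ₗ[S] R) (hf : Function.Surjective f) (p : Submodule S C)
    (hp : p = LinearMap.ker f) (L : Type u) [AddCommGroup L] [Module S L] :
    Module.Flat S p ∧ Function.Injective (p.subtype.rTensor L) := by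
  subst hp
  exact ⟨GrothLib.FlatCx.flat_of_exact_left (g := (LinearMap.ker f).subtype) (f := f) Subtype.val_injective hf
      (LinearMap.exact_subtype_ker_map f),
    GrothLib.FlatCx.rTensor_injective_of_flat (K := ↥(LinearMap.ker f)) (g := (LinearMap.ker f).subtype) (f := f)
      Subtype.val_injective hf (LinearMap.exact_subtype_ker_map f) L⟩

section Cancel

variable {S : Type u} [CommRing S] [Algebra A S] (X : Type u) [AddCommGroup X] [Module A X]
  (L : Type u) [AddCommGroup L] [Module A L] [Module S L] [IsScalarTower A S L]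

/-- `(S ⊗ X) ⊗_S L ≅ X ⊗ L`. -/
noncomputable def cancel : (S ⊗[A] X) ⊗[S] L ≃ₗ[A] X ⊗[A] L :=
  (((TensorProduct.comm S (S ⊗[A] X) L).trans (AlgebraTensorModule.cancelBaseChange A S S L X)).restrictScalars A).trans
    (TensorProduct.comm A L X)

theorem cancel_tmul (s : S) (x : X) (l : L) : cancel X L ((s ⊗ₜ[A] x) ⊗ₜ[S] l) = x ⊗ₜ[A] (s • l) := by
  simp [cancel]

variable {X}

theorem cancel_nat {Y : Type u} [AddCommGroup Y] [Module A Y] (d : X →ₗ[A] Y) (z : (S ⊗[A] X) ⊗[S] L) :
    cancel Y L ((d.baseChange S).rTensor L z) = d.rTensor L (cancel X L z) := by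
  induction z using TensorProduct.induction_on with
  | zero => simp
  | add a b ha hb => simp only [map_add, ha, hb]
  | tmul t l =>
    induction t using TensorProduct.induction_on with
    | zero => simp
    | add a b ha hb => simp only [TensorProduct.add_tmul, map_add, ha, hb]
    | tmul s x =>
      rw [LinearMap.rTensor_tmul, LinearMap.baseChange_tmul, cancel_tmul, cancel_tmul, LinearMap.rTensor_tmul]

end Cancel

namespace Res

variable (D : Res A M)

instance (i : ℕ) : Module.Flat A (D.P i) := D.flat i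

section SES

variable {K B Q : Type u} [AddCommGroup K] [Module A K] [AddCommGroup B] [Module A B] [AddCommGroup Q]
  [Module A Q] {f : K →ₗ[A] B} {g : B →ₗ[A] Q}

theorem inj_lT (hf : Function.Injective f) (i : ℕ) : Function.Injective (f.lTensor (D.P i)) :=
  Module.Flat.lTensor_preserves_injective_linearMap f hf

theorem Z_ext (hf : Function.Injective f) (he : Function.Exact f g) (hg : Function.Surjective g) (i : ℕ)
    (hK : D.Z K i) (hQ : D.Z Q i) : D.Z B i := by
  intro x hx
  obtain ⟨q, hq⟩ := hQ (g.lTensor _ x) (by rw [comm_maps, hx, map_zero])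
  obtain ⟨y, rfl⟩ := LinearMap.lTensor_surjective _ hg q
  obtain ⟨a, ha⟩ := (lTensor_exact (D.P (i + 1)) he hg (x - (D.d (i + 1)).rTensor B y)).1
    (by rw [map_sub, ← comm_maps, hq, sub_self])
  obtain ⟨a', ha'⟩ := hK a (D.inj_lT hf i (by
    rw [← comm_maps, ha, map_sub, hx, ← LinearMap.rTensor_comp_apply,
      show D.d i ∘ₗ D.d (i + 1) = 0 from LinearMap.ext (D.dd i)]
    simp))
  exact ⟨y + f.lTensor _ a', by rw [map_add, comm_maps, ha', ha, add_sub_cancel]⟩

theorem Z_sub (hf : Function.Injective f) (he : Function.Exact f g) (hg : Function.Surjective g) (i : ℕ)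
    (hB : D.Z B i) (hQ : D.Z Q (i + 1)) : D.Z K i := by
  intro a ha
  obtain ⟨y, hy⟩ := hB (f.lTensor _ a) (by rw [comm_maps, ha, map_zero])
  obtain ⟨q, hq⟩ := hQ (g.lTensor _ y) (by
    rw [comm_maps, hy]; exact (lTensor_exact (D.P (i + 1)) he hg).apply_apply_eq_zero a)
  obtain ⟨y', rfl⟩ := LinearMap.lTensor_surjective _ hg q
  obtain ⟨a', ha'⟩ := (lTensor_exact (D.P (i + 2)) he hg (y - (D.d (i + 2)).rTensor B y')).1
    (by rw [map_sub, ← comm_maps, hq, sub_self])
  refine ⟨a', D.inj_lT hf (i + 1) ?_⟩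
  rw [← comm_maps, ha', map_sub, hy, ← LinearMap.rTensor_comp_apply,
    show D.d (i + 1) ∘ₗ D.d (i + 2) = 0 from LinearMap.ext (D.dd (i + 1))]
  simp

theorem Z_quot (hf : Function.Injective f) (he : Function.Exact f g) (hg : Function.Surjective g) (i : ℕ)
    (hB : D.Z B (i + 1)) (hK : D.Z K i) : D.Z Q (i + 1) := by
  intro q hq
  obtain ⟨y, rfl⟩ := LinearMap.lTensor_surjective _ hg q
  obtain ⟨a, ha⟩ := (lTensor_exact (D.P (i + 1)) he hg ((D.d (i + 1)).rTensor B y)).1 (by rw [← comm_maps, hq])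
  obtain ⟨a', ha'⟩ := hK a (D.inj_lT hf i (by
    rw [← comm_maps, ha, ← LinearMap.rTensor_comp_apply,
      show D.d i ∘ₗ D.d (i + 1) = 0 from LinearMap.ext (D.dd i)]
    simp))
  obtain ⟨y', hy'⟩ := hB (y - f.lTensor _ a') (by rw [map_sub, comm_maps, ha', ha, sub_self])
  refine ⟨g.lTensor _ y', ?_⟩
  rw [comm_maps, hy', map_sub, (lTensor_exact (D.P (i + 2)) he hg).apply_apply_eq_zero, sub_zero]

theorem Z_quot_zero (he : Function.Exact f g) (hg : Function.Surjective g) (hB : D.Z B 0)
    (hM : Function.Injective (f.lTensor M)) : D.Z Q 0 := by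
  intro q hq
  obtain ⟨y, rfl⟩ := LinearMap.lTensor_surjective _ hg q
  obtain ⟨a, ha⟩ := (lTensor_exact (D.P 0) he hg ((D.d 0).rTensor B y)).1 (by rw [← comm_maps, hq])
  obtain ⟨a', ha'⟩ := (rTensor_exact K (f := D.d 0) (g := D.ε)
    (fun x => ⟨D.ex₀ x, fun ⟨z, hz⟩ => hz ▸ D.dε z⟩) D.surj a).1 (hM (by
      rw [← comm_maps, ha, ← LinearMap.rTensor_comp_apply,
        show D.ε ∘ₗ D.d 0 = 0 from LinearMap.ext D.dε]
      simp))
  obtain ⟨y', hy'⟩ := hB (y - f.lTensor _ a') (by rw [map_sub, comm_maps, ha', ha, sub_self])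
  refine ⟨g.lTensor _ y', ?_⟩
  rw [comm_maps, hy', map_sub, (lTensor_exact (D.P 1) he hg).apply_apply_eq_zero, sub_zero]

end SES

theorem Z_finsupp {N : Type u} [AddCommGroup N] [Module A N] (ι : Type u) (i : ℕ) (h : D.Z N i) :
    D.Z (ι →₀ N) i := by
  classical
  intro x hx
  have hc : ∀ j, (D.d i).rTensor N ((Finsupp.lapply j : (ι →₀ N) →ₗ[A] N).lTensor _ x) = 0 := fun j => by
    rw [comm_maps, hx, map_zero]
  choose y hy using fun j => h _ (hc j)
  let e := TensorProduct.finsuppRight A A (D.P (i + 1)) N ι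
  refine ⟨∑ j ∈ (e x).support, (Finsupp.lsingle j : N →ₗ[A] (ι →₀ N)).lTensor _ (y j), ?_⟩
  rw [map_sum]
  simp only [comm_maps, hy]
  apply e.injective
  rw [map_sum]
  conv_rhs => rw [← Finsupp.sum_single (e x)]
  refine Finset.sum_congr rfl fun j _ => ?_
  rw [show (e x) j = (Finsupp.lapply j : (ι →₀ N) →ₗ[A] N).lTensor _ x from
    TensorProduct.finsuppRight_apply x j]
  generalize (Finsupp.lapply j : (ι →₀ N) →ₗ[A] N).lTensor _ x = z
  induction z using TensorProduct.induction_on with
  | zero => simp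
  | tmul p n => simp [e]
  | add a b ha hb => simp only [map_add, ha, hb, Finsupp.single_add]

theorem lTensor_injective_of_killed (I : Ideal A) (h2 : Module.Flat (A ⧸ I) ((A ⧸ I) ⊗[A] M)) {K B : Type u}
    [AddCommGroup K] [Module A K] [AddCommGroup B] [Module A B] (hK : Module.IsTorsionBySet A K I)
    (hB : Module.IsTorsionBySet A B I) (f : K →ₗ[A] B) (hf : Function.Injective f) :
    Function.Injective (f.lTensor M) := by
  let s : M →ₗ[A] (A ⧸ I) ⊗[A] M := TensorProduct.mk A (A ⧸ I) M 1
  have hs : Function.Injective (s.rTensor K) := by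
    letI := hK.module
    haveI : IsScalarTower A (A ⧸ I) K := hK.isScalarTower
    let act : (A ⧸ I) ⊗[A] K →ₗ[A] K :=
      TensorProduct.lift ((LinearMap.lsmul (A ⧸ I) K).restrictScalars₁₂ A A)
    let back : ((A ⧸ I) ⊗[A] M) ⊗[A] K →ₗ[A] M ⊗[A] K :=
      act.lTensor M ∘ₗ (TensorProduct.leftComm A (A ⧸ I) M K).toLinearMap ∘ₗ
        (TensorProduct.assoc A (A ⧸ I) M K).toLinearMap
    refine Function.LeftInverse.injective (g := back) fun z => ?_
    induction z using TensorProduct.induction_on with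
    | zero => simp
    | tmul m k => simp [s, back, act]
    | add a b ha hb => simp only [map_add, ha, hb]
  have h := GrothLib.FibreFlat.lTensor_injective_of_flat_of_torsion (M := (A ⧸ I) ⊗[A] M) I K B f hK hB hf
  intro a b hab
  refine hs (h ?_)
  rw [← comm_maps, ← comm_maps, hab]

theorem killed_zero (I : Ideal A) (h2 : Module.Flat (A ⧸ I) ((A ⧸ I) ⊗[A] M)) {F N : Type u} [AddCommGroup F]
    [Module A F] [AddCommGroup N] [Module A N] (g : F →ₗ[A] N) (hg : Function.Surjective g)
    (hF : Module.IsTorsionBySet A F I) (hZ : D.Z F 0) : D.Z N 0 :=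
  D.Z_quot_zero (K := ↥(LinearMap.ker g)) (f := (LinearMap.ker g).subtype) (LinearMap.exact_subtype_ker_map g) hg hZ
    (lTensor_injective_of_killed I h2 (K := ↥(LinearMap.ker g)) (fun x a => Subtype.ext (@hF x.1 a)) hF
      (LinearMap.ker g).subtype Subtype.val_injective)

theorem killed_succ (I : Ideal A) (i : ℕ) {F N : Type u} [AddCommGroup F] [Module A F] [AddCommGroup N] [Module A N]
    (g : F →ₗ[A] N) (hg : Function.Surjective g) (hF : Module.IsTorsionBySet A F I) (hZ : D.Z F (i + 1))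
    (ih : ∀ (K : Type u) [AddCommGroup K] [Module A K], Module.IsTorsionBySet A K I → D.Z K i) : D.Z N (i + 1) :=
  D.Z_quot (K := ↥(LinearMap.ker g)) (f := (LinearMap.ker g).subtype) Subtype.val_injective
    (LinearMap.exact_subtype_ker_map g) hg i hZ (ih _ fun x a => Subtype.ext (@hF x.1 a))

theorem exists_cover (I : Ideal A) (N : Type u) [AddCommGroup N] [Module A N] (hN : Module.IsTorsionBySet A N I) :
    ∃ g : (N →₀ A ⧸ I) →ₗ[A] N, Function.Surjective g := by
  classical
  let π : ∀ n : N, (A ⧸ I) →ₗ[A] N := fun n =>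
    Submodule.liftQ I (LinearMap.toSpanSingleton A N n) fun a ha => @hN n ⟨a, ha⟩
  refine ⟨Finsupp.lsum A π, fun n => ⟨Finsupp.single n (Submodule.Quotient.mk 1), ?_⟩⟩
  rw [Finsupp.lsum_single]
  exact one_smul A n

theorem finsupp_killed (I : Ideal A) (ι : Type u) : Module.IsTorsionBySet A (ι →₀ A ⧸ I) I := fun x a =>
  Finsupp.ext fun j => by
    obtain ⟨b, hb⟩ := Ideal.Quotient.mk_surjective (x j)
    rw [Finsupp.smul_apply, ← hb, Finsupp.zero_apply]
    exact Ideal.Quotient.eq_zero_iff_mem.2 (I.mul_mem_right b a.2)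

theorem Z_killed (I : Ideal A) (h2 : Module.Flat (A ⧸ I) ((A ⧸ I) ⊗[A] M)) {r : ℕ}
    (hq : ∀ i, i ≤ r → D.Z (A ⧸ I) i) :
    ∀ i, i ≤ r → ∀ (N : Type u) [AddCommGroup N] [Module A N], Module.IsTorsionBySet A N I → D.Z N i := by
  intro i
  induction i with
  | zero =>
    intro h0 N _ _ hN
    obtain ⟨g, hg⟩ := exists_cover I N hN
    exact D.killed_zero I h2 g hg (finsupp_killed I N) (D.Z_finsupp (N := A ⧸ I) N 0 (hq 0 h0))
  | succ i ih =>
    intro hi N _ _ hN
    obtain ⟨g, hg⟩ := exists_cover I N hN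
    exact D.killed_succ I i g hg (finsupp_killed I N) (D.Z_finsupp (N := A ⧸ I) N (i + 1) (hq (i + 1) hi))
      (ih (Nat.le_of_succ_le hi))

theorem Z_pow (I : Ideal A) (i : ℕ)
    (h : ∀ (N : Type u) [AddCommGroup N] [Module A N], Module.IsTorsionBySet A N I → D.Z N i) (n : ℕ) :
    ∀ (N : Type u) [AddCommGroup N] [Module A N], Module.IsTorsionBySet A N (I ^ n : Ideal A) → D.Z N i := by
  induction n with
  | zero =>
    intro N _ _ hN
    exact h N fun x a => by
      have : x = 0 := by simpa using @hN x ⟨1, by simp⟩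
      simp [this]
  | succ n ih =>
    intro N _ _ hN
    let K : Submodule A N := I • ⊤
    refine D.Z_ext (f := K.subtype) (g := K.mkQ) Subtype.val_injective (LinearMap.exact_subtype_mkQ K)
      K.mkQ_surjective i (ih K ?_) (h _ ?_)
    · intro x a
      refine Subtype.ext ?_
      show (a : A) • (x : N) = 0
      refine Submodule.smul_induction_on x.2 (fun b hb m _ => ?_) fun p q hp hq => by rw [smul_add, hp, hq, add_zero]
      rw [← mul_smul]
      exact @hN m ⟨a * b, by rw [pow_succ]; exact Ideal.mul_mem_mul a.2 hb⟩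
    · intro x a
      obtain ⟨m, rfl⟩ := Submodule.Quotient.mk_surjective K x
      show Submodule.Quotient.mk ((a : A) • m) = 0
      exact (Submodule.Quotient.mk_eq_zero K).2 (Submodule.smul_mem_smul a.2 Submodule.mem_top)

theorem Z_union (I : Ideal A) (i : ℕ)
    (h : ∀ (n : ℕ) (N : Type u) [AddCommGroup N] [Module A N], Module.IsTorsionBySet A N (I ^ n : Ideal A) → D.Z N i)
    (N : Type u) [AddCommGroup N] [Module A N] (hN : ∀ x : N, ∃ n, ∀ a ∈ I ^ n, a • x = 0) : D.Z N i := by
  let T : ℕ → Submodule A N := fun n => Submodule.torsionBySet A N (I ^ n : Ideal A)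
  have hmono : Monotone T := fun a b hab x hx =>
    (Submodule.mem_torsionBySet_iff _ _).2 fun z =>
      (Submodule.mem_torsionBySet_iff _ _).1 hx ⟨z, Ideal.pow_le_pow_right hab z.2⟩
  intro x hx
  have hx' : ∃ n, ∃ z, (T n).subtype.lTensor (D.P (i + 1)) z = x := by
    clear hx
    induction x using TensorProduct.induction_on with
    | zero => exact ⟨0, 0, map_zero _⟩
    | tmul p m =>
      obtain ⟨n, hn⟩ := hN m
      exact ⟨n, p ⊗ₜ ⟨m, (Submodule.mem_torsionBySet_iff _ _).2 fun a => hn a a.2⟩, rfl⟩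
    | add a b ha hb =>
      obtain ⟨n, z, rfl⟩ := ha
      obtain ⟨n', z', rfl⟩ := hb
      refine ⟨max n n', (Submodule.inclusion (hmono (le_max_left n n'))).lTensor _ z +
        (Submodule.inclusion (hmono (le_max_right n n'))).lTensor _ z', ?_⟩
      rw [map_add, ← LinearMap.lTensor_comp_apply, ← LinearMap.lTensor_comp_apply]
      rfl
  obtain ⟨n, z, rfl⟩ := hx'
  rw [comm_maps] at hx
  obtain ⟨y, hy⟩ := h n (T n) (Submodule.torsionBySet_isTorsionBySet _) z
    (D.inj_lT Subtype.val_injective i (hx.trans (map_zero _).symm))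
  exact ⟨(T n).subtype.lTensor _ y, by rw [comm_maps, hy]⟩

theorem exact_rTensor_of_flat {S : Type u} [CommRing S] {E : ℕ → Type u} [∀ j, AddCommGroup (E j)] [∀ j, Module S (E j)]
    [∀ j, Module.Flat S (E j)] {M' : Type u} [AddCommGroup M'] [Module S M'] [Module.Flat S M']
    (δ : ∀ j, E (j + 1) →ₗ[S] E j) (η : E 0 →ₗ[S] M') (hη : Function.Exact (δ 0) η) (hηs : Function.Surjective η)
    (hδ : ∀ j, Function.Exact (δ (j + 1)) (δ j)) (L : Type u) [AddCommGroup L] [Module S L] (i : ℕ)
    (z : E (i + 1) ⊗[S] L) (hz : (δ i).rTensor L z = 0) : ∃ y, (δ (i + 1)).rTensor L y = z := by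
  have hker : ∀ j, Module.Flat S (LinearMap.range (δ j)) ∧
      Function.Injective ((LinearMap.range (δ j)).subtype.rTensor L) := by
    intro j
    induction j with
    | zero => exact pure_of_ker η hηs _ hη.linearMap_ker_eq.symm L
    | succ j ih =>
      haveI := ih.1
      exact pure_of_ker (R := ↥(LinearMap.range (δ j))) (δ j).rangeRestrict (δ j).surjective_rangeRestrict _
        (by rw [LinearMap.ker_rangeRestrict, (hδ j).linearMap_ker_eq]) L
  have h1 : (δ i).rangeRestrict.rTensor L z = 0 := by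
    apply (hker i).2
    rw [map_zero, ← LinearMap.rTensor_comp_apply]
    exact hz
  have he2 : Function.Exact (δ (i + 1)) (δ i).rangeRestrict := fun w => by
    rw [← LinearMap.mem_ker, LinearMap.ker_rangeRestrict, LinearMap.mem_ker]
    exact hδ i w
  exact (rTensor_exact L he2 (δ i).surjective_rangeRestrict z).1 h1

theorem Z_localized {S : Type u} [CommRing S] [Algebra A S] [Module.Flat A S] [Module.Flat S (S ⊗[A] M)]
    (L : Type u) [AddCommGroup L] [Module A L] [Module S L] [IsScalarTower A S L] (i : ℕ) : D.Z L i := by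
  intro x hx
  obtain ⟨z, rfl⟩ := (cancel (S := S) (D.P (i + 1)) L).surjective x
  rw [← cancel_nat L (D.d i) z, LinearEquiv.map_eq_zero_iff] at hx
  haveI : ∀ j, Module.Flat S (S ⊗[A] D.P j) := fun j => Module.Flat.baseChange A S (D.P j)
  obtain ⟨y, hy⟩ := exact_rTensor_of_flat (E := fun j => S ⊗[A] D.P j) (fun j => (D.d j).baseChange S)
    (D.ε.baseChange S) (Module.Flat.lTensor_exact S fun x => ⟨D.ex₀ x, fun ⟨w, hw⟩ => hw ▸ D.dε w⟩)
    (LinearMap.lTensor_surjective S D.surj)
    (fun j => Module.Flat.lTensor_exact S fun x => ⟨D.ex j x, fun ⟨w, hw⟩ => hw ▸ D.dd j w⟩) L i z hx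
  exact ⟨cancel (D.P (i + 2)) L y, by rw [← cancel_nat L (D.d (i + 1)) y]; exact congrArg _ hy⟩

theorem Z_induction {r : ℕ} (f : Fin r → A)
    (h1 : ∀ i, Module.Flat (Localization.Away (f i)) (LocalizedModule (Submonoid.powers (f i)) M))
    (h2 : Module.Flat (A ⧸ Ideal.span (Set.range f)) ((A ⧸ Ideal.span (Set.range f)) ⊗[A] M))
    (hq : ∀ i, i ≤ r → D.Z (A ⧸ Ideal.span (Set.range f)) i) :
    ∀ (c k : ℕ), r ≤ k + c → ∀ (N : Type u) [AddCommGroup N] [Module A N],
      (∀ j : Fin r, (j : ℕ) < k → ∀ x : N, ∃ e : ℕ, f j ^ e • x = 0) → ∀ i, i ≤ min k r → D.Z N i := by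
  intro c
  induction c with
  | zero =>
    intro k hk N _ _ hN i hi
    refine D.Z_union _ i (fun n => D.Z_pow _ i (D.Z_killed _ h2 hq i (le_trans hi (min_le_right _ _))) n) N fun x => ?_
    have hrad : Ideal.span (Set.range f) ≤ Ideal.radical (LinearMap.ker (LinearMap.toSpanSingleton A N x)) := by
      rw [Ideal.span_le]
      rintro _ ⟨j, rfl⟩
      obtain ⟨e, he⟩ := hN j (lt_of_lt_of_le j.2 hk) x
      exact ⟨e, he⟩
    obtain ⟨n, hn⟩ := Ideal.exists_pow_le_of_le_radical_of_fg hrad (Submodule.fg_span (Set.finite_range f))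
    exact ⟨n, fun a ha => hn ha⟩
  | succ c ih =>
    intro k hk N _ _ hN i hi
    by_cases hrk : r ≤ k
    · exact ih k (by omega) N hN i hi
    let φ := f ⟨k, not_le.1 hrk⟩
    let S := Submonoid.powers φ
    let T : Submodule A N := Submodule.torsion' A N S
    have hsplit : ∀ j : Fin r, (j : ℕ) < k + 1 → (j : ℕ) < k ∨ f j = φ := fun j hj => by
      rcases Nat.lt_succ_iff_lt_or_eq.1 hj with h | h
      · exact Or.inl h
      · exact Or.inr (congrArg f (Fin.ext h))
    have hT : D.Z T i := by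
      refine ih (k + 1) (by omega) T (fun j hj x => ?_) i (le_trans hi (by omega))
      rcases hsplit j hj with h | h
      · obtain ⟨e, he⟩ := hN j h x.1
        exact ⟨e, Subtype.ext he⟩
      · obtain ⟨⟨_, e, rfl⟩, he⟩ := x.2
        exact ⟨e, Subtype.ext (h ▸ he)⟩
    let N' := N ⧸ T
    let l := LocalizedModule.mkLinearMap S N'
    have hl : Function.Injective l := by
      rw [← LinearMap.ker_eq_bot, Submodule.eq_bot_iff]
      intro x hx
      obtain ⟨n, rfl⟩ := Submodule.Quotient.mk_surjective T x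
      obtain ⟨s, hs⟩ := (IsLocalizedModule.eq_zero_iff S l).1 hx
      rw [Submonoid.smul_def, ← Submodule.Quotient.mk_smul, Submodule.Quotient.mk_eq_zero] at hs
      obtain ⟨t, ht⟩ := hs
      refine (Submodule.Quotient.mk_eq_zero T).2 ⟨t * s, ?_⟩
      rwa [mul_smul]
    have hN' : ∀ j : Fin r, (j : ℕ) < k → ∀ x : N', ∃ e : ℕ, f j ^ e • x = 0 := fun j hj x => by
      obtain ⟨n, rfl⟩ := Submodule.Quotient.mk_surjective T x
      obtain ⟨e, he⟩ := hN j hj n
      exact ⟨e, by rw [← Submodule.Quotient.mk_smul, he, Submodule.Quotient.mk_zero]⟩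
    have hL : D.Z (LocalizedModule S N') i := by
      haveI : Module.Flat A (Localization S) := IsLocalization.flat _ S
      haveI : Module.Flat (Localization S) ((Localization S) ⊗[A] M) :=
        @Module.Flat.of_linearEquiv _ _ _ _ _ _ _ _ (h1 ⟨k, not_le.1 hrk⟩)
          (LocalizedModule.equivTensorProduct S M).symm
      exact D.Z_localized (S := Localization S) (LocalizedModule S N') i
    have hQ : D.Z (LocalizedModule S N' ⧸ LinearMap.range l) (i + 1) := by
      refine ih (k + 1) (by omega) _ (fun j hj x => ?_) (i + 1) (by omega)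
      obtain ⟨y, rfl⟩ := Submodule.Quotient.mk_surjective _ x
      rcases hsplit j hj with h | h
      · obtain ⟨⟨n, s⟩, rfl⟩ := IsLocalizedModule.mk'_surjective S l y
        obtain ⟨e, he⟩ := hN' j h n
        refine ⟨e, ?_⟩
        rw [← Submodule.Quotient.mk_smul]
        show Submodule.Quotient.mk (f j ^ e • IsLocalizedModule.mk' l n s) = 0
        rw [← IsLocalizedModule.mk'_smul, he, IsLocalizedModule.mk'_zero, Submodule.Quotient.mk_zero]
      · obtain ⟨⟨n, ⟨_, e, rfl⟩⟩, hn⟩ := IsLocalizedModule.surj S l y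
        refine ⟨e, ?_⟩
        rw [h, ← Submodule.Quotient.mk_smul, Submodule.Quotient.mk_eq_zero]
        exact ⟨n, hn.symm⟩
    have hN'Z : D.Z N' i :=
      D.Z_sub (f := l) (g := (LinearMap.range l).mkQ) hl (LinearMap.exact_map_mkQ_range l)
        (Submodule.mkQ_surjective _) i hL hQ
    exact D.Z_ext (f := T.subtype) (g := T.mkQ) Subtype.val_injective (LinearMap.exact_subtype_mkQ T)
      T.mkQ_surjective i hT hN'Z

end Res



/-- Let A be a ring, M an A-module and I = (f_1, ..., f_r) an ideal generated by r ≥ 1 elements. If (1)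
M_{f_i} is flat over A_{f_i} for each i, (2) M/IM is flat over A/I, and (3) Tor_i^A(M, A/I) = 0 for
i = 1, ..., r + 1, then M is flat over A. (The published statement adds the same with 'faithfully
flat', whose proof it omits; that variant is not included.) -/
theorem result (A : Type u) [CommRing A] (M : Type u) [AddCommGroup M]
    [Module A M] {r : ℕ} (hr : 1 ≤ r) (f : Fin r → A)
    (h1 : ∀ i, Module.Flat (Localization.Away (f i)) (LocalizedModule (Submonoid.powers (f i)) M))
    (h2 : Module.Flat (A ⧸ Ideal.span (Set.range f)) ((A ⧸ Ideal.span (Set.range f)) ⊗[A] M))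
    (h3 : ∀ i : ℕ, 1 ≤ i → i ≤ r + 1 →
      Limits.IsZero (((CategoryTheory.Tor (ModuleCat.{u} A) i).obj (ModuleCat.of A M)).obj (ModuleCat.of A (A ⧸ Ideal.span (Set.range f))))) :
    Module.Flat A M := by
  set I := Ideal.span (Set.range f) with hI
  let P := projectiveResolution (ModuleCat.of A M)
  let D : Res A M :=
    { P := fun i => P.complex.X i
      flat := fun i =>
        haveI : Module.Projective A (P.complex.X i) :=
          (IsProjective.iff_projective _).2 (P.projective i)
        inferInstance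
      d := fun i => (P.complex.d (i + 1) i).hom
      ε := (P.π.f 0).hom
      dd := fun i x => congrArg (fun φ => φ.hom x) (P.complex.d_comp_d (i + 2) (i + 1) i)
      dε := fun x => congrArg (fun φ => φ.hom x) P.complex_d_comp_π_f_zero
      ex₀ := fun x hx => (ShortComplex.moduleCat_exact_iff _).1 P.exact₀ x hx
      ex := fun i x hx => by
        have h := P.complex_exactAt_succ i
        rw [HomologicalComplex.exactAt_iff' _ (i + 2) (i + 1) i (by simp) (by simp),
          ShortComplex.moduleCat_exact_iff] at h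
        exact h x hx
      surj := (ModuleCat.epi_iff_surjective _).1 inferInstance }
  have key : ∀ (N : Type u) [AddCommGroup N] [Module A N] (i : ℕ),
      Limits.IsZero (((CategoryTheory.Tor (ModuleCat.{u} A) (i + 1)).obj (ModuleCat.of A M)).obj (ModuleCat.of A N)) ↔
        D.Z N i := fun N _ _ i => by
    obtain ⟨e⟩ := GrothLib.TorBal22.nonempty_tor_iso P (ModuleCat.of A N) (i + 1)
    rw [e.isZero_iff, ← HomologicalComplex.exactAt_iff_isZero_homology,
      HomologicalComplex.exactAt_iff' _ (i + 2) (i + 1) i (by simp) (by simp), ShortComplex.moduleCat_exact_iff]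
    exact Iff.rfl
  have hq : ∀ i, i ≤ r → D.Z (A ⧸ I) i := fun i hi => (key (A ⧸ I) i).1 (h3 (i + 1) (by omega) (by omega))
  have hall : ∀ (N : Type u) [AddCommGroup N] [Module A N], D.Z N 0 := fun N _ _ =>
    D.Z_induction f h1 h2 hq r 0 (by omega) N (fun j hj => absurd hj (Nat.not_lt_zero _)) 0 (Nat.zero_le _)
  exact (GrothLib.FlatFP.forall_isZero_tor_one_iff_flat (ModuleCat.of A M)).1 fun N => (key N 0).2 (hall N)

end Groth.Agent.S6377
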