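import Groth.Statements.S6378
import Groth.Agent.Lib.Flatness.Tor
import Mathlib
-- import your own Groth.Agent.* helpers here

set_option autoImplicit false
universe u
open CategoryTheory
open CAlg

namespace Groth.Agent.S6378

open scoped TensorProduct

theorem inj_step {R : Type u} [CommRing R] {A F N' : Type u} [AddCommGroup A] [Module R A] [AddCommGroup F] [Module R F]
    [Module.Flat R F] [AddCommGroup N'] [Module R N'] (i : A →ₗ[R] F) (N'' : Submodule R N')
    (hq'' : Function.Injective (i.lTensor (N' ⧸ N''))) (ih : Function.Injective (i.lTensor N'')) :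
    Function.Injective (i.lTensor N') := by
  rw [injective_iff_map_eq_zero]
  intro x hx
  have hsq : ∀ z, N''.mkQ.rTensor F (i.lTensor N' z) = i.lTensor (N' ⧸ N'') (N''.mkQ.rTensor A z) := fun z ↦ by
    induction z using TensorProduct.induction_on with
    | zero => simp
    | tmul a b => rfl
    | add a b ha hb => simp only [map_add, ha, hb]
  have h1 : N''.mkQ.rTensor A x = 0 := hq'' (by rw [map_zero, ← hsq, hx, map_zero])
  obtain ⟨y, rfl⟩ := (rTensor_exact A (LinearMap.exact_subtype_mkQ N'') (Submodule.mkQ_surjective _) x).mp h1
  have hsq2 : ∀ z, N''.subtype.rTensor F (i.lTensor N'' z) = i.lTensor N' (N''.subtype.rTensor A z) := fun z ↦ by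
    induction z using TensorProduct.induction_on with
    | zero => simp
    | tmul a b => rfl
    | add a b ha hb => simp only [map_add, ha, hb]
  have h2 : i.lTensor N'' y = 0 :=
    Module.Flat.rTensor_preserves_injective_linearMap (M := F) N''.subtype N''.injective_subtype (by rw [map_zero, hsq2, hx])
  rw [ih (h2.trans (map_zero _).symm), map_zero]

theorem inj_of_equiv {R : Type u} [CommRing R] {A F N₁ N₂ : Type u} [AddCommGroup A] [Module R A] [AddCommGroup F] [Module R F]
    [AddCommGroup N₁] [Module R N₁] [AddCommGroup N₂] [Module R N₂] (i : A →ₗ[R] F) (e : N₁ ≃ₗ[R] N₂)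
    (hh : Function.Injective (i.lTensor N₂)) : Function.Injective (i.lTensor N₁) := by
  have key : ∀ x, e.toLinearMap.rTensor F (i.lTensor N₁ x) = i.lTensor N₂ (e.toLinearMap.rTensor A x) := fun x ↦ by
    induction x using TensorProduct.induction_on with
    | zero => simp
    | tmul a b => rfl
    | add a b ha hb => simp only [map_add, ha, hb]
  intro a b hab
  refine (LinearEquiv.rTensor A e).injective (hh ?_)
  have := congrArg (e.toLinearMap.rTensor F) hab
  rw [key, key] at this
  exact this

theorem inj_of_finiteLength {R : Type u} [CommRing R] [IsLocalRing R] {A F : Type u} [AddCommGroup A] [Module R A]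
    [AddCommGroup F] [Module R F] [Module.Flat R F] (i : A →ₗ[R] F)
    (hh : Function.Injective (i.lTensor (IsLocalRing.ResidueField R))) (N : Type u) [AddCommGroup N] [Module R N]
    (hN : IsFiniteLength R N) : Function.Injective (i.lTensor N) := by
  induction hN with
  | of_subsingleton => exact fun a b _ ↦ Subsingleton.elim a b
  | @of_simple_quotient N' _ _ N'' hsimple _ ih =>
    obtain ⟨I, hI, ⟨e⟩⟩ := isSimpleModule_iff_quot_maximal.mp hsimple
    obtain rfl := IsLocalRing.eq_maximalIdeal hI
    exact inj_step i N'' (inj_of_equiv i e hh) ih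



/-- Let (R, m, κ) be a local ring and M an R-module with Tor_1^R(κ, M) = 0. Then Tor_1^R(N, M) = 0 for
every finite length R-module N. -/
theorem result (R : Type u) [CommRing R] [IsLocalRing R]
    (M : Type u) [AddCommGroup M] [Module R M]
    (h : Limits.IsZero (((CategoryTheory.Tor (ModuleCat.{u} R) 1).obj (ModuleCat.of R (IsLocalRing.ResidueField R))).obj (ModuleCat.of R M)))
    (N : Type u) [AddCommGroup N] [Module R N] (hN : IsFiniteLength R N) :
    Limits.IsZero (((CategoryTheory.Tor (ModuleCat.{u} R) 1).obj (ModuleCat.of R N)).obj (ModuleCat.of R M)) := by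
  classical
  rw [GrothLib.Flatness.isZero_tor_one_iff_good] at h ⊢
  have hq : Function.Surjective (Finsupp.linearCombination R (id : M → M)) := Finsupp.linearCombination_id_surjective R M
  have hex : Function.Exact (LinearMap.ker (Finsupp.linearCombination R (id : M → M))).subtype (Finsupp.linearCombination R (id : M → M)) :=
    LinearMap.exact_subtype_ker_map _
  exact GrothLib.Flatness.Good.of_presentation _ _ (Submodule.injective_subtype _) hq hex GrothLib.Flatness.Good.of_projective
    (inj_of_finiteLength _ (h _ _ _ _ (Submodule.injective_subtype _) hq hex) N hN)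

end Groth.Agent.S6378
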