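import Groth.Statements.S6381
import Mathlib
-- import your own Groth.Agent.* helpers here

set_option autoImplicit false
universe u
open CAlg

namespace Groth.Agent.S6381

/-- Let R be a ring, p ⊆ R a prime and L a finite extension of the residue field κ(p). Then one can find
a ring map R → S, with S finite free over R, for which q = pS is a prime of S and the residue field
κ(q) is isomorphic to L over κ(p) (stated as a ring isomorphism κ(q) ≅ L compatible with the maps
from R, which determines compatibility with κ(p)). -/
theorem result (R : Type u) [CommRing R] (p : Ideal R) [p.IsPrime]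
    (L : Type u) [Field L] [Algebra p.ResidueField L] [FiniteDimensional p.ResidueField L]
    [Algebra R L] [IsScalarTower R p.ResidueField L] :
    ∃ (S : Type u) (_ : CommRing S) (_ : Algebra R S) (_ : Module.Finite R S) (_ : Module.Free R S)
      (_ : (p.map (algebraMap R S)).IsPrime)
      (e : (p.map (algebraMap R S)).ResidueField ≃+* L),
      ∀ r : R, e (algebraMap R (p.map (algebraMap R S)).ResidueField r) = algebraMap R L r := by
  classical
  obtain ⟨n, w⟩ : Σ' n, Module.Basis (Fin n) p.ResidueField L :=
    ⟨_, Module.finBasis p.ResidueField L⟩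
  have hker0 : ∀ r : R, algebraMap R L r = 0 ↔ r ∈ p := fun r => by
    rw [IsScalarTower.algebraMap_apply R p.ResidueField L,
      map_eq_zero_iff _ (FaithfulSMul.algebraMap_injective p.ResidueField L),
      Ideal.algebraMap_residueField_eq_zero]
  have key : ∀ k ≤ n, ∃ (S : Type u) (_ : CommRing S) (_ : Algebra R S) (ψ : S →ₐ[R] L),
      Module.Finite R S ∧ Module.Free R S ∧ RingHom.ker ψ = p.map (algebraMap R S) ∧
      ∀ j : Fin n, (j : ℕ) < k → ∃ a b : S, ψ b ≠ 0 ∧ w j * ψ b = ψ a := by
    intro k
    induction k with
    | zero =>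
      intro _
      refine ⟨R, inferInstance, inferInstance, Algebra.ofId R L, inferInstance, inferInstance, ?_,
        fun j hj => absurd hj (Nat.not_lt_zero _)⟩
      ext r
      rw [RingHom.mem_ker, Algebra.algebraMap_self, Ideal.map_id]
      exact hker0 r
    | succ k ih =>
      intro hk
      obtain ⟨S, _, _, ψ, hfin, hfree, hker, hold⟩ := ih (by omega)
      set q : Ideal S := RingHom.ker ψ with hq
      haveI : q.IsPrime := RingHom.ker_isPrime _
      let ι : (S ⧸ q) →+* L := Ideal.Quotient.lift q ψ.toRingHom fun a ha => ha
      have hι : Function.Injective ι := RingHom.lift_injective_of_ker_le_ideal _ _ le_rfl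
      letI : Algebra (FractionRing (S ⧸ q)) L := (IsFractionRing.lift (g := ι) hι).toAlgebra
      let F := FractionRing (S ⧸ q)
      let σ : S →+* F := (algebraMap (S ⧸ q) F).comp (Ideal.Quotient.mk q)
      have hσ : ∀ s, algebraMap F L (σ s) = ψ s := fun s => by
        change IsFractionRing.lift hι (algebraMap (S ⧸ q) F (Ideal.Quotient.mk q s)) = _
        rw [IsFractionRing.lift_algebraMap]
        rfl
      let α := w ⟨k, hk⟩
      have hint : IsIntegral F α := by
        obtain ⟨P, hP0, hP⟩ := (Algebra.IsAlgebraic.isAlgebraic (R := p.ResidueField) α)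
        have hj : ∀ z : p.ResidueField, ∃ z' : F, algebraMap F L z' = algebraMap p.ResidueField L z := by
          intro z
          obtain ⟨a, b, -, rfl⟩ := IsFractionRing.div_surjective (R ⧸ p) z
          obtain ⟨a, rfl⟩ := Ideal.Quotient.mk_surjective a
          obtain ⟨b, rfl⟩ := Ideal.Quotient.mk_surjective b
          refine ⟨σ (algebraMap R S a) / σ (algebraMap R S b), ?_⟩
          rw [map_div₀, map_div₀, hσ, hσ, AlgHom.commutes, AlgHom.commutes,
            Ideal.algebraMap_quotient_residueField_mk, Ideal.algebraMap_quotient_residueField_mk,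
            ← IsScalarTower.algebraMap_apply, ← IsScalarTower.algebraMap_apply]
        choose f hf using hj
        have hmem : P.map (algebraMap p.ResidueField L) ∈ Polynomial.lifts (algebraMap F L) := by
          rw [Polynomial.lifts_iff_coeff_lifts]
          intro i
          exact ⟨f (P.coeff i), by rw [hf, Polynomial.coeff_map]⟩
        obtain ⟨P', hP'⟩ := (Polynomial.mem_lifts _).mp hmem
        refine (IsAlgebraic.isIntegral ⟨P', ?_, ?_⟩)
        · rintro rfl
          rw [Polynomial.map_zero, eq_comm,
            Polynomial.map_eq_zero_iff (FaithfulSMul.algebraMap_injective p.ResidueField L)] at hP'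
          exact hP0 hP'
        · rw [Polynomial.aeval_def, ← Polynomial.eval_map, hP', Polynomial.eval_map,
            ← Polynomial.aeval_def, hP]
      set g := minpoly F α with hg
      obtain ⟨b, hb⟩ := IsLocalization.exist_integer_multiples_of_finset
        (nonZeroDivisors (S ⧸ q)) (g.support.image g.coeff)
      obtain ⟨cs, hcs⟩ := Ideal.Quotient.mk_surjective b.1
      set c : F := σ cs with hc
      have hcb : c = algebraMap (S ⧸ q) F b.1 := by rw [hc, ← hcs]; rfl
      have hc0 : c ≠ 0 := by
        rw [hcb]
        exact (map_ne_zero_iff _ (IsFractionRing.injective (S ⧸ q) F)).mpr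
          (nonZeroDivisors.ne_zero b.2)
      have hgm : g.Monic := minpoly.monic hint
      have hmem : g.scaleRoots c ∈ Polynomial.lifts σ := by
        rw [Polynomial.lifts_iff_coeff_lifts]
        intro i
        rw [Polynomial.coeff_scaleRoots]
        by_cases hi : g.coeff i = 0
        · exact ⟨0, by simp [hi]⟩
        rcases lt_or_ge i g.natDegree with h | h
        · obtain ⟨z, hz⟩ := hb (g.coeff i) (Finset.mem_image.mpr
            ⟨i, Polynomial.mem_support_iff.mpr hi, rfl⟩)
          obtain ⟨z, rfl⟩ := Ideal.Quotient.mk_surjective z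
          refine ⟨z * cs ^ (g.natDegree - i - 1), ?_⟩
          rw [map_mul, map_pow, ← hc, show σ z = c * g.coeff i by
            rw [hcb, ← Algebra.smul_def]; exact hz, mul_comm c, mul_assoc, ← pow_succ',
            show g.natDegree - i - 1 + 1 = g.natDegree - i by omega]
        · have : i = g.natDegree := le_antisymm (Polynomial.le_natDegree_of_ne_zero hi) h
          subst this
          exact ⟨1, by simp [hgm.coeff_natDegree]⟩
      haveI : Nontrivial S := σ.domain_nontrivial
      obtain ⟨G, hG, hGd, hGm⟩ := Polynomial.lifts_and_natDegree_eq_and_monic hmem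
        ((Polynomial.monic_scaleRoots_iff c).mpr hgm)
      have hroot : G.eval₂ ψ.toRingHom (ψ cs * α) = 0 := by
        have h1 : ψ.toRingHom = (algebraMap F L).comp σ := RingHom.ext fun s => (hσ s).symm
        have h2 := Polynomial.scaleRoots_eval₂_mul (p := g) (algebraMap F L) α c
        rw [← Polynomial.aeval_def α g, hg, minpoly.aeval, mul_zero] at h2
        rw [h1, ← Polynomial.eval₂_map, hG, ← hσ cs, ← hc]
        exact h2
      let ψ' : AdjoinRoot G →+* L := AdjoinRoot.lift ψ.toRingHom (ψ cs * α) hroot
      let ψA : AdjoinRoot G →ₐ[R] L :=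
        { ψ' with
          commutes' := fun r => by
            show ψ' (algebraMap R (AdjoinRoot G) r) = _
            rw [IsScalarTower.algebraMap_apply R S (AdjoinRoot G), AdjoinRoot.algebraMap_eq,
              AdjoinRoot.lift_of]
            exact ψ.commutes r }
      have hof : ∀ s, ψA (AdjoinRoot.of G s) = ψ s := fun s => AdjoinRoot.lift_of hroot
      refine ⟨AdjoinRoot G, inferInstance, inferInstance, ψA, ?_, ?_, ?_, ?_⟩
      · haveI := hGm.finite_adjoinRoot
        exact Module.Finite.trans S _
      · haveI := hGm.free_adjoinRoot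
        exact Module.Free.trans (S := S)
      · refine le_antisymm ?_ (Ideal.map_le_iff_le_comap.mpr fun r hr => ?_)
        · intro z hz
          obtain ⟨P₀, rfl⟩ := AdjoinRoot.mk_surjective z
          set P := P₀ %ₘ G with hP
          have hzP : AdjoinRoot.mk G P₀ = AdjoinRoot.mk G P := by
            rw [AdjoinRoot.mk_eq_mk, hP]
            exact ⟨P₀ /ₘ G, sub_eq_of_eq_add' (Polynomial.modByMonic_add_div P₀ G).symm⟩
          rw [hzP] at hz ⊢
          have hz' : Polynomial.aeval (algebraMap F L c * α) (P.map σ) = 0 := by
            rw [Polynomial.aeval_def, Polynomial.eval₂_map, hc, hσ,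
              show (algebraMap F L).comp σ = ψ.toRingHom from RingHom.ext hσ]
            have : ψA (AdjoinRoot.mk G P) = Polynomial.eval₂ ψ.toRingHom (ψ cs * α) P :=
              AdjoinRoot.lift_mk hroot P
            rw [← this]
            exact hz
          set Q := (P.map σ).comp (Polynomial.C c * Polynomial.X) with hQ
          have hQ0 : Polynomial.aeval α Q = 0 := by
            rw [hQ, Polynomial.aeval_comp, map_mul, Polynomial.aeval_C, Polynomial.aeval_X, hz']
          have hQz : Q = 0 := by
            by_contra hne
            have h1 := Polynomial.natDegree_le_of_dvd (minpoly.dvd F α hQ0) hne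
            rw [← hg, hQ, Polynomial.natDegree_comp, Polynomial.natDegree_C_mul_X c hc0, mul_one] at h1
            have h2 : P.natDegree < G.natDegree := Polynomial.natDegree_modByMonic_lt P₀ hGm (by
              intro hG1
              rw [hG1, Polynomial.natDegree_one, Polynomial.natDegree_scaleRoots] at hGd
              exact (minpoly.natDegree_pos hint).ne hGd)
            rw [hGd, Polynomial.natDegree_scaleRoots] at h2
            have := Polynomial.natDegree_map_le (f := σ) (p := P)
            omega
          have hcoef : ∀ i, P.coeff i ∈ p.map (algebraMap R S) := by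
            intro i
            have h1 := congr(Polynomial.coeff $hQz i)
            rw [hQ, Polynomial.comp_C_mul_X_coeff, Polynomial.coeff_zero, Polynomial.coeff_map] at h1
            rcases mul_eq_zero.mp h1 with h | h
            · rw [← hker]
              have : ψ (P.coeff i) = 0 := by rw [← hσ, h, map_zero]
              exact this
            · exact absurd h (pow_ne_zero _ hc0)
          rw [P.as_sum_support, map_sum]
          refine Ideal.sum_mem _ fun i _ => ?_
          rw [← Polynomial.C_mul_X_pow_eq_monomial, map_mul, AdjoinRoot.mk_C]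
          refine Ideal.mul_mem_right _ _ ?_
          rw [IsScalarTower.algebraMap_eq R S (AdjoinRoot G), ← Ideal.map_map]
          exact Ideal.mem_map_of_mem _ (hcoef i)
        · rw [Ideal.mem_comap, RingHom.mem_ker, AlgHom.commutes]
          exact (hker0 r).mpr hr
      · intro j hj
        rcases Nat.lt_succ_iff_lt_or_eq.mp hj with h | h
        · obtain ⟨a, b', hb', h⟩ := hold j h
          exact ⟨AdjoinRoot.of G a, AdjoinRoot.of G b', by rwa [hof], by rw [hof, hof, h]⟩
        · refine ⟨AdjoinRoot.root G, AdjoinRoot.of G cs, ?_, ?_⟩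
          · rw [hof, ← hσ, ← hc]
            exact (map_ne_zero _).mpr hc0
          · have : j = ⟨k, hk⟩ := Fin.ext h
            rw [hof, this]
            change α * ψ cs = _
            rw [mul_comm]
            exact (AdjoinRoot.lift_root hroot).symm
  obtain ⟨S, _, _, ψ, hfin, hfree, hker, hw⟩ := key n le_rfl
  haveI hprime : (p.map (algebraMap R S)).IsPrime := hker ▸ RingHom.ker_isPrime _
  have hle : p.map (algebraMap R S) ≤ RingHom.ker ψ.toRingHom := hker.ge
  have hsub : ∀ x : S, x ∈ (p.map (algebraMap R S)).primeCompl → IsUnit (ψ x) := fun x hx =>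
    isUnit_iff_ne_zero.mpr fun h => hx (hker.le h)
  let e₀ : (p.map (algebraMap R S)).ResidueField →+* L :=
    Ideal.ResidueField.lift _ ψ.toRingHom hle hsub
  have he₀ : ∀ s, e₀ (algebraMap S _ s) = ψ s := fun s =>
    Ideal.ResidueField.lift_algebraMap _ _ hle hsub s
  have he₀R : ∀ r : R, e₀ (algebraMap R _ r) = algebraMap R L r := fun r => by
    rw [IsScalarTower.algebraMap_apply R S, he₀, AlgHom.commutes]
  have hsurj : Function.Surjective e₀ := by
    intro x
    rw [← RingHom.mem_range (f := e₀), ← w.sum_repr x]
    refine sum_mem fun i _ => ?_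
    rw [Algebra.smul_def]
    refine mul_mem ?_ ?_
    · obtain ⟨a, b, -, hab⟩ := IsFractionRing.div_surjective (R ⧸ p) (w.repr x i)
      obtain ⟨a, rfl⟩ := Ideal.Quotient.mk_surjective a
      obtain ⟨b, rfl⟩ := Ideal.Quotient.mk_surjective b
      refine ⟨algebraMap R _ a / algebraMap R _ b, ?_⟩
      rw [map_div₀, he₀R, he₀R, ← hab, map_div₀, Ideal.algebraMap_quotient_residueField_mk,
        Ideal.algebraMap_quotient_residueField_mk, ← IsScalarTower.algebraMap_apply,
        ← IsScalarTower.algebraMap_apply]
    · obtain ⟨a, b, hb, h⟩ := hw i i.isLt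
      refine ⟨algebraMap S _ a / algebraMap S _ b, ?_⟩
      rw [map_div₀, he₀, he₀, ← h, mul_div_cancel_right₀ _ hb]
  exact ⟨S, inferInstance, inferInstance, hfin, hfree, hprime,
    RingEquiv.ofBijective e₀ ⟨e₀.injective, hsurj⟩, he₀R⟩

end Groth.Agent.S6381
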