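import Groth.Statements.S6382
import Groth.Agent.Lib.CAlgMisc.FlatSquare
-- import your own Groth.Agent.* helpers here

set_option autoImplicit false
universe u
open CAlg

namespace Groth.Agent.S6382

/-- Consider a commutative square of local rings and local homomorphisms R → S, R → R', S → S', R' → S',
and a finite S-module M. Assume the maps R → R' and S → S' are flat, M is flat over R, the maximal
ideal of R generates the maximal ideal of R', and R', S' are Noetherian. Then M' = M ⊗_S S' (any
base change of M along S → S') is flat over R'. -/
theorem result (R S R' S' : Type u) [CommRing R] [CommRing S]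
    [CommRing R'] [CommRing S'] [IsLocalRing R] [IsLocalRing S] [IsLocalRing R'] [IsLocalRing S']
    [Algebra R S] [Algebra R R'] [Algebra S S'] [Algebra R' S'] [Algebra R S']
    [IsScalarTower R S S'] [IsScalarTower R R' S']
    [IsLocalHom (algebraMap R S)] [IsLocalHom (algebraMap R R')] [IsLocalHom (algebraMap S S')]
    [IsLocalHom (algebraMap R' S')] [Module.Flat R R'] [Module.Flat S S']
    [IsNoetherianRing R'] [IsNoetherianRing S']
    (hm : (IsLocalRing.maximalIdeal R).map (algebraMap R R') = IsLocalRing.maximalIdeal R')
    (M : Type u) [AddCommGroup M] [Module S M] [Module R M] [IsScalarTower R S M] [Module.Finite S M]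
    [Module.Flat R M]
    (M' : Type u) [AddCommGroup M'] [Module S' M'] [Module S M'] [IsScalarTower S S' M'] [Module R' M']
    [IsScalarTower R' S' M'] (j : M →ₗ[S] M') (hj : IsBaseChange S' j) :
    Module.Flat R' M' := by
  exact GrothLib.CAlgMisc.flat_baseChange_square R S R' S' hm M M' j hj

end Groth.Agent.S6382
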