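import Groth.Statements.S6383
import Groth.Agent.Lib.ML.Devissage

set_option autoImplicit false
universe u
open scoped TensorProduct
open CAlg

namespace Groth.Agent.S6383

/-- For a ring map R → S and an R-module M whose base change S ⊗_R M is an internal direct sum of
countably generated S-submodules Q_i (i ∈ I), every countably generated submodule N ≤ M can be
enlarged to a countably generated submodule N' ≤ M, together with a subset I' ⊆ I, so that the
S-span of the image 1 ⊗ N' inside S ⊗_R M equals the sum of the Q_i over i ∈ I'. -/
theorem result (R S : Type u) [CommRing R] [CommRing S] [Algebra R S]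
    (M : Type u) [AddCommGroup M] [Module R M] {I : Type u} [DecidableEq I] (Q : I → Submodule S (S ⊗[R] M))
    (hQ : DirectSum.IsInternal Q) (hQc : ∀ i, ∃ t : Set (S ⊗[R] M), t.Countable ∧ Submodule.span S t = Q i)
    (N : Submodule R M) (hN : ∃ s : Set M, s.Countable ∧ Submodule.span R s = N) :
    ∃ (N' : Submodule R M) (I' : Set I), N ≤ N' ∧ (∃ s : Set M, s.Countable ∧ Submodule.span R s = N') ∧
      Submodule.span S ((TensorProduct.mk R S M 1) '' (N' : Set M)) = ⨆ i ∈ I', Q i := by
  exact GrothLib.ML.exists_adapted Q hQ.submodule_iSup_eq_top hQc N hN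

end Groth.Agent.S6383
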