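import Groth.Statements.S6384
import Mathlib
-- import your own Groth.Agent.* helpers here

set_option autoImplicit false
universe u
open scoped TensorProduct
open CAlg

namespace Groth.Agent.S6384

open TensorProduct in
theorem inj_of_killed {R : Type u} [CommRing R] (I : Ideal R) (M : Type u) [AddCommGroup M] [Module R M]
    [Module.Flat (R ⧸ I) ((R ⧸ I) ⊗[R] M)] {X Y : Type u} [AddCommGroup X] [Module R X]
    [AddCommGroup Y] [Module R Y] (f : X →ₗ[R] Y) (hf : Function.Injective f)
    (hX : ∀ r ∈ I, ∀ x : X, r • x = 0) (hY : ∀ r ∈ I, ∀ y : Y, r • y = 0) :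
    Function.Injective (f.rTensor M) := by
  have tX : Module.IsTorsionBySet R X I := fun a r => hX r.1 r.2 a
  have tY : Module.IsTorsionBySet R Y I := fun a r => hY r.1 r.2 a
  letI := tX.module
  letI := tY.module
  haveI : IsScalarTower R (R ⧸ I) X := IsScalarTower.of_algebraMap_smul fun _ _ => rfl
  haveI : IsScalarTower R (R ⧸ I) Y := IsScalarTower.of_algebraMap_smul fun _ _ => rfl
  let f' : X →ₗ[R ⧸ I] Y := f.extendScalarsOfSurjective Ideal.Quotient.mk_surjective
  let eX := AlgebraTensorModule.cancelBaseChange R (R ⧸ I) (R ⧸ I) X M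
  let eY := AlgebraTensorModule.cancelBaseChange R (R ⧸ I) (R ⧸ I) Y M
  have h := Module.Flat.rTensor_preserves_injective_linearMap (M := (R ⧸ I) ⊗[R] M) f' hf
  have key : ∀ z, eY (f'.rTensor _ z) = f.rTensor M (eX z) := by
    intro z
    induction z using TensorProduct.induction_on with
    | zero => simp
    | add a b ha hb => simp only [map_add, ha, hb]
    | tmul x w =>
      induction w using TensorProduct.induction_on with
      | zero => simp
      | add a b ha hb => simp only [tmul_add, map_add, ha, hb]
      | tmul c m =>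
        obtain ⟨c, rfl⟩ := Ideal.Quotient.mk_surjective c
        simp only [eX, eY, LinearMap.rTensor_tmul, AlgebraTensorModule.cancelBaseChange_tmul]
        congr 1
        exact (map_smul f' _ x).symm
  intro a b hab
  obtain ⟨a, rfl⟩ := eX.surjective a
  obtain ⟨b, rfl⟩ := eX.surjective b
  rw [← key, ← key] at hab
  exact congrArg eX (h (eY.injective hab))

open TensorProduct in
theorem rTensor_inj_of_flat {R R' : Type u} [CommRing R] [CommRing R'] [Algebra R R'] {M : Type u}
    [AddCommGroup M] [Module R M] [Module.Flat R' (R' ⊗[R] M)] {X Y : Type u} [AddCommGroup X] [Module R X]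
    [Module R' X] [IsScalarTower R R' X] [AddCommGroup Y] [Module R Y] [Module R' Y] [IsScalarTower R R' Y]
    (f : X →ₗ[R'] Y) (hf : Function.Injective f) :
    Function.Injective ((f.restrictScalars R).rTensor M) := by
  let eX := AlgebraTensorModule.cancelBaseChange R R' R' X M
  let eY := AlgebraTensorModule.cancelBaseChange R R' R' Y M
  have h := Module.Flat.rTensor_preserves_injective_linearMap (M := R' ⊗[R] M) f hf
  have key : ∀ z, eY (f.rTensor _ z) = (f.restrictScalars R).rTensor M (eX z) := by
    intro z
    induction z using TensorProduct.induction_on with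
    | zero => simp
    | add a b ha hb => simp only [map_add, ha, hb]
    | tmul x w =>
      induction w using TensorProduct.induction_on with
      | zero => simp
      | add a b ha hb => simp only [tmul_add, map_add, ha, hb]
      | tmul c m =>
        simp only [eX, eY, LinearMap.rTensor_tmul, AlgebraTensorModule.cancelBaseChange_tmul]
        congr 1
        exact (map_smul f c x).symm
  intro a b hab
  obtain ⟨a, rfl⟩ := eX.surjective a
  obtain ⟨b, rfl⟩ := eX.surjective b
  rw [← key, ← key] at hab
  exact congrArg eX (h (eY.injective hab))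

open TensorProduct in
theorem inj_cancel {R A : Type u} [CommRing R] [CommRing A] [Algebra R A] {M : Type u}
    [AddCommGroup M] [Module R M] {X Y : Type u} [AddCommGroup X] [Module R X]
    [Module A X] [IsScalarTower R A X] [AddCommGroup Y] [Module R Y] [Module A Y] [IsScalarTower R A Y]
    (f : X →ₗ[A] Y) (h : Function.Injective ((f.restrictScalars R).rTensor M)) :
    Function.Injective (f.rTensor (A ⊗[R] M)) := by
  let eX := AlgebraTensorModule.cancelBaseChange R A A X M
  let eY := AlgebraTensorModule.cancelBaseChange R A A Y M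
  have key : ∀ z, eY (f.rTensor _ z) = (f.restrictScalars R).rTensor M (eX z) := by
    intro z
    induction z using TensorProduct.induction_on with
    | zero => simp
    | add a b ha hb => simp only [map_add, ha, hb]
    | tmul x w =>
      induction w using TensorProduct.induction_on with
      | zero => simp
      | add a b ha hb => simp only [tmul_add, map_add, ha, hb]
      | tmul c m =>
        simp only [eX, eY, LinearMap.rTensor_tmul, AlgebraTensorModule.cancelBaseChange_tmul]
        congr 1
        exact (map_smul f c x).symm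
  intro a b hab
  exact eX.injective (h (by rw [← key, ← key, hab]))

/-- Let φ : R → R' be a ring map, I ⊆ R an ideal and M an R-module such that M/IM is R/I-flat and R' ⊗_R
M is R'-flat. Put I₂ = φ⁻¹(φ(I²) R'). Then M/I₂M is flat over R/I₂. -/
theorem result (R R' : Type u) [CommRing R] [CommRing R'] [Algebra R R']
    (I : Ideal R) (M : Type u) [AddCommGroup M] [Module R M] [Module.Flat (R ⧸ I) ((R ⧸ I) ⊗[R] M)]
    [Module.Flat R' (R' ⊗[R] M)] :
    Module.Flat (R ⧸ ((I ^ 2).map (algebraMap R R')).comap (algebraMap R R'))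
      ((R ⧸ ((I ^ 2).map (algebraMap R R')).comap (algebraMap R R')) ⊗[R] M) := by
  classical
  set E : Ideal R' := (I ^ 2).map (algebraMap R R') with hE
  set I₂ : Ideal R := E.comap (algebraMap R R') with hI₂
  have hle : I₂ ≤ I ∨ True := Or.inr trivial
  let A := R ⧸ I₂
  let Q := R' ⧸ E
  let π : A →ₗ[R] R ⧸ (I₂ ⊔ I) := Submodule.factor le_sup_left
  let ι : A →ₗ[R] Q := I₂.liftQ ((Submodule.mkQ E).restrictScalars R ∘ₗ Algebra.linearMap R R')
    (fun x hx => (Submodule.Quotient.mk_eq_zero E).mpr hx)
  have hι : Function.Injective ι := by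
    rw [injective_iff_map_eq_zero]
    intro a ha
    obtain ⟨r, rfl⟩ := Submodule.Quotient.mk_surjective I₂ a
    exact (Submodule.Quotient.mk_eq_zero I₂).mpr ((Submodule.Quotient.mk_eq_zero E).mp ha)
  let K : Submodule R' Q := Submodule.map (Submodule.mkQ E) (I.map (algebraMap R R'))
  have hKkill : ∀ r ∈ I, ∀ x : K, r • x = 0 := by
    intro r hr ⟨x, hx⟩
    obtain ⟨y, hy, rfl⟩ := hx
    ext1
    show r • E.mkQ y = 0
    rw [← algebraMap_smul R' r, ← map_smul, Submodule.mkQ_apply, Submodule.Quotient.mk_eq_zero, smul_eq_mul,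
      hE, Ideal.map_pow, sq]
    exact Ideal.mul_mem_mul (Ideal.mem_map_of_mem _ hr) hy
  have hKQ : Function.Injective ((K.subtype.restrictScalars R).rTensor M) :=
    rTensor_inj_of_flat K.subtype K.injective_subtype
  rw [Module.Flat.iff_rTensor_injective']
  intro L
  suffices h : Function.Injective (((L.subtype).restrictScalars R).rTensor M) from inj_cancel L.subtype h
  rw [injective_iff_map_eq_zero]
  intro x hx
  let Lp : L →ₗ[R] LinearMap.range (π ∘ₗ L.subtype.restrictScalars R) := (π ∘ₗ L.subtype.restrictScalars R).rangeRestrict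
  have hkill' : ∀ r ∈ I, ∀ y : R ⧸ (I₂ ⊔ I), r • y = 0 := by
    intro r hr y
    obtain ⟨z, rfl⟩ := Submodule.Quotient.mk_surjective _ y
    rw [← Submodule.Quotient.mk_smul, Submodule.Quotient.mk_eq_zero]
    exact Ideal.mul_mem_right _ _ (Ideal.mem_sup_right hr)
  have h1 : Lp.rTensor M x = 0 := by
    apply inj_of_killed I M (LinearMap.range (π ∘ₗ L.subtype.restrictScalars R)).subtype
      (Submodule.injective_subtype _) (fun r hr y => Subtype.ext (hkill' r hr y.1)) hkill'
    rw [map_zero, ← LinearMap.rTensor_comp_apply]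
    show ((π ∘ₗ L.subtype.restrictScalars R).rTensor M) x = 0
    rw [LinearMap.rTensor_comp_apply, hx, map_zero]
  let N := LinearMap.ker Lp
  obtain ⟨y, rfl⟩ := (rTensor_exact M (LinearMap.exact_subtype_ker_map Lp)
    (LinearMap.surjective_rangeRestrict _) x).mp h1
  let j : N →ₗ[R] K := ((ι ∘ₗ L.subtype.restrictScalars R ∘ₗ N.subtype)).codRestrict (K.restrictScalars R) (fun n => by
    have h2 : π n.1.1 = 0 := congrArg Subtype.val n.2
    obtain ⟨r, hr⟩ := Submodule.Quotient.mk_surjective I₂ n.1.1
    rw [← hr] at h2
    have h3 : r ∈ I₂ ⊔ I := (Submodule.Quotient.mk_eq_zero _).mp h2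
    show ι n.1.1 ∈ K
    rw [← hr]
    refine ⟨algebraMap R R' r, ?_, rfl⟩
    obtain ⟨a, ha, b, hb, rfl⟩ := Submodule.mem_sup.mp h3
    rw [map_add]
    refine Ideal.add_mem _ ?_ (Ideal.mem_map_of_mem _ hb)
    have : algebraMap R R' a ∈ E := ha
    exact Ideal.map_mono (Ideal.pow_le_self two_ne_zero) this)
  have hj : Function.Injective j := fun a b hab => N.injective_subtype (Subtype.ext (hι (congrArg Subtype.val hab)))
  have hNkill : ∀ r ∈ I, ∀ n : N, r • n = 0 := by
    intro r hr n
    apply hj
    rw [map_smul, map_zero]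
    exact hKkill r hr _
  have h4 : j.rTensor M y = 0 := by
    apply hKQ
    rw [map_zero, ← LinearMap.rTensor_comp_apply]
    show ((ι ∘ₗ (L.subtype.restrictScalars R ∘ₗ N.subtype)).rTensor M) y = 0
    rw [LinearMap.rTensor_comp_apply, LinearMap.rTensor_comp_apply, hx, map_zero]
  have h5 : y = 0 := inj_of_killed I M j hj hNkill hKkill (h4.trans (map_zero _).symm)
  rw [h5, map_zero]

end Groth.Agent.S6384
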