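import Groth.Statements.S6385
import Groth.Agent.Lib.Dim.Ring
import Mathlib.RingTheory.NoetherNormalization
import Mathlib.RingTheory.KrullDimension.Polynomial
import Mathlib.RingTheory.KrullDimension.Field
import Mathlib.RingTheory.Localization.Away.Basic
import Mathlib.RingTheory.FiniteType
import Mathlib.RingTheory.Localization.Away.AdjoinRoot
-- import your own Groth.Agent.* helpers here

set_option autoImplicit false
universe u
open CAlg

namespace Groth.Agent.S6385

/-- Let k be a field, S a finite type k-algebra, q a prime of S and x the corresponding point of X =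
Spec S. Then there is g ∈ S, g ∉ q, such that dim S_g equals dim_x X — the minimum of dim S_{g'}
over all g' ∉ q — and, writing d for this dimension, a finite injective k-algebra map from the
polynomial ring k[y_1, ..., y_d] to S_g. -/
theorem result (k S : Type u) [Field k] [CommRing S] [Algebra k S]
    [Algebra.FiniteType k S] (q : Ideal S) [q.IsPrime] :
    ∃ (g : S) (d : ℕ), g ∉ q ∧ ringKrullDim (Localization.Away g) = d ∧
      (∀ g' : S, g' ∉ q → ringKrullDim (Localization.Away g) ≤ ringKrullDim (Localization.Away g')) ∧
      ∃ φ : MvPolynomial (Fin d) k →ₐ[k] Localization.Away g, Function.Injective φ ∧ φ.toRingHom.Finite := by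
  classical
  have key : ∀ g : S, g ∉ q → ∃ (d : ℕ) (φ : MvPolynomial (Fin d) k →ₐ[k] Localization.Away g),
      Function.Injective φ ∧ φ.toRingHom.Finite ∧ ringKrullDim (Localization.Away g) = d := by
    intro g hg
    haveI : Algebra.FiniteType S (Localization.Away g) :=
      inferInstance
    haveI : Algebra.FiniteType k (Localization.Away g) := Algebra.FiniteType.trans (S := S) inferInstance inferInstance
    haveI : Nontrivial (Localization.Away g) := by
      refine not_subsingleton_iff_nontrivial.1 fun h0 => ?_
      obtain ⟨n, hn⟩ := (IsLocalization.subsingleton_iff (M := Submonoid.powers g)).1 h0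
      exact hg (Ideal.IsPrime.mem_of_pow_mem inferInstance n (by rw [show g ^ n = 0 from hn]; exact zero_mem _))
    obtain ⟨d, φ, hi, hf⟩ := exists_finite_inj_algHom_of_fg k (Localization.Away g)
    refine ⟨d, φ, hi, hf, ?_⟩
    letI := φ.toRingHom.toAlgebra
    haveI : Module.Finite (MvPolynomial (Fin d) k) (Localization.Away g) := RingHom.finite_algebraMap.1 hf
    haveI : Algebra.IsIntegral (MvPolynomial (Fin d) k) (Localization.Away g) := Algebra.IsIntegral.of_finite _ _
    rw [GrothLib.Dim.ringKrullDim_eq_of_isIntegral (R := MvPolynomial (Fin d) k) hi,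
      MvPolynomial.ringKrullDim_of_isNoetherianRing, ringKrullDim_eq_zero_of_field, zero_add, Nat.card_fin]
  let P : ℕ → Prop := fun d => ∃ g : S, g ∉ q ∧ ringKrullDim (Localization.Away g) = d
  have h1 : (1 : S) ∉ q := fun h => (Ideal.IsPrime.ne_top inferInstance) ((Ideal.eq_top_iff_one q).2 h)
  have hex : ∃ d, P d := by
    obtain ⟨d, -, -, -, hd⟩ := key 1 h1
    exact ⟨d, 1, h1, hd⟩
  obtain ⟨g, hg, hd⟩ := Nat.find_spec hex
  obtain ⟨d', φ, hi, hf, hd'⟩ := key g hg
  refine ⟨g, d', hg, hd', fun g' hg' => ?_, φ, hi, hf⟩
  obtain ⟨e, -, -, -, he⟩ := key g' hg'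
  rw [hd, he]
  exact_mod_cast Nat.find_min' hex ⟨g', hg', he⟩

end Groth.Agent.S6385
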