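import Groth.Statements.S6386
import Mathlib

set_option autoImplicit false
universe u
open CAlg

namespace Groth.Agent.S6386

/-- The key step of its proof: let A be a ring, κ = max(|A|, ℵ₀), and B a flat A-algebra. Then every
A-subalgebra E ⊆ B with at most κ elements lies inside a flat A-subalgebra B' ⊆ B with at most κ
elements. Consequently B is the filtered colimit (union) of its flat A-subalgebras of cardinality at
most κ. -/
theorem result (A B : Type u) [CommRing A] [CommRing B] [Algebra A B]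
    [Module.Flat A B] (E : Subalgebra A B) (hE : Cardinal.mk E ≤ max (Cardinal.mk A) Cardinal.aleph0) :
    ∃ B' : Subalgebra A B, E ≤ B' ∧ Module.Flat A B' ∧ Cardinal.mk B' ≤ max (Cardinal.mk A) Cardinal.aleph0 := by
  classical
  set κ := max (Cardinal.mk A) Cardinal.aleph0 with hκdef
  have hκ : Cardinal.aleph0 ≤ κ := le_max_right _ _
  have step : ∀ E : {E : Subalgebra A B // Cardinal.mk E ≤ κ}, ∃ E' : {E : Subalgebra A B // Cardinal.mk E ≤ κ},
      E.1 ≤ E'.1 ∧ ∀ L : List (A × E.1), (∑ i : Fin L.length, (L.get i).1 • ((L.get i).2 : B)) = 0 →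
        ∃ (k : ℕ) (a : Fin L.length → Fin k → A) (y : Fin k → B),
          (∀ i, ((L.get i).2 : B) = ∑ j, a i j • y j) ∧ (∀ j, ∑ i, (L.get i).1 * a i j = 0) ∧
          ∀ j, y j ∈ E'.1 := by
    rintro ⟨E, hEc⟩
    have wit : ∀ L : List (A × E), ∃ Y : Set B, Cardinal.mk Y ≤ κ ∧
        ((∑ i : Fin L.length, (L.get i).1 • ((L.get i).2 : B)) = 0 →
        ∃ (k : ℕ) (a : Fin L.length → Fin k → A) (y : Fin k → B),
          (∀ i, ((L.get i).2 : B) = ∑ j, a i j • y j) ∧ (∀ j, ∑ i, (L.get i).1 * a i j = 0) ∧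
          ∀ j, y j ∈ Y) := fun L => by
      by_cases h : (∑ i : Fin L.length, (L.get i).1 • ((L.get i).2 : B)) = 0
      · obtain ⟨k, a, y, h1, h2⟩ := (Module.Flat.iff_forall_isTrivialRelation.1 ‹Module.Flat A B›) h
        exact ⟨Set.range y, (Set.finite_range y).lt_aleph0.le.trans hκ,
          fun _ => ⟨k, a, y, h1, h2, fun j => ⟨j, rfl⟩⟩⟩
      · exact ⟨∅, by simp, fun h' => absurd h' h⟩
    choose Y hYc hY using wit
    have hL : Cardinal.mk (List (A × E)) ≤ κ := by
      refine (Cardinal.mk_list_le_max _).trans (max_le hκ ?_)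
      rw [Cardinal.mk_prod, Cardinal.lift_id, Cardinal.lift_id]
      exact (mul_le_mul' (le_max_left _ _) hEc).trans_eq (Cardinal.mul_eq_self hκ)
    have hU : Cardinal.mk (⋃ L, Y L : Set B) ≤ κ :=
      (Cardinal.mk_iUnion_le Y).trans ((mul_le_mul' hL (ciSup_le' hYc)).trans_eq (Cardinal.mul_eq_self hκ))
    have hgen : Cardinal.mk (((E : Set B) ∪ ⋃ L, Y L : Set B)) ≤ κ :=
      (Cardinal.mk_union_le _ _).trans ((add_le_add hEc hU).trans_eq (Cardinal.add_eq_self hκ))
    refine ⟨⟨Algebra.adjoin A ((E : Set B) ∪ ⋃ L, Y L), (Algebra.cardinalMk_adjoin_le A _).trans ?_⟩,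
      fun x hx => Algebra.subset_adjoin (Or.inl hx), fun L h => ?_⟩
    · exact max_le (max_le (le_max_left _ _) hgen) hκ
    · obtain ⟨k, a, y, h1, h2, h3⟩ := hY L h
      exact ⟨k, a, y, h1, h2, fun j => Algebra.subset_adjoin (Or.inr (Set.mem_iUnion.2 ⟨L, h3 j⟩))⟩
  choose f hf1 hf2 using step
  let ch : ℕ → {E : Subalgebra A B // Cardinal.mk E ≤ κ} := fun n => f^[n] ⟨E, hE⟩
  have hmono : Monotone fun n => (ch n).1 := monotone_nat_of_le_succ fun n => by
    simp only [ch, Function.iterate_succ_apply']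
    exact hf1 _
  have hcoe : ((⨆ n, (ch n).1 : Subalgebra A B) : Set B) = ⋃ n, ((ch n).1 : Set B) :=
    Subalgebra.coe_iSup_of_directed hmono.directed_le
  refine ⟨⨆ n, (ch n).1, le_iSup_of_le 0 (le_refl E), ?_, ?_⟩
  · refine Module.Flat.iff_forall_isTrivialRelation.2 fun {l g x} hgx => ?_
    have hx : ∀ i, ∃ n, (x i : B) ∈ (ch n).1 := fun i => by
      have := (x i).2
      rw [← SetLike.mem_coe, hcoe] at this
      exact Set.mem_iUnion.1 this
    choose N hN using hx
    let M := Finset.univ.sup N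
    have hM : ∀ i, (x i : B) ∈ (ch M).1 := fun i => hmono (Finset.le_sup (Finset.mem_univ i)) (hN i)
    let L : List (A × (ch M).1) := List.ofFn fun i => (g i, ⟨(x i : B), hM i⟩)
    have hlen : L.length = l := List.length_ofFn
    have hget : ∀ i : Fin L.length, L.get i = (g (Fin.cast hlen i), ⟨(x (Fin.cast hlen i) : B), hM _⟩) := fun i =>
      List.get_ofFn _ _
    have hsum : (∑ i : Fin L.length, (L.get i).1 • ((L.get i).2 : B)) = 0 := by
      have := congrArg Subtype.val hgx
      simp only [AddSubmonoidClass.coe_finsetSum, SetLike.val_smul, ZeroMemClass.coe_zero] at this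
      rw [← this]
      exact Fintype.sum_equiv (finCongr hlen) _ _ fun i => by rw [hget i]; rfl
    obtain ⟨k, a, y, h1, h2, h3⟩ := hf2 (ch M) L hsum
    have hy : ∀ j, y j ∈ (⨆ n, (ch n).1 : Subalgebra A B) := fun j =>
      le_iSup (fun n => (ch n).1) (M + 1) (by simpa only [ch, Function.iterate_succ_apply'] using h3 j)
    refine ⟨k, fun i => a (Fin.cast hlen.symm i), fun j => ⟨y j, hy j⟩, fun i => Subtype.ext ?_, fun j => ?_⟩
    · have := h1 (Fin.cast hlen.symm i)
      rw [hget] at this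
      simp only [AddSubmonoidClass.coe_finsetSum, SetLike.val_smul]
      exact this
    · rw [← h2 j]
      exact (Fintype.sum_equiv (finCongr hlen) _ _ fun i => by rw [hget i]; rfl).symm
  · show Cardinal.mk ((⨆ n, (ch n).1 : Subalgebra A B) : Set B) ≤ κ
    rw [hcoe]
    refine (Cardinal.mk_iUnion_le_lift (fun n => ((ch n).1 : Set B))).trans' (by simp) |>.trans ?_
    rw [Cardinal.mk_nat, Cardinal.lift_aleph0]
    exact (mul_le_mul' hκ (ciSup_le' fun n => by simpa using (ch n).2)).trans_eq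
      (Cardinal.mul_eq_self hκ)

end Groth.Agent.S6386
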