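import Groth.Statements.S6387
import Groth.Agent.S0393
import Mathlib.Algebra.Homology.ShortComplex.ModuleCat
import Mathlib.Algebra.Category.ModuleCat.ChangeOfRings
import Mathlib.LinearAlgebra.TensorProduct.Quotient


set_option autoImplicit false
universe u
open CategoryTheory
open CAlg

namespace Groth.Agent.S6387

open TensorProduct

theorem flat_transfer {R S : Type u} [CommRing R] [CommRing S] [Algebra R S] (H : ModuleCat.{u} S) (Q : Type u)
    [AddCommGroup Q] [Module S Q] [Module R Q] [IsScalarTower R S Q] [Module.Flat R Q] (q : H ≃ₗ[S] Q) :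
    Module.Flat R ((ModuleCat.restrictScalars (algebraMap R S)).obj H) := by
  letI : Module R (H : Type u) := Module.compHom H (algebraMap R S)
  haveI : IsScalarTower R S H := IsScalarTower.of_algebraMap_smul fun _ _ => rfl
  exact Module.Flat.of_linearEquiv (q.restrictScalars R)

theorem flat_quot_transfer {R S : Type u} [CommRing R] [CommRing S] [Algebra R S] (H : ModuleCat.{u} S) {X : Type u}
    [AddCommGroup X] [Module S X] [Module R X] [IsScalarTower R S X] (p : Submodule S X) (h : Module.Flat R (X ⧸ p))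
    (q : H ≃ₗ[S] X ⧸ p) : Module.Flat R ((ModuleCat.restrictScalars (algebraMap R S)).obj H) :=
  flat_transfer H (X ⧸ p) q

theorem tmul_one_eq_zero_iff {R : Type u} [CommRing R] (I : Ideal R) {M : Type u} [AddCommGroup M] [Module R M]
    (m : M) : (1 : R ⧸ I) ⊗ₜ[R] m = 0 ↔ m ∈ I • (⊤ : Submodule R M) := by
  rw [← (TensorProduct.quotTensorEquivQuotSMul M I).map_eq_zero_iff, ← map_one (Ideal.Quotient.mk I),
    TensorProduct.quotTensorEquivQuotSMul_mk_tmul, one_smul, Submodule.Quotient.mk_eq_zero]

theorem lift_of_exact {S A B C : Type u} [CommRing S] (J : Ideal S) [AddCommGroup A] [Module S A] [AddCommGroup B]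
    [Module S B] [AddCommGroup C] [Module S C] (f : A →ₗ[S] B) (g : B →ₗ[S] C)
    (h : ∀ x : (S ⧸ J) ⊗[S] B, g.lTensor (S ⧸ J) x = 0 → ∃ z, f.lTensor (S ⧸ J) z = x)
    (y : B) (hy : g y ∈ J • (⊤ : Submodule S C)) : ∃ z, y - f z ∈ J • (⊤ : Submodule S B) := by
  obtain ⟨z, hz⟩ := h (1 ⊗ₜ y) (by rw [LinearMap.lTensor_tmul]; exact (tmul_one_eq_zero_iff J _).2 hy)
  obtain ⟨z', rfl⟩ := TensorProduct.mk_surjective S A (S ⧸ J) Ideal.Quotient.mk_surjective z
  refine ⟨z', (tmul_one_eq_zero_iff J _).1 ?_⟩
  rw [TensorProduct.tmul_sub, ← hz]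
  exact sub_self _

theorem step {R S A B C : Type u} [CommRing R] [CommRing S] [IsLocalRing R] [IsLocalRing S] [IsNoetherianRing S]
    [Algebra R S] [IsLocalHom (algebraMap R S)]
    [AddCommGroup A] [Module S A] [AddCommGroup B] [Module S B] [Module R B] [IsScalarTower R S B] [Module.Finite S B]
    [AddCommGroup C] [Module S C] [Module R C] [IsScalarTower R S C] [Module.Flat R C]
    (f : A →ₗ[S] B) (g : B →ₗ[S] C) (hgf : ∀ a, g (f a) = 0)
    (h : ∀ y, g y ∈ (IsLocalRing.maximalIdeal R).map (algebraMap R S) • (⊤ : Submodule S C) →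
      ∃ z, y - f z ∈ (IsLocalRing.maximalIdeal R).map (algebraMap R S) • (⊤ : Submodule S B)) :
    (∀ y, g y = 0 → ∃ z, f z = y) ∧ Module.Flat R (C ⧸ LinearMap.range g) := by
  have hres : ∀ (X : Type u) [AddCommGroup X] [Module S X] [Module R X] [IsScalarTower R S X] (x : X),
      x ∈ (IsLocalRing.maximalIdeal R).map (algebraMap R S) • (⊤ : Submodule S X) ↔
      x ∈ IsLocalRing.maximalIdeal R • (⊤ : Submodule R X) := fun X _ _ _ _ x => by
    rw [← Submodule.restrictScalars_top R S X, ← Ideal.smul_restrictScalars]; rfl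
  let u := (LinearMap.range f).liftQ g (by rintro _ ⟨a, rfl⟩; exact hgf a)
  have hu : Function.Injective (LinearMap.lTensor (IsLocalRing.ResidueField R) (u.restrictScalars R)) := by
    rw [injective_iff_map_eq_zero]
    intro x hx
    obtain ⟨q, rfl⟩ := TensorProduct.mk_surjective R (B ⧸ LinearMap.range f) (IsLocalRing.ResidueField R)
      Ideal.Quotient.mk_surjective x
    obtain ⟨y, rfl⟩ := Submodule.Quotient.mk_surjective _ q
    have h1 : g y ∈ (IsLocalRing.maximalIdeal R).map (algebraMap R S) • (⊤ : Submodule S C) :=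
      (hres C _).2 ((tmul_one_eq_zero_iff _ _).1 hx)
    obtain ⟨z, hz⟩ := h y h1
    refine (tmul_one_eq_zero_iff _ _).2 ((hres _ _).1 ?_)
    have h2 : Submodule.Quotient.mk (p := LinearMap.range f) y = Submodule.Quotient.mk (y - f z) :=
      (Submodule.Quotient.eq _).2 (by simp)
    rw [h2]
    have := Submodule.smul_mono (le_refl ((IsLocalRing.maximalIdeal R).map (algebraMap R S)))
      (le_top : Submodule.map (LinearMap.range f).mkQ ⊤ ≤ ⊤)
    exact this (Submodule.map_smul'' _ ⊤ (LinearMap.range f).mkQ ▸ Submodule.mem_map_of_mem hz)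
  obtain ⟨hinj, hfl⟩ := Groth.Agent.S0393.result (R := R) (S := S) (u.restrictScalars R) hu
  refine ⟨fun y hy => ?_, ?_⟩
  · exact (Submodule.Quotient.mk_eq_zero (LinearMap.range f)).1
      (hinj (a₁ := Submodule.Quotient.mk y) (a₂ := 0) (by simp [u, hy]))
  · have hr : LinearMap.range g = LinearMap.range u := by rw [Submodule.range_liftQ]
    rw [hr]
    exact hfl



/-- Let R and S be Noetherian local rings, R → S a local ring map, and m the maximal ideal of R. Take a
bounded complex F_e → … → F_1 → F_0 of finitely generated S-modules, zero to the left of F_e (a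
chain complex C with C_j = 0 for j > e) such that every F_j is flat over R and the complex 0 →
F_e/mF_e → … → F_0/mF_0 (C tensored over S with S/mS) is exact at F_e, …, F_1. Then 0 → F_e → … →
F_0 is exact at F_e, …, F_1 and the cokernel of F_1 → F_0 (the homology of C in degree 0) is flat
over R. -/
theorem result {R S : Type u} [CommRing R] [CommRing S]
    [IsLocalRing R] [IsLocalRing S] [IsNoetherianRing R] [IsNoetherianRing S] [Algebra R S]
    [IsLocalHom (algebraMap R S)] (C : ChainComplex (ModuleCat.{u} S) ℕ) (e : ℕ)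
    (hzero : ∀ j, e < j → Limits.IsZero (C.X j)) (hfin : ∀ j, Module.Finite S (C.X j))
    (hflat : ∀ j, Module.Flat R ((ModuleCat.restrictScalars (algebraMap R S)).obj (C.X j)))
    (hex : ∀ j, 1 ≤ j → j ≤ e →
      (((MonoidalCategory.tensorLeft
          (ModuleCat.of S (S ⧸ (IsLocalRing.maximalIdeal R).map (algebraMap R S)))).mapHomologicalComplex
          (ComplexShape.down ℕ)).obj C).ExactAt j) :
    (∀ j, 1 ≤ j → j ≤ e → C.ExactAt j) ∧
      Module.Flat R ((ModuleCat.restrictScalars (algebraMap R S)).obj (C.homology 0)) := by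
  letI := fun j => Module.compHom (C.X j : Type u) (algebraMap R S)
  haveI : ∀ j, IsScalarTower R S (C.X j) := fun j => IsScalarTower.of_algebraMap_smul fun _ _ => rfl
  haveI : ∀ j, Module.Flat R (C.X j) := hflat
  haveI := hfin
  let J : Ideal S := (IsLocalRing.maximalIdeal R).map (algebraMap R S)
  have hh : ∀ j, ∀ y : C.X (j + 1), (C.d (j + 1) j).hom y ∈ J • (⊤ : Submodule S (C.X j)) →
      ∃ z, y - (C.d (j + 2) (j + 1)).hom z ∈ J • (⊤ : Submodule S (C.X (j + 1))) := by
    intro j y hy
    by_cases hje : e < j + 1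
    · haveI := ModuleCat.subsingleton_of_isZero (hzero (j + 1) hje)
      exact ⟨0, by rw [Subsingleton.elim (y - _) 0]; exact zero_mem _⟩
    have h := hex (j + 1) (by omega) (by omega)
    rw [HomologicalComplex.exactAt_iff' _ (j + 2) (j + 1) j (by simp) (by simp),
      ShortComplex.moduleCat_exact_iff] at h
    exact lift_of_exact J (C.d (j + 2) (j + 1)).hom (C.d (j + 1) j).hom (fun x hx => h x hx) y hy
  have key := fun j => step (R := R) (C.d (j + 2) (j + 1)).hom (C.d (j + 1) j).hom
    (fun x => congrArg (fun φ => φ.hom x) (C.d_comp_d (j + 2) (j + 1) j)) (hh j)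
  refine ⟨fun j hj _ => ?_, ?_⟩
  · obtain ⟨i, rfl⟩ : ∃ i, j = i + 1 := ⟨j - 1, by omega⟩
    rw [HomologicalComplex.exactAt_iff' _ (i + 2) (i + 1) i (by simp) (by simp),
      ShortComplex.moduleCat_exact_iff]
    exact (key i).1
  · let q := (C.isoHomologyι 0 _ rfl (C.shape _ _ (by simp)) ≪≫
      (C.opcyclesIsCokernel 1 0 (by simp)).coconePointUniqueUpToIso
        (ModuleCat.cokernelIsColimit (C.d 1 0))).toLinearEquiv
    have := (key 0).2
    exact flat_quot_transfer (C.homology 0) (LinearMap.range (C.d 1 0).hom) this q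

end Groth.Agent.S6387
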