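import Groth.Statements.S6388
import Groth.Agent.Lib.UnivInj.Basic
-- import your own Groth.Agent.* helpers here

set_option autoImplicit false
universe u
open CAlg

namespace Groth.Agent.S6388
open TensorProduct

/-- Let f : M → N and g : M → M' be maps of R-modules and let N' be their pushout, realised as the
quotient of M' × N by the submodule of elements (g x, -f x). Then g dominates f — for every module Q
the kernel of f ⊗ id_Q is contained in the kernel of g ⊗ id_Q — if and only if the canonical map M'
→ N' is universally injective. -/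
theorem result (R : Type u) [CommRing R] {M N M' : Type u}
    [AddCommGroup M] [Module R M] [AddCommGroup N] [Module R N] [AddCommGroup M'] [Module R M']
    (f : M →ₗ[R] N) (g : M →ₗ[R] M') :
    (∀ (Q : Type u) [AddCommGroup Q] [Module R Q], LinearMap.ker (f.rTensor Q) ≤ LinearMap.ker (g.rTensor Q)) ↔
      CAlgX.UniversallyInjective R
        ((LinearMap.range (g.prod (-f))).mkQ ∘ₗ LinearMap.inl R M' N) := by
  let P := LinearMap.range (g.prod (-f))
  have hex : ∀ (Q : Type u) [AddCommGroup Q] [Module R Q],
      Function.Exact ((g.prod (-f)).rTensor Q) (P.mkQ.rTensor Q) := fun Q _ _ =>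
    rTensor_exact Q (LinearMap.exact_map_mkQ_range _) (Submodule.mkQ_surjective _)
  have h1 : ∀ (Q : Type u) [AddCommGroup Q] [Module R Q] (t : M ⊗[R] Q),
      (LinearMap.fst R M' N).rTensor Q ((g.prod (-f)).rTensor Q t) = g.rTensor Q t ∧
      (LinearMap.snd R M' N).rTensor Q ((g.prod (-f)).rTensor Q t) = -f.rTensor Q t := fun Q _ _ t => by
    rw [← LinearMap.comp_apply, ← LinearMap.comp_apply, ← LinearMap.rTensor_comp, ← LinearMap.rTensor_comp,
      LinearMap.fst_prod, LinearMap.snd_prod, LinearMap.rTensor_neg, LinearMap.neg_apply]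
    exact ⟨rfl, rfl⟩
  have hdec : ∀ (Q : Type u) [AddCommGroup Q] [Module R Q] (w : (M' × N) ⊗[R] Q),
      w = (LinearMap.inl R M' N).rTensor Q ((LinearMap.fst R M' N).rTensor Q w) +
        (LinearMap.inr R M' N).rTensor Q ((LinearMap.snd R M' N).rTensor Q w) := fun Q _ _ w => by
    induction w using TensorProduct.induction_on with
    | zero => simp
    | tmul p q => obtain ⟨a, b⟩ := p; simp [← TensorProduct.add_tmul]
    | add a b ha hb => simp only [map_add]; conv_lhs => rw [ha, hb]
                       abel
  constructor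
  · intro h Q _ _
    rw [injective_iff_map_eq_zero]
    intro z hz
    rw [LinearMap.rTensor_comp, LinearMap.comp_apply] at hz
    obtain ⟨t, ht⟩ := (hex Q _).1 hz
    have hs := congrArg ((LinearMap.snd R M' N).rTensor Q) ht
    have hfst := congrArg ((LinearMap.fst R M' N).rTensor Q) ht
    rw [(h1 Q t).2, ← LinearMap.comp_apply, ← LinearMap.rTensor_comp, LinearMap.snd_comp_inl,
      LinearMap.rTensor_zero, LinearMap.zero_apply, neg_eq_zero] at hs
    rw [(h1 Q t).1, ← LinearMap.comp_apply, ← LinearMap.rTensor_comp, LinearMap.fst_comp_inl,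
      LinearMap.rTensor_id, LinearMap.id_apply] at hfst
    rw [← hfst]
    exact h Q hs
  · intro h Q _ _ t ht
    rw [LinearMap.mem_ker] at ht ⊢
    refine h Q ?_
    rw [map_zero, LinearMap.rTensor_comp, LinearMap.comp_apply, hex Q]
    refine ⟨t, ?_⟩
    rw [hdec Q ((g.prod (-f)).rTensor Q t), (h1 Q t).1, (h1 Q t).2, ht, neg_zero, map_zero, add_zero]

end Groth.Agent.S6388
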