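import Groth.Statements.S6391
import Mathlib
import Groth.Agent.Lib.GeomFact.Lift
-- import your own Groth.Agent.* helpers here

set_option autoImplicit false
universe u
open CAlg

namespace Groth.Agent.S6391

/-- Let R be a ring, S and S' henselian local rings which are filtered colimits of étale R-algebras, and
K a field together with R-algebra maps S → K and S' → K identifying K with the residue field of each
(surjective with kernel the maximal ideal). Then exactly one isomorphism of R-algebras S → S'
commutes with the two maps to K. -/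
theorem result (R S S' K : Type u) [CommRing R]
    [CommRing S] [CommRing S'] [Field K] [HenselianLocalRing S] [HenselianLocalRing S']
    [Algebra R S] [Algebra R S'] [Algebra R K] (hS : EtPBC.IsIndEtale R S) (hS' : EtPBC.IsIndEtale R S')
    (u : S →ₐ[R] K) (u' : S' →ₐ[R] K) (hu : Function.Surjective u) (hu' : Function.Surjective u')
    (hku : RingHom.ker u.toRingHom = IsLocalRing.maximalIdeal S)
    (hku' : RingHom.ker u'.toRingHom = IsLocalRing.maximalIdeal S') :
    ∃! e : S ≃ₐ[R] S', u'.comp (e : S →ₐ[R] S') = u := by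
  classical
  have huniq : ∀ (B T : Type u) [CommRing B] [CommRing T] [HenselianLocalRing T] [Algebra R B] [Algebra R T],
      EtPBC.IsIndEtale R B → ∀ f g : B →ₐ[R] T,
      (∀ b, IsLocalRing.residue T (f b) = IsLocalRing.residue T (g b)) → f = g := by
    intro B T _ _ _ _ _ hB f g hfg
    refine AlgHom.ext fun y => ?_
    obtain ⟨V, _, _, _, v, x, hx⟩ := GrothLib.IndEt.exists_etale_lift hB (fun _ : Unit => y)
    have h := (GrothLib.Hensel.existsUnique_lift_residue (R := R) (S := T) (A := V)
      ((IsLocalRing.residue T).comp (f.comp v).toRingHom) (by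
        rw [RingHom.comp_assoc]; erw [(f.comp v).comp_algebraMap])).unique
      (y₁ := f.comp v) (y₂ := g.comp v) (fun _ => rfl) (fun z => (hfg (v z)).symm)
    rw [← hx ()]
    exact AlgHom.congr_fun h (x ())
  have hlift : ∀ (B T : Type u) [CommRing B] [CommRing T] [HenselianLocalRing T] [Algebra R B] [Algebra R T]
      (a : B →ₐ[R] K) (b : T →ₐ[R] K), EtPBC.IsIndEtale R B → Function.Surjective b →
      RingHom.ker b.toRingHom = IsLocalRing.maximalIdeal T →
      ∃ g : B →ₐ[R] T, ∀ z, b (g z) = a z := by
    intro B T _ _ _ _ _ a b hB hb hk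
    let θ : IsLocalRing.ResidueField T ≃+* K := (Ideal.quotEquivOfEq hk.symm).trans
      (RingHom.quotientKerEquivOfSurjective (f := b.toRingHom) hb)
    have hθ : ∀ t, θ (IsLocalRing.residue T t) = b t := fun t => rfl
    obtain ⟨g, hg⟩ := GrothLib.GeomFact.exists_algHom_lift hB (T := T) (θ.symm.toRingHom.comp a.toRingHom)
      (RingHom.ext fun r => by
        show θ.symm (a (algebraMap R B r)) = IsLocalRing.residue T (algebraMap R T r)
        rw [θ.symm_apply_eq, hθ, a.commutes, b.commutes])
    refine ⟨g, fun z => ?_⟩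
    rw [← hθ, hg]
    exact θ.apply_symm_apply (a z)
  have hres : ∀ (T : Type u) [CommRing T] [IsLocalRing T] [Algebra R T] (b : T →ₐ[R] K),
      RingHom.ker b.toRingHom = IsLocalRing.maximalIdeal T → ∀ x y : T, b x = b y →
      IsLocalRing.residue T x = IsLocalRing.residue T y := by
    intro T _ _ _ b hk x y hxy
    rw [← sub_eq_zero, ← map_sub, IsLocalRing.residue_eq_zero_iff, ← hk, RingHom.mem_ker]
    show b (x - y) = 0
    rw [map_sub, hxy, sub_self]
  obtain ⟨g, hg⟩ := hlift S S' u u' hS hu' hku'
  obtain ⟨g', hg'⟩ := hlift S' S u' u hS' hu hku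
  have h1 : g.comp g' = AlgHom.id R S' := huniq S' S' hS' _ _ fun z => hres S' u' hku' _ _ (by
    show u' (g (g' z)) = u' z
    rw [hg, hg'])
  have h2 : g'.comp g = AlgHom.id R S := huniq S S hS _ _ fun z => hres S u hku _ _ (by
    show u (g' (g z)) = u z
    rw [hg', hg])
  refine ⟨AlgEquiv.ofAlgHom g g' h1 h2, AlgHom.ext hg, fun e he => ?_⟩
  refine AlgEquiv.ext fun z => ?_
  have := huniq S S' hS (e : S →ₐ[R] S') g fun z => hres S' u' hku' _ _
    ((AlgHom.congr_fun he z).trans (hg z).symm)
  exact AlgHom.congr_fun this z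

end Groth.Agent.S6391
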