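import Groth.Statements.S6392
import Groth.Agent.Lib.ML.Limit

set_option autoImplicit false
universe u
open CAlg

namespace Groth.Agent.S6392

/-- Suppose M is the colimit of finitely presented R-modules G_i along a directed system over a nonempty
directed index set (transition maps f_ij), and M is both Mittag-Leffler and countably generated.
Then some countable directed subset I' of the indices already computes M: the canonical map from the
colimit of the G_i with i ∈ I' to M is bijective. -/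
theorem result (R : Type u) [CommRing R]
    {ι : Type u} [Preorder ι] [IsDirected ι (· ≤ ·)] [Nonempty ι] [DecidableEq ι] (G : ι → Type u)
    [∀ i, AddCommGroup (G i)] [∀ i, Module R (G i)] [∀ i, Module.FinitePresentation R (G i)]
    (f : ∀ i j, i ≤ j → G i →ₗ[R] G j) [DirectedSystem G fun i j h => f i j h]
    (hML : CAlg.IsMittagLeffler R (Module.DirectLimit G f))
    (hc : CAlg.IsCountablyGenerated R (Module.DirectLimit G f)) :
    ∃ I' : Set ι, I'.Countable ∧ DirectedOn (· ≤ ·) I' ∧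
      Function.Bijective (Module.DirectLimit.lift R I' (fun i : I' => G i.1)
        (fun (i j : I') (h : i ≤ j) => f i.1 j.1 h)
        (fun i : I' => Module.DirectLimit.of R ι G f i.1)
        (fun (i j : I') (h : i ≤ j) (x : G i.1) => Module.DirectLimit.of_f)) := by
  classical
  choose nx hnx hdom using (GrothLib.ML.ml_directLimit_iff f).1 hML
  obtain ⟨s, hs, hspan⟩ := hc
  choose idx rep hrep using fun x : Module.DirectLimit G f => Module.DirectLimit.exists_of x
  choose ub hub₁ hub₂ using fun a b : ι => exists_ge_ge a b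
  let i₀ : ι := Classical.arbitrary ι
  let S : ℕ → Set ι := fun n => Nat.rec (insert i₀ (idx '' s))
    (fun _ T => T ∪ nx '' T ∪ Set.image2 ub T T) n
  have hScount : ∀ n, (S n).Countable := by
    intro n
    induction n with
    | zero => exact (hs.image idx).insert i₀
    | succ n ih => exact (ih.union (ih.image nx)).union (ih.image2 ih ub)
  have hmono : Monotone S := monotone_nat_of_le_succ fun n x hx => Or.inl (Or.inl hx)
  let I' : Set ι := ⋃ n, S n
  have hnx' : ∀ a ∈ I', nx a ∈ I' := fun a ha => by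
    obtain ⟨n, hn⟩ := Set.mem_iUnion.1 ha
    exact Set.mem_iUnion.2 ⟨n + 1, Or.inl (Or.inr ⟨a, hn, rfl⟩)⟩
  have hub' : ∀ a ∈ I', ∀ b ∈ I', ub a b ∈ I' := fun a ha b hb => by
    obtain ⟨n, hn⟩ := Set.mem_iUnion.1 ha
    obtain ⟨m, hm⟩ := Set.mem_iUnion.1 hb
    exact Set.mem_iUnion.2 ⟨max n m + 1, Or.inr ⟨a, hmono (le_max_left n m) hn, b, hmono (le_max_right n m) hm, rfl⟩⟩
  refine ⟨I', Set.countable_iUnion hScount, fun a ha b hb => ⟨_, hub' a ha b hb, hub₁ a b, hub₂ a b⟩, ?_⟩
  haveI : Nonempty I' := ⟨⟨i₀, Set.mem_iUnion.2 ⟨0, Or.inl rfl⟩⟩⟩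
  haveI : IsDirectedOrder I' := ⟨fun a b => ⟨⟨_, hub' a.1 a.2 b.1 b.2⟩, hub₁ a.1 b.1, hub₂ a.1 b.1⟩⟩
  refine ⟨(injective_iff_map_eq_zero _).2 fun z hz => ?_, ?_⟩
  · obtain ⟨⟨i, hi⟩, g, rfl⟩ := Module.DirectLimit.exists_of z
    rw [Module.DirectLimit.lift_of] at hz
    obtain ⟨k, hik, hk⟩ := Module.DirectLimit.of.zero_exact hz
    obtain ⟨t, ht⟩ := hdom i k hik
    have h0 : f i (nx i) (hnx i) g = 0 := by rw [ht, LinearMap.comp_apply, hk, map_zero]
    rw [← Module.DirectLimit.of_f (hij := (show (⟨i, hi⟩ : I') ≤ ⟨nx i, hnx' i hi⟩ from hnx i)), h0, map_zero]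
  · rw [← LinearMap.range_eq_top, eq_top_iff, ← hspan, Submodule.span_le]
    intro x hx
    exact ⟨Module.DirectLimit.of R I' (fun i : I' => G i.1) _ ⟨idx x, Set.mem_iUnion.2 ⟨0, Or.inr ⟨x, hx, rfl⟩⟩⟩ (rep x),
      (Module.DirectLimit.lift_of _ _ _).trans (hrep x)⟩

end Groth.Agent.S6392
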