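import Groth.Statements.S6398
import Groth.Agent.Lib.FibCat.FiberFunctor


set_option autoImplicit false
set_option backward.isDefEq.respectTransparency false
set_option backward.isDefEq.respectTransparency.types false
open CategoryTheory
universe v u
open FibCat

namespace Groth.Agent.S6398

/-- A functor `G` over `C` between categories fibred in groupoids is an equivalence of categories if and
only if each induced functor of fibre categories `𝒳_U ⥤ 𝒴_U` is an equivalence of categories. -/
theorem result {C : Type u} [Category.{v} C] {𝒳 𝒴 : BasedCategory.{v, max u v} C} (G : 𝒳 ⥤ᵇ 𝒴) (h𝒳 : FibCat.IsFibGrpd 𝒳.p) (h𝒴 : FibCat.IsFibGrpd 𝒴.p) :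
    G.toFunctor.IsEquivalence ↔ ∀ U : C, (FibCat.fiberFunctor G U).IsEquivalence := by
  have := GrothLib.FibCat.IsFibGrpd.isFibered h𝒳
  have hG := GrothLib.FibCat.IsFibGrpd.preservesStronglyCartesian h𝒴 G
  refine ⟨fun h U => ?_, fun h => ?_⟩
  · have hE : FibCat.IsEquivOver G :=
      GrothLib.FibCat.isEquivOver_of_isEquivalence (GrothLib.FibCat.IsFibGrpd.transportable h𝒳) G
    exact { faithful := GrothLib.FibCat.faithful_fiberFunctor G U
            full := GrothLib.FibCat.full_fiberFunctor G U
            essSurj := (GrothLib.FibCat.essSurj_fiberFunctor_iff G).2 (GrothLib.FibCat.IsEquivOver.essSurj hE) U }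
  · exact GrothLib.FibCat.IsEquivOver.isEquivalence (GrothLib.FibCat.FFEssSurjOver.isEquivOver
      ⟨GrothLib.FibCat.full_of_fiberFunctor G hG fun U => inferInstance,
       GrothLib.FibCat.faithful_of_fiberFunctor G hG fun U => inferInstance,
       (GrothLib.FibCat.essSurj_fiberFunctor_iff G).1 fun U => inferInstance⟩)

end Groth.Agent.S6398
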