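import Groth.Statements.S6402
import Groth.Agent.Lib.FibCat.Diag
import Groth.Agent.Lib.FibCat.Inertia


set_option autoImplicit false
set_option backward.isDefEq.respectTransparency false
set_option backward.isDefEq.respectTransparency.types false
open CategoryTheory
universe v u
open FibCat

namespace Groth.Agent.S6402

/-- For a functor `F : 𝒳 ⟶ 𝒴` of fibred categories over `C` preserving strongly cartesian morphisms, the
relative inertia `I_{𝒳/𝒴}` (pairs `(x, α)` with `α` an automorphism of `x` sent to the identity by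
`F`) is equivalent over `C` to `𝒳 ×_{Δ, 𝒳 ×_𝒴 𝒳, Δ} 𝒳`, by a functor over `C` whose composite with
either projection is the forgetful functor `(x, α) ↦ x`. (Only the two projections of the
equivalence are pinned here; its 2-cell component at `(x, α)` is `(α, 𝟙)`.) -/
theorem result {C : Type u} [Category.{v} C] {𝒳 𝒴 : BasedCategory.{v, max u v} C} [𝒳.p.IsFibered] [𝒴.p.IsFibered] (F : 𝒳 ⥤ᵇ 𝒴) (hF : FibCat.PreservesStronglyCartesian F) :
    ∃ E : FibCat.inertia F ⥤ᵇ FibCat.fp (FibCat.diag F) (FibCat.diag F),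
      FibCat.IsEquivOver E ∧ BasedFunctor.comp E (FibCat.fpFst _ _) = FibCat.inertiaToBase F ∧
        BasedFunctor.comp E (FibCat.fpSnd _ _) = FibCat.inertiaToBase F := by
  open GrothLib.FibCat in
  let a := FibCat.inertiaToBase F
  let e : BasedFunctor.comp a (FibCat.diag F) ≅ BasedFunctor.comp a (FibCat.diag F) :=
    natIsoOfComponents (fun x => Fp.isoMk (a := (FibCat.diag F).obj x.pt) (b := (FibCat.diag F).obj x.pt) x.aut (Iso.refl x.pt)
        (by rw [diag_iso]; change F.map x.aut.hom ≫ 𝟙 _ = 𝟙 _ ≫ F.map (𝟙 _); rw [x.map_aut, F.map_id]))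
      (fun x => (Fp.isHomLift_iff _ _).2 (Inertia.vertical x))
      (fun {x y} φ => Fp.hom_ext φ.comm.symm ((Category.comp_id φ.hom).trans (Category.id_comp φ.hom).symm))
  refine ⟨FibCat.fpLift a a e, FFEssSurjOver.isEquivOver ⟨⟨fun {x y} ψ => ?_⟩, ⟨fun {x y φ ψ} h => ?_⟩, fun η => ?_⟩, rfl, rfl⟩
  · let φ₁ : x.pt ⟶ y.pt := ψ.hom.fst
    let φ₂ : x.pt ⟶ y.pt := ψ.hom.snd
    have h2 : φ₁ ≫ 𝟙 y.pt = 𝟙 x.pt ≫ φ₂ := congrArg (fun t => t.hom.snd) (Fp.w ψ)
    have h1 : φ₁ ≫ y.aut.hom = x.aut.hom ≫ φ₂ := congrArg (fun t => t.hom.fst) (Fp.w ψ)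
    have h2' : φ₁ = φ₂ := ((Category.comp_id φ₁).symm.trans h2).trans (Category.id_comp φ₂)
    rw [← h2'] at h1
    exact ⟨⟨φ₁, h1.symm⟩, Fp.hom_ext rfl h2'⟩
  · exact FibCat.InertiaObj.hom_ext (congrArg (fun t => t.hom.fst) h)
  · let u : η.obj.fst ≅ η.obj.snd := Fp.isoFst η.obj.iso
    let v : η.obj.fst ≅ η.obj.snd := Fp.isoSnd η.obj.iso
    have hw : F.map u.hom = F.map v.hom :=
      ((Category.comp_id (F.map u.hom)).symm.trans (Fp.w η.obj.iso.hom)).trans (Category.id_comp (F.map v.hom))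
    have hα : F.map (u ≪≫ v.symm).hom = 𝟙 _ := by
      change F.map (u.hom ≫ v.inv) = 𝟙 _
      rw [F.map_comp, hw, ← F.map_comp, v.hom_inv_id, F.map_id]
    refine ⟨⟨η.obj.fst, u ≪≫ v.symm, hα⟩, Fp.isoMk (Iso.refl η.obj.fst) v ?_, (Fp.isHomLift_iff _ _).2 (IsHomLift.id rfl)⟩
    refine Fp.hom_ext ?_ ?_
    · change 𝟙 η.obj.fst ≫ u.hom = (u.hom ≫ v.inv) ≫ v.hom
      simp
    · change 𝟙 η.obj.fst ≫ v.hom = 𝟙 η.obj.fst ≫ v.hom
      rfl

end Groth.Agent.S6402
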