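import Groth.Statements.S6407
import Groth.Agent.Lib.FibCat.FibSet


set_option autoImplicit false
set_option backward.isDefEq.respectTransparency false
set_option backward.isDefEq.respectTransparency.types false
open CategoryTheory
universe v u
open FibCat

namespace Groth.Agent.S6407

/-- For categories `𝒳, 𝒴` fibred in setoids over `C` and functors `f, g : 𝒳 ⟶ 𝒴` over `C` that agree on
isomorphism classes of objects of each fibre category, there is a unique 2-isomorphism `f ≅ g` over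
`C`. -/
theorem result {C : Type u} [Category.{v} C] {𝒳 𝒴 : BasedCategory.{v, max u v} C} (h𝒳 : FibCat.IsFibSetoid 𝒳.p) (h𝒴 : FibCat.IsFibSetoid 𝒴.p) (f g : 𝒳 ⥤ᵇ 𝒴)
    (hfg : ∀ (U : C) (x : 𝒳.p.Fiber U), Nonempty ((FibCat.fiberFunctor f U).obj x ≅ (FibCat.fiberFunctor g U).obj x)) :
    Nonempty (Unique (f ≅ g)) := by
  classical
  let e : ∀ x : 𝒳.obj, f.obj x ≅ g.obj x := fun x =>
    Functor.Fiber.fiberInclusion.mapIso (hfg (𝒳.p.obj x) ⟨x, rfl⟩).some
  have he : ∀ x, 𝒴.p.IsHomLift (𝟙 (𝒳.p.obj x)) (e x).hom := fun x => (hfg (𝒳.p.obj x) ⟨x, rfl⟩).some.hom.2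
  let α : f ≅ g := GrothLib.FibCat.natIsoOfComponents e he fun {x y} φ => by
    have := he x; have := he y
    exact GrothLib.FibCat.IsFibSetoid.hom_ext' h𝒴 (𝒳.p.map φ)
  exact ⟨{ default := α, uniq := fun β => GrothLib.FibCat.iso_ext fun x =>
    have := β.hom.isHomLift' x
    have := α.hom.isHomLift' x
    GrothLib.FibCat.IsFibSetoid.hom_ext' h𝒴 (𝟙 (𝒳.p.obj x)) }⟩

end Groth.Agent.S6407
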