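import Groth.Statements.S6408
import Groth.Agent.Lib.FibCat.FibSet


set_option autoImplicit false
set_option backward.isDefEq.respectTransparency false
set_option backward.isDefEq.respectTransparency.types false
open CategoryTheory
universe v u
open FibCat

namespace Groth.Agent.S6408

/-- Between categories fibred in sets over `C` the only 2-morphisms over `C` are identities. -/
theorem result {C : Type u} [Category.{v} C] {𝒳 𝒴 : BasedCategory.{v, max u v} C} (h𝒳 : FibCat.IsFibSet 𝒳.p) (h𝒴 : FibCat.IsFibSet 𝒴.p) {F G : 𝒳 ⥤ᵇ 𝒴} (α : F ⟶ G) :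
    ∃ h : F = G, α = eqToHom h := by
  have hobj : ∀ x, F.obj x = G.obj x := fun x =>
    have := α.isHomLift' x
    GrothLib.FibCat.IsFibSet.eq_of_iso h𝒴 (R := 𝒳.p.obj x) (α.toNatTrans.app x)
  have happ : ∀ x, α.toNatTrans.app x = eqToHom (hobj x) := fun x =>
    have := α.isHomLift' x
    GrothLib.FibCat.IsFibSet.map_eq_eqToHom h𝒴 (R := 𝒳.p.obj x) (α.toNatTrans.app x)
  have hF : F.toFunctor = G.toFunctor := CategoryTheory.Functor.ext hobj fun x y φ => by
    have := α.toNatTrans.naturality φ
    rw [happ, happ] at this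
    rw [← Category.assoc, ← this]
    simp
  obtain ⟨F, wF⟩ := F
  obtain ⟨G, wG⟩ := G
  obtain rfl : F = G := hF
  refine ⟨rfl, GrothLib.FibCat.natTrans_ext fun x => ?_⟩
  rw [happ]
  rfl

end Groth.Agent.S6408
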