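import Groth.Statements.S6413
import Groth.Agent.Lib.FibCat.OverCat


set_option autoImplicit false
set_option backward.isDefEq.respectTransparency false
set_option backward.isDefEq.respectTransparency.types false
open CategoryTheory
universe v u
open FibCat

namespace Groth.Agent.S6413

/-- For `𝒳, 𝒴` fibred in groupoids over `C` and `F : 𝒳 ⟶ 𝒴` over `C`, the projection `𝒳 ×_{F, 𝒴, id} 𝒴 ⟶
𝒴` is a category fibred in groupoids over `𝒴`. -/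
theorem result {C : Type u} [Category.{v} C] {𝒳 𝒴 : BasedCategory.{v, max u v} C} (h𝒳 : FibCat.IsFibGrpd 𝒳.p) (h𝒴 : FibCat.IsFibGrpd 𝒴.p) (F : 𝒳 ⥤ᵇ 𝒴) :
    FibCat.IsFibGrpd (FibCat.fpSnd F (BasedFunctor.id 𝒴)).toFunctor := by
  open GrothLib.FibCat in
  refine ⟨fun {a} {V} ψ => ?_, fun {b a} φ => ?_⟩
  · obtain ⟨x', φ, hφ⟩ := IsFibGrpd.exists_lift_of_eq h𝒳 (Fp.snd_proj a).symm (𝒴.p.map ψ)
    have := Fp.iso_lift a
    have : 𝒴.p.IsHomLift (𝟙 (𝒴.p.obj V) ≫ 𝒴.p.map ψ) (F.map φ ≫ a.obj.iso.hom) := by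
      rw [Category.id_comp]
      exact IsHomLift.comp_lift_id_right' 𝒴.p (𝒴.p.map ψ) (F.map φ) (𝒳.p.obj a.obj.fst) a.obj.iso.hom
    obtain ⟨χ, ⟨hχ, hχ'⟩, -⟩ := IsFibGrpd.existsUnique_lift h𝒴 (𝒴.p.map ψ) (𝟙 (𝒴.p.obj V)) ψ (F.map φ ≫ a.obj.iso.hom)
    have := IsFibGrpd.isIso_of_isHomLift_id h𝒴 (R := 𝒴.p.obj V) χ
    let e : F.obj x' ≅ (BasedFunctor.id 𝒴).obj V := asIso χ
    have he : 𝒴.p.IsHomLift (𝟙 (𝒳.p.obj x')) e.hom :=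
      isHomLift_id_of_eq 𝒴.p (R := 𝒴.p.obj V) χ (Or.inl (F.w_obj x'))
    let w : Fp.mk (F := F) (G := BasedFunctor.id 𝒴) x' V e he ⟶ a := Fp.homMk φ ψ hχ'.symm
    exact ⟨_, w, IsHomLift.map (FibCat.fpSnd F (BasedFunctor.id 𝒴)).toFunctor w⟩
  · have hc : FibCat.IsFibGrpd ((FibCat.fpSnd F (BasedFunctor.id 𝒴)).toFunctor ⋙ 𝒴.p) := by
      rw [(FibCat.fpSnd F (BasedFunctor.id 𝒴)).w]; exact Fp.isFibGrpd h𝒳 h𝒴 h𝒴
    have := hc.isStronglyCartesian φ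
    exact Tower.isStronglyCartesian_of_comp (F := (FibCat.fpSnd F (BasedFunctor.id 𝒴)).toFunctor) (G := 𝒴.p)
      (fun _ _ ψ h h' => IsFibGrpd.hom_ext' h𝒴 ψ h h') (((FibCat.fpSnd F (BasedFunctor.id 𝒴)).toFunctor ⋙ 𝒴.p).map φ) φ

end Groth.Agent.S6413
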