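import Groth.Statements.S6417


set_option autoImplicit false
set_option backward.isDefEq.respectTransparency false
set_option backward.isDefEq.respectTransparency.types false
open CategoryTheory CategoryTheory.Limits
universe v₁ u₁ v₂ u₂
open FibCat

namespace Groth.Agent.S6417

open CategoryTheory.Functor CategoryTheory.Limits

/-- For `p : 𝒮 ⥤ C`, a strongly cartesian `φ : x ⟶ y`, any `ψ : z ⟶ y`, and a strongly cartesian `a : w
⟶ z` lying over the second projection of `p x ×_{p y} p z`, the object `w` is a fibre product `x ×_y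
z`: there is `b : w ⟶ x` over the first projection with `(b, a)` a pullback square. -/
theorem result {𝒮 : Type u₁} [Category.{v₁} 𝒮] {C : Type u₂} [Category.{v₂} C] (p : 𝒮 ⥤ C) {x y z w : 𝒮} (φ : x ⟶ y) (ψ : z ⟶ y)
    [p.IsStronglyCartesian (p.map φ) φ] [HasPullback (p.map φ) (p.map ψ)] (a : w ⟶ z)
    [p.IsStronglyCartesian (pullback.snd (p.map φ) (p.map ψ)) a] :
    ∃ b : w ⟶ x, p.IsHomLift (pullback.fst (p.map φ) (p.map ψ)) b ∧ IsPullback b a φ ψ := by
    let q₁ := pullback.fst (p.map φ) (p.map ψ)
    let q₂ := pullback.snd (p.map φ) (p.map ψ)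
    have hq : q₁ ≫ p.map φ = q₂ ≫ p.map ψ := pullback.condition
    let b := IsStronglyCartesian.map p (p.map φ) φ (g := q₁) hq.symm (a ≫ ψ)
    have hb : p.IsHomLift q₁ b := IsStronglyCartesian.map_isHomLift p (p.map φ) φ _ (a ≫ ψ)
    have hw : b ≫ φ = a ≫ ψ := IsStronglyCartesian.fac p (p.map φ) φ _ (a ≫ ψ)
    refine ⟨b, hb, ⟨⟨hw⟩, ⟨?_⟩⟩⟩
    refine PullbackCone.IsLimit.mk hw ?_ ?_ ?_ ?_
    · exact fun s => IsStronglyCartesian.map p q₂ a
        (g := pullback.lift (p.map s.fst) (p.map s.snd) (by rw [← p.map_comp, ← p.map_comp, s.condition]))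
        (f' := p.map s.snd) (pullback.lift_snd _ _ _).symm s.snd
    · intro s
      let g := pullback.lift (p.map s.fst) (p.map s.snd) (by rw [← p.map_comp, ← p.map_comp, s.condition] :
        p.map s.fst ≫ p.map φ = p.map s.snd ≫ p.map ψ)
      let l := IsStronglyCartesian.map p q₂ a (g := g) (f' := p.map s.snd) (pullback.lift_snd _ _ _).symm s.snd
      change l ≫ b = s.fst
      have h2 : l ≫ a = s.snd := IsStronglyCartesian.fac p q₂ a _ s.snd
      have : p.IsHomLift g l := IsStronglyCartesian.map_isHomLift p q₂ a _ s.snd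
      have : p.IsHomLift (p.map s.fst) (l ≫ b) := by
        rw [show p.map s.fst = g ≫ q₁ from (pullback.lift_fst _ _ _).symm]; infer_instance
      refine IsStronglyCartesian.ext p (p.map φ) φ (p.map s.fst) ?_
      rw [Category.assoc, hw, ← Category.assoc, h2, s.condition]
    · intro s
      exact IsStronglyCartesian.fac p q₂ a _ s.snd
    · intro s m h1 h2
      have hd := IsHomLift.codomain_eq p (pullback.snd (p.map φ) (p.map ψ)) a
      have hw' : p.obj w = pullback (p.map φ) (p.map ψ) := IsHomLift.domain_eq p q₂ a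
      have hm : p.IsHomLift (pullback.lift (p.map s.fst) (p.map s.snd)
          (by rw [← p.map_comp, ← p.map_comp, s.condition])) m := by
        refine IsHomLift.of_fac p _ m rfl hw' ?_
        rw [eqToHom_refl, Category.id_comp]
        apply pullback.hom_ext
        · rw [pullback.lift_fst, ← h1, p.map_comp, Category.assoc]
          have := IsHomLift.fac' p q₁ b
          rw [this]; simp [q₁]
        · rw [pullback.lift_snd, ← h2, p.map_comp, Category.assoc]
          have := IsHomLift.fac' p q₂ a
          rw [this]; simp [q₂]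
      exact IsStronglyCartesian.map_uniq p q₂ a (pullback.lift_snd _ _ _).symm s.snd m h2

end Groth.Agent.S6417
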