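import Groth.Statements.S6425
import Mathlib.CategoryTheory.Limits.Types.Products
import Mathlib.CategoryTheory.Limits.FunctorCategory.Basic
import Mathlib.CategoryTheory.Limits.Preserves.Shapes.BinaryProducts

set_option autoImplicit false
open CategoryTheory CategoryTheory.Limits
universe v
open CatLim

namespace Groth.Agent.S6425

/-- Over an index category in which any two objects map to a common object, the comparison map `colim (M
× N) → colim M × colim N` for diagrams of sets is surjective. -/
theorem result {I : Type v} [SmallCategory I]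
    (hI : ∀ x y : I, ∃ (z : I) (_ : x ⟶ z) (_ : y ⟶ z), True) (M N : I ⥤ Type v) :
    Function.Surjective (prodComparison (colim : (I ⥤ Type v) ⥤ Type v) M N) := by
  intro p
  obtain ⟨i, a, ha⟩ := Types.jointly_surjective' ((prod.fst : colim.obj M ⨯ colim.obj N ⟶ _) p)
  obtain ⟨j, b, hb⟩ := Types.jointly_surjective' ((prod.snd : colim.obj M ⨯ colim.obj N ⟶ _) p)
  obtain ⟨z, f, g, -⟩ := hI i j
  let x : (M ⨯ N).obj z := inv (prodComparison ((evaluation I (Type v)).obj z) M N)
    ((Types.binaryProductIso (M.obj z) (N.obj z)).inv (M.map f a, N.map g b))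
  have hfst : (prod.fst : M ⨯ N ⟶ M).app z x = M.map f a := by
    change (inv (prodComparison ((evaluation I (Type v)).obj z) M N) ≫
      ((evaluation I (Type v)).obj z).map prod.fst) _ = _
    rw [inv_prodComparison_map_fst]
    exact ConcreteCategory.congr_hom (Types.binaryProductIso_inv_comp_fst _ _) _
  have hsnd : (prod.snd : M ⨯ N ⟶ N).app z x = N.map g b := by
    change (inv (prodComparison ((evaluation I (Type v)).obj z) M N) ≫
      ((evaluation I (Type v)).obj z).map prod.snd) _ = _
    rw [inv_prodComparison_map_snd]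
    exact ConcreteCategory.congr_hom (Types.binaryProductIso_inv_comp_snd _ _) _
  refine ⟨colimit.ι (M ⨯ N) z x, Types.limit_ext _ _ _ (fun ⟨w⟩ => ?_)⟩
  cases w
  · change (prodComparison colim M N ≫ prod.fst) (colimit.ι (M ⨯ N) z x) = (prod.fst : colim.obj M ⨯ colim.obj N ⟶ colim.obj M) p
    rw [prodComparison_fst, ← ha]
    refine (ConcreteCategory.congr_hom (ι_colimMap (prod.fst : M ⨯ N ⟶ M) z) x).trans ?_
    change colimit.ι M z ((prod.fst : M ⨯ N ⟶ M).app z x) = _
    rw [hfst]
    exact ConcreteCategory.congr_hom (colimit.w M f) a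
  · change (prodComparison colim M N ≫ prod.snd) (colimit.ι (M ⨯ N) z x) = (prod.snd : colim.obj M ⨯ colim.obj N ⟶ colim.obj N) p
    rw [prodComparison_snd, ← hb]
    refine (ConcreteCategory.congr_hom (ι_colimMap (prod.snd : M ⨯ N ⟶ N) z) x).trans ?_
    change colimit.ι N z ((prod.snd : M ⨯ N ⟶ N).app z x) = _
    rw [hsnd]
    exact ConcreteCategory.congr_hom (colimit.w N g) b

end Groth.Agent.S6425
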