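import Groth.Statements.S6428
import Mathlib.CategoryTheory.Limits.Final

set_option autoImplicit false
open CategoryTheory CategoryTheory.Limits
universe v₁ u₁ v₂ u₂ v₃ u₃
open CatLim

namespace Groth.Agent.S6428

/-- If `F : I ⥤ I'` has connected fibre categories and is surjective on morphisms, then for every
diagram `M : I' ⥤ C` the colimit of `F ⋙ M` exists if and only if that of `M` does, and the
canonical comparison between them is then an isomorphism. -/
theorem result {I : Type u₁} [Category.{v₁} I] {I' : Type u₂} [Category.{v₂} I'] {C : Type u₃} [Category.{v₃} C] (F : I ⥤ I')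
    (h1 : ∀ x' : I', IsConnected (F.Fiber x'))
    (h2 : ∀ ⦃x' y' : I'⦄ (α' : x' ⟶ y'), ∃ (x y : I) (hx : F.obj x = x') (hy : F.obj y = y') (α : x ⟶ y), F.map α = eqToHom hx ≫ α' ≫ eqToHom hy.symm)
    (M : I' ⥤ C) :
    (HasColimit (F ⋙ M) ↔ HasColimit M) ∧ ∀ [HasColimit (F ⋙ M)] [HasColimit M], IsIso (colimit.pre M F) := by
  haveI : F.Final := ⟨fun x' => by
    obtain ⟨⟨x₀, hx₀⟩⟩ := (h1 x').is_nonempty
    haveI : Nonempty (StructuredArrow x' F) := ⟨StructuredArrow.mk (eqToHom hx₀.symm)⟩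
    refine zigzag_isConnected fun a b => ?_
    have fib : ∀ {z' : I'} (p q : F.Fiber z') (γ : x' ⟶ z'),
        Zigzag (StructuredArrow.mk (γ ≫ eqToHom p.2.symm)) (StructuredArrow.mk (γ ≫ eqToHom q.2.symm)) := by
      intro z' p q γ
      haveI := h1 z'
      let G : F.Fiber z' → StructuredArrow x' F := fun r => StructuredArrow.mk (γ ≫ eqToHom r.2.symm)
      have : ∀ r r' : F.Fiber z', Zag r r' → Zag (G r) (G r') := by
        intro r r' h
        rcases h with ⟨⟨k⟩⟩ | ⟨⟨k⟩⟩
        · refine Or.inl ⟨StructuredArrow.homMk k.1 ?_⟩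
          haveI := k.2
          change (γ ≫ eqToHom r.2.symm) ≫ F.map k.1 = γ ≫ eqToHom r'.2.symm
          rw [IsHomLift.fac' F (𝟙 z') k.1]
          simp
        · refine Or.inr ⟨StructuredArrow.homMk k.1 ?_⟩
          haveI := k.2
          change (γ ≫ eqToHom r'.2.symm) ≫ F.map k.1 = γ ≫ eqToHom r.2.symm
          rw [IsHomLift.fac' F (𝟙 z') k.1]
          simp
      exact Relation.ReflTransGen.lift G this p q (isPreconnected_zigzag p q)
    have main : ∀ a : StructuredArrow x' F, Zigzag (StructuredArrow.mk (eqToHom hx₀.symm : x' ⟶ F.obj x₀)) a := by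
      intro a
      obtain ⟨x, y, hx, hy, α, hα⟩ := h2 a.hom
      have z1 := fib (z' := x') ⟨x₀, hx₀⟩ ⟨x, hx⟩ (𝟙 x')
      have z3 := fib (z' := F.obj a.right) ⟨y, hy⟩ ⟨a.right, rfl⟩ a.hom
      simp only [Category.id_comp, Category.comp_id, eqToHom_refl] at z1 z3
      refine z1.trans (Zigzag.trans (Zigzag.of_hom (StructuredArrow.homMk (f := StructuredArrow.mk (eqToHom hx.symm)) (f' := StructuredArrow.mk (a.hom ≫ eqToHom hy.symm)) α ?_)) z3)
      change eqToHom hx.symm ≫ F.map α = a.hom ≫ eqToHom hy.symm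
      rw [hα]; simp
    exact (Zigzag.symm (main a)).trans (main b)⟩
  refine ⟨⟨fun _ => Functor.Final.hasColimit_of_comp F, fun _ => inferInstance⟩, fun {_ _} => inferInstance⟩

end Groth.Agent.S6428
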