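import Groth.Statements.S6429
import Mathlib.CategoryTheory.Monoidal.Category
import Mathlib.CategoryTheory.Equivalence

set_option autoImplicit false
open CategoryTheory CategoryTheory.MonoidalCategory
universe v u
open MonCat

namespace Groth.Agent.S6429

/-- An object `X` of a monoidal category is invertible (some `X'` has `X ⊗ X' ≅ 𝟙` and `X' ⊗ X ≅ 𝟙`) if
and only if tensoring on the left by `X` is an equivalence, if and only if tensoring on the right by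
`X` is an equivalence. -/
theorem result {C : Type u} [Category.{v} C] [MonoidalCategory C] (X : C) :
    ((tensorLeft X).IsEquivalence ↔ ∃ X' : C, Nonempty (X ⊗ X' ≅ 𝟙_ C) ∧ Nonempty (X' ⊗ X ≅ 𝟙_ C)) ∧
      ((tensorRight X).IsEquivalence ↔ ∃ X' : C, Nonempty (X ⊗ X' ≅ 𝟙_ C) ∧ Nonempty (X' ⊗ X ≅ 𝟙_ C)) := by
  have key : ∀ X X' : C, (X ⊗ X' ≅ 𝟙_ C) → (X' ⊗ X ≅ 𝟙_ C) →
      (tensorLeft X).IsEquivalence ∧ (tensorRight X).IsEquivalence := fun X X' e e' =>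
    ⟨(CategoryTheory.Equivalence.mk (tensorLeft X) (tensorLeft X')
      (((curriedTensor C).mapIso e' ≪≫ leftUnitorNatIso C).symm ≪≫ tensorLeftTensor X' X)
      ((tensorLeftTensor X X').symm ≪≫ (curriedTensor C).mapIso e ≪≫ leftUnitorNatIso C)).isEquivalence_functor,
     (CategoryTheory.Equivalence.mk (tensorRight X) (tensorRight X')
      (((curriedTensor C).flip.mapIso e ≪≫ rightUnitorNatIso C).symm ≪≫ tensorRightTensor X X')
      ((tensorRightTensor X' X).symm ≪≫ (curriedTensor C).flip.mapIso e' ≪≫ rightUnitorNatIso C)).isEquivalence_functor⟩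
  refine ⟨⟨fun h => ?_, fun ⟨X', ⟨e⟩, ⟨e'⟩⟩ => (key X X' e e').1⟩,
    ⟨fun h => ?_, fun ⟨X', ⟨e⟩, ⟨e'⟩⟩ => (key X X' e e').2⟩⟩
  · let e : X ⊗ (tensorLeft X).objPreimage (𝟙_ C) ≅ 𝟙_ C := (tensorLeft X).objObjPreimageIso (𝟙_ C)
    exact ⟨_, ⟨e⟩, ⟨(tensorLeft X).preimageIso
      (((α_ _ _ _).symm ≪≫ whiskerRightIso e X ≪≫ λ_ X ≪≫ (ρ_ X).symm : X ⊗ (_ ⊗ X) ≅ X ⊗ 𝟙_ C))⟩⟩
  · let e : (tensorRight X).objPreimage (𝟙_ C) ⊗ X ≅ 𝟙_ C := (tensorRight X).objObjPreimageIso (𝟙_ C)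
    exact ⟨_, ⟨(tensorRight X).preimageIso
      ((α_ _ _ _ ≪≫ whiskerLeftIso X e ≪≫ ρ_ X ≪≫ (λ_ X).symm : (X ⊗ _) ⊗ X ≅ 𝟙_ C ⊗ X))⟩, ⟨e⟩⟩

end Groth.Agent.S6429
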