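import Groth.Statements.S6430
import Groth.Agent.Lib.FibCat.Fp


set_option autoImplicit false
set_option backward.isDefEq.respectTransparency false
set_option backward.isDefEq.respectTransparency.types false
open CategoryTheory
universe v₂ u₂ v u
open FibCat

namespace Groth.Agent.S6430

open CategoryTheory.Functor GrothLib.FibCat

theorem cartMor_of {C : Type u} [Category.{v} C] {𝒮 : Type u₂} [Category.{v₂} 𝒮] (p : 𝒮 ⥤ C)
    {R S : C} {a b : 𝒮} (f : R ⟶ S) (φ : a ⟶ b) [h : p.IsStronglyCartesian f φ] : FibCat.cartMor p φ := by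
  subst_hom_lift p f φ
  exact h

theorem lift_of_map {C : Type u} [Category.{v} C] {𝒮 : Type u₂} [Category.{v₂} 𝒮] (p : 𝒮 ⥤ C) [p.IsFibered]
    {R S : C} {a b : FibCat.cartSub p} (f : R ⟶ S) (φ : a ⟶ b) [p.IsHomLift f φ.hom] :
    (FibCat.cartSubProj p).IsHomLift f φ := by
  subst_hom_lift p f φ.hom
  exact IsHomLift.map (FibCat.cartSubProj p) φ

/-- For a fibred category `p : 𝒮 ⥤ C`, the wide subcategory of `𝒮` on the strongly cartesian morphisms
is fibred in groupoids over `C`. -/
theorem result {C : Type u} [Category.{v} C] {𝒮 : Type u₂} [Category.{v₂} 𝒮] (p : 𝒮 ⥤ C) [p.IsFibered] :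
    FibCat.IsFibGrpd (FibCat.cartSubProj p) := by
    refine ⟨fun {x V} f => ?_, fun {y x} φ => ?_⟩
    · let l := IsPreFibered.pullbackMap (p := p) (rfl : p.obj x.obj = _) f
      have hl := IsFibered.isStronglyCartesian_of_isCartesian p f l
      have hm : FibCat.cartMor p l := cartMor_of p f l
      let φ : (⟨_⟩ : FibCat.cartSub p) ⟶ x := ⟨l, hm⟩
      have : p.IsHomLift f φ.hom := inferInstanceAs (p.IsHomLift f l)
      exact ⟨_, φ, lift_of_map p f φ⟩
    · have hφ : p.IsStronglyCartesian (p.map φ.hom) φ.hom := φ.property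
      refine { universal_property' := fun {z} g ψ hψ => ?_ }
      have hψ' : p.IsStronglyCartesian (p.map ψ.hom) ψ.hom := ψ.property
      have he : g ≫ p.map φ.hom = p.map ψ.hom :=
        IsHomLift.eq_of_isHomLift (FibCat.cartSubProj p) (g ≫ (FibCat.cartSubProj p).map φ) ψ
      let χ := IsStronglyCartesian.map p (p.map φ.hom) φ.hom (g := g) he.symm ψ.hom
      have hχ : p.IsHomLift g χ := IsStronglyCartesian.map_isHomLift p (p.map φ.hom) φ.hom he.symm ψ.hom
      have hfac : χ ≫ φ.hom = ψ.hom := IsStronglyCartesian.fac p (p.map φ.hom) φ.hom he.symm ψ.hom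
      have hc : p.IsStronglyCartesian g χ := by
        have : p.IsStronglyCartesian (g ≫ p.map φ.hom) (χ ≫ φ.hom) := by rw [he, hfac]; exact hψ'
        exact IsStronglyCartesian.of_comp p (g := p.map φ.hom) (ψ := φ.hom)
      have hm : FibCat.cartMor p χ := by
        change p.IsStronglyCartesian (p.map χ) χ
        rw [← IsHomLift.eq_of_isHomLift p g χ]
        exact hc
      refine ⟨⟨χ, hm⟩, ⟨lift_of_map p g ⟨χ, hm⟩, WideSubcategory.hom_ext _ hfac⟩, fun χ' h' => WideSubcategory.hom_ext _ ?_⟩
      have h1 : p.IsHomLift g χ'.hom := by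
        have := h'.1
        rw [IsHomLift.eq_of_isHomLift (FibCat.cartSubProj p) g χ']
        exact IsHomLift.map p χ'.hom
      exact IsStronglyCartesian.map_uniq p (p.map φ.hom) φ.hom he.symm ψ.hom χ'.hom
        (congrArg InducedWideCategory.Hom.hom h'.2)

end Groth.Agent.S6430
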