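import Groth.Statements.S6438
import Mathlib.CategoryTheory.Limits.Shapes.FiniteMultiequalizer
import Mathlib.CategoryTheory.FinCategory.AsType
import Mathlib.CategoryTheory.Limits.Final

set_option autoImplicit false
open CategoryTheory
open CategoryTheory.Limits
universe v u
open CatLim

namespace Groth.Agent.S6438

/-- A category with finitely many objects whose morphisms are generated under composition by finitely
many of them receives a functor from a finite category which is both final and initial, the finite
category being connected (resp. nonempty) exactly when the given one is. (The published statement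
says that limits and colimits of every diagram are computed after restriction along the functor;
this is expressed here through finality and initiality.) -/
theorem result {I : Type u} [Category.{v} I] [Finite I]
    (gen : Finset (Σ x y : I, x ⟶ y))
    (hgen : ∀ P : MorphismProperty I, P.IsMultiplicative → (∀ a ∈ gen, P a.2.2) → P = ⊤) :
    ∃ (J : Type) (_ : SmallCategory J) (_ : FinCategory J) (F : J ⥤ I),
      F.Final ∧ F.Initial ∧ (IsConnected J ↔ IsConnected I) ∧ (Nonempty J ↔ Nonempty I) := by
  classical
  haveI : Fintype I := Fintype.ofFinite I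
  let S : MultispanShape.{max u v, u} := ⟨{a // a ∈ gen}, I, fun a => a.1.1, fun a => a.1.2.1⟩
  haveI : Fintype S.L := inferInstanceAs (Fintype {a // a ∈ gen})
  haveI : Fintype S.R := inferInstanceAs (Fintype I)
  let ix : MultispanIndex S I :=
    { left := fun a => a.1.1, right := fun x => x, fst := fun a => 𝟙 _, snd := fun a => a.1.2.2 }
  let F := ix.multispan
  have hw : ∀ {x y : I} (f : x ⟶ y), Zigzag (WalkingMultispan.right (J := S) x) (WalkingMultispan.right y) := by
    have : (fun x y _ => Zigzag (WalkingMultispan.right (J := S) x) (WalkingMultispan.right y) : MorphismProperty I) = ⊤ := by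
      refine hgen _ { id_mem := fun x => Zigzag.refl _, comp_mem := fun f g hf hg => hf.trans hg } (fun a ha => ?_)
      exact (Zigzag.of_inv (WalkingMultispan.Hom.fst (J := S) ⟨a, ha⟩)).trans
        (Zigzag.of_hom (WalkingMultispan.Hom.snd (J := S) ⟨a, ha⟩))
    intro x y f
    exact of_eq_true (congrFun (congrFun (congrFun this x) y) f)
  haveI hfin : F.Final := ⟨fun x => by
    let R : ∀ {y : I}, (x ⟶ y) → StructuredArrow x F :=
      fun {y} h => StructuredArrow.mk (S := x) (T := F) (Y := WalkingMultispan.right (J := S) y) h
    haveI : Nonempty (StructuredArrow x F) := ⟨R (𝟙 x)⟩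
    let P : MorphismProperty I := fun y z f => ∀ h : x ⟶ y, Zigzag (R h) (R (h ≫ f))
    have hP : P = ⊤ := hgen P
      { id_mem := fun y h => by rw [Category.comp_id]
        comp_mem := fun f g hf hg h => by rw [← Category.assoc]; exact (hf h).trans (hg _) }
      (fun a ha h =>
        (Zigzag.of_inv (StructuredArrow.homMk (f := StructuredArrow.mk (S := x) (T := F) (Y := WalkingMultispan.left (J := S) ⟨a, ha⟩) h)
          (f' := R h) (WalkingMultispan.Hom.fst (J := S) ⟨a, ha⟩) (Category.comp_id h))).trans
        (Zigzag.of_hom (StructuredArrow.homMk (f := StructuredArrow.mk (S := x) (T := F) (Y := WalkingMultispan.left (J := S) ⟨a, ha⟩) h)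
          (f' := R (h ≫ a.2.2)) (WalkingMultispan.Hom.snd (J := S) ⟨a, ha⟩) rfl)))
    have main : ∀ {y : I} (h : x ⟶ y), Zigzag (R (𝟙 x)) (R h) := fun {y} h => by
      have := (of_eq_true (congrFun (congrFun (congrFun hP x) y) h) : P h) (𝟙 x)
      rwa [Category.id_comp] at this
    have all : ∀ b, Zigzag (R (𝟙 x)) b := by
      rintro ⟨⟨⟨⟩⟩, (a | y), h⟩
      · exact (main (y := a.1.1) h).trans (Zigzag.of_inv (StructuredArrow.homMk
          (f := StructuredArrow.mk (S := x) (T := F) (Y := WalkingMultispan.left (J := S) a) h) (f' := R (y := a.1.1) h)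
          (WalkingMultispan.Hom.fst a) (Category.comp_id h)))
      · exact main h
    exact zigzag_isConnected fun b c => (Zigzag.symm (all b)).trans (all c)⟩
  haveI hini : F.Initial := ⟨fun x => by
    let R : ∀ {y : I}, (y ⟶ x) → CostructuredArrow F x :=
      fun {y} h => CostructuredArrow.mk (S := F) (T := x) (Y := WalkingMultispan.right (J := S) y) h
    haveI : Nonempty (CostructuredArrow F x) := ⟨R (𝟙 x)⟩
    let P : MorphismProperty I := fun y z f => ∀ h : z ⟶ x, Zigzag (R h) (R (f ≫ h))
    have hP : P = ⊤ := hgen P
      { id_mem := fun y h => by rw [Category.id_comp]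
        comp_mem := fun f g hf hg h => by rw [Category.assoc]; exact (hg h).trans (hf _) }
      (fun a ha h =>
        (Zigzag.of_inv (CostructuredArrow.homMk (f := CostructuredArrow.mk (S := F) (T := x) (Y := WalkingMultispan.left (J := S) ⟨a, ha⟩) (a.2.2 ≫ h))
          (f' := R h) (WalkingMultispan.Hom.snd (J := S) ⟨a, ha⟩) rfl)).trans
        (Zigzag.of_hom (CostructuredArrow.homMk (f := CostructuredArrow.mk (S := F) (T := x) (Y := WalkingMultispan.left (J := S) ⟨a, ha⟩) (a.2.2 ≫ h))
          (f' := R (a.2.2 ≫ h)) (WalkingMultispan.Hom.fst (J := S) ⟨a, ha⟩) (Category.id_comp _))))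
    have main : ∀ {y : I} (h : y ⟶ x), Zigzag (R (𝟙 x)) (R h) := fun {y} h => by
      have := (of_eq_true (congrFun (congrFun (congrFun hP y) x) h) : P h) (𝟙 x)
      rwa [Category.comp_id] at this
    have all : ∀ b, Zigzag (R (𝟙 x)) b := by
      rintro ⟨(a | y), ⟨⟨⟩⟩, h⟩
      · exact (main (y := a.1.1) h).trans (Zigzag.of_inv (CostructuredArrow.homMk
          (f := CostructuredArrow.mk (S := F) (T := x) (Y := WalkingMultispan.left (J := S) a) h) (f' := R (y := a.1.1) h)
          (WalkingMultispan.Hom.fst a) (Category.id_comp h)))
      · exact main h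
    exact zigzag_isConnected fun b c => (Zigzag.symm (all b)).trans (all c)⟩
  refine ⟨FinCategory.AsType (WalkingMultispan S), inferInstance, inferInstance,
    (FinCategory.equivAsType _).functor ⋙ F, inferInstance, inferInstance, ?_, ?_⟩
  · constructor
    · intro h
      haveI := isConnected_of_equivalent (FinCategory.equivAsType (WalkingMultispan S))
      haveI : Nonempty I := (IsConnected.is_nonempty (J := WalkingMultispan S)).map F.obj
      exact zigzag_isConnected fun x y =>
        zigzag_obj_of_zigzag F (isPreconnected_zigzag (WalkingMultispan.right (J := S) x) (.right y))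
    · intro h
      haveI : Nonempty (WalkingMultispan S) := ⟨.right (Classical.arbitrary I)⟩
      have hz : ∀ x y : I, Zigzag (WalkingMultispan.right (J := S) x) (WalkingMultispan.right y) := by
        intro x y
        induction isPreconnected_zigzag x y with
        | refl => exact Zigzag.refl _
        | tail _ hb ih =>
          refine ih.trans ?_
          rcases hb with ⟨⟨f⟩⟩ | ⟨⟨f⟩⟩
          · exact hw f
          · exact (hw f).symm
      have hall : ∀ b : WalkingMultispan S, ∃ x, Zigzag (WalkingMultispan.right (J := S) x) b := by
        rintro (a | x)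
        · exact ⟨_, Zigzag.of_inv (WalkingMultispan.Hom.fst a)⟩
        · exact ⟨x, Zigzag.refl _⟩
      haveI : IsConnected (WalkingMultispan S) := zigzag_isConnected fun b c => by
        obtain ⟨x, hx⟩ := hall b
        obtain ⟨y, hy⟩ := hall c
        exact (hx.symm.trans (hz x y)).trans hy
      exact isConnected_of_equivalent (FinCategory.equivAsType (WalkingMultispan S)).symm
  · exact ⟨fun ⟨j⟩ => ⟨F.obj ((FinCategory.equivAsType _).functor.obj j)⟩,
      fun ⟨x⟩ => ⟨(FinCategory.equivAsType _).inverse.obj (.right x)⟩⟩

end Groth.Agent.S6438
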