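import Groth.Statements.S6442
import Mathlib.CategoryTheory.Sites.LocallyBijective
import Mathlib.CategoryTheory.Limits.Types.Colimits

set_option autoImplicit false
open CategoryTheory CategoryTheory.Limits Opposite
universe u
open SiteMisc

namespace Groth.Agent.S6442

/-- An object `U` of a site is weakly contractible, i.e. for every covering sieve `S` the sheafified map
`(∐_{V → U ∈ S} h_V)^# ⟶ h_U^#` has a section, if and only if taking sections over `U` turns
epimorphisms of sheaves of sets into surjections. (Coverings are taken as covering sieves; the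
coproduct is formed in presheaves and then sheafified.) -/
theorem result {C : Type u} [SmallCategory C] (J : GrothendieckTopology C) (U : C) :
    (∀ S : Sieve U, S ∈ J U →
      IsSplitEpi ((presheafToSheaf J (Type u)).map
        (Sigma.desc (fun i : (Σ V : C, {f : V ⟶ U // S f}) => yoneda.map i.2.1) :
          (∐ fun i : (Σ V : C, {f : V ⟶ U // S f}) => yoneda.obj i.1) ⟶ yoneda.obj U))) ↔
    ∀ (F G : Sheaf J (Type u)) (φ : F ⟶ G), Epi φ → Function.Surjective (φ.hom.app (op U)) := by
  let ad := sheafificationAdjunction J (Type u)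
  constructor
  · intro h F G φ _ s
    haveI : Sheaf.IsLocallySurjective φ := (Sheaf.isLocallySurjective_iff_epi φ).2 inferInstance
    obtain ⟨σ, hσ⟩ := (h (Presheaf.imageSieve φ.hom s) (Presheaf.imageSieve_mem J φ.hom s)).exists_splitEpi
    let ts := fun i : (Σ V : C, {f : V ⟶ U // Presheaf.imageSieve φ.hom s f}) =>
      yonedaEquiv.symm (Presheaf.localPreimage φ.hom s i.2.1 i.2.2)
    let t := Sigma.desc ts
    have e : t ≫ φ.hom = Sigma.desc (fun i : (Σ V : C, {f : V ⟶ U // Presheaf.imageSieve φ.hom s f}) =>
        yoneda.map i.2.1) ≫ yonedaEquiv.symm s := by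
      refine Sigma.hom_ext _ _ fun i => ?_
      rw [Sigma.ι_desc_assoc, Sigma.ι_desc_assoc]
      apply yonedaEquiv.injective
      rw [← yonedaEquiv_naturality, Equiv.apply_symm_apply, yonedaEquiv_comp, Equiv.apply_symm_apply]
      exact Presheaf.app_localPreimage φ.hom s i.2.1 i.2.2
    let k := σ ≫ (ad.homEquiv _ F).symm t
    have hk : k ≫ φ = (ad.homEquiv _ G).symm (yonedaEquiv.symm s) := by
      have e2 : (ad.homEquiv _ F).symm t ≫ φ = (presheafToSheaf J (Type u)).map
          (Sigma.desc (fun i : (Σ V : C, {f : V ⟶ U // Presheaf.imageSieve φ.hom s f}) => yoneda.map i.2.1)) ≫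
            (ad.homEquiv _ G).symm (yonedaEquiv.symm s) :=
        (ad.homEquiv_naturality_right_symm t φ).symm.trans
          ((congrArg (ad.homEquiv _ G).symm e).trans (ad.homEquiv_naturality_left_symm _ _))
      change (σ ≫ _) ≫ φ = _
      rw [Category.assoc, e2, ← Category.assoc, hσ, Category.id_comp]
    refine ⟨yonedaEquiv (ad.homEquiv _ F k), ?_⟩
    have := congrArg (fun m => yonedaEquiv (ad.homEquiv _ G m)) hk
    simp only [Equiv.apply_symm_apply, Adjunction.homEquiv_naturality_right] at this
    exact this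
  · intro h S hS
    let p := (Sigma.desc (fun i : (Σ V : C, {f : V ⟶ U // S f}) => yoneda.map i.2.1) :
      (∐ fun i : (Σ V : C, {f : V ⟶ U // S f}) => yoneda.obj i.1) ⟶ yoneda.obj U)
    haveI : Epi ((presheafToSheaf J (Type u)).map p) := by
      refine ⟨fun {Z} a b hab => (ad.homEquiv _ Z).injective ?_⟩
      apply yonedaEquiv.injective
      refine (((isSheaf_iff_isSheaf_of_type J _).1 Z.property).isSeparated S hS).ext fun V g hg => ?_
      have hp : p ≫ ad.homEquiv _ Z a = p ≫ ad.homEquiv _ Z b := by
        rw [← Adjunction.homEquiv_naturality_left, hab, Adjunction.homEquiv_naturality_left]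
      have h1 := congrArg (fun m => Sigma.ι (fun i : (Σ V : C, {f : V ⟶ U // S f}) => yoneda.obj i.1) ⟨V, g, hg⟩ ≫ m) hp
      simp only [p, Sigma.ι_desc_assoc] at h1
      exact (yonedaEquiv_naturality _ g).trans ((congrArg yonedaEquiv h1).trans (yonedaEquiv_naturality _ g).symm)
    obtain ⟨x, hx⟩ := h _ _ ((presheafToSheaf J (Type u)).map p) inferInstance
      (yonedaEquiv (ad.homEquiv _ _ (𝟙 _)))
    refine ⟨⟨⟨(ad.homEquiv _ _).symm (yonedaEquiv.symm x), ?_⟩⟩⟩
    apply (ad.homEquiv _ _).injective
    apply yonedaEquiv.injective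
    refine Eq.trans ?_ hx
    rw [Adjunction.homEquiv_naturality_right, Equiv.apply_symm_apply]
    exact (yonedaEquiv_comp _ _).trans (congrArg _ (yonedaEquiv.apply_symm_apply x))

end Groth.Agent.S6442
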