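import Groth.Statements.S6443
import Groth.Agent.Lib.FibCat.Slice


set_option autoImplicit false
set_option backward.isDefEq.respectTransparency false
set_option backward.isDefEq.respectTransparency.types false
open CategoryTheory
universe v u
open FibCat

namespace Groth.Agent.S6443

/-- If a category `𝒮` fibred in groupoids over `C` is represented by `X` via `j : 𝒮 ⟶ C/X` and by `X'`
via `j' : 𝒮 ⟶ C/X'` (equivalences over `C`), then there is an isomorphism `X' ≅ X` under which `j'`
becomes 2-isomorphic to `j` over `C`. -/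
theorem result {C : Type u} [Category.{v} C] {𝒮 : BasedCategory.{v, max u v} C} (h𝒮 : FibCat.IsFibGrpd 𝒮.p)
    {X X' : C} (j : 𝒮 ⥤ᵇ FibCat.overCat X) (j' : 𝒮 ⥤ᵇ FibCat.overCat X') (hj : FibCat.IsEquivOver j) (hj' : FibCat.IsEquivOver j') :
    ∃ e : X' ≅ X, Nonempty (BasedFunctor.comp j' (⟨Over.map e.hom, Over.mapForget_eq e.hom⟩ : FibCat.overCat X' ⥤ᵇ FibCat.overCat X) ≅ j) := by
  obtain ⟨E', hE', ⟨η⟩, -⟩ := GrothLib.FibCat.IsEquivOver.symm hj'
  let k := BasedFunctor.comp E' j
  have := GrothLib.FibCat.isIso_sliceHom k (GrothLib.FibCat.IsEquivOver.comp hE' hj)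
  exact ⟨asIso (GrothLib.FibCat.sliceHom k), ⟨GrothLib.FibCat.whiskerLeftIso j' (GrothLib.FibCat.isoOverMap k).symm ≪≫
    GrothLib.FibCat.whiskerRightIso η j⟩⟩

end Groth.Agent.S6443
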