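import Groth.Statements.S6445


set_option autoImplicit false
set_option backward.isDefEq.respectTransparency false
set_option backward.isDefEq.respectTransparency.types false
open CategoryTheory CategoryTheory.Limits
universe v u
open FibCat

namespace Groth.Agent.S6445

open CategoryTheory.Limits

/-- Associativity of 2-fibre products of categories: `(A ×_B C) ×_D E` and `A ×_B (C ×_D E)` are
isomorphic categories, by an equivalence whose functor and inverse compose to the identity functors
on both sides and whose functor sends `((a, c, φ), e, ψ)` to an object with components `a`, `c`,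
`e`. (The published statement gives the isomorphism by the formula `((a, c, φ), e, ψ) ↦ (a, (c, e,
ψ), φ)`; this row pins the components `a`, `c`, `e` of the functor on objects and asks the functor
and its inverse to be mutually inverse on the nose.) -/
theorem result {A B C D E : Type u} [Category.{v} A] [Category.{v} B] [Category.{v} C] [Category.{v} D] [Category.{v} E]
    (F : A ⥤ B) (G : C ⥤ B) (H : C ⥤ D) (K : E ⥤ D) :
    ∃ e : CategoricalPullback (CategoricalPullback.π₂ F G ⋙ H) K ≌ CategoricalPullback F (CategoricalPullback.π₁ H K ⋙ G),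
      e.functor ⋙ e.inverse = 𝟭 _ ∧ e.inverse ⋙ e.functor = 𝟭 _ ∧
      ∀ x, (e.functor.obj x).fst = x.fst.fst ∧ (e.functor.obj x).snd.fst = x.fst.snd ∧ (e.functor.obj x).snd.snd = x.snd := by
    let f : CategoricalPullback (CategoricalPullback.π₂ F G ⋙ H) K ⥤
        CategoricalPullback F (CategoricalPullback.π₁ H K ⋙ G) :=
      { obj := fun x => ⟨x.fst.fst, ⟨x.fst.snd, x.snd, x.iso⟩, x.fst.iso⟩
        map := fun {x y} m => ⟨m.fst.fst, ⟨m.fst.snd, m.snd, m.w⟩, m.fst.w⟩
        map_id := fun _ => rfl
        map_comp := fun _ _ => rfl }
    let g : CategoricalPullback F (CategoricalPullback.π₁ H K ⋙ G) ⥤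
        CategoricalPullback (CategoricalPullback.π₂ F G ⋙ H) K :=
      { obj := fun x => ⟨⟨x.fst, x.snd.fst, x.iso⟩, x.snd.snd, x.snd.iso⟩
        map := fun {x y} m => ⟨⟨m.fst, m.snd.fst, m.w⟩, m.snd.snd, m.snd.w⟩
        map_id := fun _ => rfl
        map_comp := fun _ _ => rfl }
    exact ⟨{ functor := f, inverse := g, unitIso := Iso.refl _, counitIso := Iso.refl _,
             functor_unitIso_comp := fun x => Category.comp_id _ },
      rfl, rfl, fun x => ⟨rfl, rfl, rfl⟩⟩

end Groth.Agent.S6445
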