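import Groth.Statements.S6447


set_option autoImplicit false
set_option backward.isDefEq.respectTransparency false
set_option backward.isDefEq.respectTransparency.types false
open CategoryTheory CategoryTheory.Limits
universe v u
open FibCat

namespace Groth.Agent.S6447

open CategoryTheory.Limits

/-- For a 2-fibre product `U = X ×_Y V` of categories, the square formed by `U ⟶ X`, the diagonals `U ⟶
U ×_V U`, `X ⟶ X ×_Y X` and the induced functor `U ×_V U ⟶ X ×_Y X` is 2-cartesian. (The filling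
2-isomorphism is the one whose two components at every object are identities; it exists and is
unique with that property.) -/
theorem result {X Y V : Type u} [Category.{v} X] [Category.{v} Y] [Category.{v} V] (p : X ⥤ Y) (q : V ⥤ Y) :
    ∃ e, (∀ u, (e.hom.app u).fst = 𝟙 _ ∧ (e.hom.app u).snd = 𝟙 _) ∧ FibCat.IsTwoCart
      (CategoricalPullback.π₁ p q)
      ((CategoricalPullback.CatCommSqOver.toFunctorToCategoricalPullback (CategoricalPullback.π₂ p q) (CategoricalPullback.π₂ p q) (CategoricalPullback p q)).obj ⟨𝟭 _, 𝟭 _, Iso.refl _⟩)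
      ((CategoricalPullback.CatCommSqOver.toFunctorToCategoricalPullback p p X).obj ⟨𝟭 _, 𝟭 _, Iso.refl _⟩)
      (FibCat.categoricalPullbackMap (⟨CategoricalPullback.π₁ p q, q, CategoricalPullback.π₁ p q, ⟨(CatCommSq.iso (CategoricalPullback.π₁ p q) (CategoricalPullback.π₂ p q) p q).symm⟩, ⟨(CatCommSq.iso (CategoricalPullback.π₁ p q) (CategoricalPullback.π₂ p q) p q).symm⟩⟩ : CatCospanTransform (CategoricalPullback.π₂ p q) (CategoricalPullback.π₂ p q) p p))
      e := by
    refine ⟨NatIso.ofComponents (fun u => CategoricalPullback.mkIso (Iso.refl u.fst) (Iso.refl u.fst)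
        (by
          change p.map (𝟙 u.fst) ≫ _ = 𝟙 (p.obj u.fst) ≫ p.map (𝟙 u.fst)
          simp only [CategoryTheory.Functor.map_id, Category.id_comp]
          simp [FibCat.categoricalPullbackMap]
          change u.iso.hom ≫ q.map (𝟙 u.snd) ≫ u.iso.inv = 𝟙 (p.obj u.fst)
          simp)) (fun {u v} f => by
        apply CategoricalPullback.hom_ext
        · exact (Category.comp_id _).trans (Category.id_comp _).symm
        · exact (Category.comp_id _).trans (Category.id_comp _).symm),
      fun u => ⟨rfl, rfl⟩, ?_⟩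
    refine { faithful := ⟨fun {u v} {f g} h => ?_⟩, full := ⟨fun {u v} m => ?_⟩, essSurj := ⟨fun η => ?_⟩ }
    · exact congrArg (fun s => s.snd.fst) h
    · let φ₁ : u ⟶ v := m.snd.fst
      let φ₂ : u ⟶ v := m.snd.snd
      have h1 : m.fst ≫ 𝟙 v.fst = 𝟙 u.fst ≫ φ₁.fst := congrArg (fun s => s.fst) m.w
      have h2 : m.fst ≫ 𝟙 v.fst = 𝟙 u.fst ≫ φ₂.fst := congrArg (fun s => s.snd) m.w
      have h3 : φ₁.snd ≫ 𝟙 v.snd = 𝟙 u.snd ≫ φ₂.snd := m.snd.w
      have h1' : m.fst = φ₁.fst := (Category.comp_id m.fst).symm.trans (h1.trans (Category.id_comp φ₁.fst))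
      have h2' : m.fst = φ₂.fst := (Category.comp_id m.fst).symm.trans (h2.trans (Category.id_comp φ₂.fst))
      have h3' : φ₁.snd = φ₂.snd := (Category.comp_id φ₁.snd).symm.trans (h3.trans (Category.id_comp φ₂.snd))
      exact ⟨φ₁, CategoricalPullback.hom_ext h1'.symm
        (CategoricalPullback.hom_ext rfl (CategoricalPullback.hom_ext (h1'.symm.trans h2') h3'))⟩
    · let u₁ := η.snd.fst
      let u₂ := η.snd.snd
      let ψ : u₁.snd ≅ u₂.snd := η.snd.iso
      let a : η.fst ≅ u₁.fst := (CategoricalPullback.π₁ p p).mapIso η.iso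
      let b : η.fst ≅ u₂.fst := (CategoricalPullback.π₂ p p).mapIso η.iso
      have hc : p.map a.hom ≫ (u₁.iso.hom ≫ q.map ψ.hom ≫ u₂.iso.inv) = 𝟙 (p.obj η.fst) ≫ p.map b.hom := by
        have := η.iso.hom.w
        simp [FibCat.categoricalPullbackMap] at this
        change p.map a.hom ≫ u₁.iso.hom ≫ q.map ψ.hom ≫ u₂.iso.inv = 𝟙 (p.obj η.fst) ≫ p.map b.hom at this
        exact this
      replace hc := hc.trans (Category.id_comp _)
      let j : u₁ ≅ u₂ := CategoricalPullback.mkIso (a.symm ≪≫ b) ψ (by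
        rw [Iso.trans_hom, Iso.symm_hom, p.map_comp, Category.assoc, ← hc]
        simp)
      refine ⟨u₁, ⟨CategoricalPullback.mkIso a.symm (CategoricalPullback.mkIso (Iso.refl u₁) j ?_) ?_⟩⟩
      · change 𝟙 u₁.snd ≫ ψ.hom = 𝟙 u₁.snd ≫ ψ.hom
        rfl
      · apply CategoricalPullback.hom_ext
        · change a.inv ≫ a.hom = 𝟙 u₁.fst ≫ 𝟙 u₁.fst
          simp
        · change a.inv ≫ b.hom = 𝟙 u₁.fst ≫ a.inv ≫ b.hom
          simp

end Groth.Agent.S6447
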