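import Groth.Statements.S6448
import Groth.Agent.Lib.CatLim.AlmostFiltered

set_option autoImplicit false
open CategoryTheory
universe v u
open CatLim

namespace Groth.Agent.S6448

/-- In a category where spans complete to commutative squares and parallel pairs are coequalized by a
later arrow, every connected component is filtered (so the category is a disjoint union of filtered
categories). -/
theorem result {I : Type u} [Category.{v} I]
    (h1 : ∀ ⦃w x y : I⦄ (a : w ⟶ x) (b : w ⟶ y), ∃ (z : I) (c : x ⟶ z) (d : y ⟶ z), a ≫ c = b ≫ d)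
    (h2 : ∀ ⦃x y : I⦄ (a b : x ⟶ y), ∃ (z : I) (c : y ⟶ z), a ≫ c = b ≫ c)
    (j : ConnectedComponents I) : IsFiltered j.Component := by
  have hne : Nonempty j.Component := inferInstance
  refine { nonempty := hne, cocone_objs := fun x y => ?_, cocone_maps := fun x y a b => ?_ }
  · obtain ⟨z, ⟨f⟩, ⟨g⟩⟩ := GrothLib.AlmostFiltered.bd_of_zigzag h1
      (Quotient.exact (x.property.trans y.property.symm))
    have hz : j.objectProperty z :=
      (Quotient.sound (Zigzag.symm (Zigzag.of_hom f))).trans x.property
    exact ⟨⟨z, hz⟩, ObjectProperty.homMk f, ObjectProperty.homMk g, trivial⟩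
  · obtain ⟨z, c, hc⟩ := h2 a.hom b.hom
    have hz : j.objectProperty z :=
      (Quotient.sound (Zigzag.symm (Zigzag.of_hom c))).trans y.property
    exact ⟨⟨z, hz⟩, ObjectProperty.homMk c, ObjectProperty.hom_ext _ hc⟩

end Groth.Agent.S6448
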