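import Groth.Statements.S6450
import Groth.Agent.Lib.ChiDev4.AssocScheme
-- import your own Groth.Agent.* helpers here

set_option autoImplicit false
set_option linter.all false
set_option backward.isDefEq.respectTransparency false
universe u
open CategoryTheory CategoryTheory.Limits AlgebraicGeometry
attribute [local instance] HasDerivedCategory.standard
open IntMult

namespace Groth.Agent.S6450

/-- Let X be a nonsingular variety of dimension n and U, V, W closed subvarieties, with generic points
ξU, ξV, ξW, which intersect properly pairwise and with dim(U ∩ V ∩ W) ≤ dim U + dim V + dim W − 2n.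
Then U · (V · W) = (U · V) · W as cycles on X. The prime cycle [U] is the indicator function of the
generic point ξU. Here X is a nonsingular variety over the algebraically closed field K (smooth,
separated, quasi-compact, integral) with dimension function δ (transcendence degree over K, recorded
by Cyc.DeltaCompat to Spec K with value 0, together with Cyc.IsSetup) and n = dim X = δ of the
generic point; cycles are coefficient functions X → ℤ, proper intersection is
IntMult.IntersectProperly and α · β is the Tor-formula intersection product on coefficient functions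
(IntMult.interProd). -/
theorem result (K : Type u) [Field K] [IsAlgClosed K] (X : Scheme.{u}) (f : X ⟶ Spec (CommRingCat.of K)) [Smooth f] [IsSeparated f] [QuasiCompact f] [IsIntegral X] (δ : X → ℤ) (hX : Cyc.IsSetup X δ) (hδ : Cyc.DeltaCompat f δ (fun _ => 0)) (n : ℤ) (hn : δ (genericPoint X) = n) (ξU ξV ξW : X) (hUV : IntMult.IntersectProperly δ n (Set.indicator {ξU} 1) (Set.indicator {ξV} 1)) (hVW : IntMult.IntersectProperly δ n (Set.indicator {ξV} 1) (Set.indicator {ξW} 1)) (hUW : IntMult.IntersectProperly δ n (Set.indicator {ξU} 1) (Set.indicator {ξW} 1)) (hUVW : ∀ ζ : X, ξU ⤳ ζ → ξV ⤳ ζ → ξW ⤳ ζ → δ ζ ≤ δ ξU + δ ξV + δ ξW - 2 * n) : IntMult.interProd δ n (Set.indicator {ξU} 1) (IntMult.interProd δ n (Set.indicator {ξV} 1) (Set.indicator {ξW} 1)) = IntMult.interProd δ n (IntMult.interProd δ n (Set.indicator {ξU} 1) (Set.indicator {ξV} 1)) (Set.indicator {ξW} 1) := by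
  exact GrothLib.ChiDev4.interProd_assoc f hX n hn ξU ξV ξW hUV hVW hUVW

end Groth.Agent.S6450
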