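import Groth.Statements.S6453
import Groth.Agent.Lib.IntMult3.Mult

set_option autoImplicit false
universe u
open CategoryTheory AlgebraicGeometry
attribute [local instance] HasDerivedCategory.standard
open IntMult

namespace Groth.Agent.S6453

/-- Suppose the ideal of V in O_{X,ξ} is generated by a single nonzerodivisor g (c = 1: V is an
effective Cartier divisor at ξ). Then e(X, V·W, Z) = length_{O_{X,ξ}}(O_{W,ξ}/g O_{W,ξ}), i.e. the
length of O_{X,ξ}/(I_{W,ξ} + (g)). Here X is a nonsingular variety over an algebraically closed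
field K (smooth, separated, quasi-compact, integral), V and W are closed subvarieties given by
quasi-coherent ideal sheaves with integral subschemes, of dimensions r and s with dim X = n,
intersecting properly, and ξ is the generic point of an irreducible component Z of V ∩ W (a point of
V ∩ W maximal under specialization); e(X, V·W, Z) = IntMult.mult is the alternating sum of lengths
of Tor over O_{X,ξ}, and O_{W,ξ} = O_{X,ξ}/I_{W,ξ}. -/
theorem result (K : Type u) [Field K] [IsAlgClosed K] (X : Scheme.{u}) (f : X ⟶ Spec (CommRingCat.of K)) [Smooth f] [IsSeparated f] [QuasiCompact f] [IsIntegral X] (IV IW : X.IdealSheafData) [IsIntegral IV.subscheme] [IsIntegral IW.subscheme] (n r s : ℕ) (hn : topologicalKrullDim X = n) (hr : topologicalKrullDim IV.support = r) (hs : topologicalKrullDim IW.support = s) (hprop : IntMult.ProperInt (IV.support : Set X) (IW.support : Set X) n r s) (ξ : X) (hξV : ξ ∈ IV.support) (hξW : ξ ∈ IW.support) (hmax : ∀ ξ' : X, ξ' ∈ IV.support → ξ' ∈ IW.support → ξ' ⤳ ξ → ξ' = ξ) (g :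 ↑(X.presheaf.stalk ξ)) (hg : IntMult.stalkIdeal IV ξ = Ideal.span {g}) (hreg : IsSMulRegular (↑(X.presheaf.stalk ξ)) g) : (IntMult.mult IV IW ξ : ℤ) = (Module.length (X.presheaf.stalk ξ) (↑(X.presheaf.stalk ξ) ⧸ (IntMult.stalkIdeal IW ξ ⊔ Ideal.span {g}))).toNat := by
    open GrothLib.IntMult3 GrothLib.KoszulEuler RingTheory.Sequence in
    haveI : IsLocallyNoetherian X := LocallyOfFiniteType.isLocallyNoetherian f
    haveI : IsNoetherianRing (X.presheaf.stalk ξ) := inferInstance
    have hfin := length_ne_top IV IW ξ hξV hξW hmax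
    have hm := IsLocalRing.le_maximalIdeal (stalkIdeal_ne_top IV hξV)
    obtain ⟨G, hG⟩ : ∃ G : Fin 1 → ↑(X.presheaf.stalk ξ), G = fun _ => g := ⟨_, rfl⟩
    have hl : List.ofFn G = [g] := by simp [hG]
    have hgG : IntMult.stalkIdeal IV ξ = Ideal.span (Set.range G) := by rw [hg, hG, Set.range_const]
    have hreg' : IsWeaklyRegular (↑(X.presheaf.stalk ξ)) (List.ofFn G) := by
      rw [hl, isWeaklyRegular_singleton_iff]; exact hreg
    have hgm : g ∈ IsLocalRing.maximalIdeal (X.presheaf.stalk ξ) := hm (hg ▸ Ideal.mem_span_singleton_self g)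
    have hR : IsRegular (↑(X.presheaf.stalk ξ)) (List.ofFn G) :=
      (IsLocalRing.isRegular_iff_isWeaklyRegular_of_subset_maximalIdeal (by rw [hl]; simpa using hgm)).2 hreg'
    have hdim := dim_eq_length f IV IW n r s hn hr hs hprop ξ hξV hξW 1 G hgG hR
    have hmult : IntMult.mult IV IW ξ = chi (ModuleCat.of _ (↑(X.presheaf.stalk ξ) ⧸ IntMult.stalkIdeal IW ξ)) (List.ofFn G) :=
      mult_eq_chi hgG hreg'
    rw [hmult, chi_eq_length hgG ?_, hg]
    haveI := (dim_quotient f IW s hs hξW).2
    rw [hl, isWeaklyRegular_singleton_iff]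
    have hgW : g ∉ IntMult.stalkIdeal IW ξ := fun h => by
      have h1 : Module.length (X.presheaf.stalk ξ) (↑(X.presheaf.stalk ξ) ⧸ IntMult.stalkIdeal IW ξ) ≠ ⊤ := by
        rwa [sup_eq_right.2 (hg.le.trans ((Ideal.span_singleton_le_iff_mem _).2 h))] at hfin
      have h2 := GrothLib.LenIneq.supportDim_le_zero h1
      rw [Module.supportDim_quotient_eq_ringKrullDim] at h2
      exact absurd (hdim.trans h2) (by norm_num)
    intro a b hab
    obtain ⟨a, rfl⟩ := Ideal.Quotient.mk_surjective a
    obtain ⟨b, rfl⟩ := Ideal.Quotient.mk_surjective b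
    refine Ideal.Quotient.eq.2 ((Ideal.IsPrime.mem_or_mem ‹_› (?_ : g * (a - b) ∈ _)).resolve_left hgW)
    rw [mul_sub]
    exact Ideal.Quotient.eq.1 hab

end Groth.Agent.S6453
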