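import Groth.Statements.S6454
-- import your own Groth.Agent.* helpers here
import Groth.Agent.Lib.C1.Tensor

set_option autoImplicit false
universe u
open CategoryTheory AlgebraicGeometry
open Cyc

namespace Groth.Agent.S6454

/-- Let L, N be invertible O_X-modules and α a (k + 1)-cycle on X. Then c_1(L) ∩ α + c_1(N) ∩ α = c_1(L
⊗ N) ∩ α in CH_k(X): for any nonzero rational sections used to compute the three caps (the tensor
product is CohB1.tensorMod), the sum of the first two k-cycles is rationally equivalent to the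
third. Here L(ξ) = L_ξ/𝔪_ξ L_ξ is the space of rational sections of L on the closure of ξ,
div_{L|W}(s) and c_1(L) ∩ α are computed as coefficient functions from chosen nonzero rational
sections (Cyc.secDivFun, Cyc.c1CapFun), and results are compared up to rational equivalence for any
cycles with those coefficients. A pair (X, δ) with Cyc.IsSetup plays the role of a scheme locally of
finite type over the base (S, δ) (X locally Noetherian with universally catenary local rings, δ a
dimension function). -/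
theorem result (X : Scheme.{u}) (δ : X → ℤ) (hX : Cyc.IsSetup X δ) (L N : X.Modules) (hL : PicF.IsInvertible L) (hN : PicF.IsInvertible N) (k : ℤ) (α : AlgebraicCycle X ℤ) (hα : α ∈ Cyc.Zk X δ (k + 1)) (sL : (ξ : X) → Cyc.secFibre L ξ) (hsL : ∀ ξ, sL ξ ≠ 0) (sN : (ξ : X) → Cyc.secFibre N ξ) (hsN : ∀ ξ, sN ξ ≠ 0) (sT : (ξ : X) → Cyc.secFibre (CohB1.tensorMod L N) ξ) (hsT : ∀ ξ, sT ξ ≠ 0) (γL γN γT : AlgebraicCycle X ℤ) (hγL : ⇑γL = Cyc.c1CapFun δ L ⇑α sL) (hγN : ⇑γN = Cyc.c1CapFun δ N ⇑α sN) (hγT : ⇑γT = Cyc.c1CapFun δ (CohB1.tensorMod L N) ⇑α sT) : Cyc.RatEquiv δ k (γL + γN) γT := by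
  haveI : IsLocallyNoetherian X := hX.1
  refine GrothLib.C1.ratEquiv_of_RZ hX.2.2 (GrothLib.C1.rz_c1Cap_tensor hX.2.2 hL hN (GrothLib.C1.LF.of_cycle α)
    (fun ξ hξ => by_contra fun h => hξ (hα ξ h)) hsL hsN hsT) fun x => ?_
  rw [Function.locallyFinsuppWithin.coe_add, Pi.sub_apply, Pi.add_apply, Pi.add_apply, hγL, hγN, hγT]

end Groth.Agent.S6454
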