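import Groth.Statements.S6459
-- import your own Groth.Agent.* helpers here
import Mathlib.AlgebraicGeometry.Properties

set_option autoImplicit false
universe u
open CategoryTheory AlgebraicGeometry
open Cyc

namespace Groth.Agent.S6459

/-- (b) ⇔ (c): let X be integral with generic point η and Z ⊂ X an integral closed subscheme with
generic point ξ. Then Z has codimension 1 in X (the local ring O_{X,ξ} is one-dimensional; Z is a
prime divisor) if and only if dim_δ(Z) = dim_δ(X) − 1. Here a pair (X, δ) with Cyc.IsSetup plays the
role of a scheme locally of finite type over the base (S, δ) (X locally Noetherian with universally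
catenary local rings, δ a dimension function). -/
theorem result (X : Scheme.{u}) [IsIntegral X] (δ : X → ℤ) (hX : Cyc.IsSetup X δ) (ξ : X) : ringKrullDim ↑(X.presheaf.stalk ξ) = 1 ↔ δ ξ = δ (genericPoint X) - 1 := by
  have hηξ : genericPoint X ⤳ ξ := genericPoint_specializes ξ
  rw [ringKrullDim_stalk_eq_coheight ξ]
  rw [show (1 : WithBot ℕ∞) = ((1 : ℕ∞) : WithBot ℕ∞) from rfl, WithBot.coe_inj]
  constructor
  · intro h
    have hne : genericPoint X ≠ ξ := by
      intro he
      have : Order.coheight ξ = 0 := Order.coheight_eq_zero.mpr fun b hb => by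
        rw [← he]
        exact genericPoint_specializes b
      simp [this] at h
    obtain ⟨hlt, himm⟩ := hX.2.2 _ _ hηξ hne
    have := himm fun z h1 h2 => by
      by_contra hz
      rw [not_or] at hz
      have hz1 : ξ < z := lt_iff_le_not_ge.mpr ⟨Scheme.le_iff_specializes.mpr h2,
        fun h' => hz.2 (Inseparable.eq (inseparable_iff_specializes_and.mpr
          ⟨h2, Scheme.le_iff_specializes.mp h'⟩))⟩
      have e1 : (1 : ℕ∞) ≤ Order.coheight z := by
        rw [Order.one_le_iff_ne_zero, ne_eq, Order.coheight_eq_zero]
        exact fun hmax => hz.1 (Inseparable.eq (inseparable_iff_specializes_and.mpr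
          ⟨Scheme.le_iff_specializes.mp (hmax (Scheme.le_iff_specializes.mpr h1)), h1⟩))
      have e2 := Order.coheight_add_one_le hz1
      rw [h] at e2
      exact absurd ((add_le_add_left e1 1).trans e2) (by decide)
    omega
  · intro h
    refine le_antisymm ?_ ?_
    · refine Order.coheight_le_iff'.mpr ?_
      intro p hp
      by_contra hlen
      push Not at hlen
      have h2 : 2 ≤ p.length := by exact_mod_cast hlen
      have l1 : p ⟨0, by omega⟩ < p ⟨1, by omega⟩ := p.strictMono (by simp [Fin.lt_def])
      have l2 : p ⟨1, by omega⟩ < p ⟨2, by omega⟩ := p.strictMono (by simp [Fin.lt_def])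
      have d1 := (hX.2.2 _ _ (Scheme.le_iff_specializes.mp l1.le) (fun e => l1.ne e.symm)).1
      have d2 := (hX.2.2 _ _ (Scheme.le_iff_specializes.mp l2.le) (fun e => l2.ne e.symm)).1
      have d3 : δ (p ⟨2, by omega⟩) ≤ δ (genericPoint X) := by
        by_cases e : genericPoint X = p ⟨2, by omega⟩
        · rw [← e]
        · exact (hX.2.2 _ _ (genericPoint_specializes _) e).1.le
      have : δ (p ⟨0, by omega⟩) = δ ξ := congrArg δ hp
      omega
    · rw [Order.one_le_iff_ne_zero, ne_eq, Order.coheight_eq_zero]
      intro hmax
      have : genericPoint X ⤳ ξ ∧ ξ ⤳ genericPoint X := ⟨hηξ, hmax (Scheme.le_iff_specializes.mpr hηξ)⟩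
      have := Inseparable.eq (inseparable_iff_specializes_and.mpr this)
      rw [this] at h
      omega

end Groth.Agent.S6459
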