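import Groth.Statements.S6460
-- import your own Groth.Agent.* helpers here
import Groth.Agent.Lib.LocNoeth.Space
import Groth.Agent.Lib.LocNoeth.Scheme

set_option autoImplicit false
universe u
open CategoryTheory AlgebraicGeometry
open Cyc

namespace Groth.Agent.S6460

/-- (3) ⇒ (1): suppose that for every x ∈ X there is an integer n_x with δ(ξ) = n_x for every generic
point ξ of an irreducible component of X containing x. Then X decomposes into open and closed
subschemes X_n (n ∈ ℤ) such that every irreducible component of X_n has δ-dimension n; stated as the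
existence of a locally constant c : X → ℤ with δ(ξ) = c(ξ) for every point ξ that is maximal under
specialization. (The converse implications are immediate and not stated.) Here a pair (X, δ) with
Cyc.IsSetup plays the role of a scheme locally of finite type over the base (S, δ) (X locally
Noetherian with universally catenary local rings, δ a dimension function). -/
theorem result (X : Scheme.{u}) (δ : X → ℤ) (hX : Cyc.IsSetup X δ) (h3 : ∀ x : X, ∃ n : ℤ, ∀ ξ : X, (∀ ξ' : X, ξ' ⤳ ξ → ξ' = ξ) → ξ ⤳ x → δ ξ = n) : ∃ c : X → ℤ, IsLocallyConstant c ∧ ∀ ξ : X, (∀ ξ' : X, ξ' ⤳ ξ → ξ' = ξ) → δ ξ = c ξ := by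
  choose n hn using h3
  haveI := hX.1
  obtain ⟨hmax, hgen⟩ : (∀ x : X, ∃ ξ, (∀ ξ' : X, ξ' ⤳ ξ → ξ' = ξ) ∧ ξ ⤳ x) ∧
      ∀ C ∈ irreducibleComponents X, ∃ ξ, (∀ ξ' : X, ξ' ⤳ ξ → ξ' = ξ) ∧ closure {ξ} = C := by
    have h2 : ∀ C ∈ irreducibleComponents X,
        ∃ ξ, (∀ ξ' : X, ξ' ⤳ ξ → ξ' = ξ) ∧ closure {ξ} = C := by
      intro C hC
      obtain ⟨ξ, hξ⟩ := quasiSober_iff _ |>.mp inferInstance hC.1
        (isClosed_of_mem_irreducibleComponents C hC)
      refine ⟨ξ, fun ξ' h' => (Inseparable.eq (inseparable_iff_specializes_and.mpr ⟨?_, h'⟩)).symm,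
        hξ⟩
      have hsub : C ⊆ closure {ξ'} := by
        rw [← hξ]
        exact closure_minimal (Set.singleton_subset_iff.mpr h'.mem_closure) isClosed_closure
      have := hC.2 isIrreducible_singleton.closure hsub
      exact specializes_iff_mem_closure.mpr (hξ.ge (this (subset_closure rfl)))
    refine ⟨fun x => ?_, h2⟩
    obtain ⟨ξ, h1, hξ⟩ := h2 _ (irreducibleComponent_mem_irreducibleComponents x)
    exact ⟨ξ, h1, specializes_iff_mem_closure.mpr (hξ ▸ mem_irreducibleComponent)⟩
  refine ⟨n, (IsLocallyConstant.iff_exists_open _).mpr fun x => ?_,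
    fun ξ hξ => hn ξ ξ hξ (specializes_refl _)⟩
  refine ⟨(⋃ C : {C : irreducibleComponents X // x ∉ (C : Set X)}, ((C.1 : Set X)))ᶜ, ?_, ?_, ?_⟩
  · exact (((GrothLib.LocNoeth.isLocNoeth X).locallyFinite.comp_injective
      Subtype.val_injective).isClosed_iUnion
      fun C => isClosed_of_mem_irreducibleComponents _ C.1.2).isOpen_compl
  · simp
  · intro y hy
    obtain ⟨ξ, h1, hξy⟩ := hmax y
    have hξx : ξ ⤳ x := by
      obtain ⟨C, hC, hξC⟩ : ∃ C ∈ irreducibleComponents X, closure {ξ} ⊆ C :=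
        exists_preirreducible _ isIrreducible_singleton.closure.isPreirreducible |>.elim
          fun t ht => ⟨t, ⟨⟨(Set.singleton_nonempty ξ).closure.mono ht.2.1, ht.1⟩,
            fun u hu htu => (ht.2.2 u hu.2 htu).le⟩, ht.2.1⟩
      obtain ⟨η, -, hη⟩ := hgen C hC
      have : η = ξ := h1 η (specializes_iff_mem_closure.mpr (hη ▸ hξC (subset_closure rfl)))
      subst this
      have hyC : y ∈ C := hη ▸ hξy.mem_closure
      have hxC : x ∈ C := by
        by_contra hxC
        exact hy (Set.mem_iUnion.mpr ⟨⟨⟨C, hC⟩, hxC⟩, hyC⟩)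
      exact specializes_iff_mem_closure.mpr (hη ▸ hxC)
    rw [← hn y ξ h1 hξy, hn x ξ h1 hξx]

end Groth.Agent.S6460
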