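import Groth.Statements.S6461
-- import your own Groth.Agent.* helpers here
import Groth.Agent.Lib.CycBasic.DimFun
import Groth.Agent.Lib.Depth.CM
import Mathlib.RingTheory.Ideal.AssociatedPrime.Localization
import Mathlib.AlgebraicGeometry.Noetherian

set_option autoImplicit false
universe u
open CategoryTheory AlgebraicGeometry
open Cyc

namespace Groth.Agent.S6461

/-- If all local rings of X are Cohen–Macaulay then every x ∈ X has an open neighbourhood U and an
integer n with δ(ξ) = n for every generic point ξ of an irreducible component of U (every point of U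
maximal under specialization). Here a pair (X, δ) with Cyc.IsSetup plays the role of a scheme
locally of finite type over the base (S, δ) (X locally Noetherian with universally catenary local
rings, δ a dimension function). -/
theorem result (X : Scheme.{u}) (δ : X → ℤ) (hX : Cyc.IsSetup X δ) (hCM : ∀ x : X, LocCoh.IsCohenMacaulayLocalRing ↑(X.presheaf.stalk x)) (x : X) : ∃ (U : X.Opens) (n : ℤ), x ∈ U ∧ ∀ ξ : X, ξ ∈ U → (∀ ξ' : X, ξ' ⤳ ξ → ξ' = ξ) → δ ξ = n := by
  classical
  haveI := hX.1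
  have key : ∀ ξ : X, (∀ ξ' : X, ξ' ⤳ ξ → ξ' = ξ) → ξ ⤳ x →
      ((δ ξ - δ x).toNat : WithBot ℕ∞) = ringKrullDim (X.presheaf.stalk x) := by
    intro ξ hmax hξ
    haveI : LocCoh.IsCohenMacaulayLocalRing ↑(X.presheaf.stalk x) := hCM x
    rw [← GrothLib.CycBasic.ringKrullDim_locQuot hX.2.2 x ξ hξ]
    show ringKrullDim (X.presheaf.stalk x ⧸ RingHom.ker (Cyc.specMap x ξ hξ)) = _
    set P := PrimeSpectrum.comap (X.presheaf.stalkSpecializes hξ).hom
      (IsLocalRing.closedPoint (X.presheaf.stalk ξ)) with hP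
    rw [ringKrullDim_eq_of_ringEquiv (Ideal.quotEquivOfEq (GrothLib.CycBasic.ker_specMap hξ))]
    refine le_antisymm (ringKrullDim_quotient_le _) ?_
    have hann : Module.annihilator (X.presheaf.stalk x) (X.presheaf.stalk x) = ⊥ :=
      Module.annihilator_eq_bot.2 inferInstance
    have hmin : P.asIdeal ∈ (Module.annihilator (X.presheaf.stalk x) (X.presheaf.stalk x)).minimalPrimes := by
      rw [hann]
      refine ⟨⟨P.2, bot_le⟩, fun q hq hqP => ?_⟩
      obtain ⟨hq, -⟩ := hq
      let Q : PrimeSpectrum (X.presheaf.stalk x) := ⟨q, hq⟩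
      have h1 : Q ≤ P := hqP
      have h2 := GrothLib.CycBasic.le_iff_specializes.1 h1
      rw [hP, GrothLib.CycBasic.fromSpecStalk_comap_closedPoint hξ] at h2
      have h3 : Q = P := (X.fromSpecStalk x).isEmbedding.injective
        ((hmax _ h2).trans (GrothLib.CycBasic.fromSpecStalk_comap_closedPoint hξ).symm)
      exact (congrArg PrimeSpectrum.asIdeal h3).ge
    have hd := GrothLib.Depth.depth_le_dim_quotient
      (Module.associatedPrimes.minimalPrimes_annihilator_subset_associatedPrimes (X.presheaf.stalk x) (X.presheaf.stalk x) hmin)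
    rw [← Module.supportDim_self_eq_ringKrullDim, LocCoh.IsCohenMacaulayLocalRing.supportDim_eq_depth]
    exact hd
  obtain ⟨V, hV, hxV, -⟩ := exists_isAffineOpen_mem_and_subset (x := x) (U := ⊤) trivial
  haveI : IsNoetherianRing Γ(X, V) := IsLocallyNoetherian.component_noetherian ⟨V, hV⟩
  haveI : IsNoetherian (V : Scheme.{u}) := by
    haveI : IsAffine (V : Scheme.{u}) := hV
    exact {}
  let G : Set X := {ξ | ξ ∈ V ∧ (∀ ξ' : X, ξ' ⤳ ξ → ξ' = ξ) ∧ ¬ ξ ⤳ x}
  have hG : G.Finite := by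
    have hfin : (irreducibleComponents (V : Set X)).Finite :=
      haveI : TopologicalSpace.NoetherianSpace (V : Set X) :=
        inferInstanceAs (TopologicalSpace.NoetherianSpace ((V : Scheme.{u}) : Type u))
      TopologicalSpace.NoetherianSpace.finite_irreducibleComponents
    have h2 : {ξ : (V : Set X) | ∀ ξ', ξ' ⤳ ξ → ξ' = ξ}.Finite := by
      haveI : QuasiSober (V : Set X) := inferInstanceAs (QuasiSober ((V : Scheme.{u}) : Type u))
      refine Set.Finite.of_finite_image (f := fun ξ => closure ({ξ} : Set (V : Set X))) (hfin.subset ?_) ?_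
      · rintro _ ⟨ξ, hξ, rfl⟩
        refine ⟨isIrreducible_singleton.closure, fun Z hZ hle => ?_⟩
        obtain ⟨g, hg⟩ := QuasiSober.sober (hZ.closure) isClosed_closure
        have hgξ : g ⤳ ξ := hg.specializes (subset_closure (hle (subset_closure rfl)))
        rw [hξ g hgξ, IsGenericPoint] at hg
        exact subset_closure.trans hg.ge
      · intro a _ b _ h
        exact ((specializes_iff_closure_subset.2 h.ge).antisymm (specializes_iff_closure_subset.2 h.le)).eq
    refine (h2.image Subtype.val).subset ?_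
    rintro ξ ⟨hξV, hmax, -⟩
    exact ⟨⟨ξ, hξV⟩, fun ξ' h => Subtype.ext (hmax _ (h.map continuous_subtype_val)), rfl⟩
  let C : Set X := ⋃ ξ ∈ G, closure ({ξ} : Set X)
  have hC : IsClosed C := hG.isClosed_biUnion fun _ _ => isClosed_closure
  obtain ⟨e, he⟩ : ∃ e : ℕ, ∀ ξ : X, (∀ ξ' : X, ξ' ⤳ ξ → ξ' = ξ) → ξ ⤳ x → δ ξ = δ x + e := by
    by_cases h : ∃ ξ : X, (∀ ξ' : X, ξ' ⤳ ξ → ξ' = ξ) ∧ ξ ⤳ x
    · obtain ⟨ξ₀, h1, h2⟩ := h
      refine ⟨(δ ξ₀ - δ x).toNat, fun ξ h3 h4 => ?_⟩
      have h5 := (key ξ h3 h4).trans (key ξ₀ h1 h2).symm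
      have h6 : (δ ξ - δ x).toNat = (δ ξ₀ - δ x).toNat := by exact_mod_cast h5
      have h7 := GrothLib.CycBasic.delta_le hX.2.2 h4
      omega
    · exact ⟨0, fun ξ h1 h2 => absurd ⟨ξ, h1, h2⟩ h⟩
  refine ⟨V ⊓ ⟨Cᶜ, hC.isOpen_compl⟩, δ x + e, ⟨hxV, fun hxC => ?_⟩, fun ξ hξ hmax => he ξ hmax ?_⟩
  · obtain ⟨ξ, hξ, hxξ⟩ := Set.mem_iUnion₂.1 hxC
    exact hξ.2.2 (specializes_iff_mem_closure.2 hxξ)
  · by_contra hns
    exact hξ.2 (Set.mem_iUnion₂.2 ⟨ξ, ⟨hξ.1, hmax, hns⟩, subset_closure rfl⟩)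

end Groth.Agent.S6461
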