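import Groth.Statements.S6462
-- import your own Groth.Agent.* helpers here
import Groth.Agent.Lib.CycBasic.DimFun
import Mathlib.Topology.JacobsonSpace
import Mathlib.Topology.Sober

set_option autoImplicit false
universe u
open CategoryTheory AlgebraicGeometry
open Cyc

theorem exists_closed_specializes {X : Scheme.{u}} [JacobsonSpace X] (ξ : X) :
    ∃ z : X, ξ ⤳ z ∧ IsClosed ({z} : Set X) := by
  obtain ⟨z, hz, hzc⟩ := nonempty_inter_closedPoints (Z := closure ({ξ} : Set X))
    ⟨ξ, subset_closure rfl⟩ isClosed_closure.isLocallyClosed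
  exact ⟨z, specializes_iff_mem_closure.2 hz, hzc⟩

theorem dim_closure {X : Scheme.{u}} [JacobsonSpace X] (δ : X → ℤ) (hδ : Cyc.IsDimFun X δ)
    (h0 : ∀ x : X, IsClosed ({x} : Set X) → δ x = 0) (ξ : X) :
    topologicalKrullDim ↥(closure ({ξ} : Set X)) = ((δ ξ).toNat : WithBot ℕ∞) := by
  classical
  obtain ⟨z, hz, hzc⟩ := exists_closed_specializes ξ
  haveI : QuasiSober ↥(closure ({ξ} : Set X)) :=
    (isClosed_closure.isClosedEmbedding_subtypeVal).quasiSober
  have hpos : ∀ y : X, 0 ≤ δ y := fun y => by
    obtain ⟨w, hw, hwc⟩ := exists_closed_specializes y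
    rw [← h0 w hwc]
    exact GrothLib.CycBasic.delta_le hδ hw
  let e : TopologicalSpace.IrreducibleCloseds ↥(closure ({ξ} : Set X)) ≃o ↥(closure ({ξ} : Set X)) :=
    { toEquiv := (irreducibleSetEquivPoints (α := ↥(closure ({ξ} : Set X)))).toEquiv
      map_rel_iff' := fun {a b} =>
        (subtype_specializes_iff _ _).symm.trans (irreducibleSetEquivPoints (α := ↥(closure ({ξ} : Set X)))).map_rel_iff' }
  rw [topologicalKrullDim, Order.krullDim_eq_of_orderIso e]
  refine le_antisymm (iSup_le fun l => ?_) ?_
  · have hstep : ∀ a b : ↥(closure ({ξ} : Set X)), a < b → δ a.1 < δ b.1 := fun a b hab => by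
      have hsp : b.1 ⤳ a.1 := hab.le
      refine (hδ b.1 a.1 hsp fun e => hab.not_ge (Subtype.ext e : b = a).le).1
    have hl : ∀ i : Fin (l.length + 1), δ (l.head).1 + (i : ℕ) ≤ δ (l i).1 := by
      intro i
      induction i using Fin.induction with
      | zero => simp [RelSeries.head]
      | succ j hj =>
        have := hstep _ _ (l.step j)
        simp only [Fin.val_succ, Fin.val_castSucc] at hj ⊢
        push_cast
        omega
    have h1 := hl (Fin.last _)
    have h2 := GrothLib.CycBasic.delta_le hδ (specializes_iff_mem_closure.2 (l (Fin.last _)).2)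
    have h3 := hpos l.head.1
    simp only [Fin.val_last] at h1
    exact_mod_cast (show l.length ≤ (δ ξ).toNat by omega)
  · have h := GrothLib.CycBasic.ringKrullDim_locQuot hδ z ξ hz
    rw [h0 z hzc, sub_zero] at h
    rw [← h]
    show ringKrullDim (X.presheaf.stalk z ⧸ RingHom.ker (Cyc.specMap z ξ hz)) ≤ _
    rw [ringKrullDim_quotient, ← Order.krullDim_orderDual]
    have hmem : ∀ Q : PrimeSpectrum.zeroLocus (RingHom.ker (Cyc.specMap z ξ hz) : Set (X.presheaf.stalk z)),
        X.fromSpecStalk z Q.1 ∈ closure ({ξ} : Set X) := fun Q => by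
      refine specializes_iff_mem_closure.1 ((specializes_of_eq (GrothLib.CycBasic.fromSpecStalk_comap_closedPoint hz).symm).trans
        (GrothLib.CycBasic.le_iff_specializes.1 ?_))
      show (PrimeSpectrum.comap _ _).asIdeal ≤ Q.1.asIdeal
      rw [← GrothLib.CycBasic.ker_specMap hz]
      exact Q.2
    refine Order.krullDim_le_of_strictMono
      (fun Q => (⟨X.fromSpecStalk z (OrderDual.ofDual Q).1, hmem _⟩ : ↥(closure ({ξ} : Set X)))) fun P Q hPQ => ?_
    refine lt_of_le_not_ge (GrothLib.CycBasic.le_iff_specializes.1 hPQ.le) fun e => hPQ.not_ge ?_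
    exact GrothLib.CycBasic.le_iff_specializes.2 e

namespace Groth.Agent.S6462

/-- Assume in addition that X is Jacobson and δ(x) = 0 for every closed point x. For a point ξ of X with
closure Z (an integral closed subscheme whose generic point is ξ) one then has δ(ξ) = dim Z = dim
O_{Z,z} for every closed point z of Z; here Z is the closure of ξ and O_{Z,z} = O_{X,z}/𝔭_ξ
(Cyc.LocQuot). (The published statement takes X locally of finite type over a Jacobson base with δ
zero on the base's closed points; this row assumes instead that X is Jacobson and δ vanishes on the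
closed points of X, which follows from the published hypotheses.) Here a pair (X, δ) with
Cyc.IsSetup plays the role of a scheme locally of finite type over the base (S, δ) (X locally
Noetherian with universally catenary local rings, δ a dimension function). -/
theorem result (X : Scheme.{u}) [JacobsonSpace X] (δ : X → ℤ) (hX : Cyc.IsSetup X δ) (h0 : ∀ x : X, IsClosed ({x} : Set X) → δ x = 0) (ξ : X) : (topologicalKrullDim ↥(closure ({ξ} : Set X)) = ((δ ξ).toNat : WithBot ℕ∞) ∧ 0 ≤ δ ξ) ∧ ∀ (z : X) (h : ξ ⤳ z), IsClosed ({z} : Set X) → ringKrullDim (Cyc.LocQuot z ξ h) = ((δ ξ).toNat : WithBot ℕ∞) := by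
  have hpos : 0 ≤ δ ξ := by
    obtain ⟨w, hw, hwc⟩ := exists_closed_specializes ξ
    rw [← h0 w hwc]
    exact GrothLib.CycBasic.delta_le hX.2.2 hw
  refine ⟨⟨dim_closure δ hX.2.2 h0 ξ, hpos⟩, fun z h hz => ?_⟩
  rw [GrothLib.CycBasic.ringKrullDim_locQuot hX.2.2 z ξ h, h0 z hz, sub_zero]

end Groth.Agent.S6462
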