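import Groth.Statements.S6463
import Groth.Agent.Lib.Seesaw26.Universal
import Groth.Agent.Lib.Seesaw26.FieldFunctions

set_option autoImplicit false
universe u
open CategoryTheory CategoryTheory.Limits AlgebraicGeometry
open PicF

namespace Groth.Agent.S6463

/-- For a field k and a smooth projective curve X over k that has a k-rational point σ, the conditions
under which the Picard functor is computed through the section are met: f : X → Spec k is flat,
proper and of finite presentation with a section, and O_T → f_{T,*} O_{X_T} is an isomorphism for
every scheme T over k. Only the last assertion is stated (the others are part of the hypotheses or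
immediate): for every t : T → Spec k, the sheaf map of the base change X ×_k T → T is an
isomorphism. Proper replaces projective (they agree for curves over a field). -/
theorem result (k : Type u) [Field k] (X : Scheme.{u}) (f : X ⟶ Spec (CommRingCat.of k)) (hX : Curve.IsSmoothProperCurve k X f) (σ : Spec (CommRingCat.of k) ⟶ X) (hσ : σ ≫ f = 𝟙 (Spec (CommRingCat.of k))) (T : Scheme.{u}) (t : T ⟶ Spec (CommRingCat.of k)) : IsIso (pullback.snd f t).c := by
  obtain ⟨hP, hS, hI, -⟩ := hX
  haveI : IsLocallyNoetherian (Spec (CommRingCat.of k)) := inferInstance
  have h0 : ∀ y : Spec (CommRingCat.of k),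
      Module.finrank ((Spec (CommRingCat.of k)).residueField y) Γ(f.fiber y, ⊤) = 1 := by
    intro y
    haveI : Subsingleton ↥(Spec (CommRingCat.of k)) := inferInstanceAs (Subsingleton (PrimeSpectrum k))
    let q := (Spec (CommRingCat.of k)).fromSpecResidueField y
    haveI : IsClosedImmersion q :=
      isClosed_singleton_iff_isClosedImmersion.1 (Set.subsingleton_of_subsingleton.isClosed)
    haveI : Surjective q := ⟨fun z => ⟨IsLocalRing.closedPoint ((Spec (CommRingCat.of k)).residueField y), Subsingleton.elim _ _⟩⟩
    haveI : IsReduced (Spec (CommRingCat.of k)) := inferInstance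
    haveI : IsIso q := isIso_of_isClosedImmersion_of_surjective q
    haveI : IsIso (f.fiberι y) := inferInstanceAs (IsIso (pullback.fst f q))
    haveI : IsIntegral (f.fiber y) :=
      haveI : Nonempty ↥(f.fiber y) := ⟨(inv (f.fiberι y)) (Classical.arbitrary X)⟩
      isIntegral_of_isOpenImmersion (f.fiberι y)
    haveI : UniversallyClosed (f.fiberToSpecResidueField y) :=
      inferInstanceAs (UniversallyClosed (pullback.snd f q))
    let τ : Spec ((Spec (CommRingCat.of k)).residueField y) ⟶ f.fiber y :=
      pullback.lift (q ≫ σ) (𝟙 _) (by rw [Category.assoc, hσ, Category.comp_id, Category.id_comp])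
    have hτ : τ ≫ f.fiberToSpecResidueField y = 𝟙 _ := pullback.lift_snd _ _ _
    have h1 : ∀ a, τ.appTop ((f.fiberToSpecResidueField y).appTop a) = a := fun a => by
      rw [← CommRingCat.comp_apply, ← Scheme.Hom.comp_appTop, hτ]
      simp
    haveI : ConnectedSpace ↥(f.fiber y) := inferInstance
    haveI : @UniversallyClosed (f.fiber y) (Spec (CommRingCat.of ((Spec (CommRingCat.of k)).residueField y)))
        (f.fiberToSpecResidueField y) := inferInstanceAs (UniversallyClosed (pullback.snd f q))
    letI := (GrothLib.Rigidity.isField_appTop_of_universallyClosed (K := (Spec (CommRingCat.of k)).residueField y)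
      (f.fiberToSpecResidueField y)).toField
    have hinj : Function.Injective τ.appTop.hom := τ.appTop.hom.injective
    have hb : Function.Bijective (f.fiberToSpecResidueField y).appTop :=
      ⟨Function.LeftInverse.injective (g := τ.appTop) h1,
        fun z => ⟨τ.appTop z, hinj (h1 _)⟩⟩
    have hb' : Function.Bijective (Algebra.linearMap ((Spec (CommRingCat.of k)).residueField y) Γ(f.fiber y, ⊤)) :=
      hb.comp (ConcreteCategory.bijective_of_isIso (Scheme.ΓSpecIso ((Spec (CommRingCat.of k)).residueField y)).inv)
    rw [← (LinearEquiv.ofBijective _ hb').finrank_eq, Module.finrank_self]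
  haveI : ∀ U, IsIso ((pullback.snd f t).c.app U) := fun U => (ConcreteCategory.isIso_iff_bijective _).2
    (GrothLib.Seesaw26.bijective_app_baseChange f h0 t U.unop)
  exact NatIso.isIso_of_isIso_app _

end Groth.Agent.S6463
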