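import Groth.Statements.S6470
import Groth.Agent.Lib.ChiDev4.Main
-- import your own Groth.Agent.* helpers here

set_option autoImplicit false
set_option linter.all false
set_option backward.isDefEq.respectTransparency false
universe u
open CategoryTheory CategoryTheory.Limits AlgebraicGeometry
attribute [local instance] HasDerivedCategory.standard
open IntMult

namespace Groth.Agent.S6470

/-- Let X be a nonsingular variety of dimension n and F, G coherent O_X-modules. Suppose the support of
F has dimension at most r, the support of G has dimension at most s, and the two supports meet in a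
set whose dimension does not exceed r + s − n. Then [F]_r and [G]_s intersect properly and [F]_r ·
[G]_s = Σ_p (−1)^p [Tor_p^{O_X}(F, G)]_{r+s−n}; the right side is written through stalks: its
coefficient at ζ with δ(ζ) = r + s − n is Σ_p (−1)^p length_{O_{X,ζ}} Tor_p^{O_{X,ζ}}(F_ζ, G_ζ)
(IntMult.chi), the stalk of the Tor sheaf being the Tor of the stalks. Support bounds are phrased
through nontrivial stalks. Here X is a nonsingular variety over the algebraically closed field K
(smooth, separated, quasi-compact, integral) with dimension function δ (transcendence degree over K,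
recorded by Cyc.DeltaCompat to Spec K with value 0, together with Cyc.IsSetup) and n = dim X = δ of
the generic point; cycles are coefficient functions X → ℤ, proper intersection is
IntMult.IntersectProperly and α · β is the Tor-formula intersection product on coefficient functions
(IntMult.interProd). -/
theorem result (K : Type u) [Field K] [IsAlgClosed K] (X : Scheme.{u}) (f : X ⟶ Spec (CommRingCat.of K)) [Smooth f] [IsSeparated f] [QuasiCompact f] [IsIntegral X] (δ : X → ℤ) (hX : Cyc.IsSetup X δ) (hδ : Cyc.DeltaCompat f δ (fun _ => 0)) (n : ℤ) (hn : δ (genericPoint X) = n) (F G : X.Modules) (hF : Coh.IsCoh F) (hG : Coh.IsCoh G) (r s : ℤ) (hr : ∀ x : X, Nontrivial (F.presheaf.stalk x) → δ x ≤ r) (hs : ∀ x : X, Nontrivial (G.presheaf.stalk x) → δ x ≤ s) (hrs : ∀ x : X, Nontrivial (F.presheaf.stalk x) → Nontrivial (G.presheaf.stalk x) → δ x ≤ r + s - n) : IntMult.IntersectProperly δ n (Cyc.sheafFun δ r F) (Cyc.sheafFun δ s G) ∧ ∀ ζ : X, IntMult.interProd δ n (Cyc.sheafFun δ r F) (Cyc.sheafFun δ s G) ζ = if δ ζ = r + s - n then IntMult.chi ↑(X.presheaf.stalk ζ) ↑(F.presheaf.stalk ζ) ↑(G.presheaf.stalk ζ) else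 0 := by
  exact GrothLib.ChiDev4.interProd_sheafFun f hX n hn F G hF hG r s hr hs hrs

end Groth.Agent.S6470
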