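import Groth.Statements.S6472
-- import your own Groth.Agent.* helpers here
import Groth.Agent.Lib.DimCut.Product

set_option autoImplicit false
universe u
open CategoryTheory CategoryTheory.Limits AlgebraicGeometry
open IntMult

namespace Groth.Agent.S6472

/-- Let X be a nonsingular variety of dimension n over the algebraically closed field K. Then Δ : X → X
×_K X, the diagonal, is regular of codimension n as an immersion (RegImm.IsRegularImmersionOfCodim
of kind regular: an immersion which, around every point, in an affine open where it is closed, is
cut out by a regular sequence of length n). Nonsingular variety: X → Spec K smooth, separated,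
quasi-compact, X integral; n = Krull dimension of X. -/
theorem result (K : Type u) [Field K] [IsAlgClosed K] (X : Scheme.{u}) (f : X ⟶ Spec (CommRingCat.of K)) [Smooth f] [IsSeparated f] [QuasiCompact f] [IsIntegral X] (n : ℕ) (hn : topologicalKrullDim X = n) : RegImm.IsRegularImmersionOfCodim RegImm.Kind.regular n (pullback.diagonal f) := by
  exact GrothLib.DimCut.diagonal_regular f n hn

end Groth.Agent.S6472
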