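import Groth.Statements.S6473
-- import your own Groth.Agent.* helpers here
import Groth.Agent.Lib.DimCut.Basic
import Mathlib.AlgebraicGeometry.PullbackCarrier

set_option autoImplicit false
universe u
open CategoryTheory CategoryTheory.Limits AlgebraicGeometry
open IntMult

namespace Groth.Agent.S6473

/-- Let f : X → Y be a morphism of varieties over K which is a regular immersion of codimension c, and Z
⊂ Y a closed subvariety of dimension d. Then each irreducible component T of f⁻¹(Z) = X ×_Y Z
satisfies dim T ≥ d − c; stated as d ≤ dim T + c. Varieties: integral, separated, of finite type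
over the algebraically closed field K. (The published statement takes f to be a closed immersion,
regular immersions being closed there; this row allows any immersion cut out, locally on Y where it
is closed, by a regular sequence of length c, the bound being local on Y. The published statement
also has a second part, for local complete intersection morphisms of a given relative dimension,
which this row does not state.) -/
theorem result (K : Type u) [Field K] [IsAlgClosed K] (X Y Z : Scheme.{u}) (gX : X ⟶ Spec (CommRingCat.of K)) (gY : Y ⟶ Spec (CommRingCat.of K)) [IsSeparated gX] [LocallyOfFiniteType gX] [QuasiCompact gX] [IsIntegral X] [IsSeparated gY] [LocallyOfFiniteType gY] [QuasiCompact gY] [IsIntegral Y] (f : X ⟶ Y) (hf : f ≫ gY = gX) (c : ℕ) (hreg : RegImm.IsRegularImmersionOfCodim RegImm.Kind.regular c f) (ι : Z ⟶ Y) [IsClosedImmersion ι] [IsIntegral Z] (d : ℕ) (hd : topologicalKrullDim Z = d) (T : Set ↥(pullback f ι)) (hT : T ∈ irreducibleComponents ↥(pullback f ι)) : ((d : ℕ) : WithBot ℕ∞) ≤ topologicalKrullDim ↥T + c := by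
  haveI : IsImmersion f := hreg.1
  let j := pullback.snd f ι
  haveI : IsImmersion j := inferInstance
  have hj : Set.range j = ι ⁻¹' Set.range f := Scheme.Pullback.range_snd f ι
  haveI : LocallyOfFiniteType (ι ≫ gY) := inferInstance
  obtain ⟨t, ht, hTdim⟩ := GrothLib.DimCut.dim_eq_ptDim (isClosed_of_mem_irreducibleComponents T hT) hT.1
  have hmin : ∀ w : ↥(pullback f ι), w ⤳ t → w = t := fun w hw => by
    have h1 : T ⊆ closure {w} := by rw [← ht.def]; exact hw.closure_subset
    have h2 := hT.2 isIrreducible_singleton.closure h1
    exact (hw.antisymm (ht.specializes (h2 (subset_closure rfl)))).eq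
  have hz : ι (j t) ∈ Set.range f := by
    have : j t ∈ Set.range j := ⟨t, rfl⟩
    rwa [hj] at this
  have h := GrothLib.DimCut.ptDim_le_add_codim (ι ≫ gY) ι hreg hz (genericPoint_specializes (j t)) (fun w hw _ hwt => by
    obtain ⟨t', rfl⟩ : w ∈ Set.range j := hj ▸ hw
    rw [hmin t' (j.isEmbedding.isInducing.specializes_iff.1 hwt)])
  rw [← GrothLib.DimCut.ptDim_immersion (ι ≫ gY) j t] at h
  have hd' : GrothLib.AffDom.ptDim (genericPoint Z) = (d : WithBot ℕ∞) := by
    rw [GrothLib.AffDom.ptDim, (genericPoint_spec Z).def, ← hd]
    exact IsHomeomorph.topologicalKrullDim_eq _ (Homeomorph.Set.univ Z).isHomeomorph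
  rw [hd'] at h
  rw [hTdim]
  exact h

end Groth.Agent.S6473
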