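import Groth.Statements.S6474
-- import your own Groth.Agent.* helpers here
import Groth.Agent.Lib.PBDeg17.VBInj


set_option autoImplicit false
universe u
open CategoryTheory AlgebraicGeometry
open Cyc

namespace Groth.Agent.S6474

/-- Injectivity; surjectivity is the affine-fibres result: suppose ℰ is an O_X-module that is locally
free of finite rank r, and let p : E = Spec(Sym^* ℰ) → X denote the associated vector bundle. Then
p^* : CH_k(X) → CH_{k+r}(E) is injective: a k-cycle α on X with p^*α ∼_rat 0 on E is itself ∼_rat 0.
The vector bundle is given through the relative-spectrum layer: A a quasi-coherent O_X-algebra with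
j : ℰ → A making A the symmetric algebra of ℰ (RelSpec.IsSymAlg, ℰ quasi-coherent), E = A.spec with
structure morphism A.π and the induced dimension function. Here a pair (X, δ) with Cyc.IsSetup plays
the role of a scheme locally of finite type over the base (S, δ) (X locally Noetherian with
universally catenary local rings, δ a dimension function), and Cyc.DeltaCompat records that the
dimension function upstairs is the induced one. -/
theorem result (X : Scheme.{u}) (δ : X → ℤ) (hX : Cyc.IsSetup X δ) (ℰ : X.Modules) (hq : Coh.IsQCoh ℰ) (r : ℕ) (hr : FlatMod.IsFinLocFreeOfRank r ℰ) (A : RelSpec.QCAlg X) (j : ℰ ⟶ A.toModule) (hA : RelSpec.IsSymAlg ℰ A j) (δE : ↥A.spec → ℤ) (hE : Cyc.IsSetup A.spec δE) (hδ : Cyc.DeltaCompat A.π δE δ) (k : ℤ) (α : AlgebraicCycle X ℤ) (hα : α ∈ Cyc.Zk X δ k) (γ : AlgebraicCycle A.spec ℤ) (hγ : ⇑γ = Cyc.pullFun A.π δE δ r ⇑α) (h0 : Cyc.RatEquivZero δE (k + r) γ) : Cyc.RatEquivZero δ k α := by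
  exact GrothLib.PBDeg.ratEquivZero_of_vectorBundle hX hr hA hE hδ hα hγ h0

end Groth.Agent.S6474
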