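import Groth.Statements.S6475
-- import your own Groth.Agent.* helpers here
import Groth.Agent.Lib.PBDeg17.DegCap
import Groth.Agent.Lib.ChowStrata17.Basic
import Groth.Agent.S1899
import Groth.Agent.S0458
import Groth.Agent.Lib.Poincare.TensorInv

set_option autoImplicit false
universe u
open CategoryTheory AlgebraicGeometry
open Cyc

namespace Groth.Agent.S6475

/-- Let X be proper over a field k, Z ⊂ X a closed subscheme of dimension d and L_1, …, L_d invertible
O_X-modules. Then the intersection number (L_1 ⋯ L_d · Z) equals deg(c_1(L_1) ∩ … ∩ c_1(L_d) ∩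
[Z]_d). The left side is FGA.intNum (alternating sum of Euler characteristics of (⊗_{i∈I} M_i) ⊗ O_Z
with M_i inverse to L_i, which is the number defined through the numerical polynomial); the right
side iterates Cyc.c1CapFun with any nonzero rational sections starting from [Z]_d and takes
ChowOps.deg of the resulting 0-cycle. Dimension function: transcendence degree over k. The caps are
applied starting with L_1 (innermost), the reverse of the displayed order; the degree does not
depend on the order. (The published statement also gives deg_L(Z) = deg(c_1(L)^d ∩ [Z]_d) for an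
ample L, the case L_1 = … = L_d = L; this row does not restate it.) -/
theorem result (k : Type u) [Field k] (X : Scheme.{u}) [X.Over (Spec (CommRingCat.of k))] [IsProper (X ↘ Spec (CommRingCat.of k))] (δ : X → ℤ) (hX : Cyc.IsSetup X δ) (hδ : Cyc.DeltaCompat (X ↘ Spec (CommRingCat.of k)) δ (fun _ => 0)) (Z : Scheme.{u}) (ι : Z ⟶ X) [IsClosedImmersion ι] (d : ℕ) (hd : topologicalKrullDim Z = d) (L M : Fin d → X.Modules) (hL : ∀ i, PicF.IsInvertible (L i)) (hM : ∀ i, Nonempty (CohB1.tensorMod (M i) (L i) ≅ Coh.structureModule X)) (s : (i : Fin d) → (ξ : X) → Cyc.secFibre (L i) ξ) (hs : ∀ i ξ, s i ξ ≠ 0) (γ : ℕ → X → ℤ) (hγ0 : γ 0 = Cyc.subschemeFun δ d ι) (hγs : ∀ (i : ℕ) (h : i < d), γ (i + 1) = Cyc.c1CapFun δ (L ⟨i, h⟩) (γ i) (s ⟨i, h⟩)) (α : AlgebraicCycle X ℤ) (hα : ⇑α = γ d) : FGA.intNum k X d M ((Coh.push ι).obj (Coh.structureModule Z)) = ChowOps.deg (X ↘ Spec (CommRingCat.of k)) δ α := by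
  classical
  haveI := hX.1
  haveI : AlgebraicGeometry.IsNoetherian X := GrothLib.Euler.isNoetherian_of_proper (X := X) k
  haveI : CompactSpace Z := ι.isClosedEmbedding.compactSpace
  haveI : IsLocallyNoetherian Z := LocallyOfFiniteType.isLocallyNoetherian ι
  haveI : AlgebraicGeometry.IsNoetherian Z := {}
  haveI : TopologicalSpace.NoetherianSpace Z.toTopCat := inferInstanceAs (TopologicalSpace.NoetherianSpace Z)
  have hdim : ∀ z : Z, δ (ι z) ≤ (d : ℤ) := by
    intro z
    obtain ⟨n, hn, hn'⟩ := GrothLib.ChowStrata17.delta_eq_ptDim (X ↘ Spec (CommRingCat.of k)) hδ (ι z)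
    have hle : GrothLib.AffDom.ptDim (ι z) ≤ topologicalKrullDim Z := by
      refine le_trans ((Topology.IsEmbedding.inclusion (closure_minimal (Set.singleton_subset_iff.2
        (Set.mem_range_self z)) ι.isClosedEmbedding.isClosed_range)).isInducing.topologicalKrullDim_le) (le_of_eq ?_)
      exact (IsHomeomorph.topologicalKrullDim_eq _ (ι.isClosedEmbedding.isEmbedding.toHomeomorph.isHomeomorph)).symm
    rw [hn', hd] at hle
    rw [hn]
    exact_mod_cast hle
  set F := (Coh.push ι).obj (Coh.structureModule Z) with hFdef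
  have hFs : CohB1.support F ⊆ Set.range ι := GrothLib.QCoh.support_pushforward_subset_range ι _
  have hFc : Coh.IsCoh F := GrothLib.FormalExist7.isCoh_pushforward ι
    (GrothLib.Euler.isCoh_of_isFinLocFree (GrothLib.Euler.isFinLocFree_of_isInvertible GrothLib.Euler.isInvertible_structure))
  have hF : Cyc.CohLe δ (d : ℤ) F := ⟨hFc, fun x hx => by
    obtain ⟨z, rfl⟩ := hFs (GrothLib.CycBasic.nontrivial_iff_mem_support.1 hx)
    exact hdim z⟩
  have hcd : ∀ G : Z.Modules, Coh.IsQCoh G → ∀ i : ℕ, d + 1 ≤ i → Subsingleton (Coh.HH Z G i) := fun G _ i hi =>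
    Groth.Agent.S0458.result (X := Z.toTopCat) d hd.le (Coh.toAb G) i hi
  have hMinv : ∀ i, ∃ hMi : PicF.IsInvertible (M i),
      Nonempty (CohB1.tensorMod (GrothLib.HodgeIndex.rep (GrothLib.Cube.clsMod hMi)) (L i) ≅ Coh.structureModule X) := by
    intro i
    have hMi : PicF.IsInvertible (M i) := GrothLib.KL.isInvertible_of_tensor_iso (GrothLib.GrTilde.tensorModComm (L i) (M i) ≪≫ (hM i).some) (hL i) GrothLib.Euler.isInvertible_structure
    obtain ⟨e⟩ := (GrothLib.Cube.clsMod_eq_iff (GrothLib.HodgeIndex.isInv_rep _) hMi).1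
      (GrothLib.HodgeIndex.cls_rep (GrothLib.Cube.clsMod hMi))
    exact ⟨hMi, ⟨(GrothLib.Euler.tF (L i)).mapIso e ≪≫ (hM i).some⟩⟩
  choose hMi hz using hMinv
  have key : ∀ l : List (Fin d), GrothLib.Cube.HasCls (FGA.tensorList (l.map M))
      (l.map fun i => GrothLib.Cube.clsMod (hMi i)).prod := by
    intro l
    induction l with
    | nil => exact GrothLib.Cube.hasCls_structureModule X
    | cons i l ih => exact GrothLib.Cube.HasCls.tensor (GrothLib.Cube.hasCls_clsMod (hMi i)) ih
  have hint : FGA.intNum k X d M F = GrothLib.FGAInt26.del (GrothLib.FGAInt26.ev k F) (fun i => GrothLib.Cube.clsMod (hMi i)) := by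
    rw [← GrothLib.FGAInt26.sum_finset_eq_del, FGA.intNum]
    refine Finset.sum_congr rfl fun I _ => ?_
    congr 1
    set N := FGA.tensorList ((I.sort (· ≤ ·)).map M) with hNdef
    have hN := key (I.sort (· ≤ ·))
    have hI : ∏ i ∈ I, GrothLib.Cube.clsMod (hMi i) = ((I.sort (· ≤ ·)).map fun i => GrothLib.Cube.clsMod (hMi i)).prod := by
      rw [Finset.prod_eq_multiset_prod, ← Multiset.prod_coe, ← Multiset.map_coe, Finset.sort_eq]
    rw [hI, ← GrothLib.FGAInt26.euler_tensor_eq k hN, ← hNdef]
    have e : CohB1.tensorMod F N ≅ CohB1.tensorMod N F := GrothLib.GrTilde.tensorModComm F N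
    have hc : Coh.IsCoh (CohB1.tensorMod N F) :=
      GrothLib.QCoh.isCoh_of_iso e (GrothLib.PBDeg.K0Cyc.cohLe_tensor hN.1 hF).1
    have hsupp : CohB1.support (CohB1.tensorMod N F) ⊆ Set.range ι := by
      intro x hx
      refine hFs fun h => ?_
      rw [← GrothLib.QCoh.support_eq_of_iso e] at hx
      obtain ⟨t, ht⟩ := GrothLib.C1.exists_gen hN.1 x
      haveI : Subsingleton (GrothLib.PBDeg.KPhi.stk F x) := h
      exact hx (GrothLib.PBDeg.K0Cyc.mulGenEquiv F ht).symm.toEquiv.subsingleton
    rw [GrothLib.Euler.euler_eq_sum k _ (N := d + 1) fun n hn =>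
      GrothLib.SuppIso.subsingleton_HH_of_supp ι d hcd hc hsupp n hn]
    rfl
  rw [hint, GrothLib.PBDeg.DegCap.del_eq_iterDeg k hX hδ d L hL _ hz s hs F hF,
    ← Groth.Agent.S1899.result X Z δ hX ι (d : ℤ) hdim, ← hγ0,
    GrothLib.PBDeg.DegCap.iterDeg_seq k d L s γ hγs,
    GrothLib.PBDeg.DegCap.deg_eq_degF k hδ α ?_, hα]
  intro x hx
  rw [hα] at hx
  have hstep : ∀ i, i ≤ d → ∀ y, γ i y ≠ 0 → δ y = (d : ℤ) - i := by
    intro i
    induction i with
    | zero =>
      intro _ y hy
      rw [hγ0] at hy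
      simp only [Cyc.subschemeFun] at hy
      split_ifs at hy with h
      · simpa using h
      · exact absurd rfl hy
    | succ i ih =>
      intro hi y hy
      rw [hγs i (by omega)] at hy
      have := GrothLib.C1.c1Cap_mem (δ := δ) (k := (d : ℤ) - i - 1) (fun ξ hξ => by rw [ih (by omega) ξ hξ]; ring) (s ⟨i, by omega⟩) hy
      push_cast
      omega
  simpa using hstep d le_rfl x hx

end Groth.Agent.S6475
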