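import Groth.Statements.S6476
-- import your own Groth.Agent.* helpers here
import Groth.Agent.Lib.LengthQuotX

set_option autoImplicit false
universe u v
open CycAlg

namespace Groth.Agent.S6476

/-- Let A be a Noetherian local ring, M a finite A-module of dimension 1, and φ, ψ : M → M injective
with φ(ψ(M)) = ψ(φ(M)) (e.g. φ, ψ commute). Then length_A(M/φψM) is finite and (M/φψM, φ, ψ) is an
exact (2, 1)-periodic complex; here φ', ψ' denote the endomorphisms of M/φψM induced by φ and ψ, and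
exactness says both cohomology modules (CycAlg.perH) are trivial. -/
theorem result {A : Type u} [CommRing A] [IsNoetherianRing A] [IsLocalRing A] {M : Type v} [AddCommGroup M] [Module A M] [Module.Finite A M] (hdim : Module.supportDim A M = 1) (φ ψ : M →ₗ[A] M) (hφ : Function.Injective φ) (hψ : Function.Injective ψ) (hcomm : Submodule.map φ (LinearMap.range ψ) = Submodule.map ψ (LinearMap.range φ)) (φ' ψ' : (M ⧸ LinearMap.range (φ ∘ₗ ψ)) →ₗ[A] (M ⧸ LinearMap.range (φ ∘ₗ ψ))) (hφ' : φ' ∘ₗ (LinearMap.range (φ ∘ₗ ψ)).mkQ = (LinearMap.range (φ ∘ₗ ψ)).mkQ ∘ₗ φ) (hψ' : ψ' ∘ₗ (LinearMap.range (φ ∘ₗ ψ)).mkQ = (LinearMap.range (φ ∘ₗ ψ)).mkQ ∘ₗ ψ) : Module.length A (M ⧸ LinearMap.range (φ ∘ₗ ψ)) < ⊤ ∧ CycAlg.IsPeriodic φ' ψ' ∧ Subsingleton (CycAlg.perH φ' ψ') ∧ Subsingleton (CycAlg.perH ψ' φ') := by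
  have hinj : Function.Injective (φ ∘ₗ ψ) := hφ.comp hψ
  have hlen := GrothLib.LengthQuotX.length_quot_range_lt_top hdim.le (φ ∘ₗ ψ) hinj
  have ep : ∀ m, φ' (Submodule.Quotient.mk m) = Submodule.Quotient.mk (φ m) := LinearMap.congr_fun hφ'
  have eq : ∀ m, ψ' (Submodule.Quotient.mk m) = Submodule.Quotient.mk (ψ m) := LinearMap.congr_fun hψ'
  have hsymm : ∀ m, m ∈ LinearMap.range (φ ∘ₗ ψ) ↔ m ∈ LinearMap.range (ψ ∘ₗ φ) := fun m => by
    rw [LinearMap.range_comp, LinearMap.range_comp, hcomm]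
  refine ⟨hlen, ⟨?_, ?_⟩, ?_, ?_⟩
  · refine Submodule.linearMap_qext _ (LinearMap.ext fun m => ?_)
    show φ' (ψ' (Submodule.Quotient.mk m)) = 0
    rw [eq, ep, Submodule.Quotient.mk_eq_zero]
    exact ⟨m, rfl⟩
  · refine Submodule.linearMap_qext _ (LinearMap.ext fun m => ?_)
    show ψ' (φ' (Submodule.Quotient.mk m)) = 0
    rw [ep, eq, Submodule.Quotient.mk_eq_zero, hsymm]
    exact ⟨m, rfl⟩
  · refine subsingleton_of_forall_eq 0 fun q => ?_
    obtain ⟨y, hy, rfl⟩ := GrothLib.Herbrand.perH_cases q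
    rw [GrothLib.Herbrand.cls_eq_zero_iff]
    obtain ⟨m, rfl⟩ := Submodule.mkQ_surjective _ y
    rw [Submodule.mkQ_apply, ep, Submodule.Quotient.mk_eq_zero] at hy
    obtain ⟨n, hn⟩ := hy
    exact ⟨Submodule.Quotient.mk n, (eq n).trans (congrArg Submodule.Quotient.mk (hφ hn))⟩
  · refine subsingleton_of_forall_eq 0 fun q => ?_
    obtain ⟨y, hy, rfl⟩ := GrothLib.Herbrand.perH_cases q
    rw [GrothLib.Herbrand.cls_eq_zero_iff]
    obtain ⟨m, rfl⟩ := Submodule.mkQ_surjective _ y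
    rw [Submodule.mkQ_apply, eq, Submodule.Quotient.mk_eq_zero, hsymm] at hy
    obtain ⟨n, hn⟩ := hy
    exact ⟨Submodule.Quotient.mk n, (ep n).trans (congrArg Submodule.Quotient.mk (hψ hn))⟩

end Groth.Agent.S6476
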