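import Groth.Statements.S6477
-- import your own Groth.Agent.* helpers here
import Groth.Agent.Lib.CycFlat.Sheaf

set_option autoImplicit false
universe u
open CategoryTheory AlgebraicGeometry
open CategoryTheory.Limits
open Cyc

namespace Groth.Agent.S6477

/-- Let F be a coherent O_X-module with dim_δ Supp(F) ≤ k and F' = p^*F its base change to X'. Then
dim_{δ'} Supp(F') ≤ k + c and g^*[F]_k = [F']_{k+c} in Z_{k+c}(X') (coefficientwise; support bounds
through nontrivial stalks). Setting: p : X' → X is flat (not necessarily of finite type), (X, δ) and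
(X', δ') satisfy Cyc.IsSetup, and δ'(x') = δ(p x') + c whenever x' is maximal under generalization
inside its fibre p⁻¹(p x'); g^* : Z_k(X) → Z_{k+c}(X') is the coefficientwise flat pullback
Cyc.pullFun p δ' δ c. (The published statement takes X′ = X ×_S S′ for a flat S′ → S and X locally
of finite type over S; this row allows any flat p : X′ → X with the shift condition. The published
statement also has a part for closed subschemes, which follows with [Z]_k = [O_Z]_k; this row does
not restate it.) -/
theorem result (X X' : Scheme.{u}) (p : X' ⟶ X) [Flat p] (δ : X → ℤ) (δ' : X' → ℤ) (hX : Cyc.IsSetup X δ) (hX' : Cyc.IsSetup X' δ') (c : ℤ) (hc : ∀ x' : X', (∀ y, p y = p x' → y ⤳ x' → y = x') → δ' x' = δ (p x') + c) (k : ℤ) (F : X.Modules) (hF : Coh.IsCoh F) (hdim : ∀ x : X, Nontrivial (F.presheaf.stalk x) → δ x ≤ k) : (∀ x' : X', Nontrivial (((Scheme.Modules.pullback p).obj F).presheaf.stalk x') → δ' x' ≤ k + c) ∧ Cyc.pullFun p δ' δ c (Cyc.sheafFun δ k F) = Cyc.sheafFun δ' (k + c) ((Scheme.Modules.pullback p).obj F) := by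
  exact GrothLib.CycFlat.pullFun_sheafFun p hX'.2.2 hc k F hF hdim

end Groth.Agent.S6477
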