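import Groth.Statements.S6480
-- import your own Groth.Agent.* helpers here
import Groth.Agent.Lib.LengthQuotX
import Mathlib.Data.ENat.BigOperators
import Groth.Agent.Lib.LatticeDist
open Pointwise


set_option autoImplicit false
universe u
open CycAlg

namespace Groth.Agent.S6480

open Pointwise

theorem length_quot_eq_add {R M : Type u} [CommRing R] [AddCommGroup M] [Module R M] {c : R}
    (Q : Submodule R M) (hQ : Q ≤ LinearMap.range (LinearMap.lsmul R M c)) :
    Module.length R (M ⧸ Q) = Module.length R (M ⧸ Q.comap (LinearMap.lsmul R M c)) +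
      Module.length R (M ⧸ LinearMap.range (LinearMap.lsmul R M c)) := by
  refine Module.length_eq_add_of_exact (Submodule.mapQ _ Q (LinearMap.lsmul R M c) le_rfl)
    (Submodule.factor hQ) ?_ (Submodule.factor_surjective hQ) fun y => ?_
  · rw [← LinearMap.ker_eq_bot, eq_bot_iff]
    intro x hx
    obtain ⟨x, rfl⟩ := Submodule.mkQ_surjective _ x
    rw [LinearMap.mem_ker, Submodule.mkQ_apply, Submodule.mapQ_apply, Submodule.Quotient.mk_eq_zero] at hx
    exact (Submodule.Quotient.mk_eq_zero _).2 hx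
  · obtain ⟨y, rfl⟩ := Submodule.mkQ_surjective _ y
    rw [Submodule.mkQ_apply, show Submodule.factor hQ (Submodule.Quotient.mk y) = Submodule.Quotient.mk y from rfl, Submodule.Quotient.mk_eq_zero]
    constructor
    · rintro ⟨x, rfl⟩
      exact ⟨Submodule.Quotient.mk x, Submodule.mapQ_apply ..⟩
    · rintro ⟨x, hx⟩
      obtain ⟨x, rfl⟩ := Submodule.mkQ_surjective _ x
      rw [Submodule.mkQ_apply, Submodule.mapQ_apply, Submodule.Quotient.eq] at hx
      have := hQ hx
      obtain ⟨z, hz⟩ := this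
      exact ⟨x - z, by rw [map_sub, hz]; abel⟩

end Groth.Agent.S6480

namespace Groth.Agent.S6480

/-- Let A be a Noetherian local ring of dimension 1, a, b ∈ A nonzerodivisors, A without embedded
primes, M a finite A-module without embedded associated primes and with Supp(M) = Spec(A). Put I =
{x ∈ A | x·(a/b) ∈ A}, and write 𝔮_1, …, 𝔮_t for the minimal prime ideals of A. The conclusion is
that M contains (a/b)IM, and that the difference length_A(M/(a/b)IM) minus length_A(M/IM) equals the
sum over i of length_{A_{𝔮_i}}(M_{𝔮_i}) multiplied by ord_{A/𝔮_i}(a/b). Encoding: I is the ideal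
quotient (bA : aA); '(a/b)IM ⊂ M' is aIM ⊆ bM; (a/b)IM is the submodule of m with bm ∈ aIM (b acts
injectively on M); ord_{A/𝔮}(a/b) is CycAlg.ordFrac on κ(𝔮) = Frac(A/𝔮); lengths are truncated to ℕ
(they are finite here). -/
theorem result {A : Type u} [CommRing A] [IsNoetherianRing A] [IsLocalRing A] (hA : ringKrullDim A = 1) {M : Type u} [AddCommGroup M] [Module A M] [Module.Finite A M] (a b : A) (ha : a ∈ nonZeroDivisors A) (hb : b ∈ nonZeroDivisors A) (hAemb : ∀ p ∈ associatedPrimes A A, p ∈ minimalPrimes A) (hMemb : ∀ p ∈ associatedPrimes A M, p ∈ minimalPrimes A) (hsupp : Module.support A M = Set.univ) (I : Ideal A) (hI : I = (Ideal.span {b}).colon (Ideal.span {a})) (P : Submodule A M) (hP : P = Submodule.comap (LinearMap.lsmul A M b) ((Ideal.span {a} * I) • (⊤ : Submodule A M))) : (Ideal.span {a} * I) • (⊤ : Submodule A M) ≤ LinearMap.range (LinearMap.lsmul A M b) ∧ ((Module.length A (M ⧸ P)).toNat : ℤ) - ((Module.length A (M ⧸ I • (⊤ : Submodule A M))).toNat : ℤ) = ∑ᶠ (q : PrimeSpectrum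 A) (_ : q.asIdeal ∈ minimalPrimes A), ((Module.length (Localization.AtPrime q.asIdeal) (LocalizedModule q.asIdeal.primeCompl M)).toNat : ℤ) * CycAlg.ordFrac (A ⧸ q.asIdeal) q.asIdeal.ResidueField (algebraMap A q.asIdeal.ResidueField a / algebraMap A q.asIdeal.ResidueField b) := by
  classical
  haveI hK : Ring.KrullDimLE 1 A := Ring.krullDimLE_iff.2 (by rw [hA]; rfl)
  have hdim : Module.supportDim A M = 1 := by
    rw [← hA, Module.supportDim, hsupp]
    exact Order.krullDim_eq_of_orderIso OrderIso.Set.univ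
  have hmax : IsLocalRing.maximalIdeal A ∉ minimalPrimes A := fun h => by
    have h0 : Ring.KrullDimLE 0 A := Ring.krullDimLE_zero_iff.2 fun P hP => by
      have := le_antisymm (IsLocalRing.le_maximalIdeal hP.ne_top) (h.2 ⟨hP, bot_le⟩ (IsLocalRing.le_maximalIdeal hP.ne_top))
      exact this ▸ IsLocalRing.maximalIdeal.isMaximal A
    have := Ring.krullDimLE_iff.1 h0
    rw [hA] at this
    exact absurd this (by decide)
  have hmin : ∀ p : PrimeSpectrum A, p.asIdeal ∈ minimalPrimes A ↔ p.asIdeal ≠ IsLocalRing.maximalIdeal A := fun p => by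
    refine ⟨fun h he => hmax (he ▸ h), fun h => ?_⟩
    refine (Ideal.exists_minimalPrimes_le (bot_le : (⊥ : Ideal A) ≤ p.asIdeal)).elim fun q hq => ?_
    haveI := hq.1.1.1
    by_cases he : q = p.asIdeal
    · exact he ▸ hq.1
    · exact absurd (GrothLib.LengthQuotX.minimal_of_ne_maximal hdim.le (hsupp ▸ Set.mem_univ p) h ⟨q, inferInstance⟩
        (hsupp ▸ Set.mem_univ _) hq.2) (fun e => he (congrArg PrimeSpectrum.asIdeal e))
  have hnm : ∀ c ∈ nonZeroDivisors A, ∀ p ∈ minimalPrimes A, c ∉ p := fun c hc p hp h =>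
    (Set.disjoint_left.1 (Ideal.disjoint_nonZeroDivisors_of_mem_minimalPrimes hp)) h hc
  have hreg : ∀ c ∈ nonZeroDivisors A, Function.Injective (LinearMap.lsmul A M c) := fun c hc => by
    by_contra h
    have hmem : c ∈ ⋃ p ∈ associatedPrimes A M, (p : Set A) := by
      rw [biUnion_associatedPrimes_eq_zero_divisors]
      simp only [Function.Injective, not_forall] at h
      obtain ⟨x, y, hxy, hne⟩ := h
      exact ⟨x - y, sub_ne_zero.2 hne, by simpa [smul_sub, sub_eq_zero] using hxy⟩
    simp only [Set.mem_iUnion] at hmem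
    obtain ⟨p, hp, hcp⟩ := hmem
    exact hnm c hc p (hMemb p hp) hcp
  have hq0 : ∀ c ∈ nonZeroDivisors A, Module.supportDim A (M ⧸ c • (⊤ : Submodule A M)) ≤ 0 := fun c hc => by
    haveI : Subsingleton (Module.support A (M ⧸ c • (⊤ : Submodule A M))) := ⟨fun x y => Subtype.ext ?_⟩
    · exact Order.krullDim_nonpos_of_subsingleton
    have key : ∀ z ∈ Module.support A (M ⧸ c • (⊤ : Submodule A M)), z.asIdeal = IsLocalRing.maximalIdeal A := by
      intro z hz
      rw [← Submodule.ideal_span_singleton_smul, Module.support_quotient] at hz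
      by_contra h
      exact hnm c hc _ ((hmin z).2 h) (hz.2 (Ideal.mem_span_singleton_self c))
    exact PrimeSpectrum.ext ((key x x.2).trans (key y y.2).symm)
  have hrange : ∀ c : A, c • (⊤ : Submodule A M) = LinearMap.range (LinearMap.lsmul A M c) := fun c => by
    ext x; simp [Submodule.mem_smul_pointwise_iff_exists]
  have hfin : ∀ c ∈ nonZeroDivisors A, Module.length A (M ⧸ LinearMap.range (LinearMap.lsmul A M c)) ≠ ⊤ :=
    fun c hc => by rw [← hrange]; exact (GrothLib.FiniteLengthSupp.length_lt_top (hq0 c hc)).ne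
  set N : Submodule A M := I • ⊤ with hN
  have hQ : (Ideal.span {a} * I) • (⊤ : Submodule A M) = N.map (LinearMap.lsmul A M a) := by
    rw [Submodule.mul_smul, ← hN, Submodule.ideal_span_singleton_smul]
    ext x; simp [Submodule.mem_smul_pointwise_iff_exists]
  have hab : (Ideal.span {a} * I) • (⊤ : Submodule A M) ≤ LinearMap.range (LinearMap.lsmul A M b) := by
    refine Submodule.smul_le.2 fun r hr m _ => ?_
    obtain ⟨x, hx, rfl⟩ := Ideal.mem_span_singleton_mul.1 hr
    rw [hI, Submodule.mem_colon] at hx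
    obtain ⟨d, hd⟩ := Ideal.mem_span_singleton'.1 (hx a (Ideal.mem_span_singleton_self a))
    refine ⟨d • m, ?_⟩
    show b • d • m = (a * x) • m
    rw [smul_smul, mul_comm b d, hd, smul_eq_mul, mul_comm]
  have hbN : LinearMap.range (LinearMap.lsmul A M b) ≤ N := by
    rintro _ ⟨m, rfl⟩
    refine Submodule.smul_mem_smul ?_ Submodule.mem_top
    rw [hI, Submodule.mem_colon]
    exact fun p _ => Ideal.mul_mem_right p _ (Ideal.mem_span_singleton_self b)
  refine ⟨hab, ?_⟩
  have h1 := Groth.Agent.S6480.length_quot_eq_add _ hab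
  rw [← hP] at h1
  have h2 := Groth.Agent.S6480.length_quot_eq_add (c := a) (N.map (LinearMap.lsmul A M a)) LinearMap.map_le_range
  rw [Submodule.comap_map_eq_of_injective (hreg a ha)] at h2
  rw [hQ] at h1
  have hNfin : Module.length A (M ⧸ N) ≠ ⊤ :=
    ne_top_of_le_ne_top (hfin b hb) (Module.length_le_of_surjective (Submodule.factor hbN) (Submodule.factor_surjective hbN))
  have hsum : Module.length A (M ⧸ N.map (LinearMap.lsmul A M a)) ≠ ⊤ := by
    rw [h2]; exact WithTop.add_ne_top.2 ⟨hNfin, hfin a ha⟩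
  have hPfin : Module.length A (M ⧸ P) ≠ ⊤ := by
    rw [h1] at hsum; exact (WithTop.add_ne_top.1 hsum).1
  have e1 := congrArg ENat.toNat h1
  have e2 := congrArg ENat.toNat h2
  rw [ENat.toNat_add hPfin (hfin b hb)] at e1
  rw [ENat.toNat_add hNfin (hfin a ha), e1] at e2
  -- the formula for each of `a`, `b`
  let T := (GrothLib.LengthQuotX.finite_support_diff_maximal (R := A) (M := M) hdim.le).toFinset
  have hT : ∀ p : PrimeSpectrum A, p ∈ T ↔ p.asIdeal ∈ minimalPrimes A := fun p => by
    simp [T, Set.Finite.mem_toFinset, hsupp, hmin]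
  have form : ∀ c ∈ nonZeroDivisors A, ((Module.length A (M ⧸ LinearMap.range (LinearMap.lsmul A M c))).toNat : ℤ) =
      ∑ p ∈ T, ((Module.length (Localization.AtPrime p.asIdeal) (LocalizedModule p.asIdeal.primeCompl M)).toNat : ℤ) *
        ((Ring.ord (A ⧸ p.asIdeal) (Ideal.Quotient.mk p.asIdeal c)).toNat : ℤ) := fun c hc => by
    have hf := GrothLib.LengthQuotX.length_quot_eq c hdim.le (hq0 c hc)
    rw [LinearMap.ker_eq_bot.2 (hreg c hc), Module.length_bot, zero_add,
      GrothLib.LengthQuotX.finsum_term_eq c (T := T) (fun p _ => by simp [T, Set.Finite.mem_toFinset, hsupp]), hrange] at hf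
    have hne : ∀ p ∈ T, GrothLib.LengthQuotX.term c M p ≠ ⊤ := fun p hp h => hfin c hc (by
      rw [hf]; exact top_le_iff.1 (h ▸ Finset.single_le_sum (f := fun p => GrothLib.LengthQuotX.term c M p) (fun _ _ => zero_le) hp))
    rw [hf, ENat.toNat_sum hne, Nat.cast_sum]
    refine Finset.sum_congr rfl fun p _ => ?_
    rw [GrothLib.LengthQuotX.term, ENat.toNat_mul, Nat.cast_mul, mul_comm]
  have hord : ∀ p ∈ T, CycAlg.ordFrac (A ⧸ p.asIdeal) p.asIdeal.ResidueField
      (algebraMap A p.asIdeal.ResidueField a / algebraMap A p.asIdeal.ResidueField b) =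
        ((Ring.ord (A ⧸ p.asIdeal) (Ideal.Quotient.mk p.asIdeal a)).toNat : ℤ) -
          ((Ring.ord (A ⧸ p.asIdeal) (Ideal.Quotient.mk p.asIdeal b)).toNat : ℤ) := fun p hp => by
    haveI : Ring.KrullDimLE 1 (A ⧸ p.asIdeal) := Ring.krullDimLE_iff.2 ((ringKrullDim_quotient_le _).trans hA.le)
    rw [IsScalarTower.algebraMap_apply A (A ⧸ p.asIdeal) p.asIdeal.ResidueField a,
      IsScalarTower.algebraMap_apply A (A ⧸ p.asIdeal) p.asIdeal.ResidueField b]
    exact GrothLib.LatticeDist.ordFrac_div (fun h => hnm a ha _ ((hT p).1 hp) (Ideal.Quotient.eq_zero_iff_mem.1 h))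
      (fun h => hnm b hb _ ((hT p).1 hp) (Ideal.Quotient.eq_zero_iff_mem.1 h))
  rw [finsum_eq_sum_of_support_subset (s := T) _ fun q hq => ?_, Finset.sum_congr rfl fun q hq => finsum_eq_if.trans (if_pos ((hT q).1 hq))]
  swap
  · rw [Function.mem_support, finsum_eq_if] at hq
    exact (hT q).2 (by by_contra h; exact hq (if_neg h))
  rw [Finset.sum_congr rfl fun p hp => by rw [hord p hp, mul_sub], Finset.sum_sub_distrib, ← form a ha, ← form b hb]
  omega

end Groth.Agent.S6480
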