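import Groth.Statements.S6481
-- import your own Groth.Agent.* helpers here
import Mathlib.RingTheory.Localization.BaseChange
import Mathlib.RingTheory.Localization.Away.Basic
import Mathlib.RingTheory.TensorProduct.Maps
import Mathlib.RingTheory.Filtration
import Mathlib.RingTheory.Finiteness.Ideal
import Mathlib.RingTheory.Ideal.Height
import Mathlib.Tactic.LinearCombination


set_option autoImplicit false
universe u
open CycAlg

open TensorProduct

namespace Groth.Agent.S6481

/-- Let (A, 𝔪) be a 2-dimensional Noetherian local ring, t ∈ 𝔪 a nonzerodivisor with V(t) = {𝔪, 𝔮_1, …,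
𝔮_r}, and A_{𝔮_i} ⊂ B_i finite ring extensions with B_i/A_{𝔮_i} annihilated by a power of t and with
t a nonzerodivisor on each B_i. Then A admits some finite extension A ⊂ B whose quotient B/A is
killed by some power of t, such that for every i the localization B_{𝔮_i} = B ⊗_A A_{𝔮_i} is
isomorphic to B_i (existence of an A_{𝔮_i}-algebra isomorphism; B itself is only asserted to exist).
(The published statement allows any finite ring extensions A_{𝔮_i} ⊂ B_i; this row asks t to be a
nonzerodivisor on each B_i, the case its proof treats, where B_i sits inside t^{-n}A_{𝔮_i}. The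
published statement also makes B local with the same residue field as A; this row omits that
clause.) Finite extension with quotient killed by a power of t: CycAlg.IsFinExt with the ideal (t). -/
theorem result (A : Type u) [CommRing A] [IsNoetherianRing A] [IsLocalRing A] (hA : ringKrullDim A = 2) (t : A) (ht : t ∈ IsLocalRing.maximalIdeal A) (htnz : t ∈ nonZeroDivisors A) (r : ℕ) (q : Fin r → Ideal A) (hq : ∀ i, (q i).IsPrime) (hinj : Function.Injective q) (hqm : ∀ i, q i ≠ IsLocalRing.maximalIdeal A) (htq : ∀ i, t ∈ q i) (hV : ∀ p : Ideal A, p.IsPrime → t ∈ p → p = IsLocalRing.maximalIdeal A ∨ ∃ i, p = q i) (B : Fin r → Type u) [∀ i, CommRing (B i)] [∀ i, Algebra (Localization.AtPrime (q i)) (B i)] (hB : ∀ i, CycAlg.IsFinExt (Localization.AtPrime (q i)) (B i) (Ideal.span {algebraMap A (Localization.AtPrime (q i)) t})) (htB : ∀ i, IsSMulRegular (B i) (algebraMap A (Localization.AtPrime (q i)) t)) : ∃ (C : Type u) (_ : CommRing C) (_ : Algebra A C), CycAlg.IsFinExt A C (Ideal.span {t}) ∧ ∀ i, Nonempty (TensorProduct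 A (Localization.AtPrime (q i)) C ≃ₐ[Localization.AtPrime (q i)] B i) := by
  classical
  haveI hqp : ∀ i, (q i).IsPrime := hq
  let R := fun i => Localization.AtPrime (q i)
  letI algA : ∀ i, Algebra A (B i) := fun i =>
    ((algebraMap (Localization.AtPrime (q i)) (B i)).comp (algebraMap A (Localization.AtPrime (q i)))).toAlgebra
  haveI towA : ∀ i, IsScalarTower A (Localization.AtPrime (q i)) (B i) := fun i => IsScalarTower.of_algebraMap_eq fun _ => rfl
  let mA := IsLocalRing.maximalIdeal A
  choose n hn using fun i => (hB i).2.2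
  let N : ℕ := ∑ i, n i
  have hnN : ∀ i, n i ≤ N := fun i => Finset.single_le_sum (fun _ _ => Nat.zero_le _) (Finset.mem_univ i)
  have hincomp : ∀ i j, q i ≤ q j → i = j := fun i j hij => by
    by_contra hne
    obtain ⟨p, hp, hpi⟩ := Ideal.exists_minimalPrimes_le (bot_le : (⊥ : Ideal A) ≤ q i)
    have h1 : (⟨p, hp.1.1⟩ : PrimeSpectrum A) < ⟨q i, hq i⟩ := lt_of_le_of_ne hpi fun h => by
      have he : p = q i := congrArg PrimeSpectrum.asIdeal h
      exact Set.disjoint_left.1 (Ideal.disjoint_nonZeroDivisors_of_mem_minimalPrimes hp) (he ▸ htq i : t ∈ p) htnz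
    have h2 : (⟨q i, hq i⟩ : PrimeSpectrum A) < ⟨q j, hq j⟩ :=
      lt_of_le_of_ne hij fun h => hne (hinj (congrArg PrimeSpectrum.asIdeal h))
    have h3 : (⟨q j, hq j⟩ : PrimeSpectrum A) < IsLocalRing.closedPoint A :=
      lt_of_le_of_ne (IsLocalRing.le_maximalIdeal (hq j).ne_top) fun h => hqm j (congrArg PrimeSpectrum.asIdeal h)
    let s : LTSeries (PrimeSpectrum A) := ((((RelSeries.singleton _ (⟨p, hp.1.1⟩ : PrimeSpectrum A)).snoc ⟨q i, hq i⟩
      (by simpa using h1)).snoc ⟨q j, hq j⟩ (by simpa using h2)).snoc (IsLocalRing.closedPoint A) (by simpa using h3))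
    have := Order.LTSeries.length_le_krullDim s
    rw [show Order.krullDim (PrimeSpectrum A) = 2 from hA] at this
    exact absurd this (by show ¬((3 : ℕ) : WithBot ℕ∞) ≤ 2; decide)
  -- the ideals
  let L := Localization.Away t
  have hinjL : Function.Injective (algebraMap A L) :=
    IsLocalization.injective L (Submonoid.powers_le.2 htnz : Submonoid.powers t ≤ nonZeroDivisors A)
  have htL : IsUnit (algebraMap A L (t ^ N)) := by
    rw [map_pow]; exact (IsLocalization.Away.algebraMap_isUnit t).pow N
  have hregB : ∀ i (b b' : B i), algebraMap A (B i) (t ^ N) * b = algebraMap A (B i) (t ^ N) * b' → b = b' := by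
    intro i b b' h
    refine (htB i).pow N ?_
    show algebraMap A (Localization.AtPrime (q i)) t ^ N • b = algebraMap A (Localization.AtPrime (q i)) t ^ N • b'
    rw [← map_pow, algebraMap_smul, algebraMap_smul, Algebra.smul_def, Algebra.smul_def, h]
  have hinjB : ∀ i, Function.Injective (algebraMap (Localization.AtPrime (q i)) (B i)) := fun i => (hB i).1
  have hcok : ∀ i (b : B i), ∃ z : Localization.AtPrime (q i), algebraMap _ (B i) z = algebraMap A (B i) (t ^ N) * b := by
    intro i b
    have hmem : algebraMap A (Localization.AtPrime (q i)) (t ^ N) ∈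
        Ideal.span {algebraMap A (Localization.AtPrime (q i)) t} ^ n i := by
      refine Ideal.pow_le_pow_right (hnN i) ?_
      rw [map_pow]
      exact Ideal.pow_mem_pow (Ideal.mem_span_singleton_self _) N
    obtain ⟨z, hz⟩ := hn i _ hmem b
    exact ⟨z, by rw [hz, algebraMap_smul, Algebra.smul_def]⟩
  let Q : Ideal A := ⨅ i, (Ideal.span {algebraMap A (Localization.AtPrime (q i)) (t ^ N)}).comap
    (algebraMap A (Localization.AtPrime (q i)))
  let T : Ideal A := Ideal.span {t ^ N}
  have hrad : mA ≤ (Submodule.colon T (Q : Set A)).radical := by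
    rw [Ideal.radical_eq_sInf]
    refine le_sInf fun P hP => ?_
    obtain ⟨hle, hPp⟩ := hP
    have htP : t ∈ P := hPp.mem_of_pow_mem N (hle (Submodule.mem_colon.2 fun x _ =>
      Ideal.mul_mem_right x _ (Ideal.mem_span_singleton_self _)))
    rcases hV P hPp htP with h | ⟨i, h⟩
    · exact h.ge
    exfalso
    subst h
    obtain ⟨G, hG⟩ := IsNoetherian.noetherian Q
    have hs : ∀ y ∈ G, ∃ s ∉ q i, s * y ∈ T := fun y hy => by
      have hyQ : y ∈ Q := hG ▸ Submodule.subset_span hy
      obtain ⟨z, hz⟩ := Ideal.mem_span_singleton'.1 ((Submodule.mem_iInf _).1 hyQ i)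
      obtain ⟨⟨a, ⟨s, hs⟩⟩, h⟩ := IsLocalization.surj (q i).primeCompl z
      have h' : algebraMap A (Localization.AtPrime (q i)) (y * s) = algebraMap A (Localization.AtPrime (q i)) (a * t ^ N) := by
        rw [map_mul, map_mul, ← hz, ← h]; ring
      obtain ⟨⟨w, hw⟩, h''⟩ := (IsLocalization.eq_iff_exists (q i).primeCompl _).1 h'
      exact ⟨w * s, fun h => ((hq i).mem_or_mem h).elim hw hs, Ideal.mem_span_singleton'.2 ⟨w * a, by linear_combination -h''⟩⟩
    choose! s hs hsT using hs
    have hmem : ∏ y ∈ G, s y ∈ Submodule.colon T (Q : Set A) := Submodule.mem_colon.2 fun x hx => by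
      rw [← hG] at hx
      induction hx using Submodule.span_induction with
      | mem y hy =>
        obtain ⟨c, hc⟩ := Finset.dvd_prod_of_mem s hy
        rw [hc, smul_eq_mul, mul_right_comm]
        exact Ideal.mul_mem_right _ _ (hsT y hy)
      | zero => rw [smul_zero]; exact Submodule.zero_mem _
      | add a b _ _ ha hb => rw [smul_add]; exact Submodule.add_mem _ ha hb
      | smul r a _ ha => rw [smul_comm]; exact Submodule.smul_mem _ r ha
    obtain ⟨y, hy, hys⟩ := (hq i).prod_mem_iff.1 (hle hmem)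
    exact hs y hy hys
  obtain ⟨e, he⟩ := Ideal.exists_pow_le_of_le_radical_of_fg hrad (IsNoetherian.noetherian mA)
  obtain ⟨k₁, hk₁⟩ := Ideal.exists_pow_inf_eq_pow_smul mA (Q : Submodule A A)
  obtain ⟨k₂, hk₂⟩ := Ideal.exists_pow_inf_eq_pow_smul mA (T : Submodule A A)
  let K := k₁ + e + k₂
  let M : Ideal A := mA ^ K ⊓ ⨅ i, (Ideal.span {algebraMap A (B i) (t ^ N)}).comap (algebraMap A (B i))
  have hMM : ∀ a ∈ M, ∀ a' ∈ M, ∃ d ∈ M, a * a' = t ^ N * d := by
    intro a ha a' ha'
    have hpow : a * a' ∈ mA ^ (K + K) := pow_add mA K K ▸ Ideal.mul_mem_mul ha.1 ha'.1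
    have hbb : ∀ i, ∃ b : B i, algebraMap A (B i) (a * a') = algebraMap A (B i) (t ^ N) * (algebraMap A (B i) (t ^ N) * b) :=
      fun i => by
        obtain ⟨b, hb⟩ := Ideal.mem_span_singleton'.1 ((Submodule.mem_iInf _).1 ha.2 i)
        obtain ⟨b', hb'⟩ := Ideal.mem_span_singleton'.1 ((Submodule.mem_iInf _).1 ha'.2 i)
        exact ⟨b * b', by rw [map_mul, ← hb, ← hb']; ring⟩
    choose b hb using hbb
    have hQ : a * a' ∈ Q := (Submodule.mem_iInf _).2 fun i => by
      obtain ⟨z, hz⟩ := hcok i (b i)
      refine Ideal.mem_span_singleton'.2 ⟨z, hinjB i ?_⟩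
      rw [map_mul, hz, ← IsScalarTower.algebraMap_apply, ← IsScalarTower.algebraMap_apply, hb i]
      ring
    have hT : a * a' ∈ T := by
      have h1 : a * a' ∈ mA ^ (K + K) • (⊤ : Submodule A A) ⊓ Q := ⟨by rwa [smul_eq_mul, Ideal.mul_top], hQ⟩
      rw [hk₁ _ (by omega)] at h1
      refine Submodule.smul_le.2 (fun x hx y hy => ?_) h1
      have hxe : x ∈ mA ^ e := Ideal.pow_le_pow_right (by omega) hx
      exact Submodule.mem_colon.1 (he hxe) y hy.2
    have h2 : a * a' ∈ mA ^ (K + K) • (⊤ : Submodule A A) ⊓ T := ⟨by rwa [smul_eq_mul, Ideal.mul_top], hT⟩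
    rw [hk₂ _ (by omega)] at h2
    have h3 : a * a' ∈ mA ^ K * T := by
      refine Submodule.smul_le.2 (fun x hx y hy => ?_) h2
      exact Ideal.mul_mem_mul (Ideal.pow_le_pow_right (by omega) hx) hy.2
    obtain ⟨d, hd, hd'⟩ := Ideal.mem_mul_span_singleton.1 h3
    refine ⟨d, ⟨hd, (Submodule.mem_iInf _).2 fun i => Ideal.mem_span_singleton'.2 ⟨b i, hregB i _ _ ?_⟩⟩,
      by rw [← hd', mul_comm]⟩
    rw [← map_mul (algebraMap A (B i)) (t ^ N) d, mul_comm (t ^ N) d, hd', hb i]
    ring
  let P : Ideal A := T ⊔ M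
  have hTP : ∀ a, a * t ^ N ∈ P := fun a => Submodule.mem_sup_left (Ideal.mul_mem_left _ _ (Ideal.mem_span_singleton_self _))
  have hPP : ∀ p ∈ P, ∀ p' ∈ P, ∃ d ∈ P, p * p' = t ^ N * d := by
    intro p hp p' hp'
    obtain ⟨a0, ha0, a, ha, rfl⟩ := Submodule.mem_sup.1 hp
    obtain ⟨b0, hb0, b, hb, rfl⟩ := Submodule.mem_sup.1 hp'
    obtain ⟨c0, rfl⟩ := Ideal.mem_span_singleton'.1 ha0
    obtain ⟨d0, rfl⟩ := Ideal.mem_span_singleton'.1 hb0
    obtain ⟨d, hd, hd'⟩ := hMM a ha b hb
    refine ⟨(c0 * d0) * t ^ N + (c0 * b + d0 * a + d), Submodule.add_mem _ (hTP _) (Submodule.mem_sup_right ?_),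
      by linear_combination hd'⟩
    exact Submodule.add_mem _ (Submodule.add_mem _ (Ideal.mul_mem_left _ _ hb) (Ideal.mul_mem_left _ _ ha)) hd
  -- the ring
  let C : Subalgebra A L :=
    { carrier := {x | ∃ p ∈ P, algebraMap A L (t ^ N) * x = algebraMap A L p}
      mul_mem' := fun {x y} hx hy => by
        obtain ⟨p, hp, hx⟩ := hx
        obtain ⟨p', hp', hy⟩ := hy
        obtain ⟨d, hd, hd'⟩ := hPP p hp p' hp'
        refine ⟨d, hd, htL.mul_left_cancel ?_⟩
        rw [← map_mul, ← hd', map_mul _ p, ← hx, ← hy]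
        ring
      add_mem' := fun {x y} hx hy => by
        obtain ⟨p, hp, hx⟩ := hx
        obtain ⟨p', hp', hy⟩ := hy
        exact ⟨p + p', Submodule.add_mem _ hp hp', by rw [map_add, mul_add, hx, hy]⟩
      algebraMap_mem' := fun a => ⟨a * t ^ N, hTP a, by rw [← map_mul, mul_comm]⟩ }
  let mkC : P → C := fun p => ⟨↑htL.unit⁻¹ * algebraMap A L p, p, p.2, by
    rw [← mul_assoc, IsUnit.mul_val_inv, one_mul]⟩
  refine ⟨C, inferInstance, inferInstance, ⟨fun a a' h => hinjL (congrArg Subtype.val h), ?_, N, ?_⟩, fun i => ?_⟩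
  · let ψ : P →ₗ[A] C :=
      { toFun := mkC
        map_add' := fun x y => Subtype.ext (by
          show ↑htL.unit⁻¹ * algebraMap A L (↑x + ↑y) = _
          rw [map_add, mul_add]; rfl)
        map_smul' := fun a x => Subtype.ext (by
          show ↑htL.unit⁻¹ * algebraMap A L (a * ↑x) = a • (↑htL.unit⁻¹ * algebraMap A L ↑x)
          rw [map_mul, Algebra.smul_def]; ring) }
    refine Module.Finite.of_surjective ψ fun c => ?_
    obtain ⟨p, hp, hc⟩ := c.2
    exact ⟨⟨p, hp⟩, Subtype.ext (by
      show ↑htL.unit⁻¹ * algebraMap A L p = _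
      rw [← hc, ← mul_assoc, IsUnit.val_inv_mul, one_mul])⟩
  · intro x hx c
    rw [Ideal.span_singleton_pow] at hx
    obtain ⟨a, rfl⟩ := Ideal.mem_span_singleton'.1 hx
    obtain ⟨p, -, hc⟩ := c.2
    refine ⟨a * p, Subtype.ext ?_⟩
    show algebraMap A L (a * p) = (a * t ^ N) • (c : L)
    rw [Algebra.smul_def, map_mul, map_mul, ← hc, mul_assoc]
  have hex : ∀ c : C, ∃ b : B i, ∃ p ∈ P, algebraMap A L (t ^ N) * c = algebraMap A L p ∧
      algebraMap A (B i) (t ^ N) * b = algebraMap A (B i) p := fun c => by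
    obtain ⟨p, hp, hc⟩ := c.2
    obtain ⟨a0, ha0, a, ha, rfl⟩ := Submodule.mem_sup.1 hp
    obtain ⟨c0, rfl⟩ := Ideal.mem_span_singleton'.1 ha0
    obtain ⟨b, hb⟩ := Ideal.mem_span_singleton'.1 ((Submodule.mem_iInf _).1 ha.2 i)
    refine ⟨algebraMap A (B i) c0 + b, _, hp, hc, ?_⟩
    rw [map_add, map_mul, ← hb]
    ring
  choose f p hp hpc hpf using hex
  have huniq : ∀ (c : C) (b : B i) (a : A), algebraMap A L (t ^ N) * c = algebraMap A L a →
      algebraMap A (B i) (t ^ N) * b = algebraMap A (B i) a → f c = b := fun c b a h1 h2 => by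
    refine hregB i _ _ ?_
    rw [hpf, h2, hinjL (h1.symm.trans (hpc c))]
  let F : C →ₐ[A] B i :=
    { toFun := f
      map_one' := huniq 1 1 (t ^ N) (by simp) (by simp)
      map_mul' := fun x y => by
        obtain ⟨d, -, hd⟩ := hPP _ (hp x) _ (hp y)
        refine huniq _ _ d (htL.mul_left_cancel ?_) (hregB i _ _ ?_)
        · rw [← map_mul _ (t ^ N) d, ← hd, map_mul _ (p x), ← hpc x, ← hpc y, Subalgebra.coe_mul]; ring
        · rw [← map_mul _ (t ^ N) d, ← hd, map_mul _ (p x), ← hpf x, ← hpf y]; ring
      map_zero' := huniq 0 0 0 (by simp) (by simp)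
      map_add' := fun x y => huniq _ _ (p x + p y) (by rw [Subalgebra.coe_add, mul_add, hpc, hpc, map_add])
        (by rw [mul_add, hpf, hpf, map_add])
      commutes' := fun a => huniq _ _ (t ^ N * a) (map_mul _ _ _).symm (map_mul _ _ _).symm }
  have hF : IsLocalizedModule (q i).primeCompl F.toLinearMap :=
    { map_units := fun u => by
        rw [Module.End.isUnit_iff]
        obtain ⟨v, hv⟩ := (IsLocalization.map_units (Localization.AtPrime (q i)) u).map
          (algebraMap (Localization.AtPrime (q i)) (B i))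
        rw [← IsScalarTower.algebraMap_apply] at hv
        refine Function.bijective_iff_has_inverse.2 ⟨fun b => ↑v⁻¹ * b, fun b => ?_, fun b => ?_⟩ <;>
          simp [Algebra.smul_def, ← hv]
      surj := fun b => by
        obtain ⟨z, hz⟩ := hcok i b
        obtain ⟨⟨a, ⟨s, hs⟩⟩, h⟩ := IsLocalization.surj (q i).primeCompl z
        have hu : ∃ u ∉ q i, ∀ l, l ≠ i → algebraMap A (Localization.AtPrime (q l)) u ∈
            Ideal.span {algebraMap A (Localization.AtPrime (q l)) (t ^ N)} := by
          have hl : ∀ l, ∃ u ∉ q i, l ≠ i → algebraMap A (Localization.AtPrime (q l)) u ∈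
              Ideal.span {algebraMap A (Localization.AtPrime (q l)) (t ^ N)} := fun l => by
            by_cases hl : l = i
            · exact ⟨1, fun h => (hq i).ne_top ((Ideal.eq_top_iff_one _).2 h), fun h => absurd hl h⟩
            obtain ⟨u, hul, hui⟩ := SetLike.not_le_iff_exists.1 fun h => hl (hincomp l i h)
            have hr : algebraMap A (Localization.AtPrime (q l)) u ∈
                (Ideal.span {algebraMap A (Localization.AtPrime (q l)) (t ^ N)}).radical := by
              rw [Ideal.radical_eq_sInf, Ideal.mem_sInf]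
              rintro P' ⟨hP', hP'p⟩
              haveI := hP'p
              have htP : t ∈ P'.comap (algebraMap A (Localization.AtPrime (q l))) :=
                hP'p.mem_of_pow_mem N (by rw [← map_pow]; exact hP' (Ideal.mem_span_singleton_self _))
              have hle : P'.comap (algebraMap A (Localization.AtPrime (q l))) ≤ q l := fun x hx => by
                by_contra hxq
                exact hP'p.ne_top (P'.eq_top_of_isUnit_mem hx
                  (IsLocalization.map_units _ (⟨x, hxq⟩ : (q l).primeCompl)))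
              rcases hV _ (hP'p.comap _) htP with h | ⟨j, h⟩
              · exact absurd (le_antisymm (IsLocalRing.le_maximalIdeal (hq l).ne_top) (h ▸ hle)) (hqm l)
              · rw [h] at hle
                have := hincomp _ _ hle
                subst this
                exact Ideal.mem_comap.1 (h.symm ▸ hul : u ∈ P'.comap _)
            obtain ⟨k, hk⟩ := hr
            exact ⟨u ^ k, fun h => hui ((hq i).mem_of_pow_mem k h), fun _ => (map_pow (algebraMap A (Localization.AtPrime (q l))) u k).symm ▸ hk⟩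
          choose u hu hu' using hl
          refine ⟨∏ l, u l, fun h => ?_, fun l hl => ?_⟩
          · obtain ⟨l, -, hl⟩ := (hq i).prod_mem_iff.1 h
            exact hu l hl
          · rw [map_prod]
            exact Ideal.prod_mem _ (Finset.mem_univ l) (hu' l hl)
        obtain ⟨u, hu, hu'⟩ := hu
        obtain ⟨w, hwm, hw⟩ := SetLike.not_le_iff_exists.1 fun hle : mA ^ K ≤ q i =>
          hqm i (le_antisymm (IsLocalRing.le_maximalIdeal (hq i).ne_top) (Ideal.IsPrime.le_of_pow_le (n := K) hle))
        have h' : algebraMap A (B i) a = algebraMap A (B i) (t ^ N) * b * algebraMap A (B i) s := by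
          rw [← hz, IsScalarTower.algebraMap_apply A (Localization.AtPrime (q i)) (B i) s, ← map_mul, h,
            ← IsScalarTower.algebraMap_apply]
        have hM : a * u * w ∈ M := by
          refine ⟨Ideal.mul_mem_left _ _ hwm, (Submodule.mem_iInf _).2 fun l => ?_⟩
          rw [Ideal.mem_comap]
          by_cases hl : l = i
          · subst hl
            rw [map_mul, map_mul, h']
            exact Ideal.mul_mem_right _ _ (Ideal.mul_mem_right _ _ (Ideal.mul_mem_right _ _
              (Ideal.mul_mem_right _ _ (Ideal.mem_span_singleton_self _))))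
          · obtain ⟨y, hy⟩ := Ideal.mem_span_singleton'.1 (hu' l hl)
            rw [map_mul, map_mul, IsScalarTower.algebraMap_apply A (Localization.AtPrime (q l)) (B l) u, ← hy, map_mul,
              ← IsScalarTower.algebraMap_apply]
            exact Ideal.mul_mem_right _ _ (Ideal.mul_mem_left _ _ (Ideal.mul_mem_left _ _ (Ideal.mem_span_singleton_self _)))
        refine ⟨⟨mkC ⟨a * u * w, Submodule.mem_sup_right hM⟩, ⟨s * u * w, fun h => ?_⟩⟩, ?_⟩
        · rcases (hq i).mem_or_mem h with h | h
          · exact ((hq i).mem_or_mem h).elim hs hu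
          · exact hw h
        · refine (huniq _ _ (a * u * w) ?_ ?_).symm
          · show algebraMap A L (t ^ N) * (↑htL.unit⁻¹ * algebraMap A L (a * u * w)) = _
            rw [← mul_assoc, IsUnit.mul_val_inv, one_mul]
          · show algebraMap A (B i) (t ^ N) * ((s * u * w) • b) = _
            rw [Algebra.smul_def, map_mul _ (a * u), map_mul _ a, h', map_mul, map_mul]
            ring
      exists_of_eq := fun {x y} hxy => by
        have hd : f (x - y) = 0 := (map_sub F x y).trans (sub_eq_zero.2 hxy)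
        have h0 := hpf (x - y)
        rw [hd, mul_zero, IsScalarTower.algebraMap_apply A (Localization.AtPrime (q i)) (B i)] at h0
        obtain ⟨⟨s, hs⟩, hs0⟩ := (IsLocalization.map_eq_zero_iff (q i).primeCompl (Localization.AtPrime (q i)) _).1
          ((injective_iff_map_eq_zero _).1 (hinjB i) _ h0.symm)
        refine ⟨⟨s, hs⟩, sub_eq_zero.1 ((smul_sub s x y).symm.trans (Subtype.ext (htL.mul_left_cancel ?_)))⟩
        show algebraMap A L (t ^ N) * (s • ((x - y : C) : L)) = algebraMap A L (t ^ N) * 0
        rw [Algebra.smul_def, mul_left_comm, hpc, ← map_mul, hs0, map_zero, mul_zero] }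
  have hb := IsLocalizedModule.isBaseChange (q i).primeCompl (Localization.AtPrime (q i)) F.toLinearMap
  let G : Localization.AtPrime (q i) ⊗[A] C →ₐ[Localization.AtPrime (q i)] B i :=
    Algebra.TensorProduct.lift (Algebra.ofId _ _) F (fun _ _ => Commute.all _ _)
  have hG : ∀ z, G z = hb.equiv z := fun z => by
    induction z using TensorProduct.induction_on with
    | zero => simp
    | tmul a c =>
      rw [Algebra.TensorProduct.lift_tmul, IsBaseChange.equiv_tmul, Algebra.smul_def]
      rfl
    | add a b ha hb => rw [map_add, map_add, ha, hb]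
  exact ⟨AlgEquiv.ofBijective G ((funext hG : ⇑G = ⇑hb.equiv) ▸ hb.equiv.bijective)⟩

end Groth.Agent.S6481
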