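import Groth.Statements.S6483
-- import your own Groth.Agent.* helpers here
import Groth.Agent.Lib.CycPush.PushFam
import Mathlib.AlgebraicGeometry.PullbackCarrier

set_option autoImplicit false
universe u
open CategoryTheory AlgebraicGeometry
open CategoryTheory.Limits
open Cyc

namespace Groth.Agent.S6483

open GrothLib.CycPush

theorem exists_point {X Y : Scheme.{u}} (f : Y ⟶ X) (y y' : Y) (h : f y = f y')
    (hy' : Function.Surjective (f.residueFieldMap y').hom) :
    ∃ z : ↥(pullback f f), pullback.fst f f z = y ∧ pullback.snd f f z = y' ∧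
      (pullback.fst f f).residueDegree z = 1 ∧ (pullback.snd f f).residueDegree z = f.residueDegree y := by
  let φ : Y.residueField y' ⟶ Y.residueField y :=
    CommRingCat.ofHom (((f.residueFieldMap y).hom.comp (X.residueFieldCongr h.symm).hom.hom).comp
      (RingEquiv.ofBijective (f.residueFieldMap y').hom ⟨(f.residueFieldMap y').hom.injective, hy'⟩).symm.toRingHom)
  have hφ : f.residueFieldMap y' ≫ φ = (X.residueFieldCongr h.symm).hom ≫ f.residueFieldMap y := by
    ext a
    show f.residueFieldMap y ((X.residueFieldCongr h.symm).hom _) = _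
    exact congrArg (fun t => f.residueFieldMap y ((X.residueFieldCongr h.symm).hom t))
      ((RingEquiv.ofBijective (f.residueFieldMap y').hom ⟨(f.residueFieldMap y').hom.injective, hy'⟩).symm_apply_apply a)
  have hcond : Y.fromSpecResidueField y ≫ f = (Spec.map φ ≫ Y.fromSpecResidueField y') ≫ f := by
    rw [Category.assoc, ← Scheme.Hom.SpecMap_residueFieldMap_fromSpecResidueField f y',
      ← Spec.map_comp_assoc, hφ, Spec.map_comp, Category.assoc, Scheme.residueFieldCongr_fromSpecResidueField,
      Scheme.Hom.SpecMap_residueFieldMap_fromSpecResidueField]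
  let s : Spec (Y.residueField y) ⟶ pullback f f := pullback.lift _ _ hcond
  let pt : Spec (Y.residueField y) := IsLocalRing.closedPoint (Y.residueField y)
  have h1 : pullback.fst f f (s pt) = y := by
    rw [← Scheme.Hom.comp_apply, pullback.lift_fst]
    exact Scheme.fromSpecResidueField_apply _ _
  have h2 : pullback.snd f f (s pt) = y' := by
    rw [← Scheme.Hom.comp_apply, pullback.lift_snd, Scheme.Hom.comp_apply]
    exact Scheme.fromSpecResidueField_apply _ _
  have hfst : Function.Surjective ((pullback.fst f f).residueFieldMap (s pt)).hom := by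
    haveI : SurjectiveOnStalks (s ≫ pullback.fst f f) := by
      rw [pullback.lift_fst]
      infer_instance
    have hc := (residueFieldMap_bijective (s ≫ pullback.fst f f) pt).2
    rw [Scheme.residueFieldMap_comp] at hc
    change Function.Surjective fun w => s.residueFieldMap pt ((pullback.fst f f).residueFieldMap (s pt) w) at hc
    intro z
    obtain ⟨w, hw⟩ := hc (s.residueFieldMap pt z)
    exact ⟨w, (s.residueFieldMap pt).hom.injective hw⟩
  have hd : (pullback.fst f f).residueDegree (s pt) = 1 := residueDegree_eq_one _ hfst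
  refine ⟨s pt, h1, h2, hd, ?_⟩
  have e : (pullback.fst f f ≫ f).residueDegree (s pt) = (pullback.snd f f ≫ f).residueDegree (s pt) := by
    rw [pullback.condition]
  rw [GrothLib.CycBasic.residueDegree_comp, GrothLib.CycBasic.residueDegree_comp, hd, mul_one, h1, h2,
    residueDegree_eq_one f hy', one_mul] at e
  exact e.symm

end Groth.Agent.S6483

namespace Groth.Agent.S6483

/-- Let f : Y → X be an envelope and p, q : Y ×_X Y → Y the two projections. If a k-cycle β on Y has
f_*β ∼_rat 0 on X, then β ∼_rat p_*γ − q_*γ for some k-cycle γ on Y ×_X Y. Together with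
surjectivity of f_* and f_* p_* = f_* q_*, this is the exact sequence CH_k(Y ×_X Y) → CH_k(Y) →
CH_k(X) → 0. An envelope is a proper, completely decomposed morphism (every point of the target has
a point over it with trivial residue field extension; this prelude's Cyc.IsCompletelyDecomposed).
Here a pair (X, δ) with Cyc.IsSetup plays the role of a scheme locally of finite type over the base
(S, δ) (X locally Noetherian with universally catenary local rings, δ a dimension function), and
Cyc.DeltaCompat records that the dimension function upstairs is the induced one. -/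
theorem result (X Y : Scheme.{u}) (δ : X → ℤ) (δY : Y → ℤ) (hX : Cyc.IsSetup X δ) (hY : Cyc.IsSetup Y δY) (f : Y ⟶ X) [IsProper f] (hcd : Cyc.IsCompletelyDecomposed f) (hδ : Cyc.DeltaCompat f δY δ) (δ2 : ↥(pullback f f) → ℤ) (h2 : Cyc.IsSetup (pullback f f) δ2) (hδ2 : Cyc.DeltaCompat (pullback.fst f f) δ2 δY) (k : ℤ) (β : AlgebraicCycle Y ℤ) (hβ : β ∈ Cyc.Zk Y δY k) (h0 : Cyc.RatEquivZero δ k (AlgebraicCycle.map f δY δ β)) : ∃ γ : AlgebraicCycle (pullback f f) ℤ, γ ∈ Cyc.Zk (pullback f f) δ2 k ∧ Cyc.RatEquiv δY k β (AlgebraicCycle.map (pullback.fst f f) δ2 δY γ - AlgebraicCycle.map (pullback.snd f f) δ2 δY γ) := by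
  classical
  haveI := hX.1
  haveI := hY.1
  choose ys hys hres using hcd
  obtain ⟨ι, ξ, g, hdim, hg, hloc, hsum⟩ := h0
  have hdeltaY : ∀ x, δY (ys x) = δ x := fun x => by
    have h1 : (f.residueFieldMap (ys x)).hom.Finite := RingHom.Finite.of_surjective _ (hres x)
    rw [GrothLib.CycPush.delta_eq f hδ h1, hys x]
  have hlift : ∀ i, ∃ g' : Y.residueField (ys (ξ i)), g' ≠ 0 ∧ ∀ x,
      Cyc.divFun δ (f (ys (ξ i))) (Cyc.normGen f (ys (ξ i)) g') x = Cyc.divFun δ (ξ i) (g i) x := by
    intro i
    have key : ∀ (a : X) (e : f (ys (ξ i)) = a) (v : X.residueField a), v ≠ 0 →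
        ∃ g' : Y.residueField (ys (ξ i)), g' ≠ 0 ∧
          ∀ x, Cyc.divFun δ (f (ys (ξ i))) (Cyc.normGen f (ys (ξ i)) g') x = Cyc.divFun δ a v x := by
      intro a e v hv
      subst e
      exact ⟨f.residueFieldMap (ys (ξ i)) v, (map_ne_zero (f.residueFieldMap (ys (ξ i))).hom).2 hv,
        fun x => by rw [GrothLib.CycPush.normGen_residueFieldMap f (hres (ξ i))]⟩
    exact key _ (hys (ξ i)) (g i) (hg i)
  choose g' hg' hnorm using hlift
  have hloc' : ∀ y : Y, ∃ U : Set Y, IsOpen U ∧ y ∈ U ∧ {i | (closure {ys (ξ i)} ∩ U).Nonempty}.Finite := by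
    intro y
    obtain ⟨U, hU, hyU, hfin⟩ := hloc (f y)
    refine ⟨f ⁻¹' U, hU.preimage f.continuous, hyU, hfin.subset fun i hi => ?_⟩
    obtain ⟨w, hw, hwU⟩ := hi
    refine ⟨f w, ?_, hwU⟩
    rw [← hys (ξ i), ← Set.image_singleton]
    exact image_closure_subset_closure_image f.continuous ⟨w, hw, rfl⟩
  let S := GrothLib.CycPush.famCycle hY.2.2 g' hg' hloc'
  have hSk := GrothLib.CycPush.famCycle_mem_Zk hY.2.2 g' hg' hloc' (k := k)
    (fun i => (hdeltaY _).trans (hdim i))
  let B := β - S
  have hB : ∀ y, B y = β y - S y := fun y => by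
    simp only [B, Function.locallyFinsuppWithin.coe_sub, Pi.sub_apply]
  have hBk : B ∈ Cyc.Zk Y δY k := fun y hy => by rw [hB, hβ y hy, hSk y hy, sub_zero]
  have hpush : AlgebraicCycle.map f δY δ B = 0 := by
    ext x
    rw [show B = β - S from rfl, GrothLib.CycPush.map_sub, Function.locallyFinsuppWithin.coe_sub, Pi.sub_apply,
      GrothLib.CycPush.map_famCycle_apply f hY.2.2 hX.2.2 hδ g' hg' hloc' x,
      finsum_congr fun i => (if_pos ((hdeltaY (ξ i)).trans (congrArg δ (hys (ξ i)).symm))).trans (hnorm i x),
      hsum x]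
    exact sub_self _
  choose sec hsec₁ hsec₂ hdeg₁ hdeg₂ using fun y =>
    exists_point f y (ys (f y)) (hys (f y)).symm (hres (f y))
  have hδsec : ∀ y, δ2 (sec y) = δY y := fun y => by
    have h1 : ((pullback.fst f f).residueFieldMap (sec y)).hom.Finite := by
      letI := ((pullback.fst f f).residueFieldMap (sec y)).hom.toAlgebra
      exact Module.finite_of_finrank_eq_succ (n := 0) (hdeg₁ y)
    rw [GrothLib.CycPush.delta_eq _ hδ2 h1, hsec₁]
  let γ : AlgebraicCycle (pullback f f) ℤ :=
    { toFun := fun z => if sec (pullback.fst f f z) = z then B (pullback.fst f f z) else 0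
      supportWithinDomain' := Set.subset_univ _
      supportLocallyFiniteWithinDomain' := fun z _ => by
        obtain ⟨t, ht, hfin⟩ := B.supportLocallyFiniteWithinDomain' (pullback.fst f f z) trivial
        refine ⟨pullback.fst f f ⁻¹' t,
          (pullback.fst f f).continuous.continuousAt.preimage_mem_nhds ht, (hfin.image sec).subset ?_⟩
        rintro w ⟨hw, hne⟩
        simp only [Function.mem_support, ne_eq, ite_eq_right_iff, not_forall] at hne
        obtain ⟨he, hne⟩ := hne
        exact ⟨_, ⟨hw, hne⟩, he⟩ }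
  have hγ : ∀ y, γ (sec y) = B y := fun y => by
    show (if sec (pullback.fst f f (sec y)) = sec y then B (pullback.fst f f (sec y)) else 0) = B y
    rw [hsec₁, if_pos rfl]
  have hγ0 : ∀ z, γ z ≠ 0 → sec (pullback.fst f f z) = z := fun z hz => by
    by_contra h
    exact hz (if_neg h)
  refine ⟨γ, fun z hz => ?_, ?_⟩
  · by_contra h
    have e := hγ0 z h
    refine h ?_
    rw [← e, hγ]
    exact hBk _ fun hk => hz (by rw [← e, hδsec, hk])
  have hp : ∀ y, AlgebraicCycle.map (pullback.fst f f) δ2 δY γ y = B y := fun y => by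
    rw [GrothLib.CycPush.map_apply, finsum_mem_inter_support_eq' _ _ ({sec y} : Set ↥(pullback f f)) fun z hz => ?_,
      finsum_mem_singleton, hγ, AlgebraicCycle.mapCoeff, if_pos ((hδsec y).trans (congrArg δY (hsec₁ y)).symm),
      hdeg₁, Nat.cast_one, mul_one]
    refine ⟨fun hzy => ?_, fun hzy => ?_⟩
    · have hzy' : pullback.fst f f z = y := hzy
      exact ((hγ0 z fun h => hz (by simp only [h, zero_mul])).symm.trans (congrArg sec hzy'))
    · rw [Set.mem_singleton_iff.1 hzy]
      exact hsec₁ y
  have hq : ∀ w, AlgebraicCycle.map (pullback.snd f f) δ2 δY γ w = 0 := fun w => by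
    rw [GrothLib.CycPush.map_apply]
    by_cases hw : w = ys (f w)
    swap
    · refine finsum_mem_eq_zero_of_forall_eq_zero fun z hz => ?_
      rw [mul_eq_zero]
      refine Or.inl (by_contra fun h => hw ?_)
      have e := hγ0 z h
      have h3 : pullback.snd f f (sec (pullback.fst f f z)) = w := by rw [e]; exact hz
      rw [hsec₂] at h3
      rw [← h3, hys]
    · have hinj : Set.InjOn sec (f ⁻¹' {f w}) := fun a _ b _ e => by rw [← hsec₁ a, e, hsec₁]
      rw [finsum_mem_inter_support_eq' _ _ (sec '' (f ⁻¹' {f w})) fun z hz => ?_, finsum_mem_image hinj]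
      · have h1 := congrArg (fun a : AlgebraicCycle X ℤ => a (f w)) hpush
        simp only [GrothLib.CycPush.map_apply] at h1
        refine Eq.trans (finsum_mem_congr rfl fun y hy => ?_) h1
        have hy' : f y = f w := hy
        rw [hγ]
        congr 2
        unfold AlgebraicCycle.mapCoeff
        have hw2 : δY ((pullback.snd f f).base (sec y)) = δ (f.base y) := by
          show δY (pullback.snd f f (sec y)) = δ (f y)
          rw [hsec₂, hdeltaY]
        rw [hw2, hδsec, hdeg₂]
      · refine ⟨fun hzw => ?_, ?_⟩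
        · have e := hγ0 z fun h => hz (by simp only [h, zero_mul])
          refine ⟨_, ?_, e⟩
          have h3 : pullback.snd f f (sec (pullback.fst f f z)) = w := by rw [e]; exact hzw
          rw [hsec₂] at h3
          show f (pullback.fst f f z) = f w
          rw [← h3, hys]
        · rintro ⟨y, hy, rfl⟩
          show pullback.snd f f (sec y) = w
          rw [hsec₂, show f y = f w from hy, ← hw]
  refine ⟨ι, fun i => ys (ξ i), g', fun i => (hdeltaY _).trans (hdim i), hg', hloc', fun y => ?_⟩
  rw [Function.locallyFinsuppWithin.coe_sub, Pi.sub_apply, Function.locallyFinsuppWithin.coe_sub, Pi.sub_apply,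
    hp, hq, hB, sub_zero, sub_sub_cancel]
  rfl

end Groth.Agent.S6483
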