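import Groth.Statements.S6484
-- import your own Groth.Agent.* helpers here
import Mathlib.AlgebraicGeometry.ResidueField
import Mathlib.AlgebraicGeometry.PullbackCarrier

set_option autoImplicit false
universe u
open CategoryTheory AlgebraicGeometry
open CategoryTheory.Limits
open Cyc

namespace Groth.Agent.S6484

/-- If f : Y → X is completely decomposed (this prelude's Cyc.IsCompletelyDecomposed: over every point
of X lies a point of Y with trivial residue field extension) and g : X' → X is any morphism of
schemes, then the base change Y ×_X X' → X' is completely decomposed. Consequently the base change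
of an envelope (a proper completely decomposed morphism) is an envelope, properness being preserved
by base change. (The published envelope statement takes X′ → X between schemes locally of finite
type over a base; this row allows any g.) -/
theorem result (X X' Y : Scheme.{u}) (f : Y ⟶ X) (g : X' ⟶ X) (hcd : Cyc.IsCompletelyDecomposed f) : Cyc.IsCompletelyDecomposed (pullback.snd f g) := by
  intro x'
  obtain ⟨y, hy, hs⟩ := hcd (g x')
  haveI : IsIso (f.residueFieldMap y) :=
    (ConcreteCategory.isIso_iff_bijective _).mpr ⟨RingHom.injective _, hs⟩
  let a : Spec (X'.residueField x') ⟶ Y :=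
    Spec.map (g.residueFieldMap x') ≫ Spec.map (X.residueFieldCongr hy).hom ≫
      inv (Spec.map (f.residueFieldMap y)) ≫ Y.fromSpecResidueField y
  have ha : a ≫ f = X'.fromSpecResidueField x' ≫ g := by
    simp only [a, Category.assoc]
    rw [← Scheme.Hom.SpecMap_residueFieldMap_fromSpecResidueField f y, IsIso.inv_hom_id_assoc,
      Scheme.residueFieldCongr_fromSpecResidueField,
      Scheme.Hom.SpecMap_residueFieldMap_fromSpecResidueField g x']
  let u := pullback.lift a (X'.fromSpecResidueField x') ha
  have hu : u ≫ pullback.snd f g = X'.fromSpecResidueField x' := pullback.lift_snd _ _ _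
  let p : Spec (X'.residueField x') := IsLocalRing.closedPoint _
  refine ⟨u p, ?_, ?_⟩
  · rw [← Scheme.Hom.comp_apply, hu]
    exact Scheme.fromSpecResidueField_apply x' _
  · have key : ∀ (φ : Spec (X'.residueField x') ⟶ X'), φ = X'.fromSpecResidueField x' →
        Function.Surjective (φ.residueFieldMap p).hom := by
      rintro φ rfl
      intro b
      obtain ⟨b, rfl⟩ := IsLocalRing.residue_surjective b
      obtain ⟨a, rfl⟩ := (X'.fromSpecResidueField x').stalkMap_surjective p b
      exact ⟨X'.residue _ a, rfl⟩
    have h := key _ hu
    rw [Scheme.residueFieldMap_comp] at h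
    intro b
    obtain ⟨c, hc⟩ := h ((u.residueFieldMap p).hom b)
    exact ⟨c, RingHom.injective (u.residueFieldMap p).hom hc⟩

end Groth.Agent.S6484
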