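import Groth.Statements.S6493
-- import your own Groth.Agent.* helpers here
import Mathlib.RingTheory.Length
import Mathlib.AlgebraicGeometry.Properties
import Mathlib.AlgebraicGeometry.Morphisms.ClosedImmersion
import Mathlib.AlgebraicGeometry.Noetherian
import Mathlib.RingTheory.HopkinsLevitzki

set_option autoImplicit false
universe u
open CategoryTheory AlgebraicGeometry
open Cyc

namespace Groth.Agent.S6493

/-- Suppose Z ⊂ X is a closed subscheme whose δ-dimension is at most k, and pick a point ξ of Z
satisfying δ(ξ) = k. In that case Z has an irreducible component whose generic point is ξ; and at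
every generic point ξ' of an irreducible component of Z (every point of Z maximal under
generalization) the length of O_{Z,ξ'} over O_{X,ξ'} (= its length over itself) is finite. Here a
pair (X, δ) with Cyc.IsSetup plays the role of a scheme locally of finite type over the base (S, δ)
(X locally Noetherian with universally catenary local rings, δ a dimension function). -/
theorem result (X Z : Scheme.{u}) (δ : X → ℤ) (hX : Cyc.IsSetup X δ) (i : Z ⟶ X) [IsClosedImmersion i] (k : ℤ) (hZ : ∀ z : Z, δ (i z) ≤ k) (ξ : Z) (hξ : δ (i ξ) = k) : (∀ z : Z, z ⤳ ξ → z = ξ) ∧ ∀ ξ' : Z, (∀ z : Z, z ⤳ ξ' → z = ξ') → Module.length ↑(Z.presheaf.stalk ξ') ↑(Z.presheaf.stalk ξ') < ⊤ := by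
  refine ⟨fun z hz => ?_, fun ξ' hξ' => ?_⟩
  · by_contra hne
    have := (hX.2.2 (i z) (i ξ) (hz.map i.continuous)
      (fun e => hne (i.isClosedEmbedding.injective e))).1
    have := hZ z
    omega
  · haveI := hX.1
    haveI : IsNoetherianRing (Z.presheaf.stalk ξ') :=
      isNoetherianRing_of_surjective _ _ _ (i.stalkMap_surjective ξ')
    have h0 : Order.coheight ξ' = 0 := Order.coheight_eq_zero.mpr fun b hb => by
      rw [hξ' b hb]
    haveI : Ring.KrullDimLE 0 (Z.presheaf.stalk ξ') := AlgebraicGeometry.krullDimLE_of_coheight_le h0.le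
    haveI : IsArtinianRing (Z.presheaf.stalk ξ') := IsNoetherianRing.isArtinianRing_of_krullDimLE_zero
    rw [lt_top_iff_ne_top, Module.length_ne_top_iff]
    exact isFiniteLength_iff_isNoetherian_isArtinian.mpr ⟨inferInstance, inferInstance⟩

end Groth.Agent.S6493
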