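import Groth.Statements.S6495
-- import your own Groth.Agent.* helpers here
import Groth.Agent.Lib.CycLimit.Basic

set_option autoImplicit false
universe u
open CategoryTheory AlgebraicGeometry
open Cyc

namespace Groth.Agent.S6495

/-- Surjectivity of colim Z_k(X_i) → Z_k(X'): every k-cycle α' on the limit X' is g_i^*α for some i and
some k-cycle α on X_i, where g_i : X' → X_i is the projection and g_i^* the shift-0 base-change
pullback on coefficient functions. Setting: a directed inverse system (X_i) of quasi-compact schemes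
with affine flat transition morphisms and limit X' (a limit cone), each X_i and X' carrying a
dimension function with Cyc.IsSetup, and every transition map and every projection X' → X_i shifting
the dimension functions by c = 0 at generic points of fibres, so that the base-change pullbacks g^*
are Cyc.pullFun with shift 0. (The published statement takes X_i and X′ to be the base changes of
one quasi-compact scheme of finite type over a base S along S_i → S and lim S_i → S; this row allows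
any such inverse system.) -/
theorem result (I : Type u) [Preorder I] [IsDirected I (fun a b => a ≤ b)] [Nonempty I] (D : Iᵒᵖ ⥤ Scheme.{u}) (c : Limits.Cone D) (hc : Limits.IsLimit c) (haff : ∀ (i j : Iᵒᵖ) (f : i ⟶ j), IsAffineHom (D.map f)) (hflat : ∀ (i j : Iᵒᵖ) (f : i ⟶ j), Flat (D.map f)) (hqc : ∀ i, CompactSpace ↥(D.obj i)) (δ : (i : Iᵒᵖ) → ↥(D.obj i) → ℤ) (δ' : ↥c.pt → ℤ) (hset : ∀ i, Cyc.IsSetup (D.obj i) (δ i)) (hset' : Cyc.IsSetup c.pt δ') (hshift : ∀ (i j : Iᵒᵖ) (f : i ⟶ j) (x : ↥(D.obj i)), (∀ y, D.map f y = D.map f x → y ⤳ x → y = x) → δ i x = δ j (D.map f x)) (hflat' : ∀ i, Flat (c.π.app i)) (hshift' : ∀ (i : Iᵒᵖ) (x : ↥c.pt), (∀ y, c.π.app i y = c.π.app i x → y ⤳ x → y = x) → δ' x = δ i (c.π.app i x)) (k : ℤ) (α' : AlgebraicCycle c.pt ℤ) (hα' : α' ∈ Cyc.Zk c.pt δ' k) : ∃ (i : Iᵒᵖ) (α : AlgebraicCycle (D.obj i) ℤ), α ∈ Cyc.Zk (D.obj i) (δ i) k ∧ Cyc.pullFun (c.π.app i) δ' (δ i) 0 ⇑α = ⇑α' := by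
  classical
  haveI := haff
  haveI := hqc
  haveI : IsLocallyNoetherian c.pt := hset'.1
  haveI : CompactSpace ↥c.pt := Scheme.compactSpace_of_isLimit _ _ hc
  haveI : IsNoetherian c.pt := {}
  let s := (GrothLib.CycLimit.finite_support α').toFinset
  have hs : ∀ z, z ∈ s ↔ α' z ≠ 0 := fun z => Set.Finite.mem_toFinset _
  have hk : ∀ w ∈ s, δ' w = k := fun w hw => not_not.1 fun h => (hs w).1 hw (hα' w h)
  -- one point
  have one : ∀ (j₀ : Iᵒᵖ), ∀ w ∈ s, ∃ (J : Iᵒᵖ) (_ : J ⟶ j₀), ∀ (j : Iᵒᵖ) (_ : j ⟶ J),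
      Ideal.map ((c.π.app j).stalkMap w).hom (IsLocalRing.maximalIdeal _) = IsLocalRing.maximalIdeal _ ∧
      ∀ z : ↥c.pt, c.π.app j z = c.π.app j w → δ' z = k → z = w := by
    intro j₀ w hw
    obtain ⟨J₁, f₁, h₁⟩ := GrothLib.CycLimit.exists_map_eq_maximal D c hc j₀ w
    have hT := GrothLib.CycLimit.finite_maxFib (X := c.pt) (c.π.app J₁) (c.π.app J₁ w)
    have sep : ∀ T : Finset ↥c.pt, ∃ (J : Iᵒᵖ) (_ : J ⟶ J₁), ∀ z ∈ T, z ≠ w →
        ∀ (j : Iᵒᵖ) (_ : j ⟶ J), c.π.app j z ≠ c.π.app j w := by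
      intro T
      induction T using Finset.induction_on with
      | empty => exact ⟨J₁, 𝟙 _, fun z hz => absurd hz (Finset.notMem_empty z)⟩
      | insert z T _ ih =>
        obtain ⟨J, fJ, hJ⟩ := ih
        by_cases hzw : z = w
        · refine ⟨J, fJ, fun y hy hne => ?_⟩
          exact hJ y (Finset.mem_of_mem_insert_of_ne hy (hzw ▸ hne)) hne
        · obtain ⟨k', hk'⟩ : ∃ k', c.π.app k' z ≠ c.π.app k' w := by
            by_contra! h
            exact hzw (GrothLib.LimStage.eq_of_forall_π_eq D c hc h)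
          obtain ⟨l, g, g', -⟩ := IsCofilteredOrEmpty.cone_objs J k'
          refine ⟨l, g ≫ fJ, fun y hy hne j f => ?_⟩
          rcases Finset.mem_insert.1 hy with rfl | hy
          · intro e
            refine hk' ?_
            rw [← c.w (f ≫ g'), Scheme.Hom.comp_apply, Scheme.Hom.comp_apply, e]
          · exact hJ y hy hne j (f ≫ g)
    obtain ⟨J, fJ, hJ⟩ := sep hT.toFinset
    refine ⟨J, fJ ≫ f₁, fun j f => ⟨h₁ j (f ≫ fJ), fun z hz hzk => by_contra fun hne => ?_⟩⟩
    refine hJ z (hT.mem_toFinset.2 ?_) hne j f hz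
    have e : c.π.app J₁ z = c.π.app J₁ w := by
      rw [← c.w (f ≫ fJ), Scheme.Hom.comp_apply, Scheme.Hom.comp_apply, hz]
    refine ⟨e, ?_⟩
    have h2 := GrothLib.CycFlat.eq_add_iff_maxFib (c.π.app J₁) hset'.2.2 (δY := δ J₁) (c := 0)
      (fun x hx => by rw [add_zero]; exact hshift' J₁ x hx)
    refine (h2 z).1.1 ?_
    rw [hzk, e, add_zero, ← hk w hw]
    exact hshift' J₁ w (GrothLib.CycLimit.maxFib_of_map_eq _ _ (h₁ J₁ (𝟙 _)))
  -- all points
  have all : ∀ T : Finset ↥c.pt, T ⊆ s → ∃ J : Iᵒᵖ, ∀ w ∈ T, ∀ (j : Iᵒᵖ) (_ : j ⟶ J),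
      Ideal.map ((c.π.app j).stalkMap w).hom (IsLocalRing.maximalIdeal _) = IsLocalRing.maximalIdeal _ ∧
      ∀ z : ↥c.pt, c.π.app j z = c.π.app j w → δ' z = k → z = w := by
    intro T
    induction T using Finset.induction_on with
    | empty => exact fun _ => ⟨IsCofiltered.nonempty.some, fun z hz => absurd hz (Finset.notMem_empty z)⟩
    | insert w T _ ih =>
      intro hsub
      obtain ⟨J₀, h₀⟩ := ih fun x hx => hsub (Finset.mem_insert_of_mem hx)
      obtain ⟨J, fJ, hJ⟩ := one J₀ w (hsub (Finset.mem_insert_self _ _))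
      refine ⟨J, fun x hx j f => ?_⟩
      rcases Finset.mem_insert.1 hx with rfl | hx
      · exact hJ j f
      · exact h₀ x hx j (f ≫ fJ)
  obtain ⟨i, hi⟩ := all s le_rfl
  let g := c.π.app i
  have hmap : ∀ w ∈ s, Ideal.map (g.stalkMap w).hom (IsLocalRing.maximalIdeal _) = IsLocalRing.maximalIdeal _ :=
    fun w hw => (hi w hw i (𝟙 i)).1
  have hmax : ∀ w ∈ s, δ' w = δ i (g w) := fun w hw =>
    hshift' i w (GrothLib.CycLimit.maxFib_of_map_eq _ _ (hmap w hw))
  have huniq : ∀ w ∈ s, ∀ z, g z = g w → δ' z = k → z = w := fun w hw => (hi w hw i (𝟙 i)).2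
  let a : ↥(D.obj i) → ℤ := fun x => ∑ w ∈ s, if g w = x then α' w else 0
  have ha : ∀ x, a x ≠ 0 → x ∈ g.base '' (s : Set ↥c.pt) := by
    intro x hx
    obtain ⟨w, hw, hne⟩ := Finset.exists_ne_zero_of_sum_ne_zero hx
    refine ⟨w, hw, ?_⟩
    by_contra h
    exact hne (if_neg h)
  let α : AlgebraicCycle (D.obj i) ℤ :=
    { toFun := a
      supportWithinDomain' := Set.subset_univ _
      supportLocallyFiniteWithinDomain' := fun z _ =>
        ⟨Set.univ, Filter.univ_mem, ((s.finite_toSet.image g.base).subset fun x hx => ha x hx.2)⟩ }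
  refine ⟨i, α, fun x hx => not_not.1 fun h => ?_, funext fun z => ?_⟩
  · obtain ⟨w, hw, rfl⟩ := ha x h
    exact hx ((hmax w hw).symm.trans (hk w hw))
  rw [GrothLib.CycFlat.pullFun_apply]
  change (if δ' z = δ i (g z) + 0 then a (g z) * _ else 0) = α' z
  rw [add_zero]
  by_cases hz : z ∈ s
  · rw [if_pos (hmax z hz)]
    have h1 : a (g z) = α' z := by
      refine (Finset.sum_eq_single z (fun w hw hne => if_neg fun e => hne ?_) (fun h => absurd hz h)).trans
        (if_pos rfl)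
      exact huniq z hz w e (hk w hw)
    have h2 : GrothLib.CycFlat.fibLength g z = 1 := by
      rw [GrothLib.CycFlat.fibLength, hmap z hz, Module.length_eq_one_iff, isSimpleModule_iff_quot_maximal]
      exact ⟨_, IsLocalRing.maximalIdeal.isMaximal _, ⟨LinearEquiv.refl _ _⟩⟩
    rw [h1, h2]; simp
  · rw [show α' z = 0 from not_not.1 fun h => hz ((hs z).2 h)]
    split_ifs with hd
    · by_cases hne : a (g z) = 0
      · rw [hne, zero_mul]
      · obtain ⟨w, hw, e⟩ := ha _ hne
        exfalso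
        have hzk : δ' z = k := by
          have e' : g z = g w := e.symm
          rw [hd, e', ← hmax w hw, hk w hw]
        exact hz (huniq w hw z e.symm hzk ▸ hw)
    · rfl

end Groth.Agent.S6495
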