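import Groth.Statements.S6496
-- import your own Groth.Agent.* helpers here
import Groth.Agent.Lib.CycLimit.Basic

set_option autoImplicit false
universe u
open CategoryTheory AlgebraicGeometry
open Cyc

namespace Groth.Agent.S6496

/-- Injectivity of colim Z_k(X_i) → Z_k(X'): if a k-cycle α on X_i pulls back to the zero cycle on X',
then it pulls back to zero on some stage X_j above X_i. Setting: a directed inverse system (X_i) of
quasi-compact schemes with affine flat transition morphisms and limit X' (a limit cone), each X_i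
and X' carrying a dimension function with Cyc.IsSetup, and every transition map and every projection
X' → X_i shifting the dimension functions by c = 0 at generic points of fibres, so that the
base-change pullbacks g^* are Cyc.pullFun with shift 0. (The published statement takes X_i and X′ to
be the base changes of one quasi-compact scheme of finite type over a base S along S_i → S and lim
S_i → S; this row allows any such inverse system.) -/
theorem result (I : Type u) [Preorder I] [IsDirected I (fun a b => a ≤ b)] [Nonempty I] (D : Iᵒᵖ ⥤ Scheme.{u}) (c : Limits.Cone D) (hc : Limits.IsLimit c) (haff : ∀ (i j : Iᵒᵖ) (f : i ⟶ j), IsAffineHom (D.map f)) (hflat : ∀ (i j : Iᵒᵖ) (f : i ⟶ j), Flat (D.map f)) (hqc : ∀ i, CompactSpace ↥(D.obj i)) (δ : (i : Iᵒᵖ) → ↥(D.obj i) → ℤ) (δ' : ↥c.pt → ℤ) (hset : ∀ i, Cyc.IsSetup (D.obj i) (δ i)) (hset' : Cyc.IsSetup c.pt δ') (hshift : ∀ (i j : Iᵒᵖ) (f : i ⟶ j) (x : ↥(D.obj i)), (∀ y, D.map f y = D.map f x → y ⤳ x → y = x) → δ i x = δ j (D.map f x)) (hflat'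 : ∀ i, Flat (c.π.app i)) (hshift' : ∀ (i : Iᵒᵖ) (x : ↥c.pt), (∀ y, c.π.app i y = c.π.app i x → y ⤳ x → y = x) → δ' x = δ i (c.π.app i x)) (k : ℤ) (i : Iᵒᵖ) (α : AlgebraicCycle (D.obj i) ℤ) (hα : α ∈ Cyc.Zk (D.obj i) (δ i) k) (h0 : Cyc.pullFun (c.π.app i) δ' (δ i) 0 ⇑α = 0) : ∃ (j : Iᵒᵖ) (f : j ⟶ i), Cyc.pullFun (D.map f) (δ j) (δ i) 0 ⇑α = 0 := by
  classical
  haveI := haff
  haveI := hqc
  haveI : IsLocallyNoetherian c.pt := hset'.1
  have hfin := GrothLib.CycLimit.finite_support (X := D.obj i) α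
  have hout : ∀ y ∈ {x | α x ≠ 0}, y ∉ Set.range (c.π.app i) := by
    rintro _ hy ⟨x, rfl⟩
    obtain ⟨z, hz, he, -⟩ := GrothLib.CycFlat.exists_maxFib_specializes (c.π.app i) x
    have h1 := congrFun h0 z
    rw [GrothLib.CycFlat.pullFun_apply, if_pos (by rw [add_zero]; exact hshift' i z hz), Pi.zero_apply,
      mul_eq_zero] at h1
    rcases h1 with h1 | h1
    · exact hy (by rw [← he]; exact h1)
    · exact GrothLib.CycLimit.fibLength_toNat_ne_zero (X := c.pt) (c.π.app i) z hz (by exact_mod_cast h1)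
  obtain ⟨j, f, hj⟩ := GrothLib.CycLimit.exists_avoid D c hc i _ hfin hout
  refine ⟨j, f, funext fun y => ?_⟩
  rw [GrothLib.CycFlat.pullFun_apply, Pi.zero_apply]
  split_ifs
  · rw [show α (D.map f y) = 0 from not_not.1 fun h => hj _ h ⟨y, rfl⟩, zero_mul]
  · rfl

end Groth.Agent.S6496
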