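import Groth.Statements.S6497
-- import your own Groth.Agent.* helpers here
import Groth.Agent.Lib.CycDiv.Limit

set_option autoImplicit false
universe u
open CategoryTheory AlgebraicGeometry
open Cyc

namespace Groth.Agent.S6497

/-- Injectivity of colim CH_k(X_i) → CH_k(X'): if α ∈ Z_k(X_i) and g_i^*α ∼_rat 0 on X' (for a cycle
with the pulled-back coefficients), then for some stage X_j above X_i the pullback of α to X_j is
∼_rat 0. Setting: a directed inverse system (X_i) of quasi-compact schemes with affine flat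
transition morphisms and limit X' (a limit cone), each X_i and X' carrying a dimension function with
Cyc.IsSetup, and every transition map and every projection X' → X_i shifting the dimension functions
by c = 0 at generic points of fibres, so that the base-change pullbacks g^* are Cyc.pullFun with
shift 0. (The published statement takes X_i and X′ to be the base changes of one quasi-compact
scheme of finite type over a base S along S_i → S and lim S_i → S; this row allows any such inverse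
system.) -/
theorem result (I : Type u) [Preorder I] [IsDirected I (fun a b => a ≤ b)] [Nonempty I] (D : Iᵒᵖ ⥤ Scheme.{u}) (c : Limits.Cone D) (hc : Limits.IsLimit c) (haff : ∀ (i j : Iᵒᵖ) (f : i ⟶ j), IsAffineHom (D.map f)) (hflat : ∀ (i j : Iᵒᵖ) (f : i ⟶ j), Flat (D.map f)) (hqc : ∀ i, CompactSpace ↥(D.obj i)) (δ : (i : Iᵒᵖ) → ↥(D.obj i) → ℤ) (δ' : ↥c.pt → ℤ) (hset : ∀ i, Cyc.IsSetup (D.obj i) (δ i)) (hset' : Cyc.IsSetup c.pt δ') (hshift : ∀ (i j : Iᵒᵖ) (f : i ⟶ j) (x : ↥(D.obj i)), (∀ y, D.map f y = D.map f x → y ⤳ x → y = x) → δ i x = δ j (D.map f x)) (hflat' : ∀ i, Flat (c.π.app i)) (hshift' : ∀ (i : Iᵒᵖ) (x : ↥c.pt), (∀ y, c.π.app i y = c.π.app i x → y ⤳ x → y = x) → δ' x = δ i (c.π.app i x)) (k : ℤ) (i : Iᵒᵖ) (α : AlgebraicCycle (D.obj i) ℤ) (hα : α ∈ Cyc.Zk (D.obj i) (δ i) k) (α' : AlgebraicCycle c.pt ℤ) (hα' : ⇑α' = Cyc.pullFun (c.π.app i) δ' (δ i) 0 ⇑α) (h0 : Cyc.RatEquivZero δ' k α') : ∃ (j : Iᵒᵖ) (f : j ⟶ i) (αj : AlgebraicCycle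 (D.obj j) ℤ), ⇑αj = Cyc.pullFun (D.map f) (δ j) (δ i) 0 ⇑α ∧ Cyc.RatEquivZero (δ j) k αj := by
  classical
  haveI := haff
  haveI := hqc
  haveI := hflat
  haveI := hflat'
  haveI : IsLocallyNoetherian c.pt := hset'.1
  haveI : CompactSpace ↥c.pt := Scheme.compactSpace_of_isLimit _ _ hc
  haveI : IsNoetherian c.pt := {}
  have hN : ∀ j, IsNoetherian (D.obj j) := fun j => by
    haveI := (hset j).1
    exact {}
  obtain ⟨ι, ξ, v, hξ, hv, hloc, hsum⟩ := h0
  have hι : Finite ι := by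
    choose V hVo hVy hVf using hloc
    obtain ⟨t, ht⟩ := isCompact_univ.elim_finite_subcover V hVo fun y _ => Set.mem_iUnion.2 ⟨y, hVy y⟩
    refine Set.finite_univ_iff.1 ((t.finite_toSet.biUnion fun y _ => hVf y).subset fun m _ => ?_)
    obtain ⟨y, hy, hmy⟩ := Set.mem_iUnion₂.1 (ht (Set.mem_univ (ξ m)))
    exact Set.mem_biUnion hy ⟨ξ m, subset_closure rfl, hmy⟩
  haveI := Fintype.ofFinite ι
  obtain ⟨J, hJi, hgood⟩ : ∃ (J : Iᵒᵖ) (_ : J ⟶ i), ∀ (j : Iᵒᵖ) (_ : j ⟶ J), ∀ m : ι,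
      GrothLib.CycFlat.MaxFib (c.π.app j) (ξ m) ∧ GrothLib.CycFlat.fibLength (c.π.app j) (ξ m) = 1 ∧
      (∀ z, GrothLib.CycFlat.MaxFib (c.π.app j) z → c.π.app j z = c.π.app j (ξ m) → z = ξ m) ∧
      ∃ g : (D.obj j).residueField (c.π.app j (ξ m)), (c.π.app j).residueFieldMap (ξ m) g = v m := by
    suffices key : ∀ T : Finset ι, ∃ (J : Iᵒᵖ) (_ : J ⟶ i), ∀ (j : Iᵒᵖ) (_ : j ⟶ J), ∀ m ∈ T,
        GrothLib.CycFlat.MaxFib (c.π.app j) (ξ m) ∧ GrothLib.CycFlat.fibLength (c.π.app j) (ξ m) = 1 ∧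
        (∀ z, GrothLib.CycFlat.MaxFib (c.π.app j) z → c.π.app j z = c.π.app j (ξ m) → z = ξ m) ∧
        ∃ g : (D.obj j).residueField (c.π.app j (ξ m)), (c.π.app j).residueFieldMap (ξ m) g = v m by
      obtain ⟨J, fJ, hJ⟩ := key Finset.univ
      exact ⟨J, fJ, fun j f m => hJ j f m (Finset.mem_univ m)⟩
    intro T
    induction T using Finset.induction_on with
    | empty => exact ⟨i, 𝟙 i, fun j _ m hm => absurd hm (Finset.notMem_empty m)⟩
    | insert m T _ ih =>
      obtain ⟨J₀, f₀, h₀⟩ := ih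
      obtain ⟨J, fJ, hJ⟩ := GrothLib.CycDiv.exists_good_stage D c hc J₀ (ξ m) (v m)
      refine ⟨J, fJ ≫ f₀, fun j f m' hm' => ?_⟩
      rcases Finset.mem_insert.1 hm' with rfl | hm'
      · exact hJ j f
      · exact h₀ j (f ≫ fJ) m' hm'
  haveI := (hset J).1
  haveI := hN J
  haveI := (hset i).1
  have hc0 : ∀ z, GrothLib.CycFlat.MaxFib (c.π.app J) z → δ' z = δ J (c.π.app J z) + 0 := fun z hz => by
    rw [add_zero]; exact hshift' J z hz
  have hcf : ∀ {a b : Iᵒᵖ} (f : a ⟶ b) z, GrothLib.CycFlat.MaxFib (D.map f) z → δ a z = δ b (D.map f z) + 0 :=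
    fun f z hz => by rw [add_zero]; exact hshift _ _ f z hz
  choose hmax hlen huniq g hg using hgood J (𝟙 J)
  have hg0 : ∀ m, g m ≠ 0 := fun m e => hv m (by rw [← hg m, e, map_zero])
  let b : ↥(D.obj J) → ℤ := fun y => ∑ m, Cyc.divFun (δ J) (c.π.app J (ξ m)) (g m) y
  have hbfin : {y | b y ≠ 0}.Finite := by
    refine (Set.finite_iUnion fun m : ι => GrothLib.CycDiv.finite_support_divFun
      (hset J).2.2 (c.π.app J (ξ m)) (hg0 m)).subset fun y hy => ?_
    obtain ⟨m, -, hm⟩ := Finset.exists_ne_zero_of_sum_ne_zero hy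
    exact Set.mem_iUnion.2 ⟨m, hm⟩
  have hafin : {y | Cyc.pullFun (D.map hJi) (δ J) (δ i) 0 ⇑α y ≠ 0}.Finite := by
    haveI := hN i
    exact GrothLib.CycDiv.finite_support_pullFun (D.map hJi) (hset J).2.2 (hcf hJi)
      (GrothLib.CycLimit.finite_support α)
  let d : ↥(D.obj J) → ℤ := b - Cyc.pullFun (D.map hJi) (δ J) (δ i) 0 ⇑α
  have hdfin : {y | d y ≠ 0}.Finite := (hbfin.union hafin).subset fun y hy => by
    by_contra h
    simp only [Set.mem_union, Set.mem_setOf_eq, not_or, not_not] at h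
    exact hy (by simp only [d, Pi.sub_apply, h.1, h.2, sub_zero])
  -- the difference vanishes on the limit
  have hzero : ∀ z, Cyc.pullFun (c.π.app J) δ' (δ J) 0 d z = 0 := by
    intro z
    rw [GrothLib.CycDiv.pullFun_sub, Pi.sub_apply, sub_eq_zero,
      ← GrothLib.CycFlat.pullFun_comp (c.π.app J) (D.map hJi) (c := 0) (c' := 0) hset'.2.2 (hset J).2.2
        (hcf hJi) hc0, GrothLib.CycFlat.pullFun_congr (c.w hJi), add_zero, ← hα', hsum,
      finsum_eq_sum_of_fintype]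
    have hlin : Cyc.pullFun (c.π.app J) δ' (δ J) 0 b z =
        ∑ m, Cyc.pullFun (c.π.app J) δ' (δ J) 0 (Cyc.divFun (δ J) (c.π.app J (ξ m)) (g m)) z := by
      simp only [GrothLib.CycFlat.pullFun_apply, b]
      split_ifs
      · rw [Finset.sum_mul]
      · simp
    rw [hlin]
    refine Finset.sum_congr rfl fun m _ => ?_
    rw [GrothLib.CycDiv.pullFun_divFun (X := c.pt) (c.π.app J) hset'.2.2 (hset J).2.2 hc0 _ (g m) (hg0 m) z,
      finsum_eq_single _ ⟨ξ m, hmax m, rfl⟩ fun w hne => absurd (Subtype.ext (huniq m w.1 w.2.1 w.2.2)) hne]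
    have hpv : ∀ {A B : Scheme.{u}} (q : A ⟶ B) (w : A) (t : B.residueField (q w)),
        GrothLib.CycDiv.pullVal q t w rfl = q.residueFieldMap w t := fun q w t => by
      rw [GrothLib.CycDiv.pullVal, Scheme.residueFieldCongr_refl]
      rfl
    refine (congrArg₂ (· * ·) (?_ : ((GrothLib.CycFlat.fibLength (c.π.app J) (ξ m)).toNat : ℤ) = 1)
      ((congrArg (fun t => Cyc.divFun δ' (ξ m) t z) ((hpv (c.π.app J) (ξ m) (g m)).trans (hg m))))).trans
      (one_mul _)
    rw [hlen m]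
    rfl
  have hout : ∀ y ∈ {y | d y ≠ 0}, y ∉ Set.range (c.π.app J) := by
    rintro _ hy ⟨x, rfl⟩
    obtain ⟨z, hz, he, -⟩ := GrothLib.CycFlat.exists_maxFib_specializes (c.π.app J) x
    have h1 := hzero z
    rw [GrothLib.CycFlat.pullFun_apply, if_pos (hc0 z hz), mul_eq_zero] at h1
    rcases h1 with h1 | h1
    · exact hy (by rw [← he]; exact h1)
    · exact GrothLib.CycLimit.fibLength_toNat_ne_zero (X := c.pt) (c.π.app J) z hz (by exact_mod_cast h1)
  obtain ⟨j, f, hf⟩ := GrothLib.CycLimit.exists_avoid D c hc J _ hdfin hout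
  haveI := (hset j).1
  haveI := hN j
  let αj : AlgebraicCycle (D.obj j) ℤ := GrothLib.CycDiv.mkCycle _
    (GrothLib.CycDiv.finite_support_pullFun (D.map f) (hset j).2.2 (hcf f) hbfin)
  refine ⟨j, f ≫ hJi, αj, ?_, ?_⟩
  · rw [GrothLib.CycDiv.coe_mkCycle, GrothLib.CycFlat.pullFun_congr (D.map_comp f hJi), ← add_zero (0 : ℤ),
      GrothLib.CycFlat.pullFun_comp (D.map f) (D.map hJi) (c := 0) (c' := 0) (hset j).2.2 (hset J).2.2
        (hcf hJi) (hcf f)]
    funext y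
    simp only [add_zero, GrothLib.CycFlat.pullFun_apply (D.map f)]
    split_ifs
    · congr 1
      exact sub_eq_zero.1 (not_not.1 fun h => hf _ h ⟨y, rfl⟩ : d (D.map f y) = 0)
    · rfl
  · rw [← add_zero k]
    refine GrothLib.CycDiv.ratEquivZero_pullFun (D.map f) (hset j).2.2 (hset J).2.2 (hcf f) k
      (GrothLib.CycDiv.mkCycle b hbfin) ?_ αj rfl
    refine ⟨ι, fun m => c.π.app J (ξ m), g, fun m => ?_, hg0,
      fun y => ⟨Set.univ, isOpen_univ, trivial, Set.toFinite _⟩, fun y => ?_⟩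
    · rw [← hξ m, hc0 _ (hmax m), add_zero]
    · rw [GrothLib.CycDiv.coe_mkCycle, finsum_eq_sum_of_fintype]


end Groth.Agent.S6497
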