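import Groth.Statements.S6498
import Groth.Agent.Lib.TorCoh22.Main
import Groth.Agent.Lib.OX.HomAmplitude

set_option autoImplicit false
universe u
open CategoryTheory CategoryTheory.Limits AlgebraicGeometry
attribute [local instance] HasDerivedCategory.standard
open IntMult

namespace Groth.Agent.S6498

/-- Let X be a locally Noetherian scheme. If L and K lie in D^-_Coh(O_X) (bounded above with coherent
cohomology sheaves) then so does L ⊗^L_{O_X} K. Here K is presented by a cochain complex E and − ⊗^L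
E is the prelude's total left derived functor DCoh.LTensorCx E, under its existence hypothesis
DCoh.HasLTensorCx E. (Part (1), coherence of the Tor sheaves of two coherent modules, is not
stated.) -/
theorem result (X : Scheme.{u}) [IsLocallyNoetherian X] (E : CochainComplex X.Modules ℤ) [DCoh.HasLTensorCx E] (L : DCoh.D X) (hL : DCoh.IsCohD L) (hLb : ∃ a : ℤ, ∀ i, a < i → IsZero (DCoh.HD L i)) (hE : DCoh.IsCohD (DCoh.toD X E)) (hEb : ∃ b : ℤ, ∀ i, b < i → IsZero (DCoh.HD (DCoh.toD X E) i)) : DCoh.IsCohD ((DCoh.LTensorCx E).obj L) ∧ ∃ n : ℤ, ∀ i, n < i → IsZero (DCoh.HD ((DCoh.LTensorCx E).obj L) i) := by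
  obtain ⟨a, ha⟩ := hLb
  obtain ⟨b, hb⟩ := hEb
  haveI : L.IsLE a := (DerivedCategory.isLE_iff _ _).2 ha
  haveI : (DCoh.toD X E).IsLE b := (DerivedCategory.isLE_iff _ _).2 hb
  refine ⟨GrothLib.TorCoh22.isCohD_ltensor E (b := b) hE a hL, a + b, fun i hi => ?_⟩
  haveI := GrothLib.OX.isLE_ltensorCx E (c := b) (fun i hi => (hb i hi).of_iso (GrothLib.OX.hdIso E i).symm) L a
  exact DerivedCategory.isZero_of_isLE _ (a + b) i hi

end Groth.Agent.S6498
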