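import Groth.Statements.S6499
-- import your own Groth.Agent.* helpers here
import Groth.Agent.S0019
import Groth.Agent.Lib.QCoh.SupportExact

set_option autoImplicit false
universe u
open CategoryTheory AlgebraicGeometry
open Cyc

namespace Groth.Agent.S6499

/-- Suppose X and Y are schemes locally of finite type over the base, and π : X → Y is a morphism
between them that is finite. Then π_* sends Coh_{≤k}(X) into Coh_{≤k}(Y): for F coherent on X with
dim_δ Supp(F) ≤ k, the direct image π_*F is coherent with dim_δ Supp(π_*F) ≤ k (Cyc.CohLe).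
(Exactness of π_* and the commutative diagram with the cycle maps are not restated; the latter is
the existing compatibility of [−]_k with π_*.) Here a pair (X, δ) with Cyc.IsSetup plays the role of
a scheme locally of finite type over the base (S, δ) (X locally Noetherian with universally catenary
local rings, δ a dimension function), and Cyc.DeltaCompat records that the dimension function
upstairs is the induced one. -/
theorem result (X Y : Scheme.{u}) (δX : X → ℤ) (δY : Y → ℤ) (hX : Cyc.IsSetup X δX) (hY : Cyc.IsSetup Y δY) (π : X ⟶ Y) [IsFinite π] (hδ : Cyc.DeltaCompat π δX δY) (k : ℤ) (F : X.Modules) (hF : Cyc.CohLe δX k F) : Cyc.CohLe δY k ((Coh.push π).obj F) := by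
  obtain ⟨hFc, hFd⟩ := hF
  haveI : IsLocallyNoetherian Y := hY.1
  refine ⟨Groth.Agent.S0019.result π F hFc, fun y hy => ?_⟩
  obtain ⟨x, hx, rfl⟩ : y ∈ π.base '' CohB1.support F := by
    by_contra hyn
    let O : Y.Opens := ⟨(π.base '' CohB1.support F)ᶜ,
      (π.isClosedMap _ (GrothLib.QCoh.isClosed_support_of_isCoh hFc)).isOpen_compl⟩
    have h0 : y ∉ CohB1.support ((Scheme.Modules.pushforward π).obj F) := by
      refine GrothLib.QCoh.notMem_support_of_forall_subsingleton _ (W := O) (fun V hV => ?_) hyn
      change Subsingleton Γ(F, π ⁻¹ᵁ V)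
      refine subsingleton_of_forall_eq 0 fun s => ?_
      refine TopCat.Presheaf.section_ext (F := ⟨F.presheaf, F.isSheaf⟩) _ _ _ fun z hz => ?_
      haveI : Subsingleton (F.presheaf.stalk z) := by
        by_contra hns
        exact hV hz ⟨z, hns, rfl⟩
      exact Subsingleton.elim _ _
    exact h0 (not_subsingleton_iff_nontrivial.mpr hy)
  obtain ⟨n, -, hn⟩ := hδ x
  have := hFd x (not_subsingleton_iff_nontrivial.mp hx)
  omega

end Groth.Agent.S6499
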