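import Groth.Statements.S6500
-- import your own Groth.Agent.* helpers here
import Groth.Agent.Lib.Serre.Regular
import Groth.Agent.Lib.DCxKFlat.Balance
import Groth.Agent.Lib.DCxKFlat.Derived
import Groth.Agent.Lib.WeilExt.Extend
import Groth.Agent.Lib.Ref1.Extend
import Groth.Agent.S7034

set_option autoImplicit false
universe u
open CategoryTheory CategoryTheory.Limits AlgebraicGeometry
attribute [local instance] HasDerivedCategory.standard
open IntMult

namespace Groth.Agent.S6500

/-- Let X be a nonsingular variety of dimension n and F, G coherent O_X-modules. The Tor sheaves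
Tor_p^{O_X}(F, G), whose stalks are Tor_p^{O_{X,x}}(F_x, G_x), are nonzero only for p ∈ {0, …, n}:
for every point x and every p > n, Tor_p^{O_{X,x}}(F_x, G_x) = 0. (Coherence of the Tor sheaves and
the support statement are not restated.) Nonsingular variety: X → Spec K smooth, separated,
quasi-compact, X integral, K algebraically closed; n = dim X. -/
theorem result (K : Type u) [Field K] [IsAlgClosed K] (X : Scheme.{u}) (f : X ⟶ Spec (CommRingCat.of K)) [Smooth f] [IsSeparated f] [QuasiCompact f] [IsIntegral X] (n : ℕ) (hn : topologicalKrullDim X = n) (F G : X.Modules) (hF : Coh.IsCoh F) (hG : Coh.IsCoh G) (x : X) (p : ℕ) (hp : n < p) : Subsingleton (DRing.Tor ↑(X.presheaf.stalk x) p ↑(F.presheaf.stalk x) ↑(G.presheaf.stalk x)) := by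
  have hreg := GrothLib.WeilExt.isRegularLocalRing_stalk_of_smooth f
    (fun s => GrothLib.WeilExt.isRegularLocalRing_stalk_spec K s) x
  let R := ↑(X.presheaf.stalk x)
  obtain ⟨d, hd⟩ : ∃ d : ℕ, ringKrullDim (X.presheaf.stalk x) = d :=
    ⟨_, (IsRegularLocalRing.spanFinrank_maximalIdeal (R := (X.presheaf.stalk x))).symm⟩
  have hdn : d ≤ n := by
    have := GrothLib.Ref1.ringKrullDim_stalk_le_topologicalKrullDim x
    rw [hd, hn] at this
    exact_mod_cast this
  haveI : ∀ M : ModuleCat.{u} (X.presheaf.stalk x), DRing.HasLTensor (X.presheaf.stalk x) M :=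
    fun M => GrothLib.KF.hasLTensor M
  have h := (Groth.Agent.S7034.result (X.presheaf.stalk x) d
    (fun M _ _ => GrothLib.Serre.pdLE_of_isRegularLocalRing _ d hd M)).1
  exact (GrothLib.KF.hasTorDimLE_iff _ d).mpr (h _) _ p (hdn.trans_lt hp)

end Groth.Agent.S6500
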