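import Groth.Statements.S6501
import Mathlib.RingTheory.DividedPowers.Padic
import Mathlib.RingTheory.DividedPowers.RatAlgebra
import Mathlib.RingTheory.TensorProduct.Maps
import Mathlib.RingTheory.Flat.TorsionFree

set_option autoImplicit false
universe u
open DPow

namespace Groth.Agent.S6501

/-- Let A be a commutative ring whose additive group is torsion free and I an ideal of A. Then I carries
at most one divided power structure, and it carries one if and only if I is generated by a set S
such that for every x in S and every n ≥ 1 the power x^n lies in the ideal generated by the products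
of n! with elements of I. -/
theorem result {A : Type u} [CommRing A] [IsAddTorsionFree A] (I : Ideal A) :
    Subsingleton (DividedPowers I) ∧
    (Nonempty (DividedPowers I) ↔ ∃ S : Set A, Ideal.span S = I ∧
      ∀ x ∈ S, ∀ n : ℕ, 1 ≤ n → x ^ n ∈ Ideal.span {(Nat.factorial n : A)} * I) := by
  classical
  have hcancel : ∀ (n : ℕ) (a b : A), (n.factorial : A) * a = (n.factorial : A) * b → a = b := by
    intro n a b h
    rw [← nsmul_eq_mul, ← nsmul_eq_mul] at h
    exact nsmul_right_injective n.factorial_ne_zero h
  refine ⟨⟨fun γ δ => γ.ext δ fun n x hx => hcancel n _ _ (by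
    rw [γ.factorial_mul_dpow_eq_pow hx, δ.factorial_mul_dpow_eq_pow hx])⟩, fun ⟨γ⟩ =>
    ⟨I, Ideal.span_eq I, fun x hx n hn => Ideal.mem_span_singleton_mul.2
      ⟨γ.dpow n x, γ.dpow_mem (by omega) hx, γ.factorial_mul_dpow_eq_pow hx⟩⟩, ?_⟩
  rintro ⟨S, hS, hpow⟩
  -- every element of `I` has all its powers divisible in `I`
  have hall : ∀ x ∈ I, ∀ n : ℕ, 1 ≤ n → ∃ a ∈ I, (n.factorial : A) * a = x ^ n := by
    intro x hx
    rw [← hS] at hx
    induction hx using Submodule.span_induction with
    | mem y hy => intro n hn; exact Ideal.mem_span_singleton_mul.1 (hpow y hy n hn)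
    | zero => intro n hn; exact ⟨0, I.zero_mem, by simp [zero_pow (by omega : n ≠ 0)]⟩
    | smul r y _ ih =>
      intro n hn
      obtain ⟨a, ha, e⟩ := ih n hn
      exact ⟨r ^ n * a, I.mul_mem_left _ ha, by rw [smul_eq_mul, mul_pow, ← e]; ring⟩
    | add y z _ _ hy hz =>
      intro n hn
      choose! f hf hf' using hy
      choose! g hg hg' using hz
      refine ⟨∑ i ∈ Finset.range (n + 1), if i = 0 then g n else if i = n then f n else
        f i * g (n - i), Ideal.sum_mem _ fun i _ => ?_, ?_⟩
      · split_ifs with h0 h1
        · exact hg n hn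
        · exact hf n hn
        · exact I.mul_mem_right _ (hf i (by omega))
      · rw [add_pow, Finset.mul_sum]
        refine Finset.sum_congr rfl fun i hi => ?_
        rw [Finset.mem_range] at hi
        split_ifs with h0 h1
        · subst h0; simp [hg' n hn]
        · subst h1; simp [hf' i hn]
        · rw [← hf' i (by omega), ← hg' (n - i) (by omega),
            ← Nat.choose_mul_factorial_mul_factorial (show i ≤ n by omega)]
          push_cast; ring
  letI L := TensorProduct ℤ ℚ A
  let f : A →+* TensorProduct ℤ ℚ A :=
    (Algebra.TensorProduct.includeRight : A →ₐ[ℤ] TensorProduct ℤ ℚ A).toRingHom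
  haveI : Module.IsTorsionFree ℤ A := inferInstance
  have hinj : Function.Injective f :=
    Algebra.TensorProduct.includeRight_injective (R := ℤ) (A := ℚ) (B := A) Int.cast_injective
  refine ⟨DividedPowers.ofInjective I (I.map f) f hinj (DividedPowers.RatAlgebra.dividedPowers (I.map f)) rfl ?_⟩
  intro n x hx
  rw [DividedPowers.RatAlgebra.dpow_apply, if_pos (Ideal.mem_map_of_mem f hx)]
  rcases Nat.eq_zero_or_pos n with rfl | hn
  · exact ⟨1, fun h => absurd rfl h, by simp⟩
  obtain ⟨a, ha, e⟩ := hall x hx n hn
  refine ⟨a, fun _ => ha, ?_⟩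
  have hu : IsUnit ((n.factorial : ℕ) : TensorProduct ℤ ℚ A) :=
    IsUnit.natCast_factorial_of_algebra ℚ n
  rw [← map_pow, ← e, map_mul, map_natCast, Ring.inverse_mul_cancel_left _ _ hu]

end Groth.Agent.S6501
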