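import Groth.Statements.S6502
import Groth.Agent.Lib.CIPres.Localize

set_option autoImplicit false
universe u
open LCI

namespace Groth.Agent.S6502

theorem result {A : Type u} [CommRing A] [IsNoetherianRing A] :
    (∀ (p : Ideal A) [p.IsPrime], Pi1.IsCompleteIntersection (Localization.AtPrime p)) ↔
    (∀ (m : Ideal A) [m.IsMaximal], Pi1.IsCompleteIntersection (Localization.AtPrime m)) :=
  GrothLib.CIPres.isCI_atPrime_iff_atMaximal

end Groth.Agent.S6502
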