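import Groth.Statements.S6505
import Groth.Agent.Lib.Hyper19.Over
import Groth.Agent.Lib.Hyper19.Homology

set_option autoImplicit false
universe u
open CategoryTheory
open Hyper

namespace Groth.Agent.S6505

open Opposite CategoryTheory.Limits in
/-- Let C be a small site with fibre products, X an object and K a hypercovering of X. Then the chain
complex of abelian sheaves Z[F(K)]^# on C/X has zero homology sheaves in all positive degrees and
its degree-0 homology sheaf is isomorphic to the sheafification of the constant presheaf Z on C/X
(which corresponds to Z_X^# = Z[h_X]^# on C; existence of an isomorphism only). -/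
theorem result {C : Type u} [SmallCategory C] [HasPullbacks C]
    (J : GrothendieckTopology C) (X : C) (K : SimplicialObject (FormalCoproduct.{u} (Over X)))
    [∀ (n : ℕ) (F : (SimplexCategory.Truncated n)ᵒᵖ ⥤ FormalCoproduct.{u} (Over X)),
      (SimplexCategory.Truncated.inclusion n).op.HasRightKanExtension F]
    (hK : Hyper.IsHypercovering J X K) :
    (∀ i : ℕ, IsZero ((Hyper.freeChainCx (J.over X) K).homology (i + 1))) ∧
    Nonempty ((Hyper.freeChainCx (J.over X) K).homology 0 ≅
      (presheafToSheaf (J.over X) AddCommGrpCat.{u}).obj
        ((Functor.const (Over X)ᵒᵖ).obj (AddCommGrpCat.free.{u}.obj PUnit.{u + 1}))) := by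
  have hP := GrothLib.Hyper19.fillable_of_isHypercoveringSite
    (GrothLib.Hyper19.isHypercoveringSite_over J X K hK)
  exact ⟨GrothLib.Hyper19.isZero_scx_homology hP, ⟨GrothLib.Hyper19.scxHomologyZeroIso hP⟩⟩

end Groth.Agent.S6505
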