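import Groth.Statements.S6507
import Groth.Agent.Lib.Hyper25.Refine
-- import your own Groth.Agent.* helpers here

set_option autoImplicit false
universe u
open CategoryTheory
open Hyper

namespace Groth.Agent.S6507

open Opposite CategoryTheory.Limits in
/-- With presheaves taken on the localized site C/X: let C be a small site with fibre products, X an
object, K a hypercovering of X and n ≥ 0. Let u : P → F(K_n) be a morphism of presheaves of sets on
C/X, where F(K_n) is the coproduct of the presheaves represented by the members of the family K_n,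
and assume u is locally surjective. Then there exist a hypercovering L of X and a morphism f : L → K
such that F(f_n) : F(L_n) → F(K_n) factors through u. -/
theorem result {C : Type u} [SmallCategory C] [HasPullbacks C]
    (J : GrothendieckTopology C) (X : C)
    [∀ (n : ℕ) (F : (SimplexCategory.Truncated n)ᵒᵖ ⥤ Limits.FormalCoproduct.{u} (Over X)),
      (SimplexCategory.Truncated.inclusion n).op.HasRightKanExtension F]
    (K : SimplicialObject (FormalCoproduct.{u} (Over X))) (hK : Hyper.IsHypercovering J X K) (n : ℕ)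
    (P : (Over X)ᵒᵖ ⥤ Type u) (u : P ⟶ FormalCoproduct.yoneda.obj (K.obj (op (SimplexCategory.mk n))))
    (hu : Presheaf.IsLocallySurjective (J.over X) u) :
    ∃ (L : SimplicialObject (FormalCoproduct.{u} (Over X))) (f : L ⟶ K)
      (g : FormalCoproduct.yoneda.obj (L.obj (op (SimplexCategory.mk n))) ⟶ P),
      Hyper.IsHypercovering J X L ∧ g ≫ u = FormalCoproduct.yoneda.map (f.app (op (SimplexCategory.mk n))) := by
  let Z : FormalCoproduct.{u} (Over X) := ⟨Σ V : Over X, P.obj (op V), fun p => p.1⟩
  let Kn := K.obj (op (SimplexCategory.mk n))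
  let q : Z ⟶ Kn :=
    { f := fun p => (GrothLib.Hyper19.secHom Kn p.1 (u.app (op p.1) p.2)).f PUnit.unit
      φ := fun p => (GrothLib.Hyper19.secHom Kn p.1 (u.app (op p.1) p.2)).φ PUnit.unit }
  have hmk : ∀ (V : Over X) (s : (FormalCoproduct.yoneda.obj Kn).obj (op V)),
      GrothLib.Hyper19.mkSec Kn ((GrothLib.Hyper19.secHom Kn V s).f PUnit.unit)
        ((GrothLib.Hyper19.secHom Kn V s).φ PUnit.unit) = s := fun V s => by
    rw [← GrothLib.Hyper19.secHom_symm, Equiv.symm_apply_apply]
  haveI : Presheaf.IsLocallySurjective (J.over X) (FormalCoproduct.yoneda.map q) := ⟨fun {U} s => by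
    refine (J.over X).superset_covering (fun V g hg => ?_) (Presheaf.imageSieve_mem (J.over X) (U := op U) u s)
    obtain ⟨t, ht⟩ := hg
    refine ⟨GrothLib.Hyper19.mkSec Z (⟨V, t⟩ : Z.I) (𝟙 V), ?_⟩
    rw [GrothLib.Hyper19.map_mkSec]
    simp only [q, Category.id_comp]
    exact (hmk V _).trans ht⟩
  have hq : Hyper.IsSRCovering (J.over X) q := GrothLib.Hyper25.isSRCovering_of_isLocallySurjective q
  let g0 : FormalCoproduct.yoneda.obj Z ⟶ P := Sigma.desc fun p : Z.I => yonedaEquiv.symm p.2
  have hg0 : g0 ≫ u = FormalCoproduct.yoneda.map q := by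
    refine Sigma.hom_ext _ _ fun p => yonedaEquiv.injective ?_
    refine ((congrArg yonedaEquiv ((Category.assoc _ _ _).symm.trans
      (congrArg (· ≫ u) (Sigma.ι_desc (fun p : Z.I => yonedaEquiv.symm p.2) p)))).trans
      (yonedaEquiv_comp (yonedaEquiv.symm p.2) u)).trans ?_
    refine Eq.trans ?_ ((GrothLib.Hyper19.map_mkSec q p (𝟙 p.1)).symm.trans ?_)
    · rw [Equiv.apply_symm_apply, Category.id_comp]
      exact (hmk p.1 _).symm
    · exact (yonedaEquiv_comp (Sigma.ι (fun i => yoneda.obj (Z.obj i)) p) (FormalCoproduct.yoneda.map q)).symm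
  let f := pullback.fst (GrothLib.Hyper25.toPow n K) (GrothLib.Hyper25.powMap n q)
  have h : GrothLib.Hyper25.comp' n K q _ (𝟙 _) ≫ q = f.app (op (SimplexCategory.mk n)) := by
    rw [GrothLib.Hyper25.comp'_u, op_id, K.map_id, Category.comp_id]
  refine ⟨_, f, FormalCoproduct.yoneda.map (GrothLib.Hyper25.comp' n K q _ (𝟙 _)) ≫ g0,
    GrothLib.Hyper25.isHypercovering_refineObj n K q J hK hq, ?_⟩
  rw [Category.assoc, hg0, ← Functor.map_comp, h]

end Groth.Agent.S6507
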