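import Groth.Statements.S6509
import Groth.Agent.Lib.OX.MVTriangle

set_option autoImplicit false
universe u
open CategoryTheory
attribute [local instance] HasDerivedCategory.standard
open DCoh

namespace Groth.Agent.S6509

open AlgebraicGeometry CategoryTheory.Limits in
/-- For a morphism of schemes f : X → Y, RΓ(Y, Rf_* E) ≅ RΓ(X, E) naturally in E ∈ D(O_X); more
generally for V ⊆ Y open and U = f⁻¹(V), RΓ(U, E|_U) ≅ RΓ(V, (Rf_* E)|_V). Both are asserted as the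
existence of an isomorphism of functors into D(Ab), with the derived functors assumed to exist. (The
published statement is for ringed spaces; this row is for schemes.) -/
theorem result {X Y : Scheme.{u}} (f : X ⟶ Y) (V : Y.Opens)
    [DCoh.HasRpush f] [DCoh.HasRΓ X] [DCoh.HasRΓ Y]
    [DCoh.HasRΓ (V : Scheme.{u})] [DCoh.HasRΓ (f ⁻¹ᵁ V : Scheme.{u})]
    [PreservesFiniteLimits (Scheme.Modules.restrictFunctor V.ι)]
    [PreservesFiniteLimits (Scheme.Modules.restrictFunctor (f ⁻¹ᵁ V).ι)] :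
    Nonempty (DCoh.Rpush f ⋙ DCoh.RΓ Y ≅ DCoh.RΓ X) ∧
    Nonempty (DCoh.restrictD (f ⁻¹ᵁ V).ι ⋙ DCoh.RΓ (f ⁻¹ᵁ V : Scheme.{u}) ≅
      DCoh.Rpush f ⋙ DCoh.restrictD V.ι ⋙ DCoh.RΓ (V : Scheme.{u})) := by
  let eX := GrothLib.KInj.totalRightDerivedIso (DCoh.gammaKh X)
  let eY := GrothLib.KInj.totalRightDerivedIso (DCoh.gammaKh Y)
  let eV := GrothLib.KInj.totalRightDerivedIso (DCoh.gammaKh (V : Scheme.{u}))
  let eU := GrothLib.KInj.totalRightDerivedIso (DCoh.gammaKh (f ⁻¹ᵁ V : Scheme.{u}))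
  refine ⟨⟨Functor.isoWhiskerRight (GrothLib.OX.rpushIsoRres f) _ ≪≫ Functor.isoWhiskerLeft _ eY ≪≫
    GrothLib.OX.RΓRRIso f ≪≫ eX.symm⟩, ⟨?_⟩⟩
  exact Functor.isoWhiskerLeft _ (eU ≪≫ (GrothLib.OX.RΓRRIso (f ∣_ V)).symm ≪≫
      Functor.isoWhiskerLeft _ eV.symm) ≪≫
    (Functor.associator _ _ _).symm ≪≫
    Functor.isoWhiskerRight (GrothLib.OX.resDRRBaseChange f V).symm _ ≪≫ Functor.associator _ _ _ ≪≫
    Functor.isoWhiskerRight (GrothLib.OX.rpushIsoRres f).symm _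

end Groth.Agent.S6509
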