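import Groth.Statements.S6516
import Groth.Agent.Lib.DCoh.LocFree
import Mathlib.Algebra.Homology.HomotopyCategory.MappingCone

set_option autoImplicit false
universe u
open CategoryTheory
open DCoh

namespace Groth.Agent.S6516

open AlgebraicGeometry in
/-- Schemes; with the bounded finite-locally-free reading of strictly perfect used throughout this
problem's derived-category definitions: the mapping cone of a morphism between strictly perfect
complexes of O_X-modules is strictly perfect. -/
theorem result {X : Scheme.{u}} {E F : CochainComplex X.Modules ℤ} (φ : E ⟶ F)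
    (hE : DCoh.IsStrictlyPerfect E) (hF : DCoh.IsStrictlyPerfect F) :
    DCoh.IsStrictlyPerfect (CochainComplex.mappingCone φ) := by
  obtain ⟨⟨a, b, hab⟩, hE'⟩ := hE
  obtain ⟨⟨c, d, hcd⟩, hF'⟩ := hF
  have e : ∀ i : ℤ, (CochainComplex.mappingCone φ).X i ≅ Limits.biprod (E.X (i + 1)) (F.X i) :=
    fun i => HomologicalComplex.homotopyCofiber.XIsoBiprod φ i (i + 1) rfl
  refine ⟨⟨min (a - 1) c, max b d, fun i hi => ?_⟩, fun i => ?_⟩
  · exact (Limits.biprod_isZero_iff _ _).2 ⟨hab _ (by omega), hcd _ (by omega)⟩ |>.of_iso (e i)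
  · exact GrothLib.DCoh.isFinLocFree_of_iso (e i).symm (GrothLib.DCoh.isFinLocFree_biprod (hE' _) (hF' _))

end Groth.Agent.S6516
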