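import Groth.Statements.S6518
import Groth.Agent.Lib.OX.PCohQCoh
import Groth.Agent.Lib.OX.OneDegLocus
import Groth.Agent.Lib.OX.AffineLocal
import Groth.Agent.Lib.OX.TildePerfect
import Groth.Agent.Lib.QCoh.Support
import Groth.Agent.Lib.FittSheaf.PullbackFP
import Groth.Agent.Lib.LocFree8.Tilde
import Groth.Agent.S6935
import Groth.Agent.Lib.KSix19.PushPC
import Groth.Agent.Lib.DCxRing.Restrict
import Groth.Agent.Lib.DCxRing.Devissage

set_option autoImplicit false
universe u
open CategoryTheory
attribute [local instance] HasDerivedCategory.standard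
open DCoh
open AlgebraicGeometry CategoryTheory

namespace Groth.Agent.S6518

open AlgebraicGeometry in
/-- Let X be a scheme and F an O_X-module, viewed as an object of D(O_X) placed in degree 0. Then (1)
finite type of the O_X-module F is equivalent to F being 0-pseudo-coherent, and (2) F admits a
finite presentation as an O_X-module exactly when it is (−1)-pseudo-coherent. (The published
statement is for ringed spaces; this row is for schemes.) -/
theorem result {X : Scheme.{u}} (F : X.Modules) :
    (DCoh.IsPseudoCoherentD 0 (DCoh.inD X F) ↔ CohB1.IsFT F) ∧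
    (DCoh.IsPseudoCoherentD (-1) (DCoh.inD X F) ↔ CohB1.IsFP F) := by
  let e0 : DCoh.inD X F ≅ (DCoh.inD X F)⟦-(0 : ℤ)⟧ :=
    ((shiftFunctorZero' (DCoh.D X) (-(0 : ℤ)) (by simp)).app _).symm
  obtain ⟨hz, ⟨eF⟩⟩ := GrothLib.OX.HD_oneDeg (i := 0) (M := F) e0
  refine ⟨⟨fun h => ?_, fun hF => ?_⟩, ⟨fun h => ?_, fun hF => ?_⟩⟩
  · refine GrothLib.OX.isFT_of_local_epi F fun x => ?_
    obtain ⟨V, n, p, hx, hp⟩ := GrothLib.KSix19.exists_free_epi_top h (fun i hi => hz i (by omega)) x
    exact ⟨V, n, p ≫ (Scheme.Modules.restrictFunctor V.ι).map eF.hom, hx, @epi_comp _ _ _ _ _ p hp _ inferInstance⟩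
  · refine GrothLib.OX.isPseudoCoherentD_of_local fun x => ?_
    obtain ⟨W, G, hx, hG⟩ := GrothLib.QCoh.exists_generatingSections_restrict F hF x
    refine ⟨W.toScheme, W.ι, inferInstance, ⟨⟨x, hx⟩, rfl⟩, GrothLib.OX.isPseudoCoherentD_iff.2 fun y => ?_⟩
    haveI : Finite G.I := hG.finite
    obtain ⟨n, ⟨σ⟩⟩ := Finite.exists_equiv_fin G.I
    let r : FlatMod.freeMod W.toScheme n ⟶ SheafOfModules.free (R := W.toScheme.ringCatSheaf) G.I :=
      (Limits.Sigma.reindex σ (fun _ : Fin n => Coh.structureModule W.toScheme)).inv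
    let p : FlatMod.freeMod W.toScheme n ⟶ (Scheme.Modules.restrictFunctor W.ι).obj F :=
      r ≫ (SheafOfModules.freeHomEquiv _).symm G.s
    haveI : Epi p := @epi_comp _ _ _ _ _ r inferInstance _ G.epi
    let R := Scheme.Modules.restrictFunctor W.ι
    let e : (GrothLib.OX.resD W.ι).obj (DCoh.inD X F) ≅ DerivedCategory.Q.obj (GrothLib.OX.singleCx 0 (R.obj F)) :=
      (GrothLib.OX.resD W.ι).mapIso (e0 ≪≫ (GrothLib.OX.singleShiftIso 0 F).symm) ≪≫
        (GrothLib.OX.resDFac W.ι).app (GrothLib.OX.singleCx 0 F) ≪≫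
        DerivedCategory.Q.mapIso ((HomologicalComplex.singleMapHomologicalComplex R (ComplexShape.up ℤ) 0).app F)
    let φ : GrothLib.OX.singleCx 0 (FlatMod.freeMod W.toScheme n) ⟶ GrothLib.OX.singleCx 0 (R.obj F) :=
      (HomologicalComplex.single _ (ComplexShape.up ℤ) 0).map p
    have hgood : GrothLib.DerCat.Good (DerivedCategory.Q.map φ) 0 := by
      have key : ∀ i, Arrow.mk ((DerivedCategory.homologyFunctor _ i).map (DerivedCategory.Q.map φ)) ≅
          Arrow.mk (HomologicalComplex.homologyMap φ i) := fun i =>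
        Arrow.isoMk ((DerivedCategory.homologyFunctorFactors _ i).app _)
          ((DerivedCategory.homologyFunctorFactors _ i).app _)
          (DerivedCategory.homologyFunctorFactors_hom_naturality φ i).symm
      refine ⟨fun i hi => ?_, ?_⟩
      · have hzero : ∀ M : W.toScheme.Modules, Limits.IsZero ((GrothLib.OX.singleCx 0 M).homology i) := fun M =>
          (HomologicalComplex.exactAt_iff_isZero_homology _ _).1
            (HomologicalComplex.ExactAt.of_isZero (HomologicalComplex.isZero_single_obj_X _ 0 M i (by omega)))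
        refine ((MorphismProperty.isomorphisms _).arrow_mk_iso_iff (key i)).2 ?_
        exact ⟨0, (hzero _).eq_of_src _ _, (hzero _).eq_of_src _ _⟩
      · refine ((MorphismProperty.epimorphisms _).arrow_mk_iso_iff (key 0)).2 ?_
        refine ((MorphismProperty.epimorphisms _).arrow_mk_iso_iff (g := p) (Arrow.isoMk
          (HomologicalComplex.singleObjHomologySelfIso (ComplexShape.up ℤ) 0 (FlatMod.freeMod W.toScheme n))
          (HomologicalComplex.singleObjHomologySelfIso (ComplexShape.up ℤ) 0 (R.obj F))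
          (HomologicalComplex.singleObjHomologySelfIso_hom_naturality (ComplexShape.up ℤ) 0 p).symm)).2 ?_
        exact ‹Epi p›
    have hA : GrothLib.OX.Approx 0 ((GrothLib.OX.resD W.ι).obj (DCoh.inD X F)) :=
      GrothLib.OX.Approx.of_iso ⟨_, DerivedCategory.Q.map φ,
        GrothLib.OX.strictlyPerfect_single 0 (GrothLib.OX.isFinLocFree_freeMod _ n), hgood⟩ e.symm
    exact ⟨W.toScheme, 𝟙 _, inferInstance, ⟨y, rfl⟩, hA.restrict (𝟙 _)⟩
  · exact (SheafOfModules.isFinitePresentation X.ringCatSheaf).prop_of_iso eF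
      (GrothLib.OX.isFP_HD_top (m := -1) h fun i hi => hz i (by omega))
  · haveI : F.IsQuasicoherent := by haveI := hF; infer_instance
    have hQ : DCoh.IsQCohD (DCoh.inD X F) := fun i => by
      by_cases hi : i = 0
      · subst hi
        exact GrothLib.QCoh.isQuasicoherent_of_iso eF.symm
      · exact GrothLib.OX.isQCoh_of_isZero (hz i hi)
    refine GrothLib.OX.isPseudoCoherentD_of_local fun x => ?_
    obtain ⟨U, hU, hx, -⟩ := exists_isAffineOpen_mem_and_subset (x := x) (U := ⊤) trivial
    haveI := GrothLib.OX.preservesFiniteLimits_tildeGen Γ(X, U)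
    obtain ⟨M, ⟨eM⟩⟩ := GrothLib.OX.exists_tildeD_rep hQ hU.fromSpec
    refine ⟨_, hU.fromSpec, inferInstance, GrothLib.OX.mem_range_fromSpec hU hx,
      GrothLib.OX.isPseudoCoherentD_of_iso ((GrothLib.OX.isPseudoCoherentD_tildeD_iff (A := Γ(X, U)) M (-1)).2 ?_) eM⟩
    let eH : ∀ i, (tilde.functor Γ(X, U)).obj ((DerivedCategory.homologyFunctor _ i).obj M) ≅
        (Scheme.Modules.restrictFunctor hU.fromSpec).obj (DCoh.HD (DCoh.inD X F) i) := fun i =>
      (GrothLib.OX.HDTildeIso M i).symm ≪≫ (DerivedCategory.homologyFunctor _ i).mapIso eM ≪≫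
        GrothLib.OX.HDResIso hU.fromSpec _ i
    have hsub : ∀ i, i ≠ 0 → Subsingleton ((DerivedCategory.homologyFunctor (ModuleCat.{u} Γ(X, U)) i).obj M) := fun i hi =>
      ModuleCat.subsingleton_of_isZero (by
        rw [Limits.IsZero.iff_id_eq_zero]
        refine (tilde.functor Γ(X, U)).map_injective ?_
        exact ((((Scheme.Modules.restrictFunctor hU.fromSpec).map_isZero (hz i hi)).of_iso (eH i))).eq_of_src _ _)
    have hfp : Module.FinitePresentation Γ(X, U) ((DerivedCategory.homologyFunctor (ModuleCat.{u} Γ(X, U)) 0).obj M) :=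
      GrothLib.LocFree8.finitePresentation_of_isFP _
        ((SheafOfModules.isFinitePresentation (Spec Γ(X, U)).ringCatSheaf).prop_of_iso
          ((eH 0 ≪≫ (Scheme.Modules.restrictFunctor hU.fromSpec).mapIso eF ≪≫
            (Scheme.Modules.restrictFunctorIsoPullback hU.fromSpec).app F).symm)
          (GrothLib.FittSheaf.isFP_pullback hU.fromSpec F hF))
    refine GrothLib.DR.isPseudoCoherent_of_homologyModules (b := 0) (fun i hi => hsub i (by omega)) fun i hi hi' => ?_
    obtain rfl | rfl : i = 0 ∨ i = -1 := by omega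
    · simpa using (Groth.Agent.S6935.result Γ(X, U) _).2.2 hfp
    · haveI : Subsingleton (Dual.HD Γ(X, U) M (-1)) := hsub (-1) (by omega)
      exact GrothLib.DR.isPseudoCoherent_of_prime (GrothLib.DR.isPseudoCoherentModule'_of_subsingleton _) _

end Groth.Agent.S6518
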