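import Groth.Statements.S6524
import Mathlib.Order.Zorn
import Mathlib.CategoryTheory.Sites.LeftExact
import Mathlib.Algebra.Category.Grp.EpiMono

set_option autoImplicit false
universe u
open CategoryTheory
open CohSite

namespace Groth.Agent.S6524

open Opposite CategoryTheory.Limits

variable {C : Type u} [SmallCategory C] {J : GrothendieckTopology C}
  (M I : Sheaf J AddCommGrpCat.{u})

/-- Graphs of partially defined morphisms of abelian presheaves. -/
structure Graph where
  /-- The graph over each object. -/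
  carrier : ∀ V : Cᵒᵖ, AddSubgroup (M.obj.obj V × I.obj.obj V)
  res : ∀ {V W : Cᵒᵖ} (g : V ⟶ W) {p}, p ∈ carrier V →
    ((M.obj.map g).hom p.1, (I.obj.map g).hom p.2) ∈ carrier W
  fn : ∀ {V : Cᵒᵖ} {y}, ((0 : M.obj.obj V), y) ∈ carrier V → y = 0

variable {M I}

lemma Graph.unique (Γ : Graph M I) {V : Cᵒᵖ} {x y y'} (h : (x, y) ∈ Γ.carrier V)
    (h' : (x, y') ∈ Γ.carrier V) : y = y' := by
  have := (Γ.carrier V).sub_mem h h'
  rw [Prod.mk_sub_mk, sub_self] at this
  exact sub_eq_zero.1 (Γ.fn this)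

/-- The free abelian presheaf on a representable. -/
noncomputable abbrev freeP (X : C) : Cᵒᵖ ⥤ AddCommGrpCat.{u} :=
  yoneda.obj X ⋙ AddCommGrpCat.free.{u}

/-- Formal combinations of restrictions of a section. -/
noncomputable def combo (P : Cᵒᵖ ⥤ AddCommGrpCat.{u}) {X : C} (s : P.obj (op X)) (V : Cᵒᵖ) :
    (freeP X).obj V →+ P.obj V :=
  FreeAbelianGroup.lift fun g : V.unop ⟶ X => (P.map g.op).hom s

lemma combo_of (P : Cᵒᵖ ⥤ AddCommGrpCat.{u}) {X : C} (s : P.obj (op X)) {V : Cᵒᵖ} (g : V.unop ⟶ X) :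
    combo P s V (FreeAbelianGroup.of g) = (P.map g.op).hom s :=
  FreeAbelianGroup.lift_apply_of _ g

lemma combo_map (P : Cᵒᵖ ⥤ AddCommGrpCat.{u}) {X : C} (s : P.obj (op X)) {V W : Cᵒᵖ} (h : V ⟶ W)
    (a : (freeP X).obj V) :
    combo P s W (((freeP X).map h).hom a) = (P.map h).hom (combo P s V a) := by
  have e : (combo P s W).comp ((freeP X).map h).hom = (P.map h).hom.comp (combo P s V) := by
    refine FreeAbelianGroup.lift_ext _ _ fun g => ?_
    change combo P s W (FreeAbelianGroup.map _ (FreeAbelianGroup.of g)) =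
      (P.map h).hom (combo P s V (FreeAbelianGroup.of g))
    rw [FreeAbelianGroup.map_of_apply, combo_of, combo_of]
    change (P.map (h.unop ≫ g).op).hom s = _
    rw [op_comp, P.map_comp]
    rfl
  exact DFunLike.congr_fun e a

variable (hI : ∀ (X : C) (S : Sheaf J AddCommGrpCat.{u}) (i : S ⟶ CohCx.freeSheaf J X) [Mono i]
  (φ : S ⟶ I), ∃ ψ : CohCx.freeSheaf J X ⟶ I, i ≫ ψ = φ)

include hI in
/-- A partial morphism extends over one more section. -/
theorem exists_extension (Γ : Graph M I) {X : C} (s : M.obj.obj (op X)) :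
    ∃ Γ' : Graph M I, (∀ V, Γ.carrier V ≤ Γ'.carrier V) ∧ ∃ t, (s, t) ∈ Γ'.carrier (op X) := by
  let D : ∀ V : Cᵒᵖ, AddSubgroup ((freeP X).obj V) := fun V =>
    { carrier := {a | ∃ y, (combo M.obj s V a, y) ∈ Γ.carrier V}
      zero_mem' := ⟨0, by rw [map_zero]; exact (Γ.carrier V).zero_mem⟩
      add_mem' := fun {a b} ⟨y, hy⟩ ⟨z, hz⟩ => ⟨y + z, by
        rw [map_add]; exact (Γ.carrier V).add_mem hy hz⟩
      neg_mem' := fun {a} ⟨y, hy⟩ => ⟨-y, by rw [map_neg]; exact (Γ.carrier V).neg_mem hy⟩ }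
  have hD : ∀ {V W : Cᵒᵖ} (g : V ⟶ W) (a : D V), ((freeP X).map g).hom a.1 ∈ D W := by
    rintro V W g ⟨a, y, hy⟩
    refine ⟨(I.obj.map g).hom y, ?_⟩
    rw [combo_map]
    exact Γ.res g hy
  let S : Cᵒᵖ ⥤ AddCommGrpCat.{u} :=
    { obj := fun V => AddCommGrpCat.of (D V)
      map := fun {V W} g => AddCommGrpCat.ofHom
        ((((freeP X).map g).hom.comp (D V).subtype).codRestrict (D W) fun a => hD g a)
      map_id := fun V => by
        ext a
        exact ConcreteCategory.congr_hom ((freeP X).map_id V) a.1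
      map_comp := fun g g' => by
        ext a
        exact ConcreteCategory.congr_hom ((freeP X).map_comp g g') a.1 }
  let i : S ⟶ freeP X :=
    { app := fun V => AddCommGrpCat.ofHom (D V).subtype
      naturality := fun V W g => rfl }
  let φ : S ⟶ I.obj :=
    { app := fun V => AddCommGrpCat.ofHom (AddMonoidHom.mk' (fun a : D V => a.2.choose) fun a b =>
        Γ.unique (a + b).2.choose_spec (by
          rw [AddSubgroup.coe_add, map_add]
          exact (Γ.carrier V).add_mem a.2.choose_spec b.2.choose_spec))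
      naturality := fun V W g => by
        ext a
        refine Γ.unique (hD g a).choose_spec ?_
        rw [combo_map]
        exact Γ.res g a.2.choose_spec }
  have hi : Mono i := by
    have : ∀ V, Mono (i.app V) := fun V =>
      (AddCommGrpCat.mono_iff_injective _).2 Subtype.val_injective
    exact NatTrans.mono_of_mono_app _
  have : Mono ((presheafToSheaf J AddCommGrpCat.{u}).map i) := (presheafToSheaf J AddCommGrpCat.{u}).map_mono i
  let adj := sheafificationAdjunction J AddCommGrpCat.{u}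
  obtain ⟨ψ, hψ⟩ := hI X _ ((presheafToSheaf J AddCommGrpCat.{u}).map i) ((adj.homEquiv S I).symm φ)
  let ψ₀ : freeP X ⟶ I.obj := adj.homEquiv (freeP X) I ψ
  have hψ₀ : i ≫ ψ₀ = φ :=
    (adj.homEquiv_naturality_left i ψ).symm.trans
      ((congrArg (adj.homEquiv S I) hψ).trans (Equiv.apply_symm_apply _ _))
  let t : I.obj.obj (op X) := (ψ₀.app (op X)).hom (FreeAbelianGroup.of (𝟙 X))
  have ht : ∀ (V : Cᵒᵖ) (a : (freeP X).obj V), (ψ₀.app V).hom a = combo I.obj t V a := by
    intro V a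
    have e : (ψ₀.app V).hom = combo I.obj t V := by
      refine FreeAbelianGroup.lift_ext _ _ fun g => ?_
      refine Eq.trans ?_ (combo_of I.obj t g).symm
      refine Eq.trans ?_ (ConcreteCategory.congr_hom (ψ₀.naturality g.op) (FreeAbelianGroup.of (𝟙 X)))
      change _ = (ψ₀.app V).hom (FreeAbelianGroup.map _ (FreeAbelianGroup.of (𝟙 X)))
      rw [FreeAbelianGroup.map_of_apply]
      exact congrArg (fun g => (ψ₀.app V).hom (FreeAbelianGroup.of g)) (Category.comp_id g).symm
    exact DFunLike.congr_fun e a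
  let Λ : ∀ V : Cᵒᵖ, AddSubgroup (M.obj.obj V × I.obj.obj V) := fun V =>
    Γ.carrier V ⊔ ((combo M.obj s V).prod (combo I.obj t V)).range
  refine ⟨⟨Λ, ?_, ?_⟩, fun V => le_sup_left, t, ?_⟩
  · intro V W g p hp
    obtain ⟨p₁, h₁, p₂, ⟨a, rfl⟩, rfl⟩ := AddSubgroup.mem_sup.1 hp
    refine AddSubgroup.mem_sup.2 ⟨_, Γ.res g h₁, _, ⟨((freeP X).map g).hom a, rfl⟩, ?_⟩
    simp only [AddMonoidHom.prod_apply, combo_map, Prod.fst_add, Prod.snd_add, map_add,
      Prod.mk_add_mk]
  · intro V y hy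
    obtain ⟨⟨n, z⟩, h₁, p₂, ⟨a, rfl⟩, e⟩ := AddSubgroup.mem_sup.1 hy
    simp only [AddMonoidHom.prod_apply, Prod.mk_add_mk, Prod.mk.injEq] at e
    have hn : combo M.obj s V a = -n := eq_neg_of_add_eq_zero_right e.1
    have ha : a ∈ D V := ⟨-z, by rw [hn]; exact (Γ.carrier V).neg_mem h₁⟩
    have h2 : combo I.obj t V a = -z := by
      rw [← ht]
      refine (ConcreteCategory.congr_hom (NatTrans.congr_app hψ₀ V) (⟨a, ha⟩ : D V)).trans ?_
      refine Γ.unique ha.choose_spec ?_
      rw [hn]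
      exact (Γ.carrier V).neg_mem h₁
    rw [← e.2, h2, add_neg_cancel]
  · refine AddSubgroup.mem_sup_right ⟨FreeAbelianGroup.of (𝟙 X), ?_⟩
    exact Prod.ext ((combo_of M.obj s (V := op X) (𝟙 X)).trans (ConcreteCategory.congr_hom (M.obj.map_id _) s))
      ((combo_of I.obj t (V := op X) (𝟙 X)).trans (ConcreteCategory.congr_hom (I.obj.map_id _) t))


/-- Let (C, J) be a small site and I an abelian sheaf. Suppose that for every object X of C, every
abelian subsheaf S of the free abelian sheaf Z_X^# on X (given as a monomorphism S → Z_X^#) and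
every morphism S → I, the morphism extends to Z_X^# → I. Then I is an injective abelian sheaf. -/
theorem result {C : Type u} [SmallCategory C]
    (J : GrothendieckTopology C) (I : Sheaf J AddCommGrpCat.{u})
    (h : ∀ (X : C) (S : Sheaf J AddCommGrpCat.{u}) (i : S ⟶ CohCx.freeSheaf J X) [Mono i] (φ : S ⟶ I),
      ∃ ψ : CohCx.freeSheaf J X ⟶ I, i ≫ ψ = φ) :
    Injective I := by
  refine ⟨fun {A M} φ f _ => ?_⟩
  have : Mono ((sheafToPresheaf J AddCommGrpCat.{u}).map f) := inferInstance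
  have hinj : ∀ V, Function.Injective (f.hom.app V) := fun V =>
    (AddCommGrpCat.mono_iff_injective _).1
      (inferInstanceAs (Mono (((sheafToPresheaf J AddCommGrpCat.{u}).map f).app V)))
  let base : Graph M I :=
    { carrier := fun V => ((f.hom.app V).hom.prod (φ.hom.app V).hom).range
      res := by
        rintro V W g _ ⟨a, rfl⟩
        exact ⟨(A.obj.map g).hom a, Prod.ext (ConcreteCategory.congr_hom (f.hom.naturality g) a)
          (ConcreteCategory.congr_hom (φ.hom.naturality g) a)⟩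
      fn := by
        rintro V y ⟨a, ha⟩
        have h1 : (f.hom.app V).hom a = 0 := congrArg Prod.fst ha
        have h2 : (φ.hom.app V).hom a = y := congrArg Prod.snd ha
        rw [← h2, hinj V (h1.trans (map_zero _).symm), map_zero] }
  let : Preorder (Graph M I) := Preorder.lift Graph.carrier
  obtain ⟨Γ, hle, hmax⟩ := zorn_le_nonempty_Ici₀ base (fun c _ hchain y hy => by
    have : Nonempty c := ⟨⟨y, hy⟩⟩
    have hdir : ∀ V, Directed (· ≤ ·) fun a : c => a.1.carrier V := fun V a b => by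
      rcases hchain.total a.2 b.2 with h | h
      · exact ⟨b, h V, le_rfl⟩
      · exact ⟨a, le_rfl, h V⟩
    refine ⟨⟨fun V => ⨆ a : c, a.1.carrier V, fun {V W} g {p} hp => ?_, fun {V y} hy' => ?_⟩,
      fun z hz V => le_iSup (fun a : c => a.1.carrier V) ⟨z, hz⟩⟩
    · obtain ⟨a, ha⟩ := (AddSubgroup.mem_iSup_of_directed (hdir V)).1 hp
      exact (AddSubgroup.mem_iSup_of_directed (hdir W)).2 ⟨a, a.1.res g ha⟩
    · obtain ⟨a, ha⟩ := (AddSubgroup.mem_iSup_of_directed (hdir V)).1 hy'
      exact a.1.fn ha) base le_rfl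
  have htot : ∀ (V : Cᵒᵖ) (s : M.obj.obj V), ∃ y, (s, y) ∈ Γ.carrier V := fun V s => by
    obtain ⟨Γ', h1, t, ht⟩ := exists_extension h Γ (X := V.unop) s
    exact ⟨t, hmax h1 V ht⟩
  choose g hg using htot
  let ψ : M.obj ⟶ I.obj :=
    { app := fun V => AddCommGrpCat.ofHom (AddMonoidHom.mk' (g V) fun a b =>
        Γ.unique (hg V (a + b)) ((Γ.carrier V).add_mem (hg V a) (hg V b)))
      naturality := fun V W k => by
        ext s
        exact Γ.unique (hg W _) (Γ.res k (hg V s)) }
  refine ⟨⟨ψ⟩, ?_⟩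
  ext V a
  exact Γ.unique (hg V _) (hle V ⟨a, rfl⟩)

end Groth.Agent.S6524
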