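import Groth.Statements.S6525
import Groth.Agent.Lib.Hyper19.Cech

set_option autoImplicit false
universe u
open CategoryTheory
open Hyper

namespace Groth.Agent.S6525

open Opposite CategoryTheory.Limits in
/-- For a hypercovering K of the final object of the topos (Verdier's sense) on a small site with
equalizers, fibre products and binary products and every abelian sheaf F the Čech cohomology group
Ȟ^0(K, F) is isomorphic to H^0(F), the group of global sections (the limit of F over the site).
Existence of an isomorphism only. -/
theorem result {C : Type u} [SmallCategory C]
    [HasEqualizers C] [HasPullbacks C] [HasBinaryProducts C]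
    (J : GrothendieckTopology C) (K : SimplicialObject (FormalCoproduct.{u} C))
    [∀ (n : ℕ) (F : (SimplexCategory.Truncated n)ᵒᵖ ⥤ Limits.FormalCoproduct.{u} C),
      (SimplexCategory.Truncated.inclusion n).op.HasRightKanExtension F]
    (hK : Hyper.IsHypercoveringSite J K) (F : Sheaf J AddCommGrpCat.{u}) :
    Nonempty ((Hyper.cechCxSite K F.obj).homology 0 ≅ limit F.obj) := by
  exact ⟨GrothLib.Hyper19.cechHomologyZeroIso F K
    (GrothLib.Hyper19.fillable_of_isHypercoveringSite hK)⟩

end Groth.Agent.S6525
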