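import Groth.Statements.S6528
import Groth.Agent.Lib.OX.LiftSupport

set_option autoImplicit false
universe u
open CategoryTheory
attribute [local instance] HasDerivedCategory.standard
open DCoh

namespace Groth.Agent.S6528

open AlgebraicGeometry CategoryTheory.Limits in
/-- Let j : U → X be an open subscheme and T ⊆ U a subset which is closed in X. (1) If E ∈ D(O_X) has
cohomology sheaves supported on T, then E ≅ Rj_*(E|_U). (2) If F ∈ D(O_U) has cohomology sheaves
supported on T, then j_!F ≅ Rj_*F. The published statement asserts that the canonical maps are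
isomorphisms; this row asserts only that isomorphisms exist. (The published statement is for ringed
spaces; this row is for schemes.) -/
theorem result {X : Scheme.{u}} (U : X.Opens) [DCoh.HasRpush U.ι]
    [PreservesFiniteLimits (CxOX.extZero U.ι)] (T : Set X) (hT : IsClosed T) (hTU : T ⊆ (U : Set X)) :
    (∀ E : DCoh.D X, (∀ i : ℤ, CohB1.support (DCoh.HD E i) ⊆ T) →
      Nonempty (E ≅ (DCoh.Rpush U.ι).obj ((DCoh.restrictD U.ι).obj E))) ∧
    (∀ F : DCoh.D (U : Scheme.{u}),
      (∀ i : ℤ, (fun x : (U : Scheme.{u}) => U.ι.base x) '' CohB1.support (DCoh.HD F i) ⊆ T) →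
      Nonempty ((CxOX.extZeroD U.ι).obj F ≅ (DCoh.Rpush U.ι).obj F)) := by
  let V : X.Opens := ⟨Tᶜ, hT.isOpen_compl⟩
  have hcov : ∀ x, x ∈ Set.range U.ι ∪ (V : Set X) := fun x => by
    rw [AlgebraicGeometry.Scheme.Opens.range_ι]
    by_cases hx : x ∈ T
    · exact Or.inl (hTU hx)
    · exact Or.inr hx
  refine ⟨fun E hE => ?_, fun F hF => ?_⟩
  · have := GrothLib.OX.isIso_unit_of_cover U.ι V hcov
      ((GrothLib.OX.isZero_resD_iff_support _ E).2 fun q x hx hr => by
        rw [AlgebraicGeometry.Scheme.Opens.range_ι] at hr; exact hr (hE q hx))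
    exact ⟨asIso ((GrothLib.OX.resDAdj U.ι).unit.app E) ≪≫
      (GrothLib.OX.rpushIsoRres U.ι).symm.app ((DCoh.restrictD U.ι).obj E)⟩
  · obtain ⟨e⟩ := GrothLib.OX.nonempty_extZeroD_iso_RR U.ι V hcov
      ((GrothLib.OX.isZero_resD_iff_support _ F).2 fun q x hx hr => by
        rw [AlgebraicGeometry.Scheme.Opens.range_ι] at hr
        exact hr (hF q ⟨x, hx, rfl⟩))
    exact ⟨e ≪≫ (GrothLib.OX.rpushIsoRres U.ι).symm.app F⟩

end Groth.Agent.S6528
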