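import Groth.Statements.S6532
import Groth.Agent.Lib.RelLift.Balance
import Groth.Agent.Lib.RelLift.Main
-- import your own Groth.Agent.* helpers here

set_option autoImplicit false
universe u
open LCI

namespace Groth.Agent.S6532

/-- Let R' → R be a surjection of Noetherian rings whose kernel is generated by a single element f and
has square zero; let I ⊆ R be the image of the annihilator of f. Let S = R[x_1, …, x_n]/(f_1, …,
f_m) and let ∑ r_j f_j = 0 be a relation in R[x_1, …, x_n] such that (1) every coefficient of every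
r_j lies in I, and (2) there are lifts r'_j, f'_j in R'[x_1, …, x_n] and an element g with ∑ r'_j
f'_j = f g, where g maps to a non-nilpotent element of S/IS. Under these hypotheses, the
Tor-dimension of S over R is infinite (so S fails to be a perfect R-algebra). -/
theorem result {R' R : Type u} [CommRing R'] [CommRing R]
    [IsNoetherianRing R'] [IsNoetherianRing R] (π : R' →+* R) (hπ : Function.Surjective π)
    (f : R') (hker : RingHom.ker π = Ideal.span {f}) (hf : f * f = 0)
    {n m : ℕ} (fs r : Fin m → MvPolynomial (Fin n) R) (hrel : ∑ j, r j * fs j = 0)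
    (h1 : ∀ (j : Fin m) (d : Fin n →₀ ℕ),
      MvPolynomial.coeff d (r j) ∈ ((Ideal.span {f}).annihilator).map π)
    (r' f' : Fin m → MvPolynomial (Fin n) R') (g : MvPolynomial (Fin n) R')
    (hr' : ∀ j, MvPolynomial.map π (r' j) = r j) (hf' : ∀ j, MvPolynomial.map π (f' j) = fs j)
    (hsum : ∑ j, r' j * f' j = MvPolynomial.C f * g)
    (hg : ¬ IsNilpotent (Ideal.Quotient.mk
      (Ideal.span (Set.range fs) ⊔ (((Ideal.span {f}).annihilator).map π).map MvPolynomial.C)
      (MvPolynomial.map π g))) :
    ¬ DRing.HasFiniteTorDim R (MvPolynomial (Fin n) R ⧸ Ideal.span (Set.range fs)) := by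
  classical
  intro hfin
  let P := MvPolynomial (Fin n) R
  let P' := MvPolynomial (Fin n) R'
  letI : Algebra P' P := (MvPolynomial.map π).toAlgebra
  let I : Ideal R := ((Ideal.span {f}).annihilator).map π
  let J : Ideal P := I.map MvPolynomial.C
  have hΦ : Function.Surjective (algebraMap P' P) := MvPolynomial.map_surjective π hπ
  have hk : RingHom.ker (algebraMap P' P) = Ideal.span {MvPolynomial.C f} := by
    show RingHom.ker (MvPolynomial.map π) = _
    rw [MvPolynomial.ker_map, hker, Ideal.map_span, Set.image_singleton]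
  have hJ : ∀ y : P', MvPolynomial.C f * y = 0 → algebraMap P' P y ∈ J := by
    intro y hy
    refine MvPolynomial.mem_map_C_iff.mpr fun s => ?_
    show MvPolynomial.coeff s (MvPolynomial.map π y) ∈ I
    rw [MvPolynomial.coeff_map]
    refine Ideal.mem_map_of_mem _ ((Submodule.mem_annihilator_span_singleton _ _).mpr ?_)
    have h := congrArg (MvPolynomial.coeff s) hy
    rw [MvPolynomial.coeff_C_mul, MvPolynomial.coeff_zero] at h
    rw [smul_eq_mul, mul_comm]
    exact h
  have hr : ∀ j, algebraMap P' P (r' j) ∈ J := fun j => MvPolynomial.mem_map_C_iff.mpr fun s => by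
    show MvPolynomial.coeff s (MvPolynomial.map π (r' j)) ∈ I
    rw [hr']
    exact h1 j s
  let a : Ideal P := Ideal.span (Set.range fun j => algebraMap P' P (f' j))
  have ha : a = Ideal.span (Set.range fs) := by
    show Ideal.span _ = _
    congr 2
    exact funext hf'
  let ε : (Fin 1 → P) →ₗ[P] P ⧸ Ideal.span (Set.range fs) :=
    (Submodule.mkQ _) ∘ₗ LinearMap.proj 0
  obtain ⟨rk, hrk, d, hd0, hd⟩ := GrothLib.RelLift.exists_free_resolution ε
  have hd0' : ∀ x, x (Fin.cast hrk.symm 0) ∈ a ↔ x ∈ LinearMap.range (d 0) := fun x => by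
    rw [← hd0 x, ha]
    exact (Submodule.Quotient.mk_eq_zero _).symm
  haveI : ∀ i, Module.Flat R (Fin (rk i) → P) := fun i => inferInstance
  let ε' : (Fin (rk 0) → P) →ₗ[R] P ⧸ Ideal.span (Set.range fs) :=
    ((Submodule.mkQ _) ∘ₗ LinearMap.proj (Fin.cast hrk.symm 0)).restrictScalars R
  obtain ⟨N, hN⟩ := GrothLib.RelLift.exists_bound_of_hasFiniteTorDim (R := R) hfin
    (fun i => Fin (rk i) → P) (fun i => (d i).restrictScalars R) ε'
    (fun z => by
      obtain ⟨z, rfl⟩ := Submodule.Quotient.mk_surjective _ z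
      exact ⟨fun _ => z, rfl⟩)
    (fun x => hd0 x) (fun i => hd i) I
  have hmem : ∀ k (x : Fin k → P), x ∈ GrothLib.RelLift.vecIn J k ↔ x ∈ I • (⊤ : Submodule R (Fin k → P)) := by
    intro k x
    rw [GrothLib.RelLift.mem_vecIn]
    constructor
    · intro hx
      rw [show x = ∑ i, Pi.single i (x i) by funext j; simp [Finset.sum_apply, Pi.single_apply]]
      refine sum_mem fun i _ => ?_
      have hxi : x i ∈ I • (⊤ : Submodule R P) := by
        rw [Ideal.smul_top_eq_map, Submodule.restrictScalars_mem, MvPolynomial.algebraMap_eq]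
        exact hx i
      have := Submodule.mem_map_of_mem (f := LinearMap.single R (fun _ : Fin k => P) i) hxi
      rw [Submodule.map_smul''] at this
      exact Submodule.smul_mono le_rfl le_top this
    · intro hx
      refine Submodule.smul_induction_on hx (fun c hc z _ i => ?_) fun z w hz hw i =>
        Submodule.add_mem _ (hz i) (hw i)
      rw [Pi.smul_apply, MvPolynomial.smul_eq_C_mul]
      exact J.mul_mem_right _ (Ideal.mem_map_of_mem _ hc)
  have hpure : ∀ i, N ≤ i → ∀ x, d i x ∈ GrothLib.RelLift.vecIn J (rk i) →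
      ∃ y, x - d (i + 1) y ∈ GrothLib.RelLift.vecIn J (rk (i + 1)) := by
    intro i hi x hx
    have hx' := hN i hi ⟨⟨x, rfl⟩, (hmem _ _).mp hx⟩
    rw [LinearMap.range_eq_map, ← Submodule.map_smul''] at hx'
    obtain ⟨w, hw, hwx⟩ := hx'
    obtain ⟨y, hy⟩ := (hd i (x - w)).mp (by
      rw [map_sub, sub_eq_zero]
      exact hwx.symm)
    exact ⟨y, by rw [hy, sub_sub_cancel, hmem]; exact hw⟩
  obtain ⟨k, hk'⟩ := GrothLib.RelLift.exists_pow_mem hΦ (MvPolynomial.C f) hk J hJ r' f' g hr hsum
    rk hrk d hd0' hd N hpure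
  refine hg ⟨k, ?_⟩
  rw [← map_pow, Ideal.Quotient.eq_zero_iff_mem, ← ha]
  exact hk'

end Groth.Agent.S6532
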