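import Groth.Statements.S6534
import Groth.Agent.Lib.FilRep19.Main

set_option autoImplicit false
universe w v u
open CategoryTheory
open CohDer

namespace Groth.Agent.S6534

open CategoryTheory.Limits in
/-- Let A be a Grothendieck abelian category, E ∈ D(A), and … → E^{i+1} → E^i → … → E an inverse system
in D(A) over ℤ with compatible maps to E. Then there exists a filtered complex K of A such that K
represents E and F^iK represents E^i, compatibly: there are isomorphisms in D(A) from the images of
K and of the subcomplexes F^iK to E and E^i under which the inclusions F^iK → K and F^{i+1}K → F^iK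
correspond to the given maps E^i → E and E^{i+1} → E^i. -/
theorem result {A : Type u} [Category.{v} A] [Abelian A]
    [IsGrothendieckAbelian.{v} A] [HasDerivedCategory.{w} A]
    (E : DerivedCategory A) (Es : ℤ → DerivedCategory A) (t : ∀ i : ℤ, Es (i + 1) ⟶ Es i)
    (a : ∀ i : ℤ, Es i ⟶ E) (hat : ∀ i : ℤ, t i ≫ a i = a (i + 1)) :
    ∃ (K : SpSeq.FilCx A) (e : DerivedCategory.Q.obj K.obj ≅ E)
      (ei : ∀ i : ℤ, DerivedCategory.Q.obj (K.step i) ≅ Es i),
      (∀ i : ℤ, DerivedCategory.Q.map (K.fil i).arrow ≫ e.hom = (ei i).hom ≫ a i) ∧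
      (∀ i : ℤ, DerivedCategory.Q.map (K.stepLE (le_of_lt (Int.lt_succ_self i))) ≫ (ei i).hom =
        (ei (i + 1)).hom ≫ t i) := by
  exact GrothLib.FilRep19.exists_filtered_of_system E Es t a hat

end Groth.Agent.S6534
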