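import Groth.Statements.S6538
import Groth.Agent.Lib.CurveSerre11.Scalar
import Groth.Agent.Lib.TensorGen.Basic
import Groth.Agent.Lib.Euler.TensorSupport
import Groth.Agent.Lib.FunFlat8.FreeGen
import Groth.Agent.Lib.CurveMult.HyperSep
import Groth.Agent.Lib.ASBun21.IndecInv

set_option autoImplicit false
universe u
open CategoryTheory CategoryTheory.Limits AlgebraicGeometry
attribute [local instance] HasDerivedCategory.standard
open Curves

namespace Groth.Agent.S6538

set_option maxHeartbeats 400000 in
theorem aux {k : Type u} [Field k] {X : Scheme.{u}} [X.Over (Spec (CommRingCat.of k))]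
    (W L : X.Modules) (hW : Coh.IsCoh W) (hL : PicF.IsInvertible L) (hgg : Curv2.IsGloballyGenerated L)
    (hnt : IsEmpty (L ≅ Coh.structureModule X))
    (hend : ∀ e : W ⟶ W, ∃ c : k, e = GrothLib.Euler.smulMod W (Coh.toGlobal (X ↘ (Spec (CommRingCat.of k))) c))
    (hall : ∀ x : X, Nontrivial (W.presheaf.stalk x))
    (φ : CohB1.tensorMod W L ⟶ W) : φ = 0 := by
  have key : ∀ (s : Coh.structureModule X ⟶ L), KoszTw.tensorMap (𝟙 W) s ≫ φ = 0 := by
    intro s
    let e : W ⟶ W := (SecTwist.unitorR W).inv ≫ KoszTw.tensorMap (𝟙 W) s ≫ φ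
    obtain ⟨c, hc⟩ := hend e
    by_cases hc0 : c = 0
    · subst hc0
      rw [map_zero, GrothLib.CurveSerre11.smulMod_zero] at hc
      exact (cancel_epi (SecTwist.unitorR W).inv).1 (hc.trans comp_zero.symm)
    exfalso
    let φ' := φ ≫ GrothLib.Euler.smulMod W (Coh.toGlobal (X ↘ (Spec (CommRingCat.of k))) c⁻¹)
    have hid : (SecTwist.unitorR W).inv ≫ KoszTw.tensorMap (𝟙 W) s ≫ φ' = 𝟙 W := by
      refine Eq.trans ?_ (GrothLib.CurveSerre11.smulMod_one W)
      rw [← map_one (Coh.toGlobal (X ↘ (Spec (CommRingCat.of k)))),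
        ← inv_mul_cancel₀ hc0, map_mul, ← GrothLib.CurveSerre11.smulMod_mul, ← hc]
      simp only [e, φ', Category.assoc]
    -- the stalk form of the twisted section
    have hst : ∀ (x : X) (v : W.presheaf.stalk x) (w : (Coh.structureModule X).presheaf.stalk x),
        RefHull.stalkMapₗ (KoszTw.tensorMap (𝟙 W) s) x (GrothLib.Ref1.tmulStalk W (Coh.structureModule X) x v w) =
          GrothLib.Ref1.tmulStalk W L x v (RefHull.stalkMapₗ s x w) := by
      intro x v w
      obtain ⟨Uv, hv, m, rfl⟩ := TopCat.Presheaf.exists_germ_eq W.presheaf v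
      obtain ⟨Uw, hw, n, rfl⟩ := TopCat.Presheaf.exists_germ_eq (Coh.structureModule X).presheaf w
      rw [← TopCat.Presheaf.germ_res_apply W.presheaf (homOfLE (inf_le_left : Uv ⊓ Uw ≤ Uv)) x ⟨hv, hw⟩,
        ← TopCat.Presheaf.germ_res_apply (Coh.structureModule X).presheaf (homOfLE (inf_le_right : Uv ⊓ Uw ≤ Uw)) x ⟨hv, hw⟩,
        ← GrothLib.Ref1.germ_tmul, RefHull.stalkMapₗ_germ, RefHull.stalkMapₗ_germ, ← GrothLib.Ref1.germ_tmul,
        KoszTw.tensorMap_tmul]
      rfl
    -- the section generates wherever the dualizing module lives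
    have hgen : ∀ x : X, Nontrivial (W.presheaf.stalk x) → Function.Bijective (RefHull.stalkMapₗ s x) := by
      intro x hx
      obtain ⟨g, hg⟩ := GrothLib.Ref1.exists_gen_of_isInvertible hL x
      obtain ⟨o, ho⟩ := GrothLib.Ref1.exists_gen_of_isInvertible (GrothLib.Euler.isInvertible_structure (X := X)) x
      obtain ⟨a, ha⟩ := hg.2 (RefHull.stalkMapₗ s x o)
      by_cases hau : IsUnit a
      · constructor
        · intro p q hpq
          obtain ⟨p, rfl⟩ := ho.2 p
          obtain ⟨q, rfl⟩ := ho.2 q
          simp only at hpq ha ⊢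
          rw [map_smul, map_smul, ← ha, smul_smul, smul_smul] at hpq
          rw [hau.mul_right_cancel (hg.1 hpq)]
        · intro q
          obtain ⟨q, rfl⟩ := hg.2 q
          refine ⟨(q * ↑hau.unit⁻¹) • o, ?_⟩
          simp only at ha ⊢
          rw [map_smul, ← ha, smul_smul, mul_assoc, hau.val_inv_mul, mul_one]
      exfalso
      have htop : (⊤ : Submodule (X.presheaf.stalk x) (W.presheaf.stalk x)) ≤
          IsLocalRing.maximalIdeal (X.presheaf.stalk x) • ⊤ := by
        intro v _
        have hv : RefHull.stalkMapₗ φ' x (RefHull.stalkMapₗ (KoszTw.tensorMap (𝟙 W) s) x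
            (RefHull.stalkMapₗ (SecTwist.unitorR W).inv x v)) = v := by
          obtain ⟨V, hV, m, rfl⟩ := TopCat.Presheaf.exists_germ_eq W.presheaf v
          rw [RefHull.stalkMapₗ_germ, RefHull.stalkMapₗ_germ, RefHull.stalkMapₗ_germ]
          conv_rhs => rw [show m = (𝟙 W : W ⟶ W).app V m from rfl, ← hid]
          rfl
        obtain ⟨v', hv'⟩ := (GrothLib.TensorGen.bijective_tmulStalk W (Coh.structureModule X) ho).2
          (RefHull.stalkMapₗ (SecTwist.unitorR W).inv x v)
        simp only at hv' ha
        rw [← hv', hst, ← ha, map_smul, map_smul] at hv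
        rw [← hv]
        exact Submodule.smul_mem_smul (IsLocalRing.mem_maximalIdeal a |>.2 hau) Submodule.mem_top
      haveI := GrothLib.FunFlat8.finite_stalk hW.2 x
      have hbot := Submodule.eq_bot_of_le_smul_of_le_jacobson_bot _ ⊤ Module.Finite.fg_top htop
        (IsLocalRing.jacobson_eq_maximalIdeal (⊥ : Ideal (X.presheaf.stalk x)) bot_ne_top).ge
      haveI := hx
      exact absurd hbot top_ne_bot
    haveI : IsIso s := (GrothLib.OX.isIso_iff s).2 fun x =>
      (ConcreteCategory.isIso_iff_bijective _).2 (hgen x (hall x))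
    exact hnt.false (asIso s).symm
  obtain ⟨ι, p, hp⟩ := hgg
  let T := (DCoh.tensorBi (X := X)).obj W
  haveI : PreservesColimitsOfSize.{u, u} T := GrothLib.OX.preservesColimitsOfSize_tensorBi_obj W
  haveI : T.PreservesEpimorphisms := preservesEpimorphisms_of_preservesColimitsOfShape T
  haveI : Epi (T.map p) := @Functor.map_epi _ _ _ _ T _ _ _ p hp
  refine (cancel_epi (T.map p)).1 (Eq.trans ?_ comp_zero.symm)
  refine (isColimitOfPreserves T (coproductIsCoproduct (fun _ : ι => Coh.structureModule X))).hom_ext fun ⟨i⟩ => ?_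
  refine ((Category.assoc _ _ _).symm.trans ((congrArg (· ≫ φ) ((T.map_comp _ _).symm.trans (KoszTw.tensorBi_obj_map _ _))).trans (key _))).trans comp_zero.symm


set_option backward.isDefEq.respectTransparency false
set_option maxHeartbeats 1000000


/-- Let X be proper over the field k, of dimension one, with H^0(X, O_X) = k, and let ω_X be its
dualizing module (the degree -1 cohomology sheaf of f^! O for the structure morphism f, assuming
Rf_* on D_QCoh and its right adjoint exist). If L is an invertible O_X-module generated by its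
global sections and L is not isomorphic to O_X, then ω_X ⊗ L has no first cohomology: H^1(X, ω_X ⊗
L) = 0. -/
theorem result (k : Type u) [Field k] (X : Scheme.{u}) [X.Over (Spec (CommRingCat.of k))] [IsProper (X ↘ (Spec (CommRingCat.of k)))] (hdim : topologicalKrullDim X = 1)
    (h0 : Module.finrank k (Coh.HH X (Coh.structureModule X) 0) = 1)
    [DCoh.HasRpush (X ↘ (Spec (CommRingCat.of k)))] (h : DCoh.RpushPreservesQCoh (X ↘ (Spec (CommRingCat.of k)))) [DCoh.HasShriek (X ↘ (Spec (CommRingCat.of k))) h]
    (OY : DCoh.DQCoh (Spec (CommRingCat.of k))) (hOY : Nonempty (OY.obj ≅ DCoh.inD (Spec (CommRingCat.of k)) (Coh.structureModule (Spec (CommRingCat.of k)))))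
    (L : X.Modules) (hL : PicF.IsInvertible L) (hgg : Curv2.IsGloballyGenerated L) (hnt : IsEmpty (L ≅ Coh.structureModule X)) :
    Subsingleton (Coh.HH X (CohB1.tensorMod (DCoh.dualizingMod (X ↘ (Spec (CommRingCat.of k))) h OY 1) L) 1) := by
  classical
  haveI := GrothLib.Euler.isNoetherian_of_proper (X := X) k
  obtain ⟨t, ht⟩ := GrothLib.CurveSerre11.exists_trace h OY hOY hdim.le
  let W := DCoh.dualizingMod (X ↘ (Spec (CommRingCat.of k))) h OY 1
  have hW : Coh.IsCoh W := GrothLib.CurveSerre11.isCoh_omega h OY hOY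
  have hLf : FlatMod.IsFinLocFree L := GrothLib.Euler.isFinLocFree_of_isInvertible hL
  refine GrothLib.CurveSerre11.IsTrace.subsingleton_of_hom ht (GrothLib.Euler.isCoh_tF hW hLf).1 fun φ => ?_
  haveI : ConnectedSpace X := GrothLib.CurveMult.connectedSpace_of_finrank_H0 k h0
  haveI : ∀ R : CommRingCat.{u}, PreservesFiniteLimits (tilde.functor R) := fun R => inferInstance
  have hs := GrothLib.ShriekBridge22.support_adjoint (X ↘ (Spec (CommRingCat.of k))) h
    (DCoh.shriekAdj (X ↘ (Spec (CommRingCat.of k))) h) OY hOY 1 (by exact_mod_cast hdim)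
  have hall : ∀ x : X, Nontrivial (W.presheaf.stalk x) := by
    intro x
    have hx : x ∈ ⋃ Z ∈ {Z : Set X | Z ∈ irreducibleComponents X ∧ topologicalKrullDim ↥Z = ((1 : ℕ) : WithBot ℕ∞)}, Z := by
      obtain ⟨Z, hZ, hxZ⟩ := (⟨_, irreducibleComponent_mem_irreducibleComponents x, mem_irreducibleComponent⟩ : ∃ Z ∈ irreducibleComponents X, x ∈ Z)
      refine Set.mem_iUnion₂.2 ⟨Z, ⟨hZ, ?_⟩, hxZ⟩
      refine le_antisymm ((topologicalKrullDim_subspace_le X Z).trans (by exact_mod_cast hdim.le)) ?_
      by_contra hlt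
      have hZ0 : topologicalKrullDim Z ≤ 0 := by
        revert hlt
        generalize topologicalKrullDim Z = d
        intro hlt
        induction d using WithBot.recBotCoe with
        | bot => exact bot_le
        | coe e =>
          have he : e < 1 := WithBot.coe_lt_coe.1 (not_le.1 hlt)
          exact WithBot.coe_le_coe.2 (ENat.lt_one_iff_eq_zero.1 he).le
      have hZc : IsClosed Z := isClosed_of_mem_irreducibleComponents Z hZ
      have hZf : Z.Finite := GrothLib.Euler.finite_of_dim_le_zero hZc hZ0
      have hsingle : Z = {x} := by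
        refine Set.eq_singleton_iff_unique_mem.2 ⟨hxZ, fun y hy => ?_⟩
        by_contra hyx
        rcases (isPreirreducible_iff_isClosed_union_isClosed.1 hZ.1.2) {y} (Z \ {y})
            (GrothLib.Euler.isClosed_singleton_of_dim_le_zero hZc hZ0 hy)
            (Set.biUnion_of_singleton (Z \ {y}) ▸ (hZf.subset Set.sdiff_subset).isClosed_biUnion fun z hz => GrothLib.Euler.isClosed_singleton_of_dim_le_zero hZc hZ0 hz.1)
            (fun z hz => (em (z = y)).imp id fun h => ⟨hz, h⟩) with h1 | h1
        · exact hyx (h1 hxZ).symm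
        · exact (h1 hy).2 rfl
      subst hsingle
      have hopen : IsOpen ({x} : Set X) := by
        have hfin : (irreducibleComponents X).Finite := TopologicalSpace.NoetherianSpace.finite_irreducibleComponents
        have hc : IsClosed (⋃ Z ∈ irreducibleComponents X \ {{x}}, Z) :=
          (hfin.diff).isClosed_biUnion fun Z hZ' => isClosed_of_mem_irreducibleComponents Z hZ'.1
        have heq : ({x} : Set X) = (⋃ Z ∈ irreducibleComponents X \ {{x}}, Z)ᶜ := by
          ext y
          simp only [Set.mem_compl_iff, Set.mem_iUnion, not_exists, Set.mem_singleton_iff]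
          constructor
          · rintro rfl Z' ⟨hZ', hne⟩ hyZ'
            exact hne (le_antisymm (hZ.2 hZ'.1 (Set.singleton_subset_iff.2 hyZ')) (Set.singleton_subset_iff.2 hyZ'))
          · intro hy
            obtain ⟨Z', hZ', hyZ'⟩ := (⟨_, irreducibleComponent_mem_irreducibleComponents y, mem_irreducibleComponent⟩ : ∃ Z ∈ irreducibleComponents X, y ∈ Z)
            by_contra hne
            exact hy Z' ⟨hZ', fun h => hne (by rw [Set.mem_singleton_iff.1 h] at hyZ'; exact hyZ')⟩ hyZ'
        rw [heq]
        exact hc.isOpen_compl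
      have huniv : ({x} : Set X) = Set.univ :=
        IsClopen.eq_univ ⟨hZc, hopen⟩ (Set.singleton_nonempty x)
      have : topologicalKrullDim X ≤ 0 := by
        refine le_trans (le_of_eq ?_) hZ0
        rw [huniv]
        exact (IsHomeomorph.topologicalKrullDim_eq _ (Homeomorph.Set.univ X).isHomeomorph).symm
      rw [hdim] at this
      exact absurd this (by decide)
    rw [← hs] at hx
    exact hx
  exact aux W L hW hL hgg hnt (fun e => GrothLib.CurveSerre11.exists_eq_scalar h OY hOY hdim.le h0 e) hall φ

end Groth.Agent.S6538
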