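import Groth.Statements.S6543
-- import your own Groth.Agent.* helpers here
import Groth.Agent.Lib.CurveSerre11.GorOmega
import Groth.Agent.Lib.CurveSerre11.Adjunction
import Groth.Agent.Lib.CurveMult.GenusZero
import Groth.Agent.Lib.CurveMult.DegHom

set_option autoImplicit false
set_option maxHeartbeats 1600000
set_option linter.style.haveILetI false
set_option backward.isDefEq.respectTransparency false
universe u
open CategoryTheory CategoryTheory.Limits AlgebraicGeometry
open Curves
attribute [local instance] HasDerivedCategory.standard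

namespace Groth.Agent.S6543

/-- Let X be a proper curve over the field k (proper, integral, of dimension one) with H^0(X, O_X) = k,
genus 0 and Gorenstein local rings. If X has an invertible O_X-module of odd degree, then X is
isomorphic to P^1_k over k. -/
theorem result (k : Type u) [Field k] (X : Scheme.{u}) [X.Over (Spec (CommRingCat.of k))]
    [IsIntegral X] [IsProper (X ↘ (Spec (CommRingCat.of k)))] (hdim : topologicalKrullDim X = 1)
    (h0 : Module.finrank k (Coh.HH X (Coh.structureModule X) 0) = 1) (hg : Curv2.genus k X = 0) (hgor : ∀ x : X, LocCoh.IsGorensteinLocalRing (X.presheaf.stalk x))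
    (L : X.Modules) (hL : PicF.IsInvertible L) (hodd : Odd (Curv2.deg k X L 1)) :
    ∃ e : X ≅ CohB1.ProjSpace 1 k, e.hom ≫ CohB1.ProjSpace.toSpec 1 k = X ↘ (Spec (CommRingCat.of k)) := by
  haveI := GrothLib.Euler.isNoetherian_of_proper (X := X) k
  haveI : ConnectedSpace X := inferInstance
  haveI h1 : Subsingleton (Coh.HH X (Coh.structureModule X) 1) := by
    haveI := GrothLib.Euler.finiteDimensional_HH (X := X) k
      (GrothLib.Euler.isCoh_of_isInvertible GrothLib.Euler.isInvertible_structure) 1
    exact Module.finrank_zero_iff.1 hg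
  let p := X ↘ Spec (CommRingCat.of k)
  haveI : DCoh.HasRpush p := GrothLib.KInj.hasRightDerivedFunctor _
  have hp : DCoh.RpushPreservesQCoh p := fun K hK =>
    GrothLib.KSix19.BettiExact.isQCohD_of_iso' ((GrothLib.OX.rpushIsoRres p).app K).symm (GrothLib.OX.isQCohD_Rres p K hK)
  haveI : DCoh.HasShriek p hp :=
    ((GrothLib.RightAdj22.aQAdj p).ofNatIsoLeft (GrothLib.RightAdj22.rpushQIso p hp).symm).isLeftAdjoint
  let OY : DCoh.DQCoh (Spec (CommRingCat.of k)) :=
    ⟨DCoh.inD (Spec (CommRingCat.of k)) (Coh.structureModule (Spec (CommRingCat.of k))),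
      GrothLib.OX.isQCohD_of_isPerfect (GrothLib.OX.isPerfect_unit (Spec (CommRingCat.of k)))⟩
  have hω := GrothLib.CurveSerre11.isInvertible_omega_of_gorenstein hp OY ⟨Iso.refl _⟩ hgor
    (GrothLib.CurveSerre11.equidim_of_connected (k := k) hdim)
  have hχ := GrothLib.CurveSerre11.euler_omega_eq_neg hp OY ⟨Iso.refl _⟩ hdim.le hω
  have hO : Curv2.euler k X (Coh.structureModule X) = 1 := by
    rw [GrothLib.Euler.euler_structure k hdim.le, h0, hg]; norm_num
  let S : AddSubgroup ℤ :=
    { carrier := {d | ∃ M : X.Modules, PicF.IsInvertible M ∧ Curv2.deg k X M 1 = d}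
      zero_mem' := ⟨_, GrothLib.Euler.isInvertible_structure, GrothLib.Euler.deg_structure k⟩
      add_mem' := by
        rintro a b ⟨M, hM, rfl⟩ ⟨N, hN, rfl⟩
        exact ⟨_, GrothLib.Ample.isInvertible_tensorMod hM hN, GrothLib.CurveMult.deg_tensorMod k hdim.le hM hN⟩
      neg_mem' := by
        rintro a ⟨M, hM, rfl⟩
        exact GrothLib.CurveMult.exists_deg_neg k hdim.le hM }
  have h2 : (-2 : ℤ) ∈ S := ⟨_, hω, by rw [Curv2.deg, hχ, hO]; norm_num⟩
  obtain ⟨m, hm⟩ := hodd
  have hone : (1 : ℤ) ∈ S := by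
    have h3 : Curv2.deg k X L 1 + m • (-2 : ℤ) ∈ S := S.add_mem ⟨L, hL, rfl⟩ (S.zsmul_mem h2 m)
    rwa [show Curv2.deg k X L 1 + m • (-2 : ℤ) = 1 by rw [hm, smul_eq_mul]; ring] at h3
  obtain ⟨M, hM, hdeg⟩ := hone
  exact GrothLib.CurveMult.exists_iso_P1 k hdim h1 hM hdeg

end Groth.Agent.S6543
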