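import Groth.Statements.S6544
import Groth.Agent.Lib.CurveMult.GenusZero
import Groth.Agent.Lib.CurveMult.HyperAff
import Groth.Agent.Lib.CurveRR.Main
import Groth.Agent.Lib.CurveRR.Stable

set_option autoImplicit false
universe u
open CategoryTheory CategoryTheory.Limits AlgebraicGeometry
open Curves

namespace Groth.Agent.S6544

/-- Let X be a proper curve over the field k (proper, integral, of dimension one) which is smooth and
geometrically irreducible over k, of genus 0. If X has an invertible O_X-module of odd degree, then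
X is isomorphic to P^1_k over k. -/
theorem result (k : Type u) [Field k] (X : Scheme.{u}) [X.Over (Spec (CommRingCat.of k))]
    [IsIntegral X] [IsProper (X ↘ (Spec (CommRingCat.of k)))] (hdim : topologicalKrullDim X = 1)
    [Smooth (X ↘ (Spec (CommRingCat.of k)))] [GeometricallyIrreducible (X ↘ (Spec (CommRingCat.of k)))] (hg : Curv2.genus k X = 0)
    (L : X.Modules) (hL : PicF.IsInvertible L) (hodd : Odd (Curv2.deg k X L 1)) :
    ∃ e : X ≅ CohB1.ProjSpace 1 k, e.hom ≫ CohB1.ProjSpace.toSpec 1 k = X ↘ (Spec (CommRingCat.of k)) := by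
  haveI : GeometricallyConnected (X ↘ Spec (CommRingCat.of k)) :=
    ⟨fun K _ y Z fst snd h => by
      haveI : IrreducibleSpace Z :=
        GeometricallyIrreducible.geometrically_irreducibleSpace (f := X ↘ Spec (CommRingCat.of k)) y fst snd h
      show ConnectedSpace Z
      infer_instance⟩
  have h0 := GrothLib.CurveMult.finrank_H0_eq_one_of_geometricallyConnected k (C := X)
  haveI := GrothLib.CurveRR.regCurve_of_smooth (X ↘ Spec (CommRingCat.of k)) hdim
  haveI := GrothLib.Euler.finiteDimensional_HH (X := X) k
    (GrothLib.Euler.isCoh_of_isInvertible GrothLib.Euler.isInvertible_structure) 1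
  haveI h1 : Subsingleton (Coh.HH X (Coh.structureModule X) 1) := Module.finrank_zero_iff.1 hg
  have hK := GrothLib.CurveRR.isFunctionField k h0
  obtain ⟨C, hC⟩ := GrothLib.FunFld.exists_isCanonical hK
  have hCd := GrothLib.CurveRR.deg_canonical k hK hC
  rw [← GrothLib.CurveRR.genus_eq k h0, hg] at hCd
  obtain ⟨D, -, hD, -⟩ := GrothLib.CurveRR.exists_divisor k h0 hC hL
  obtain ⟨m, hm⟩ := hodd
  have hmC : (m • C).deg = m * C.deg := by
    rw [GrothLib.FunFld.deg_eq_degHom, GrothLib.FunFld.deg_eq_degHom,
      Finsupp.sum_smul_index (by simp), Finsupp.mul_sum]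
    exact Finsupp.sum_congr fun P _ => by ring
  refine GrothLib.CurveMult.exists_iso_P1 k hdim h1 (L := GrothLib.CurveRR.oD k (D + m • C))
    (GrothLib.CurveRR.isInvertible_oD k _) ?_
  rw [GrothLib.CurveRR.deg_oD, GrothLib.FunFld.deg_add, hmC, ← hD, hm, hCd]
  push_cast
  ring

end Groth.Agent.S6544
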