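import Groth.Statements.S6551
import Groth.Agent.Lib.NodeOpen11.BaseChange
import Groth.Agent.Lib.AbsApprox.EventualDim
import Groth.Agent.Lib.NodeEt.FieldExtBC
import Groth.Agent.S2075

set_option autoImplicit false
universe u
open CategoryTheory AlgebraicGeometry
open Curves

namespace Groth.Agent.S6551

set_option backward.isDefEq.respectTransparency false


/-- Let S = lim S_i be the limit of a cofiltered system of schemes with affine transition morphisms, i₀
an index with S_{i₀} quasi-compact and quasi-separated, and f₀ : X₀ → Y₀ a morphism of quasi-compact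
quasi-separated schemes over S_{i₀} which is locally of finite presentation. Write f : X → Y for the
pullback of f₀ along S → S_{i₀}. Assuming f to be at-worst-nodal, with relative dimension 1, there
exists an index i mapping to i₀ for which the pullback f_i : X_i → Y_i of f₀ to S_i is likewise
at-worst-nodal of relative dimension 1. -/
theorem result {I : Type u} [SmallCategory I] [IsCofiltered I]
    (D : I ⥤ Scheme.{u}) (c : Limits.Cone D) (hc : Limits.IsLimit c)
    [∀ (i j : I) (f : i ⟶ j), IsAffineHom (D.map f)] (i₀ : I) [CompactSpace (D.obj i₀)]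
    [QuasiSeparatedSpace (D.obj i₀)] {X₀ Y₀ : Scheme.{u}} (f₀ : X₀ ⟶ Y₀) (g₀ : Y₀ ⟶ D.obj i₀)
    [CompactSpace X₀] [QuasiSeparatedSpace X₀] [CompactSpace Y₀] [QuasiSeparatedSpace Y₀]
    {X Y : Scheme.{u}} (f : X ⟶ Y) (g : Y ⟶ c.pt) (qY : Y ⟶ Y₀) (qX : X ⟶ X₀)
    (hY : IsPullback qY g g₀ (c.π.app i₀)) (hX : IsPullback qX f f₀ qY) [LocallyOfFinitePresentation f₀]
    (hf : Curv2.IsNodalFamily f) :
    ∃ (i : I) (φ : i ⟶ i₀) (Xi Yi : Scheme.{u}) (fi : Xi ⟶ Yi) (gi : Yi ⟶ D.obj i) (pY : Yi ⟶ Y₀)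
      (pX : Xi ⟶ X₀), IsPullback pY gi g₀ (D.map φ) ∧ IsPullback pX fi f₀ pY ∧ Curv2.IsNodalFamily fi := by
  haveI := hf.1
  obtain ⟨i₁, φ, X₁, Y₁, f₁, g₁, pY, pX, h1, h2, hfl⟩ :=
    Groth.Agent.S2075.result D c hc i₀ f₀ g₀ f g qY qX hY hX
  haveI := hfl
  haveI : LocallyOfFinitePresentation f₁ := MorphismProperty.of_isPullback h2 inferInstance
  haveI : IsAffineHom pY := MorphismProperty.of_isPullback h1.flip inferInstance
  haveI : IsAffineHom pX := MorphismProperty.of_isPullback h2.flip inferInstance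
  haveI : CompactSpace Y₁ := QuasiCompact.compactSpace_of_compactSpace pY
  haveI : CompactSpace X₁ := QuasiCompact.compactSpace_of_compactSpace pX
  haveI : QuasiSeparatedSpace Y₁ := quasiSeparatedSpace_of_quasiSeparated pY
  haveI : QuasiSeparatedSpace X₁ := quasiSeparatedSpace_of_quasiSeparated pX
  have hw : qY ≫ g₀ = (g ≫ c.π.app i₁) ≫ D.map φ := by rw [hY.w, Category.assoc, c.w]
  have hY₁ : IsPullback (h1.lift qY (g ≫ c.π.app i₁) hw) g g₁ (c.π.app i₁) := by
    refine IsPullback.of_right ?_ (h1.lift_snd _ _ hw) h1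
    rw [h1.lift_fst, c.w]
    exact hY
  set qY₁ := h1.lift qY (g ≫ c.π.app i₁) hw
  have hw' : qX ≫ f₀ = (f ≫ qY₁) ≫ pY := by rw [hX.w, Category.assoc, h1.lift_fst]
  have hX₁ : IsPullback (h2.lift qX (f ≫ qY₁) hw') f f₁ qY₁ := by
    refine IsPullback.of_right ?_ (h2.lift_snd _ _ hw') h2
    rw [h2.lift_fst, h1.lift_fst]
    exact hX
  set qX₁ := h2.lift qX (f ≫ qY₁) hw'
  let a' := f₁ ≫ g₁
  let G := GrothLib.LimDesc.diag D i₁ a'
  let cG := GrothLib.LimDesc.cone D i₁ a' (hX₁.paste_vert hY₁)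
  have hG : Limits.IsLimit cG := GrothLib.LimDesc.isLimitCone D i₁ a' (hX₁.paste_vert hY₁) hc
  let N := GrothLib.LimDesc.mapNat D i₁ g₁ a' f₁ rfl
  haveI : ∀ j, LocallyOfFinitePresentation (N.app j) := fun j => MorphismProperty.of_isPullback
    (P := @LocallyOfFinitePresentation) (GrothLib.LimDesc.isPullback_mapNat D i₁ g₁ a' f₁ rfl j) inferInstance
  haveI : ∀ j, Flat (N.app j) := fun j => MorphismProperty.of_isPullback
    (P := @Flat) (GrothLib.LimDesc.isPullback_mapNat D i₁ g₁ a' f₁ rfl j) inferInstance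
  haveI : ∀ (j k : Over i₁) (φ : j ⟶ k), IsAffineHom (G.map φ) := fun j k φ =>
    GrothLib.LimDesc.isAffineHom_map D i₁ a' φ
  haveI : ∀ j, CompactSpace ↥(G.obj j) := fun j => GrothLib.LimDesc.compactSpace_obj D i₁ a' j
  obtain ⟨j, hj⟩ : ∃ j, ∀ x, x ∈ GrothLib.NodeOpen11.nodalLocus (N.app j) := by
    by_contra hcon
    push Not at hcon
    obtain ⟨x, hx⟩ := exists_mem_of_isClosed_of_nonempty G cG hG
      (fun j => (GrothLib.NodeOpen11.nodalLocus (N.app j))ᶜ)
      (fun j => (GrothLib.NodeOpen11.isOpen_nodalLocus (N.app j)).isClosed_compl)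
      (fun j => by obtain ⟨x, hx⟩ := hcon j; exact ⟨x, hx⟩)
      (fun j => (GrothLib.NodeOpen11.isOpen_nodalLocus (N.app j)).isClosed_compl.isCompact)
      (fun {j k} a y hy h => hy ((GrothLib.NodeOpen11.mem_nodalLocus_baseChange
        (GrothLib.LimDesc.isPullback_mapNat_map D i₁ g₁ a' f₁ rfl a) y).2 h))
    have h := GrothLib.LimDesc.isPullback_π D i₁ g₁ a' hY₁ f₁ rfl (hX₁.paste_vert hY₁) f hX₁.w.symm rfl
      (Over.mk (𝟙 i₁))
    haveI : LocallyOfFinitePresentation f := MorphismProperty.of_isPullback hX inferInstance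
    exact hx (Over.mk (𝟙 i₁)) ((GrothLib.NodeOpen11.mem_nodalLocus_baseChange h x).1
      ((GrothLib.NodeOpen11.isNodalFamily_iff f).1 hf x))
  exact ⟨j.left, j.hom ≫ φ, _, _, N.app j, _, _, _,
    (by rw [Functor.map_comp]; exact (IsPullback.of_hasPullback g₁ (D.map j.hom)).paste_horiz h1),
    (GrothLib.LimDesc.isPullback_mapNat D i₁ g₁ a' f₁ rfl j).paste_horiz h2,
    (GrothLib.NodeOpen11.isNodalFamily_iff (N.app j)).2 hj⟩

end Groth.Agent.S6551
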