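import Groth.Statements.S6553
import Groth.Agent.Lib.NodeEt.Family

set_option autoImplicit false
universe u
open CategoryTheory CategoryTheory.Limits AlgebraicGeometry
open Curves

namespace Groth.Agent.S6553

set_option backward.isDefEq.respectTransparency false


/-- Let k'/k be a finite separable extension of fields, X a scheme locally of finite type over k' of
dimension 1, and x ∈ X a closed point. Then x is a node of the k'-scheme X if and only if x is a
node of X viewed as a k-scheme via Spec k' → Spec k. -/
theorem result (k : Type u) [Field k] (k' : Type u) [Field k'] [Algebra k k']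
    [FiniteDimensional k k'] [Algebra.IsSeparable k k']
    (X : Scheme.{u}) [X.Over (Spec (CommRingCat.of k'))] [LocallyOfFiniteType (X ↘ (Spec (CommRingCat.of k')))] (hdim : topologicalKrullDim X = 1)
    (x : X) (hx : IsClosed ({x} : Set X)) :
    Curv2.IsNode k' X x ↔
      @Curv2.IsNode k _ X ⟨(X ↘ (Spec (CommRingCat.of k'))) ≫ Spec.map (CommRingCat.ofHom (algebraMap k k'))⟩ x := by
  haveI : LocallyOfFiniteType (Spec.map (CommRingCat.ofHom (algebraMap k k'))) :=
    (HasRingHomProperty.Spec_iff (P := @LocallyOfFiniteType)).2 (RingHom.finiteType_algebraMap.2 inferInstance)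
  exact GrothLib.NodeEt.isNode_iff_of_etale (k := k) (k' := k')
    ((X ↘ (Spec (CommRingCat.of k'))) ≫ Spec.map (CommRingCat.ofHom (algebraMap k k')))
    (X ↘ (Spec (CommRingCat.of k'))) (𝟙 X) (Category.id_comp _) x

end Groth.Agent.S6553
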