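import Groth.Statements.S6554
import Groth.Agent.S7863
import Groth.Agent.Lib.CotTangent.Scheme

set_option autoImplicit false
universe u
open CategoryTheory CategoryTheory.Limits AlgebraicGeometry
open Curves

namespace Groth.Agent.S6554

/-- (3) ⇔ (4) ⇔ (5): let k be a field and f : X → Y a morphism over k of smooth curves over k (integral,
separated, of finite type and smooth over k, of dimension one) which is nonconstant: f(ξ_X) = ξ_Y
for the generic points ξ_X of X and ξ_Y of Y (hypothesis e), so that the function field k(Y) maps
into k(X). Then: some nonempty open U ⊆ X has f|_U unramified if and only if some nonempty open U ⊆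
X has f|_U étale; and the latter holds if and only if k(X)/k(Y) is a finite separable extension.
(The published statement also lists two further equivalent conditions, that df : f^*Ω_{Y/k} →
Ω_{X/k} is nonzero and that Ω_{X/Y} is supported on a proper closed subset; this row omits them. For
a constant f every condition stated here fails, so assuming f nonconstant loses nothing.) -/
theorem result (k : Type u) [Field k]
    (X Y : Scheme.{u}) [X.Over (Spec (CommRingCat.of k))] [Y.Over (Spec (CommRingCat.of k))]
    [IsIntegral X] [IsSeparated (X ↘ (Spec (CommRingCat.of k)))] [LocallyOfFiniteType (X ↘ (Spec (CommRingCat.of k)))] [QuasiCompact (X ↘ (Spec (CommRingCat.of k)))] (hdX : topologicalKrullDim X = 1) [Smooth (X ↘ (Spec (CommRingCat.of k)))]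
    [IsIntegral Y] [IsSeparated (Y ↘ (Spec (CommRingCat.of k)))] [LocallyOfFiniteType (Y ↘ (Spec (CommRingCat.of k)))] [QuasiCompact (Y ↘ (Spec (CommRingCat.of k)))] (hdY : topologicalKrullDim Y = 1) [Smooth (Y ↘ (Spec (CommRingCat.of k)))]
    (f : X ⟶ Y) (hf : f ≫ (Y ↘ (Spec (CommRingCat.of k))) = X ↘ (Spec (CommRingCat.of k))) (e : f (genericPoint X) = genericPoint Y) :
    letI := ((Y.presheaf.stalkSpecializes (specializes_of_eq e) ≫ f.stalkMap (genericPoint X)).hom).toAlgebra
    ((∃ U : X.Opens, (U : Set X).Nonempty ∧ FormallyUnramified (U.ι ≫ f)) ↔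
      (∃ U : X.Opens, (U : Set X).Nonempty ∧ Etale (U.ι ≫ f))) ∧
    ((∃ U : X.Opens, (U : Set X).Nonempty ∧ Etale (U.ι ≫ f)) ↔
      (FiniteDimensional Y.functionField X.functionField ∧ Algebra.IsSeparable Y.functionField X.functionField)) := by
  letI := ((Y.presheaf.stalkSpecializes (specializes_of_eq e) ≫ f.stalkMap (genericPoint X)).hom).toAlgebra
  obtain ⟨h1, h2⟩ := Groth.Agent.S7863.result k X Y (hdX.trans hdY.symm) f hf e
  refine ⟨h1, h2.trans ⟨fun hs => ⟨?_, hs⟩, fun h => h.2⟩⟩
  haveI : IsLocallyNoetherian Y := LocallyOfFiniteType.isLocallyNoetherian (Y ↘ Spec (CommRingCat.of k))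
  haveI := GrothLib.CotTangent.locallyOfFiniteType_of_over (X ↘ Spec (CommRingCat.of k))
    (Y ↘ Spec (CommRingCat.of k)) f hf
  let σ := Y.presheaf.stalkSpecializes (specializes_of_eq e)
  have hsurj : Function.Surjective σ.hom := by
    haveI : IsIso σ := by
      refine ⟨Y.presheaf.stalkSpecializes (specializes_of_eq e.symm), ?_, ?_⟩ <;>
        simp [σ, TopCat.Presheaf.stalkSpecializes_comp, TopCat.Presheaf.stalkSpecializes_refl]
    exact (ConcreteCategory.bijective_of_isIso σ).2
  haveI hess : Algebra.EssFiniteType Y.functionField X.functionField :=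
    RingHom.EssFiniteType.comp (RingHom.FiniteType.of_surjective σ.hom hsurj).essFiniteType
      (LocallyOfFiniteType.stalkMap f (genericPoint X))
  haveI : Algebra.FormallyUnramified Y.functionField X.functionField :=
    (Algebra.FormallyUnramified.iff_isSeparable _ _).2 hs
  exact Algebra.FormallyUnramified.finite_of_free _ _

end Groth.Agent.S6554
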