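import Groth.Statements.S6555
import Groth.Agent.Lib.UnifDiff9.Basic

set_option autoImplicit false
universe u
open CategoryTheory CategoryTheory.Limits AlgebraicGeometry
attribute [local instance] Curv2.resAlgebra Curv2.stalkAlgebra
open Curves

namespace Groth.Agent.S6555

/-- Let X be a scheme over the field k and x ∈ X a closed point near which X → Spec k is smooth of
relative dimension 1 (on some open neighbourhood of x), with κ(x)/k separable. If s is an
irreducible element of the local ring O_{X,x} (a discrete valuation ring, so s generates its maximal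
ideal), then Ω_{O_{X,x}/k}, which is the stalk of Ω_{X/k} at x, is free of rank one with basis d s:
the map a ↦ a · d s from O_{X,x} to Ω_{O_{X,x}/k} is bijective. -/
theorem result (k : Type u) [Field k] (X : Scheme.{u}) [X.Over (Spec (CommRingCat.of k))]
    (x : X) (hx : IsClosed ({x} : Set X))
    (hsm : ∃ U : X.Opens, x ∈ U ∧ SmoothOfRelativeDimension 1 (U.ι ≫ (X ↘ (Spec (CommRingCat.of k)))))
    (hsep : Algebra.IsSeparable k (X.residueField x))
    (s : X.presheaf.stalk x) (hs : Irreducible s) :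
    Function.Bijective (fun a : X.presheaf.stalk x => a • KaehlerDifferential.D k (X.presheaf.stalk x) s) := by
  obtain ⟨U, hxU, hU⟩ := hsm
  obtain ⟨U₀, -, V, hV, hxV, e, hstd⟩ := hU.exists_isStandardSmoothOfRelativeDimension ⟨x, hxU⟩
  obtain rfl : U₀ = ⊤ := eq_top_iff.2 fun z _ => by
    have h := e hxV
    rw [Subsingleton.elim z _]
    exact h
  let p := X ↘ (Spec (CommRingCat.of k))
  let W : X.Opens := U.ι ''ᵁ V
  have hW : IsAffineOpen W := hV.image_of_isOpenImmersion U.ι
  have hxW : x ∈ W := ⟨⟨x, hxU⟩, hxV, rfl⟩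
  have happ : (U.ι ≫ p).appLE ⊤ V e = p.appLE ⊤ W le_top := by
    rw [Scheme.Hom.comp_appLE, Scheme.Opens.ι_appLE]
    rfl
  rw [happ] at hstd
  let φ : k →+* Γ(X, W) := ((Scheme.ΓSpecIso (CommRingCat.of k)).inv ≫ p.appLE ⊤ W le_top).hom
  have hφ : φ.IsStandardSmoothOfRelativeDimension 1 :=
    RingHom.isStandardSmoothOfRelativeDimension_respectsIso.2 _
      (Scheme.ΓSpecIso (CommRingCat.of k)).commRingCatIsoToRingEquiv.symm hstd
  let := φ.toAlgebra
  have : Algebra.IsStandardSmoothOfRelativeDimension 1 k Γ(X, W) := hφ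
  let := TopCat.Presheaf.algebra_section_stalk X.presheaf (⟨x, hxW⟩ : W)
  have := hW.isLocalization_stalk ⟨x, hxW⟩
  have : IsScalarTower k Γ(X, W) (X.presheaf.stalk x) := .of_algebraMap_eq' (by
    show Curv2.stalkMap k X x = (X.presheaf.germ W x hxW).hom.comp φ
    show (((Scheme.ΓSpecIso (CommRingCat.of k)).inv ≫ p.appTop) ≫ X.presheaf.germ ⊤ x trivial).hom =
      (((Scheme.ΓSpecIso (CommRingCat.of k)).inv ≫ p.appLE ⊤ W le_top) ≫ X.presheaf.germ W x hxW).hom
    simp only [Scheme.Hom.appLE, Category.assoc, X.presheaf.germ_res]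
    rfl)
  obtain ⟨h₁, h₂, ⟨eΩ⟩⟩ := GrothLib.UnifDiff9.exists_equiv_of_isLocalization (k := k)
    (R := X.presheaf.stalk x) (hW.primeIdealOf ⟨x, hxW⟩).asIdeal.primeCompl
  have : Algebra.IsSeparable k (IsLocalRing.ResidueField (X.presheaf.stalk x)) := hsep
  exact GrothLib.UnifDiff9.bijective_smul_D eΩ hs

end Groth.Agent.S6555
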