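import Groth.Statements.S6556
import Groth.Agent.Lib.RamInsep9.Basic

set_option autoImplicit false
universe u
open CategoryTheory CategoryTheory.Limits AlgebraicGeometry
attribute [local instance] Curv2.resAlgebra
open Curves

namespace Groth.Agent.S6556

/-- Let X be a smooth curve over the field k (integral, separated, of finite type and smooth over k, of
dimension one), k̄ an algebraic closure of k, x̄ ∈ X_{k̄} a closed point and x ∈ X its image. Then
the ramification index of the extension of discrete valuation rings O_{X,x} → O_{X_{k̄}, x̄} (the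
length of O_{X_{k̄},x̄} modulo the ideal generated by the maximal ideal of O_{X,x}) equals the
inseparable degree [κ(x) : k]_i. -/
theorem result (k : Type u) [Field k] (X : Scheme.{u}) [X.Over (Spec (CommRingCat.of k))]
    [IsIntegral X] [IsSeparated (X ↘ (Spec (CommRingCat.of k)))] [LocallyOfFiniteType (X ↘ (Spec (CommRingCat.of k)))] [QuasiCompact (X ↘ (Spec (CommRingCat.of k)))] (hdX : topologicalKrullDim X = 1) [Smooth (X ↘ (Spec (CommRingCat.of k)))]
    (xb : Curv2.bc k X (AlgebraicClosure k)) (hxb : IsClosed ({xb} : Set (Curv2.bc k X (AlgebraicClosure k)))) :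
    letI := ((Curv2.bcFst k X (AlgebraicClosure k)).stalkMap xb).hom.toAlgebra
    Ideal.ramificationIdx (IsLocalRing.maximalIdeal ((Curv2.bc k X (AlgebraicClosure k)).presheaf.stalk xb))
        (X.presheaf.stalk (Curv2.bcFst k X (AlgebraicClosure k) xb)) =
      Field.finInsepDegree k (X.residueField (Curv2.bcFst k X (AlgebraicClosure k) xb)) := by
  haveI : LocallyOfFiniteType (Curv2.bcSnd k X (AlgebraicClosure k)) :=
    MorphismProperty.pullback_snd (P := @LocallyOfFiniteType) (X ↘ Spec (CommRingCat.of k))
      (Spec.map (CommRingCat.ofHom (algebraMap k (AlgebraicClosure k)))) inferInstance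
  letI := ((Curv2.bcFst k X (AlgebraicClosure k)).stalkMap xb).hom.toAlgebra
  haveI : IsLocalHom (algebraMap (X.presheaf.stalk (Curv2.bcFst k X (AlgebraicClosure k) xb))
      ((Curv2.bc k X (AlgebraicClosure k)).presheaf.stalk xb)) :=
    inferInstanceAs (IsLocalHom ((Curv2.bcFst k X (AlgebraicClosure k)).stalkMap xb).hom)
  refine (GrothLib.RamInsep9.ramificationIdx_local (A := X.presheaf.stalk (Curv2.bcFst k X (AlgebraicClosure k) xb))
    (B := (Curv2.bc k X (AlgebraicClosure k)).presheaf.stalk xb)).trans ?_
  haveI : IsIntegralHom (Spec.map (CommRingCat.ofHom (algebraMap k (AlgebraicClosure k)))) :=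
    IsIntegralHom.SpecMap_iff.mpr (fun t => Algebra.IsIntegral.isIntegral (R := k) t)
  haveI : IsIntegralHom (Curv2.bcFst k X (AlgebraicClosure k)) :=
    MorphismProperty.pullback_fst (P := @IsIntegralHom) _ _ inferInstance
  have hx : IsClosed ({Curv2.bcFst k X (AlgebraicClosure k) xb} : Set X) := by
    rw [← Set.image_singleton]
    exact (Curv2.bcFst k X (AlgebraicClosure k)).isClosedMap _ hxb
  exact GrothLib.RamInsep9.fibreLength_eq_finInsepDegree k (AlgebraicClosure k) X xb hxb hx

end Groth.Agent.S6556
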