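import Groth.Statements.S6557
import Groth.Agent.Lib.CurvePoints.Basic
import Groth.Agent.Lib.FppfSource.Scheme
import Groth.Agent.Lib.LocProp.Stalk

set_option autoImplicit false
universe u
open CategoryTheory CategoryTheory.Limits AlgebraicGeometry
open Curves

namespace Groth.Agent.S6557

/-- Let k be a field and f : X → Y a surjective morphism over k of curves over k (integral, separated,
of finite type over k, of dimension one). If X is smooth over k and every local ring of Y is an
integrally closed domain, then Y is also smooth over k. -/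
theorem result (k : Type u) [Field k]
    (X Y : Scheme.{u}) [X.Over (Spec (CommRingCat.of k))] [Y.Over (Spec (CommRingCat.of k))]
    [IsIntegral X] [IsSeparated (X ↘ (Spec (CommRingCat.of k)))] [LocallyOfFiniteType (X ↘ (Spec (CommRingCat.of k)))] [QuasiCompact (X ↘ (Spec (CommRingCat.of k)))] (hdX : topologicalKrullDim X = 1) [IsIntegral Y] [IsSeparated (Y ↘ (Spec (CommRingCat.of k)))] [LocallyOfFiniteType (Y ↘ (Spec (CommRingCat.of k)))] [QuasiCompact (Y ↘ (Spec (CommRingCat.of k)))] (hdY : topologicalKrullDim Y = 1)
    (f : X ⟶ Y) (hf : f ≫ (Y ↘ (Spec (CommRingCat.of k))) = X ↘ (Spec (CommRingCat.of k))) [Surjective f]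
    [Smooth (X ↘ (Spec (CommRingCat.of k)))] (hY : Pi1.IsNormalScheme Y) :
    Smooth (Y ↘ (Spec (CommRingCat.of k))) := by
  have : IsLocallyNoetherian Y := LocallyOfFiniteType.isLocallyNoetherian (Y ↘ (Spec (CommRingCat.of k)))
  have : IsLocallyNoetherian X := LocallyOfFiniteType.isLocallyNoetherian (X ↘ (Spec (CommRingCat.of k)))
  have : LocallyOfFiniteType f :=
    have : LocallyOfFiniteType (f ≫ (Y ↘ (Spec (CommRingCat.of k)))) := hf ▸ inferInstance
    locallyOfFiniteType_of_comp f (Y ↘ (Spec (CommRingCat.of k)))
  have : LocallyOfFinitePresentation f := GrothLib.LocProp.locallyOfFinitePresentation_of_isLocallyNoetherian f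
  have e : f (genericPoint X) = genericPoint Y := by
    have h := (genericPoint_spec X).image f.continuous
    rw [Set.image_univ, Set.range_eq_univ.2 f.surjective, closure_univ] at h
    exact h.eq (genericPoint_spec Y)
  have : Flat f := GrothLib.CurvePoints.flat_of_dominant hdY.le (fun y => (hY y).2) f e
  exact GrothLib.FppfSource.fppfSourceDescends_smooth f (Y ↘ (Spec (CommRingCat.of k))) ‹_› ‹_› ‹_› (hf ▸ inferInstance)

end Groth.Agent.S6557
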