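import Groth.Statements.S6563
import Groth.Agent.Lib.CurveModel.Completion
import Groth.Agent.Lib.CycP1.Graph

set_option autoImplicit false
universe u
open CategoryTheory CategoryTheory.Limits AlgebraicGeometry
open Curves

namespace Groth.Agent.S6563

/-- Let k be a field and f : X → Y a morphism over k of varieties over k, with X a curve (integral,
separated and of finite type over k, of dimension one) and Y proper over k (and integral). Then f
extends over a projective completion of X: there are a projective curve X̄ over k (integral, of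
dimension one, admitting a closed immersion over k into some P^n_k), an open immersion j : X → X̄
over k and a k-morphism g : X̄ → Y with g ∘ j = f. -/
theorem result (k : Type u) [Field k]
    (X Y : Scheme.{u}) [X.Over (Spec (CommRingCat.of k))] [Y.Over (Spec (CommRingCat.of k))]
    [IsIntegral X] [IsSeparated (X ↘ (Spec (CommRingCat.of k)))] [LocallyOfFiniteType (X ↘ (Spec (CommRingCat.of k)))] [QuasiCompact (X ↘ (Spec (CommRingCat.of k)))] (hdX : topologicalKrullDim X = 1)
    [IsIntegral Y] [IsProper (Y ↘ (Spec (CommRingCat.of k)))]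
    (f : X ⟶ Y) (hf : f ≫ (Y ↘ (Spec (CommRingCat.of k))) = X ↘ (Spec (CommRingCat.of k))) :
    ∃ (Xb : Scheme.{u}) (_ : Xb.Over (Spec (CommRingCat.of k))) (j : X ⟶ Xb) (g : Xb ⟶ Y),
      IsOpenImmersion j ∧ j ≫ g = f ∧ j ≫ (Xb ↘ (Spec (CommRingCat.of k))) = X ↘ (Spec (CommRingCat.of k)) ∧ g ≫ (Y ↘ (Spec (CommRingCat.of k))) = Xb ↘ (Spec (CommRingCat.of k)) ∧
      IsIntegral Xb ∧ topologicalKrullDim Xb = 1 ∧
      ∃ (n : ℕ) (i : Xb ⟶ CohB1.ProjSpace n k), IsClosedImmersion i ∧ i ≫ CohB1.ProjSpace.toSpec n k = Xb ↘ (Spec (CommRingCat.of k)) := by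
  haveI : IsNoetherian X := by
    haveI := LocallyOfFiniteType.isLocallyNoetherian (X ↘ Spec (CommRingCat.of k))
    haveI : CompactSpace X := QuasiCompact.compactSpace_of_compactSpace (X ↘ Spec (CommRingCat.of k))
    exact ⟨⟩
  obtain ⟨n, i, hi, hiq⟩ := GrothLib.CurveModel.exists_immersion_projSpace (X := X) k hdX.le
  haveI := hi
  haveI := GrothLib.Chow.isProper_toSpec n k
  let S := Spec (CommRingCat.of k)
  let P := pullback (CohB1.ProjSpace.toSpec n k) (Y ↘ S)
  let q : P ⟶ S := pullback.fst _ _ ≫ CohB1.ProjSpace.toSpec n k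
  let γ : X ⟶ P := pullback.lift i f (hiq.trans hf.symm)
  haveI : IsImmersion γ := by
    haveI : IsImmersion (γ ≫ pullback.fst _ _) := by rw [pullback.lift_fst]; infer_instance
    exact IsImmersion.of_comp γ (pullback.fst _ _)
  haveI : IsProper q := inferInstanceAs (IsProper (pullback.fst _ _ ≫ _))
  haveI : IsLocallyNoetherian P := LocallyOfFiniteType.isLocallyNoetherian q
  haveI : QuasiCompact γ := inferInstance
  haveI : IsIntegral γ.image := GrothLib.CycP1.isIntegral_image γ
  letI : γ.image.Over S := ⟨γ.imageι ≫ q⟩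
  haveI : IsProper (γ.image ↘ S) := inferInstanceAs (IsProper (γ.imageι ≫ q))
  haveI : IsNoetherian γ.image := by
    haveI := LocallyOfFiniteType.isLocallyNoetherian (γ.image ↘ S)
    haveI : CompactSpace γ.image := QuasiCompact.compactSpace_of_compactSpace (γ.image ↘ S)
    exact ⟨⟩
  let j := γ.toImage
  have hjγ : j ≫ γ.imageι = γ := Scheme.Hom.toImage_imageι γ
  haveI : IsOpenImmersion j := inferInstance
  have hdim : topologicalKrullDim γ.image = 1 := by
    obtain ⟨m, hm, hmU⟩ := GrothLib.Dim.exists_nat_dim_open (K := k) (γ.image ↘ S)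
    haveI : Nonempty j.opensRange := ⟨⟨_, (inferInstance : Nonempty X).some, rfl⟩⟩
    rw [hm, ← hmU j.opensRange inferInstance]
    exact (GrothLib.Dim.IsEmbedding.topologicalKrullDim_eq (f := (j : X → γ.image)) j.isEmbedding
      (rfl : Set.range j = (j.opensRange : Set γ.image))).symm.trans hdX
  obtain ⟨m, e, he, heq⟩ := GrothLib.CurveModel.exists_immersion_projSpace (X := γ.image) k hdim.le
  haveI := he
  haveI := GrothLib.Chow.isProper_toSpec m k
  haveI : IsProper e := by
    haveI : IsProper (e ≫ CohB1.ProjSpace.toSpec m k) := by rw [heq]; infer_instance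
    exact IsProper.of_comp e (CohB1.ProjSpace.toSpec m k)
  refine ⟨γ.image, inferInstance, j, γ.imageι ≫ pullback.snd _ _, inferInstance, ?_, ?_, ?_, inferInstance, hdim,
    m, e, IsClosedImmersion.of_isPreimmersion e e.isClosedMap.isClosed_range, heq⟩
  · rw [← Category.assoc, hjγ, pullback.lift_snd]
  · change j ≫ γ.imageι ≫ q = _
    rw [← Category.assoc, hjγ]
    simp only [γ, q, pullback.lift_fst_assoc]
    exact hiq
  · change _ = γ.imageι ≫ q
    simp only [q, Category.assoc, pullback.condition]
    rfl

end Groth.Agent.S6563
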