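import Groth.Statements.S6564


set_option autoImplicit false
universe u
open CategoryTheory CategoryTheory.Limits AlgebraicGeometry
open Curves

namespace Groth.Agent.S6564

/-- Let X be proper over the field k of dimension at most 1. If X has a g^r_d (an invertible module L of
degree d with an ordered family of r + 1 global sections linearly independent over k), then X has a
g^s_d for every 0 ≤ s ≤ r. -/
theorem result (k : Type u) [Field k] (X : Scheme.{u}) [X.Over (Spec (CommRingCat.of k))] [IsProper (X ↘ (Spec (CommRingCat.of k)))] (hdim : topologicalKrullDim X ≤ 1)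
    (d r : ℕ) (L : X.Modules) (σ : Fin (r + 1) → LinSer.Sect X L) (hL : LinSer.IsLinSer k X L d r σ)
    (s : ℕ) (hs : s ≤ r) :
    ∃ (L' : X.Modules) (τ : Fin (s + 1) → LinSer.Sect X L'), LinSer.IsLinSer k X L' d s τ := by
  obtain ⟨hinv, hdeg, hli⟩ := hL
  refine ⟨L, fun i => σ (Fin.castLE (by omega) i), hinv, hdeg, fun c hc => ?_⟩
  classical
  let c' : Fin (r + 1) → k := fun i => if h : i.1 < s + 1 then c ⟨i.1, h⟩ else 0
  have hz : c' = 0 := hli c' (by
    rw [← Finset.sum_subset (Finset.subset_univ (Finset.univ.map (Fin.castLEEmb (show s + 1 ≤ r + 1 by omega))))]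
    · rw [Finset.sum_map]
      refine Eq.trans (Finset.sum_congr rfl fun i _ => ?_) hc
      simp only [c', Fin.castLEEmb_apply, Fin.val_castLE, i.2, dif_pos]
    · intro i _ hi
      have : ¬ i.1 < s + 1 := fun h => hi (Finset.mem_map.2 ⟨⟨i.1, h⟩, Finset.mem_univ _, Fin.ext rfl⟩)
      simp only [c', dif_neg this, map_zero, zero_smul])
  funext i
  have := congrFun hz (Fin.castLE (by omega) i)
  simpa only [c', Fin.val_castLE, i.2, dif_pos, Pi.zero_apply] using this

end Groth.Agent.S6564
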