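import Groth.Statements.S6566
import Groth.Agent.Lib.CurveSerre11.Scalar

set_option autoImplicit false
universe u
open CategoryTheory CategoryTheory.Limits AlgebraicGeometry
attribute [local instance] HasDerivedCategory.standard
open Curves

namespace Groth.Agent.S6566

set_option backward.isDefEq.respectTransparency false


/-- Let X be proper over the field k, of dimension one, with H^0(X, O_X) = k, and ω_X its dualizing
module (the degree -1 cohomology sheaf of f^! O for the structure morphism f, assuming Rf_* on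
D_QCoh and its right adjoint exist). For coherent O_X-modules F and Q and an exact sequence ω_X → F
→ Q → 0 in which Q has no first cohomology, F has no first cohomology unless the map ω_X → F admits
a retraction (so that F splits as ω_X ⊕ Q): that is, H^1(X, F) = 0 or ω_X → F has a left inverse. -/
theorem result (k : Type u) [Field k] (X : Scheme.{u}) [X.Over (Spec (CommRingCat.of k))] [IsProper (X ↘ (Spec (CommRingCat.of k)))] (hdim : topologicalKrullDim X = 1)
    (h0 : Module.finrank k (Coh.HH X (Coh.structureModule X) 0) = 1)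
    [DCoh.HasRpush (X ↘ (Spec (CommRingCat.of k)))] (h : DCoh.RpushPreservesQCoh (X ↘ (Spec (CommRingCat.of k)))) [DCoh.HasShriek (X ↘ (Spec (CommRingCat.of k))) h]
    (OY : DCoh.DQCoh (Spec (CommRingCat.of k))) (hOY : Nonempty (OY.obj ≅ DCoh.inD (Spec (CommRingCat.of k)) (Coh.structureModule (Spec (CommRingCat.of k)))))
    (F Q : X.Modules) (hF : Coh.IsCoh F) (hQ : Coh.IsCoh Q)
    (f : DCoh.dualizingMod (X ↘ (Spec (CommRingCat.of k))) h OY 1 ⟶ F) (g : F ⟶ Q) [Epi g] (w : f ≫ g = 0) (hex : (ShortComplex.mk f g w).Exact)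
    (hQ1 : Subsingleton (Coh.HH X Q 1)) :
    Subsingleton (Coh.HH X F 1) ∨ ∃ r : F ⟶ DCoh.dualizingMod (X ↘ (Spec (CommRingCat.of k))) h OY 1, f ≫ r = 𝟙 (DCoh.dualizingMod (X ↘ (Spec (CommRingCat.of k))) h OY 1) := by
  obtain ⟨t, ht⟩ := GrothLib.CurveSerre11.exists_trace h OY hOY hdim.le
  by_cases hall : ∀ φ : F ⟶ DCoh.dualizingMod (X ↘ (Spec (CommRingCat.of k))) h OY 1, φ = 0
  · exact Or.inl (GrothLib.CurveSerre11.IsTrace.subsingleton_of_hom ht hF.1 hall)
  · push Not at hall
    obtain ⟨φ, hφ⟩ := hall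
    obtain ⟨c, hc⟩ := GrothLib.CurveSerre11.exists_eq_scalar h OY hOY hdim.le h0 (f ≫ φ)
    by_cases hc0 : c = 0
    · exfalso
      subst hc0
      have h1 : f ≫ φ = 0 := by
        rw [hc, map_zero]
        exact GrothLib.CurveSerre11.smulMod_zero _
      haveI := hQ1
      haveI : Epi (ShortComplex.mk f g w).g := ‹Epi g›
      have h2 : g ≫ hex.desc φ h1 = φ := hex.g_desc φ h1
      rw [GrothLib.CurveSerre11.IsTrace.hom_eq_zero ht hQ.1 (hex.desc φ h1), comp_zero] at h2
      exact hφ h2.symm
    · refine Or.inr ⟨φ ≫ GrothLib.Euler.smulMod _ (Coh.toGlobal (X ↘ (Spec (CommRingCat.of k))) c⁻¹), ?_⟩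
      rw [← Category.assoc, hc, GrothLib.CurveSerre11.smulMod_mul, ← map_mul, inv_mul_cancel₀ hc0, map_one,
        GrothLib.CurveSerre11.smulMod_one]

end Groth.Agent.S6566
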