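import Groth.Statements.S6567
import Groth.Agent.S6566
import Groth.Agent.Lib.CurveSerre11.Rank
import Groth.Agent.Lib.RefHull14.Basic
import Groth.Agent.Lib.TensorPerf20.FlatKernel
import Groth.Agent.Lib.Euler.Section
import Groth.Agent.Lib.UnifVanish7.Spanned
import Groth.Agent.Lib.NegTwist.H0

set_option autoImplicit false
universe u
open CategoryTheory CategoryTheory.Limits AlgebraicGeometry
attribute [local instance] HasDerivedCategory.standard
open Curves

namespace Groth.Agent.S6567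

set_option backward.isDefEq.respectTransparency false
set_option maxHeartbeats 1000000

theorem surjective_H0 {k : Type u} [Field k] {X : Scheme.{u}} [X.Over (Spec (CommRingCat.of k))]
    {M N : X.Modules} (φ : M ⟶ N) (hφ : Function.Surjective (Scheme.Modules.Hom.app φ ⊤)) :
    Function.Surjective (GrothLib.Cohom.hhMap k φ 0) := fun y => by
  obtain ⟨b, hb⟩ := hφ (GrothLib.ProjCoh.H0top N y)
  refine ⟨(GrothLib.ProjCoh.H0top M).symm b, (GrothLib.ProjCoh.H0top N).injective ?_⟩
  refine Eq.trans ?_ hb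
  refine (GrothLib.ProjCoh.H0top_map ((GrothLib.QCoh.toAbFun X).map φ) ((GrothLib.ProjCoh.H0top M).symm b)).trans ?_
  exact congrArg (fun z => ((GrothLib.QCoh.toAbFun X).map φ).hom.app (Opposite.op ⊤) z) ((GrothLib.ProjCoh.H0top M).apply_symm_apply b)

/-- The quotient of the target by what global sections reach. -/
theorem exists_data {k : Type u} [Field k] {X : Scheme.{u}} [X.Over (Spec (CommRingCat.of k))] [IsLocallyNoetherian X]
    {F Q : X.Modules} (hF : Coh.IsCoh F) (hQ : Coh.IsCoh Q) (g : F ⟶ Q) :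
    ∃ (C : X.Modules) (π : Q ⟶ C), Epi π ∧ Coh.IsCoh C ∧
      (∀ x : Coh.HH X F 0, GrothLib.Cohom.hhMap k π 0 (GrothLib.Cohom.hhMap k g 0 x) = 0) ∧
      (IsZero C → ∃ (ι : Type u) (p : (SheafOfModules.free ι : X.Modules) ⟶ F), Epi (p ≫ g)) := by
  haveI := hF.1
  haveI := hQ.1
  let p : (SheafOfModules.free (R := X.ringCatSheaf) Γ(F, ⊤) : X.Modules) ⟶ F :=
    F.freeHomEquiv.symm fun s => GrothLib.Ample.globalSection F s
  haveI := GrothLib.RefHull14.isQuasicoherent_free (X := X) Γ(F, ⊤)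
  have hsurj : Function.Surjective (Scheme.Modules.Hom.app p ⊤) := fun s => by
    have h2 : SheafOfModules.sectionsMap p (SheafOfModules.freeSection s) = GrothLib.Ample.globalSection F s :=
      (SheafOfModules.freeHomEquiv_apply p s).symm.trans (congrFun (F.freeHomEquiv.apply_symm_apply _) s)
    exact ⟨(SheafOfModules.freeSection (R := X.ringCatSheaf) s).1 (Opposite.op ⊤),
      (congrArg (fun t => t.1 (Opposite.op ⊤)) h2).trans (GrothLib.InvExt.mres_self F s)⟩
  refine ⟨cokernel (p ≫ g), cokernel.π _, inferInstance,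
    GrothLib.TensorPerf20.isCoh_of_epi (cokernel.π (p ≫ g)) hQ (GrothLib.QCoh.isQuasicoherent_cokernel (p ≫ g)),
    fun x => ?_, fun hz => ⟨Γ(F, ⊤), p, Preadditive.epi_of_isZero_cokernel _ hz⟩⟩
  obtain ⟨y, rfl⟩ := surjective_H0 (k := k) p hsurj x
  rw [← GrothLib.Euler.hhMap_comp (A := k), ← GrothLib.Euler.hhMap_comp (A := k)]
  rw [show p ≫ g ≫ cokernel.π (p ≫ g) = 0 by rw [← Category.assoc, cokernel.condition]]
  exact LinearMap.congr_fun (GrothLib.SerrePn27.hhMap_zero 0) y

/-- The pullback of a submodule of the quotient. -/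
theorem exists_pullback {X : Scheme.{u}} [IsLocallyNoetherian X] {W F Q C : X.Modules}
    (hF : Coh.IsCoh F) (hQ : Coh.IsCoh Q) (hC : Coh.IsCoh C) (f : W ⟶ F) (g : F ⟶ Q) [Epi g] (w : f ≫ g = 0)
    (hex : (ShortComplex.mk f g w).Exact) (π : Q ⟶ C) [Epi π] :
    ∃ (F' Q' : X.Modules) (i : F' ⟶ F) (j : Q' ⟶ Q) (f' : W ⟶ F') (g' : F' ⟶ Q') (w' : f' ≫ g' = 0) (wi : i ≫ g ≫ π = 0)
      (wj : j ≫ π = 0), Mono i ∧ Mono j ∧ Epi g' ∧ Coh.IsCoh F' ∧ Coh.IsCoh Q' ∧ f' ≫ i = f ∧ g' ≫ j = i ≫ g ∧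
      (ShortComplex.mk f' g' w').Exact ∧ (ShortComplex.mk i (g ≫ π) wi).ShortExact ∧ (ShortComplex.mk j π wj).ShortExact := by
  have hf' : f ≫ g ≫ π = 0 := by rw [← Category.assoc, w, zero_comp]
  have hg' : (kernel.ι (g ≫ π) ≫ g) ≫ π = 0 := by rw [Category.assoc, kernel.condition]
  have w' : kernel.lift (g ≫ π) f hf' ≫ kernel.lift π (kernel.ι (g ≫ π) ≫ g) hg' = 0 := by
    rw [← cancel_mono (kernel.ι π), Category.assoc, kernel.lift_ι, kernel.lift_ι_assoc, w, zero_comp]
  refine ⟨kernel (g ≫ π), kernel π, kernel.ι _, kernel.ι _, kernel.lift _ f hf', kernel.lift π _ hg', w',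
    kernel.condition _, kernel.condition _, inferInstance, inferInstance, ?_,
    GrothLib.QCoh.isCoh_kernel _ hF hC, GrothLib.QCoh.isCoh_kernel _ hQ hC, kernel.lift_ι _ _ _, kernel.lift_ι _ _ _, ?_,
    { exact := ShortComplex.exact_of_f_is_kernel _ (kernelIsKernel _) },
    { exact := ShortComplex.exact_of_f_is_kernel _ (kernelIsKernel _) }⟩
  · rw [epi_iff_surjective_up_to_refinements]
    intro A a
    obtain ⟨A', e, he, b, hb⟩ := surjective_up_to_refinements_of_epi g (a ≫ kernel.ι π)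
    refine ⟨A', e, he, kernel.lift (g ≫ π) b ?_, ?_⟩
    · rw [← Category.assoc, ← hb, Category.assoc, Category.assoc, kernel.condition, comp_zero, comp_zero]
    · rw [← cancel_mono (kernel.ι π), Category.assoc, Category.assoc, kernel.lift_ι, kernel.lift_ι_assoc]
      exact hb
  · rw [ShortComplex.exact_iff_exact_up_to_refinements]
    intro A x hx
    obtain ⟨A', e, he, z, hz⟩ := hex.exact_up_to_refinements (x ≫ kernel.ι (g ≫ π)) (by
      show (x ≫ kernel.ι (g ≫ π)) ≫ g = 0
      refine Eq.trans ?_ ((congrArg (· ≫ kernel.ι π) hx).trans zero_comp)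
      show (x ≫ kernel.ι (g ≫ π)) ≫ g = (x ≫ kernel.lift π (kernel.ι (g ≫ π) ≫ g) hg') ≫ kernel.ι π
      rw [Category.assoc, Category.assoc, kernel.lift_ι])
    refine ⟨A', e, he, z, ?_⟩
    show e ≫ x = z ≫ kernel.lift (g ≫ π) f hf'
    rw [← cancel_mono (kernel.ι (g ≫ π)), Category.assoc, Category.assoc, kernel.lift_ι]
    exact hz

theorem isZero_of_split {C : Type*} [Category C] [Abelian C] {W F F' Q Q' : C} (f' : W ⟶ F') (g' : F' ⟶ Q') [Epi g']
    (w' : f' ≫ g' = 0) (hex : (ShortComplex.mk f' g' w').Exact) (r : F' ⟶ W) (hr : f' ≫ r = 𝟙 W)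
    (i : F' ⟶ F) [Mono i] (g : F ⟶ Q) (j : Q' ⟶ Q) [Mono j] (hij : g' ≫ j = i ≫ g)
    (hno : ∀ (K : C) (l : K ⟶ F), Mono l → Mono (l ≫ g) → IsZero K) : IsZero Q' := by
  have hm : Mono (kernel.ι r ≫ g') := Preadditive.mono_of_cancel_zero _ fun {A} a ha => by
    obtain ⟨A', e, he, z, hz⟩ := hex.exact_up_to_refinements (a ≫ kernel.ι r) ((Category.assoc _ _ _).trans ha)
    have hz0 : z = 0 := by
      have := congrArg (· ≫ r) hz
      simp only [Category.assoc, kernel.condition, comp_zero] at this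
      rw [show z ≫ (ShortComplex.mk f' g' w').f ≫ r = z by rw [show (ShortComplex.mk f' g' w').f ≫ r = 𝟙 W from hr, Category.comp_id]] at this
      exact this.symm
    rw [← cancel_mono (kernel.ι r), zero_comp, ← cancel_epi e, comp_zero, hz, hz0, zero_comp]
  have hz : IsZero (kernel r) := hno _ (kernel.ι r ≫ i) inferInstance (by
    rw [Category.assoc, ← hij, ← Category.assoc]
    infer_instance)
  haveI : Mono r := Preadditive.mono_of_isZero_kernel r hz
  have h1 : r ≫ f' = 𝟙 F' := by rw [← cancel_mono r, Category.assoc, hr, Category.comp_id, Category.id_comp]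
  refine (IsZero.iff_id_eq_zero Q').2 ((cancel_epi g').1 ?_)
  rw [comp_zero, Category.comp_id, ← Category.id_comp g', ← h1, Category.assoc, w', comp_zero]

theorem finrank_H1_image_le {k : Type u} [Field k] {X : Scheme.{u}} [X.Over (Spec (CommRingCat.of k))] [IsProper (X ↘ (Spec (CommRingCat.of k)))]
    [DCoh.HasRpush (X ↘ (Spec (CommRingCat.of k)))] (h : DCoh.RpushPreservesQCoh (X ↘ (Spec (CommRingCat.of k)))) [DCoh.HasShriek (X ↘ (Spec (CommRingCat.of k))) h]
    (OY : DCoh.DQCoh (Spec (CommRingCat.of k))) (hOY : Nonempty (OY.obj ≅ DCoh.inD (Spec (CommRingCat.of k)) (Coh.structureModule (Spec (CommRingCat.of k)))))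
    (hdim : topologicalKrullDim X ≤ 1) {K : X.Modules} (hK : Coh.IsCoh K)
    (e : DCoh.dualizingMod (X ↘ (Spec (CommRingCat.of k))) h OY 1 ⟶ K) [Epi e] :
    Module.finrank k (Coh.HH X K 1) ≤ Module.finrank k (Coh.HH X (DCoh.dualizingMod (X ↘ (Spec (CommRingCat.of k))) h OY 1) 1) := by
  obtain ⟨t, ht⟩ := GrothLib.CurveSerre11.exists_trace h OY hOY hdim
  have hω := GrothLib.CurveSerre11.isCoh_omega h OY hOY
  haveI := GrothLib.Euler.finiteDimensional_HH k hω 1
  haveI := GrothLib.Euler.finiteDimensional_HH k hK 1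
  rw [← Subspace.dual_finrank_eq (K := k) (V := Coh.HH X K 1),
    ← Subspace.dual_finrank_eq (K := k) (V := Coh.HH X (DCoh.dualizingMod (X ↘ (Spec (CommRingCat.of k))) h OY 1) 1)]
  refine LinearMap.finrank_le_finrank_of_injective (f := (GrothLib.Cohom.hhMap k e 1).dualMap)
    ((injective_iff_map_eq_zero _).2 fun ψ hψ => LinearMap.ext fun x => ?_)
  have h1 : e ≫ GrothLib.CurveSerre11.homOf ht hK.1 ψ = 0 := by
    refine (ht _ hω.1 0).unique (fun y => ?_) (fun y => (GrothLib.CurveSerre11.IsTrace.map_zero' _ y).symm)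
    have h2 := LinearMap.congr_fun hψ y
    rw [LinearMap.dualMap_apply, GrothLib.CurveSerre11.homOf_spec ht hK.1 ψ, ← GrothLib.CurveSerre11.hmap_comp] at h2
    exact h2.symm
  rw [GrothLib.CurveSerre11.homOf_spec ht hK.1 ψ x, (cancel_epi e).1 (h1.trans comp_zero.symm)]
  exact GrothLib.CurveSerre11.IsTrace.map_zero' _ x

theorem finrank_C_lt {k : Type u} [Field k] {X : Scheme.{u}} [X.Over (Spec (CommRingCat.of k))] [IsProper (X ↘ (Spec (CommRingCat.of k)))]
    {K F Q C : X.Modules} (hF : Coh.IsCoh F) (hQ : Coh.IsCoh Q) (hK : Coh.IsCoh K) {l : K ⟶ F} {g : F ⟶ Q} {π : Q ⟶ C} {w : l ≫ g = 0}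
    (hS : (ShortComplex.mk l g w).ShortExact) (e7 : Module.finrank k (Coh.HH X K 1) ≤ 1) (hQ2 : 2 ≤ Module.finrank k (Coh.HH X Q 0))
    (hπ : Function.Surjective (GrothLib.Cohom.hhMap k π 0))
    (h0 : ∀ x : Coh.HH X F 0, GrothLib.Cohom.hhMap k π 0 (GrothLib.Cohom.hhMap k g 0 x) = 0) :
    Module.finrank k (Coh.HH X C 0) < Module.finrank k (Coh.HH X Q 0) := by
  haveI := GrothLib.Euler.finiteDimensional_HH k hF 0
  haveI := GrothLib.Euler.finiteDimensional_HH k hQ 0
  haveI : Module.Finite k (Coh.HH X (ShortComplex.mk l g w).X₁ (0 + 1)) := GrothLib.Euler.finiteDimensional_HH k hK 1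
  have e1 := LinearMap.finrank_range_add_finrank_ker (GrothLib.Cohom.hhMap k π 0)
  have e2 := LinearMap.finrank_range_add_finrank_ker (GrothLib.Cohom.hhDelta k hS 0)
  have e3 := (GrothLib.Cohom.exact₃ (A := k) hS 0).linearMap_ker_eq
  have e4 : LinearMap.range (GrothLib.Cohom.hhMap k g 0) ≤ LinearMap.ker (GrothLib.Cohom.hhMap k π 0) := by
    rintro _ ⟨x, rfl⟩
    exact h0 x
  have e5 := Submodule.finrank_mono e4
  have e6 := (LinearMap.range (GrothLib.Cohom.hhDelta k hS 0)).finrank_le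
  rw [LinearMap.range_eq_top.2 hπ, finrank_top] at e1
  rw [e3] at e2
  change _ + Module.finrank k (LinearMap.range (GrothLib.Cohom.hhMap k g 0)) = Module.finrank k (Coh.HH X Q 0) at e2
  change Module.finrank k (LinearMap.range (GrothLib.Cohom.hhDelta k hS 0)) ≤ Module.finrank k (Coh.HH X K 1) at e6
  omega

theorem support_subset_of_epi {X : Scheme.{u}} {M N : X.Modules} (π : M ⟶ N) [Epi π] :
    CohB1.support N ⊆ CohB1.support M := fun x hx hs => hx (by
  haveI : Subsingleton (M.presheaf.stalk x) := hs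
  exact (GrothLib.QCoh.stalkLin_surjective π x).subsingleton)

theorem support_subset_of_mono {X : Scheme.{u}} {M N : X.Modules} (j : N ⟶ M) [Mono j] :
    CohB1.support N ⊆ CohB1.support M := fun x hx hs => hx (by
  haveI : Subsingleton (M.presheaf.stalk x) := hs
  exact (GrothLib.QCoh.stalkLin_injective j x).subsingleton)


/-- Let X be proper over the field k, of dimension one, with H^0(X, O_X) = k, and ω_X its dualizing
module (the degree -1 cohomology sheaf of f^! O for the structure morphism f, assuming Rf_* on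
D_QCoh and its right adjoint exist). Suppose ω_X → F → Q → 0 is exact, with F and Q coherent
O_X-modules, where Q has zero-dimensional support and dim_k H^0(X, Q) ≥ 2, and suppose no nonzero
submodule Q' ⊆ F maps injectively into Q. Then the global sections of F together map onto Q: for
some index type ι and some map p from the free module O_X^{(ι)} to F, the composite O_X^{(ι)} → F →
Q is an epimorphism. -/
theorem result (k : Type u) [Field k] (X : Scheme.{u}) [X.Over (Spec (CommRingCat.of k))] [IsProper (X ↘ (Spec (CommRingCat.of k)))] (hdim : topologicalKrullDim X = 1)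
    (h0 : Module.finrank k (Coh.HH X (Coh.structureModule X) 0) = 1)
    [DCoh.HasRpush (X ↘ (Spec (CommRingCat.of k)))] (h : DCoh.RpushPreservesQCoh (X ↘ (Spec (CommRingCat.of k)))) [DCoh.HasShriek (X ↘ (Spec (CommRingCat.of k))) h]
    (OY : DCoh.DQCoh (Spec (CommRingCat.of k))) (hOY : Nonempty (OY.obj ≅ DCoh.inD (Spec (CommRingCat.of k)) (Coh.structureModule (Spec (CommRingCat.of k)))))
    (F Q : X.Modules) (hF : Coh.IsCoh F) (hQ : Coh.IsCoh Q)
    (f : DCoh.dualizingMod (X ↘ (Spec (CommRingCat.of k))) h OY 1 ⟶ F) (g : F ⟶ Q) [Epi g] (w : f ≫ g = 0) (hex : (ShortComplex.mk f g w).Exact)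
    (hQ0 : topologicalKrullDim (CohB1.support Q) ≤ 0) (hQ2 : 2 ≤ Module.finrank k (Coh.HH X Q 0))
    (hno : ∀ (Q' : X.Modules) (i : Q' ⟶ F), Mono i → Mono (i ≫ g) → IsZero Q') :
    ∃ (ι : Type u) (p : (SheafOfModules.free ι : X.Modules) ⟶ F), Epi (p ≫ g) := by
  haveI := GrothLib.Euler.isNoetherian_of_proper (X := X) k
  obtain ⟨C, π, hπe, hC, h0C, hgen⟩ := exists_data (k := k) hF hQ g
  haveI := hπe
  refine hgen ?_
  have hfin := GrothLib.Euler.finite_of_dim_le_zero (GrothLib.QCoh.isClosed_support_of_isCoh hQ) hQ0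
  have hcl : ∀ x ∈ CohB1.support Q, IsClosed ({x} : Set X) := fun x hx =>
    GrothLib.Euler.isClosed_singleton_of_dim_le_zero (GrothLib.QCoh.isClosed_support_of_isCoh hQ) hQ0 hx
  obtain ⟨F', Q', i, j, f', g', w', wi, wj, hi, hj, hg', hF', hQ', hfi, hgj, hex', hSi, hSj⟩ := exists_pullback hF hQ hC f g w hex π
  haveI := hi; haveI := hj; haveI := hg'
  have hQ'1 : Subsingleton (Coh.HH X Q' 1) := GrothLib.Euler.subsingleton_HH_of_finite_support _ (hfin.subset (support_subset_of_mono j))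
    (fun x hx => hcl x (support_subset_of_mono j hx)) 1 le_rfl
  have hπ0 : Function.Surjective (GrothLib.Cohom.hhMap k π 0) := fun y =>
    (GrothLib.Cohom.exact₃ (A := k) hSj 0 y).1 (hQ'1.elim _ _)
  haveI : Subsingleton (Coh.HH X C 0) := by
    by_cases hF'1 : Subsingleton (Coh.HH X F' 1)
    · refine subsingleton_of_forall_eq 0 fun y => ?_
      obtain ⟨x, hx⟩ := (GrothLib.Cohom.exact₃ (A := k) hSi 0 y).1 (hF'1.elim _ _)
      refine hx.symm.trans ?_
      exact (GrothLib.Euler.hhMap_comp (A := k) g π 0 x).trans (h0C x)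
    exfalso
    obtain ⟨r, hr⟩ := (Groth.Agent.S6566.result k X hdim h0 h OY hOY F' Q' hF' hQ' f' g' w' hex' hQ'1).resolve_left hF'1
    have hz : IsZero Q' := isZero_of_split f' g' w' hex' r hr i g j hgj hno
    let K := kernel g
    have hK : Coh.IsCoh K := GrothLib.QCoh.isCoh_kernel g hF hQ
    haveI : Epi (kernel.lift g f w) := (ShortComplex.exact_iff_epi_kernel_lift _).1 hex
    have hSK : (ShortComplex.mk (kernel.ι g) g (kernel.condition g)).ShortExact :=
      { exact := ShortComplex.exact_of_f_is_kernel _ (kernelIsKernel _) }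
    have hlt := finrank_C_lt hF hQ hK hSK
      ((finrank_H1_image_le h OY hOY hdim.le hK (kernel.lift g f w)).trans
        (GrothLib.CurveSerre11.finrank_HH_one_omega_le h OY hOY hdim.le h0)) hQ2 hπ0 h0C
    haveI := GrothLib.Euler.finiteDimensional_HH k hQ 0
    haveI := GrothLib.Euler.finiteDimensional_HH k hC 0
    have hinj : Function.Injective (GrothLib.Cohom.hhMap k π 0) := by
      refine (injective_iff_map_eq_zero _).2 fun y hy => ?_
      obtain ⟨x, rfl⟩ := (GrothLib.Cohom.exact₂ (A := k) hSj 0 y).1 hy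
      haveI : Subsingleton (Coh.HH X (ShortComplex.mk j π wj).X₁ 0) := GrothLib.Cohom.subsingleton_HH_of_isZero hz 0
      rw [Subsingleton.elim x 0, map_zero]
    exact absurd (LinearMap.finrank_le_finrank_of_injective hinj) (not_le.2 hlt)
  exact GrothLib.Euler.isZero_of_subsingleton_H0 C (hfin.subset (support_subset_of_epi π))
    (fun x hx => hcl x (support_subset_of_epi π hx)) inferInstance

end Groth.Agent.S6567
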