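import Groth.Statements.S6568
import Groth.Agent.Lib.CurveSerre11.Rank
import Groth.Agent.Lib.RefHull14.Basic
import Groth.Agent.Lib.TensorPerf20.FlatKernel
import Groth.Agent.Lib.Euler.Section
import Groth.Agent.Lib.NegTwist.H0
import Groth.Agent.Lib.UnifVanish7.Spanned

set_option autoImplicit false
universe u
open CategoryTheory CategoryTheory.Limits AlgebraicGeometry
attribute [local instance] HasDerivedCategory.standard
open Curves

namespace Groth.Agent.S6568

set_option backward.isDefEq.respectTransparency false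
set_option maxHeartbeats 1000000

theorem surjective_H0 {k : Type u} [Field k] {X : Scheme.{u}} [X.Over (Spec (CommRingCat.of k))]
    {M N : X.Modules} (φ : M ⟶ N) (hφ : Function.Surjective (Scheme.Modules.Hom.app φ ⊤)) :
    Function.Surjective (GrothLib.Cohom.hhMap k φ 0) := fun y => by
  obtain ⟨b, hb⟩ := hφ (GrothLib.ProjCoh.H0top N y)
  refine ⟨(GrothLib.ProjCoh.H0top M).symm b, (GrothLib.ProjCoh.H0top N).injective ?_⟩
  refine Eq.trans ?_ hb
  refine (GrothLib.ProjCoh.H0top_map ((GrothLib.QCoh.toAbFun X).map φ) ((GrothLib.ProjCoh.H0top M).symm b)).trans ?_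
  exact congrArg (fun z => ((GrothLib.QCoh.toAbFun X).map φ).hom.app (Opposite.op ⊤) z) ((GrothLib.ProjCoh.H0top M).apply_symm_apply b)

theorem finrank_lt {k : Type u} [Field k] {X : Scheme.{u}} [X.Over (Spec (CommRingCat.of k))]
    [IsProper (X ↘ (Spec (CommRingCat.of k)))] {S : ShortComplex X.Modules} (hS : S.ShortExact)
    (h₁ : Coh.IsCoh S.X₁) (h₂ : Coh.IsCoh S.X₂) (h₃ : Coh.IsCoh S.X₃)
    (e7 : Module.finrank k (Coh.HH X S.X₁ 1) ≤ 1) (hQ2 : 2 ≤ Module.finrank k (Coh.HH X S.X₃ 0)) :
    Module.finrank k (Coh.HH X S.X₁ 0) < Module.finrank k (Coh.HH X S.X₂ 0) := by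
  haveI := GrothLib.Euler.finiteDimensional_HH k h₁ 0
  haveI := GrothLib.Euler.finiteDimensional_HH k h₁ 1
  haveI : Module.Finite k (Coh.HH X S.X₁ (0 + 1)) := GrothLib.Euler.finiteDimensional_HH k h₁ 1
  haveI := GrothLib.Euler.finiteDimensional_HH k h₂ 0
  haveI := GrothLib.Euler.finiteDimensional_HH k h₃ 0
  have e1 := LinearMap.finrank_range_add_finrank_ker (GrothLib.Cohom.hhMap k S.g 0)
  have e2 := LinearMap.finrank_range_add_finrank_ker (GrothLib.Cohom.hhDelta k hS 0)
  have e3 : LinearMap.ker (GrothLib.Cohom.hhMap k S.g 0) = LinearMap.range (GrothLib.Cohom.hhMap k S.f 0) :=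
    (GrothLib.Cohom.exact₂ (A := k) hS 0).linearMap_ker_eq
  have e4 : LinearMap.ker (GrothLib.Cohom.hhDelta k hS 0) = LinearMap.range (GrothLib.Cohom.hhMap k S.g 0) :=
    (GrothLib.Cohom.exact₃ (A := k) hS 0).linearMap_ker_eq
  have e5 := LinearMap.finrank_range_of_inj (GrothLib.Euler.hhMap_zero_injective (A := k) hS)
  have e6 := (LinearMap.range (GrothLib.Cohom.hhDelta k hS 0)).finrank_le
  rw [e3] at e1
  rw [e4] at e2
  change Module.finrank k (LinearMap.range (GrothLib.Cohom.hhDelta k hS 0)) ≤ Module.finrank k (Coh.HH X S.X₁ 1) at e6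
  omega

theorem exists_data {X : Scheme.{u}} [IsLocallyNoetherian X] (F : X.Modules) (hF : Coh.IsCoh F) :
    ∃ (G C : X.Modules) (ι : G ⟶ F) (π : F ⟶ C) (w : ι ≫ π = 0), (ShortComplex.mk ι π w).ShortExact ∧
      Coh.IsCoh G ∧ Coh.IsCoh C ∧ Function.Surjective (Scheme.Modules.Hom.app ι ⊤) ∧
      (IsZero C → Curv2.IsGloballyGenerated F) := by
  haveI := hF.1
  let p : (SheafOfModules.free (R := X.ringCatSheaf) Γ(F, ⊤) : X.Modules) ⟶ F :=
    F.freeHomEquiv.symm fun s => GrothLib.Ample.globalSection F s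
  haveI := GrothLib.RefHull14.isQuasicoherent_free (X := X) Γ(F, ⊤)
  have hC : Coh.IsCoh (cokernel p) :=
    GrothLib.TensorPerf20.isCoh_of_epi (cokernel.π p) hF (GrothLib.QCoh.isQuasicoherent_cokernel p)
  refine ⟨kernel (cokernel.π p), cokernel p, kernel.ι _, cokernel.π p, kernel.condition _,
    { exact := ShortComplex.exact_of_f_is_kernel _ (kernelIsKernel _) },
    GrothLib.QCoh.isCoh_kernel _ hF hC, hC, fun s => ?_, fun hz => ⟨Γ(F, ⊤), p, Preadditive.epi_of_isZero_cokernel p hz⟩⟩
  have h2 : SheafOfModules.sectionsMap p (SheafOfModules.freeSection s) = GrothLib.Ample.globalSection F s :=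
    (SheafOfModules.freeHomEquiv_apply p s).symm.trans (congrFun (F.freeHomEquiv.apply_symm_apply _) s)
  have h3 : Scheme.Modules.Hom.app p ⊤ ((SheafOfModules.freeSection (R := X.ringCatSheaf) s).1 (Opposite.op ⊤)) = s :=
    (congrArg (fun t => t.1 (Opposite.op ⊤)) h2).trans (GrothLib.InvExt.mres_self F s)
  refine ⟨Scheme.Modules.Hom.app (kernel.lift (cokernel.π p) p (cokernel.condition p)) ⊤ ((SheafOfModules.freeSection (R := X.ringCatSheaf) s).1 (Opposite.op ⊤)), ?_⟩
  refine Eq.trans ?_ h3
  show Scheme.Modules.Hom.app (kernel.lift (cokernel.π p) p (cokernel.condition p) ≫ kernel.ι (cokernel.π p)) ⊤ _ = _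
  rw [kernel.lift_ι]

theorem core {k : Type u} [Field k] {X : Scheme.{u}} [X.Over (Spec (CommRingCat.of k))]
    [AlgebraicGeometry.IsIntegral X] [IsProper (X ↘ (Spec (CommRingCat.of k)))] (hdim : topologicalKrullDim X ≤ 1)
    (F W : X.Modules) (hF : Coh.IsCoh F) (hW : Coh.IsCoh W) (hFt : TorSh.IsTorsionFree F) (hWt : TorSh.IsTorsionFree W)
    (hrF : GrothLib.Euler.grank F ≤ 1)
    (hlt : Module.finrank k (Coh.HH X W 0) < Module.finrank k (Coh.HH X F 0))
    (hvan : ∀ G : X.Modules, Coh.IsQCoh G → (∀ φ : G ⟶ W, φ = 0) → Subsingleton (Coh.HH X G 1)) :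
    Curv2.IsGloballyGenerated F := by
  haveI := GrothLib.Euler.isNoetherian_of_proper (X := X) k
  letI : Field (X.presheaf.stalk (genericPoint X)) := GrothLib.CurvePoints.isField_stalk_genericPoint.toField
  haveI := hF.1
  haveI := GrothLib.Euler.finiteDimensional_HH k hW 0
  -- the subsheaf generated by global sections
  obtain ⟨G, C, ι, π, w, hS, hG, hC, happ, hgg⟩ := exists_data (X := X) F hF
  haveI := hG.1
  haveI : Mono ι := hS.mono_f
  haveI : Epi π := hS.epi_g
  haveI := GrothLib.Euler.finiteDimensional_HH k hF 0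
  have hGt := GrothLib.CurveSerre11.isTorsionFree_of_mono ι hFt
  have hH0 : Function.Bijective (GrothLib.Cohom.hhMap k ι 0) :=
    ⟨GrothLib.NegTwist.injective_hhMap_zero k ι, surjective_H0 ι happ⟩
  haveI := GrothLib.Euler.stalk_finite hF (genericPoint X)
  haveI := GrothLib.Euler.stalk_finite hG (genericPoint X)
  have hrG : GrothLib.Euler.grank G ≤ 1 := (GrothLib.Euler.grank_le_of_mono ι hF).trans hrF
  -- no first cohomology
  have hG1 : Subsingleton (Coh.HH X G 1) := by
    refine hvan _ hG.1 fun φ => ?_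
    by_contra hφ
    haveI := hW.1
    have hinj : Function.Injective (GrothLib.QCoh.stalkLin φ (genericPoint X)) := by
      refine (injective_iff_map_eq_zero _).2 fun b hb => ?_
      by_contra hb0
      have hr1 : GrothLib.Euler.grank G = 1 := by
        refine le_antisymm hrG (Nat.one_le_iff_ne_zero.2 fun hz => hb0 ?_)
        exact (Module.finrank_zero_iff.1 hz).elim _ _
      refine hφ (Scheme.Modules.hom_ext _ _ fun V => AddCommGrpCat.ext fun s => ?_)
      refine GrothLib.CurveSerre11.genDet_of_torsionFree hWt V _ fun hV => ?_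
      rw [← GrothLib.QCoh.stalkLin_germ φ hV s]
      obtain ⟨c, hc⟩ := exists_smul_eq_of_finrank_eq_one (K := X.presheaf.stalk (genericPoint X)) hr1 hb0
        (G.presheaf.germ V (genericPoint X) hV s)
      rw [← hc, map_smul, hb, smul_zero]
    haveI := GrothLib.AsympCoh5.mono_of_generic (GrothLib.CurveSerre11.genDet_of_torsionFree hGt) φ hinj
    have e1 := LinearMap.finrank_le_finrank_of_injective
      (GrothLib.NegTwist.injective_hhMap_zero k φ)
    haveI := GrothLib.Euler.finiteDimensional_HH k hG 0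
    have e2 := (LinearEquiv.ofBijective _ hH0).finrank_eq
    omega
  -- the quotient vanishes
  have hηC : genericPoint X ∉ CohB1.support C := fun hm => hm (by
    have hpos : 0 < GrothLib.Euler.grank G := by
      obtain ⟨y, hy⟩ := Module.finrank_pos_iff_exists_ne_zero.1 (Nat.lt_of_le_of_lt (Nat.zero_le _) hlt)
      obtain ⟨x, rfl⟩ := hH0.2 y
      by_contra hz
      refine hy (congrArg _ ?_ |>.trans (map_zero _))
      apply (GrothLib.ProjCoh.H0top _).injective
      rw [map_zero]
      refine GrothLib.CurveSerre11.genDet_of_torsionFree hGt ⊤ _ fun hV => ?_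
      exact (Module.finrank_zero_iff.1 (Nat.le_zero.1 (not_lt.1 hz))).elim _ _
    have hsur : Function.Surjective (GrothLib.QCoh.stalkLin ι (genericPoint X)) :=
      GrothLib.Euler.surjective_generic_of_mono ι hF (le_antisymm (GrothLib.Euler.grank_le_of_mono ι hF) (hrF.trans hpos))
    refine subsingleton_of_forall_eq 0 fun c => ?_
    obtain ⟨b, rfl⟩ := GrothLib.QCoh.stalkLin_surjective π (genericPoint X) c
    obtain ⟨a, rfl⟩ := hsur b
    rw [← GrothLib.QCoh.stalkLin_comp, w]
    exact LinearMap.congr_fun (congrArg ModuleCat.Hom.hom ((GrothLib.OX.stalk (genericPoint X)).map_zero _ _)) a)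
  obtain ⟨hfin, hcl⟩ := GrothLib.Euler.finite_support_of_notMem_genericPoint k hdim hC hηC
  have hz : IsZero C := by
    refine GrothLib.Euler.isZero_of_subsingleton_H0 _ hfin hcl (subsingleton_of_forall_eq 0 fun y => ?_)
    haveI := hG1
    obtain ⟨x, rfl⟩ := (GrothLib.Cohom.exact₃ (A := k) hS 0 y).1 (Subsingleton.elim (α := Coh.HH X G 1) _ _)
    obtain ⟨b, rfl⟩ := hH0.2 x
    exact (GrothLib.Cohom.exact₂ (A := k) hS 0).apply_apply_eq_zero b
  exact hgg hz


/-- Let X be proper and integral over the field k, of dimension one, with H^0(X, O_X) = k, and ω_X its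
dualizing module (the degree -1 cohomology sheaf of f^! O for the structure morphism f, assuming
Rf_* on D_QCoh and its right adjoint exist). Suppose F is a torsion-free coherent O_X-module
(stalkwise: a · m = 0 forces a = 0 or m = 0) containing ω_X as a submodule, with coherent quotient Q
= F/ω_X supported in dimension zero and with dim_k H^0(X, Q) ≥ 2 (so 0 → ω_X → F → Q → 0 is short
exact). Then F is generated by its global sections. -/
theorem result (k : Type u) [Field k] (X : Scheme.{u}) [X.Over (Spec (CommRingCat.of k))] [IsIntegral X] [IsProper (X ↘ (Spec (CommRingCat.of k)))] (hdim : topologicalKrullDim X = 1)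
    (h0 : Module.finrank k (Coh.HH X (Coh.structureModule X) 0) = 1)
    [DCoh.HasRpush (X ↘ (Spec (CommRingCat.of k)))] (h : DCoh.RpushPreservesQCoh (X ↘ (Spec (CommRingCat.of k)))) [DCoh.HasShriek (X ↘ (Spec (CommRingCat.of k))) h]
    (OY : DCoh.DQCoh (Spec (CommRingCat.of k))) (hOY : Nonempty (OY.obj ≅ DCoh.inD (Spec (CommRingCat.of k)) (Coh.structureModule (Spec (CommRingCat.of k)))))
    (F Q : X.Modules) (hF : Coh.IsCoh F) (hQ : Coh.IsCoh Q)
    (f : DCoh.dualizingMod (X ↘ (Spec (CommRingCat.of k))) h OY 1 ⟶ F) (g : F ⟶ Q) (w : f ≫ g = 0) (hex : (ShortComplex.mk f g w).ShortExact)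
    (htf : ∀ (x : X) (a : X.presheaf.stalk x) (m : F.presheaf.stalk x), a • m = 0 → a = 0 ∨ m = 0)
    (hQ0 : topologicalKrullDim (CohB1.support Q) ≤ 0) (hQ2 : 2 ≤ Module.finrank k (Coh.HH X Q 0)) :
    Curv2.IsGloballyGenerated F := by
  haveI := GrothLib.Euler.isNoetherian_of_proper (X := X) k
  haveI : Mono f := hex.mono_f
  have hω := GrothLib.CurveSerre11.isCoh_omega h OY hOY
  have hFt := GrothLib.CurveSerre11.isTorsionFree_of_noZeroSMul htf
  obtain ⟨t, ht⟩ := GrothLib.CurveSerre11.exists_trace h OY hOY hdim.le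
  have hηQ : genericPoint X ∉ CohB1.support Q := fun hm => by
    have hcl := GrothLib.QCoh.isClosed_support_of_isCoh hQ
    have hu : CohB1.support Q = Set.univ := Set.eq_univ_of_forall fun x =>
      ((genericPoint_spec X).specializes trivial).mem_closed hcl hm
    rw [hu, (IsHomeomorph.topologicalKrullDim_eq _ (Homeomorph.Set.univ X).isHomeomorph), hdim] at hQ0
    exact absurd hQ0 (by decide)
  have hrF : GrothLib.Euler.grank F ≤ 1 := by
    have e1 := GrothLib.Euler.grank_additive hex hF
    have e2 := GrothLib.Euler.grank_eq_zero_of_notMem hηQ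
    have e3 := GrothLib.CurveSerre11.grank_omega_le h OY hOY hdim.le
    change GrothLib.Euler.grank F = GrothLib.Euler.grank (DCoh.dualizingMod (X ↘ (Spec (CommRingCat.of k))) h OY 1) + GrothLib.Euler.grank Q at e1
    omega
  exact core hdim.le F _ hF hω hFt (GrothLib.CurveSerre11.isTorsionFree_of_mono f hFt) hrF
    (finrank_lt (S := ShortComplex.mk f g w) hex hω hF hQ (GrothLib.CurveSerre11.finrank_HH_one_omega_le h OY hOY hdim.le h0) hQ2)
    fun G hG h1 => GrothLib.CurveSerre11.IsTrace.subsingleton_of_hom ht hG h1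

end Groth.Agent.S6568
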