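import Groth.Statements.S6569
import Groth.Agent.Lib.NodeOpen11.FittUnr
import Groth.Agent.Lib.NodeOpen11.LCI
import Groth.Agent.Lib.OmegaSheaf.Basic

set_option autoImplicit false
universe u
open CategoryTheory CategoryTheory.Limits AlgebraicGeometry
attribute [local instance] HasDerivedCategory.standard
open Curves

namespace Groth.Agent.S6569

set_option backward.isDefEq.respectTransparency false

theorem mem_goodSet {X S : Scheme.{u}} (f : X ⟶ S) [Flat f] [LocallyOfFinitePresentation f]
    (hfib : ∀ s : S, ∀ Z ∈ irreducibleComponents (↥(f.fiber s) : Type u), topologicalKrullDim Z = 1)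
    (hr : ∀ c : GrothLib.NodeOpen11.AffChart f, c.ram = ∅) (hcm : ∀ x, MoreMor.IsCMAt f x) (x : X) :
    x ∈ GrothLib.NodeOpen11.goodSet f := by
  obtain ⟨c, hxc⟩ := GrothLib.NodeOpen11.exists_affChart (f := f) x
  letI := c.algebra
  obtain ⟨q, rfl⟩ := c.U.2.range_fromSpec.ge hxc
  have hfp := LocallyOfFinitePresentation.finitePresentation_appLE f c.V.2 c.U.2 c.le
  haveI : Algebra.FiniteType Γ(S, c.V.1) Γ(X, c.U.1) :=
    RingHom.finiteType_algebraMap.mp (RingHom.FiniteType.of_finitePresentation hfp)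
  have comm : c.U.2.fromSpec ≫ f =
      Spec.map (CommRingCat.ofHom (algebraMap Γ(S, c.V.1) Γ(X, c.U.1))) ≫ c.V.2.fromSpec :=
    (c.V.2.SpecMap_appLE_fromSpec f c.U.2 c.le).symm
  haveI := c.U.2.isOpenImmersion_fromSpec
  haveI := c.V.2.isOpenImmersion_fromSpec
  refine (GrothLib.NodeOpen11.mem_goodSet_iff_chart f hfib c.U.2.fromSpec c.V.2.fromSpec comm q).2
    ⟨?_, fun hq => Set.eq_empty_iff_forall_notMem.1 (hr c) q hq⟩
  have h := hcm (c.U.2.fromSpec q)
  rw [← GrothLib.CMMor6.isCMAt_openImmersion_comp_iff c.U.2.fromSpec f q, comm] at h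
  haveI : Flat (Spec.map (CommRingCat.ofHom (algebraMap Γ(S, c.V.1) Γ(X, c.U.1)))) := by
    haveI : Flat (Spec.map (CommRingCat.ofHom (algebraMap Γ(S, c.V.1) Γ(X, c.U.1))) ≫ c.V.2.fromSpec) := by
      rw [← comm]; infer_instance
    exact MorphismProperty.of_postcomp (W := @Flat) (W' := @IsOpenImmersion) _ c.V.2.fromSpec ‹_› ‹_›
  exact (GrothLib.CMMor6.isCMAt_of_comp _ c.V.2.fromSpec q (GrothLib.CMMor6.isLocallyNoetherian_fiber _ _) h
    (Flat.stalkMap _ q)).1


/-- Let k be a field and X a scheme locally of finite type over k, equidimensional of dimension 1; the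
structure morphism is also assumed quasi-separated (automatic here, X being locally Noetherian), so
that the sheaf of differentials Ω_{X/k} can be taken as the conormal sheaf of the diagonal. Two
conditions on X are then equivalent: (1) X has at worst nodal singularities; (2) X → Spec k is a
local complete intersection morphism, and Z → Spec k is unramified, where Z ⊆ X denotes the closed
subscheme whose ideal sheaf is the first Fitting ideal of Ω_{X/k}. -/
theorem result (k : Type u) [Field k] (X : Scheme.{u}) [X.Over (Spec (CommRingCat.of k))] [LocallyOfFiniteType (X ↘ (Spec (CommRingCat.of k)))] [QuasiSeparated (X ↘ (Spec (CommRingCat.of k)))]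
    (hequi : ∀ Z ∈ irreducibleComponents (X : Type u), topologicalKrullDim Z = 1) :
    Curv2.AtWorstNodal k X ↔
      (Dual3.IsLCIMor (X ↘ (Spec (CommRingCat.of k))) ∧
        FormallyUnramified ((Fitt.sheafIdeal (Omega.sheaf (X ↘ (Spec (CommRingCat.of k)))) 1).subschemeι ≫ (X ↘ (Spec (CommRingCat.of k))))) := by
  classical
  set f := X ↘ (Spec (CommRingCat.of k)) with hf
  haveI : IsLocallyNoetherian X := LocallyOfFiniteType.isLocallyNoetherian f
  haveI : LocallyOfFinitePresentation f := GrothLib.LocProp.locallyOfFinitePresentation_of_isLocallyNoetherian f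
  haveI : Flat f := GrothLib.CurveLocus.flat_to_spec_field f
  obtain ⟨hfib, hg⟩ := GrothLib.NodeOpen11.goodSet_field f hequi
  haveI := GrothLib.OmegaSheaf.isQuasicoherent_sheaf f
  have hU := GrothLib.NodeOpen11.formallyUnramified_fittingSubscheme_iff (f := f) (Omega.sheaf f)
    (GrothLib.OmegaSheaf.isFT_sheaf f)
    (fun c => GrothLib.OmegaSheaf.nonempty_sections_equiv f c.U.2 c.V.2 c.le)
  rw [hU, show Curv2.AtWorstNodal k X ↔ ∀ x, x ∈ GrothLib.NodeOpen11.goodSet f from
    GrothLib.NodeOpen11.atWorstNodal_iff_forall_good f hequi]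
  constructor
  · intro h
    refine ⟨fun x => ?_, GrothLib.NodeOpen11.ram_eq_empty hfib h⟩
    obtain ⟨U, V, hU', hV, e, hx, hl⟩ := GrothLib.NodeOpen11.inLocus_of_good f hequi x ((hg x).1 (h x))
    exact ⟨⟨U, hU'⟩, ⟨V, hV⟩, e, hx, hl⟩
  · rintro ⟨hl, hr⟩ x
    refine mem_goodSet f hfib hr (fun y => ?_) x
    obtain ⟨U, V, e, hy, hl'⟩ := hl y
    exact GrothLib.NodeOpen11.isCMAt_of_inLocus f y ⟨U.1, V.1, U.2, V.2, e, hy, hl'⟩

end Groth.Agent.S6569
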