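import Groth.Statements.S6570
import Groth.Agent.Lib.NodeOpen11.FittUnr
import Groth.Agent.Lib.NodeOpen11.LCI
import Groth.Agent.Lib.OmegaSheaf.Basic
import Groth.Agent.Lib.CurveStk.LCI
import Groth.Agent.Lib.SyntLoc.Scheme
import Groth.Agent.S9758

set_option autoImplicit false
universe u
open CategoryTheory CategoryTheory.Limits AlgebraicGeometry
attribute [local instance] HasDerivedCategory.standard
open Curves

namespace Groth.Agent.S6570

set_option backward.isDefEq.respectTransparency false

theorem mem_goodSet {X S : Scheme.{u}} (f : X ⟶ S) [Flat f] [LocallyOfFinitePresentation f]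
    (hfib : ∀ s : S, ∀ Z ∈ irreducibleComponents (↥(f.fiber s) : Type u), topologicalKrullDim Z = 1)
    (hr : ∀ c : GrothLib.NodeOpen11.AffChart f, c.ram = ∅) (hcm : ∀ x, MoreMor.IsCMAt f x) (x : X) :
    x ∈ GrothLib.NodeOpen11.goodSet f := by
  obtain ⟨c, hxc⟩ := GrothLib.NodeOpen11.exists_affChart (f := f) x
  letI := c.algebra
  obtain ⟨q, rfl⟩ := c.U.2.range_fromSpec.ge hxc
  have hfp := LocallyOfFinitePresentation.finitePresentation_appLE f c.V.2 c.U.2 c.le
  haveI : Algebra.FiniteType Γ(S, c.V.1) Γ(X, c.U.1) :=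
    RingHom.finiteType_algebraMap.mp (RingHom.FiniteType.of_finitePresentation hfp)
  have comm : c.U.2.fromSpec ≫ f =
      Spec.map (CommRingCat.ofHom (algebraMap Γ(S, c.V.1) Γ(X, c.U.1))) ≫ c.V.2.fromSpec :=
    (c.V.2.SpecMap_appLE_fromSpec f c.U.2 c.le).symm
  haveI := c.U.2.isOpenImmersion_fromSpec
  haveI := c.V.2.isOpenImmersion_fromSpec
  refine (GrothLib.NodeOpen11.mem_goodSet_iff_chart f hfib c.U.2.fromSpec c.V.2.fromSpec comm q).2
    ⟨?_, fun hq => Set.eq_empty_iff_forall_notMem.1 (hr c) q hq⟩
  have h := hcm (c.U.2.fromSpec q)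
  rw [← GrothLib.CMMor6.isCMAt_openImmersion_comp_iff c.U.2.fromSpec f q, comm] at h
  haveI : Flat (Spec.map (CommRingCat.ofHom (algebraMap Γ(S, c.V.1) Γ(X, c.U.1)))) := by
    haveI : Flat (Spec.map (CommRingCat.ofHom (algebraMap Γ(S, c.V.1) Γ(X, c.U.1))) ≫ c.V.2.fromSpec) := by
      rw [← comm]; infer_instance
    exact MorphismProperty.of_postcomp (W := @Flat) (W' := @IsOpenImmersion) _ c.V.2.fromSpec ‹_› ‹_›
  exact (GrothLib.CMMor6.isCMAt_of_comp _ c.V.2.fromSpec q (GrothLib.CMMor6.isLocallyNoetherian_fiber _ _) h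
    (Flat.stalkMap _ q)).1


/-- Let f : X → S be a quasi-separated morphism of schemes (so that Ω_{X/S} can be taken as the conormal
sheaf of the diagonal). The following are equivalent: (1) f is flat, locally of finite presentation,
and every nonempty fibre is equidimensional of dimension 1 with at-worst-nodal singularities; (2) f
is syntomic of relative dimension 1, and Sing(f) → S is unramified, where Sing(f) ⊆ X denotes the
closed subscheme whose ideal sheaf is the first Fitting ideal of Ω_{X/S}. (The published statement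
does not assume f quasi-separated; this row does.) -/
theorem result {X S : Scheme.{u}} (f : X ⟶ S) [QuasiSeparated f] :
    Curv2.IsNodalFamily f ↔
      (Synt.IsSyntomicMor f ∧ (∀ x : X, Dual3.localFibreDim f x = 1) ∧
        FormallyUnramified ((Fitt.sheafIdeal (Omega.sheaf f) 1).subschemeι ≫ f)) := by
  classical
  have hdim : ∀ x, Dual3.localFibreDim f x = FlatMor.fibreDimAt f x := fun x => by
    rw [Dual3.localFibreDim, FlatMor.fibreDimAt, FlatMor.localDim, iInf_subtype']
    rfl
  have hmain : ∀ [Flat f] [LocallyOfFinitePresentation f],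
      (∀ s, ∀ Z ∈ irreducibleComponents (↥(f.fiber s) : Type u), topologicalKrullDim Z = 1) →
      (Curv2.IsNodalFamily f ↔ (∀ x, Synt.IsKoszulAt f x) ∧
        FormallyUnramified ((Fitt.sheafIdeal (Omega.sheaf f) 1).subschemeι ≫ f)) := by
    intro _ _ hfib
    haveI := GrothLib.OmegaSheaf.isQuasicoherent_sheaf f
    rw [GrothLib.NodeOpen11.formallyUnramified_fittingSubscheme_iff (f := f) (Omega.sheaf f)
      (GrothLib.OmegaSheaf.isFT_sheaf f)
      (fun c => GrothLib.OmegaSheaf.nonempty_sections_equiv f c.U.2 c.V.2 c.le)]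
    have hkos : ∀ x, Synt.IsKoszulAt f x ↔
        GrothLib.LCI6.InLocus (f.fiberToSpecResidueField (f x)) (f.asFiber x) := fun x => by
      haveI : LocallyOfFinitePresentation (f.fiberToSpecResidueField (f x)) :=
        MorphismProperty.pullback_snd _ _ inferInstance
      haveI : Flat (f.fiberToSpecResidueField (f x)) := MorphismProperty.pullback_snd _ _ inferInstance
      have h := GrothLib.CurveStk.ptProp_koszul.baseChange
        (IsPullback.of_hasPullback f (S.fromSpecResidueField (f x))) (f.asFiber x)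
      erw [f.fiberι_asFiber] at h
      exact h.symm.trans (GrothLib.LCI6.isKoszulAt_iff_inLocus _ _)
    constructor
    · intro h
      have hgood : ∀ x, x ∈ GrothLib.NodeOpen11.goodSet f := fun x =>
        (GrothLib.NodeOpen11.atWorstNodal_iff_subset f hfib (f x)).1 (h.2.2 (f x)).2 x rfl
      refine ⟨fun x => (hkos x).2 ?_, GrothLib.NodeOpen11.ram_eq_empty hfib hgood⟩
      haveI := GrothLib.NodeEt.locallyOfFiniteType_fiberTo f (f x)
      exact GrothLib.NodeOpen11.inLocus_of_good (k := S.residueField (f x)) _ (hfib (f x)) _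
        ((GrothLib.NodeOpen11.mem_goodSet_iff f x).1 (hgood x))
    · rintro ⟨hk, hr⟩
      refine ⟨inferInstance, inferInstance, fun s => ⟨hfib s,
        (GrothLib.NodeOpen11.atWorstNodal_iff_subset f hfib s).2 fun x _ => ?_⟩⟩
      refine mem_goodSet f hfib hr (fun y => ?_) x
      haveI := GrothLib.NodeEt.locallyOfFiniteType_fiberTo f (f y)
      have h1 := GrothLib.NodeOpen11.isCMAt_of_inLocus (k := S.residueField (f y)) _ _ ((hkos y).1 (hk y))
      haveI : LocallyOfFinitePresentation (f.fiberToSpecResidueField (f y)) :=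
        MorphismProperty.pullback_snd _ _ inferInstance
      haveI : Flat (f.fiberToSpecResidueField (f y)) := MorphismProperty.pullback_snd _ _ inferInstance
      have h2 := (GrothLib.CurveStk.ptProp_cm.baseChange
        (IsPullback.of_hasPullback f (S.fromSpecResidueField (f y))) (f.asFiber y)).1 h1
      erw [f.fiberι_asFiber] at h2
      exact h2
  constructor
  · intro h
    haveI := h.1
    haveI := h.2.1
    have hfib := fun s => (h.2.2 s).1
    obtain ⟨h1, h2⟩ := (hmain hfib).1 h
    refine ⟨(Groth.Agent.S9758.result f).1 ⟨h.1, h1⟩, fun x => ?_, h2⟩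
    rw [hdim]
    simpa using (GrothLib.Equidim6.fibres_equidim_iff f 1).1 (by simpa using hfib) x
  · rintro ⟨h1, h2, h3⟩
    obtain ⟨hfl, hk⟩ := (Groth.Agent.S9758.result f).2 h1
    haveI := hfl
    haveI := GrothLib.SyntLoc.lfp_of_isSyntomicMor h1
    exact (hmain (GrothLib.NodeOpen11.hfib_of_fibreDimAt f fun x => (hdim x).symm.trans (h2 x))).2 ⟨hk, h3⟩

end Groth.Agent.S6570
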