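import Groth.Statements.S6572
import Groth.Agent.Lib.RamDiff9.Scheme

set_option autoImplicit false
universe u
open CategoryTheory CategoryTheory.Limits AlgebraicGeometry
open Curves

namespace Groth.Agent.S6572

/-- Let k be a field and f : X → Y a morphism over k of smooth proper curves over k (proper, smooth,
integral, of dimension one) which is generically étale (étale on a nonempty open of X) and
nonconstant (f(ξ_X) = ξ_Y for the generic points), with H^0(X, O_X) = H^0(Y, O_Y) = k. For a closed
point x ∈ X with image y, write e_x for the ramification index of the extension of discrete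
valuation rings O_{Y,y} → O_{X,x} and d_x for the length of the O_{X,x}-module Ω_{O_{X,x}/O_{Y,y}}.
Then e_x − 1 ≤ d_x, with equality exactly when O_{Y,y} → O_{X,x} is tame: the residue field
extension κ(x)/κ(y) is separable and e_x is not divisible by the characteristic of κ(y) (e_x ≠ 0 in
κ(y)). (The published statement also identifies d_x with the multiplicity of x in the ramification
divisor; this row takes the length of Ω_{O_{X,x}/O_{Y,y}}, the stalk of Ω_{X/Y} at x, as the
definition of d_x.) -/
theorem result (k : Type u) [Field k]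
    (X Y : Scheme.{u}) [X.Over (Spec (CommRingCat.of k))] [Y.Over (Spec (CommRingCat.of k))]
    [IsIntegral X] [IsProper (X ↘ (Spec (CommRingCat.of k)))] [Smooth (X ↘ (Spec (CommRingCat.of k)))] (hdX : topologicalKrullDim X = 1)
    [IsIntegral Y] [IsProper (Y ↘ (Spec (CommRingCat.of k)))] [Smooth (Y ↘ (Spec (CommRingCat.of k)))] (hdY : topologicalKrullDim Y = 1)
    (hX0 : Module.finrank k (Coh.HH X (Coh.structureModule X) 0) = 1) (hY0 : Module.finrank k (Coh.HH Y (Coh.structureModule Y) 0) = 1)
    (f : X ⟶ Y) (hf : f ≫ (Y ↘ (Spec (CommRingCat.of k))) = X ↘ (Spec (CommRingCat.of k))) (e : f (genericPoint X) = genericPoint Y)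
    (het : ∃ U : X.Opens, (U : Set X).Nonempty ∧ Etale (U.ι ≫ f))
    (x : X) (hx : IsClosed ({x} : Set X)) :
    letI := (f.stalkMap x).hom.toAlgebra
    letI := (f.residueFieldMap x).hom.toAlgebra
    ((((Ideal.ramificationIdx (IsLocalRing.maximalIdeal (X.presheaf.stalk x)) (Y.presheaf.stalk (f x)) - 1 : ℕ) : ℕ∞) ≤ Module.length (X.presheaf.stalk x) (KaehlerDifferential (Y.presheaf.stalk (f x)) (X.presheaf.stalk x))) ∧
      ((Module.length (X.presheaf.stalk x) (KaehlerDifferential (Y.presheaf.stalk (f x)) (X.presheaf.stalk x)) = ((Ideal.ramificationIdx (IsLocalRing.maximalIdeal (X.presheaf.stalk x)) (Y.presheaf.stalk (f x)) - 1 : ℕ) : ℕ∞)) ↔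
        (Algebra.IsSeparable (Y.residueField (f x)) (X.residueField x) ∧ ((Ideal.ramificationIdx (IsLocalRing.maximalIdeal (X.presheaf.stalk x)) (Y.presheaf.stalk (f x)) : ℕ) : Y.residueField (f x)) ≠ 0))) := by
  exact GrothLib.RamDiff9.ramification_bound f x k hdX hdY hf e hx

end Groth.Agent.S6572
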