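import Groth.Statements.S6575
import Mathlib

set_option autoImplicit false
universe u
open Curves

namespace Groth.Agent.S6575

theorem det_mul_submatrix_mem {Q : Type*} [CommRing Q] {l m n r : ℕ} (C : Matrix (Fin l) (Fin m) Q)
    (J : Matrix (Fin m) (Fin n) Q) (ρ : Fin r → Fin l) (γ : Fin r → Fin n) :
    ((C * J).submatrix ρ γ).det ∈ Ideal.span {d : Q | ∃ p : Fin r → Fin m,
      Function.Injective p ∧ d = (J.submatrix p γ).det} := by
  classical
  have hrow : (C * J).submatrix ρ γ = fun i => ∑ j : Fin m, C (ρ i) j • (fun c => J j (γ c)) := by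
    funext i c
    simp [Matrix.submatrix, Matrix.mul_apply]
  rw [Matrix.det, hrow]
  show Matrix.detRowAlternating.toMultilinearMap (fun i => ∑ j : Fin m, C (ρ i) j • (fun c => J j (γ c))) ∈ _
  rw [MultilinearMap.map_sum]
  refine Ideal.sum_mem _ fun p _ => ?_
  rw [MultilinearMap.map_smul_univ]
  refine Ideal.mul_mem_left _ _ ?_
  by_cases hp : Function.Injective p
  · exact Ideal.subset_span ⟨p, hp, rfl⟩
  · have : Matrix.detRowAlternating.toMultilinearMap (fun i c => J (p i) (γ c)) = 0 := by
      simp only [Function.Injective, not_forall] at hp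
      obtain ⟨a, b, hab, hne⟩ := hp
      exact Matrix.detRowAlternating.map_eq_zero_of_eq _ (by simp only [hab]) hne
    rw [this]
    exact zero_mem _

theorem minors_le {k : Type u} [Field k] {n m l r : ℕ}
    (f : Fin m → MvPowerSeries (Fin n) k) (g : Fin l → MvPowerSeries (Fin n) k)
    (hg : ∀ s, g s ∈ Ideal.span (Set.range f)) :
    Ideal.span {d : MvPowerSeries (Fin n) k | ∃ (ρ : Fin r → Fin l) (γ : Fin r → Fin n),
          Function.Injective ρ ∧ Function.Injective γ ∧
          d = ((Matrix.of fun (j : Fin l) (i : Fin n) => MvPowerSeries.pderiv k i (g j)).submatrix ρ γ).det} ≤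
      Ideal.span {d : MvPowerSeries (Fin n) k | ∃ (ρ : Fin r → Fin m) (γ : Fin r → Fin n),
          Function.Injective ρ ∧ Function.Injective γ ∧
          d = ((Matrix.of fun (j : Fin m) (i : Fin n) => MvPowerSeries.pderiv k i (f j)).submatrix ρ γ).det} ⊔
        Ideal.span (Set.range f) := by
  classical
  choose c hc using fun s => Ideal.mem_span_range_iff_exists_fun.1 (hg s)
  refine Ideal.span_le.2 ?_
  rintro _ ⟨ρ, γ, hρ, hγ, rfl⟩
  let q := Ideal.Quotient.mk (Ideal.span (Set.range f))
  let Jf := Matrix.of fun (j : Fin m) (i : Fin n) => MvPowerSeries.pderiv k i (f j)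
  have hJ : (Matrix.of fun (j : Fin l) (i : Fin n) => MvPowerSeries.pderiv k i (g j)).map q =
      (Matrix.of c).map q * Jf.map q := by
    ext s i
    simp only [Matrix.map_apply, Matrix.of_apply, Matrix.mul_apply, Jf]
    rw [← hc s, map_sum, map_sum]
    refine Finset.sum_congr rfl fun j _ => ?_
    rw [Derivation.leibniz, smul_eq_mul, smul_eq_mul, map_add, map_mul, map_mul,
      show q (f j) = 0 from Ideal.Quotient.eq_zero_iff_mem.2 (Ideal.subset_span ⟨j, rfl⟩), zero_mul, add_zero]
  rw [SetLike.mem_coe, ← Ideal.mem_quotient_iff_mem_sup, RingHom.map_det q, RingHom.mapMatrix_apply,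
    ← Matrix.submatrix_map, hJ]
  refine (Ideal.span_le.2 ?_) (det_mul_submatrix_mem _ _ ρ γ)
  rintro _ ⟨p, hp, rfl⟩
  rw [SetLike.mem_coe, Matrix.submatrix_map]
  have h := Ideal.mem_map_of_mem q (Ideal.subset_span ⟨p, γ, hp, hγ, rfl⟩ :
    (Jf.submatrix p γ).det ∈ Ideal.span {d : MvPowerSeries (Fin n) k | ∃ (ρ : Fin r → Fin m) (γ : Fin r → Fin n),
      Function.Injective ρ ∧ Function.Injective γ ∧ d = (Jf.submatrix ρ γ).det})
  rw [RingHom.map_det, RingHom.mapMatrix_apply] at h
  exact h


/-- Let k be a field, A = k[[x_1, …, x_n]] and I ⊆ A an ideal generated by f_1, …, f_m and also by g_1,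
…, g_l. Then for every r ≥ 0 the ideal of A/I generated by the r × r minors of (∂f_j/∂x_i) equals
the one generated by the r × r minors of (∂g_s/∂x_i); stated in A as equality of the ideals
generated by the minors together with I. (The published result also asserts independence of the
regular system of parameters x_1, …, x_n, which is not stated here.) -/
theorem result (k : Type u) [Field k] (n m l r : ℕ)
    (f : Fin m → MvPowerSeries (Fin n) k) (g : Fin l → MvPowerSeries (Fin n) k)
    (hfg : Ideal.span (Set.range f) = Ideal.span (Set.range g)) :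
    Ideal.span {d : MvPowerSeries (Fin n) k | ∃ (ρ : Fin r → Fin m) (γ : Fin r → Fin n), Function.Injective ρ ∧ Function.Injective γ ∧
          d = ((Matrix.of fun (j : Fin m) (i : Fin n) => MvPowerSeries.pderiv k i (f j)).submatrix ρ γ).det} ⊔ Ideal.span (Set.range f) =
      Ideal.span {d : MvPowerSeries (Fin n) k | ∃ (ρ : Fin r → Fin l) (γ : Fin r → Fin n), Function.Injective ρ ∧ Function.Injective γ ∧
          d = ((Matrix.of fun (j : Fin l) (i : Fin n) => MvPowerSeries.pderiv k i (g j)).submatrix ρ γ).det} ⊔ Ideal.span (Set.range g) := by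
  exact le_antisymm (sup_le ((minors_le g f fun s => hfg ▸ Ideal.subset_span ⟨s, rfl⟩)) (hfg ▸ le_sup_right))
    (sup_le ((minors_le f g fun s => hfg ▸ Ideal.subset_span ⟨s, rfl⟩)) (hfg ▸ le_sup_right))

end Groth.Agent.S6575
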