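import Groth.Statements.S6576
import Groth.Agent.Lib.FMAdj25.Gorenstein
import Groth.Agent.Lib.DualRing.SchemePull

set_option autoImplicit false
universe u
open CategoryTheory CategoryTheory.Limits AlgebraicGeometry
attribute [local instance] HasDerivedCategory.standard
open Curves

namespace Groth.Agent.S6576

/-- Let X be proper over the field k of dimension ≤ 1, ω_X its dualizing module (degree -1 cohomology
sheaf of f^! O for the structure morphism f, assuming Rf_* on D_QCoh and its right adjoint exist),
and K/k a field extension. Then the pullback of ω_X along X_K → X is a dualizing module for X_K →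
Spec K: it is isomorphic to the degree -1 cohomology sheaf of the corresponding object for X_K over
K. (Existence of an isomorphism only; the statement for the dualizing complex is not included.) -/
theorem result (k : Type u) [Field k] (X : Scheme.{u}) [X.Over (Spec (CommRingCat.of k))] [IsProper (X ↘ (Spec (CommRingCat.of k)))] (hdim : topologicalKrullDim X ≤ 1)
    [DCoh.HasRpush (X ↘ (Spec (CommRingCat.of k)))] (h : DCoh.RpushPreservesQCoh (X ↘ (Spec (CommRingCat.of k)))) [DCoh.HasShriek (X ↘ (Spec (CommRingCat.of k))) h]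
    (OY : DCoh.DQCoh (Spec (CommRingCat.of k))) (hOY : Nonempty (OY.obj ≅ DCoh.inD (Spec (CommRingCat.of k)) (Coh.structureModule (Spec (CommRingCat.of k)))))
    (K : Type u) [Field K] [Algebra k K]
    [DCoh.HasRpush (Curv2.bcSnd k X K)] (hK : DCoh.RpushPreservesQCoh (Curv2.bcSnd k X K)) [DCoh.HasShriek (Curv2.bcSnd k X K) hK]
    (OK : DCoh.DQCoh (Spec (CommRingCat.of K))) (hOK : Nonempty (OK.obj ≅ DCoh.inD (Spec (CommRingCat.of K)) (Coh.structureModule (Spec (CommRingCat.of K))))) :
    Nonempty ((Scheme.Modules.pullback (Curv2.bcFst k X K)).obj (DCoh.dualizingMod (X ↘ (Spec (CommRingCat.of k))) h OY 1) ≅ DCoh.dualizingMod (Curv2.bcSnd k X K) hK OK 1) := by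
  haveI : IsProper (Curv2.bcSnd k X K) :=
    MorphismProperty.of_isPullback (P := @IsProper) (IsPullback.of_hasPullback _ _) inferInstance
  haveI : Flat (Spec.map (CommRingCat.ofHom (algebraMap k K))) := Flat.SpecMap_iff.2
    (RingHom.flat_algebraMap_iff.2 inferInstance)
  haveI : Flat (Curv2.bcFst k X K) :=
    MorphismProperty.of_isPullback (P := @Flat) (IsPullback.of_hasPullback _ _).flip inferInstance
  haveI := GrothLib.OX.hasLpull (Curv2.bcFst k X K)
  haveI := GrothLib.OX.additive_pullback (Curv2.bcFst k X K)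
  haveI := GrothLib.OX.preservesFiniteLimits_pullback_of_flat (Curv2.bcFst k X K)
  obtain ⟨eY⟩ := hOY
  obtain ⟨eK⟩ := hOK
  obtain ⟨e⟩ := GrothLib.FMAdj25.nonempty_dualizingCx_bc (IsPullback.of_hasPullback (X ↘ (Spec (CommRingCat.of k)))
    (Spec.map (CommRingCat.ofHom (algebraMap k K)))) h hK OY eY OK eK
  obtain ⟨l⟩ := GrothLib.DualRing.nonempty_lpull_flat (Curv2.bcFst k X K)
  exact ⟨((GrothLib.DerTrunc.homologyMapIso _ _).app _).symm ≪≫
    (DerivedCategory.homologyFunctor _ (-((1 : ℕ) : ℤ))).mapIso ((l.app _).symm ≪≫ e)⟩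

end Groth.Agent.S6576
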