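import Groth.Statements.S6577
import Groth.Agent.Lib.CurveSerre11.Numbers
import Groth.Agent.Lib.FormalFn.Push
import Groth.Agent.Lib.ChangeRings20.Basic
import Groth.Agent.Lib.LM28.HomIso
import Groth.Agent.Lib.LeffAmp7.Stalks
import Groth.Agent.Lib.VA.QCohPullback
import Groth.Agent.Lib.FormalExist7.Projective

set_option autoImplicit false
universe u
open CategoryTheory CategoryTheory.Limits AlgebraicGeometry
attribute [local instance] HasDerivedCategory.standard
open Curves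

namespace Groth.Agent.S6577

set_option backward.isDefEq.respectTransparency false
set_option maxHeartbeats 1000000

theorem core {k : Type u} [Field k] {X Y : Scheme.{u}} [X.Over (Spec (CommRingCat.of k))] [Y.Over (Spec (CommRingCat.of k))]
    [IsProper (X ↘ (Spec (CommRingCat.of k)))] [IsProper (Y ↘ (Spec (CommRingCat.of k)))]
    (i : Y ⟶ X) [IsClosedImmersion i] (hi : (Y ↘ Spec (CommRingCat.of k)) = i ≫ (X ↘ Spec (CommRingCat.of k)))
    [DCoh.HasRpush (X ↘ (Spec (CommRingCat.of k)))] (h : DCoh.RpushPreservesQCoh (X ↘ (Spec (CommRingCat.of k)))) [DCoh.HasShriek (X ↘ (Spec (CommRingCat.of k))) h]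
    [DCoh.HasRpush (Y ↘ (Spec (CommRingCat.of k)))] (hY : DCoh.RpushPreservesQCoh (Y ↘ (Spec (CommRingCat.of k)))) [DCoh.HasShriek (Y ↘ (Spec (CommRingCat.of k))) hY]
    (OY : DCoh.DQCoh (Spec (CommRingCat.of k))) (hOY : Nonempty (OY.obj ≅ DCoh.inD (Spec (CommRingCat.of k)) (Coh.structureModule (Spec (CommRingCat.of k)))))
    (hdim : topologicalKrullDim X ≤ 1) (hdY : topologicalKrullDim Y ≤ 1)
    (N : Y.Modules) (hN : Coh.IsQCoh N) (adjR : X.Modules ⥤ Y.Modules) (adj : Scheme.Modules.pushforward i ⊣ adjR)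
    (eN : N ≅ adjR.obj (DCoh.dualizingMod (X ↘ (Spec (CommRingCat.of k))) h OY 1)) :
    Nonempty (DCoh.dualizingMod (Y ↘ (Spec (CommRingCat.of k))) hY OY 1 ≅ N) := by
  haveI : IsAffineHom i := inferInstance
  haveI := GrothLib.Euler.isNoetherian_of_proper (X := X) k
  haveI := GrothLib.Euler.isNoetherian_of_proper (X := Y) k
  obtain ⟨t, ht⟩ := GrothLib.CurveSerre11.exists_trace h OY hOY hdim
  obtain ⟨tY, htY⟩ := GrothLib.CurveSerre11.exists_trace hY OY hOY hdY
  obtain ⟨e, he⟩ := GrothLib.FormalFn.exists_push_linearEquiv (A := k) i hi 1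
  generalize hW : DCoh.dualizingMod (X ↘ (Spec (CommRingCat.of k))) h OY 1 = W at eN
  subst hW
  let W := DCoh.dualizingMod (X ↘ (Spec (CommRingCat.of k))) h OY 1
  let ωY := DCoh.dualizingMod (Y ↘ (Spec (CommRingCat.of k))) hY OY 1
  have hω : Coh.IsQCoh ωY := GrothLib.CurveSerre11.isQCoh_omega hY OY hOY
  have hpω : Coh.IsQCoh ((Scheme.Modules.pushforward i).obj ωY) :=
    (GrothLib.FormalExist7.isCoh_pushforward i (GrothLib.CurveSerre11.isCoh_omega hY OY hOY)).1
  haveI hN' : N.IsQuasicoherent := hN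
  have hpN : Coh.IsQCoh ((Scheme.Modules.pushforward i).obj N) := GrothLib.QCoh.isQuasicoherent_pushforward i N
  let cu : (Scheme.Modules.pushforward i).obj N ⟶ W := (adj.homEquiv N W).symm eN.hom
  let ψ : Coh.HH Y N 1 →ₗ[k] k := t ∘ₗ GrothLib.Cohom.hhMap k cu 1 ∘ₗ (e N hN).toLinearMap
  let a : N ⟶ ωY := GrothLib.CurveSerre11.homOf htY hN ψ
  let τ : (Scheme.Modules.pushforward i).obj ωY ⟶ W :=
    GrothLib.CurveSerre11.homOf ht hpω (tY ∘ₗ (e ωY hω).symm.toLinearMap)
  let b : ωY ⟶ N := adj.homEquiv ωY W τ ≫ eN.inv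
  have hb : (Scheme.Modules.pushforward i).map b ≫ cu = τ := by
    show (Scheme.Modules.pushforward i).map b ≫ (adj.homEquiv N W).symm eN.hom = τ
    rw [← Adjunction.homEquiv_naturality_left_symm]
    show (adj.homEquiv ωY W).symm ((adj.homEquiv ωY W τ ≫ eN.inv) ≫ eN.hom) = τ
    rw [Category.assoc, Iso.inv_hom_id, Category.comp_id, Equiv.symm_apply_apply]
  have hτ : ∀ y, t (GrothLib.Cohom.hhMap k τ 1 y) = tY ((e ωY hω).symm y) := fun y =>
    (GrothLib.CurveSerre11.homOf_spec ht hpω _ y).symm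
  have ha : ∀ x, tY (GrothLib.Cohom.hhMap k a 1 x) = t (GrothLib.Cohom.hhMap k cu 1 (e N hN x)) := fun x =>
    (GrothLib.CurveSerre11.homOf_spec htY hN ψ x).symm
  have h1 : b ≫ a = 𝟙 ωY := by
    refine (htY ωY hω tY).unique (fun x => ?_) (fun x => ?_)
    · show tY x = tY (GrothLib.Cohom.hhMap k (b ≫ a) 1 x)
      have h2 : e N hN (GrothLib.Cohom.hhMap k b 1 x) =
          GrothLib.Cohom.hhMap k ((Scheme.Modules.pushforward i).map b) 1 (e ωY hω x) := he b hω hN x
      rw [GrothLib.CurveSerre11.hmap_comp, ha, h2, ← GrothLib.CurveSerre11.hmap_comp, hb, hτ, LinearEquiv.symm_apply_apply]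
    · show tY x = tY (GrothLib.Cohom.hhMap k (𝟙 ωY) 1 x)
      rw [GrothLib.Euler.hhMap_id]
  have h3 : (Scheme.Modules.pushforward i).map (a ≫ b) ≫ cu = cu := by
    rw [Functor.map_comp, Category.assoc, hb]
    refine (ht _ hpN (t ∘ₗ GrothLib.Cohom.hhMap k cu 1)).unique (fun y => ?_) (fun y => rfl)
    show t (GrothLib.Cohom.hhMap k cu 1 y) = t (GrothLib.Cohom.hhMap k ((Scheme.Modules.pushforward i).map a ≫ τ) 1 y)
    obtain ⟨x, rfl⟩ := (e N hN).surjective y
    have h2 : e ωY hω (GrothLib.Cohom.hhMap k a 1 x) =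
        GrothLib.Cohom.hhMap k ((Scheme.Modules.pushforward i).map a) 1 (e N hN x) := he a hN hω x
    rw [GrothLib.CurveSerre11.hmap_comp, ← h2, hτ, LinearEquiv.symm_apply_apply, ha]
  have h4 : a ≫ b = 𝟙 N := by
    have h5 := congrArg (adj.homEquiv N W) h3
    rw [Adjunction.homEquiv_naturality_left, show adj.homEquiv N W cu = eN.hom from Equiv.apply_symm_apply _ _] at h5
    exact (cancel_mono eN.hom).1 (h5.trans (Category.id_comp _).symm)
  exact ⟨⟨b, a, h1, h4⟩⟩


/-- Let X be proper over the field k of dimension ≤ 1, i : Y → X a closed immersion, and ω_X, ω_Y the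
dualizing modules of X and of Y over k (degree -1 cohomology sheaves of the shriek of O for the
structure morphisms, assuming the derived pushforwards on D_QCoh and their right adjoints exist).
Then i_*ω_Y ≅ Hom_{O_X}(i_*O_Y, ω_X), where the sheaf Hom is taken as the right adjoint of i_*O_Y ⊗
− (assumed to exist). (Existence of an isomorphism only.) -/
theorem result (k : Type u) [Field k] (X : Scheme.{u}) [X.Over (Spec (CommRingCat.of k))] [IsProper (X ↘ (Spec (CommRingCat.of k)))] (hdim : topologicalKrullDim X ≤ 1)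
    [DCoh.HasRpush (X ↘ (Spec (CommRingCat.of k)))] (h : DCoh.RpushPreservesQCoh (X ↘ (Spec (CommRingCat.of k)))) [DCoh.HasShriek (X ↘ (Spec (CommRingCat.of k))) h]
    (OY : DCoh.DQCoh (Spec (CommRingCat.of k))) (hOY : Nonempty (OY.obj ≅ DCoh.inD (Spec (CommRingCat.of k)) (Coh.structureModule (Spec (CommRingCat.of k)))))
    {Y : Scheme.{u}} (i : Y ⟶ X) [IsClosedImmersion i]
    [DCoh.HasRpush (i ≫ (X ↘ (Spec (CommRingCat.of k))))] (hY : DCoh.RpushPreservesQCoh (i ≫ (X ↘ (Spec (CommRingCat.of k))))) [DCoh.HasShriek (i ≫ (X ↘ (Spec (CommRingCat.of k)))) hY]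
    [DCoh.HasSheafHom ((Coh.push i).obj (Coh.structureModule Y))] :
    Nonempty ((Coh.push i).obj (DCoh.dualizingMod (i ≫ (X ↘ (Spec (CommRingCat.of k)))) hY OY 1) ≅
      (DCoh.sheafHom ((Coh.push i).obj (Coh.structureModule Y))).obj (DCoh.dualizingMod (X ↘ (Spec (CommRingCat.of k))) h OY 1)) := by
  letI : Y.Over (Spec (CommRingCat.of k)) := ⟨i ≫ (X ↘ (Spec (CommRingCat.of k)))⟩
  haveI : IsProper (Y ↘ (Spec (CommRingCat.of k))) := show IsProper (i ≫ (X ↘ (Spec (CommRingCat.of k)))) from inferInstance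
  haveI := GrothLib.Euler.isNoetherian_of_proper (X := X) k
  haveI := GrothLib.Euler.isNoetherian_of_proper (X := Y) k
  let W := DCoh.dualizingMod (X ↘ (Spec (CommRingCat.of k))) h OY 1
  have hW : Coh.IsCoh W := GrothLib.CurveSerre11.isCoh_omega h OY hOY
  let O' := (Scheme.Modules.pushforward i).obj (Coh.structureModule Y)
  haveI : DCoh.HasSheafHom O' := ‹DCoh.HasSheafHom ((Coh.push i).obj (Coh.structureModule Y))›
  have hO : Coh.IsCoh O' := GrothLib.FormalExist7.isCoh_pushforward i (GrothLib.HomSh.isCoh_structureModule Y)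
  haveI : ModSite.HasSheafHom (O := Y.sheaf) (Coh.structureModule Y) := GrothLib.SheafCoh.hasSheafHom Y.sheaf _
  haveI : ModSite.HasSheafHom (O := X.sheaf) ((Scheme.Modules.pushforward i).obj (Coh.structureModule Y)) :=
    GrothLib.SheafCoh.hasSheafHom X.sheaf _
  let N := (GrothLib.ChangeRings20.Φ i (Coh.structureModule Y)).obj W
  let eK : (Scheme.Modules.pushforward i).obj N ≅ (DCoh.sheafHom O').obj W :=
    (GrothLib.ChangeRings20.ΦPushIso i (Coh.structureModule Y)).app W ≪≫ (GrothLib.LocFreeDual20.siteHomIso O').app W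
  obtain ⟨eh⟩ := GrothLib.LM28.nonempty_homSh_iso_coh O' W hO hW
  have hK : Coh.IsCoh ((Scheme.Modules.pushforward i).obj N) :=
    GrothLib.QCoh.isCoh_of_iso (eh ≪≫ eK.symm) (GrothLib.HomSh.isCoh_homSh (GrothLib.HomSh.hasRel_of_isCoh hO) hW)
  haveI := hK.1
  haveI := GrothLib.LeffAmp7.isIso_counit_closed i N
  have hN : Coh.IsQCoh N := (SheafOfModules.isQuasicoherent.{u} Y.ringCatSheaf).prop_of_iso
    (asIso ((Scheme.Modules.pullbackPushforwardAdjunction i).counit.app N)) (GrothLib.VA.isQCoh_pullback i hK.1)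
  haveI := GrothLib.LocFreeHom.hasSheafHom (Coh.structureModule Y)
  obtain ⟨u1⟩ := GrothLib.LocFreeHom.nonempty_iHom_unit_iso ((GrothLib.ChangeRings20.shriek i).obj W)
  let eN : N ≅ (GrothLib.ChangeRings20.shriek i).obj W :=
    (GrothLib.LocFreeDual20.siteHomIso (Coh.structureModule Y)).app ((GrothLib.ChangeRings20.shriek i).obj W) ≪≫ u1
  haveI : DCoh.HasRpush (Y ↘ (Spec (CommRingCat.of k))) := ‹DCoh.HasRpush (i ≫ (X ↘ (Spec (CommRingCat.of k))))›
  haveI : DCoh.HasShriek (Y ↘ (Spec (CommRingCat.of k))) hY := ‹DCoh.HasShriek (i ≫ (X ↘ (Spec (CommRingCat.of k)))) hY›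
  obtain ⟨φ⟩ := core i rfl h hY OY hOY hdim ((i.isClosedEmbedding.isInducing.topologicalKrullDim_le).trans hdim)
    N hN _ (GrothLib.ChangeRings20.shriekAdj i) eN
  exact ⟨(Scheme.Modules.pushforward i).mapIso φ ≪≫ eK⟩

end Groth.Agent.S6577
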