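import Groth.Statements.S6578
import Groth.Agent.Lib.Algz56.Embedding
import Groth.Agent.Lib.Ample.ProjSections
import Groth.Agent.Lib.CurveRR.Main
import Groth.Agent.Lib.CurveRR.Setup
import Groth.Agent.Lib.CurveRR.DivSheaf

set_option autoImplicit false
universe u
open CategoryTheory CategoryTheory.Limits AlgebraicGeometry
open Curves

namespace Groth.Agent.S6578

open GrothLib.CurveRR (CP place oD oval oval_ext oval_bound mkSec incl)
open WithZero

theorem oval_zero (k : Type u) [Field k] {X : Scheme.{u}} [IsIntegral X] [GrothLib.CurveRR.RegCurve X]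
    [X.Over (Spec (CommRingCat.of k))] [IsProper (X ↘ Spec (CommRingCat.of k))] {D : _root_.FunFld.Divisor k X.functionField} {V : X.Opens}
    (hV : genericPoint X ∈ V) : oval k (0 : Γ(oD k D, V)) hV = 0 := by
  have h := GrothLib.CurveRR.oval_add (k := k) (0 : Γ(oD k D, V)) 0 hV
  rw [add_zero] at h
  exact left_eq_add.1 h

set_option backward.isDefEq.respectTransparency false


/-- Let k be a field and X a proper curve over k all of whose local rings are regular (X integral,
proper, of dimension one), and let (L, V) be a g^r_d on X, given by an invertible module L of degree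
d and an ordered basis s_0, …, s_r of V ⊆ Γ(X, L) (k-linearly independent global sections). Then
there exist a morphism φ : X → P^r_k = Proj k[T_0, …, T_r] over k and a map α : φ^*O(1) → L sending
φ^*T_i to s_i for each i (so φ^*T_0, …, φ^*T_r go to a basis of V). -/
theorem result (k : Type u) [Field k] (X : Scheme.{u}) [X.Over (Spec (CommRingCat.of k))]
    [IsIntegral X] [IsProper (X ↘ (Spec (CommRingCat.of k)))] (hdim : topologicalKrullDim X = 1) (hreg : ∀ x : X, IsRegularLocalRing (X.presheaf.stalk x))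
    (d r : ℕ) (L : X.Modules) (s : Fin (r + 1) → LinSer.Sect X L) (hL : LinSer.IsLinSer k X L d r s) :
    ∃ (φ : X ⟶ CohB1.ProjSpace r k) (α : (Scheme.Modules.pullback φ).obj (Twist.twistProjSpace r k 1) ⟶ L),
      φ ≫ CohB1.ProjSpace.toSpec r k = X ↘ (Spec (CommRingCat.of k)) ∧
        ∀ i : Fin (r + 1), (α.val.app (Opposite.op ⊤)).hom (OmegaSh.pullSect φ (Twist.twistProjSpace r k 1) ⊤ (Twist.globalOf (CohB1.polyGrading r k) (⟨MvPolynomial.X i, MvPolynomial.isHomogeneous_X k i⟩ : (CohB1.polyGrading r k) 1))) = s i := by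
  classical
  haveI := GrothLib.Euler.isNoetherian_of_proper (X := X) k
  haveI := GrothLib.CurveRR.regCurve_of_regular (k := k) hdim hreg
  obtain ⟨hinv, -, hli⟩ := hL
  obtain ⟨D, ⟨e⟩⟩ := GrothLib.CurveRR.exists_iso_oD k hinv
  have hη : genericPoint X ∈ (⊤ : X.Opens) := trivial
  let σ : Fin (r + 1) → Γ(oD k D, ⊤) := fun i => e.hom.app ⊤ (s i)
  let f : Fin (r + 1) → X.functionField := fun i => oval k (σ i) hη
  have hf0 : ∀ i, f i ≠ 0 := by
    intro i h
    have h1 : σ i = 0 := oval_ext fun hV => h.trans (oval_zero k hV).symm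
    have h2 : s i = 0 := by
      have := congrArg (e.inv.app ⊤) h1
      rw [map_zero] at this
      exact (congrArg (fun χ : L ⟶ L => χ.app ⊤ (s i)) e.hom_inv_id).symm.trans this
    have h3 := hli (Pi.single i 1) (by
      rw [Finset.sum_eq_single i (fun j _ hj => by rw [Pi.single_eq_of_ne hj, map_zero, zero_smul])
        (fun hi => absurd (Finset.mem_univ i) hi), h2, smul_zero])
    exact one_ne_zero (α := k) (by simpa using congrFun h3 i)
  have hne : (Finset.univ : Finset (Fin (r + 1))).Nonempty := Finset.univ_nonempty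
  let E : _root_.FunFld.Divisor k X.functionField := Finsupp.ofSupportFinite
    (fun P => Finset.univ.sup' hne fun i => -P.ord (f i))
    ((Set.finite_iUnion fun i => (GrothLib.CurveRR.isFG k).finite_support_ord (f i)).subset fun P hP => by
      obtain ⟨i, -, hi⟩ := Finset.exists_mem_eq_sup' hne fun i => -P.ord (f i)
      rw [Function.mem_support, hi] at hP
      exact Set.mem_iUnion.2 ⟨i, fun h0 => hP (neg_eq_zero.2 h0)⟩)
  have hfE : ∀ i (x : CP X), (place k x).1 (f i) ≤ exp (E (place k x)) := fun i x => by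
    rw [GrothLib.FunFld.val_eq (place k x) (hf0 i), exp_le_exp]
    exact Finset.le_sup' (fun i => -(place k x).ord (f i)) (Finset.mem_univ i)
  have hED : E ≤ D := fun P => by
    obtain ⟨x, rfl⟩ := GrothLib.CurveRR.place_surjective (k := k) (X := X) P
    refine Finset.sup'_le hne _ fun i _ => ?_
    have h := oval_bound (σ i) x trivial
    change (place k x).1 (f i) ≤ exp (D (place k x)) at h
    rw [GrothLib.FunFld.val_eq (place k x) (hf0 i), exp_le_exp] at h
    exact h
  let t : Fin (r + 1) → ProjUP.Γm (oD k E) := fun i => mkSec k E ⊤ (f i) fun x _ => hfE i x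
  have hgen : ProjUP.GeneratedBy (oD k E) t := GrothLib.Algz56.generatedBy_of_isGen t fun y => by
    obtain ⟨i, hi⟩ : ∃ i, ∀ hy : y ≠ genericPoint X,
        E (place k (⟨y, hy⟩ : CP X)) = -(place k (⟨y, hy⟩ : CP X)).ord (f i) := by
      by_cases hy : y = genericPoint X
      · exact ⟨hne.choose, fun h => absurd hy h⟩
      · obtain ⟨i, -, hi⟩ := Finset.exists_mem_eq_sup' hne fun i => -(place k (⟨y, hy⟩ : CP X)).ord (f i)
        exact ⟨i, fun _ => hi⟩
    obtain ⟨V, hV⟩ := GrothLib.CurveRR.exists_open_avoiding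
      ((GrothLib.CurveRR.finite_bad k E (f i)).subset
        (show {x : CP X | E (place k x) ≠ -(place k x).ord (f i)} ⊆ _ from fun x hx => by
          by_contra h
          simp only [Set.mem_setOf_eq, not_or, not_not] at h hx
          exact hx (by rw [h.1, h.2, neg_zero])))
    refine ⟨i, V, (hV y).2 fun z hz hzy => ?_, ?_⟩
    · subst hzy
      exact hz (hi z.2)
    · exact GrothLib.CurveRR.isGen_mkSec k E V (f i) (hf0 i) fun x hx => by
        rw [GrothLib.FunFld.val_eq (place k x) (hf0 i)]
        congr 1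
        by_contra h
        exact (hV x.1).1 hx x (fun h' => h h'.symm) rfl
  obtain ⟨c, ⟨ec⟩⟩ := GrothLib.Ample.exists_cocycle (GrothLib.CurveRR.isInvertible_oD k E)
  obtain ⟨φ, hφ, τ, hτ⟩ := GrothLib.Ample.ProjMap.exists_toProjSpace c ec t
    (c.iSup_locus_of_generatedBy ec t hgen) (X ↘ Spec (CommRingCat.of k))
  refine ⟨φ, τ.hom ≫ incl hED ≫ e.inv, hφ, fun i => ?_⟩
  have h1 : (incl hED).app ⊤ (t i) = σ i := oval_ext fun hV => rfl
  show e.inv.app ⊤ ((incl hED).app ⊤ (τ.hom.app ⊤
    (ProjUP.pullSec φ (Twist.twistProjSpace r k 1) (ProjUP.coord r k i)))) = s i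
  rw [hτ, h1]
  exact congrArg (fun χ : L ⟶ L => χ.app ⊤ (s i)) e.hom_inv_id

end Groth.Agent.S6578
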