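import Groth.Statements.S6579
import Groth.Agent.Lib.CurveMult.P1Split
import Groth.Agent.Lib.Ample.ProjSections
import Groth.Agent.Lib.AmpleDesc.Sections
import Groth.Agent.Lib.Euler.InvHom
import Groth.Agent.Lib.GrTilde.Amp
import Groth.Agent.S7640
import Groth.Agent.Lib.Kleiman.Kleiman

set_option autoImplicit false
universe u
open CategoryTheory CategoryTheory.Limits AlgebraicGeometry
open Curves

namespace Groth.Agent.S6579

open TopologicalSpace

/-- The residue map of a local ring which is a field is bijective. -/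
theorem bijective_residue {R : Type u} [CommRing R] [IsLocalRing R] (h : IsField R) :
    Function.Bijective (IsLocalRing.residue R) := by
  refine ⟨(injective_iff_map_eq_zero _).2 fun a ha => ?_, IsLocalRing.residue_surjective⟩
  rw [IsLocalRing.residue_eq_zero_iff, IsLocalRing.isField_iff_maximalIdeal_eq.1 h] at ha
  exact ha

/-- Pullback of global sections is natural. -/
theorem pullSec_natural {X Y : Scheme.{u}} (φ : X ⟶ Y) {M : Y.Modules} (P : GrothLib.Ample.Cocycle Y)
    (a : M ≅ P.twist 1) (θ : (Scheme.Modules.pullback φ).obj (P.twist 1) ≅ (P.comap φ).twist 1)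
    (hθ : ∀ (U : Y.Opens) (V : X.Opens) (e : V ≤ φ ⁻¹ᵁ U) (t : P.sect 1 U),
      θ.hom.app V (GrothLib.BCCoh.pullRes φ (P.twist 1) U V e t) = P.pullSect φ e t) (m : ProjUP.Γm M) :
    ((Scheme.Modules.pullback φ).mapIso a ≪≫ θ).hom.app ⊤ (ProjUP.pullSec φ M m) =
      P.pullSect φ (le_top : (⊤ : X.Opens) ≤ φ ⁻¹ᵁ ⊤) (a.hom.app ⊤ m) := by
  refine Eq.trans ?_ (hθ ⊤ ⊤ le_top (a.hom.app ⊤ m))
  show θ.hom.app ⊤ (((Scheme.Modules.pullback φ).map a.hom).app ⊤ (ProjUP.pullSec φ M m)) = _
  congr 1
  refine Eq.trans (congrArg (fun f : M ⟶ (Scheme.Modules.pushforward φ).obj ((Scheme.Modules.pullback φ).obj (P.twist 1)) => f.app ⊤ m)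
    ((Scheme.Modules.pullbackPushforwardAdjunction φ).unit.naturality a.hom).symm) ?_
  exact (GrothLib.InvExt.mres_self _ _).symm

set_option backward.isDefEq.respectTransparency false


/-- Let k be a field and X a proper curve over k all of whose local rings are regular (X integral,
proper, of dimension one), (L, V) a g^1_d on X with ordered basis s_0, s_1 of V, and φ : X → P^1_k a
morphism over k together with α : φ^*O(1) → L sending φ^*T_i to s_i (the morphism attached to the
linear series). Then either (1) φ is nonconstant and has degree at most d — here: φ does not factor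
through a closed point, and k(X) has dimension at most d over the local ring of P^1_k at the image
of the generic point of X (that image is then the generic point, so this is [k(X) : k(P^1_k)] ≤ d) —
or (2) φ maps X (set-theoretically) to a single closed point of P^1_k, and in that case H^0(X, O_X)
is bigger than k. -/
theorem result (k : Type u) [Field k] (X : Scheme.{u}) [X.Over (Spec (CommRingCat.of k))]
    [IsIntegral X] [IsProper (X ↘ (Spec (CommRingCat.of k)))] (hdim : topologicalKrullDim X = 1) (hreg : ∀ x : X, IsRegularLocalRing (X.presheaf.stalk x))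
    (d : ℕ) (L : X.Modules) (s : Fin (1 + 1) → LinSer.Sect X L) (hL : LinSer.IsLinSer k X L d 1 s)
    (φ : X ⟶ CohB1.ProjSpace 1 k) (α : (Scheme.Modules.pullback φ).obj (Twist.twistProjSpace 1 k 1) ⟶ L)
    (hφ : φ ≫ CohB1.ProjSpace.toSpec 1 k = X ↘ (Spec (CommRingCat.of k)) ∧
        ∀ i : Fin (1 + 1), (α.val.app (Opposite.op ⊤)).hom (OmegaSh.pullSect φ (Twist.twistProjSpace 1 k 1) ⊤ (Twist.globalOf (CohB1.polyGrading 1 k) (⟨MvPolynomial.X i, MvPolynomial.isHomogeneous_X k i⟩ : (CohB1.polyGrading 1 k) 1))) = s i) :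
    ((¬ ∃ p : CohB1.ProjSpace 1 k, IsClosed ({p} : Set (CohB1.ProjSpace 1 k)) ∧ Set.range φ ⊆ {p}) ∧
      (letI := (φ.stalkMap (genericPoint X)).hom.toAlgebra
       Module.finrank ((CohB1.ProjSpace 1 k).presheaf.stalk (φ (genericPoint X))) X.functionField ≤ d)) ∨
    ((∃ p : CohB1.ProjSpace 1 k, IsClosed ({p} : Set (CohB1.ProjSpace 1 k)) ∧ Set.range φ ⊆ {p}) ∧
      Module.finrank k (Coh.HH X (Coh.structureModule X) 0) ≠ 1) := by
  classical
  letI := GrothLib.CurveMult.P1Split.overP1 k
  haveI : IsIntegral (CohB1.ProjSpace 1 k) := GrothLib.ProjDim.isIntegral_proj k 1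
  haveI := GrothLib.Euler.isNoetherian_of_proper (X := X) k
  obtain ⟨hinv, hdeg, hli⟩ := hL
  obtain ⟨hφs, hα⟩ := hφ
  have hne : ∀ (a b : k), Coh.toGlobal (X ↘ Spec (CommRingCat.of k)) a • s 0 +
      Coh.toGlobal (X ↘ Spec (CommRingCat.of k)) b • s 1 = 0 → a = 0 ∧ b = 0 := by
    intro a b h
    have h' := hli ![a, b] (by rw [Fin.sum_univ_two]; exact h)
    exact ⟨congrFun h' 0, congrFun h' 1⟩
  have hs0 : ∀ i, s i ≠ 0 := by
    intro i h
    fin_cases i
    · exact one_ne_zero (hne 1 0 (by simp_all)).1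
    · exact one_ne_zero (hne 0 1 (by simp_all)).2
  have hs0' : s 0 ≠ 0 := hs0 0
  have hαne : α ≠ 0 := by
    rintro rfl
    exact hs0' ((hα 0).symm.trans rfl)
  have hclη : ∀ y : CohB1.ProjSpace 1 k, IsClosed ({y} : Set (CohB1.ProjSpace 1 k)) →
      y ≠ genericPoint (CohB1.ProjSpace 1 k) := fun y hy h =>
    GrothLib.CurvePoints.genericPoint_not_isClosed (GrothLib.CurveMult.P1Split.dim_P1 k) (h ▸ hy)
  by_cases hgp : φ (genericPoint X) = genericPoint (CohB1.ProjSpace 1 k)
  · left
    refine ⟨?_, ?_⟩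
    · rintro ⟨p, hp, hr⟩
      exact hclη p hp ((hr ⟨_, rfl⟩ : φ (genericPoint X) = p).symm.trans hgp)
    have hO := GrothLib.CurveMult.P1Split.inv_O1 k 1
    have hd := Groth.Agent.S7640.result k X (CohB1.ProjSpace 1 k) hdim (GrothLib.CurveMult.P1Split.dim_P1 k) φ hφs hgp
      1 _ (GrothLib.Euler.isFinLocFreeOfRank_one' hO)
    rw [GrothLib.CurveMult.P1Split.deg_O1, mul_one] at hd
    obtain ⟨m, hm, -⟩ := GrothLib.Euler.deg_le_of_ne_zero k hdim.le (GrothLib.Kleiman.isInv_pullback φ hO) hinv hαne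
    rw [hdeg, hd] at hm
    have hle : φ.residueDegree (genericPoint X) ≤ d := by omega
    refine le_trans (le_of_eq ?_) hle
    letI := (φ.stalkMap (genericPoint X)).hom.toAlgebra
    letI := (φ.residueFieldMap (genericPoint X)).hom.toAlgebra
    have hfY : IsField ((CohB1.ProjSpace 1 k).presheaf.stalk (φ (genericPoint X))) := by
      rw [hgp]
      exact GrothLib.CurvePoints.isField_stalk_genericPoint
    have hfX : IsField (X.presheaf.stalk (genericPoint X)) := GrothLib.CurvePoints.isField_stalk_genericPoint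
    show Module.finrank _ (X.presheaf.stalk (genericPoint X)) =
      Module.finrank ((CohB1.ProjSpace 1 k).residueField (φ (genericPoint X))) (X.residueField (genericPoint X))
    refine Algebra.finrank_eq_of_equiv_equiv (RingEquiv.ofBijective _ (bijective_residue hfY))
      (RingEquiv.ofBijective _ (bijective_residue hfX)) ?_
    exact RingHom.ext fun a => (congrArg (fun χ => χ.hom a) (Scheme.residue_residueFieldMap φ (genericPoint X)))
  · right
    have hp : IsClosed ({φ (genericPoint X)} : Set (CohB1.ProjSpace 1 k)) :=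
      GrothLib.CurvePoints.isClosed_singleton (GrothLib.CurveMult.P1Split.dim_P1 k).le hgp
    have hall : ∀ x : X, φ x = φ (genericPoint X) := fun x => Set.mem_singleton_iff.1
      ((((genericPoint_spec X).specializes trivial).map φ.continuous).mem_closed hp (Set.mem_singleton _))
    refine ⟨⟨_, hp, by rintro _ ⟨x, rfl⟩; exact hall x⟩, fun h0 => ?_⟩
    obtain ⟨j, hj⟩ := Opens.mem_iSup.1 ((GrothLib.Ample.ProjMap.iSup_basicOpen_X 1 k).ge
      (Opens.mem_top (φ (genericPoint X))))
    let O := Twist.twistProjSpace 1 k 1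
    let P := GrothLib.Ample.ProjMap.pcoc 1 k
    let u : Fin 2 → P.sect 1 ⊤ := fun i =>
      (GrothLib.Ample.ProjMap.pcocIso 1 k).hom.app ⊤ (ProjUP.coord 1 k i)
    let w : Fin 2 → (P.comap φ).sect 1 ⊤ := fun i => P.pullSect φ (le_top : (⊤ : X.Opens) ≤ φ ⁻¹ᵁ ⊤) (u i)
    have hloc : ∀ x : X, x ∈ (P.comap φ).locus (w j) := fun x => by
      rw [P.locus_pullSect φ (u j)]
      show φ x ∈ P.locus (u j)
      rw [show P.locus (u j) = Proj.basicOpen (CohB1.polyGrading 1 k) (MvPolynomial.X j) from
        GrothLib.GrTilde.locus_eq_basicOpen (𝒜 := CohB1.polyGrading 1 k) (N := 1) GrothLib.CMReg.h1 _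
          (GrothLib.Ample.ProjMap.pcocIso 1 k) (GrothLib.Ample.ProjMap.X_mem _), hall x]
      exact hj
    -- all global functions are constants
    let φk : k →+* Γ(X, ⊤) := Coh.toGlobal (X ↘ Spec (CommRingCat.of k))
    have hconst : ∀ g : Γ(X, ⊤), ∃ c : k, φk c = g := by
      letI : Algebra k Γ(X, ⊤) := φk.toAlgebra
      have e : Coh.HH X (Coh.structureModule X) 0 ≃ₗ[k] Γ(X, ⊤) :=
        { GrothLib.ProjCoh.H0top (Coh.structureModule X) with
          map_smul' := fun a x => GrothLib.ProjCoh.H0top_smul (Coh.structureModule X) a x }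
      have h1 : Module.finrank k Γ(X, ⊤) = 1 := e.finrank_eq.symm.trans h0
      intro g
      obtain ⟨c, hc⟩ := (finrank_eq_one_iff_of_nonzero' (1 : Γ(X, ⊤)) one_ne_zero).1 h1 g
      exact ⟨c, by rw [← hc, Algebra.smul_def, mul_one]; rfl⟩
    obtain ⟨g, hg, -⟩ := (P.comap φ).exists_ratio (w j) (w (1 - j))
    have hT : (⊤ : X.Opens) ≤ (P.comap φ).locus (w j) := fun x _ => hloc x
    obtain ⟨c, hc⟩ := hconst (X.presheaf.map (homOfLE hT).op g)
    have hw : w (1 - j) = φk c • w j := by
      have h1 := congrArg ((P.comap φ).sectRes hT) hg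
      rw [(P.comap φ).sectRes_smul, (P.comap φ).sectRes_sectRes, (P.comap φ).sectRes_sectRes] at h1
      refine Eq.trans ?_ (h1.trans ?_)
      · exact ((P.comap φ).sect_ext fun i => GrothLib.Ample.res_self _ _).symm
      · rw [hc]
        exact congrArg (_ • ·) ((P.comap φ).sect_ext fun i => GrothLib.Ample.res_self _ _)
    -- transport to `φ^* O(1)` and then to `L`
    obtain ⟨θ, hθ⟩ := P.exists_pullback_compat φ 1
    let τ : (Scheme.Modules.pullback φ).obj O ≅ (P.comap φ).twist 1 :=
      (Scheme.Modules.pullback φ).mapIso (GrothLib.Ample.ProjMap.pcocIso 1 k) ≪≫ θ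
    let v : Fin 2 → Γ((Scheme.Modules.pullback φ).obj O, ⊤) := fun i =>
      ProjUP.pullSec φ O (ProjUP.coord 1 k i)
    have hv : ∀ i, τ.hom.app ⊤ (v i) = w i := fun i => pullSec_natural φ P _ θ hθ _
    have hinj : Function.Injective (τ.hom.app ⊤) := fun a b hab => by
      have h1 := congrArg (τ.inv.app ⊤) hab
      have h2 : ∀ t, τ.inv.app ⊤ (τ.hom.app ⊤ t) = t := fun t => congrArg (fun χ => χ.app ⊤ t) τ.hom_inv_id
      rwa [h2, h2] at h1
    have hv' : v (1 - j) = φk c • v j := hinj (by
      rw [GrothLib.Ample.app_smul, hv, hv]; exact hw)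
    have hsv : ∀ i, α.app ⊤ (v i) = s i := hα
    have hrel : s (1 - j) = φk c • s j := by
      rw [← hsv, ← hsv, hv']
      exact GrothLib.Ample.app_smul α _ _
    fin_cases j
    · have h1 : φk (-c) • s 0 + φk 1 • s 1 = 0 := by
        change s 1 = φk c • s 0 at hrel
        rw [map_neg, map_one, one_smul, neg_smul, hrel, neg_add_cancel]
      exact one_ne_zero (hne _ _ h1).2
    · have h1 : φk 1 • s 0 + φk (-c) • s 1 = 0 := by
        change s 0 = φk c • s 1 at hrel
        rw [map_neg, map_one, one_smul, neg_smul, hrel, add_neg_cancel]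
      exact one_ne_zero (hne _ _ h1).1

end Groth.Agent.S6579
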