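import Groth.Statements.S6580
import Mathlib.Tactic.NoncommRing


set_option autoImplicit false
universe v u
open CategoryTheory CategoryTheory.Limits
open CohDer

namespace Groth.Agent.S6580

open CategoryTheory.Pretriangulated in
/-- Let (X, Y, Z, f, g, h) be a distinguished triangle of a pretriangulated category, and let a : X ⟶ X
and c : Z ⟶ Z be idempotents with h ≫ a⟦1⟧ = c ≫ h. Then there is an idempotent b : Y ⟶ Y such that
(a, b, c) is an endomorphism of the triangle. -/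
theorem result {D : Type u} [Category.{v} D] [Preadditive D] [HasZeroObject D] [HasShift D ℤ]
    [∀ n : ℤ, (shiftFunctor D n).Additive] [Pretriangulated D]
    (T : Triangle D) (hT : T ∈ distinguishedTriangles) (a : T.obj₁ ⟶ T.obj₁) (c : T.obj₃ ⟶ T.obj₃)
    (ha : a ≫ a = a) (hc : c ≫ c = c) (comm : T.mor₃ ≫ (shiftFunctor D (1 : ℤ)).map a = c ≫ T.mor₃) :
    ∃ b : T.obj₂ ⟶ T.obj₂, b ≫ b = b ∧ T.mor₁ ≫ b = a ≫ T.mor₁ ∧ T.mor₂ ≫ c = b ≫ T.mor₂ := by
  obtain ⟨b₀, h₁, h₂⟩ := Pretriangulated.complete_distinguished_triangle_morphism₂ T T hT hT a c comm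
  have hsq₁ : T.mor₁ ≫ (b₀ ≫ b₀ - b₀) = 0 := by
    rw [Preadditive.comp_sub, ← Category.assoc, h₁, Category.assoc, h₁, ← Category.assoc, ha,
      sub_self]
  have hsq₂ : (b₀ ≫ b₀ - b₀) ≫ T.mor₂ = 0 := by
    rw [Preadditive.sub_comp, Category.assoc, ← h₂, ← Category.assoc, ← h₂, Category.assoc, hc,
      sub_self]
  obtain ⟨u, hu⟩ := T.yoneda_exact₂ hT _ hsq₁
  obtain ⟨v, hv⟩ := T.coyoneda_exact₂ hT _ hsq₂
  have hnil : (b₀ ≫ b₀ - b₀) ≫ (b₀ ≫ b₀ - b₀) = 0 := by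
    conv_lhs => rw [hv]; arg 2; rw [← hv, hu]
    rw [Category.assoc, ← Category.assoc T.mor₁,
      Pretriangulated.comp_distTriang_mor_zero₁₂ _ hT, zero_comp, comp_zero]
  refine ⟨b₀ + (b₀ ≫ b₀ - b₀) - (b₀ ≫ (b₀ ≫ b₀ - b₀) + b₀ ≫ (b₀ ≫ b₀ - b₀)), ?_, ?_, ?_⟩
  · let x : CategoryTheory.End T.obj₂ := b₀
    change (x + (x * x - x) - ((x * x - x) * x + (x * x - x) * x)) *
      (x + (x * x - x) - ((x * x - x) * x + (x * x - x) * x)) =
      x + (x * x - x) - ((x * x - x) * x + (x * x - x) * x)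
    have hx : (x * x - x) * (x * x - x) = 0 := hnil
    rw [← sub_eq_zero]
    calc _ = (x * x - x) * (x * x - x) * (4 * (x * x) - 4 * x - 3) := by noncomm_ring
      _ = 0 := by rw [hx, zero_mul]
  · rw [Preadditive.comp_sub, Preadditive.comp_add, Preadditive.comp_add, reassoc_of% h₁, hsq₁,
      comp_zero, h₁]
    simp
  · rw [Preadditive.sub_comp, Preadditive.add_comp, Preadditive.add_comp, Category.assoc b₀ _ T.mor₂,
      hsq₂, comp_zero, h₂]
    simp

end Groth.Agent.S6580
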