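import Groth.Statements.S6581
-- import your own Groth.Agent.* helpers here

set_option autoImplicit false
set_option backward.isDefEq.respectTransparency false
set_option backward.defeqAttrib.useBackward true
universe v u
open CategoryTheory CategoryTheory.Limits CategoryTheory.Pretriangulated
open CohDer

namespace Groth.Agent.S6581

variable {D : Type u} [Category.{v} D] [Preadditive D] [HasZeroObject D] [HasShift D ℤ]
    [∀ n : ℤ, (shiftFunctor D n).Additive] [Pretriangulated D]

noncomputable abbrev sumT (T T' : Triangle D) : Triangle D :=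
  Triangle.mk (biprod.map T.mor₁ T'.mor₁) (biprod.map T.mor₂ T'.mor₂)
    (biprod.desc (T.mor₃ ≫ (shiftFunctor D (1 : ℤ)).map biprod.inl)
      (T'.mor₃ ≫ (shiftFunctor D (1 : ℤ)).map biprod.inr))

lemma shift_hom_ext {W X X' : D} {f g : W ⟶ (X ⊞ X')⟦(1 : ℤ)⟧}
    (h₁ : f ≫ (shiftFunctor D (1 : ℤ)).map biprod.fst = g ≫ (shiftFunctor D (1 : ℤ)).map biprod.fst)
    (h₂ : f ≫ (shiftFunctor D (1 : ℤ)).map biprod.snd = g ≫ (shiftFunctor D (1 : ℤ)).map biprod.snd) :
    f = g := by
  have e := congrArg (shiftFunctor D (1 : ℤ)).map (biprod.total (X := X) (Y := X'))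
  rw [Functor.map_add, Functor.map_comp, Functor.map_comp, CategoryTheory.Functor.map_id] at e
  rw [← Category.comp_id f, ← Category.comp_id g, ← e]
  simp only [Preadditive.comp_add, ← Category.assoc, h₁, h₂]

lemma sumT_mor₃_fst (T T' : Triangle D) :
    biprod.desc (T.mor₃ ≫ (shiftFunctor D (1 : ℤ)).map biprod.inl) (T'.mor₃ ≫ (shiftFunctor D (1 : ℤ)).map biprod.inr) ≫ (shiftFunctor D (1 : ℤ)).map biprod.fst = biprod.fst ≫ T.mor₃ := by
  apply biprod.hom_ext' <;> simp [← Functor.map_comp]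

lemma sumT_mor₃_snd (T T' : Triangle D) :
    biprod.desc (T.mor₃ ≫ (shiftFunctor D (1 : ℤ)).map biprod.inl) (T'.mor₃ ≫ (shiftFunctor D (1 : ℤ)).map biprod.inr) ≫ (shiftFunctor D (1 : ℤ)).map biprod.snd = biprod.snd ≫ T'.mor₃ := by
  apply biprod.hom_ext' <;> simp [← Functor.map_comp]

@[simps] noncomputable def piIso (X : Bool → D) : (∏ᶜ X) ≅ X true ⊞ X false where
  hom := biprod.lift (Pi.π _ true) (Pi.π _ false)
  inv := Pi.lift (Bool.rec biprod.snd biprod.fst)
  hom_inv_id := Pi.hom_ext _ _ fun b => by cases b <;> simp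
  inv_hom_id := by apply biprod.hom_ext <;> simp

lemma sumT_distinguished (T T' : Triangle D) (hT : T ∈ distinguishedTriangles)
    (hT' : T' ∈ distinguishedTriangles) : sumT T T' ∈ distinguishedTriangles := by
  let F : Bool → Triangle D := fun b => cond b T T'
  have hF : ∀ b, F b ∈ distinguishedTriangles := fun b => by cases b <;> assumption
  refine isomorphic_distinguished _ (productTriangle_distinguished F hF) _ (Iso.symm ?_)
  refine Triangle.isoMk _ _ (piIso fun b => (F b).obj₁) (piIso fun b => (F b).obj₂)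
    (piIso fun b => (F b).obj₃) ?_ ?_ ?_
  · apply biprod.hom_ext <;> simp [F]
  · apply biprod.hom_ext <;> simp [F]
  · have c := fun j => (productTriangle.π F j).comm₃
    apply shift_hom_ext
    · dsimp at c ⊢
      simp only [Category.assoc]
      rw [← Functor.map_comp, sumT_mor₃_fst]
      exact (congrArg (fun t => _ ≫ _ ≫ (shiftFunctor D (1 : ℤ)).map t) (biprod.lift_fst _ _)).trans
        (((Category.assoc _ _ _).symm.trans (c true)).trans (biprod.lift_fst_assoc _ _ _).symm)
    · dsimp at c ⊢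
      simp only [Category.assoc]
      rw [← Functor.map_comp, sumT_mor₃_snd]
      exact (congrArg (fun t => _ ≫ _ ≫ (shiftFunctor D (1 : ℤ)).map t) (biprod.lift_snd _ _)).trans
        (((Category.assoc _ _ _).symm.trans (c false)).trans (biprod.lift_snd_assoc _ _ _).symm)

@[simps] noncomputable def sumHom {A A' T T' : Triangle D} (φ : A ⟶ T) (φ' : A' ⟶ T') :
    sumT A A' ⟶ sumT T T' where
  hom₁ := biprod.map φ.hom₁ φ'.hom₁
  hom₂ := biprod.map φ.hom₂ φ'.hom₂
  hom₃ := biprod.map φ.hom₃ φ'.hom₃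
  comm₁ := by dsimp; apply biprod.hom_ext <;> simp [φ.comm₁, φ'.comm₁]
  comm₂ := by dsimp; apply biprod.hom_ext <;> simp [φ.comm₂, φ'.comm₂]
  comm₃ := by
    dsimp
    apply biprod.hom_ext'
    · simp [← Functor.map_comp, φ.comm₃_assoc]
      rw [← φ.comm₃_assoc, ← Functor.map_comp]
    · simp [← Functor.map_comp, φ'.comm₃_assoc]
      rw [← φ'.comm₃_assoc, ← Functor.map_comp]

lemma isIso_of_isIso_biprodMap {X Y X' Y' : D} (f : X ⟶ Y) (g : X' ⟶ Y')
    [IsIso (biprod.map f g)] : IsIso f ∧ IsIso g := by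
  refine ⟨⟨biprod.inl ≫ inv (biprod.map f g) ≫ biprod.fst, ?_, ?_⟩,
    ⟨biprod.inr ≫ inv (biprod.map f g) ≫ biprod.snd, ?_, ?_⟩⟩
  · rw [← biprod.inl_map_assoc (f := f) (g := g)]; simp
  · have : inv (biprod.map f g) ≫ biprod.fst ≫ f = biprod.fst := by
      rw [IsIso.inv_comp_eq, biprod.map_fst]
    simp [this]
  · rw [← biprod.inr_map_assoc (f := f) (g := g)]; simp
  · have : inv (biprod.map f g) ≫ biprod.snd ≫ g = biprod.snd := by
      rw [IsIso.inv_comp_eq, biprod.map_snd]
    simp [this]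

open CategoryTheory.Pretriangulated in
/-- Let T = (X, Y, Z, f, g, h) and T' = (X', Y', Z', f', g', h') be triangles in a pretriangulated
category. The direct sum triangle (X ⊞ X', Y ⊞ Y', Z ⊞ Z', f ⊕ f', g ⊕ g', h ⊕ h') (whose third map
Z ⊞ Z' ⟶ (X ⊞ X')⟦1⟧ has components h ≫ inl⟦1⟧ and h' ≫ inr⟦1⟧) is distinguished if and only if T
and T' are both distinguished. -/
theorem result {D : Type u} [Category.{v} D] [Preadditive D] [HasZeroObject D] [HasShift D ℤ]
    [∀ n : ℤ, (shiftFunctor D n).Additive] [Pretriangulated D]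
    (T T' : Triangle D) :
    Triangle.mk (biprod.map T.mor₁ T'.mor₁) (biprod.map T.mor₂ T'.mor₂)
        (biprod.desc (T.mor₃ ≫ (shiftFunctor D (1 : ℤ)).map biprod.inl) (T'.mor₃ ≫ (shiftFunctor D (1 : ℤ)).map biprod.inr)) ∈ distinguishedTriangles ↔
      (T ∈ distinguishedTriangles ∧ T' ∈ distinguishedTriangles) := by
  refine ⟨fun h => ?_, fun h => sumT_distinguished T T' h.1 h.2⟩
  obtain ⟨Z, g, k, hD⟩ := distinguished_cocone_triangle T.mor₁
  obtain ⟨Z', g', k', hD'⟩ := distinguished_cocone_triangle T'.mor₁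
  obtain ⟨c, hc₂, hc₃⟩ := complete_distinguished_triangle_morphism _ _ hD h biprod.inl biprod.inl
    (by dsimp; simp)
  obtain ⟨c', hc₂', hc₃'⟩ := complete_distinguished_triangle_morphism _ _ hD' h biprod.inr biprod.inr
    (by dsimp; simp)
  let φ : Triangle.mk T.mor₁ g k ⟶ T :=
    { hom₁ := 𝟙 _
      hom₂ := 𝟙 _
      hom₃ := c ≫ biprod.fst
      comm₁ := by dsimp; simp
      comm₂ := by
        have := congrArg (· ≫ biprod.fst) hc₂
        dsimp at this ⊢
        simpa using this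
      comm₃ := by
        have := congrArg (· ≫ (shiftFunctor D (1 : ℤ)).map biprod.fst) hc₃
        have e := sumT_mor₃_fst T T'
        dsimp at this e ⊢
        rw [Category.assoc, Category.assoc, e, ← Functor.map_comp, biprod.inl_fst] at this
        simpa using this }
  let φ' : Triangle.mk T'.mor₁ g' k' ⟶ T' :=
    { hom₁ := 𝟙 _
      hom₂ := 𝟙 _
      hom₃ := c' ≫ biprod.snd
      comm₁ := by dsimp; simp
      comm₂ := by
        have := congrArg (· ≫ biprod.snd) hc₂'
        dsimp at this ⊢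
        simpa using this
      comm₃ := by
        have := congrArg (· ≫ (shiftFunctor D (1 : ℤ)).map biprod.snd) hc₃'
        have e := sumT_mor₃_snd T T'
        dsimp at this e ⊢
        rw [Category.assoc, Category.assoc, e, ← Functor.map_comp, biprod.inr_snd] at this
        simpa using this }
  let ψ := sumHom φ φ'
  have h₁ : IsIso ψ.hom₁ := by
    show IsIso (biprod.map (𝟙 T.obj₁) (𝟙 T'.obj₁))
    exact (biprod.mapIso (Iso.refl T.obj₁) (Iso.refl T'.obj₁)).isIso_hom
  have h₂ : IsIso ψ.hom₂ := by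
    show IsIso (biprod.map (𝟙 T.obj₂) (𝟙 T'.obj₂))
    exact (biprod.mapIso (Iso.refl T.obj₂) (Iso.refl T'.obj₂)).isIso_hom
  have h₃ : IsIso (biprod.map φ.hom₃ φ'.hom₃) :=
    isIso₃_of_isIso₁₂ ψ (sumT_distinguished _ _ hD hD') h h₁ h₂
  obtain ⟨i₁, i₂⟩ := isIso_of_isIso_biprodMap φ.hom₃ φ'.hom₃
  have a₁ : IsIso φ.hom₁ := show IsIso (𝟙 T.obj₁) by infer_instance
  have a₂ : IsIso φ.hom₂ := show IsIso (𝟙 T.obj₂) by infer_instance
  have b₁ : IsIso φ'.hom₁ := show IsIso (𝟙 T'.obj₁) by infer_instance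
  have b₂ : IsIso φ'.hom₂ := show IsIso (𝟙 T'.obj₂) by infer_instance
  have := Triangle.isIso_of_isIsos φ a₁ a₂ i₁
  have := Triangle.isIso_of_isIsos φ' b₁ b₂ i₂
  exact ⟨isomorphic_distinguished _ hD _ (asIso φ).symm,
    isomorphic_distinguished _ hD' _ (asIso φ').symm⟩

end Groth.Agent.S6581
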