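import Groth.Statements.S6583


set_option autoImplicit false
universe v u v' u'
open CategoryTheory CategoryTheory.Limits
open CohDer

namespace Groth.Agent.S6583

open CategoryTheory.Pretriangulated in
/-- Let H : D ⥤ A be a homological functor from a pretriangulated category to an abelian category. The
full subcategory of D on the objects X with H(X⟦n⟧) = 0 for all n ≪ 0 is a strictly full
pretriangulated subcategory (zero object, stable under shifts and isomorphisms, closed under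
extensions) and is saturated: if X ⊞ Y belongs to it then so do X and Y. -/
theorem result {D : Type u} [Category.{v} D] [Preadditive D] [HasZeroObject D] [HasShift D ℤ]
    [∀ n : ℤ, (shiftFunctor D n).Additive] [Pretriangulated D]
    {A : Type u'} [Category.{v'} A] [Abelian A] (H : D ⥤ A) [H.IsHomological] :
    (ObjectProperty.IsTriangulated (fun X : D => ∃ N : ℤ, ∀ n : ℤ, n ≤ N → IsZero (H.obj ((shiftFunctor D n).obj X)))) ∧
    (ObjectProperty.IsClosedUnderIsomorphisms (fun X : D => ∃ N : ℤ, ∀ n : ℤ, n ≤ N → IsZero (H.obj ((shiftFunctor D n).obj X)))) ∧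
    (∀ X Y : D, (∃ N : ℤ, ∀ n : ℤ, n ≤ N → IsZero (H.obj ((shiftFunctor D n).obj (X ⊞ Y)))) →
      (∃ N : ℤ, ∀ n : ℤ, n ≤ N → IsZero (H.obj ((shiftFunctor D n).obj X))) ∧
      (∃ N : ℤ, ∀ n : ℤ, n ≤ N → IsZero (H.obj ((shiftFunctor D n).obj Y)))) := by
  have hret : ∀ {X Y : D} (i : X ⟶ Y) (r : Y ⟶ X), i ≫ r = 𝟙 X → ∀ n : ℤ,
      IsZero (H.obj (Y⟦n⟧)) → IsZero (H.obj (X⟦n⟧)) := by
    intro X Y i r hir n hn
    rw [IsZero.iff_id_eq_zero, ← H.map_id, ← (shiftFunctor D n).map_id, ← hir, Functor.map_comp,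
      Functor.map_comp, hn.eq_of_src (H.map (r⟦n⟧')) 0, comp_zero]
  have hiso : ObjectProperty.IsClosedUnderIsomorphisms (fun X : D => ∃ N : ℤ, ∀ n : ℤ,
      n ≤ N → IsZero (H.obj ((shiftFunctor D n).obj X))) :=
    ⟨fun e ⟨N, h⟩ => ⟨N, fun n hn => hret e.inv e.hom e.inv_hom_id n (h n hn)⟩⟩
  refine ⟨?_, hiso,
    fun X Y ⟨N, h⟩ => ⟨⟨N, fun n hn => hret biprod.inl biprod.fst biprod.inl_fst n (h n hn)⟩,
      ⟨N, fun n hn => hret biprod.inr biprod.snd biprod.inr_snd n (h n hn)⟩⟩⟩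
  exact
    { exists_zero := ⟨_, isZero_zero D, 0, fun n _ =>
        (shiftFunctor D n ⋙ H).map_isZero (isZero_zero D)⟩
      toIsStableUnderShift := ⟨fun a => ⟨fun X ⟨N, h⟩ => ⟨N - a, fun n hn =>
        (h (a + n) (by omega)).of_iso (H.mapIso ((shiftFunctorAdd D a n).app X).symm)⟩⟩⟩
      toIsTriangulatedClosed₂ := ObjectProperty.IsTriangulatedClosed₂.mk'
        fun T hT ⟨N, h⟩ ⟨M, h'⟩ => ⟨min N M, fun n hn =>
          (H.map_distinguished_exact _ (Pretriangulated.Triangle.shift_distinguished T hT n)).isZero_of_both_zeros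
            ((h n (by omega)).eq_of_src _ _) ((h' n (by omega)).eq_of_tgt _ _)⟩ }

end Groth.Agent.S6583
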