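import Groth.Statements.S6585
import Groth.Agent.Lib.TriCat.CompactHocolim

set_option autoImplicit false
universe v u
open CategoryTheory CategoryTheory.Limits
open CohDer

namespace Groth.Agent.S6585

open CategoryTheory.Pretriangulated in
/-- Let D be a triangulated category and E, K objects of D. Then Hom(E, K⟦i⟧) = 0 for all integers i if
and only if Hom(E', K) = 0 for every E' in ⟨E⟩, the smallest strictly full saturated triangulated
subcategory of D containing E (the objects obtained from E by shifts, finite direct sums, direct
summands and extensions). -/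
theorem result {D : Type u} [Category.{v} D] [Preadditive D] [HasZeroObject D] [HasShift D ℤ]
    [∀ n : ℤ, (shiftFunctor D n).Additive] [Pretriangulated D] [IsTriangulated D]
    (E K : D) :
    (∀ (i : ℤ) (f : E ⟶ (shiftFunctor D i).obj K), f = 0) ↔
      ∀ (E' : D), (ObjectProperty.singleton E).triangEnvelope E' → ∀ f : E' ⟶ K, f = 0 := by
  refine ⟨fun h E' hE' f => ?_, fun h i f => ?_⟩
  · have := GrothLib.TriCat.eq_zero_of_triangEnvelope _ K (fun Y hY n g => by
      obtain rfl := (ObjectProperty.singleton_iff _ _).1 hY
      exact h n g) hE' 0 (f ≫ (shiftFunctorZero D ℤ).inv.app K)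
    rw [← cancel_mono ((shiftFunctorZero D ℤ).inv.app K), Limits.zero_comp]
    exact this
  · apply (shiftFunctor D (-i : ℤ)).map_injective
    rw [Functor.map_zero, ← cancel_mono ((shiftFunctorCompIsoId D i (-i) (by omega)).hom.app K),
      Limits.zero_comp]
    refine h _ ?_ _
    exact (ObjectProperty.singleton E).triangEnvelope.le_shift (-i) _
      (ObjectProperty.le_triangEnvelope _ _ ((ObjectProperty.singleton_iff _ _).2 rfl))

end Groth.Agent.S6585
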