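import Groth.Statements.S6586
import Groth.Agent.Lib.TriCat.CompactHocolim

set_option autoImplicit false
universe v u
open CategoryTheory CategoryTheory.Limits
open CohDer

namespace Groth.Agent.S6586

/-- Fix a triangulated category D together with an object E in it. Suppose E classically generates D,
i.e. ⟨E⟩ = D; then E is a generator of D: an object K with Hom(E, K⟦n⟧) = 0 for all n is zero. -/
theorem result {D : Type u} [Category.{v} D] [Preadditive D] [HasZeroObject D] [HasShift D ℤ]
    [∀ n : ℤ, (shiftFunctor D n).Additive] [Pretriangulated D] [IsTriangulated D]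
    (E : D) (hE : (ObjectProperty.singleton E).IsClassicalTriangulatedGenerator) :
    CohDer.Generates (fun _ : PUnit.{1} => E) := by
  intro K hK
  rw [Limits.IsZero.iff_id_eq_zero]
  have hK' := (ObjectProperty.isClassicalTriangulatedGenerator_iff _).1 hE
  have h0 : ∀ (n : ℤ) (f : K ⟶ (shiftFunctor D n).obj K), f = 0 := fun n f =>
    GrothLib.TriCat.eq_zero_of_triangEnvelope (ObjectProperty.singleton E) K
      (fun Y hY n f => by
        obtain rfl := (ObjectProperty.singleton_iff _ _).1 hY
        exact hK PUnit.unit n f)
      (hK' ▸ trivial) n f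
  have := h0 0 ((shiftFunctorZero D ℤ).inv.app K)
  rw [← cancel_mono ((shiftFunctorZero D ℤ).inv.app K), Limits.zero_comp, Category.id_comp]
  exact this

end Groth.Agent.S6586
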