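import Groth.Statements.S6587
import Groth.Agent.Lib.ProTri.Basic

set_option autoImplicit false
universe v u
open CategoryTheory CategoryTheory.Limits Opposite
open CohDer

namespace Groth.Agent.S6587

open CategoryTheory.Pretriangulated in
/-- Let D be a triangulated category and let X_n → Y_n → Z_n → X_n⟦1⟧ be an inverse system of
distinguished triangles of D indexed by ℕ (levelwise maps f, g, h of inverse systems, each level
distinguished). If the inverse system (Z_n) is pro-zero, then the levelwise map f : (X_n) → (Y_n) is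
a pro-isomorphism. -/
theorem result {D : Type u} [Category.{v} D] [Preadditive D] [HasZeroObject D] [HasShift D ℤ]
    [∀ n : ℤ, (shiftFunctor D n).Additive] [Pretriangulated D] [IsTriangulated D]
    (X Y Z : ARSys.PS D) (f : X ⟶ Y) (g : Y ⟶ Z) (h : Z ⟶ X ⋙ shiftFunctor D (1 : ℤ))
    (hT : ∀ n : ℕ, Triangle.mk (f.app (op n)) (g.app (op n)) (h.app (op n)) ∈ distinguishedTriangles)
    (hZ : DerCA.IsProZero Z) :
    DerCA.IsProIso f := by
  obtain ⟨hh, hf⟩ : GrothLib.ProTri.Conn (fun n => h.app (op n)) ∧ True :=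
    ⟨GrothLib.ProTri.Conn.of_natTrans h, trivial⟩
  intro n
  obtain ⟨l, hnl, hl⟩ := hZ n
  obtain ⟨m, hlm, hm⟩ := hZ l
  obtain ⟨b, hb⟩ := GrothLib.ProTri.lift₂ (hT l) (ARSys.tr Y hlm)
    (by rw [GrothLib.ProTri.tr_nat g, hm, comp_zero])
  refine ⟨m, hnl.trans hlm, b ≫ ARSys.tr X hnl, ?_, ?_⟩
  · have h1 : (f.app (op m) ≫ b - ARSys.tr X hlm) ≫ f.app (op l) = 0 := by
      rw [Preadditive.sub_comp, Category.assoc, ← hb, GrothLib.ProTri.tr_nat f, sub_self]
    obtain ⟨y, hy⟩ := GrothLib.ProTri.lift₁ (hT l)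
      ((shiftFunctor D (1 : ℤ)).map (f.app (op m) ≫ b - ARSys.tr X hlm))
      ((Functor.map_comp _ _ _).symm.trans ((congrArg _ h1).trans (Functor.map_zero _ _ _)))
    have h2 : (f.app (op m) ≫ b - ARSys.tr X hlm) ≫ ARSys.tr X hnl = 0 := by
      apply (shiftFunctor D (1 : ℤ)).map_injective
      rw [Functor.map_comp, Functor.map_zero, hy]
      refine (Category.assoc _ _ _).trans ?_
      refine (congrArg (y ≫ ·) (hh n l hnl).symm).trans ?_
      rw [hl, zero_comp, comp_zero]
    rw [Preadditive.sub_comp, sub_eq_zero, GrothLib.ProTri.tr_comp, Category.assoc] at h2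
    exact h2
  · rw [Category.assoc, GrothLib.ProTri.tr_nat f, ← Category.assoc, ← hb, GrothLib.ProTri.tr_comp]

end Groth.Agent.S6587
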