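import Groth.Statements.S6594
-- import your own Groth.Agent.* helpers here

set_option autoImplicit false
universe v u
open CategoryTheory CategoryTheory.Limits CategoryTheory.Pretriangulated
open CohDer

namespace Groth.Agent.S6594

open CategoryTheory.Pretriangulated in
/-- (1) ⇔ (3): let D be a pretriangulated category and f : X ⟶ Y a morphism. Then f has a kernel if and
only if f is isomorphic to a composite K ⊞ Z → Z → Z ⊞ Q of a projection and a coprojection for some
objects K, Z, Q. -/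
theorem result {D : Type u} [Category.{v} D] [Preadditive D] [HasZeroObject D] [HasShift D ℤ]
    [∀ n : ℤ, (shiftFunctor D n).Additive] [Pretriangulated D]
    {X Y : D} (f : X ⟶ Y) :
    HasKernel f ↔ ∃ (K Z Q : D) (e₁ : X ≅ K ⊞ Z) (e₂ : Y ≅ Z ⊞ Q),
      f = e₁.hom ≫ biprod.snd ≫ biprod.inl ≫ e₂.inv := by
  constructor
  · intro _
    obtain ⟨Z, p, δ, hT⟩ := distinguished_cocone_triangle (kernel.ι f)
    obtain ⟨e₁, he₁, he₁'⟩ := exists_iso_binaryBiproduct_of_distTriang _ hT
      ((Triangle.mor₃_eq_zero_iff_mono₁ _ hT).2 (show Mono (kernel.ι f) by infer_instance))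
    change kernel.ι f ≫ e₁.hom = biprod.inl at he₁
    change p = e₁.hom ≫ biprod.snd at he₁'
    let e : X ≅ kernel f ⊞ Z := e₁
    have hinl : biprod.inl ≫ e.inv = kernel.ι f := by
      rw [← cancel_mono e.hom]
      rw [Category.assoc, Iso.inv_hom_id, Category.comp_id]; exact he₁.symm
    let g : Z ⟶ Y := biprod.inr ≫ e.inv ≫ f
    have hf : f = e.hom ≫ biprod.snd ≫ g := by
      rw [← cancel_epi e.inv]
      apply biprod.hom_ext'
      · simp [g, reassoc_of% hinl]
      · simp [g]
    have hg : Mono g := by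
      rw [Preadditive.mono_iff_cancel_zero]
      intro W a ha
      have h0 : (a ≫ biprod.inr ≫ e.inv) ≫ f = 0 := by simpa [g] using ha
      have h := congrArg (fun t => t ≫ e.hom ≫ biprod.snd) (kernel.lift_ι f _ h0)
      simpa [← hinl] using h.symm
    obtain ⟨Q, q, δ', hT'⟩ := distinguished_cocone_triangle g
    obtain ⟨e₂, he₂, -⟩ := exists_iso_binaryBiproduct_of_distTriang _ hT'
      ((Triangle.mor₃_eq_zero_iff_mono₁ _ hT').2 hg)
    change g ≫ e₂.hom = biprod.inl at he₂
    let e' : Y ≅ Z ⊞ Q := e₂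
    refine ⟨_, Z, Q, e, e', hf.trans ?_⟩
    congr 2
    rw [← cancel_mono e'.hom]
    exact ((Category.assoc _ _ _).trans ((congrArg _ e'.inv_hom_id).trans (Category.comp_id _))).trans he₂.symm |>.symm
  · rintro ⟨K, Z, Q, e₁, e₂, rfl⟩
    refine ⟨⟨⟨KernelFork.ofι (biprod.inl ≫ e₁.inv) (by simp),
      KernelFork.IsLimit.ofι' _ _ fun {W} k hk => ⟨k ≫ e₁.hom ≫ biprod.fst, ?_⟩⟩⟩⟩
    have h : k ≫ e₁.hom ≫ biprod.snd = 0 := by
      have := congrArg (fun t => t ≫ e₂.hom ≫ biprod.fst) hk
      simpa using this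
    rw [← cancel_mono e₁.hom]
    apply biprod.hom_ext
    · simp
    · simp [h]

end Groth.Agent.S6594
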