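import Groth.Statements.S6596
import Groth.Agent.Lib.TriCat.HomVanish

set_option autoImplicit false
universe v u
open CategoryTheory CategoryTheory.Limits
open CohDer

namespace Groth.Agent.S6596

open CategoryTheory.Pretriangulated in
/-- Let D be a triangulated category and φ : X ⟶ X' a morphism of chain complexes in D considered in
degrees ≤ n, where a Postnikov system for the complex X_n → … → X_0 consists of objects Y_k, an
isomorphism Y_0 ⟶ X_0, and for 0 ≤ k < n distinguished triangles Y_{k+1} ⟶ X_{k+1} ⟶ Y_k ⟶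
Y_{k+1}⟦1⟧ with X_{k+1} ⟶ Y_k ⟶ X_k the differential. Suppose X and X' carry Postnikov systems (Y,
a, b, c) and (Y', a', b', c'). If Hom(X_i⟦i - j - 1⟧, X'_j) = 0 for all j + 1 < i ≤ n, then φ
extends to a morphism of Postnikov systems: morphisms y_k : Y_k ⟶ Y'_k for k ≤ n forming, with the
φ_k, morphisms of the distinguished triangles and compatible with Y_0 ⟶ X_0 and Y'_0 ⟶ X'_0. -/
theorem result {D : Type u} [Category.{v} D] [Preadditive D] [HasZeroObject D] [HasShift D ℤ]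
    [∀ n : ℤ, (shiftFunctor D n).Additive] [Pretriangulated D] [IsTriangulated D]
    (X X' : ChainComplex D ℕ) (φ : X ⟶ X') (n : ℕ)
    (Y : ℕ → D) (a : ∀ k, Y k ⟶ X.X k) (b : ∀ k, X.X (k + 1) ⟶ Y k)
    (c : ∀ k, Y k ⟶ (shiftFunctor D (1 : ℤ)).obj (Y (k + 1)))
    (h0 : IsIso (a 0))
    (hP : ∀ k, k < n → Triangle.mk (a (k + 1)) (b k) (c k) ∈ distinguishedTriangles ∧ b k ≫ a k = X.d (k + 1) k)
    (qY : ℕ → D) (qa : ∀ k, qY k ⟶ X'.X k) (qb : ∀ k, X'.X (k + 1) ⟶ qY k)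
    (qc : ∀ k, qY k ⟶ (shiftFunctor D (1 : ℤ)).obj (qY (k + 1)))
    (qh0 : IsIso (qa 0))
    (qhP : ∀ k, k < n → Triangle.mk (qa (k + 1)) (qb k) (qc k) ∈ distinguishedTriangles ∧ qb k ≫ qa k = X'.d (k + 1) k)
    (hX : ∀ i j : ℕ, j + 1 < i → i ≤ n → ∀ ψ : (shiftFunctor D ((i : ℤ) - j - 1)).obj (X.X i) ⟶ X'.X j, ψ = 0) :
    ∃ y : ∀ k, Y k ⟶ qY k,
      (∀ k, k ≤ n → y k ≫ qa k = a k ≫ φ.f k) ∧
      (∀ k, k < n → b k ≫ y k = φ.f (k + 1) ≫ qb k ∧ c k ≫ (shiftFunctor D (1 : ℤ)).map (y (k + 1)) = y k ≫ qc k) := by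
  have vanY : ∀ j i : ℕ, j + 1 < i → i ≤ n →
      GrothLib.TriCat.HomZero ((X.X i)⟦(i : ℤ) - j - 1⟧) (qY j) := by
    intro j
    induction j with
    | zero => exact fun i hi hin => GrothLib.TriCat.HomZero.of_iso (hX i 0 hi hin) (Iso.refl _) (asIso (qa 0)).symm
    | succ j ih =>
      intro i hi hin
      exact GrothLib.TriCat.homZero_obj₁ (qhP j (by omega)).1 (hX i (j + 1) hi hin)
        ((GrothLib.TriCat.homZero_shift_neg_one _ _ (by push_cast; ring)).2 (ih i (by omega) hin))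
  have key : ∀ k, k < n → ∀ yk : Y k ⟶ qY k, yk ≫ qa k = a k ≫ φ.f k →
      b k ≫ yk = φ.f (k + 1) ≫ qb k := by
    intro k hk yk hyk
    have hd : (b k ≫ yk - φ.f (k + 1) ≫ qb k) ≫ qa k = 0 := by
      rw [Preadditive.sub_comp, Category.assoc, Category.assoc, hyk, (qhP k hk).2, ← Category.assoc,
        (hP k hk).2, φ.comm, sub_self]
    rw [← sub_eq_zero]
    obtain _ | j := k
    · rwa [← cancel_mono (qa 0), zero_comp]
    · refine GrothLib.TriCat.eq_zero_of_homZero_shift (qhP j (by omega)).1 ?_ _ hd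
      have hh : GrothLib.TriCat.HomZero ((X.X (j + 1 + 1))⟦(0 : ℤ)⟧) ((qY j)⟦(-1 : ℤ)⟧) :=
        (GrothLib.TriCat.homZero_shift_neg_one _ _ (by push_cast; ring)).2 (vanY j _ (by omega) (by omega))
      exact hh.of_iso ((shiftFunctorZero D ℤ).app _) (Iso.refl _)
  have step : ∀ k, ∀ yk : Y k ⟶ qY k, (k ≤ n → yk ≫ qa k = a k ≫ φ.f k) →
      ∃ y' : Y (k + 1) ⟶ qY (k + 1), (k + 1 ≤ n → y' ≫ qa (k + 1) = a (k + 1) ≫ φ.f (k + 1)) ∧
        (k < n → b k ≫ yk = φ.f (k + 1) ≫ qb k ∧ c k ≫ (shiftFunctor D (1 : ℤ)).map y' = yk ≫ qc k) := by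
    intro k yk hyk
    by_cases hk : k < n
    · have h := key k hk yk (hyk hk.le)
      obtain ⟨y', h1, h2⟩ := complete_distinguished_triangle_morphism₁
        (Triangle.mk (a (k + 1)) (b k) (c k)) (Triangle.mk (qa (k + 1)) (qb k) (qc k))
        (hP k hk).1 (qhP k hk).1 (φ.f (k + 1)) yk h
      exact ⟨y', fun _ => h1.symm, fun _ => ⟨h, h2⟩⟩
    · exact ⟨0, fun h => absurd h (by omega), fun h => absurd h hk⟩
  choose y' hy1 hy2 using step
  let St := fun k => {yk : Y k ⟶ qY k // k ≤ n → yk ≫ qa k = a k ≫ φ.f k}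
  have base : St 0 := ⟨a 0 ≫ φ.f 0 ≫ inv (qa 0), fun _ => by simp⟩
  let st : ∀ k, St k := fun k => Nat.rec (motive := St) base (fun k s => ⟨y' k s.1 s.2, hy1 k s.1 s.2⟩) k
  exact ⟨fun k => (st k).1, fun k hk => (st k).2 hk, fun k hk => hy2 k (st k).1 (st k).2 hk⟩

end Groth.Agent.S6596
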