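import Groth.Statements.S6600


set_option autoImplicit false
universe v u
open CategoryTheory CategoryTheory.Limits
open CohDer

namespace Groth.Agent.S6600

open CategoryTheory.Pretriangulated in
/-- Let D be a triangulated category, A ⊂ D a full subcategory invariant under all shifts, and X → Y → Z
→ X⟦1⟧ a distinguished triangle. Then Z lies in the right orthogonal A^⊥ if and only if Hom(A, X) →
Hom(A, Y) is bijective for every object A of A. -/
theorem result {D : Type u} [Category.{v} D] [Preadditive D] [HasZeroObject D] [HasShift D ℤ]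
    [∀ n : ℤ, (shiftFunctor D n).Additive] [Pretriangulated D] [IsTriangulated D]
    (P : ObjectProperty D) [P.IsStableUnderShift ℤ] (T : Triangle D) (hT : T ∈ distinguishedTriangles) :
    P.rightOrthogonal T.obj₃ ↔ ∀ A : D, P A → Function.Bijective (fun u : A ⟶ T.obj₁ => u ≫ T.mor₁) := by
  constructor
  · intro hZ A hA
    refine ⟨fun u v huv => ?_, fun q => ?_⟩
    · obtain ⟨w, hw⟩ := T.invRotate.coyoneda_exact₂ (Pretriangulated.inv_rot_of_distTriang _ hT)
        (u - v) (by erw [Preadditive.sub_comp]; exact sub_eq_zero.2 huv)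
      have h0 : w = 0 := by
        apply (shiftFunctor D (1 : ℤ)).map_injective
        rw [Functor.map_zero]
        apply (cancel_mono ((shiftFunctorCompIsoId D (-1 : ℤ) 1 (by omega)).hom.app T.obj₃)).1
        exact (hZ _ (P.le_shift (1 : ℤ) _ hA)).trans zero_comp.symm
      rw [h0] at hw
      exact sub_eq_zero.1 (hw.trans zero_comp)
    · obtain ⟨u, hu⟩ := T.coyoneda_exact₂ hT q (hZ _ hA)
      exact ⟨u, hu.symm⟩
  · intro h A e hA
    have hA' := P.le_shift (-1 : ℤ) _ hA
    have h1 : e ≫ T.mor₃ = 0 := by
      apply (shiftFunctor D (-1 : ℤ)).map_injective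
      rw [Functor.map_zero, ← cancel_mono ((shiftFunctorCompIsoId D (1 : ℤ) (-1) (by omega)).hom.app T.obj₁),
        zero_comp]
      refine (h _ hA').1 ?_
      have hn := (shiftFunctorCompIsoId D (1 : ℤ) (-1) (by omega)).hom.naturality T.mor₁
      dsimp at hn ⊢
      rw [Category.assoc, ← hn, ← Functor.map_comp_assoc, Category.assoc,
        Pretriangulated.comp_distTriang_mor_zero₃₁ _ hT, comp_zero, Functor.map_zero, zero_comp,
        zero_comp]
    obtain ⟨e', he'⟩ := T.coyoneda_exact₃ hT e h1
    obtain ⟨a, rfl⟩ := (h A hA).2 e'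
    rw [he', Category.assoc, Pretriangulated.comp_distTriang_mor_zero₁₂ _ hT, comp_zero]

end Groth.Agent.S6600
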