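import Groth.Statements.S6601


set_option autoImplicit false
universe v u
open CategoryTheory CategoryTheory.Limits
open CohDer

namespace Groth.Agent.S6601

open CategoryTheory.Pretriangulated in
/-- Let D be a triangulated category, B ⊂ D a full subcategory invariant under all shifts, and X → Y → Z
→ X⟦1⟧ a distinguished triangle. Then X lies in the left orthogonal ^⊥B if and only if Hom(Z, B) →
Hom(Y, B) is bijective for every object B of B. -/
theorem result {D : Type u} [Category.{v} D] [Preadditive D] [HasZeroObject D] [HasShift D ℤ]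
    [∀ n : ℤ, (shiftFunctor D n).Additive] [Pretriangulated D] [IsTriangulated D]
    (P : ObjectProperty D) [P.IsStableUnderShift ℤ] (T : Triangle D) (hT : T ∈ distinguishedTriangles) :
    P.leftOrthogonal T.obj₁ ↔ ∀ B : D, P B → Function.Bijective (fun u : T.obj₃ ⟶ B => T.mor₂ ≫ u) := by
  constructor
  · intro hX B hB
    refine ⟨fun u v huv => ?_, fun q => ?_⟩
    · obtain ⟨z, hz⟩ := T.yoneda_exact₃ hT (u - v)
        (by rw [Preadditive.comp_sub]; exact sub_eq_zero.2 huv)
      have h0 : z = 0 := by
        apply (shiftFunctor D (-1 : ℤ)).map_injective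
        rw [Functor.map_zero, ← cancel_epi ((shiftFunctorCompIsoId D (1 : ℤ) (-1) (by omega)).inv.app T.obj₁),
          comp_zero]
        exact hX _ (P.le_shift (-1 : ℤ) _ hB)
      rw [h0, comp_zero] at hz
      exact sub_eq_zero.1 hz
    · obtain ⟨u, hu⟩ := T.yoneda_exact₂ hT q (hX _ hB)
      exact ⟨u, hu.symm⟩
  · intro h B e hB
    have h1 : T.invRotate.mor₁ ≫ e = 0 := by
      apply (shiftFunctor D (1 : ℤ)).map_injective
      rw [Functor.map_zero]
      apply (cancel_epi ((shiftFunctorCompIsoId D (-1 : ℤ) 1 (by omega)).inv.app T.obj₃)).1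
      refine ((h _ (P.le_shift (1 : ℤ) _ hB)).1 (a₂ := 0) ?_).trans comp_zero.symm
      have hn := (shiftFunctorCompIsoId D (-1 : ℤ) 1 (by omega)).inv.naturality T.mor₂
      dsimp at hn ⊢
      have hk : (shiftFunctor D (-1 : ℤ)).map T.mor₂ ≫ T.invRotate.mor₁ = 0 := by
        simp
        erw [Preadditive.comp_neg, ← Functor.map_comp_assoc,
          Pretriangulated.comp_distTriang_mor_zero₂₃ _ hT, Functor.map_zero, zero_comp, neg_zero]
      rw [reassoc_of% hn]
      erw [← Functor.map_comp, reassoc_of% hk]
      simp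
    obtain ⟨e', he'⟩ := T.invRotate.yoneda_exact₂ (Pretriangulated.inv_rot_of_distTriang _ hT) e h1
    obtain ⟨u, rfl⟩ := (h B hB).2 e'
    rw [he']
    erw [Pretriangulated.comp_distTriang_mor_zero₁₂_assoc _ hT, zero_comp]

end Groth.Agent.S6601
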