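import Groth.Statements.S6604
import Groth.Agent.Lib.TriCat.MultSystem

set_option autoImplicit false
universe v u v' u'
open CategoryTheory CategoryTheory.Limits
open CohDer

namespace Groth.Agent.S6604

/-- Let D be a triangulated category, B a full triangulated subcategory and Q : D → D/B the quotient
functor. Q sends an object Z of D to zero (Q(Z) = 0, i.e. Z belongs to the kernel of Q) exactly
when, for a suitable object Z' of D, the direct sum Z ⊞ Z' is isomorphic to some object lying in B;
put differently, the kernel is the smallest saturated, strictly full triangulated subcategory that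
contains B. -/
theorem result {D : Type u} [Category.{v} D] [Preadditive D] [HasZeroObject D] [HasShift D ℤ]
    [∀ n : ℤ, (shiftFunctor D n).Additive] [Pretriangulated D] [IsTriangulated D]
    (B : ObjectProperty D) [B.IsTriangulated]
    {E : Type u'} [Category.{v'} E] (Q : D ⥤ E) [Q.IsLocalization B.trW] (Z : D) :
    IsZero (Q.obj Z) ↔ ∃ (Z' Y : D), B Y ∧ Nonempty (Z ⊞ Z' ≅ Y) := by
  constructor
  · intro hZ
    obtain ⟨Z', X, Y, f, g, h, hT, hf⟩ := GrothLib.TriCat.exists_cone_of_isZero B.trW Q hZ
    obtain ⟨W, g', h', hT', hW⟩ := hf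
    exact ⟨Z', W, hW, ⟨Pretriangulated.Triangle.π₃.mapIso (Pretriangulated.isoTriangleOfIso₁₂ _ _
      hT hT' (Iso.refl X) (Iso.refl Y) ((Category.comp_id f).trans (Category.id_comp f).symm))⟩⟩
  · rintro ⟨Z', Y, hY, ⟨e⟩⟩
    obtain ⟨W, hW, hW'⟩ := B.exists_prop_of_containsZero
    exact GrothLib.TriCat.isZero_of_retract_cone B.trW Q (0 : W ⟶ Z ⊞ Z') (𝟙 _) 0
      (Pretriangulated.isomorphic_distinguished _ (Pretriangulated.contractible_distinguished₁ _) _
        (Pretriangulated.Triangle.isoMk _ _ hW.isoZero (Iso.refl _) (Iso.refl _)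
          (zero_comp.trans comp_zero.symm) rfl (zero_comp.trans comp_zero.symm)))
      ⟨_, e.hom, 0, Pretriangulated.isomorphic_distinguished _
        (Pretriangulated.contractible_distinguished₁ Y) _
        (Pretriangulated.Triangle.isoMk _ _ hW.isoZero e (Iso.refl _)
          (zero_comp.trans comp_zero.symm) (by exact (Category.comp_id _).trans (Category.comp_id _).symm)
          (zero_comp.trans comp_zero.symm)), hY⟩

end Groth.Agent.S6604
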