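import Groth.Statements.S6606
import Mathlib.Algebra.Homology.DerivedCategory.KProjective

set_option autoImplicit false
universe v u
open CategoryTheory CategoryTheory.Limits
open CohDer

namespace Groth.Agent.S6606

variable {A : Type u} [Category.{v} A] [Abelian A]

lemma isLE_mappingCone (E L : CochainComplex A ℤ) (α : E ⟶ L) (n : ℤ)
    (hiso : ∀ i : ℤ, n < i → IsIso (HomologicalComplex.homologyMap α i))
    (hepi : Epi (HomologicalComplex.homologyMap α n)) :
    (CochainComplex.mappingCone α).IsLE (n - 1) := by
  rw [CochainComplex.isLE_iff]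
  intro i hi
  let H := fun j : ℤ => HomotopyCategory.homologyFunctor A (ComplexShape.up ℤ) j
  let T := CochainComplex.mappingCone.triangleh α
  have hT : T ∈ distTriang (HomotopyCategory A (ComplexShape.up ℤ)) :=
    ⟨_, _, α, ⟨Iso.refl _⟩⟩
  have key : ∀ j, MorphismProperty.epimorphisms A (HomologicalComplex.homologyMap α j) →
      Epi ((H j).map T.mor₁) := fun j hj =>
    (MorphismProperty.arrow_mk_iso_iff (MorphismProperty.epimorphisms A)
      (Arrow.isoMk ((HomotopyCategory.homologyFunctorFactors A (ComplexShape.up ℤ) j).app E)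
        ((HomotopyCategory.homologyFunctorFactors A (ComplexShape.up ℤ) j).app L)
        (((HomotopyCategory.homologyFunctorFactors A (ComplexShape.up ℤ) j).hom.naturality α).symm))).2 hj
  have key' : ∀ j, MorphismProperty.monomorphisms A (HomologicalComplex.homologyMap α j) →
      Mono ((H j).map T.mor₁) := fun j hj =>
    (MorphismProperty.arrow_mk_iso_iff (MorphismProperty.monomorphisms A)
      (Arrow.isoMk ((HomotopyCategory.homologyFunctorFactors A (ComplexShape.up ℤ) j).app E)
        ((HomotopyCategory.homologyFunctorFactors A (ComplexShape.up ℤ) j).app L)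
        (((HomotopyCategory.homologyFunctorFactors A (ComplexShape.up ℤ) j).hom.naturality α).symm))).2 hj
  let F := HomotopyCategory.homologyFunctor A (ComplexShape.up ℤ) 0
  have he : Epi (HomologicalComplex.homologyMap α i) := by
    rcases eq_or_lt_of_le (show n ≤ i by omega) with rfl | h
    · exact hepi
    · have := hiso i h; infer_instance
  have hm : Mono (HomologicalComplex.homologyMap α (i + 1)) := by
    have := hiso (i + 1) (by omega); infer_instance
  have h1 : (F.shift i).map T.mor₂ = 0 :=
    (F.homologySequence_epi_shift_map_mor₁_iff T hT i).1 (key i he)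
  have h2 : F.homologySequenceδ T i (i + 1) rfl = 0 :=
    (F.homologySequence_mono_shift_map_mor₁_iff T hT i (i + 1) rfl).1 (key' (i + 1) hm)
  have hz := (F.homologySequence_exact₃ T hT i (i + 1) rfl).isZero_X₂ h1 h2
  exact (HomologicalComplex.exactAt_iff_isZero_homology _ _).2 (hz.of_iso
    ((HomotopyCategory.homologyFunctorFactors A (ComplexShape.up ℤ) i).app
      (CochainComplex.mappingCone α)).symm)

/-- Let A be an abelian category, β : P ⟶ L and α : E ⟶ L morphisms of cochain complexes and n an
integer. Assume P is a bounded complex of projective objects with Pⁱ = 0 for i < n, and that Hⁱ(α)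
is an isomorphism for i > n and an epimorphism for i = n. Then there is γ : P ⟶ E such that γ ≫ α is
homotopic to β. -/
theorem result {A : Type u} [Category.{v} A] [Abelian A]
    (P E L : CochainComplex A ℤ) (β : P ⟶ L) (α : E ⟶ L) (n b : ℤ) [P.IsStrictlyGE n] [P.IsStrictlyLE b]
    (hP : ∀ i : ℤ, Projective (P.X i))
    (hiso : ∀ i : ℤ, n < i → IsIso (HomologicalComplex.homologyMap α i)) (hepi : Epi (HomologicalComplex.homologyMap α n)) :
    ∃ γ : P ⟶ E, Nonempty (Homotopy (γ ≫ α) β) := by
  let : HasDerivedCategory A := HasDerivedCategory.standard A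
  have := hP
  have : P.IsKProjective := CochainComplex.isKProjective_of_projective P b
  have := isLE_mappingCone E L α n hiso hepi
  let C := CochainComplex.mappingCone α
  let π := HomotopyCategory.quotient A (ComplexShape.up ℤ)
  let ι : π.obj (C.truncLE (n - 1)) ⟶ π.obj C := π.map (C.ιTruncLE (n - 1))
  have : IsIso (DerivedCategory.Qh.map ι) := by
    have h : IsIso ((π ⋙ DerivedCategory.Qh).map (C.ιTruncLE (n - 1))) :=
      (NatIso.isIso_map_iff (DerivedCategory.quotientCompQhIso A) (C.ιTruncLE (n - 1))).2
        inferInstance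
    exact h
  let f : π.obj P ⟶ π.obj C := π.map (β ≫ CochainComplex.mappingCone.inr α)
  obtain ⟨q, hq⟩ := (CochainComplex.IsKProjective.Qh_map_bijective P _).surjective
    (DerivedCategory.Qh.map f ≫ inv (DerivedCategory.Qh.map ι))
  obtain ⟨q', rfl⟩ := π.map_surjective q
  have hq' : q' = 0 := by
    ext j
    by_cases h : j < n
    · exact (P.isZero_of_isStrictlyGE n j h).eq_of_src _ _
    · exact ((C.truncLE (n - 1)).isZero_of_isStrictlyLE (n - 1) j (by omega)).eq_of_tgt _ _
  have hf : f = 0 := (CochainComplex.IsKProjective.Qh_map_bijective P _).injective (by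
    rw [hq', π.map_zero, Functor.map_zero] at hq
    have := congrArg (· ≫ DerivedCategory.Qh.map ι) hq
    simpa using this.symm)
  have hT : CochainComplex.mappingCone.triangleh α ∈
      distTriang (HomotopyCategory A (ComplexShape.up ℤ)) := ⟨_, _, α, ⟨Iso.refl _⟩⟩
  obtain ⟨g, hg⟩ := CategoryTheory.Pretriangulated.Triangle.coyoneda_exact₂ _ hT (π.map β)
    (by
      show π.map β ≫ π.map (CochainComplex.mappingCone.inr α) = 0
      rw [← π.map_comp]; exact hf)
  obtain ⟨γ, rfl⟩ := π.map_surjective g
  exact ⟨γ, ⟨HomotopyCategory.homotopyOfEq _ _ ((π.map_comp γ α).trans hg.symm)⟩⟩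

end Groth.Agent.S6606
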