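import Groth.Statements.S6610
import Groth.Agent.Lib.Horseshoe

set_option autoImplicit false
universe v u
open CategoryTheory CategoryTheory.Limits
open CohDer

namespace Groth.Agent.S6610

/-- Let A be an abelian category with enough projectives and S : 0 → A• → B• → C• → 0 a short exact
sequence of cochain complexes all vanishing above degree n. Then there are a short exact sequence T
: 0 → P₁ → P₂ → P₃ → 0 of complexes of projective objects vanishing above degree n and a morphism of
short exact sequences T ⟶ S whose three components are quasi-isomorphisms (projective resolutions).
(The published statement is phrased for bounded below complexes; projective resolutions are bounded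
above by definition and exist only for complexes with cohomology bounded above, so the statement is
given here for bounded above complexes, the case dual to the injective one.) -/
theorem result {A : Type u} [Category.{v} A] [Abelian A] [EnoughProjectives A]
    (S : ShortComplex (CochainComplex A ℤ)) (hS : S.ShortExact) (n : ℤ)
    [S.X₁.IsStrictlyLE n] [S.X₂.IsStrictlyLE n] [S.X₃.IsStrictlyLE n] :
    ∃ (T : ShortComplex (CochainComplex A ℤ)) (φ : T ⟶ S), T.ShortExact ∧
      T.X₁.IsStrictlyLE n ∧ T.X₂.IsStrictlyLE n ∧ T.X₃.IsStrictlyLE n ∧
      (∀ k : ℤ, Projective (T.X₁.X k) ∧ Projective (T.X₂.X k) ∧ Projective (T.X₃.X k)) ∧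
      QuasiIso φ.τ₁ ∧ QuasiIso φ.τ₂ ∧ QuasiIso φ.τ₃ := by
  exact Horseshoe.exists_coresolution S hS n

end Groth.Agent.S6610
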