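import Groth.Statements.S6611
import Mathlib

set_option autoImplicit false
universe v u
open CategoryTheory CategoryTheory.Limits
open CohDer

namespace Groth.Agent.S6611

/-- Let A be an abelian category, α : K ⟶ L a quasi-isomorphism of cochain complexes which is injective
in every degree, I a bounded below complex of injective objects and γ : K ⟶ I a morphism. Then there
is a morphism β : L ⟶ I with α ≫ β = γ. -/
theorem result {A : Type u} [Category.{v} A] [Abelian A]
    (K L I : CochainComplex A ℤ) (α : K ⟶ L) [QuasiIso α] (hα : ∀ n : ℤ, Mono (α.f n))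
    (a : ℤ) [I.IsStrictlyGE a] (hI : ∀ n : ℤ, Injective (I.X n)) (γ : K ⟶ I) :
    ∃ β : L ⟶ I, α ≫ β = γ := by
  classical
  haveI : ∀ n, Injective (I.X n) := hI
  haveI := CochainComplex.isKInjective_of_injective I a
  haveI := hα
  let q := HomotopyCategory.quotient A (ComplexShape.up ℤ)
  have hqα : (HomotopyCategory.subcategoryAcyclic A).trW (q.map α) := by
    rw [← HomotopyCategory.quasiIso_eq_trW_subcategoryAcyclic]
    exact (HomotopyCategory.quotient_map_mem_quasiIso_iff α).2
      ((HomologicalComplex.mem_quasiIso_iff α).2 inferInstance)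
  obtain ⟨Z, u, w, hT, hZ⟩ := (ObjectProperty.trW_iff' _ _).1 hqα
  have h0 : u ≫ q.map γ = 0 := CochainComplex.IsKInjective.rightOrthogonal I _ hZ
  obtain ⟨b', hb'⟩ : ∃ b' : q.obj L ⟶ q.obj I, q.map γ = q.map α ≫ b' :=
    Pretriangulated.Triangle.yoneda_exact₂ _ hT _ h0
  obtain ⟨b, rfl⟩ := q.map_surjective b'
  rw [← Functor.map_comp] at hb'
  let h := HomotopyCategory.homotopyOfEq _ _ hb'.symm
  let h' : ∀ i j, (ComplexShape.up ℤ).Rel j i → (L.X i ⟶ I.X j) :=
    fun i j _ => Injective.factorThru (h.hom i j) (α.f i)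
  refine ⟨b - Homotopy.nullHomotopicMap' h', ?_⟩
  rw [Preadditive.comp_sub, Homotopy.comp_nullHomotopicMap']
  have e : Homotopy.nullHomotopicMap' (fun i j hij => α.f i ≫ h' i j hij) =
      Homotopy.nullHomotopicMap h.hom := by
    rw [Homotopy.nullHomotopicMap']
    congr 1
    funext i j
    split_ifs with hij
    · exact Injective.comp_factorThru _ _
    · exact (h.zero i j hij).symm
  rw [e]
  ext i
  rw [HomologicalComplex.sub_f_apply, h.comm i]
  simp [Homotopy.nullHomotopicMap]

end Groth.Agent.S6611
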