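import Groth.Statements.S6612
-- import your own Groth.Agent.* helpers here

set_option autoImplicit false
universe v u
open CategoryTheory CategoryTheory.Limits
open CohDer

namespace Groth.Agent.S6612

/-- Let A be an additive category and 0 → A₂ → B₂ → C₂ → 0 a termwise split exact sequence of complexes.
Given a chain map b from a complex B₁ into B₂ and a chain map b' from B₂ into a complex B₃, suppose
that both composites b ≫ (B₂ → C₂) and (A₂ → B₂) ≫ b' are null-homotopic. Then b ≫ b' is homotopic
to zero. (The published statement has three termwise split sequences Aᵢ → Bᵢ → Cᵢ and asks both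
squares of each diagram to commute up to homotopy; this row keeps only the middle sequence and the
two conditions at B₂ that the argument uses, so it is more general.) -/
theorem result {V : Type u} [Category.{v} V] [Preadditive V] [HasBinaryBiproducts V]
    (S : ShortComplex (CochainComplex V ℤ))
    (σ : ∀ n : ℤ, (S.map (HomologicalComplex.eval V (ComplexShape.up ℤ) n)).Splitting)
    {B₁ B₃ : CochainComplex V ℤ} (b : B₁ ⟶ S.X₂) (b' : S.X₂ ⟶ B₃)
    (hb : Nonempty (Homotopy (b ≫ S.g) 0)) (hb' : Nonempty (Homotopy (S.f ≫ b') 0)) :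
    Nonempty (Homotopy (b ≫ b') 0) := by
  obtain ⟨h⟩ := hb
  obtain ⟨h'⟩ := hb'
  let sec : ∀ j, S.X₃.X j ⟶ S.X₂.X j := fun j => (σ j).s
  let ret : ∀ j, S.X₂.X j ⟶ S.X₁.X j := fun j => (σ j).r
  have sg : ∀ j, sec j ≫ S.g.f j = 𝟙 _ := fun j => (σ j).s_g
  have hid : ∀ j, ret j ≫ S.f.f j + S.g.f j ≫ sec j = 𝟙 _ := fun j => (σ j).id
  have fr : ∀ j, S.f.f j ≫ ret j = 𝟙 _ := fun j => (σ j).f_r
  let hom : ∀ i j, B₁.X i ⟶ S.X₂.X j := fun i j => h.hom i j ≫ sec j
  have zero : ∀ i j, ¬(ComplexShape.up ℤ).Rel j i → hom i j = 0 := fun i j w => by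
    simp only [hom, h.zero i j w]
    exact zero_comp
  have hg : Homotopy.nullHomotopicMap hom ≫ S.g = b ≫ S.g := by
    rw [Homotopy.nullHomotopicMap_comp]
    have : (fun i j => hom i j ≫ S.g.f j) = h.hom := by
      funext i j
      simp [hom, sg]
    rw [this]
    ext i
    simpa [Homotopy.nullHomotopicMap] using (h.comm i).symm
  let b₁ := b - Homotopy.nullHomotopicMap hom
  have hb₁ : b₁ ≫ S.g = 0 := by simp [b₁, hg]
  have hb₁f : ∀ j, (b₁.f j ≫ ret j) ≫ S.f.f j = b₁.f j := fun j => by
    have e := congrArg (fun t => b₁.f j ≫ t) (hid j)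
    have z : b₁.f j ≫ S.g.f j = 0 := by
      rw [← HomologicalComplex.comp_f, hb₁]; rfl
    rw [Preadditive.comp_add, reassoc_of% z, zero_comp, add_zero, Category.comp_id] at e
    rw [Category.assoc]
    exact e
  let a : B₁ ⟶ S.X₁ :=
    { f := fun j => b₁.f j ≫ ret j
      comm' := fun i j _ => by
        have : Mono (S.f.f j) := (SplitMono.mk (ret j) (fr j)).mono
        rw [← cancel_mono (S.f.f j)]
        rw [Category.assoc, ← HomologicalComplex.Hom.comm, ← Category.assoc, hb₁f,
          Category.assoc (B₁.d i j), hb₁f, HomologicalComplex.Hom.comm] }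
  have ha : a ≫ S.f = b₁ := by
    ext j; exact hb₁f j
  have e : b ≫ b' = Homotopy.nullHomotopicMap hom ≫ b' + a ≫ (S.f ≫ b') := by
    rw [← Category.assoc, ha]; simp [b₁]
  exact ⟨(Homotopy.ofEq e).trans ((((Homotopy.nullHomotopy hom zero).compRight b').add
    (h'.compLeft a)).trans (Homotopy.ofEq (by simp)))⟩

end Groth.Agent.S6612
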