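import Groth.Statements.S6613
import Mathlib

set_option autoImplicit false
universe v u v' u'
open CategoryTheory CategoryTheory.Limits
open CohDer

namespace Groth.Agent.S6613

/-- Let D be a pretriangulated category, D' ⊂ D a full pretriangulated subcategory, S a saturated
multiplicative system of D compatible with the triangulated structure and Q : D → S⁻¹D the
localization. Assume every X in D admits some s : X' ⟶ X in S with X' in D'. Then, with S' = S ∩
Arrows(D'), the functor (S')⁻¹D' → S⁻¹D is an equivalence; equivalently the composite D' → D → S⁻¹D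
is a localization of D' at S'. (The published result additionally claims that the intersection S' =
S ∩ Arrows(D') forms a multiplicative system on D' which is saturated and respects the triangulated
structure of D'; this row asserts only the localization property.) -/
theorem result {D : Type u} [Category.{v} D] [Preadditive D] [HasZeroObject D] [HasShift D ℤ]
    [∀ n : ℤ, (shiftFunctor D n).Additive] [Pretriangulated D]
    (P : ObjectProperty D) [P.IsTriangulated]
    (S : MorphismProperty D) [S.HasLeftCalculusOfFractions] [S.HasRightCalculusOfFractions] [S.IsCompatibleWithTriangulation]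
    {E : Type u'} [Category.{v'} E] (Q : D ⥤ E) [Q.IsLocalization S]
    (hsat : ∀ {X Y : D} (f : X ⟶ Y), IsIso (Q.map f) → S f)
    (hP : ∀ X : D, ∃ (X' : D) (s : X' ⟶ X), P X' ∧ S s) :
    (P.ι ⋙ Q).IsLocalization (S.inverseImage P.ι) := by
  let W' := S.inverseImage P.ι
  haveI : W'.IsMultiplicative := inferInstance
  haveI : W'.HasRightCalculusOfFractions :=
    { exists_rightFraction := fun X Y φ => by
        obtain ⟨ψ, hψ⟩ := (MorphismProperty.LeftFraction.mk (W := S) φ.f.hom φ.s.hom φ.hs).exists_rightFraction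
        obtain ⟨Z, t, hZ, ht⟩ := hP ψ.X'
        refine ⟨MorphismProperty.RightFraction.mk (W := W') (X' := ⟨Z, hZ⟩)
          (P.homMk (t ≫ ψ.s)) (S.comp_mem _ _ ht ψ.hs) (P.homMk (t ≫ ψ.f)), ?_⟩
        ext
        change (t ≫ ψ.s) ≫ φ.f.hom = (t ≫ ψ.f) ≫ φ.s.hom
        rw [Category.assoc, Category.assoc]
        exact congrArg (t ≫ ·) hψ
      ext := fun X Y Y' f₁ f₂ s hs heq => by
        obtain ⟨X', t, ht, h⟩ := MorphismProperty.HasRightCalculusOfFractions.ext (W := S)
          f₁.hom f₂.hom s.hom hs (congrArg InducedCategory.Hom.hom heq)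
        obtain ⟨Z, r, hZ, hr⟩ := hP X'
        refine ⟨⟨Z, hZ⟩, P.homMk (r ≫ t), S.comp_mem _ _ hr ht, ?_⟩
        ext
        change (r ≫ t) ≫ f₁.hom = (r ≫ t) ≫ f₂.hom
        rw [Category.assoc, Category.assoc, h] }
  have hinv : W'.IsInvertedBy (P.ι ⋙ Q) := fun X Y f hf => Localization.inverts Q S _ hf
  let F := Localization.lift (P.ι ⋙ Q) hinv W'.Q
  let e : W'.Q ⋙ F ≅ P.ι ⋙ Q := Localization.fac _ _ _
  haveI := Localization.essSurj W'.Q W'
  haveI := Localization.essSurj Q S
  have hmap : ∀ {X Y : P.FullSubcategory} (φ : W'.RightFraction X Y),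
      F.map (φ.map W'.Q (Localization.inverts W'.Q W')) = e.hom.app X ≫
        (MorphismProperty.RightFraction.mk (W := S) φ.s.hom φ.hs φ.f.hom).map Q
          (Localization.inverts Q S) ≫ e.inv.app Y := by
    intro X Y φ
    haveI : IsIso (W'.Q.map φ.s) := Localization.inverts W'.Q W' _ φ.hs
    rw [← cancel_epi (F.map (W'.Q.map φ.s)), ← F.map_comp, φ.map_s_comp_map,
      ← cancel_mono (e.hom.app Y)]
    have n1 : F.map (W'.Q.map φ.f) ≫ e.hom.app Y = e.hom.app φ.X' ≫ Q.map φ.f.hom :=
      e.hom.naturality φ.f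
    have n2 : F.map (W'.Q.map φ.s) ≫ e.hom.app X = e.hom.app φ.X' ≫ Q.map φ.s.hom :=
      e.hom.naturality φ.s
    rw [n1, Category.assoc, Category.assoc, Category.assoc, Iso.inv_hom_id_app]
    erw [Category.comp_id, reassoc_of% n2]
    exact congrArg (e.hom.app φ.X' ≫ ·)
      ((MorphismProperty.RightFraction.mk (W := S) φ.s.hom φ.hs φ.f.hom).map_s_comp_map Q _).symm
  let oi := fun Z : W'.Localization => W'.Q.objObjPreimageIso Z
  haveI : F.Faithful := ⟨fun {Z₁ Z₂} f g hfg => by
    obtain ⟨φ, hφ⟩ := Localization.exists_rightFraction W'.Q W' ((oi Z₁).hom ≫ f ≫ (oi Z₂).inv)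
    obtain ⟨ψ, hψ⟩ := Localization.exists_rightFraction W'.Q W' ((oi Z₁).hom ≫ g ≫ (oi Z₂).inv)
    have h1 : F.map (φ.map W'.Q (Localization.inverts W'.Q W')) =
        F.map (ψ.map W'.Q (Localization.inverts W'.Q W')) := by
      rw [← hφ, ← hψ]; simp [hfg]
    rw [hmap, hmap, cancel_epi, cancel_mono, MorphismProperty.RightFraction.map_eq_iff] at h1
    obtain ⟨Z, t₁, t₂, hs, hf, ht⟩ := h1
    obtain ⟨Z', r, hZ', hr⟩ := hP Z
    have h2 : MorphismProperty.RightFractionRel φ ψ :=
      ⟨⟨Z', hZ'⟩, P.homMk (r ≫ t₁), P.homMk (r ≫ t₂),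
        InducedCategory.hom_ext ((Category.assoc _ _ _).trans ((congrArg (r ≫ ·) hs).trans
          (Category.assoc _ _ _).symm)),
        InducedCategory.hom_ext ((Category.assoc _ _ _).trans ((congrArg (r ≫ ·) hf).trans
          (Category.assoc _ _ _).symm)),
        by
          change S ((r ≫ t₁) ≫ φ.s.hom)
          rw [Category.assoc]
          exact S.comp_mem _ _ hr ht⟩
    rw [← MorphismProperty.RightFraction.map_eq_iff W'.Q, ← hφ, ← hψ] at h2
    simpa using h2⟩
  haveI : F.Full := ⟨fun {Z₁ Z₂} g => by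
    let X := W'.Q.objPreimage Z₁
    let Y := W'.Q.objPreimage Z₂
    obtain ⟨φ, hφ⟩ := Localization.exists_rightFraction Q S (X := X.obj) (Y := Y.obj)
      (e.inv.app X ≫ F.map (oi Z₁).hom ≫ g ≫ F.map (oi Z₂).inv ≫ e.hom.app Y)
    obtain ⟨Z', r, hZ', hr⟩ := hP φ.X'
    let φ' : W'.RightFraction X Y := MorphismProperty.RightFraction.mk (W := W') (X' := ⟨Z', hZ'⟩)
      (P.homMk (r ≫ φ.s)) (S.comp_mem _ _ hr φ.hs) (P.homMk (r ≫ φ.f))
    refine ⟨(oi Z₁).inv ≫ φ'.map W'.Q (Localization.inverts W'.Q W') ≫ (oi Z₂).hom, ?_⟩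
    have h1 : (MorphismProperty.RightFraction.mk (W := S) φ'.s.hom φ'.hs φ'.f.hom).map Q
        (Localization.inverts Q S) = φ.map Q (Localization.inverts Q S) := by
      rw [MorphismProperty.RightFraction.map_eq_iff]
      exact ⟨Z', 𝟙 Z', r, Category.id_comp _, Category.id_comp _,
        (Category.id_comp (r ≫ φ.s)).symm ▸ S.comp_mem _ _ hr φ.hs⟩
    rw [F.map_comp, F.map_comp, hmap, h1, ← hφ]
    simp only [Category.assoc, Iso.hom_inv_id_app, Iso.hom_inv_id_app_assoc]
    rw [← F.map_comp_assoc, Iso.inv_hom_id, F.map_id, Category.id_comp]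
    erw [Category.id_comp]
    rw [← F.map_comp, Iso.inv_hom_id, F.map_id, Category.comp_id]⟩
  haveI : F.EssSurj := ⟨fun Z => by
    obtain ⟨X', s, hX', hs⟩ := hP (Q.objPreimage Z)
    exact ⟨W'.Q.obj ⟨X', hX'⟩,
      ⟨e.app ⟨X', hX'⟩ ≪≫ Localization.isoOfHom Q S s hs ≪≫ Q.objObjPreimageIso Z⟩⟩⟩
  haveI : F.IsEquivalence := {}
  exact Functor.IsLocalization.of_equivalence_target W'.Q W' _ F.asEquivalence e

end Groth.Agent.S6613
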