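import Groth.Statements.S6614
import Groth.Agent.Lib.ProTri.Basic

set_option autoImplicit false
universe v u
open CategoryTheory CategoryTheory.Limits Opposite
open CohDer

namespace Groth.Agent.S6614

/-- Let D be a triangulated category and (A_n) an ℕ-indexed inverse system of D which is essentially
constant with value A relative to the cone c. Then there are an index i and direct sum
decompositions A_{i+j} ≅ A ⊞ Z_j (j ≥ 0) such that (a) c_{i+j} is the inclusion of the summand A and
the transition maps A_{i+k} → A_{i+j} are 𝟙_A ⊕ (Z_k → Z_j), and (b) for every j there is k ≥ j with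
Z_k → Z_j zero. (The published statement is an equivalence whose converse is given without proof;
this row states only the forward implication.) -/
theorem result {D : Type u} [Category.{v} D] [Preadditive D] [HasZeroObject D] [HasShift D ℤ]
    [∀ n : ℤ, (shiftFunctor D n).Additive] [Pretriangulated D] [IsTriangulated D]
    (X : ARSys.PS D) (A : D) (c : (Functor.const ℕᵒᵖ).obj A ⟶ X) (hX : DerCA.IsEssConstant X A c) :
    ∃ (i : ℕ) (Z : ℕ → D) (e : ∀ j : ℕ, X.obj (op (i + j)) ≅ A ⊞ Z j) (z : ∀ j k : ℕ, j ≤ k → (Z k ⟶ Z j)),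
      (∀ j : ℕ, c.app (op (i + j)) ≫ (e j).hom = biprod.inl) ∧
      (∀ (j k : ℕ) (hjk : j ≤ k), (e k).inv ≫ ARSys.tr X (Nat.add_le_add_left hjk i) = biprod.map (𝟙 A) (z j k hjk) ≫ (e j).inv) ∧
      (∀ j : ℕ, ∃ (k : ℕ) (hjk : j ≤ k), z j k hjk = 0) := by
  obtain ⟨i, s, hs, hk⟩ := hX
  let s' : ∀ j, X.obj (op (i + j)) ⟶ A := fun j => ARSys.tr X (Nat.le_add_right i j) ≫ s
  let c' : ∀ j, A ⟶ X.obj (op (i + j)) := fun j => c.app (op (i + j))
  have hcs : ∀ j, c' j ≫ s' j = 𝟙 A := fun j =>
    (Category.assoc _ _ _).symm.trans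
      ((congrArg (· ≫ s) (GrothLib.ProTri.const_tr c (Nat.le_add_right i j))).trans hs)
  have hcompl : ∀ j, ∃ (W : D) (p : X.obj (op (i + j)) ⟶ W) (v : W ⟶ X.obj (op (i + j))),
      c' j ≫ p = 0 ∧ v ≫ s' j = 0 ∧ v ≫ p = 𝟙 W ∧ s' j ≫ c' j + p ≫ v = 𝟙 _ := by
    intro j
    obtain ⟨W, p, d, hd⟩ := Pretriangulated.distinguished_cocone_triangle (c' j)
    have hcp : c' j ≫ p = 0 := Pretriangulated.comp_distTriang_mor_zero₁₂ _ hd
    have h0 : c' j ≫ (𝟙 _ - s' j ≫ c' j) = 0 := by
      rw [Preadditive.comp_sub, Category.comp_id, reassoc_of% hcs j, sub_self]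
    obtain ⟨v, hv⟩ : ∃ v : W ⟶ X.obj (op (i + j)), 𝟙 _ - s' j ≫ c' j = p ≫ v :=
      Pretriangulated.Triangle.yoneda_exact₂ _ hd _ h0
    have hm : Mono (c' j) := (IsSplitMono.mk' ⟨s' j, hcs j⟩).mono
    have hd0 : d = 0 := (Pretriangulated.Triangle.mor₃_eq_zero_iff_mono₁ _ hd).mpr hm
    have hp : Epi p := Pretriangulated.Triangle.epi₂ _ hd hd0
    refine ⟨W, p, v, hcp, ?_, ?_, ?_⟩
    · rw [← cancel_epi p, comp_zero, ← Category.assoc, ← hv, Preadditive.sub_comp, Category.id_comp,
        Category.assoc, hcs, Category.comp_id, sub_self]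
    · rw [← cancel_epi p, ← Category.assoc, ← hv, Preadditive.sub_comp, Category.id_comp,
        Category.assoc, hcp, comp_zero, sub_zero, Category.comp_id]
    · rw [← hv, add_sub_cancel]
  choose Z p v hcp hvs hvp htot using hcompl
  refine ⟨i, Z, fun j =>
    { hom := biprod.lift (s' j) (p j)
      inv := biprod.desc (c' j) (v j)
      hom_inv_id := by rw [biprod.lift_desc, htot]
      inv_hom_id := by ext <;> simp [hcs, hcp, hvs, hvp] },
    fun j k hjk => v k ≫ ARSys.tr X (Nat.add_le_add_left hjk i) ≫ p j, fun j => ?_, fun j k hjk => ?_,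
    fun j => ?_⟩
  · ext
    · simpa using! hcs j
    · simpa using! hcp j
  · dsimp
    apply biprod.hom_ext'
    · simp only [biprod.inl_desc_assoc, biprod.inl_map_assoc, biprod.inl_desc, Category.id_comp]
      exact GrothLib.ProTri.const_tr c _
    · simp only [biprod.inr_desc_assoc, biprod.inr_map_assoc, biprod.inr_desc, Category.assoc]
      have h1 : v k ≫ ARSys.tr X (Nat.add_le_add_left hjk i) ≫ s' j = 0 := by
        simp only [s', GrothLib.ProTri.tr_comp_assoc]
        exact hvs k
      have h2 := congrArg (fun t => v k ≫ ARSys.tr X (Nat.add_le_add_left hjk i) ≫ t) (htot j)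
      simp only [Preadditive.comp_add, reassoc_of% h1, zero_comp, zero_add, Category.comp_id] at h2
      exact h2.symm
  · obtain ⟨k, hi, hj, hk⟩ := hk (i + j)
    refine ⟨k - i, by omega, ?_⟩
    have hle : k ≤ i + (k - i) := by omega
    show v (k - i) ≫ _ ≫ p j = 0
    rw [← GrothLib.ProTri.tr_comp X hj hle, hk]
    simp only [Category.assoc, GrothLib.ProTri.tr_comp_assoc]
    rw [show c.app (op (i + j)) ≫ p j = 0 from hcp j]
    simp

end Groth.Agent.S6614
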