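import Groth.Statements.S6618
import Groth.Agent.Lib.RDerLES.LES
import Groth.Agent.Lib.GrothSS.Acyclic
import Groth.Agent.Lib.GrothSS.Universal

set_option autoImplicit false
universe v v' u u'
open CategoryTheory CategoryTheory.Limits
open CohDer

namespace Groth.Agent.S6618

/-- Part (2): (3), in the case where A has enough injectives: let F : A ⥤ B be an additive functor
between abelian categories, A with enough injectives. Then R⁰F is left exact; moreover, F itself is
left exact exactly when the canonical comparison morphism from F to R⁰F is invertible. -/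
theorem result {A : Type u} [Category.{v} A] [Abelian A] [EnoughInjectives A]
    {B : Type u'} [Category.{v'} B] [Abelian B] (F : A ⥤ B) [F.Additive] :
    PreservesFiniteLimits (F.rightDerived 0) ∧ (IsIso F.toRightDerivedZero ↔ PreservesFiniteLimits F) := by
  have hR : PreservesFiniteLimits (F.rightDerived 0) := by
    refine ((Functor.preservesFiniteLimits_tfae (F.rightDerived 0)).out 0 3).1 fun S hS => ?_
    obtain ⟨T⟩ := GrothLib.RDerLES.nonempty_sesRes hS
    refine ⟨GrothLib.RDerLES.exact₂ F T 0, ?_⟩
    have hm : Mono ((F.mapHomologicalComplex (ComplexShape.up ℕ)).map T.f) := (T.map_shortExact F).mono_f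
    have : Mono (((F.mapHomologicalComplex (ComplexShape.up ℕ)).map T.f).f 0) :=
      inferInstanceAs (Mono ((HomologicalComplex.eval B (ComplexShape.up ℕ) 0).map
        ((F.mapHomologicalComplex (ComplexShape.up ℕ)).map T.f)))
    have hmono := GrothLib.GrothSS.mono_homologyMap_zero ((F.mapHomologicalComplex (ComplexShape.up ℕ)).map T.f)
    have : Mono ((F.rightDerived 0).map S.f ≫ (T.I₂.isoRightDerivedObj F 0).hom) := by
      rw [GrothLib.RDerLES.sqf]; exact @mono_comp _ _ _ _ _ _ inferInstance _ hmono
    exact mono_of_mono ((F.rightDerived 0).map S.f) (T.I₂.isoRightDerivedObj F 0).hom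
  refine ⟨hR, fun h => ?_, fun h => ?_⟩
  · exact preservesFiniteLimits_of_natIso (asIso F.toRightDerivedZero).symm
  · exact inferInstance

end Groth.Agent.S6618
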