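import Groth.Statements.S6619
import Groth.Agent.Lib.RDerLES.LES
import Groth.Agent.Lib.DerCat.DimShiftRD

set_option autoImplicit false
universe v v' u u'
open CategoryTheory CategoryTheory.Limits
open CohDer

namespace Groth.Agent.S6619

/-- In the case where A has enough injectives (an object X is right acyclic for the left exact functor F
when RⁱF(X) = 0 for all i > 0): suppose A and B are abelian categories, A has enough injectives, F :
A ⥤ B is left exact, and 0 → X₁ → X₂ → X₃ → 0 is a short exact sequence of A. (1) If X₁, X₃ are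
right acyclic so is X₂; (2) if X₁, X₂ are right acyclic so is X₃; (3) if X₂, X₃ are right acyclic
and F(X₂) ⟶ F(X₃) is surjective then X₁ is right acyclic. In each of the three cases 0 → F(X₁) →
F(X₂) → F(X₃) → 0 is short exact. -/
theorem result {A : Type u} [Category.{v} A] [Abelian A] [EnoughInjectives A]
    {B : Type u'} [Category.{v'} B] [Abelian B] (F : A ⥤ B) [F.Additive] [PreservesFiniteLimits F]
    (S : ShortComplex A) (hS : S.ShortExact) :
    ((∀ i : ℕ, 0 < i → IsZero ((F.rightDerived i).obj S.X₁)) → (∀ i : ℕ, 0 < i → IsZero ((F.rightDerived i).obj S.X₃)) →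
      (∀ i : ℕ, 0 < i → IsZero ((F.rightDerived i).obj S.X₂)) ∧ (S.map F).ShortExact) ∧
    ((∀ i : ℕ, 0 < i → IsZero ((F.rightDerived i).obj S.X₁)) → (∀ i : ℕ, 0 < i → IsZero ((F.rightDerived i).obj S.X₂)) →
      (∀ i : ℕ, 0 < i → IsZero ((F.rightDerived i).obj S.X₃)) ∧ (S.map F).ShortExact) ∧
    ((∀ i : ℕ, 0 < i → IsZero ((F.rightDerived i).obj S.X₂)) → (∀ i : ℕ, 0 < i → IsZero ((F.rightDerived i).obj S.X₃)) →
      Epi (F.map S.g) → (∀ i : ℕ, 0 < i → IsZero ((F.rightDerived i).obj S.X₁)) ∧ (S.map F).ShortExact) := by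
  obtain ⟨T⟩ := GrothLib.RDerLES.nonempty_sesRes hS
  refine ⟨fun h1 h3 => ⟨fun i hi => ?_, GrothLib.HomGamma.shortExact_map_of_isZero F hS (h1 1 one_pos)⟩,
    fun h1 h2 => ⟨fun i hi => ?_, GrothLib.HomGamma.shortExact_map_of_isZero F hS (h1 1 one_pos)⟩,
    fun h2 h3 hg => ?_⟩
  · exact (GrothLib.RDerLES.exact₂ F T i).isZero_of_both_zeros
      ((h1 i hi).eq_of_src _ _) ((h3 i hi).eq_of_tgt _ _)
  · exact (GrothLib.RDerLES.exact₃ F T i (i + 1) rfl).isZero_of_both_zeros
      ((h2 i hi).eq_of_src _ _) ((h1 (i + 1) (by omega)).eq_of_tgt _ _)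
  · have hX₁ : ∀ i : ℕ, 0 < i → IsZero ((F.rightDerived i).obj S.X₁) := by
      intro i hi
      obtain ⟨j, rfl⟩ := Nat.exists_eq_succ_of_ne_zero hi.ne'
      refine (GrothLib.RDerLES.exact₁ F T j (j + 1) rfl).isZero_of_both_zeros ?_
        ((h2 (j + 1) (by omega)).eq_of_tgt _ _)
      cases j with
      | succ k => exact (h3 (k + 1) (by omega)).eq_of_src _ _
      | zero =>
        have : Epi ((F.rightDerived 0).map S.g) := by
          have hn := F.toRightDerivedZero.naturality S.g
          have : Epi (F.toRightDerivedZero.app S.X₂ ≫ (F.rightDerived 0).map S.g) := hn ▸ epi_comp _ _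
          exact epi_of_epi (F.toRightDerivedZero.app S.X₂) _
        exact (cancel_epi ((F.rightDerived 0).map S.g)).1
          ((GrothLib.RDerLES.comp_delta F T 0 1 rfl).trans comp_zero.symm)
    exact ⟨hX₁, GrothLib.HomGamma.shortExact_map_of_isZero F hS (hX₁ 1 one_pos)⟩

end Groth.Agent.S6619
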