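import Groth.Statements.S6622
import Mathlib.Algebra.Homology.HomotopyCategory.Pretriangulated
import Mathlib.Algebra.Homology.HomotopyCategory.Plus

set_option autoImplicit false
universe v u
open CategoryTheory CategoryTheory.Limits
open CohDer
open scoped ZeroObject

namespace Groth.Agent.S6622

open Pretriangulated HomotopyCategory ZeroObject in
/-- A condition on complexes stable under shifts and mapping cones, containing zero, gives a
triangulated subcategory of the homotopy category. -/
theorem isTriangulated_of_cone {V : Type u} [Category.{v} V] [Preadditive V] [HasZeroObject V]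
    [HasBinaryBiproducts V] (Q : CochainComplex V ℤ → Prop) (h0 : Q 0)
    (hs : ∀ K, Q K → ∀ m : ℤ, Q (K⟦m⟧))
    (hc : ∀ (K L : CochainComplex V ℤ) (f : K ⟶ L), Q K → Q L → Q (CochainComplex.mappingCone f)) :
    ObjectProperty.IsTriangulated (fun K : HomotopyCategory V (ComplexShape.up ℤ) => Q K.as) := by
  let P : ObjectProperty (HomotopyCategory V (ComplexShape.up ℤ)) := fun K => Q K.as
  have : P.ContainsZero :=
    ⟨⟨(HomotopyCategory.quotient _ _).obj 0, Functor.map_isZero _ (isZero_zero _), h0⟩⟩
  have : P.IsStableUnderShift ℤ :=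
    { isStableUnderShiftBy := fun n =>
        { le_shift := fun K hK => by
            obtain ⟨K : CochainComplex _ _, rfl⟩ := K.quotient_obj_surjective
            rw [ObjectProperty.prop_shift_iff, shift_quotient_obj]
            exact hs _ hK n } }
  have : P.IsTriangulatedClosed₃ :=
    { ext₃' := fun T hT h₁ h₂ => by
        obtain ⟨f : T.obj₁.as ⟶ T.obj₂.as, hf⟩ := (HomotopyCategory.quotient _ _).map_surjective T.mor₁
        refine ⟨(HomotopyCategory.quotient _ _).obj (CochainComplex.mappingCone f), hc _ _ f h₁ h₂,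
          ⟨Triangle.π₃.mapIso (isoTriangleOfIso₁₂ T _ hT (mappingCone_triangleh_distinguished f)
            (Iso.refl _) (Iso.refl _) ?_)⟩⟩
        dsimp
        exact (Category.comp_id _).trans (hf.symm.trans (Category.id_comp _).symm) }
  exact { toIsTriangulatedClosed₂ := .of_isTriangulatedClosed₃ }

/-- Let A be an additive category. The full subcategories K⁻(A) (complexes K with Kⁿ = 0 for n ≫ 0) and
Kᵇ(A) (Kⁿ = 0 for |n| ≫ 0) of the homotopy category K(A) are full triangulated subcategories. -/
theorem result {V : Type u} [Category.{v} V] [Preadditive V] [HasZeroObject V] [HasBinaryBiproducts V] :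
    (ObjectProperty.IsTriangulated (fun K : HomotopyCategory V (ComplexShape.up ℤ) => ∃ n : ℤ, CochainComplex.IsStrictlyLE K.as n)) ∧
    (ObjectProperty.IsTriangulated (fun K : HomotopyCategory V (ComplexShape.up ℤ) =>
      ∃ a b : ℤ, CochainComplex.IsStrictlyGE K.as a ∧ CochainComplex.IsStrictlyLE K.as b)) := by
  constructor
  · refine isTriangulated_of_cone (fun C => ∃ n : ℤ, CochainComplex.IsStrictlyLE C n) ⟨0, inferInstance⟩ ?_ ?_
    · rintro K ⟨n, _⟩ m
      exact ⟨n - m, K.isStrictlyLE_shift n m (n - m) (by omega)⟩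
    · rintro K L f ⟨n₁, _⟩ ⟨n₂, _⟩
      refine ⟨max n₁ n₂, ?_⟩
      rw [CochainComplex.isStrictlyLE_iff]
      intro i hi
      rw [CochainComplex.mappingCone.isZero_X_iff]
      exact ⟨K.isZero_of_isStrictlyLE n₁ _ (by omega), L.isZero_of_isStrictlyLE n₂ _ (by omega)⟩
  · refine isTriangulated_of_cone
      (fun C => ∃ a b : ℤ, CochainComplex.IsStrictlyGE C a ∧ CochainComplex.IsStrictlyLE C b)
      ⟨0, 0, inferInstance, inferInstance⟩ ?_ ?_
    · rintro K ⟨a, b, _, _⟩ m
      exact ⟨a - m, b - m, K.isStrictlyGE_shift a m (a - m) (by omega),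
        K.isStrictlyLE_shift b m (b - m) (by omega)⟩
    · rintro K L f ⟨a₁, b₁, _, _⟩ ⟨a₂, b₂, _, _⟩
      refine ⟨min (a₁ - 1) a₂, max b₁ b₂, CochainComplex.isStrictlyGE_mappingCone f a₁ a₂ _, ?_⟩
      rw [CochainComplex.isStrictlyLE_iff]
      intro i hi
      rw [CochainComplex.mappingCone.isZero_X_iff]
      exact ⟨K.isZero_of_isStrictlyLE b₁ _ (by omega), L.isZero_of_isStrictlyLE b₂ _ (by omega)⟩

end Groth.Agent.S6622
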