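import Groth.Statements.S6623
-- import your own Groth.Agent.* helpers here

set_option autoImplicit false
universe v u
open CategoryTheory CategoryTheory.Limits
open CohDer

namespace Groth.Agent.S6623

section
open CategoryTheory Limits Pretriangulated

variable {D : Type u} [Category.{v} D] [Preadditive D] [HasShift D ℤ]
  [∀ n : ℤ, (shiftFunctor D n).Additive]

/-- Transposition of vanishing along a shift. -/
theorem vanish_to {A B : D} {t s : ℤ} (hts : t + s = 0)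
    (h : ∀ f : A⟦t⟧ ⟶ B, f = 0) (g : A ⟶ B⟦s⟧) : g = 0 := by
  apply (shiftFunctor D t).map_injective
  rw [Functor.map_zero, ← cancel_mono ((shiftFunctorCompIsoId D s t (by omega)).hom.app B), zero_comp]
  exact h _

theorem vanish_from {A B : D} {t s : ℤ} (hts : t + s = 0)
    (h : ∀ f : A ⟶ B⟦t⟧, f = 0) (g : A⟦s⟧ ⟶ B) : g = 0 := by
  apply (shiftFunctor D t).map_injective
  rw [Functor.map_zero, ← cancel_epi ((shiftFunctorCompIsoId D s t (by omega)).inv.app A), comp_zero]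
  exact h _

theorem vanish_add_tgt {A B : D} {s : ℤ} (h : ∀ f : A ⟶ B⟦s + 1⟧, f = 0) (g : A ⟶ (B⟦s⟧)⟦(1 : ℤ)⟧) :
    g = 0 := by
  rw [← cancel_mono ((shiftFunctorAdd D s 1).inv.app B), zero_comp]
  exact h _

theorem vanish_add_src {A B : D} {s : ℤ} (h : ∀ f : A⟦s + 1⟧ ⟶ B, f = 0) (g : (A⟦s⟧)⟦(1 : ℤ)⟧ ⟶ B) :
    g = 0 := by
  rw [← cancel_epi ((shiftFunctorAdd D s 1).hom.app A), comp_zero]
  exact h _

variable [HasZeroObject D] [Pretriangulated D]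

/-- If the boundary kills `ψ⟦1⟧`, then `ψ` extends along the first morphism. -/
theorem extend₁ {P Q R W : D} {p : P ⟶ Q} {q : Q ⟶ R} {r : R ⟶ P⟦(1 : ℤ)⟧}
    (hT : Triangle.mk p q r ∈ distTriang D) (ψ : P ⟶ W) (h : r ≫ ψ⟦(1 : ℤ)⟧' = 0) :
    ∃ e : Q ⟶ W, ψ = p ≫ e := by
  obtain ⟨g, hg⟩ : ∃ g : Q⟦(1 : ℤ)⟧ ⟶ W⟦(1 : ℤ)⟧, ψ⟦(1 : ℤ)⟧' = (-p⟦(1 : ℤ)⟧') ≫ g :=
    Triangle.yoneda_exact₂ _ (rot_of_distTriang _ (rot_of_distTriang _ hT)) (ψ⟦(1 : ℤ)⟧') h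
  obtain ⟨e, he⟩ := (shiftFunctor D (1 : ℤ)).map_surjective (-g)
  refine ⟨e, (shiftFunctor D (1 : ℤ)).map_injective ?_⟩
  rw [hg, Functor.map_comp, he]
  simp

theorem lift₁ {P Q R W : D} {p : P ⟶ Q} {q : Q ⟶ R} {r : R ⟶ P⟦(1 : ℤ)⟧}
    (hT : Triangle.mk p q r ∈ distTriang D) (f : W ⟶ P) (h : f ≫ p = 0)
    (hz : ∀ g : W⟦(1 : ℤ)⟧ ⟶ R, g = 0) : f = 0 := by
  obtain ⟨g, hg⟩ : ∃ g : W⟦(1 : ℤ)⟧ ⟶ R, f⟦(1 : ℤ)⟧' = g ≫ r :=
    Triangle.coyoneda_exact₁ _ hT (f⟦(1 : ℤ)⟧')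
      ((Functor.map_comp _ _ _).symm.trans ((congrArg _ h).trans (Functor.map_zero _ _ _)))
  apply (shiftFunctor D (1 : ℤ)).map_injective
  rw [hg, hz g, zero_comp, Functor.map_zero]

end

open CategoryTheory.Pretriangulated in
/-- Let D be a triangulated category, φ : X ⟶ X' a morphism of chain complexes in D considered in
degrees ≤ n, where a Postnikov system for the complex X_n → … → X_0 consists of objects Y_k, an
isomorphism Y_0 ⟶ X_0, and for 0 ≤ k < n distinguished triangles Y_{k+1} ⟶ X_{k+1} ⟶ Y_k ⟶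
Y_{k+1}⟦1⟧ with X_{k+1} ⟶ Y_k ⟶ X_k the differential; let (Y, a, b, c) and (Y', a', b', c') be
Postnikov systems for X and X'. If Hom(X_{j-i}⟦1-i⟧, X'_j) = 0 and Hom(X_j, X'_{j-i}⟦-i⟧) = 0 for
all 0 < i ≤ j ≤ n, then there is at most one morphism of Postnikov systems extending φ: two such
morphisms agree on Y_k for every k ≤ n. -/
theorem result {D : Type u} [Category.{v} D] [Preadditive D] [HasZeroObject D] [HasShift D ℤ]
    [∀ n : ℤ, (shiftFunctor D n).Additive] [Pretriangulated D] [IsTriangulated D]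
    (X X' : ChainComplex D ℕ) (φ : X ⟶ X') (n : ℕ)
    (Y : ℕ → D) (a : ∀ k, Y k ⟶ X.X k) (b : ∀ k, X.X (k + 1) ⟶ Y k)
    (c : ∀ k, Y k ⟶ (shiftFunctor D (1 : ℤ)).obj (Y (k + 1)))
    (h0 : IsIso (a 0))
    (hP : ∀ k, k < n → Triangle.mk (a (k + 1)) (b k) (c k) ∈ distinguishedTriangles ∧ b k ≫ a k = X.d (k + 1) k)
    (qY : ℕ → D) (qa : ∀ k, qY k ⟶ X'.X k) (qb : ∀ k, X'.X (k + 1) ⟶ qY k)
    (qc : ∀ k, qY k ⟶ (shiftFunctor D (1 : ℤ)).obj (qY (k + 1)))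
    (qh0 : IsIso (qa 0))
    (qhP : ∀ k, k < n → Triangle.mk (qa (k + 1)) (qb k) (qc k) ∈ distinguishedTriangles ∧ qb k ≫ qa k = X'.d (k + 1) k)
    (hv : ∀ i j : ℕ, 0 < i → i ≤ j → j ≤ n →
      (∀ ψ : (shiftFunctor D (1 - (i : ℤ))).obj (X.X (j - i)) ⟶ X'.X j, ψ = 0) ∧
      (∀ ψ : X.X j ⟶ (shiftFunctor D (-(i : ℤ))).obj (X'.X (j - i)), ψ = 0))
    (y z : ∀ k, Y k ⟶ qY k)
    (hy : (∀ k, k ≤ n → y k ≫ qa k = a k ≫ φ.f k) ∧
      (∀ k, k < n → b k ≫ y k = φ.f (k + 1) ≫ qb k ∧ c k ≫ (shiftFunctor D (1 : ℤ)).map (y (k + 1)) = y k ≫ qc k))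
    (hz : (∀ k, k ≤ n → z k ≫ qa k = a k ≫ φ.f k) ∧
      (∀ k, k < n → b k ≫ z k = φ.f (k + 1) ≫ qb k ∧ c k ≫ (shiftFunctor D (1 : ℤ)).map (z (k + 1)) = z k ≫ qc k))
    (k : ℕ) (hk : k ≤ n) :
    y k = z k := by
  have hX1 : ∀ (m : ℕ) (s : ℤ) (j : ℕ), 0 ≤ s → (j : ℤ) = m + 1 + s → j ≤ n →
      ∀ ψ : Y m ⟶ (shiftFunctor D s).obj (X'.X j), ψ = 0 := by
    intro m
    induction m with
    | zero =>
      intro s j hs hj hjn ψ
      rw [← IsIso.hom_inv_id_assoc (a 0) ψ]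
      have h1 := (hv j j (by omega) le_rfl hjn).1
      rw [Nat.sub_self] at h1
      rw [vanish_to (by omega) h1 (inv (a 0) ≫ ψ), comp_zero]
    | succ m ih =>
      intro s j hs hj hjn ψ
      have h0 : c m ≫ (shiftFunctor D (1 : ℤ)).map ψ = 0 :=
        vanish_add_tgt (ih (s + 1) j (by omega) (by omega) hjn) _
      obtain ⟨e, he⟩ := extend₁ (hP m (by omega)).1 ψ h0
      have h1 := (hv (j - (m + 1)) j (by omega) (by omega) hjn).1
      rw [show j - (j - (m + 1)) = m + 1 by omega] at h1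
      rw [he, vanish_to (by omega) h1 e, comp_zero]
  have hX2 : ∀ (m : ℕ) (s : ℤ) (j : ℕ), 1 ≤ s → (j : ℤ) = m + s → j ≤ n →
      ∀ f : (shiftFunctor D s).obj (X.X j) ⟶ qY m, f = 0 := by
    intro m
    induction m with
    | zero =>
      intro s j hs hj hjn f
      rw [← cancel_mono (qa 0), zero_comp]
      have h1 := (hv j j (by omega) le_rfl hjn).2
      rw [Nat.sub_self] at h1
      exact vanish_from (by omega) h1 _
    | succ m ih =>
      intro s j hs hj hjn f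
      refine lift₁ (qhP m (by omega)).1 f ?_ (vanish_add_src (ih (s + 1) j (by omega) (by omega) hjn))
      have h1 := (hv (j - (m + 1)) j (by omega) (by omega) hjn).2
      rw [show j - (j - (m + 1)) = m + 1 by omega] at h1
      exact vanish_from (by omega) h1 _
  induction k with
  | zero =>
    rw [← cancel_mono (qa 0), hy.1 0 hk, hz.1 0 hk]
  | succ k ih =>
    have hkn : k < n := by omega
    have hd₁ : (y (k + 1) - z (k + 1)) ≫ qa (k + 1) = 0 := by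
      rw [Preadditive.sub_comp, hy.1 _ hk, hz.1 _ hk, sub_self]
    have hd₂ : c k ≫ (shiftFunctor D (1 : ℤ)).map (y (k + 1) - z (k + 1)) = 0 := by
      rw [Functor.map_sub, Preadditive.comp_sub, (hy.2 k hkn).2, (hz.2 k hkn).2, ih (by omega),
        sub_self]
    obtain ⟨e, he⟩ := extend₁ (hP k hkn).1 _ hd₂
    have h1 : e ≫ qa (k + 1) = 0 := by
      obtain ⟨ψ, hψ⟩ : ∃ ψ : Y k ⟶ X'.X (k + 1), e ≫ qa (k + 1) = b k ≫ ψ :=
        Pretriangulated.Triangle.yoneda_exact₂ _ (hP k hkn).1 (e ≫ qa (k + 1))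
          ((Category.assoc _ _ _).symm.trans ((congrArg (· ≫ qa (k + 1)) he.symm).trans hd₁))
      have h2 := hX1 k 0 (k + 1) le_rfl (by omega) hk (ψ ≫ (shiftFunctorZero D ℤ).inv.app _)
      have h3 : ψ = 0 := by
        rw [← cancel_mono ((shiftFunctorZero D ℤ).inv.app (X'.X (k + 1))), zero_comp]
        exact h2
      rw [hψ, h3, comp_zero]
    have h4 : e = 0 := lift₁ (qhP k hkn).1 e h1 (hX2 k 1 (k + 1) le_rfl (by omega) hk)
    rw [h4, comp_zero, sub_eq_zero] at he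
    exact he

end Groth.Agent.S6623
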