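import Groth.Statements.S6626
import Groth.Agent.Lib.EtSite.PropC
-- import your own Groth.Agent.* helpers here

set_option autoImplicit false
open CategoryTheory CategoryTheory.Limits AlgebraicGeometry Opposite
universe u
open EtCore

namespace Groth.Agent.S6626

/-- Let f : X ⟶ Y be a morphism of schemes satisfying condition (A) (for every etale U ⟶ X and every
point u of U there are an etale V ⟶ Y, an open and closed subscheme W of X ×_Y V and an X-morphism W
⟶ U whose image contains u). Then, on abelian sheaves on the small etale sites, f_* reflects
monomorphisms and epimorphisms, the counit f⁻¹ f_* F ⟶ F is an epimorphism for every F, and f_* is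
faithful. -/
theorem result {X Y : Scheme.{u}} (f : X ⟶ Y) (hA : BigSite.PropA f) :
    (EtCoh.push f).ReflectsMonomorphisms ∧ (EtCoh.push f).ReflectsEpimorphisms ∧
      (∀ F : EtCoh.Ab X, Epi ((EtCoh.pullPushAdj f).counit.app F)) ∧ (EtCoh.push f).Faithful := by
  have := GrothLib.EtSite.push_faithful_of_propA f hA
  exact ⟨inferInstance, inferInstance, fun F => (EtCoh.pullPushAdj f).counit_epi_of_R_faithful F,
    inferInstance⟩

end Groth.Agent.S6626
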