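import Groth.Statements.S6627
import Groth.Agent.Lib.Weight.Radicial
import Groth.Agent.Lib.EtLocal.Parts
-- import your own Groth.Agent.* helpers here

set_option autoImplicit false
open CategoryTheory CategoryTheory.Limits AlgebraicGeometry Opposite
universe u
open EtCore

namespace Groth.Agent.S6627

/-- An unramified morphism between points with purely inseparable residue extension over a base is trivial on residue fields. -/
theorem surjective_residueFieldMap_of_purelyInseparable {T P V : Scheme.{u}} (j : T ⟶ P) (σ : P ⟶ V) (π : T ⟶ V)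
    [LocallyOfFiniteType j] [FormallyUnramified j] (hπ : j ≫ σ = π) (t : T)
    (h : letI := (π.residueFieldMap t).hom.toAlgebra
      IsPurelyInseparable (V.residueField (π t)) (T.residueField t)) :
    Function.Surjective (j.residueFieldMap t) := by
  subst hπ
  letI := (σ.residueFieldMap (j t)).hom.toAlgebra
  letI := (j.residueFieldMap t).hom.toAlgebra
  letI : Algebra (V.residueField (σ (j t))) (T.residueField t) :=
    ((j ≫ σ).residueFieldMap t).hom.toAlgebra
  haveI : IsScalarTower (V.residueField (σ (j t))) (P.residueField (j t)) (T.residueField t) :=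
    IsScalarTower.of_algebraMap_eq' (congrArg CommRingCat.Hom.hom (Scheme.residueFieldMap_comp j σ t))
  haveI : IsPurelyInseparable (V.residueField (σ (j t))) (T.residueField t) := h
  haveI : IsPurelyInseparable (P.residueField (j t)) (T.residueField t) :=
    IsPurelyInseparable.tower_top (V.residueField (σ (j t))) _ _
  exact IsPurelyInseparable.surjective_algebraMap_of_isSeparable (P.residueField (j t)) (T.residueField t)

open GrothLib in
/-- A point with trivial residue extension and alone in its fibre of a finite etale morphism has rank one. -/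
theorem finrank_eq_one_of_subsingleton_fibre {T Z : Scheme.{u}} (q : T ⟶ Z) [IsFinite q] [Etale q] (t : T)
    (huniq : ∀ t' : T, q t' = q t → t' = t) (hs : Function.Surjective (q.residueFieldMap t)) :
    q.finrank (q t) = 1 := by
  obtain ⟨O, hO, hc⟩ := EtBasicB.exists_nhd_isClosedImmersion q (q t) t
    (Set.ext fun w => ⟨fun h => huniq w h, fun h => by subst h; rfl⟩) hs
  haveI : Etale (q ∣_ O) := IsZariskiLocalAtTarget.restrict ‹Etale q› O
  haveI : IsOpenImmersion (q ∣_ O) := IsOpenImmersion.of_flat_of_mono _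
  let O' : Z.Opens := O.ι ''ᵁ (q ∣_ O).opensRange
  have hle : O' ≤ O := by rintro _ ⟨z, -, rfl⟩; exact z.2
  have hmem : q t ∈ O' :=
    ⟨⟨q t, hO⟩, ⟨(⟨t, hO⟩ : (q ⁻¹ᵁ O).toScheme), Subtype.ext (by
      show O.ι ((q ∣_ O) _) = _
      rw [← Scheme.Hom.comp_apply, morphismRestrict_ι]; rfl)⟩, rfl⟩
  haveI : IsOpenImmersion (q ∣_ O') :=
    EtLocal.of_le (P := @IsOpenImmersion) q hle ‹IsOpenImmersion (q ∣_ O)›
  haveI : IsIso (q ∣_ O') := by
    rw [isIso_iff_isOpenImmersion_and_surjective]
    refine ⟨inferInstance, ⟨fun z => ?_⟩⟩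
    obtain ⟨w, ⟨y, hy⟩, hw⟩ := z.2
    have e : O.ι ((q ∣_ O) y) = q ((q ⁻¹ᵁ O).ι y) := by
      rw [← Scheme.Hom.comp_apply, morphismRestrict_ι, Scheme.Hom.comp_apply]
    have hqy : q y.1 = z.1 := e.symm.trans (Eq.trans (congrArg O.ι hy) hw)
    refine ⟨⟨y.1, show q y.1 ∈ O' by rw [hqy]; exact z.2⟩, Subtype.ext ?_⟩
    show O'.ι ((q ∣_ O') _) = _
    rw [← Scheme.Hom.comp_apply, morphismRestrict_ι]; exact hqy
  have h := Scheme.Hom.finrank_of_isPullback _ _ _ _ (isPullback_morphismRestrict q O').flip ⟨q t, hmem⟩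
  rw [Scheme.Hom.finrank_eq_one_of_isIso] at h
  exact h.symm



/-- A separated morphism of schemes that is locally quasi-finite (locally of finite type with discrete
fibres) satisfies condition (A): for every etale U ⟶ X and every point u of U there are an etale V ⟶
Y, an open and closed subscheme W of X ×_Y V and an X-morphism W ⟶ U whose image contains u.
(Locally of finite type is part of the meaning of locally quasi-finite here and is carried as a
separate hypothesis.) -/
theorem result {X Y : Scheme.{u}} (f : X ⟶ Y) [IsSeparated f]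
    [LocallyQuasiFinite f] [LocallyOfFiniteType f] : BigSite.PropA f := by
  intro U g _ u
  have hlqf : LocallyQuasiFinite (g ≫ f) := by
    haveI := GrothLib.EtBasicB.locallyQuasiFinite_of_unramified g
    infer_instance
  obtain ⟨V, v, vp, hv, hgu, J, -, P, p, hP, -, hcov⟩ := GrothLib.Weight.exists_radicial_parts (g ≫ f) ((g ≫ f) u)
    (fun _ : Fin 1 => u) (fun _ _ _ => Subsingleton.elim _ _) (fun _ => rfl) (fun _ => (g ≫ f).quasiFiniteAt u)
  haveI := hv
  obtain ⟨w₀, hw₀, hw₀'⟩ := Scheme.Pullback.exists_preimage_pullback (f := g ≫ f) (g := v) u vp hgu.symm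
  obtain ⟨j, hj⟩ := hcov w₀ 0 hw₀' hw₀
  obtain ⟨hpP, hfin, hpv, huniq, ⟨-, hpi⟩, hpu⟩ := hP 0 j
  let b : pullback (g ≫ f) v ⟶ pullback f v := pullback.lift (pullback.fst _ _ ≫ g) (pullback.snd _ _)
    (by rw [Category.assoc]; exact pullback.condition)
  have hb₁ : b ≫ pullback.fst f v = pullback.fst _ _ ≫ g := pullback.lift_fst _ _ _
  have hb₂ : b ≫ pullback.snd f v = pullback.snd _ _ := pullback.lift_snd _ _ _
  haveI : Etale b := by
    have hsq : IsPullback b (pullback.fst (g ≫ f) v) (pullback.fst f v) g := by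
      refine IsPullback.of_right (h₁₂ := pullback.snd f v) (h₂₂ := f) (v₁₃ := v) ?_ hb₁
        (IsPullback.of_hasPullback f v).flip
      rw [hb₂]
      exact (IsPullback.of_hasPullback (g ≫ f) v).flip
    exact MorphismProperty.of_isPullback hsq.flip ‹Etale g›
  let q : (P 0 j).toScheme ⟶ pullback f v := (P 0 j).ι ≫ b
  have hq₂ : q ≫ pullback.snd f v = (P 0 j).ι ≫ pullback.snd _ _ := by rw [Category.assoc, hb₂]
  haveI : IsFinite (q ≫ pullback.snd f v) := hq₂.symm ▸ hfin
  haveI : IsFinite q := MorphismProperty.of_postcomp (W := @IsFinite) (W' := @IsSeparated) q (pullback.snd f v)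
    inferInstance inferInstance
  haveI : Etale q := inferInstance
  let t : (P 0 j).toScheme := ⟨p 0 j, hpP⟩
  have ht1 : q.finrank (q t) = 1 := by
    refine finrank_eq_one_of_subsingleton_fibre q t (fun t' ht' => Subtype.ext (huniq t'.1 t'.2 ?_)) ?_
    · have := congrArg (pullback.snd f v) ht'
      rw [← Scheme.Hom.comp_apply, ← Scheme.Hom.comp_apply, hq₂, Scheme.Hom.comp_apply, Scheme.Hom.comp_apply] at this
      exact this.trans hpv
    · have hbs : Function.Surjective (b.residueFieldMap (p 0 j)) :=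
        surjective_residueFieldMap_of_purelyInseparable b (pullback.snd f v) _ hb₂ (p 0 j) hpi
      rw [Scheme.residueFieldMap_comp]
      intro z
      obtain ⟨y, rfl⟩ := (ConcreteCategory.bijective_of_isIso ((P 0 j).ι.residueFieldMap t)).2 z
      obtain ⟨s, rfl⟩ := hbs y
      exact ⟨s, rfl⟩
  let R : (pullback f v).Opens := ⟨{x | q.finrank x = 1}, q.isLocallyConstant_finrank.isOpen_fiber 1⟩
  have hR : IsClosed (R : Set ↥(pullback f v)) := q.isLocallyConstant_finrank.isClosed_fiber 1
  haveI : IsFinite (q ∣_ R) := IsZariskiLocalAtTarget.restrict ‹IsFinite q› R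
  haveI : Etale (q ∣_ R) := IsZariskiLocalAtTarget.restrict ‹Etale q› R
  haveI : IsIso (q ∣_ R) := (Scheme.Hom.isIso_iff_finrank_eq _).2 (funext fun x => by
    rw [Scheme.Hom.finrank_of_isPullback _ _ _ _ (isPullback_morphismRestrict q R).flip x]
    exact x.2)
  refine ⟨V, v, inferInstance, R, hR, inv (q ∣_ R) ≫ (q ⁻¹ᵁ R).ι ≫ (P 0 j).ι ≫ pullback.fst _ _, ?_, ?_⟩
  · rw [Category.assoc, IsIso.inv_comp_eq, morphismRestrict_ι_assoc]
    simp only [Category.assoc, q, hb₁]
  · let t' : (q ⁻¹ᵁ R).toScheme := ⟨t, ht1⟩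
    refine ⟨(q ∣_ R) t', ?_⟩
    rw [← Scheme.Hom.comp_apply, IsIso.hom_inv_id_assoc]
    exact hpu

end Groth.Agent.S6627
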