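import Groth.Statements.S6636
import Groth.Agent.Lib.BigEt.Closed
-- import your own Groth.Agent.* helpers here

set_option autoImplicit false
open CategoryTheory CategoryTheory.Limits AlgebraicGeometry Opposite
universe u
open BigSite

namespace Groth.Agent.S6636

/-- For the etale and the smooth topologies: for a closed immersion of schemes f : X ⟶ Y the big direct
image along f preserves coequalizers and pushouts of sheaves of sets, and preserves finite colimits
of abelian sheaves (so it is exact there, being a right adjoint). (The published statement also
covers the syntomic topology; this row treats the etale and smooth topologies only.) -/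
theorem result {X Y : Scheme.{u}} (f : X ⟶ Y) [IsClosedImmersion f]
    (K : Precoverage Scheme.{u}) (hK : K = Scheme.etalePrecoverage ∨ K = Scheme.precoverage @Smooth) :
    PreservesColimitsOfShape WalkingParallelPair (BigSite.pushBig K f (Type (u + 1))) ∧
      PreservesColimitsOfShape WalkingSpan (BigSite.pushBig K f (Type (u + 1))) ∧
      PreservesFiniteColimits (BigSite.pushBig K f AddCommGrpCat.{u + 1}) := by
  have h := GrothLib.BigEt.isAlmostCocontinuous_pullback f K hK
  exact ⟨GrothLib.BigEt.AlmostCocont.preservesColimitsOfShape _ _ (Over.pullback f) h WalkingParallelPair,
    GrothLib.BigEt.AlmostCocont.preservesColimitsOfShape _ _ (Over.pullback f) h WalkingSpan,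
    GrothLib.BigEt.preservesFiniteColimits_pushBig f K hK⟩

end Groth.Agent.S6636
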