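import Groth.Statements.S6640
import Groth.Agent.Lib.Constructible.ConstGeneric
-- import your own Groth.Agent.* helpers here

set_option autoImplicit false
open CategoryTheory CategoryTheory.Limits AlgebraicGeometry Opposite
universe u
open EtCore

namespace Groth.Agent.S6640

/-- Let X be an irreducible scheme, ξ a geometric point over its generic point, A' an additive subgroup
of an abelian group A, and G an abelian sheaf on the small etale site of X with monomorphisms a :
const A' ⟶ G and b : G ⟶ const A whose composite is the map of constant sheaves induced by the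
inclusion. If the stalk of a at ξ is an isomorphism, then a is an isomorphism. -/
theorem result {X : Scheme.{u}} [IrreducibleSpace ↥X]
    {Ω : Type u} [Field Ω] [IsSepClosed Ω] (ξ : Spec (CommRingCat.of Ω) ⟶ X)
    (hξ : ξ.base default = genericPoint ↥X)
    (A : Type) [AddCommGroup A] (A' : AddSubgroup A) (G : EtCoh.Ab X)
    (a : EtCoh.const X ↥A' ⟶ G) (b : G ⟶ EtCoh.const X A) [Mono a] [Mono b]
    (hab : a ≫ b = (constantSheaf X.smallEtaleTopology AddCommGrpCat.{u + 1}).map
      (AddCommGrpCat.ofHom (AddEquiv.ulift.symm.toAddMonoidHom.comp (A'.subtype.comp AddEquiv.ulift.toAddMonoidHom))))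
    (hst : IsIso ((EtCoh.stalk ξ).map a)) : IsIso a := by
  let q : AddCommGrpCat.of (ULift.{u + 1} A) ⟶ AddCommGrpCat.of (ULift.{u + 1} (A ⧸ A')) :=
    AddCommGrpCat.ofHom (AddEquiv.ulift.symm.toAddMonoidHom.comp ((QuotientAddGroup.mk' A').comp AddEquiv.ulift.toAddMonoidHom))
  refine GrothLib.Constructible.isIso_of_stalk_genericPoint ξ hξ _ q ?_ ?_ a b hab hst
  · ext x
    exact (QuotientAddGroup.eq_zero_iff _).2 x.down.2
  · refine (ShortComplex.ab_exact_iff _).2 fun x hx => ?_
    exact ⟨ULift.up ⟨x.down, (QuotientAddGroup.eq_zero_iff _).1 (congrArg ULift.down hx)⟩, rfl⟩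

end Groth.Agent.S6640
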