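import Groth.Statements.S6641
import Groth.Agent.S0088
import Groth.Agent.Lib.EtColim.Cohomology
import Groth.Agent.Lib.EtDesc19.IntegralSS
import Groth.Agent.Lib.CohDer19.Good
import Mathlib.FieldTheory.IsSepClosed
import Mathlib.AlgebraicGeometry.AlgClosed.Basic

set_option autoImplicit false
open CategoryTheory CategoryTheory.Limits AlgebraicGeometry Opposite
universe u
open Curves

namespace Groth.Agent.S6641

/-- Let X be a smooth curve over an algebraically closed field k (here: X integral of dimension one,
smooth, separated and of finite type over k), and for a closed point x let i_x : Spec κ(x) ⟶ X be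
its inclusion. Then H^q of the direct sum, over all closed points x, of the sheaves (i_x)_* Z (given
here as any colimit cofan of that family) vanishes for every q ≥ 1. -/
theorem result (k : Type u) [Field k] [IsAlgClosed k] (X : Scheme.{u})
    (f : X ⟶ Spec (CommRingCat.of k)) [Smooth f] [IsSeparated f] [LocallyOfFiniteType f] [QuasiCompact f] [IsIntegral X]
    (hdim : topologicalKrullDim ↥X = 1)
    (c : Cofan fun x : {x : ↥X // IsClosed ({x} : Set ↥X)} =>
      (EtCoh.push (X.fromSpecResidueField x.1)).obj (EtCoh.const (Spec (X.residueField x.1)) ℤ))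
    (hc : IsColimit c) (q : ℕ) (hq : 1 ≤ q) :
    Subsingleton (EtCoh.H X c.pt q) := by
  haveI : CompactSpace ↥X := QuasiCompact.compactSpace_of_compactSpace f
  haveI : QuasiSeparatedSpace ↥X := quasiSeparatedSpace_of_quasiSeparated f
  let α := {x : ↥X // IsClosed ({x} : Set ↥X)}
  haveI : PreservesColimitsOfShape (Finset (Discrete α)) (EtCoh.HF X q) :=
    GrothLib.EtColim.preservesColimitsOfShape_HF_small q _
  haveI : PreservesColimitsOfShape (Discrete α) (EtCoh.HF X q) :=
    GrothLib.CohDer19.preservesColimitsOfShape_discrete _
  have hzero : ∀ x : α, IsZero ((EtCoh.HF X q).obj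
      ((EtCoh.push (X.fromSpecResidueField x.1)).obj (EtCoh.const (Spec (X.residueField x.1)) ℤ))) := by
    intro x
    haveI : IsClosedImmersion (X.fromSpecResidueField x.1) :=
      .of_isPreimmersion _ (by rw [Scheme.range_fromSpecResidueField]; exact x.2)
    obtain ⟨e⟩ := GrothLib.EtDesc19.nonempty_H_push_addEquiv (X.fromSpecResidueField x.1)
      (EtCoh.const (Spec (X.residueField x.1)) ℤ) q
    have hsub : Subsingleton (EtCoh.H (Spec (X.residueField x.1)) (EtCoh.const (Spec (X.residueField x.1)) ℤ) q) := by
      refine Groth.Agent.S0088.result _ (fun s => ?_) (fun s => ?_) _ q hq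
      · haveI : Subsingleton ↥(Spec (X.residueField x.1)) :=
          inferInstanceAs (Subsingleton (PrimeSpectrum (X.residueField x.1)))
        rw [show ({s} : Set ↥(Spec (X.residueField x.1))) = Set.univ from Set.eq_univ_of_forall fun t => Subsingleton.elim t s]
        exact isClosed_univ
      · let j := X.fromSpecResidueField x.1 ≫ f
        have hs : IsClosed ({s} : Set ↥(Spec (X.residueField x.1))) := by
          haveI : Subsingleton ↥(Spec (X.residueField x.1)) :=
            inferInstanceAs (Subsingleton (PrimeSpectrum (X.residueField x.1)))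
          rw [show ({s} : Set ↥(Spec (X.residueField x.1))) = Set.univ from Set.eq_univ_of_forall fun t => Subsingleton.elim t s]
          exact isClosed_univ
        haveI : IsAlgClosed ((Spec (X.residueField x.1)).residueField s) :=
          IsAlgClosed.of_ringEquiv k _ (residueFieldIsoBase j s hs).commRingCatIsoToRingEquiv.symm
        infer_instance
    haveI : Subsingleton ((EtCoh.HF X q).obj
        ((EtCoh.push (X.fromSpecResidueField x.1)).obj (EtCoh.const (Spec (X.residueField x.1)) ℤ))) :=
      @Equiv.subsingleton _ _ e.symm.toEquiv hsub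
    exact AddCommGrpCat.isZero_of_subsingleton _
  have hT := isColimitOfPreserves (EtCoh.HF X q) hc
  have hz : IsZero ((EtCoh.HF X q).obj c.pt) :=
    (IsZero.iff_id_eq_zero _).2 (hT.hom_ext fun j => (hzero j.as).eq_of_src _ _)
  exact AddCommGrpCat.subsingleton_of_isZero hz

end Groth.Agent.S6641
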