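import Groth.Statements.S6643
import Groth.Agent.Lib.TrivMod.Et
import Mathlib.LinearAlgebra.TensorProduct.Basic

set_option autoImplicit false
set_option linter.style.haveILetI false
set_option backward.isDefEq.respectTransparency.types false
open CategoryTheory CategoryTheory.Limits AlgebraicGeometry Opposite
universe u
open EtModW

namespace Groth.Agent.S6643

/-- On the small etale site of a scheme X, the tensor product over Λ of two finite type locally constant
sheaves of Λ-modules is finite type locally constant. (The published statement covers all locally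
constant sheaves of Λ-modules; this row treats the finite type ones.) -/
theorem result (Λ : Type (u + 1)) [CommRing Λ] {X : Scheme.{u}} (F G : EtModW.Mod Λ X)
    (hF : EtModW.IsFTLocConst Λ F) (hG : EtModW.IsFTLocConst Λ G) :
    EtModW.IsFTLocConst Λ (((EtModD.tensorBi Λ X).obj F).obj G) := by
  classical
  haveI := GrothLib.TrivEt.hasSheafCompose_et Λ X
  refine GrothLib.TrivEt.isFTLocConst_of_forall fun x => ?_
  obtain ⟨V, v, hv, M, N, _, _, _, _, _, _, m, n, hm, hn⟩ := GrothLib.TrivEt.exists_common hF hG x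
  let P : X.Etaleᵒᵖ ⥤ ModuleCat.{u + 1} Λ := MonoidalCategoryStruct.tensorObj F.obj G.obj
  let η : P ⟶ (((EtModD.tensorBi Λ X).obj F).obj G).obj := toSheafify X.smallEtaleTopology P
  obtain ⟨hi, hs⟩ := (X.smallEtaleTopology.W_iff_isLocallyBijective _).1 (X.smallEtaleTopology.W_toSheafify P)
  haveI : Presheaf.IsLocallyInjective X.smallEtaleTopology η := hi
  haveI : Presheaf.IsLocallySurjective X.smallEtaleTopology η := hs
  let T := ((EtModD.tensorBi Λ X).obj F).obj G
  let μ : TensorProduct Λ M N →ₗ[Λ] T.obj.obj (op V) :=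
    (η.app (op V)).hom.comp (TensorProduct.map m n)
  have hμ : ∀ {W : X.Etale} (f : W ⟶ V) (z : TensorProduct Λ M N),
      GrothLib.TrivMod.res _ T f (μ z) = η.app (op W)
        (TensorProduct.map ((GrothLib.TrivMod.res _ F f).comp m) ((GrothLib.TrivMod.res _ G f).comp n) z) := by
    intro W f z
    refine (NatTrans.naturality_apply η f.op _).symm.trans (congrArg (η.app (op W)) ?_)
    exact LinearMap.congr_fun (show (P.map f.op).hom.comp (TensorProduct.map m n) =
      TensorProduct.map ((GrothLib.TrivMod.res _ F f).comp m) ((GrothLib.TrivMod.res _ G f).comp n) from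
        TensorProduct.ext' fun a b => rfl) z
  refine ⟨V, v, hv, TensorProduct Λ M N, inferInstance, inferInstance, inferInstance, μ,
    fun W f s => ?_, fun W f z hz => or_iff_not_imp_right.2 fun hW => ?_⟩
  · let S : Sieve W :=
      { arrows := fun W' g => ∃ z, GrothLib.TrivMod.res _ T g s = GrothLib.TrivMod.res _ T (g ≫ f) (μ z)
        downward_closed := by
          rintro W' W'' g ⟨z, hz⟩ l
          exact ⟨z, by rw [GrothLib.TrivMod.res_comp, hz, ← GrothLib.TrivMod.res_comp, Category.assoc]⟩ }
    refine ⟨S, X.smallEtaleTopology.transitive (Presheaf.imageSieve_mem X.smallEtaleTopology η s) S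
      fun W₁ g hg => ?_, fun W' g hg => hg⟩
    obtain ⟨t, ht⟩ := hg
    suffices ∀ t : TensorProduct Λ (F.obj.obj (op W₁)) (G.obj.obj (op W₁)), ∃ R ∈ X.smallEtaleTopology W₁, ∀ ⦃W₂ : X.Etale⦄ (k : W₂ ⟶ W₁),
        R k → ∃ z, TensorProduct.map (GrothLib.TrivMod.res _ F k) (GrothLib.TrivMod.res _ G k) t =
          TensorProduct.map ((GrothLib.TrivMod.res _ F (k ≫ g ≫ f)).comp m)
            ((GrothLib.TrivMod.res _ G (k ≫ g ≫ f)).comp n) z by
      obtain ⟨R, hR, hR'⟩ := this t
      refine X.smallEtaleTopology.superset_covering (fun W₂ k hk => ?_) hR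
      obtain ⟨z, hz⟩ := hR' k hk
      refine ⟨z, ?_⟩
      rw [GrothLib.TrivMod.res_comp, hμ, Category.assoc, ← hz,
        show GrothLib.TrivMod.res _ T g s = η.app (op W₁) t from ht.symm]
      exact (NatTrans.naturality_apply η k.op t).symm
    intro t
    induction t using TensorProduct.induction_on with
    | zero => exact ⟨⊤, X.smallEtaleTopology.top_mem _, fun W₂ k _ => ⟨0, by rw [map_zero, map_zero]⟩⟩
    | tmul a b =>
      obtain ⟨R, hR, hR'⟩ := hm.surj (g ≫ f) a
      obtain ⟨R₂, hR₂, hR₂'⟩ := hn.surj (g ≫ f) b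
      refine ⟨R ⊓ R₂, X.smallEtaleTopology.intersection_covering hR hR₂, fun W₂ k hk => ?_⟩
      obtain ⟨a', ha⟩ := hR' k hk.1
      obtain ⟨b', hb⟩ := hR₂' k hk.2
      exact ⟨a' ⊗ₜ b', by rw [TensorProduct.map_tmul, TensorProduct.map_tmul, ha, hb]; rfl⟩
    | add a b iha ihb =>
      obtain ⟨R, hR, hR'⟩ := iha
      obtain ⟨R₂, hR₂, hR₂'⟩ := ihb
      refine ⟨R ⊓ R₂, X.smallEtaleTopology.intersection_covering hR hR₂, fun W₂ k hk => ?_⟩
      obtain ⟨za, ha⟩ := hR' k hk.1
      obtain ⟨zb, hb⟩ := hR₂' k hk.2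
      exact ⟨za + zb, by rw [map_add, map_add, ha, hb]⟩
  · obtain ⟨w, -⟩ : ∃ w : W.left, True := by
      by_contra hne
      exact hW (GrothLib.TrivEt.mem_of_forall _ fun w => (hne ⟨w, trivial⟩).elim)
    rw [hμ f z] at hz
    obtain ⟨W', g, w', hg, -⟩ := GrothLib.TrivEt.exists_of_mem
      (Presheaf.equalizerSieve_mem X.smallEtaleTopology η _ 0 (hz.trans (map_zero _).symm)) w
    obtain ⟨r₁, hr₁⟩ := GrothLib.TrivEt.exists_retraction hm (g ≫ f) w'
    obtain ⟨r₂, hr₂⟩ := GrothLib.TrivEt.exists_retraction hn (g ≫ f) w'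
    have h0 : ∀ y : TensorProduct Λ M N, TensorProduct.map r₁ r₂ (TensorProduct.map
        (GrothLib.TrivMod.res _ F g) (GrothLib.TrivMod.res _ G g)
        (TensorProduct.map ((GrothLib.TrivMod.res _ F f).comp m) ((GrothLib.TrivMod.res _ G f).comp n) y)) = y := by
      intro y
      induction y using TensorProduct.induction_on with
      | zero => simp
      | tmul a b =>
        simp only [TensorProduct.map_tmul, LinearMap.comp_apply]
        rw [← GrothLib.TrivMod.res_comp, ← GrothLib.TrivMod.res_comp, hr₁, hr₂]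
      | add a b ha hb => simp only [map_add, ha, hb]
    rw [← h0 z]
    refine (congrArg _ ?_).trans (map_zero _)
    exact Eq.trans hg (map_zero _)

end Groth.Agent.S6643
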