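import Groth.Statements.S6648
import Groth.Agent.Lib.EtBasicB.SuppRings
-- import your own Groth.Agent.* helpers here

set_option autoImplicit false
open CategoryTheory CategoryTheory.Limits AlgebraicGeometry Opposite
universe u
open EtCore

namespace Groth.Agent.S6648

/-- For a sheaf of (commutative) rings O on the small etale site of a scheme S, the set of points s of S
over which some geometric stalk of O is a nonzero ring is closed in S. (Rings are taken in the
universe of the schemes, as for the structure presheaf of the prelude.) -/
theorem result {S : Scheme.{u}} (O : Sheaf S.smallEtaleTopology CommRingCat.{u}) :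
    IsClosed {s : ↥S | ∃ (Ω : Type u) (_ : Field Ω) (_ : IsSepClosed Ω) (ξ : Spec (CommRingCat.of Ω) ⟶ S),
      ξ.base default = s ∧ Nontrivial ↑((Scheme.pointSmallEtale ξ).presheafFiber.obj O.obj)} := GrothLib.EtBasicB.isClosed_supp_rings O

end Groth.Agent.S6648
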