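import Groth.Statements.S6649
import Groth.Agent.Lib.CiField.Transcendental
import Groth.Agent.Lib.CiField.Brauer
import Groth.Agent.Lib.Dim.Scheme

set_option autoImplicit false
open CategoryTheory CategoryTheory.Limits AlgebraicGeometry Opposite
universe u
open Curves

namespace Groth.Agent.S6649

/-- For a curve C over an algebraically closed field k (C integral of dimension one, separated and of
finite type over k) the Brauer group of the function field of C is zero: every finite-dimensional
central division algebra over the function field has dimension one. -/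
theorem result (k : Type u) [Field k] [IsAlgClosed k] (C : Scheme.{u})
    (f : C ⟶ Spec (CommRingCat.of k)) [IsSeparated f] [LocallyOfFiniteType f] [QuasiCompact f] [IsIntegral C]
    (hdim : topologicalKrullDim ↥C = 1)
    (D : Type u) [DivisionRing D] [Algebra ↑C.functionField D] [Algebra.IsCentral ↑C.functionField D]
    [FiniteDimensional ↑C.functionField D] : Module.finrank ↑C.functionField D = 1 := by
  obtain ⟨x⟩ := (inferInstance : Nonempty C)
  obtain ⟨_, ⟨U, hU, rfl⟩, hxU, -⟩ :=
    C.isBasis_affineOpens.exists_subset_of_mem_open (Set.mem_univ x) isOpen_univ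
  have : Nonempty U := ⟨⟨x, hxU⟩⟩
  obtain ⟨m, hm, hopen⟩ := GrothLib.Dim.exists_nat_dim_open f
  have hU1 : ringKrullDim Γ(C, U) = (1 : ℕ) := by
    rw [← GrothLib.Dim.topologicalKrullDim_affineOpen hU, hopen U ‹_›, ← hm, hdim]; norm_num
  obtain ⟨ψ, hψ, -⟩ := GrothLib.Dim.exists_finiteType_specMap f hU
  algebraize [ψ.hom]
  have : Algebra.FiniteType k Γ(C, U) := hψ
  obtain ⟨n, htr, hn⟩ := GrothLib.Dim.exists_nat_trdeg_eq_and_ringKrullDim_eq k Γ(C, U)
  have hn1 : n = 1 := by rw [hU1] at hn; exact_mod_cast hn.symm
  let : Algebra k C.functionField := ((algebraMap Γ(C, U) C.functionField).comp (algebraMap k Γ(C, U))).toAlgebra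
  have : IsScalarTower k Γ(C, U) C.functionField := IsScalarTower.of_algebraMap_eq' rfl
  have := functionField_isFractionRing_of_isAffineOpen C U hU
  have : FaithfulSMul k Γ(C, U) := (faithfulSMul_iff_algebraMap_injective k Γ(C, U)).mpr (algebraMap k Γ(C, U)).injective
  have : FaithfulSMul Γ(C, U) C.functionField := (faithfulSMul_iff_algebraMap_injective _ _).mpr
    (IsFractionRing.injective Γ(C, U) C.functionField)
  have : Algebra.IsAlgebraic Γ(C, U) C.functionField := IsLocalization.isAlgebraic _ (nonZeroDivisors Γ(C, U))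
  have htrK : Algebra.trdeg k C.functionField = 1 := by
    rw [← trdeg_add_eq k Γ(C, U) (A := ↑C.functionField), htr, trdeg_eq_zero, hn1]; simp
  obtain ⟨ι, y, hy⟩ := exists_isTranscendenceBasis' k C.functionField
  have hc : Cardinal.mk ι = 1 := by rw [← htrK]; exact hy.cardinalMk_eq_trdeg
  have : Finite ι := Cardinal.mk_lt_aleph0_iff.mp (hc ▸ Cardinal.one_lt_aleph0)
  have hcard : Nat.card ι = 1 := by rw [Nat.card, hc, Cardinal.one_toNat]
  have hk : Curves.IsCi k 0 := fun r n f d hf hd h =>
    GrothLib.CiField.exists_zero_isAlgClosed r n f d hf hd (by simpa using h)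
  have hK : Curves.IsCi C.functionField 1 := by
    have := GrothLib.CiField.isCi_of_isTranscendenceBasis (hy.comp_equiv (Finite.equivFin ι).symm) hk
    rwa [zero_add, hcard] at this
  refine GrothLib.CiField.finrank_divisionRing_eq_one (fun n d f hf hd h => ?_) D
  obtain ⟨a, ha, h0⟩ := hK 1 n (fun _ => f) (fun _ => d) (fun _ => hf) (fun _ => hd) (by simpa using h)
  exact ⟨a, ha, h0 0⟩

end Groth.Agent.S6649
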