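import Groth.Statements.S6652
import Groth.Agent.Lib.ProFet18
-- import your own Groth.Agent.* helpers here

set_option autoImplicit false
open CategoryTheory CategoryTheory.Limits AlgebraicGeometry Opposite
universe u
open EtCore

namespace Groth.Agent.S6652

/-- Let ℓ be a prime, n > 0, S a quasi-compact quasi-separated scheme and X the limit (in schemes over
S) of a nonempty directed inverse system of S-schemes X_i, each finite etale over S with all
geometric fibres of one cardinality d_i prime to ℓ; let g : X ⟶ S be the structure morphism. Call an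
abelian sheaf ℓ-power torsion when every section is, etale locally around every point, killed by a
power of ℓ (the predicate T below, pinned by hT). Then for an ℓ-power torsion G on S_etale with
H^n(S, G) nonzero, g⁻¹G is ℓ-power torsion with H^n(X, g⁻¹G) nonzero; and for an ℓ-power torsion F
on X_etale with H^n(X, F) nonzero, g_*F is ℓ-power torsion with H^n(S, g_*F) nonzero. (The published
statement is the equivalence of the two nonvanishing conditions; this row states it through the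
explicit sheaves g⁻¹G and g_*F.) -/
theorem result (ℓ : ℕ) [Fact ℓ.Prime] (n : ℕ) (hn : 0 < n)
    (T : ∀ (Y : Scheme.{u}), EtCoh.Ab Y → Prop)
    (hT : ∀ (Y : Scheme.{u}) (G : EtCoh.Ab Y), T Y G ↔
      ∀ (U : Y.Etale) (s : EtCoh.sect G U) (y : ↥U.left), ∃ (V : Y.Etale) (φ : V ⟶ U),
        (∃ v : ↥V.left, φ.left.base v = y) ∧ ∃ m : ℕ, (ℓ ^ m) • G.obj.map φ.op s = 0)
    (S : Scheme.{u}) [CompactSpace ↥S] [QuasiSeparatedSpace ↥S]
    {ι : Type u} [Preorder ι] [IsDirected ι (· ≤ ·)] [Nonempty ι] (Xs : ιᵒᵖ ⥤ Over S)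
    (hfin : ∀ i, IsFinite (Xs.obj i).hom) (het : ∀ i, AlgebraicGeometry.Etale (Xs.obj i).hom)
    (d : ιᵒᵖ → ℕ) (hd : ∀ i, ℓ.Coprime (d i))
    (hdeg : ∀ (i : ιᵒᵖ) (Ω : Type u) [Field Ω] [IsAlgClosed Ω] (η : Spec (CommRingCat.of Ω) ⟶ S),
      Nat.card {t : Spec (CommRingCat.of Ω) ⟶ (Xs.obj i).left // t ≫ (Xs.obj i).hom = η} = d i)
    (c : Cone Xs) (hc : IsLimit c) :
    (∀ G : EtCoh.Ab S, T S G → Nontrivial (EtCoh.H S G n) →
      T c.pt.left ((EtCoh.pull c.pt.hom).obj G) ∧ Nontrivial (EtCoh.H c.pt.left ((EtCoh.pull c.pt.hom).obj G) n)) ∧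
    (∀ F : EtCoh.Ab c.pt.left, T c.pt.left F → Nontrivial (EtCoh.H c.pt.left F n) →
      T S ((EtCoh.push c.pt.hom).obj F) ∧ Nontrivial (EtCoh.H S ((EtCoh.push c.pt.hom).obj F) n)) := by
  have hiff : ∀ (Y : Scheme.{u}) (G : EtCoh.Ab Y), T Y G ↔ EtAcyc.IsLTorsion {ℓ} G := fun Y G =>
    (hT Y G).trans (GrothLib.ProFet18.isLTorsion_iff ℓ G).symm
  obtain ⟨h1, h2⟩ := GrothLib.ProFet18.main ℓ n S Xs hfin het d hd hdeg c hc
  exact ⟨fun G hG hne => ⟨(hiff _ _).2 (h1 G ((hiff _ _).1 hG) hne).1, (h1 G ((hiff _ _).1 hG) hne).2⟩,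
    fun F hF hne => ⟨(hiff _ _).2 (h2 F ((hiff _ _).1 hF) hne).1, (h2 F ((hiff _ _).1 hF) hne).2⟩⟩

end Groth.Agent.S6652
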