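import Groth.Statements.S6653
import Groth.Agent.Lib.GalCd.DivCoprod
import Groth.Agent.Lib.AlgMisc.GeomRegAt
import Groth.Agent.Lib.RegUFD.Basic

set_option autoImplicit false
set_option backward.isDefEq.respectTransparency false
set_option backward.isDefEq.respectTransparency.types false
set_option linter.style.haveILetI false
noncomputable section
open CategoryTheory CategoryTheory.Limits AlgebraicGeometry Opposite
universe u
open Curves

namespace Groth.Agent.S6653

open CategoryTheory.Abelian in
theorem GmPush_comp {X Y Z : Scheme.{u}} (f : X ⟶ Y) (g : Z ⟶ X) :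
    EtLim.GmPush f ≫ (EtCoh.push f).map (EtLim.GmPush g) ≫ (EtCoh.pushComp f g).hom.app (EtCoh.Gm Z) =
      EtLim.GmPush (g ≫ f) := by
  refine ObjectProperty.hom_ext _ (NatTrans.ext (funext fun V => AddCommGrpCat.hom_ext (AddMonoidHom.ext fun s => ?_)))
  refine ULift.ext _ _ (Additive.toMul.injective (Units.ext ?_))
  let W := V.unop
  let m : ((EtCoh.bc (g ≫ f)).obj W).left ⟶ ((EtCoh.bc g).obj ((EtCoh.bc f).obj W)).left :=
    ((MorphismProperty.Over.pullbackComp (P := EtCoh.etaleMP) (Q := ⊤) g f).hom.app W).left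
  have key : m ≫ Limits.pullback.fst ((EtCoh.bc f).obj W).hom g ≫ Limits.pullback.fst W.hom f =
      Limits.pullback.fst W.hom (g ≫ f) := by
    simp [m]
    exact Limits.pullbackLeftPullbackSndIso_inv_fst W.hom f g
  exact ((congr($(Scheme.Hom.comp_appTop m (Limits.pullback.fst ((EtCoh.bc f).obj W).hom g ≫
      Limits.pullback.fst W.hom f)) _)).symm.trans
    (congrArg (fun r : _ ⟶ W.left => r.appTop.hom (Additive.toMul (ULift.down
      (show ULift.{u + 1} (Additive (Γ(W.left, ⊤) : Type u)ˣ) from s))).val) key))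

/-- Points which are neither closed nor maximal do not exist in dimension at most one. -/
theorem maximal_of_not_isClosed {X : Scheme.{u}} (hdim : topologicalKrullDim X ≤ 1) (x : X)
    (hx : ¬ IsClosed ({x} : Set X)) (y : X) (hy : y ⤳ x) : y = x := by
  by_contra hne
  obtain ⟨z, hz, hzx⟩ : ∃ z, x ⤳ z ∧ z ≠ x := by
    by_contra h
    push Not at h
    refine hx ?_
    rw [← closure_eq_iff_isClosed]
    exact Set.Subset.antisymm (fun w hw => h w (specializes_iff_mem_closure.2 hw)) subset_closure
  let C : X → TopologicalSpace.IrreducibleCloseds X := fun w =>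
    ⟨closure {w}, isIrreducible_singleton.closure, isClosed_closure⟩
  have hlt : ∀ {a b : X}, a ⤳ b → b ≠ a → C b < C a := fun {a b} hab hba => by
    refine lt_of_le_of_ne (specializes_iff_closure_subset.1 hab) fun e => hba ?_
    have e' : closure ({b} : Set X) = closure {a} := congrArg SetLike.coe e
    exact IsGenericPoint.eq (S := closure ({a} : Set X)) e' rfl
  let c : LTSeries (TopologicalSpace.IrreducibleCloseds X) :=
    ((RelSeries.singleton _ (C z)).snoc (C x) (hlt hz hzx)).snoc (C y)
      (by simpa using hlt hy (Ne.symm hne))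
  have := (Order.LTSeries.length_le_krullDim c).trans hdim
  simp [c] at this

theorem isIso_GmPush {X Y : Scheme.{u}} (u : X ⟶ Y) [IsIso u] : IsIso (EtLim.GmPush u) := by
  haveI : ∀ V, IsIso ((EtLim.bcProj u).app V) := fun V =>
    inferInstanceAs (IsIso (pullback.fst V.hom u))
  haveI : IsIso (Functor.whiskerRight (NatTrans.op (EtLim.bcProj u)) EtCoh.ΓUnits) := by
    haveI : ∀ V, IsIso ((Functor.whiskerRight (NatTrans.op (EtLim.bcProj u)) EtCoh.ΓUnits).app V) := fun V =>
      inferInstanceAs (IsIso (EtCoh.ΓUnits.map ((EtLim.bcProj u).app V.unop).op))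
    exact NatIso.isIso_of_isIso_app _
  haveI : IsIso ((sheafToPresheaf _ _).map (EtLim.GmPush u)) :=
    inferInstanceAs (IsIso (Functor.whiskerRight (NatTrans.op (EtLim.bcProj u)) EtCoh.ΓUnits))
  exact isIso_of_reflects_iso _ (sheafToPresheaf _ _)

/-- The fundamental exact sequence: with the divisor map left unnamed: let X be a smooth curve over an
algebraically closed field k (here: X integral of dimension one, smooth, separated and of finite
type over k), let j : Spec O_{X,η} ⟶ X be the canonical morphism from the spectrum of the local ring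
at the generic point, and for a closed point x let i_x : Spec κ(x) ⟶ X be its inclusion. Then the
canonical map G_{m,X} ⟶ j_* G_{m,η} is a monomorphism, and its cokernel is isomorphic to the direct
sum over all closed points of the sheaves (i_x)_* Z (existence of an isomorphism only; the direct
sum is given as any colimit cofan of that family). -/
theorem result (k : Type u) [Field k] [IsAlgClosed k] (X : Scheme.{u})
    (f : X ⟶ Spec (CommRingCat.of k)) [Smooth f] [IsSeparated f] [LocallyOfFiniteType f] [QuasiCompact f] [IsIntegral X]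
    (hdim : topologicalKrullDim ↥X = 1)
    (c : Cofan fun x : {x : ↥X // IsClosed ({x} : Set ↥X)} =>
      (EtCoh.push (X.fromSpecResidueField x.1)).obj (EtCoh.const (Spec (X.residueField x.1)) ℤ))
    (hc : IsColimit c) :
    Mono (EtLim.GmPush (X.fromSpecStalk (genericPoint ↥X))) ∧
      Nonempty (cokernel (EtLim.GmPush (X.fromSpecStalk (genericPoint ↥X))) ≅ c.pt) := by
  classical
  haveI : CompactSpace X := QuasiCompact.compactSpace_of_compactSpace f
  haveI : IsLocallyNoetherian X := LocallyOfFiniteType.isLocallyNoetherian f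
  haveI : AlgebraicGeometry.IsNoetherian X := {}
  haveI : JacobsonSpace X := LocallyOfFiniteType.jacobsonSpace f
  have hf : GrothLib.GalCd.EtFactorial X := fun V v => by
    haveI : Etale V.hom := V.prop
    haveI : Smooth (V.hom ≫ f) := inferInstance
    haveI : IsRegularLocalRing (V.left.presheaf.stalk v) :=
      Groth.Agent.Lib.AlgMisc.GeomRegAt.isRegularLocalRing_stalk_of_mem_smoothLocus (V.hom ≫ f) (x := v)
        (by rw [(V.hom ≫ f).smoothLocus_eq_top]; trivial)
    haveI := GrothLib.CMFree.isDomain_of_isRegularLocalRing (V.left.presheaf.stalk v)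
    exact ⟨inferInstance, GrothLib.RegUFD.ufd_of_isRegularLocalRing _⟩
  have hmax : ∀ y, y ⤳ genericPoint X → y = genericPoint X := fun y hy =>
    (hy.antisymm (genericPoint_specializes y)).eq
  have honly : ∀ z : GrothLib.GalCd.MaxPts X, z = ⟨genericPoint X, hmax⟩ := fun z =>
    Subtype.ext (z.2 _ (genericPoint_specializes z.1)).symm
  haveI : Unique (GrothLib.GalCd.MaxPts X) := ⟨⟨⟨genericPoint X, hmax⟩⟩, honly⟩
  have hnclosed : ¬ IsClosed ({genericPoint X} : Set X) := by
    intro h
    haveI : Subsingleton X := ⟨fun a b => by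
      have ha : a = genericPoint X := (genericPoint_specializes a).mem_closed h rfl
      have hb : b = genericPoint X := (genericPoint_specializes b).mem_closed h rfl
      rw [ha, hb]⟩
    have h0 := (hdim.symm.le).trans (topologicalKrullDim_zero_of_discreteTopology X)
    exact absurd h0 (not_le.2 zero_lt_one)
  have hiff : ∀ x : X, IsClosed ({x} : Set X) ↔
      (¬ ∀ y, y ⤳ x → y = x) ∧ ∀ y, y ⤳ x → y ≠ x → ∀ z, z ⤳ y → z = y := by
    intro x
    refine ⟨fun hx => ⟨fun h => hnclosed ?_, fun y hy hne z hz => ?_⟩, fun ⟨h1, _⟩ => ?_⟩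
    · rwa [h _ (genericPoint_specializes x)]
    · exact maximal_of_not_isClosed hdim.le y (fun hyc => hne (hy.mem_closed hyc rfl).symm) z hz
    · by_contra hx
      exact h1 (maximal_of_not_isClosed hdim.le x hx)
  obtain ⟨c₁, hpt, ⟨hc₁⟩⟩ := GrothLib.GalCd.exists_isColimit_div hf
  let φ : {x : X // IsClosed ({x} : Set X)} → GrothLib.GalCd.MidPts X := fun x => ⟨x.1, (hiff x.1).1 x.2⟩
  let c₂ : Cofan fun x : {x : X // IsClosed ({x} : Set X)} =>
      (EtCoh.push (X.fromSpecResidueField x.1)).obj (EtCoh.const (Spec (X.residueField x.1)) ℤ) :=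
    Cofan.mk c₁.pt fun x => c₁.inj (φ x)
  let hc₂ : IsColimit c₂ := mkCofanColimit _
    (fun s => Cofan.IsColimit.desc hc₁ fun y => s.inj ⟨y.1, (hiff y.1).2 y.2⟩)
    (fun s x => Cofan.IsColimit.fac hc₁ _ (φ x))
    (fun s m hm => Cofan.IsColimit.hom_ext hc₁ _ _ fun y =>
      (hm ⟨y.1, (hiff y.1).2 y.2⟩).trans (Cofan.IsColimit.fac hc₁ (fun z => s.inj ⟨z.1, (hiff z.1).2 z.2⟩) y).symm)
  let η : GrothLib.GalCd.MaxPts X := ⟨genericPoint X, hmax⟩
  let T := GrothLib.GalCd.toMax X
  let π := GrothLib.GalCd.Pmax.π X η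
  haveI : IsIso π := by
    refine ⟨biproduct.ι (fun x : GrothLib.GalCd.MaxPts X => GrothLib.GalCd.GPush x.1) η,
      biproduct.hom_ext _ _ fun z => ?_, biproduct.ι_π_self _ η⟩
    rw [honly z]
    simp [π, GrothLib.GalCd.Pmax.π, η]
  haveI : Mono T := GrothLib.GalCd.mono_toMax
  let j := X.fromSpecStalk (genericPoint X)
  have hfield : IsField (X.presheaf.stalk (genericPoint X)) :=
    (inferInstance : Field X.functionField).toIsField
  letI := hfield.toField
  haveI : IsIso (X.residue (genericPoint X)) := by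
    rw [ConcreteCategory.isIso_iff_bijective]
    exact ⟨(IsLocalRing.residue (X.presheaf.stalk (genericPoint X))).injective, IsLocalRing.residue_surjective⟩
  haveI : IsIso (EtLim.GmPush (Spec.map (X.residue (genericPoint X)))) := isIso_GmPush _
  let R : (EtCoh.push j).obj (EtCoh.Gm _) ⟶ GrothLib.GalCd.GPush (genericPoint X) :=
    (EtCoh.push j).map (EtLim.GmPush (Spec.map (X.residue (genericPoint X)))) ≫
      (EtCoh.pushComp j (Spec.map (X.residue (genericPoint X)))).hom.app _
  have hT : T ≫ π = EtLim.GmPush j ≫ R :=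
    (GrothLib.GalCd.toMax_π X η).trans (GmPush_comp j (Spec.map (X.residue (genericPoint X)))).symm
  have hg : EtLim.GmPush j = T ≫ π ≫ inv R := by
    rw [← Category.assoc, hT, Category.assoc, IsIso.hom_inv_id, Category.comp_id]
  refine ⟨?_, ⟨?_⟩⟩
  · change Mono (EtLim.GmPush j)
    rw [hg]
    infer_instance
  · exact (cokernelIsoOfEq hg ≪≫ cokernelCompIsIso T (π ≫ inv R)) ≪≫ eqToIso hpt.symm ≪≫
      IsColimit.coconePointUniqueUpToIso hc₂ hc

end Groth.Agent.S6653
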