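import Groth.Statements.S6654
import Groth.Agent.Lib.TrivMod.Const
import Mathlib.AlgebraicGeometry.Sites.EtalePoint
import Mathlib.AlgebraicGeometry.Morphisms.UniversallyOpen
import Mathlib.AlgebraicGeometry.Morphisms.FlatDescent

set_option autoImplicit false
set_option linter.style.haveILetI false
set_option backward.isDefEq.respectTransparency.types false
open CategoryTheory CategoryTheory.Limits AlgebraicGeometry Opposite
universe u
open EtModW

namespace Groth.Agent.S6654

/-- Let X be an irreducible scheme, ξ a geometric point over its generic point, Λ a commutative ring, M'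
a submodule of a Λ-module M, and G a sheaf of Λ-modules on the small etale site of X with
monomorphisms a : const M' ⟶ G and b : G ⟶ const M whose composite is the map of constant sheaves
induced by the inclusion. If the stalk of a at ξ is an isomorphism, then a is an isomorphism. -/
theorem result (Λ : Type (u + 1)) [CommRing Λ] {X : Scheme.{u}} [IrreducibleSpace ↥X]
    {Ω : Type u} [Field Ω] [IsSepClosed Ω] (ξ : Spec (CommRingCat.of Ω) ⟶ X)
    (hξ : ξ.base default = genericPoint ↥X)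
    (M : Type (u + 1)) [AddCommGroup M] [Module Λ M] (M' : Submodule Λ M) (G : EtModW.Mod Λ X)
    (a : EtModW.constMod Λ X ↥M' ⟶ G) (b : G ⟶ EtModW.constMod Λ X M) [Mono a] [Mono b]
    (hab : a ≫ b = (constantSheaf X.smallEtaleTopology (ModuleCat.{u + 1} Λ)).map (ModuleCat.ofHom M'.subtype))
    (hst : IsIso ((EtModW.stalk Λ ξ).map a)) : IsIso a := by
  classical
  haveI := GrothLib.TrivEt.hasSheafCompose_et Λ X
  haveI : PreservesFilteredColimitsOfSize.{u, u} (forget (ModuleCat.{u + 1} Λ)) :=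
    preservesFilteredColimitsOfSize_shrink.{u, u + 1, u, u + 1} _
  let P := Scheme.pointSmallEtale ξ
  have hab' : ∀ (V : X.Etale) (x : M'), b.hom.app (op V) (a.hom.app (op V) (GrothLib.TrivEt.constSec (Λ := Λ) M' V x)) =
      GrothLib.TrivEt.constSec (Λ := Λ) M V (x : M) := fun V x => by
    refine (ConcreteCategory.congr_hom (congrArg (fun ψ : EtModW.constMod Λ X M' ⟶ EtModW.constMod Λ X M =>
      ψ.hom.app (op V)) hab) _).trans ?_
    exact (ConcreteCategory.congr_hom (NatTrans.congr_app (toSheafify_naturality X.smallEtaleTopology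
      ((Functor.const X.Etaleᵒᵖ).map (ModuleCat.ofHom M'.subtype))) (op V)) x).symm
  have binj : ∀ V : X.Etale, Function.Injective (b.hom.app (op V)) := fun V => by
    haveI : Mono ((sheafToPresheaf _ _ ⋙ (evaluation _ _).obj (op V)).map b) := inferInstance
    exact (ModuleCat.mono_iff_injective ((sheafToPresheaf _ _ ⋙ (evaluation _ _).obj (op V)).map b)).1 inferInstance
  have hgen : ∀ {V : X.Etale}, V.left → ∃ t : P.fiber.obj V, True := fun {V} y => by
    haveI : Etale V.hom := V.prop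
    obtain ⟨y', -, hy'⟩ : ∃ y' ∈ (Set.univ : Set V.left), V.hom y' = genericPoint ↥X :=
      ((genericPoint_spec ↥X).mem_open_set_iff (V.hom.isOpenMap _ isOpen_univ)).2
        ⟨V.hom y, Set.mem_univ _, y, trivial, rfl⟩
    obtain ⟨t, -⟩ := Scheme.pointSmallEtaleFiberObjToPreimage_surjective ξ hξ V ⟨y', hy'⟩
    exact ⟨t, trivial⟩
  haveI : Sheaf.IsLocallySurjective a := ⟨fun {V} s => GrothLib.TrivEt.mem_of_forall _ fun y => ?_⟩
  · exact isIso_of_mono_of_epi a
  obtain ⟨S, hS, hS'⟩ := (GrothLib.TrivEt.isTriv_constSec M V).surj (𝟙 V) (b.hom.app (op V) s)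
  obtain ⟨W, g, z, hg, hz⟩ := GrothLib.TrivEt.exists_of_mem hS y
  obtain ⟨x, hx⟩ := hS' g hg
  rw [Category.comp_id, GrothLib.TrivEt.res_constSec] at hx
  have hx' : b.hom.app (op W) (G.obj.map g.op s) = GrothLib.TrivEt.constSec (Λ := Λ) M W x :=
    (NatTrans.naturality_apply b.hom g.op s).trans hx
  obtain ⟨t, -⟩ := hgen z
  haveI := hst
  have hbij : Function.Bijective ((EtModW.stalk Λ ξ).map a) := ConcreteCategory.bijective_of_isIso _
  obtain ⟨p, hp⟩ := hbij.2 (P.toPresheafFiber W t G.obj (G.obj.map g.op s))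
  obtain ⟨W₁, t₁, r, rfl⟩ := P.toPresheafFiber_jointly_surjective p
  obtain ⟨⟨W₂, t₂⟩, ⟨q₁, hq₁⟩, ⟨q₂, hq₂⟩, -⟩ :=
    IsCofilteredOrEmpty.cone_objs (C := P.fiber.Elements) ⟨W, t⟩ ⟨W₁, t₁⟩
  have hp' : P.toPresheafFiber W₂ t₂ G.obj (G.obj.map q₂.op (a.hom.app (op W₁) r)) =
      P.toPresheafFiber W₂ t₂ G.obj (G.obj.map q₁.op (G.obj.map g.op s)) := by
    rw [P.toPresheafFiber_w_apply, P.toPresheafFiber_w_apply]
    refine (congrArg (fun τ => P.toPresheafFiber W₁ τ G.obj (a.hom.app (op W₁) r)) hq₂).trans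
      (Eq.trans ?_ (congrArg (fun τ => P.toPresheafFiber W τ G.obj (G.obj.map g.op s)) hq₁).symm)
    exact (P.toPresheafFiber_naturality_apply a.hom W₁ t₁ r).symm.trans hp
  obtain ⟨W₃, q₃, t₃, -, he⟩ := (P.toPresheafFiber_eq_iff' W₂ t₂ _ _).1 hp'
  obtain ⟨R, hR, hR'⟩ := (GrothLib.TrivEt.isTriv_constSec M' W₁).surj (q₃ ≫ q₂) ((EtModW.constMod Λ X M').obj.map (q₃ ≫ q₂).op r)
  obtain ⟨W₄, q₄, z₄, hq₄, -⟩ := GrothLib.TrivEt.exists_of_mem hR (t₃.left (default : Spec (CommRingCat.of Ω)))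
  obtain ⟨x', hx''⟩ := hR' q₄ hq₄
  rw [GrothLib.TrivEt.res_constSec] at hx''
  have e1 : GrothLib.TrivEt.constSec (Λ := Λ) M W₄ (x' : M) = GrothLib.TrivEt.constSec (Λ := Λ) M W₄ x := by
    rw [← hab', ← GrothLib.TrivEt.res_constSec (Λ := Λ) M (q₄ ≫ q₃ ≫ q₁) x, ← hx', ← hx'']
    simp only [GrothLib.TrivMod.res, op_comp, Functor.map_comp, ModuleCat.hom_comp, LinearMap.comp_apply]
    simp only [← ModuleCat.comp_apply, ← ConcreteCategory.comp_apply] at he ⊢
    simp only [NatTrans.naturality_apply, ConcreteCategory.comp_apply, Functor.map_comp] at he ⊢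
    have he' := congrArg (b.hom.app (op W₃)) he
    simp only [NatTrans.naturality_apply] at he'
    rw [he']
  have hxx' : (x' : M) = x := sub_eq_zero.1 (((GrothLib.TrivEt.isTriv_constSec M W₄).inj (𝟙 W₄) _ (by
    rw [map_sub, map_sub, e1, sub_self])).resolve_right (GrothLib.TrivEt.not_bot_of_point z₄))
  refine ⟨W, g, z, ⟨GrothLib.TrivEt.constSec (Λ := Λ) M' W ⟨x, hxx' ▸ x'.2⟩, ?_⟩, hz⟩
  exact binj W ((hab' W _).trans hx'.symm)

end Groth.Agent.S6654
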