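import Groth.Statements.S6655
import Groth.Agent.Lib.TrivMod.Et

set_option autoImplicit false
set_option linter.style.haveILetI false
set_option backward.isDefEq.respectTransparency.types false
open CategoryTheory CategoryTheory.Limits AlgebraicGeometry Opposite
universe u
open EtModW

namespace Groth.Agent.S6655

/-- Part (3): with both sheaves of finite type: let Λ be a commutative ring and φ : F ⟶ G a map of
finite type locally constant sheaves of Λ-modules on the small etale site of a scheme X. Then on the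
members of some etale covering of X the restriction of φ is, up to isomorphisms with constant
sheaves on both sides, the map of constant sheaves induced by a Λ-linear map. (The published
statement allows G to be any locally constant sheaf of Λ-modules; this row assumes G of finite type
as well.) -/
theorem result (Λ : Type (u + 1)) [CommRing Λ] {X : Scheme.{u}} (F G : EtModW.Mod Λ X)
    (φ : F ⟶ G) (hF : EtModW.IsFTLocConst Λ F) (hG : EtModW.IsFTLocConst Λ G) :
    ∃ (ι : Type u) (U : ι → X.Etale), EtCoh.Covers U ∧ ∀ i, ∃ (M N : Type (u + 1)) (_ : AddCommGroup M) (_ : AddCommGroup N)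
      (_ : Module Λ M) (_ : Module Λ N) (h : M →ₗ[Λ] N)
      (α : EtModW.restr Λ F (U i) ≅ (constantSheaf (X.smallEtaleTopology.over (U i)) (ModuleCat.{u + 1} Λ)).obj (ModuleCat.of Λ M))
      (β : EtModW.restr Λ G (U i) ≅ (constantSheaf (X.smallEtaleTopology.over (U i)) (ModuleCat.{u + 1} Λ)).obj (ModuleCat.of Λ N)),
      (X.smallEtaleTopology.overPullback (ModuleCat.{u + 1} Λ) (U i)).map φ ≫ β.hom =
        α.hom ≫ (constantSheaf (X.smallEtaleTopology.over (U i)) (ModuleCat.{u + 1} Λ)).map (ModuleCat.ofHom h) := by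
  have key : ∀ x : X, ∃ (V : X.Etale) (v : V.left), V.hom v = x ∧
      ∃ (M N : Type (u + 1)) (_ : AddCommGroup M) (_ : AddCommGroup N) (_ : Module Λ M) (_ : Module Λ N)
        (h : M →ₗ[Λ] N) (m : M →ₗ[Λ] F.obj.obj (op V)) (n : N →ₗ[Λ] G.obj.obj (op V)),
        GrothLib.TrivMod.IsTriv X.smallEtaleTopology F V m ∧ GrothLib.TrivMod.IsTriv X.smallEtaleTopology G V n ∧
          ∀ a, φ.hom.app (op V) (m a) = n (h a) := fun x => by
    obtain ⟨V, v, hv, M, N, _, _, _, _, _, _, m, n, hm, hn⟩ := GrothLib.TrivEt.exists_common hF hG x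
    obtain ⟨W, g, z, h, hz, hh⟩ := GrothLib.TrivEt.exists_hom_triv hm hn φ v
    exact ⟨W, z, (GrothLib.TrivEt.hom_over_eq g hz).trans hv, M, N, inferInstance, inferInstance, inferInstance,
      inferInstance, h, _, _, hm.restrict g, hn.restrict g, hh⟩
  choose V v hv M N i₁ i₂ i₃ i₄ h m n hm hn hh using key
  exact ⟨X, V, fun x => ⟨x, v x, hv x⟩, fun x => ⟨M x, N x, i₁ x, i₂ x, i₃ x, i₄ x, h x,
    by exact GrothLib.TrivMod.trivIso.{u + 1, u, u + 1} (hm x), by exact GrothLib.TrivMod.trivIso.{u + 1, u, u + 1} (hn x),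
    by exact GrothLib.TrivMod.trivIso_naturality.{u + 1, u, u + 1} (hm x) (hn x) φ (h x) (hh x)⟩⟩

end Groth.Agent.S6655
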