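import Groth.Statements.S6659
import Groth.Agent.Lib.DerCat.FFAdj19
import Groth.Agent.Lib.EtSite.Immersion
import Groth.Agent.Lib.ExtZero.Open
-- import your own Groth.Agent.* helpers here

set_option autoImplicit false
set_option linter.style.haveILetI false
set_option backward.isDefEq.respectTransparency false
universe u
open CategoryTheory CategoryTheory.Limits AlgebraicGeometry Opposite
attribute [local instance] HasDerivedCategory.standard
open EtDual

namespace Groth.Agent.S6659

/-- Let i : Z → X be a closed immersion of schemes with open complement j : U → X. The direct image i_*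
of abelian etale sheaves is exact (its right exactness is carried as an instance hypothesis), and
the induced functor D(Z_et) → D(X_et) is fully faithful; an object K of D(X_et) lies in its
essential image if and only if every cohomology sheaf of K has zero restriction to U, i.e. K has
cohomology sheaves supported on Z. (The identification of the quasi-inverse with the derived functor
of sections supported on Z is not part of this row.) -/
theorem result {Z X U : Scheme.{u}} (i : Z ⟶ X)
    [IsClosedImmersion i] (j : U ⟶ X) [IsOpenImmersion j] (hZU : Set.range j = (Set.range i)ᶜ)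
    [PreservesFiniteColimits (EtCoh.push i)] :
    ((EtCoh.push i).mapDerivedCategory.Full ∧ (EtCoh.push i).mapDerivedCategory.Faithful) ∧
      ∀ K : DCoh.DEt X,
        (EtCoh.push i).mapDerivedCategory.essImage K ↔
          ∀ n : ℤ, IsZero ((EtCoh.pull j).obj (DCoh.HDEt K n)) := by
  classical
  haveI := GrothLib.EtSite.pull_preservesFiniteLimits i
  haveI := GrothLib.EtSite.pull_preservesFiniteLimits j
  haveI : (EtCoh.pull i).Additive := (EtCoh.pullPushAdj i).left_adjoint_additive
  haveI : (EtCoh.pull j).Additive := (EtCoh.pullPushAdj j).left_adjoint_additive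
  haveI : PreservesFiniteColimits (EtCoh.pull i) :=
    ⟨fun J _ _ => (EtCoh.pullPushAdj i).leftAdjoint_preservesColimits.preservesColimitsOfShape⟩
  haveI : PreservesFiniteLimits (EtCoh.push i) :=
    ⟨fun J _ _ => (EtCoh.pullPushAdj i).rightAdjoint_preservesLimits.preservesLimitsOfShape⟩
  haveI hci : ∀ G, IsIso ((EtCoh.pullPushAdj i).counit.app G) := GrothLib.EtSite.isIso_counit i
  haveI : IsIso (EtCoh.pullPushAdj i).counit := NatIso.isIso_of_isIso_app _
  let hff := GrothLib.DerCat19.fullyFaithfulMapDerived (EtCoh.pullPushAdj i)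
  refine ⟨⟨hff.full, hff.faithful⟩, fun K => ?_⟩
  have hnot : ∀ {x : X}, x ∉ Set.range j.base → x ∈ Set.range i.base := fun {x} hx => by
    by_contra h; exact hx (hZU ▸ h)
  have hvan : ∀ G : EtCoh.Ab Z, IsZero ((EtCoh.pull j).obj ((EtCoh.push i).obj G)) := fun G => by
    refine (IsZero.iff_id_eq_zero _).2 (GrothLib.ExtZero.zero_of_stalks _ fun Ω _ _ u => ?_)
    refine IsZero.eq_of_src (IsZero.of_iso (GrothLib.EtSite.stalk_push_isZero i G (u ≫ j) ?_)
      ((GrothLib.EtSite.pullStalkIso u j).app _)) _ _
    exact hZU.le ⟨u.base default, rfl⟩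
  constructor
  · rintro ⟨M, ⟨e⟩⟩ n
    obtain ⟨C, ⟨eC⟩⟩ : ∃ C, Nonempty (DerivedCategory.Q.obj C ≅ M) :=
      ⟨_, ⟨DerivedCategory.Q.objObjPreimageIso M⟩⟩
    let e' := (DerivedCategory.homologyFunctor (EtCoh.Ab X) n).mapIso
      ((EtCoh.push i).mapDerivedCategory.mapIso eC ≪≫ e)
    exact IsZero.of_iso (hvan (C.homology n))
      ((EtCoh.pull j).mapIso (e'.symm ≪≫ GrothLib.DerCat19.homologyMapDerivedIso (EtCoh.push i) C n))
  · intro h
    let C := DerivedCategory.Q.objPreimage K
    let eK : DerivedCategory.Q.obj C ≅ K := DerivedCategory.Q.objObjPreimageIso K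
    let C' := ((EtCoh.pull i).mapHomologicalComplex (ComplexShape.up ℤ)).obj C
    let φ : C ⟶ ((EtCoh.push i).mapHomologicalComplex (ComplexShape.up ℤ)).obj C' :=
      (GrothLib.KInj.mapComplexAdj (EtCoh.pullPushAdj i) (ComplexShape.up ℤ)).unit.app C
    have hφ : ∀ k, IsIso ((EtCoh.pull i).map (φ.f k)) := fun k => by
      have h1 : (EtCoh.pull i).map (φ.f k) ≫ (EtCoh.pullPushAdj i).counit.app _ = 𝟙 _ :=
        (EtCoh.pullPushAdj i).left_triangle_components (C.X k)
      haveI := hci ((EtCoh.pull i).obj (C.X k))
      exact @IsIso.of_isIso_fac_right _ _ _ _ _ _ _ _ (hci _) (IsIso.id _) h1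
    haveI : QuasiIso φ := ⟨fun n => by
      rw [quasiIsoAt_iff_isIso_homologyMap]
      refine GrothLib.EtSite.isIso_of_stalks _ fun Ω _ _ ξ => ?_
      rw [← ConcreteCategory.isIso_iff_bijective]
      by_cases hx : ξ.base default ∈ Set.range j.base
      · obtain ⟨u, rfl⟩ := GrothLib.ExtZero.exists_lift_of_mem j ξ hx
        refine (NatIso.isIso_map_iff (GrothLib.EtSite.pullStalkIso u j) _).1 ?_
        haveI : IsIso ((EtCoh.pull j).map (HomologicalComplex.homologyMap φ n)) := by
          refine isIso_of_source_target_iso_zero _ (IsZero.isoZero ?_) (IsZero.isoZero ?_)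
          · exact IsZero.of_iso (h n) ((EtCoh.pull j).mapIso
              (((DerivedCategory.homologyFunctorFactors (EtCoh.Ab X) n).app C).symm ≪≫
                (DerivedCategory.homologyFunctor (EtCoh.Ab X) n).mapIso eK))
          · exact IsZero.of_iso (hvan (C'.homology n))
              ((EtCoh.pull j).mapIso ((C'.sc n).mapHomologyIso (EtCoh.push i)))
        exact inferInstanceAs (IsIso ((EtCoh.stalk u).map ((EtCoh.pull j).map (HomologicalComplex.homologyMap φ n))))
      · obtain ⟨z, hz⟩ := hnot hx
        obtain ⟨ζ, rfl⟩ := GrothLib.EtSite.exists_point_lift i ξ z hz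
        refine (NatIso.isIso_map_iff (GrothLib.EtSite.pullStalkIso ζ i) _).1 ?_
        haveI := GrothLib.DerCat19.isIso_map_homologyMap (EtCoh.pull i) φ n hφ
        exact inferInstanceAs (IsIso ((EtCoh.stalk ζ).map ((EtCoh.pull i).map (HomologicalComplex.homologyMap φ n))))⟩
    refine ⟨DerivedCategory.Q.obj C', ⟨(EtCoh.push i).mapDerivedCategoryFactors.app C' ≪≫
      (asIso (DerivedCategory.Q.map φ)).symm ≪≫ eK⟩⟩

end Groth.Agent.S6659
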