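import Groth.Statements.S6661
import Groth.Agent.Lib.BCQLES13.Integral
-- import your own Groth.Agent.* helpers here

set_option autoImplicit false
universe u
open CategoryTheory CategoryTheory.Limits AlgebraicGeometry Opposite
open EtBC

namespace Groth.Agent.S6661

/-- Let f : X → S be a morphism of schemes, n and q ≥ 1 integers, and assume BC(f, n, q − 1). Here BC(f,
n, q − 1) means: for every base change f₁ : X₁ → S₁ of f along a morphism S₁ → S, every cartesian
square Y₁ = X₁ ×_{S₁} T₁ over a quasi-compact quasi-separated g₁ : T₁ → S₁ (with h₁ : Y₁ → X₁, e₁ :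
Y₁ → T₁), and every abelian sheaf G on the small etale site of T₁ killed by n, the base change map
f₁⁻¹ R^a g₁,_* G → R^a h₁,_* e₁⁻¹ G is an isomorphism for all a ≤ q − 1. Let f' : X' → S' be a base
change of f, Y = X' ×_{S'} T a cartesian square over a quasi-compact quasi-separated g : T → S' (h :
Y → X', e : Y → T), π : T' → T integral and surjective, Y' = Y ×_T T' (π' : Y' → Y, e' : Y' → T'),
so that the composite square Y' → X' over T' → S' is cartesian too, and F an abelian sheaf on the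
small etale site of T killed by n. If the degree-q base change map for the composite square and the
sheaf π⁻¹ F is an isomorphism, then the degree-q base change map f'⁻¹ R^q g_* F → R^q h_* e⁻¹ F is
an isomorphism. -/
theorem result {X S : Scheme.{u}} (f : X ⟶ S) (n q : ℕ) (hq : 1 ≤ q)
    (hBC : (∀ ⦃S₁ X₁ T₁ Y₁ : Scheme.{u}⦄ (p₁ : S₁ ⟶ S) (f₁ : X₁ ⟶ S₁) (r₁ : X₁ ⟶ X),
        IsPullback r₁ f₁ f p₁ →
        ∀ (g₁ : T₁ ⟶ S₁) (h₁ : Y₁ ⟶ X₁) (e₁ : Y₁ ⟶ T₁) (c₁ : IsPullback e₁ h₁ g₁ f₁)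
          [QuasiCompact g₁] [QuasiSeparated g₁] [PreservesFiniteLimits (EtCoh.pull e₁)]
          (G₁ : EtCoh.Ab T₁), EtCoh.KilledBy n G₁ →
          ∀ q₁ : ℕ, q₁ ≤ q - 1 → IsIso (EtBC.bcQ g₁ f₁ h₁ e₁ c₁.w q₁ G₁)))
    {S' X' T Y T' Y' : Scheme.{u}} (p : S' ⟶ S) (f' : X' ⟶ S') (r : X' ⟶ X) (hX : IsPullback r f' f p)
    (g : T ⟶ S') (h : Y ⟶ X') (e : Y ⟶ T) (c : IsPullback e h g f') [QuasiCompact g] [QuasiSeparated g]
    (π : T' ⟶ T) [IsIntegralHom π] [Surjective π] (π' : Y' ⟶ Y) (e' : Y' ⟶ T') (c' : IsPullback e' π' π e)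
    (c'' : IsPullback e' (π' ≫ h) (π ≫ g) f')
    [PreservesFiniteLimits (EtCoh.pull e)] [PreservesFiniteLimits (EtCoh.pull e')]
    (F : EtCoh.Ab T) (hF : EtCoh.KilledBy n F)
    (hiso : IsIso (EtBC.bcQ (π ≫ g) f' (π' ≫ h) e' c''.w q ((EtCoh.pull π).obj F))) :
    IsIso (EtBC.bcQ g f' h e c.w q F) := by
  obtain ⟨j, rfl⟩ : ∃ j, q = j + 1 := ⟨q - 1, by omega⟩
  haveI := GrothLib.EtSite.pull_preservesFiniteLimits f'
  haveI := GrothLib.BCQVcomp.pull_additive e
  haveI := GrothLib.BCQVcomp.pull_additive f'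
  haveI := GrothLib.BCQVcomp.pull_preservesFiniteColimits e
  haveI := GrothLib.BCQVcomp.pull_preservesFiniteColimits f'
  have hlow : ∀ G : EtCoh.Ab T, EtCoh.KilledBy n G → ∀ q₁ ≤ j, IsIso (EtBC.bcQ g f' h e c.w q₁ G) :=
    fun G hG q₁ hq₁ => hBC p f' r hX g h e c G hG q₁ (by omega)
  let ι := (EtCoh.pullPushAdj π).unit.app F
  let G := (EtCoh.push π).obj ((EtCoh.pull π).obj F)
  haveI : Mono ι := GrothLib.EtDer.mono_unit_of_surjective π F
  have hG : EtCoh.KilledBy n G := GrothLib.KPi18.killedBy_push π (GrothLib.KPi18.killedBy_pull π hF)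
  have hC := GrothLib.BCQLES.killedBy_of_epi (cokernel.π ι) hG
  let Q₀ : ShortComplex (EtCoh.Ab T) := ShortComplex.mk ι (cokernel.π ι) (cokernel.condition _)
  have hQ : Q₀.ShortExact := { exact := ShortComplex.exact_of_g_is_cokernel _ (cokernelIsCokernel _) }
  exact GrothLib.BCQLES.isIso_bcQGen_five (EtCoh.pullPushAdj e) (EtCoh.pullPushAdj f')
    (GrothLib.BCQVcomp.sqIso g f' h e c.w) hQ j (hlow G hG j le_rfl) (hlow _ hC j le_rfl)
    (GrothLib.BCQLES.isIso_bcQ_push_integral f' g h e π π' e' c' c.w c''.w _ (j + 1) hiso)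
    (GrothLib.BCQLES.isIso_of_bc_below g f' h e c.w hlow _ hC)

end Groth.Agent.S6661
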