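import Groth.Statements.S6662
import Groth.Agent.Lib.BCQVcomp.Hor13
import Groth.Agent.Lib.EtSite.BaseChange
import Groth.Agent.Lib.EtSite.PushExact
import Groth.Agent.Lib.EtSite.PropC
import Groth.Agent.Lib.EtSite.Pull
-- import your own Groth.Agent.* helpers here

set_option autoImplicit false
universe u
open CategoryTheory CategoryTheory.Limits AlgebraicGeometry Opposite
open EtBC

namespace Groth.Agent.S6662

open GrothLib.BCQVcomp

theorem hor_coh {S' X' S'' X'' T Y : Scheme.{u}} (f' : X' ⟶ S') (f'' : X'' ⟶ S'') (π : S'' ⟶ S')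
    (π' : X'' ⟶ X') (g' : T ⟶ S'') (h' : Y ⟶ X'') (e : Y ⟶ T) (w₁ : e ≫ g' = h' ≫ f'')
    (w : f'' ≫ π = π' ≫ f') (w₃ : e ≫ g' ≫ π = (h' ≫ π') ≫ f') (M : EtCoh.Ab Y) :
    (EtCoh.pushComp π g').hom.app ((EtCoh.push e).obj M) ≫ (sqIso (g' ≫ π) f' (h' ≫ π') e w₃).hom.app M =
      (EtCoh.push π).map ((sqIso g' f'' h' e w₁).hom.app M) ≫
        (sqIso π f' π' f'' w).hom.app ((EtCoh.push h').obj M) ≫
          (EtCoh.push f').map ((EtCoh.pushComp π' h').hom.app M) := by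
  have key := sqIso_vcomp π f' f'' π' w.symm g' e h' w₁.symm w₃.symm M
  rw [← sqIso_inv (g' ≫ π) f' (h' ≫ π') e w₃, ← sqIso_inv g' f'' h' e w₁,
    ← sqIso_inv π f' π' f'' w] at key
  rw [← cancel_mono ((sqIso (g' ≫ π) f' (h' ≫ π') e w₃).inv.app M)]
  simp only [Category.assoc, Iso.hom_inv_id_app]
  erw [key, Iso.hom_inv_id_app_assoc, ← Functor.map_comp_assoc, Iso.hom_inv_id_app]
  simp

theorem isIso_of_isIso_map_of_faithful {X Y : Scheme.{u}} (π : X ⟶ Y) [IsIntegralHom π] {F G : EtCoh.Ab X}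
    (φ : F ⟶ G) (h : IsIso ((EtCoh.push π).map φ)) : IsIso φ := by
  haveI := GrothLib.EtSite.push_faithful_of_propA π (GrothLib.EtSite.propA_of_integral π)
  haveI : Mono φ := (EtCoh.push π).mono_of_mono_map (inferInstance : Mono ((EtCoh.push π).map φ))
  haveI : Epi φ := (EtCoh.push π).epi_of_epi_map (inferInstance : Epi ((EtCoh.push π).map φ))
  exact isIso_of_mono_of_epi φ

/-- Let f : X → S be a morphism of schemes, n and q ≥ 1 integers, and assume BC(f, n, q − 1). Here BC(f,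
n, q − 1) means: for every base change f₁ : X₁ → S₁ of f along a morphism S₁ → S, every cartesian
square Y₁ = X₁ ×_{S₁} T₁ over a quasi-compact quasi-separated g₁ : T₁ → S₁ (with h₁ : Y₁ → X₁, e₁ :
Y₁ → T₁), and every abelian sheaf G on the small etale site of T₁ killed by n, the base change map
f₁⁻¹ R^a g₁,_* G → R^a h₁,_* e₁⁻¹ G is an isomorphism for all a ≤ q − 1. Let f' : X' → S' be a base
change of f, π : S'' → S' an integral morphism with base change f'' : X'' = X' ×_{S'} S'' → S'' (π'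
: X'' → X'), g' : T → S'' quasi-compact and quasi-separated, Y = X'' ×_{S''} T (h' : Y → X'', e : Y
→ T), so that the outer square Y → X' over T → S' (with maps h' ≫ π' and g' ≫ π) is cartesian too,
and F an abelian sheaf on the small etale site of T killed by n. If the degree-q base change map for
the outer square is an isomorphism, then the degree-q base change map f''⁻¹ R^q g'_* F → R^q h'_*
e⁻¹ F is an isomorphism. -/
theorem result {X S : Scheme.{u}} (f : X ⟶ S) (n q : ℕ) (hq : 1 ≤ q)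
    (hBC : (∀ ⦃S₁ X₁ T₁ Y₁ : Scheme.{u}⦄ (p₁ : S₁ ⟶ S) (f₁ : X₁ ⟶ S₁) (r₁ : X₁ ⟶ X),
        IsPullback r₁ f₁ f p₁ →
        ∀ (g₁ : T₁ ⟶ S₁) (h₁ : Y₁ ⟶ X₁) (e₁ : Y₁ ⟶ T₁) (c₁ : IsPullback e₁ h₁ g₁ f₁)
          [QuasiCompact g₁] [QuasiSeparated g₁] [PreservesFiniteLimits (EtCoh.pull e₁)]
          (G₁ : EtCoh.Ab T₁), EtCoh.KilledBy n G₁ →
          ∀ q₁ : ℕ, q₁ ≤ q - 1 → IsIso (EtBC.bcQ g₁ f₁ h₁ e₁ c₁.w q₁ G₁)))
    {S' X' S'' X'' T Y : Scheme.{u}} (p : S' ⟶ S) (f' : X' ⟶ S') (r : X' ⟶ X) (hX : IsPullback r f' f p)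
    (π : S'' ⟶ S') [IsIntegralHom π] (f'' : X'' ⟶ S'') (π' : X'' ⟶ X') (hX'' : IsPullback π' f'' f' π)
    (g' : T ⟶ S'') [QuasiCompact g'] [QuasiSeparated g'] (h' : Y ⟶ X'') (e : Y ⟶ T)
    (c : IsPullback e h' g' f'') (c' : IsPullback e (h' ≫ π') (g' ≫ π) f')
    [PreservesFiniteLimits (EtCoh.pull e)] (F : EtCoh.Ab T) (hF : EtCoh.KilledBy n F)
    (hiso : IsIso (EtBC.bcQ (g' ≫ π) f' (h' ≫ π') e c'.w q F)) :
    IsIso (EtBC.bcQ g' f'' h' e c.w q F) := by
  haveI := fun {A B : Scheme.{u}} (m : A ⟶ B) => GrothLib.EtSite.pull_preservesFiniteLimits m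
  haveI : IsIntegralHom π' := MorphismProperty.of_isPullback hX''.flip (inferInstance : IsIntegralHom π)
  haveI := GrothLib.EtSite.preservesFiniteColimits_push π
  haveI := GrothLib.EtSite.preservesFiniteColimits_push π'
  have key := isIso_bcQGen_hor_iff (EtCoh.pullPushAdj e) (EtCoh.pullPushAdj f'') (EtCoh.pullPushAdj f')
    (sqIso g' f'' h' e c.w) (sqIso π f' π' f'' hX''.flip.w) (sqIso (g' ≫ π) f' (h' ≫ π') e c'.w)
    (EtCoh.pushComp π g') (EtCoh.pushComp π' h') (hor_coh f' f'' π π' g' h' e c.w hX''.flip.w c'.w)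
    (fun N => ?_) F q
  · rw [bcQ_eq_gen] at hiso ⊢
    exact isIso_of_isIso_map_of_faithful π' _ (key.1 hiso)
  · convert GrothLib.EtSite.isIso_baseChange0_of_integral hX''.flip N using 1
    simp [bcGen0, EtCoh.baseChange0, sqIso]

end Groth.Agent.S6662
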