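import Groth.Statements.S6668
import Groth.Agent.Lib.BCQVcomp.EtaleQ
import Groth.Agent.Lib.EtSite.Pull
-- import your own Groth.Agent.* helpers here

set_option autoImplicit false
universe u
open CategoryTheory CategoryTheory.Limits AlgebraicGeometry Opposite
open EtBC

namespace Groth.Agent.S6668

open GrothLib.EtSite GrothLib.BCQVcomp in
theorem congr_bc {X S Y T : Scheme.{u}} (g : T ⟶ S) {f f' : X ⟶ S} (h : Y ⟶ X) {e e' : Y ⟶ T}
    [PreservesFiniteLimits (EtCoh.pull e)] [PreservesFiniteLimits (EtCoh.pull e')]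
    (hf : f = f') (he : e = e') (w : e ≫ g = h ≫ f) (w' : e' ≫ g = h ≫ f') (F : EtCoh.Ab T) (q : ℕ)
    (H : IsIso (EtBC.bcQ g f h e w q F)) : IsIso (EtBC.bcQ g f' h e' w' q F) := by
  subst hf; subst he; exact H

theorem isIso_of_pull_covers {X : Scheme.{u}} {ι : Type u} (U : ι → X.Etale) (hU : EtCoh.Covers U)
    {F G : EtCoh.Ab X} (φ : F ⟶ G) (h : ∀ i, IsIso ((EtCoh.pull (U i).hom).map φ)) : IsIso φ := by
  refine GrothLib.EtSite.isIso_of_stalks φ fun Ω _ _ ξ => ?_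
  obtain ⟨i, y, hy⟩ := hU (ξ.base default)
  obtain ⟨t, -⟩ := GrothLib.EtSite.exists_fib ξ y hy
  have ht : t.left ≫ (U i).hom = ξ := Over.w t
  let ζ : Spec (CommRingCat.of Ω) ⟶ (U i).left := t.left
  let u : (U i).left ⟶ X := (U i).hom
  haveI : IsIso ((EtCoh.pull u).map φ) := h i
  haveI : IsIso ((EtCoh.pull u ⋙ EtCoh.stalk ζ).map φ) := Functor.map_isIso (EtCoh.stalk ζ) _
  have h1 := (NatIso.isIso_map_iff (GrothLib.EtSite.pullStalkIso ζ u) φ).1 inferInstance
  rw [← ConcreteCategory.isIso_iff_bijective]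
  exact ht ▸ h1


/-- Let Y = X ×_S T be a cartesian square of schemes with f : X → S, g : T → S, h : Y → X, e : Y → T,
let F be an abelian sheaf on the small etale site of T and q ≥ 0. Let (U_i → X) be a jointly
surjective family of etale X-schemes such that every U_i → S factors as a_i : U_i → V_i followed by
an etale V_i → S, and let T_i = V_i ×_S T (projections g_i : T_i → V_i, t_i : T_i → T) and Y_i = U_i
×_{V_i} T_i (projections h_i : Y_i → U_i, e_i : Y_i → T_i). If for every i the degree-q base change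
map a_i⁻¹ R^q g_i,_* (t_i⁻¹ F) → R^q h_i,_* e_i⁻¹ (t_i⁻¹ F) is an isomorphism, then the degree-q
base change map f⁻¹ R^q g_* F → R^q h_* e⁻¹ F is an isomorphism. -/
theorem result {X S Y T : Scheme.{u}} (f : X ⟶ S) (g : T ⟶ S) (h : Y ⟶ X) (e : Y ⟶ T)
    (c : IsPullback e h g f) [PreservesFiniteLimits (EtCoh.pull e)] (F : EtCoh.Ab T) (q : ℕ)
    {ι : Type u} (U : ι → X.Etale) (hU : EtCoh.Covers U) (V : ι → S.Etale)
    (a : ∀ i, (U i).left ⟶ (V i).left) (ha : ∀ i, a i ≫ (V i).hom = (U i).hom ≫ f)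
    (Ti Yi : ι → Scheme.{u}) (gi : ∀ i, Ti i ⟶ (V i).left) (ti : ∀ i, Ti i ⟶ T)
    (cT : ∀ i, IsPullback (ti i) (gi i) g (V i).hom)
    (hi : ∀ i, Yi i ⟶ (U i).left) (ei : ∀ i, Yi i ⟶ Ti i) (cY : ∀ i, IsPullback (ei i) (hi i) (gi i) (a i))
    [∀ i, PreservesFiniteLimits (EtCoh.pull (ei i))]
    (hloc : ∀ i, IsIso (EtBC.bcQ (gi i) (a i) (hi i) (ei i) (cY i).w q ((EtCoh.pull (ti i)).obj F))) :
    IsIso (EtBC.bcQ g f h e c.w q F) := by
  refine isIso_of_pull_covers U hU _ fun i => ?_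
  haveI : Etale (U i).hom := (U i).prop
  haveI : Etale (V i).hom := (V i).prop
  let u : (U i).left ⟶ X := (U i).hom
  let v : (V i).left ⟶ S := (V i).hom
  haveI : Etale u := (U i).prop
  haveI : Etale v := (V i).prop
  have pB : IsPullback (ei i ≫ ti i) (hi i) g (a i ≫ v) := (cY i).paste_horiz (cT i)
  have wk : (ei i ≫ ti i) ≫ g = (hi i ≫ u) ≫ f := by rw [pB.w, ha i, Category.assoc]
  let k : Yi i ⟶ Y := c.lift (ei i ≫ ti i) (hi i ≫ u) wk
  have hke : k ≫ e = ei i ≫ ti i := c.lift_fst _ _ wk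
  have hkh : k ≫ h = hi i ≫ u := c.lift_snd _ _ wk
  have pA : IsPullback (k ≫ e) (hi i) g (u ≫ f) := by rw [hke, ← ha i]; exact pB
  have cU : IsPullback k (hi i) h u := IsPullback.of_right pA hkh c
  haveI := fun {A B : Scheme.{u}} (m : A ⟶ B) => GrothLib.EtSite.pull_preservesFiniteLimits m
  have hA := GrothLib.BCQVcomp.vcomp_iff f g h e c.w u (hi i) k hkh pA.w F q
    (GrothLib.BCQVcomp.isIso_bcQ_of_etale h u (hi i) k cU _ q)
  have hB := GrothLib.BCQVcomp.vcomp v g (gi i) (ti i) (cT i).w (a i) (hi i) (ei i) (cY i).w pB.w F q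
    (GrothLib.BCQVcomp.isIso_bcQ_of_etale g v (gi i) (ti i) (cT i) F q) (hloc i)
  exact hA.1 (congr_bc g (hi i) (ha i) hke.symm pB.w pA.w F q hB)

end Groth.Agent.S6668
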