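import Groth.Statements.S6671
import Groth.Agent.Lib.LocAcyc.Factor
-- import your own Groth.Agent.* helpers here

set_option autoImplicit false
universe u
open CategoryTheory CategoryTheory.Limits AlgebraicGeometry Opposite
open EtBC

namespace Groth.Agent.S6671

/-- Let Y = X ×_S T be a cartesian square of schemes with f : X → S flat, g : T → S, h : Y → X, e : Y →
T. Assume that every etale X-scheme U has a jointly surjective family of morphisms of etale
X-schemes U_i → U such that each composite U_i → S factors as a quasi-compact morphism a_i : U_i →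
V_i with geometrically connected fibres followed by an etale morphism V_i → S. Then for every sheaf
of sets F on the small etale site of T the base change map f⁻¹ g_* F → h_* e⁻¹ F is an isomorphism. -/
theorem result {X S Y T : Scheme.{u}} (f : X ⟶ S) [Flat f]
    (g : T ⟶ S) (h : Y ⟶ X) (e : Y ⟶ T) (c : IsPullback e h g f)
    (hcov : ∀ U : X.Etale, ∃ (ι : Type u) (Uc : ι → X.Etale) (mU : ∀ i, Uc i ⟶ U),
      (∀ y : U.left, ∃ (i : ι) (z : (Uc i).left), (mU i).left.base z = y) ∧
      ∀ i, ∃ (V : S.Etale) (a : (Uc i).left ⟶ V.left),
        a ≫ V.hom = (Uc i).hom ≫ f ∧ QuasiCompact a ∧ GeometricallyConnected a)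
    (F : EtDesc.Sh T) :
    IsIso (EtBC.baseChange0Sh g f h e c.w F) := GrothLib.LocAcyc.isIso_baseChange0Sh_of_hasFactorizations hcov g h e c F

end Groth.Agent.S6671
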