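import Groth.Statements.S6673
import Groth.Agent.Lib.HTopEt13.Main
-- import your own Groth.Agent.* helpers here

set_option autoImplicit false
universe u
open CategoryTheory CategoryTheory.Limits AlgebraicGeometry Opposite
open HTop

namespace Groth.Agent.S6673

/-- For an abelian sheaf: let S be a scheme, F an abelian sheaf on the small etale site of S and f : X →
S a scheme over S. Then the value at (X → S) of the pullback a_S⁻¹ F of F to the big ph site of S is
isomorphic, as an abelian group, to the group of global sections of f⁻¹ F on the small etale site of
X. (Existence of an isomorphism; the continuity of the comparison functor from the small etale site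
to the big ph site is carried as an instance hypothesis.) -/
theorem result (S : Scheme.{u}) [HTop.APhCont S] (F : EtCoh.Ab S)
    {X : Scheme.{u}} (f : X ⟶ S) :
    Nonempty (((HTop.aPhPull S).obj F).obj.obj (op (Over.mk f)) ≅
      ((EtCoh.pull f).obj F).obj.obj (op (EtCoh.top X))) := by
  exact ⟨GrothLib.HTopEt13.sectionsIso (HTop.Jph S) GrothLib.HTopEt13.isSheaf_secsPsh_ph GrothLib.HTopEt13.etale_le_ph F f⟩


end Groth.Agent.S6673
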