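import Groth.Statements.S6697
import Groth.Agent.Lib.BigEt.Exact
import Groth.Agent.Lib.HoCat.KInjective
-- import your own Groth.Agent.* helpers here

set_option autoImplicit false
universe u
open CategoryTheory CategoryTheory.Limits AlgebraicGeometry Opposite
open BigSite

namespace Groth.Agent.S6697

/-- Let S be a scheme, I a K-injective complex of abelian sheaves on the big etale site of S (every
morphism from an acyclic complex to I is null-homotopic) and f : T → S a scheme over S. Then (b) the
termwise restriction I|_{S_et} to the small etale site of S is K-injective, and (a) the termwise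
restriction i_f⁻¹ I to the small etale site of T is K-injective. -/
theorem result (S : Scheme.{u})
    (I : CochainComplex (BigSite.Ab Scheme.etalePrecoverage S) ℤ) [I.IsKInjective] {T : Scheme.{u}} (f : T ⟶ S) :
    CochainComplex.IsKInjective (((BigSite.resEt Scheme.etalePrecoverage S).mapHomologicalComplex (ComplexShape.up ℤ)).obj I) ∧
      CochainComplex.IsKInjective (((BigSite.resEtAlong Scheme.etalePrecoverage f).mapHomologicalComplex (ComplexShape.up ℤ)).obj I) := by
  haveI : (BigSite.piEtPull Scheme.etalePrecoverage S).Additive :=
    (BigSite.piEtAdj Scheme.etalePrecoverage S).left_adjoint_additive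
  haveI : (BigSite.piEtPull Scheme.etalePrecoverage T).Additive :=
    (BigSite.piEtAdj Scheme.etalePrecoverage T).left_adjoint_additive
  haveI := GrothLib.BigEt.preservesFiniteLimits_shriek f Scheme.etalePrecoverage
  haveI : (BigSite.shriekAb Scheme.etalePrecoverage f).Additive :=
    (BigSite.shriekAbAdj Scheme.etalePrecoverage f).left_adjoint_additive
  haveI : PreservesFiniteColimits (BigSite.shriekAb Scheme.etalePrecoverage f) :=
    haveI := (BigSite.shriekAbAdj Scheme.etalePrecoverage f).leftAdjoint_preservesColimits (G := _)
    inferInstance
  haveI : PreservesFiniteLimits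
      (BigSite.piEtPull Scheme.etalePrecoverage T ⋙ BigSite.shriekAb Scheme.etalePrecoverage f) :=
    comp_preservesFiniteLimits _ _
  haveI : PreservesFiniteColimits
      (BigSite.piEtPull Scheme.etalePrecoverage T ⋙ BigSite.shriekAb Scheme.etalePrecoverage f) :=
    comp_preservesFiniteColimits _ _
  exact ⟨GrothLib.HoCat.isKInjective_map_of_rightAdjoint _ _ (BigSite.piEtAdj Scheme.etalePrecoverage S) I ‹_›,
    GrothLib.HoCat.isKInjective_map_of_rightAdjoint _ _ ((BigSite.piEtAdj Scheme.etalePrecoverage T).comp
      (BigSite.shriekAbAdj Scheme.etalePrecoverage f)) I ‹_›⟩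

end Groth.Agent.S6697
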