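import Groth.Statements.S6699
import Groth.Agent.Lib.FreeCons19.Resolution
-- import your own Groth.Agent.* helpers here

set_option autoImplicit false
universe u
open CategoryTheory CategoryTheory.Limits AlgebraicGeometry Opposite
attribute [local instance] HasDerivedCategory.standard
open EtModD

namespace Groth.Agent.S6699

/-- Let X be a quasi-compact and quasi-separated scheme, Λ a Noetherian ring, K an object of D(X_et, Λ)
and b an integer such that the b-th cohomology sheaf of K is a constructible sheaf of Λ-modules.
Then there exist finitely many affine schemes U_k with etale morphisms j_k : U_k → X and a morphism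
φ : F[-b] → K in D(X_et, Λ), where F is the direct sum of the sheaves j_{k!} Λ (extension by zero of
the constant sheaf Λ on U_k) placed in degree b, such that the map induced by φ on b-th cohomology
sheaves is an epimorphism F → H^b(K). (Continuity of the functors V ↦ (V → U_k → X) between small
etale sites, true for every etale morphism, appears as an instance binder in front of the
extension-by-zero terms.) -/
theorem result (Λ : Type (u + 1)) [CommRing Λ] [IsNoetherianRing Λ] (X : Scheme.{u})
    [CompactSpace X] [QuasiSeparatedSpace X] (K : EtModD.D Λ X) (b : ℤ)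
    (hK : EtModW.IsConstructible Λ (EtModD.HD K b)) :
    ∃ (m : ℕ) (U : Fin m → Scheme.{u}) (j : ∀ k, U k ⟶ X) (_ : ∀ k, Etale (j k)) (_ : ∀ k, IsAffine (U k)),
      ∀ [∀ k, EtShriek.JCont (j k)],
        ∃ φ : (DerivedCategory.singleFunctor (EtModW.Mod Λ X) b).obj
              (∐ fun k => (EtSix.extZeroMod Λ (j k)).obj (EtSix.constΛ Λ (U k))) ⟶ K,
          Epi ((DerivedCategory.homologyFunctor (EtModW.Mod Λ X) b).map φ) := by
  let C := DerivedCategory.Q.objPreimage K
  let e : DerivedCategory.Q.obj C ≅ K := DerivedCategory.Q.objObjPreimageIso K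
  let eh : C.homology b ≅ EtModD.HD K b :=
    ((DerivedCategory.homologyFunctorFactors _ b).app C).symm ≪≫ (DerivedCategory.homologyFunctor _ b).mapIso e
  haveI : Epi (C.homologyπ b) := inferInstanceAs (Epi (C.sc b).homologyπ)
  obtain ⟨m, V, hV, φ, hφ⟩ := GrothLib.FreeCons19.exists_generators (C.homologyπ b)
    (GrothLib.ModConstr.isConstructible_of_iso eh.symm hK)
  refine ⟨m, fun k => (V k).left, fun k => (V k).hom, fun k => (V k).prop, hV, ?_⟩
  let Y := ∐ fun k => GrothLib.FreeCons19.fr Λ (V k)
  let f : (HomologicalComplex.single (EtModW.Mod Λ X) (ComplexShape.up ℤ) b).obj Y ⟶ C :=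
    HomologicalComplex.mkHomFromSingle (φ ≫ C.iCycles b) (fun j _ => by rw [Category.assoc, C.iCycles_d, comp_zero])
  haveI hf : Epi (HomologicalComplex.homologyMap f b) := by
    have hc : (HomologicalComplex.singleObjCyclesSelfIso (ComplexShape.up ℤ) b Y).inv ≫
        HomologicalComplex.cyclesMap f b = φ := by
      rw [← cancel_mono (C.iCycles b), Category.assoc, HomologicalComplex.cyclesMap_i]
      simp [f]
    have hh : (HomologicalComplex.singleObjHomologySelfIso (ComplexShape.up ℤ) b Y).inv ≫
        HomologicalComplex.homologyMap f b = φ ≫ C.homologyπ b := by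
      rw [← hc, Category.assoc, ← HomologicalComplex.homologyπ_naturality, ← Category.assoc]
      congr 1
    haveI := hφ
    exact epi_of_epi_fac hh
  intro _
  refine ⟨DerivedCategory.Q.map f ≫ e.hom, ?_⟩
  haveI hq : Epi ((DerivedCategory.Q ⋙ DerivedCategory.homologyFunctor _ b).map f) :=
    ((MorphismProperty.epimorphisms _).arrow_mk_iso_iff
      (((Functor.mapArrowFunctor _ _).mapIso (DerivedCategory.homologyFunctorFactors _ b)).app (Arrow.mk f))).2 hf
  exact ((DerivedCategory.homologyFunctor (EtModW.Mod Λ X) b).map_comp (DerivedCategory.Q.map f) e.hom).symm ▸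
    @epi_comp _ _ _ _ _ _ hq _ inferInstance

end Groth.Agent.S6699
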