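import Groth.Statements.S6700
import Groth.Agent.Lib.FreeCons19.Resolution
-- import your own Groth.Agent.* helpers here

set_option autoImplicit false
universe u
open CategoryTheory CategoryTheory.Limits AlgebraicGeometry Opposite
attribute [local instance] HasDerivedCategory.standard
open EtModD

namespace Groth.Agent.S6700

/-- (1) ⇔ (2): let X be a quasi-compact and quasi-separated scheme, Λ a Noetherian ring and K an object
of D(X_et, Λ) which is bounded above. Then every cohomology sheaf of K is a constructible sheaf of
Λ-modules if and only if K is isomorphic, in D(X_et, Λ), to the image of a bounded above complex of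
sheaves of Λ-modules each of whose terms is isomorphic to a finite direct sum of sheaves j_! Λ,
extensions by zero of the constant sheaf Λ along etale morphisms j : U → X with U affine. (A third
equivalent condition, representability by a bounded above complex of flat constructible sheaves of
Λ-modules, is not included. Continuity of the functors V ↦ (V → U → X) between small etale sites,
true for every etale morphism, appears as an instance binder in front of the extension-by-zero
terms.) -/
theorem result (Λ : Type (u + 1)) [CommRing Λ]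
    [IsNoetherianRing Λ] (X : Scheme.{u}) [CompactSpace X] [QuasiSeparatedSpace X] (K : EtModD.D Λ X) (n : ℤ)
    [K.IsLE n] :
    (∀ i : ℤ, EtModW.IsConstructible Λ (EtModD.HD K i)) ↔
      ∃ (C : CochainComplex (EtModW.Mod Λ X) ℤ) (c : ℤ),
        (∀ i : ℤ, c < i → IsZero (C.X i)) ∧
        (∀ i : ℤ, ∃ (m : ℕ) (U : Fin m → Scheme.{u}) (j : ∀ k, U k ⟶ X) (_ : ∀ k, Etale (j k))
            (_ : ∀ k, IsAffine (U k)),
            ∀ [∀ k, EtShriek.JCont (j k)],
              Nonempty (C.X i ≅ ∐ fun k => (EtSix.extZeroMod Λ (j k)).obj (EtSix.constΛ Λ (U k)))) ∧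
        Nonempty (DerivedCategory.Q.obj C ≅ K) := by
  constructor
  · intro hK
    let C := DerivedCategory.Q.objPreimage K
    let e : DerivedCategory.Q.obj C ≅ K := DerivedCategory.Q.objObjPreimageIso K
    let eh : ∀ i, C.homology i ≅ EtModD.HD K i := fun i =>
      ((DerivedCategory.homologyFunctorFactors _ i).app C).symm ≪≫ (DerivedCategory.homologyFunctor _ i).mapIso e
    obtain ⟨L, s, hL, hs, hz⟩ := GrothLib.FreeCons19.exists_resolution C (n + 1)
      (fun i => GrothLib.ModConstr.isConstructible_of_iso (eh i).symm (hK i))
      (fun i hi => (DerivedCategory.isZero_of_isLE K n i (by omega)).of_iso (eh i))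
    haveI := hs
    refine ⟨L, n, fun i hi => hz i (by omega), fun i => ?_, ⟨asIso (DerivedCategory.Q.map s) ≪≫ e⟩⟩
    obtain ⟨m, V, hV, ⟨iV⟩⟩ := hL i
    exact ⟨m, fun k => (V k).left, fun k => (V k).hom, fun k => (V k).prop, hV, ⟨iV⟩⟩
  · rintro ⟨C, c, -, hC, ⟨e⟩⟩ i
    refine GrothLib.ModConstr.isConstructible_of_iso
      (((DerivedCategory.homologyFunctorFactors _ i).app C).symm ≪≫ (DerivedCategory.homologyFunctor _ i).mapIso e)
      (GrothLib.FreeCons19.isConstructible_homology C (fun k => ?_) i)
    obtain ⟨m, U, j, hj, hU, hiso⟩ := hC k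
    haveI := hj
    haveI : ∀ k, EtShriek.JCont (j k) := fun k => GrothLib.LocConst.jCont_hom (Scheme.Etale.mk (j k))
    obtain ⟨eC⟩ := hiso
    exact GrothLib.ModConstr.isConstructible_of_iso eC.symm (GrothLib.FreeCons19.isConstructible_sigma _ fun l =>
      @GrothLib.FreeCons19.isConstructible_fr_affine Λ _ X _ _ (Scheme.Etale.mk (j l)) (hU l))

end Groth.Agent.S6700
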