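import Groth.Statements.S6703
import Mathlib.CategoryTheory.HomCongr
import Mathlib.CategoryTheory.Adjunction.FullyFaithful
import Mathlib.CategoryTheory.Triangulated.Pretriangulated
-- import your own Groth.Agent.* helpers here

set_option autoImplicit false
universe v v' u u'
open CategoryTheory
open DEquiv

namespace Groth.Agent.S6703


section
open CategoryTheory CategoryTheory.Limits CategoryTheory.Pretriangulated

variable {D : Type u} [Category.{v} D] {D' : Type u'} [Category.{v'} D'] (F : D ⥤ D')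

private def Bij (A X : D) : Prop := Function.Bijective (fun f : A ⟶ X => F.map f)

private theorem bij_of_iso {A X X' : D} (e : X ≅ X') (h : Bij F A X) : Bij F A X' := by
  have : (fun f : A ⟶ X' => F.map f) =
      ((Iso.homCongr (Iso.refl (F.obj A)) (F.mapIso e)) ∘ (fun f : A ⟶ X => F.map f)) ∘
        (Iso.homCongr (Iso.refl A) e).symm := by
    funext f; simp [Iso.homCongr]
  rw [Bij, this]
  exact ((Equiv.bijective _).comp h).comp (Equiv.bijective _)

variable [Preadditive D] [HasZeroObject D] [HasShift D ℤ] [∀ n : ℤ, (shiftFunctor D n).Additive]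
  [Pretriangulated D] [HasShift D' ℤ] [F.CommShift ℤ]

private theorem bij_shift {A X : D} (n : ℤ) (h : Bij F A X) : Bij F (A⟦n⟧) (X⟦n⟧) := by
  have : (fun f : A⟦n⟧ ⟶ X⟦n⟧ => F.map f) =
      (((Iso.homCongr ((F.commShiftIso n).app A).symm ((F.commShiftIso n).app X).symm)) ∘
        (Functor.FullyFaithful.ofFullyFaithful (shiftFunctor D' n)).homEquiv ∘
          (fun f : A ⟶ X => F.map f)) ∘
        (Functor.FullyFaithful.ofFullyFaithful (shiftFunctor D n)).homEquiv.symm := by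
    funext f
    obtain ⟨g, rfl⟩ := (shiftFunctor D n).map_surjective f
    simp only [Function.comp_apply]
    rw [show (Functor.FullyFaithful.ofFullyFaithful (shiftFunctor D n)).homEquiv.symm
      ((shiftFunctor D n).map g) = g from Equiv.symm_apply_apply _ g]
    simp [Iso.homCongr, Functor.FullyFaithful.homEquiv]
  rw [Bij, this]
  exact ((Equiv.bijective _).comp ((Equiv.bijective _).comp h)).comp (Equiv.bijective _)

private theorem isIso_counit (S : Set D) (G : D' ⥤ D) (adj : G ⊣ F)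
    (h3 : ∀ K : D, (∀ E ∈ S, ∀ (i : ℤ) (f : K ⟶ (shiftFunctor D i).obj E), f = 0) → IsZero K)
    (h4 : ∀ E ∈ S, ∀ E' ∈ S, ∀ i : ℤ, Bij F E (E'⟦i⟧)) {A : D} (hA : A ∈ S) :
    IsIso (adj.counit.app A) := by
  obtain ⟨C, q, r, hT⟩ := distinguished_cocone_triangle (adj.counit.app A)
  have hpre : ∀ X, Bij F A X → Function.Bijective (fun f : A ⟶ X => adj.counit.app A ≫ f) := by
    intro X hX
    have : (fun f : A ⟶ X => adj.counit.app A ≫ f) =
        (adj.homEquiv _ _).symm ∘ (fun f : A ⟶ X => F.map f) := by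
      funext f
      simp [Adjunction.homEquiv_counit]
    rw [this]
    exact (Equiv.bijective _).comp hX
  refine (Triangle.isZero₃_iff_isIso₁ _ hT).1 (h3 C fun E hE i f => ?_)
  have hq : q ≫ f = 0 := (hpre _ (h4 A hA E hE i)).1 (by
    simp only [comp_zero]
    rw [← Category.assoc, show adj.counit.app A ≫ q = 0 from comp_distTriang_mor_zero₁₂ _ hT, zero_comp])
  obtain ⟨g, rfl⟩ := Triangle.yoneda_exact₃ _ hT f hq
  let e : (E⟦i - 1⟧)⟦(1 : ℤ)⟧ ≅ E⟦i⟧ := ((shiftFunctorAdd' D (i - 1) 1 i (by omega)).app E).symm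
  obtain ⟨g', hg'⟩ := (shiftFunctor D (1 : ℤ)).map_surjective (g ≫ e.inv)
  obtain ⟨h, hh⟩ := (hpre _ (h4 A hA E hE (i - 1))).2 g'
  simp only at hh
  have : g = (adj.counit.app A)⟦(1 : ℤ)⟧' ≫ h⟦(1 : ℤ)⟧' ≫ e.hom := by
    rw [← Functor.map_comp_assoc, hh]
    refine (Iso.comp_inv_eq e).1 ?_
    exact hg'.symm
  subst this
  show r ≫ _ = 0
  rw [← Category.assoc, show r ≫ (adj.counit.app A)⟦(1 : ℤ)⟧' = 0 from comp_distTriang_mor_zero₃₁ _ hT,
    zero_comp]

private theorem bij_all (S : Set D) (G : D' ⥤ D) (adj : G ⊣ F)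
    (h3 : ∀ K : D, (∀ E ∈ S, ∀ (i : ℤ) (f : K ⟶ (shiftFunctor D i).obj E), f = 0) → IsZero K)
    (h4 : ∀ E ∈ S, ∀ E' ∈ S, ∀ i : ℤ, Bij F E (E'⟦i⟧)) {A : D} (hA : A ∈ S) (n : ℤ) (X : D) :
    Bij F (A⟦n⟧) X := by
  haveI := isIso_counit F S G adj h3 h4 hA
  have h0 : ∀ Y, Bij F A Y := by
    intro Y
    have : (fun f : A ⟶ Y => F.map f) = (adj.homEquiv _ _) ∘ (asIso (adj.counit.app A)).symm.homFromEquiv := by
      funext f
      simp only [Function.comp_apply]
      rw [← Equiv.symm_apply_eq]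
      simp [Adjunction.homEquiv_counit, Iso.homFromEquiv]
    rw [Bij, this]
    exact (Equiv.bijective _).comp (Equiv.bijective _)
  exact bij_of_iso F ((shiftEquiv D n).counitIso.app X) (bij_shift F n (h0 _))

private theorem isIso_unit (S : Set D) (H : D' ⥤ D) (adj : F ⊣ H)
    (h2 : ∀ K : D, (∀ E ∈ S, ∀ (i : ℤ) (f : E ⟶ (shiftFunctor D i).obj K), f = 0) → IsZero K)
    (hb : ∀ A ∈ S, ∀ (n : ℤ) (X : D), Bij F (A⟦n⟧) X) (K : D) : IsIso (adj.unit.app K) := by
  obtain ⟨Q, q, r, hT⟩ := distinguished_cocone_triangle (adj.unit.app K)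
  have hpost : ∀ A ∈ S, ∀ n : ℤ, Function.Bijective (fun f : A⟦n⟧ ⟶ K => f ≫ adj.unit.app K) := by
    intro A hA n
    have : (fun f : A⟦n⟧ ⟶ K => f ≫ adj.unit.app K) =
        (adj.homEquiv _ _) ∘ (fun f : A⟦n⟧ ⟶ K => F.map f) := by
      funext f
      simp [Adjunction.homEquiv_unit]
    rw [this]
    exact (Equiv.bijective _).comp (hb A hA n K)
  refine (Triangle.isZero₃_iff_isIso₁ _ hT).1 (h2 Q fun E hE i f => ?_)
  let e : (Q⟦i⟧)⟦-i⟧ ≅ Q := (shiftFunctorCompIsoId D i (-i) (by omega)).app Q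
  suffices h : ∀ g : E⟦-i⟧ ⟶ Q, g = 0 by
    apply (shiftFunctor D (-i)).map_injective
    rw [Functor.map_zero, ← cancel_mono e.hom, zero_comp]
    exact h _
  intro g
  have hr : g ≫ r = 0 := by
    let d : E⟦-i⟧ ≅ (E⟦-i - 1⟧)⟦(1 : ℤ)⟧ := (shiftFunctorAdd' D (-i - 1) 1 (-i) (by omega)).app E
    obtain ⟨g', hg'⟩ := (shiftFunctor D (1 : ℤ)).map_surjective (d.inv ≫ g ≫ r)
    have h0 : g' = 0 := (hpost E hE (-i - 1)).1 (by
      simp only [zero_comp]
      apply (shiftFunctor D (1 : ℤ)).map_injective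
      rw [Functor.map_comp, hg', Functor.map_zero, Category.assoc, Category.assoc,
        show r ≫ (adj.unit.app K)⟦(1 : ℤ)⟧' = 0 from comp_distTriang_mor_zero₃₁ _ hT, comp_zero, comp_zero])
    rw [h0, Functor.map_zero] at hg'
    rw [← cancel_epi d.inv, ← hg', comp_zero]
  obtain ⟨h, rfl⟩ := Triangle.coyoneda_exact₃ _ hT g hr
  obtain ⟨h', rfl⟩ := (hpost E hE (-i)).2 h
  show (h' ≫ adj.unit.app K) ≫ q = 0
  rw [Category.assoc, show adj.unit.app K ≫ q = 0 from comp_distTriang_mor_zero₁₂ _ hT, comp_zero]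

end


open CategoryTheory.Limits CategoryTheory.Pretriangulated in
/-- Let F : D ⥤ D' be an exact functor of triangulated categories admitting both a left and a right
adjoint, and let S be a set of objects of D such that an object K of D is zero as soon as Hom(E,
K⟦i⟧) = 0 for all E ∈ S and i ∈ ℤ, and also as soon as Hom(K, E⟦i⟧) = 0 for all E ∈ S and i ∈ ℤ. If
for all E, E' ∈ S and i ∈ ℤ the map Hom(E, E'⟦i⟧) → Hom(F E, F (E'⟦i⟧)) given by F is bijective,
then F is full and faithful. -/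
theorem result
    {D : Type u} [Category.{v} D] [Preadditive D] [HasZeroObject D] [HasShift D ℤ]
    [∀ n : ℤ, (shiftFunctor D n).Additive] [Pretriangulated D] [IsTriangulated D]
    {D' : Type u'} [Category.{v'} D'] [Preadditive D'] [HasZeroObject D'] [HasShift D' ℤ]
    [∀ n : ℤ, (shiftFunctor D' n).Additive] [Pretriangulated D'] [IsTriangulated D']
    (F : D ⥤ D') [F.CommShift ℤ] [F.IsTriangulated] [F.IsLeftAdjoint] [F.IsRightAdjoint]
    (S : Set D)
    (h2 : ∀ K : D, (∀ E ∈ S, ∀ (i : ℤ) (f : E ⟶ (shiftFunctor D i).obj K), f = 0) → IsZero K)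
    (h3 : ∀ K : D, (∀ E ∈ S, ∀ (i : ℤ) (f : K ⟶ (shiftFunctor D i).obj E), f = 0) → IsZero K)
    (h4 : ∀ E ∈ S, ∀ E' ∈ S, ∀ i : ℤ,
      Function.Bijective (fun f : E ⟶ (shiftFunctor D i).obj E' => F.map f)) :
    F.Full ∧ F.Faithful := by
  have hb := fun A hA n X => bij_all F S F.leftAdjoint (Adjunction.ofIsRightAdjoint F) h3 h4 (A := A) hA n X
  let adj := Adjunction.ofIsLeftAdjoint F
  haveI : ∀ K, IsIso (adj.unit.app K) := isIso_unit F S F.rightAdjoint adj h2 hb
  haveI : IsIso adj.unit := NatIso.isIso_of_isIso_app _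
  exact ⟨adj.fullyFaithfulLOfIsIsoUnit.full, adj.fullyFaithfulLOfIsIsoUnit.faithful⟩

end Groth.Agent.S6703
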