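import Groth.Statements.S6708
import Mathlib.CategoryTheory.Triangulated.Subcategory
import Mathlib.CategoryTheory.Filtered.Basic

set_option autoImplicit false
universe v u
open CategoryTheory
open DEquiv

namespace Groth.Agent.S6708

open CategoryTheory.Limits CategoryTheory.Pretriangulated in
/-- Let D be a pretriangulated category, D' ⊆ D a full triangulated subcategory (given as a property of
objects that is triangulated in Mathlib's sense) and X an object of D. Then the category of arrows E
⟶ X with E in D' is filtered. -/
theorem result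
    {D : Type u} [Category.{v} D] [Preadditive D] [HasZeroObject D] [HasShift D ℤ]
    [∀ n : ℤ, (shiftFunctor D n).Additive] [Pretriangulated D]
    (P : ObjectProperty D) [P.IsTriangulated] (X : D) :
    IsFiltered (CostructuredArrow P.ι X) := by
  have : Nonempty (CostructuredArrow P.ι X) := by
    obtain ⟨Z, -, hP⟩ := P.exists_prop_of_containsZero
    exact ⟨CostructuredArrow.mk (Y := (⟨Z, hP⟩ : P.FullSubcategory)) (0 : Z ⟶ X)⟩
  let hom : ∀ (A B : CostructuredArrow P.ι X) (f : A.left.obj ⟶ B.left.obj), f ≫ B.hom = A.hom → (A ⟶ B) :=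
    fun A B f h => CostructuredArrow.homMk (ObjectProperty.homMk f) h
  have h1 : IsFilteredOrEmpty (CostructuredArrow P.ι X) := by
    refine { cocone_objs := fun A B => ?_, cocone_maps := fun A B f g => ?_ }
    · obtain ⟨W, hW, ⟨e⟩⟩ := P.ext_of_isTriangulatedClosed₂' _
        (Pretriangulated.binaryBiproductTriangle_distinguished A.left.obj B.left.obj) A.left.property B.left.property
      change A.left.obj ⊞ B.left.obj ≅ W at e
      let C : CostructuredArrow P.ι X :=
        CostructuredArrow.mk (Y := (⟨W, hW⟩ : P.FullSubcategory)) (e.inv ≫ biprod.desc A.hom B.hom)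
      exact ⟨C, hom A C (biprod.inl ≫ e.hom) (by simp [C]), hom B C (biprod.inr ≫ e.hom) (by simp [C]), trivial⟩
    · obtain ⟨Z, a, b, hT⟩ := Pretriangulated.distinguished_cocone_triangle (f.left.hom - g.left.hom)
      obtain ⟨W, hW, ⟨e⟩⟩ := P.ext_of_isTriangulatedClosed₃' _ hT A.left.property B.left.property
      obtain ⟨x, hx⟩ := Pretriangulated.Triangle.yoneda_exact₂ _ hT B.hom (by
        have hf := CostructuredArrow.w f
        have hg := CostructuredArrow.w g
        dsimp at hf hg
        show (f.left.hom - g.left.hom) ≫ B.hom = 0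
        rw [Preadditive.sub_comp, hf, hg, sub_self])
      change Z ≅ W at e
      change B.hom = a ≫ x at hx
      let C : CostructuredArrow P.ι X := CostructuredArrow.mk (Y := (⟨W, hW⟩ : P.FullSubcategory)) (e.inv ≫ x)
      refine ⟨C, hom B C (a ≫ e.hom) (by simp [C]; exact hx.symm), ?_⟩
      have hz := Pretriangulated.comp_distTriang_mor_zero₁₂ _ hT
      change (f.left.hom - g.left.hom) ≫ a = 0 at hz
      rw [Preadditive.sub_comp, sub_eq_zero] at hz
      apply CostructuredArrow.hom_ext
      apply ObjectProperty.hom_ext
      show f.left.hom ≫ a ≫ e.hom = g.left.hom ≫ a ≫ e.hom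
      rw [← Category.assoc, hz, Category.assoc]
  exact { }

end Groth.Agent.S6708
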