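import Groth.Statements.S6709
import Groth.Agent.Lib.CompactRep0.Main
-- import your own Groth.Agent.* helpers here

set_option autoImplicit false
universe w v u
open CategoryTheory
open DEquiv

namespace Groth.Agent.S6709

open CategoryTheory.Limits CategoryTheory.Pretriangulated Opposite in
/-- Let k be a field and D a k-linear triangulated category with arbitrary direct sums which is
compactly generated; write D_c for the full subcategory of compact objects. Let H be a contravariant
k-linear functor from D_c to k-vector spaces which is cohomological (for every distinguished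
triangle X ⟶ Y ⟶ Z of D with X, Y, Z compact, H(Z) ⟶ H(Y) ⟶ H(X) is exact) and such that every H(X)
is finite-dimensional. One can then find an object Y of D for which H becomes isomorphic to X ↦
Hom(X, Y), the functor represented by Y on compact objects (existence of such Y and of an
isomorphism of functors). -/
theorem result
    {k : Type w} [Field k]
    {D : Type u} [Category.{v} D] [Preadditive D] [Linear k D] [HasZeroObject D] [HasShift D ℤ]
    [∀ n : ℤ, (shiftFunctor D n).Additive] [∀ n : ℤ, (shiftFunctor D n).Linear k]
    [Pretriangulated D] [IsTriangulated D] [HasCoproducts.{v} D]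
    (hD : CohDer.IsCompactlyGenerated D)
    (H : (ObjectProperty.FullSubcategory (fun K : D => CohDer.IsCompactObject K))ᵒᵖ ⥤ ModuleCat.{v} k)
    [H.Additive]
    (hlin : ∀ (X Y : ObjectProperty.FullSubcategory (fun K : D => CohDer.IsCompactObject K))
      (r : k) (f : X ⟶ Y), H.map (r • f).op = r • H.map f.op)
    (hcoh : ∀ T ∈ distTriang D, ∀ (h₁ : CohDer.IsCompactObject T.obj₁)
      (h₂ : CohDer.IsCompactObject T.obj₂) (h₃ : CohDer.IsCompactObject T.obj₃)
      (y : H.obj (op ⟨T.obj₂, h₂⟩)),
      H.map (ObjectProperty.homMk T.mor₁ : (⟨T.obj₁, h₁⟩ : ObjectProperty.FullSubcategory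
          (fun K : D => CohDer.IsCompactObject K)) ⟶ ⟨T.obj₂, h₂⟩).op y = 0 →
        ∃ z : H.obj (op ⟨T.obj₃, h₃⟩),
          H.map (ObjectProperty.homMk T.mor₂ : (⟨T.obj₂, h₂⟩ : ObjectProperty.FullSubcategory
            (fun K : D => CohDer.IsCompactObject K)) ⟶ ⟨T.obj₃, h₃⟩).op z = y)
    (hfin : ∀ X, Module.Finite k (H.obj X)) :
    ∃ Y : D, Nonempty (H ≅ (ObjectProperty.ι _).op ⋙ (linearYoneda k D).obj Y) := by
  exact GrothLib.CompactRep0.exists_representing (H := H) hD hlin hcoh (fun A => hfin (op A))

end Groth.Agent.S6709
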