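import Groth.Statements.S6711
import Groth.Agent.Lib.QFiniteAcyclic.Core
import Groth.Agent.Lib.RelVanish.Basic
import Groth.Agent.Lib.QCoh.FT
import Mathlib.AlgebraicGeometry.ZariskisMainTheorem

set_option autoImplicit false
set_option maxHeartbeats 1000000
set_option linter.style.haveILetI false
set_option backward.isDefEq.respectTransparency.types false
universe u
open CategoryTheory AlgebraicGeometry
open FunMor

namespace Groth.Agent.S6711

open CategoryTheory.Limits in
/-- Suppose V and X are Noetherian schemes and f : V ⟶ X is separated and quasi-finite (quasi-finite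
meaning locally quasi-finite and of finite type). If there is a coherent O_V-module K whose support
is all of V such that f_* K is coherent and R^q f_* K = 0 for every q > 0, then f is finite. -/
theorem result
    {V X : Scheme.{u}} [IsNoetherian V] [IsNoetherian X] (f : V ⟶ X)
    [LocallyQuasiFinite f] [LocallyOfFiniteType f] [QuasiCompact f] [IsSeparated f]
    [HasInjectiveResolutions V.Modules]
    (K : V.Modules) (hK : Coh.IsCoh K) (hsupp : CohB1.support K = Set.univ)
    (hpush : Coh.IsCoh ((Coh.push f).obj K))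
    (hvan : ∀ q : ℕ, 0 < q → IsZero ((Coh.Rpush f q).obj K)) : IsFinite f := by
  classical
  let j := f.toNormalization
  let h := f.fromNormalization
  have hjh : j ≫ h = f := f.toNormalization_fromNormalization
  suffices hcl : IsClosed (Set.range j) by
    haveI : IsClosedImmersion j := IsClosedImmersion.of_isPreimmersion j hcl
    haveI : IsIntegralHom (j ≫ h) := inferInstance
    rw [hjh] at this
    exact (IsFinite.iff_isIntegralHom_and_locallyOfFiniteType f).2 ⟨this, inferInstance⟩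
  rw [← closure_subset_iff_isClosed]
  intro w hw
  by_contra hwj
  obtain ⟨U, hU, hwU, -⟩ := exists_isAffineOpen_mem_and_subset (x := h w) (U := ⊤) trivial
  let Y := h ⁻¹ᵁ U
  let V0 := f ⁻¹ᵁ U
  have hY : IsAffineOpen Y := hU.preimage h
  have hfj : ∀ v : V, h (j v) = f v := fun v => by
    rw [← Scheme.Hom.comp_apply, hjh]
  have hVY : V0.ι ''ᵁ ⊤ ≤ j ⁻¹ᵁ Y := by
    rintro _ ⟨v, -, rfl⟩
    show h (j v.1) ∈ U
    rw [hfj]
    exact v.2
  have hcov : ∀ v : V0, ∃ g : Γ(f.normalization, Y), f.normalization.basicOpen g ≤ j.opensRange ∧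
      j v.1 ∈ f.normalization.basicOpen g := fun v => by
    obtain ⟨g, hg, hvg⟩ := hY.exists_basicOpen_le (V := j.opensRange) ⟨j v.1, ⟨v.1, rfl⟩⟩
      (show h (j v.1) ∈ U by rw [hfj]; exact v.2)
    exact ⟨g, hg, hvg⟩
  choose g hgR hgv using hcov
  haveI : CompactSpace V0.toScheme :=
    isCompact_iff_compactSpace.1 (TopologicalSpace.NoetherianSpace.isCompact _)
  obtain ⟨s, hs⟩ := isCompact_univ.elim_finite_subcover (fun v : V0 => (V0.ι ⁻¹ᵁ j ⁻¹ᵁ f.normalization.basicOpen (g v) : Set V0))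
    (fun v => (V0.ι ⁻¹ᵁ j ⁻¹ᵁ f.normalization.basicOpen (g v)).2) (fun v _ => Set.mem_iUnion.2 ⟨v, hgv v⟩)
  letI : Algebra Γ(X, U) Γ(f.normalization, Y) := (h.app U).hom.toAlgebra
  let B : Subalgebra Γ(X, U) Γ(f.normalization, Y) := Algebra.adjoin _ (s.image g : Set Γ(f.normalization, Y))
  haveI : IsNoetherianRing Γ(X, U) := IsLocallyNoetherian.component_noetherian ⟨U, hU⟩
  haveI : IsNoetherianRing B := isNoetherianRing_of_fg (Subalgebra.fg_adjoin_finset _)
  let φ : B →+* Γ(V0.toScheme, ⊤) := (j.appLE Y (V0.ι ''ᵁ ⊤) hVY).hom.comp B.val.toRingHom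
  let I : Ideal B := Ideal.span {b | b.1 ∈ s.image g}
  let p : Ideal B := (IsLocalRing.maximalIdeal (f.normalization.presheaf.stalk w)).comap
    ((f.normalization.presheaf.germ Y w hwU).hom.comp B.val.toRingHom)
  have hp : ∀ b : B, b ∈ p ↔ w ∉ f.normalization.basicOpen b.1 := fun b => by
    rw [Scheme.mem_basicOpen f.normalization b.1 w (show w ∈ Y from hwU)]
    exact Iff.rfl
  have hφ : ∀ b : B, V0.ι ''ᵁ V0.toScheme.basicOpen (φ b) = V0.ι ''ᵁ ⊤ ⊓ j ⁻¹ᵁ f.normalization.basicOpen b.1 := fun b => by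
    refine (Scheme.Opens.ι_image_basicOpen V0 (φ b)).trans ?_
    exact Scheme.basicOpen_appLE _ _ _ hVY b.1
  have haff : ∀ b : B, f.normalization.basicOpen b.1 ≤ j.opensRange → IsAffineOpen (V0.toScheme.basicOpen (φ b)) := fun b hb => by
    rw [← V0.ι.isAffineOpen_iff_of_isOpenImmersion, hφ]
    have hle : j ⁻¹ᵁ f.normalization.basicOpen b.1 ≤ V0.ι ''ᵁ ⊤ := fun v hv => by
      refine ⟨⟨v, ?_⟩, trivial, rfl⟩
      show f v ∈ U
      rw [← hfj]
      exact f.normalization.basicOpen_le b.1 hv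
    rw [inf_eq_right.2 hle]
    exact (hY.basicOpen b.1).preimage_of_isOpenImmersion j hb
  have hmem : ∀ (b : B) (v : V0), v ∈ V0.toScheme.basicOpen (φ b) ↔ j v.1 ∈ f.normalization.basicOpen b.1 := fun b v => by
    rw [← Scheme.Hom.preimage_image_eq V0.ι (V0.toScheme.basicOpen (φ b)), hφ]
    exact ⟨fun hv => hv.2, fun hv => ⟨⟨v, trivial, rfl⟩, hv⟩⟩
  have hgen : ∀ (v : V0) (hv : v ∈ s), (⟨g v, Algebra.subset_adjoin (Finset.mem_image_of_mem g hv)⟩ : B) ∈ I :=
    fun v hv => Ideal.subset_span (Finset.mem_image_of_mem g hv)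
  have hI : ∀ x : V0, ∃ b ∈ I, x ∈ V0.toScheme.basicOpen (φ b) ∧ IsAffineOpen (V0.toScheme.basicOpen (φ b)) := fun x => by
    obtain ⟨v, hv, hxv⟩ := Set.mem_iUnion₂.1 (hs (Set.mem_univ x))
    exact ⟨_, hgen v hv, (hmem _ x).2 hxv, haff _ (hgR v)⟩
  haveI : p.IsPrime := Ideal.comap_isPrime _ _
  have hIp : I ≤ p := Ideal.span_le.2 fun b hb => (hp b).2 fun hwb => hwj <| by
    obtain ⟨v, -, hv⟩ := Finset.mem_image.1 hb
    rw [← hv] at hwb
    exact hgR v hwb
  haveI hq : K.IsQuasicoherent := hK.1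
  refine GrothLib.QFiniteAcyclic.core φ I hI p hIp (K.restrict V0.ι) ?_
    (fun q hq => GrothLib.RelVanish.subsingleton_HHon_of_isZero_Rpush f K q hU (hvan q hq)) ?_
  · letI := Module.compHom Γ(K.restrict V0.ι, ⊤) φ
    haveI := hpush.1
    haveI hfA : Module.Finite Γ(X, U) Γ((Coh.push f).obj K, U) :=
      GrothLib.QCoh.moduleFinite_of_isFiniteType _ hpush.2 hU
    obtain ⟨t, ht⟩ := hfA.fg_top
    let e : Γ((Coh.push f).obj K, U) →+ Γ(K.restrict V0.ι, ⊤) :=
      (K.presheaf.map (homOfLE (show V0.ι ''ᵁ ⊤ ≤ V0 by simp)).op).hom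
    classical
    refine ⟨⟨t.image e, eq_top_iff.2 fun y _ => ?_⟩⟩
    obtain ⟨x, rfl⟩ : ∃ x, e x = y := by
      refine ⟨K.presheaf.map (homOfLE (show V0 ≤ V0.ι ''ᵁ ⊤ by simp)).op y, ?_⟩
      show (K.presheaf.map _ ≫ K.presheaf.map _) y = y
      rw [← K.presheaf.map_comp]
      exact (congrArg (fun ψ => K.presheaf.map ψ y) (Subsingleton.elim _ (𝟙 _))).trans (by simp)
    have hx : x ∈ Submodule.span Γ(X, U) (t : Set Γ((Coh.push f).obj K, U)) := ht ▸ trivial
    induction hx using Submodule.span_induction with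
    | mem x hx => exact Submodule.subset_span (Finset.mem_image_of_mem e hx)
    | zero => rw [map_zero]; exact zero_mem _
    | add x y _ _ hx hy => rw [map_add]; exact add_mem (hx trivial) (hy trivial)
    | smul a x _ hx =>
      have : e (a • x) = (algebraMap Γ(X, U) B a : B) • e x := by
        refine (GrothLib.QFiniteAcyclic.res_smul K _ (f.app U a) x).trans (congrArg
          (fun r : Γ(V, V0.ι ''ᵁ ⊤) => r • (show Γ(K, V0.ι ''ᵁ ⊤) from e x)) ?_)
        show (f.app U ≫ V.presheaf.map _) a = (V0.ι.appIso ⊤).inv ((h.app U ≫ j.appLE Y _ hVY) a)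
        rw [Scheme.Opens.ι_appIso]
        show (f.app U ≫ V.presheaf.map _) a = (h.app U ≫ j.appLE Y _ hVY) a
        rw [Scheme.Hom.app_eq_appLE, Scheme.Hom.appLE_map, Scheme.Hom.app_eq_appLE, Scheme.Hom.appLE_comp_appLE]
        simp only [hjh]
      rw [this]
      exact Submodule.smul_mem _ _ (hx trivial)
  · intro b hb
    rw [hp, not_not] at hb
    obtain ⟨_, hwb, v, rfl⟩ := mem_closure_iff.1 hw _ (f.normalization.basicOpen b.1).2 hb
    have hv : v ∈ V0 := by
      show f v ∈ U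
      rw [← hfj]
      exact f.normalization.basicOpen_le b.1 hwb
    obtain ⟨u, hu, hxu⟩ := Set.mem_iUnion₂.1 (hs (Set.mem_univ (⟨v, hv⟩ : V0)))
    let c : B := ⟨g u, Algebra.subset_adjoin (Finset.mem_image_of_mem g hu)⟩
    have hmul : f.normalization.basicOpen (c * b).1 = f.normalization.basicOpen c.1 ⊓ f.normalization.basicOpen b.1 :=
      Scheme.basicOpen_mul _ _ _
    refine GrothLib.QFiniteAcyclic.exists_smul_ne_zero (K.restrict V0.ι) (φ c) (φ b) (x := ⟨v, hv⟩) ?_ ?_ ?_
    · rw [← map_mul]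
      refine (hmem _ ⟨v, hv⟩).2 ?_
      rw [hmul]
      exact ⟨hxu, hwb⟩
    · rw [← map_mul]
      exact haff _ ((hmul.le.trans inf_le_left).trans (hgR u))
    · intro hsub
      have hv' : v ∈ CohB1.support K := hsupp ▸ trivial
      exact hv' (@Equiv.subsingleton _ _
        ((Scheme.Modules.restrictStalkNatIso V0.ι (⟨v, hv⟩ : V0)).app K).addCommGroupIsoToAddEquiv.symm.toEquiv hsub)

end Groth.Agent.S6711
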