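import Groth.Statements.S6712
import Groth.Agent.Lib.IsoNear28.Basic

set_option backward.isDefEq.respectTransparency false

set_option autoImplicit false
universe u
open CategoryTheory AlgebraicGeometry
open DEquiv

namespace Groth.Agent.S6712

open CategoryTheory.Limits in
/-- Let S be a Noetherian scheme, s ∈ S, and p : X ⟶ Y a morphism over S where X ⟶ S and Y ⟶ S are
proper and X ⟶ S is flat. If the fibre X_s ⟶ Y_s of p is an isomorphism, then there is an open
neighbourhood U of s such that the base change X_U ⟶ Y_U of p is an isomorphism. -/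
theorem result
    {S X Y : Scheme.{u}} [IsNoetherian S] (s : S) (g : X ⟶ S) (h : Y ⟶ S) (p : X ⟶ Y)
    (w : p ≫ h = g) [IsProper g] [IsProper h] [Flat g]
    (hs : IsIso (pullback.map g (S.fromSpecResidueField s) h (S.fromSpecResidueField s) p (𝟙 _)
      (𝟙 _) ((Category.comp_id g).trans w.symm)
      ((Category.comp_id _).trans (Category.id_comp _).symm))) :
    ∃ U : S.Opens, s ∈ U ∧
      IsIso (pullback.map g U.ι h U.ι p (𝟙 _) (𝟙 _) ((Category.comp_id g).trans w.symm)
        ((Category.comp_id _).trans (Category.id_comp _).symm)) := by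
  haveI := hs
  obtain ⟨U, hsU, hiso⟩ := GrothLib.IsoNear28.exists_nhd_isIso p g h w s (pullback.map g (S.fromSpecResidueField s) h (S.fromSpecResidueField s) p (𝟙 _)
      (𝟙 _) ((Category.comp_id g).trans w.symm) ((Category.comp_id _).trans (Category.id_comp _).symm))
    (pullback.lift_fst _ _ _) ((pullback.lift_snd _ _ _).trans (Category.comp_id _))
  refine ⟨U, hsU, ?_⟩
  obtain ⟨k', l, -, hl⟩ := GrothLib.FibreFlat.isPullback_restrict_of_range p (h ⁻¹ᵁ U) (pullback.fst h U.ι) fun t => by
    show h (pullback.fst h U.ι t) ∈ U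
    rw [← Scheme.Hom.comp_apply, pullback.condition, Scheme.Hom.comp_apply]
    exact (pullback.snd h U.ι t).2
  haveI := hiso
  haveI : IsIso (pullback.snd p (pullback.fst h U.ι)) :=
    MorphismProperty.of_isPullback (P := MorphismProperty.isomorphisms Scheme) hl hiso
  have hsq : IsPullback (pullback.fst g U.ι) (pullback.map g U.ι h U.ι p (𝟙 _) (𝟙 _)
      ((Category.comp_id g).trans w.symm) ((Category.comp_id _).trans (Category.id_comp _).symm))
      p (pullback.fst h U.ι) := by
    refine IsPullback.of_bot ?_ (pullback.lift_fst _ _ _).symm (IsPullback.of_hasPullback h U.ι)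
    rw [pullback.lift_snd, Category.comp_id, w]
    exact IsPullback.of_hasPullback _ _
  rw [← hsq.isoPullback_hom_snd]
  infer_instance

end Groth.Agent.S6712
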