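import Groth.Statements.S6713
import Mathlib.Algebra.Homology.DerivedCategory.Fractions
import Mathlib.Algebra.Homology.DerivedCategory.TStructure
import Mathlib.Data.Countable.Basic
import Mathlib.Data.Set.Countable
import Mathlib.Data.Int.Interval
-- import your own Groth.Agent.* helpers here

set_option autoImplicit false
universe w v u
open CategoryTheory
open DEquiv

namespace Groth.Agent.S6713

open CategoryTheory.Limits
open scoped ZeroObject

noncomputable section

variable {A : Type u} [Category.{v} A] [Abelian A] (e : ℕ → A) (he : ∀ X : A, ∃ n : ℕ, Nonempty (X ≅ e n))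

open Classical in
/-- The least index of the isomorphism class of an object. -/
def idx (X : A) : ℕ := Nat.find (he X)

open Classical in
def idxIso (X : A) : X ≅ e (idx e he X) := (Nat.find_spec (he X)).some

open Classical in
theorem idx_eq_of_iso {X Y : A} (i : X ≅ Y) : idx e he X = idx e he Y := by
  refine le_antisymm (Nat.find_le ?_) (Nat.find_le ?_)
  · exact ⟨i ≪≫ idxIso e he Y⟩
  · exact ⟨i.symm ≪≫ idxIso e he X⟩

abbrev Code : Type v := Σ p : ULift.{v} ℕ, Σ q : ULift.{v} ℕ, (e p.down ⟶ e q.down)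

/-- The code of the `i`-th differential. -/
def code (K : CochainComplex A ℤ) (i : ℤ) : Code e :=
  ⟨⟨idx e he (K.X i)⟩, ⟨idx e he (K.X (i + 1))⟩,
    (idxIso e he (K.X i)).inv ≫ K.d i (i + 1) ≫ (idxIso e he (K.X (i + 1))).hom⟩

theorem code_eq_elim {c c' : Code e} (h : c = c') :
    ∃ (h1 : c.1.down = c'.1.down) (h2 : c.2.1.down = c'.2.1.down),
      c.2.2 ≫ eqToHom (congrArg e h2) = eqToHom (congrArg e h1) ≫ c'.2.2 := by
  subst h
  exact ⟨rfl, rfl, by simp⟩

theorem idx_eq_of_code {K L : CochainComplex A ℤ} (h : code e he K = code e he L) (i : ℤ) :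
    idx e he (K.X i) = idx e he (L.X i) :=
  congrArg (fun c : Code e => c.1.down) (congrFun h i)

/-- Complexes with the same code are isomorphic. -/
def isoOfCode {K L : CochainComplex A ℤ} (h : code e he K = code e he L) : K ≅ L :=
  HomologicalComplex.Hom.isoOfComponents
    (fun i => idxIso e he (K.X i) ≪≫ eqToIso (congrArg e (idx_eq_of_code e he h i)) ≪≫
      (idxIso e he (L.X i)).symm) (by
    rintro i j (rfl : i + 1 = j)
    obtain ⟨h1, h2, h3⟩ := code_eq_elim e (congrFun h i)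
    simp only [code, Category.assoc] at h3
    simp only [Iso.trans_hom, Iso.symm_hom, eqToIso.hom, Category.assoc]
    rw [← cancel_epi (idxIso e he (K.X i)).inv, Iso.inv_hom_id_assoc, reassoc_of% h3]
    simp)

theorem code_eq_zero {K : CochainComplex A ℤ} {a b : ℤ} [K.IsStrictlyGE a] [K.IsStrictlyLE b] {i : ℤ}
    (hi : i < a - 1 ∨ b < i) : code e he K i = ⟨⟨idx e he (0 : A)⟩, ⟨idx e he (0 : A)⟩, 0⟩ := by
  have hz : IsZero (K.X i) ∧ IsZero (K.X (i + 1)) := by
    rcases hi with h | h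
    · exact ⟨K.isZero_of_isStrictlyGE a i (by omega), K.isZero_of_isStrictlyGE a (i + 1) (by omega)⟩
    · exact ⟨K.isZero_of_isStrictlyLE b i (by omega), K.isZero_of_isStrictlyLE b (i + 1) (by omega)⟩
  have key : ∀ (p q : ℕ) (m : e p ⟶ e q) (p' q' : ℕ), p = p' → q = q' → IsZero (e p) →
      (⟨⟨p⟩, ⟨q⟩, m⟩ : Code e) = ⟨⟨p'⟩, ⟨q'⟩, 0⟩ := by
    rintro p q m _ _ rfl rfl hp
    rw [hp.eq_of_src m 0]
  exact key _ _ _ _ _ (idx_eq_of_iso e he hz.1.isoZero) (idx_eq_of_iso e he hz.2.isoZero)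
    (hz.1.of_iso (idxIso e he (K.X i)).symm)

theorem countable_codes [Countable (Code e)] :
    {c : ℤ → Code e | ∃ (K : CochainComplex A ℤ) (a b : ℤ) (_ : K.IsStrictlyGE a) (_ : K.IsStrictlyLE b),
      code e he K = c}.Countable := by
  let z : Code e := ⟨⟨idx e he (0 : A)⟩, ⟨idx e he (0 : A)⟩, 0⟩
  refine Set.Countable.mono (s₂ := ⋃ p : ℤ × ℤ, {c : ℤ → Code e | ∀ i, i < p.1 - 1 ∨ p.2 < i → c i = z})
    ?_ (Set.countable_iUnion fun p => ?_)
  · rintro _ ⟨K, a, b, _, _, rfl⟩
    exact Set.mem_iUnion.2 ⟨(a, b), fun i hi => code_eq_zero e he hi⟩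
  · let r : {c : ℤ → Code e | ∀ i, i < p.1 - 1 ∨ p.2 < i → c i = z} →
        (↥(Finset.Icc (p.1 - 1) p.2) → Code e) := fun c i => c.1 i.1
    exact Set.countable_coe_iff.1 (Function.Injective.countable (f := r) fun c c' h => by
      refine Subtype.ext (funext fun i => ?_)
      by_cases hi : i < p.1 - 1 ∨ p.2 < i
      · exact (c.2 i hi).trans (c'.2 i hi).symm
      · rw [not_or, not_lt, not_lt] at hi
        exact congrFun h ⟨i, Finset.mem_Icc.2 hi⟩)

theorem countable_hom (hhom : ∀ X Y : A, Countable (X ⟶ Y)) {K L : CochainComplex A ℤ} (a b : ℤ)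
    [K.IsStrictlyGE a] [K.IsStrictlyLE b] : Countable (K ⟶ L) := by
  haveI := hhom
  refine Function.Injective.countable
    (f := fun φ (i : ↥(Finset.Icc a b)) => φ.f i.1) fun φ ψ h => ?_
  ext i
  by_cases hi : i < a ∨ b < i
  · rcases hi with hi | hi
    · exact (K.isZero_of_isStrictlyGE a i hi).eq_of_src _ _
    · exact (K.isZero_of_isStrictlyLE b i hi).eq_of_src _ _
  · rw [not_or, not_lt, not_lt] at hi
    exact congrFun h ⟨i, Finset.mem_Icc.2 hi⟩

theorem exists_model [HasDerivedCategory.{w} A] (K : DerivedCategory.Bounded A) :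
    ∃ (K' : CochainComplex A ℤ) (a b : ℤ) (_ : K'.IsStrictlyGE a) (_ : K'.IsStrictlyLE b),
      Nonempty (K.obj ≅ DerivedCategory.Q.obj K') := by
  obtain ⟨⟨a, ha⟩, ⟨b, hb⟩⟩ := K.property
  haveI : K.obj.IsGE a := ha
  haveI : K.obj.IsLE b := hb
  obtain ⟨K', h1, h2, h3⟩ := K.obj.exists_iso_Q_obj_of_isGE_of_isLE a b
  exact ⟨K', a, b, h1, h2, h3⟩

theorem bounded_Q_obj [HasDerivedCategory.{w} A] (K : CochainComplex A ℤ) (a b : ℤ) [K.IsStrictlyGE a]
    [K.IsStrictlyLE b] : DerivedCategory.TStructure.t.bounded (DerivedCategory.Q.obj K) :=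
  ⟨⟨a, (inferInstance : (DerivedCategory.Q.obj K).IsGE a)⟩,
    ⟨b, (inferInstance : (DerivedCategory.Q.obj K).IsLE b)⟩⟩

end


/-- Let A be an abelian category which is countable: Hom(X, Y) is countable for all objects X, Y and
there are countably many isomorphism classes of objects. Then the bounded derived category D^b(A) is
countable in the same sense. -/
theorem result
    {A : Type u} [Category.{v} A] [Abelian A] [HasDerivedCategory.{w} A]
    (hhom : ∀ X Y : A, Countable (X ⟶ Y))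
    (hiso : ∃ e : ℕ → A, ∀ X : A, ∃ n : ℕ, Nonempty (X ≅ e n)) :
    (∀ K L : DerivedCategory.Bounded A, Countable (K ⟶ L)) ∧
      ∃ e : ℕ → DerivedCategory.Bounded A, ∀ K : DerivedCategory.Bounded A,
        ∃ n : ℕ, Nonempty (K ≅ e n) := by
  obtain ⟨e, he⟩ := hiso
  haveI := hhom
  haveI : Countable (Code e) := inferInstance
  let S := {c : ℤ → Code e | ∃ (K : CochainComplex A ℤ) (a b : ℤ) (_ : K.IsStrictlyGE a) (_ : K.IsStrictlyLE b),
      code e he K = c}
  haveI : Countable S := Set.countable_coe_iff.2 (countable_codes e he)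
  choose R lo hi hlo hhi hR using fun c : S => c.2
  refine ⟨fun K L => ?_, ?_⟩
  · obtain ⟨K₀, a₁, b₁, _, _, ⟨iK⟩⟩ := exists_model K
    obtain ⟨L₀, a₂, b₂, _, _, ⟨iL⟩⟩ := exists_model L
    haveI : K₀.IsStrictlyGE (min a₁ a₂) := K₀.isStrictlyGE_of_ge (min a₁ a₂) a₁ (min_le_left _ _)
    haveI : L₀.IsStrictlyGE (min a₁ a₂) := L₀.isStrictlyGE_of_ge (min a₁ a₂) a₂ (min_le_right _ _)
    haveI : ∀ c : S, Countable (R c ⟶ K₀) := fun c =>
      @countable_hom _ _ _ hhom _ _ (lo c) (hi c) (hlo c) (hhi c)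
    haveI : ∀ c : S, Countable (R c ⟶ L₀) := fun c =>
      @countable_hom _ _ _ hhom _ _ (lo c) (hi c) (hlo c) (hhi c)
    haveI : Countable (DerivedCategory.Q.obj K₀ ⟶ DerivedCategory.Q.obj L₀) := by
      refine Function.Surjective.countable (f := fun (p : Σ c : S,
        {s : R c ⟶ K₀ // IsIso (DerivedCategory.Q.map s)} × (R c ⟶ L₀)) =>
          haveI := p.2.1.2
          inv (DerivedCategory.Q.map p.2.1.1) ≫ DerivedCategory.Q.map p.2.2) fun f => ?_
      obtain ⟨X', h1, h2, s, hs, g, rfl⟩ :=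
        DerivedCategory.right_fac_of_isStrictlyLE_of_isStrictlyGE (min a₁ a₂) b₁ f
      let c : S := ⟨code e he X', X', min a₁ a₂, b₁, h1, h2, rfl⟩
      let φ : R c ≅ X' := isoOfCode e he (hR c)
      refine ⟨⟨c, ⟨φ.hom ≫ s, by rw [Functor.map_comp]; infer_instance⟩, φ.hom ≫ g⟩, ?_⟩
      simp [Functor.map_comp]
    refine Function.Injective.countable
      (f := fun f : K ⟶ L => iK.inv ≫ f.hom ≫ iL.hom) fun f g h => ?_
    exact ObjectProperty.hom_ext _ ((cancel_mono iL.hom).1 ((cancel_epi iK.inv).1 h))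
  · obtain ⟨en, hen⟩ : ∃ en : ℕ → Option S, Function.Surjective en := exists_surjective_nat _
    let toObj : Option S → DerivedCategory.Bounded A := fun o =>
      match o with
      | none => ⟨DerivedCategory.Q.obj ((CochainComplex.singleFunctor A 0).obj (0 : A)),
          bounded_Q_obj _ 0 0⟩
      | some c => ⟨DerivedCategory.Q.obj (R c),
          @bounded_Q_obj _ _ _ _ _ (lo c) (hi c) (hlo c) (hhi c)⟩
    refine ⟨fun n => toObj (en n), fun K => ?_⟩
    obtain ⟨K₀, a, b, h1, h2, ⟨iK⟩⟩ := exists_model K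
    let c : S := ⟨code e he K₀, K₀, a, b, h1, h2, rfl⟩
    obtain ⟨n, hn⟩ := hen (some c)
    refine ⟨n, ⟨?_⟩⟩
    show K ≅ toObj (en n)
    rw [hn]
    exact ObjectProperty.isoMk _ (iK ≪≫ DerivedCategory.Q.mapIso (isoOfCode e he (hR c)).symm)

end Groth.Agent.S6713
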