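import Groth.Statements.S6718
import Groth.Agent.Lib.Serre25.Basic
-- import your own Groth.Agent.* helpers here

set_option autoImplicit false
universe w v u
open CategoryTheory
open DEquiv

namespace Groth.Agent.S6718

open CategoryTheory.Limits CategoryTheory.Pretriangulated in
/-- Let k be a field and T a k-linear (pre)triangulated category with dim_k Hom(X, Y) < ∞ for all X, Y.
The following are equivalent: (1) there are a k-linear equivalence S : T ⥤ T and k-linear
isomorphisms c_{X,Y} : Hom(X, Y) ≅ Hom(Y, S X)^∨ natural in X and in Y; (2) for every object X the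
functor Y ↦ Hom(X, Y)^∨ is representable and the functor Y ↦ Hom(Y, X)^∨ is corepresentable, by
k-linear isomorphisms natural in Y. (Here V^∨ is the k-linear dual.) -/
theorem result
    {k : Type w} [Field k]
    {T : Type u} [Category.{v} T] [Preadditive T] [Linear k T] [HasZeroObject T] [HasShift T ℤ]
    [∀ n : ℤ, (shiftFunctor T n).Additive] [∀ n : ℤ, (shiftFunctor T n).Linear k] [Pretriangulated T]
    [∀ X Y : T, Module.Finite k (X ⟶ Y)] :
    (∃ (S : T ≌ T) (_ : S.functor.Additive) (_ : S.functor.Linear k)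
        (c : ∀ X Y : T, (X ⟶ Y) ≃ₗ[k] Module.Dual k (Y ⟶ S.functor.obj X)),
        (∀ (X Y Y' : T) (f : X ⟶ Y) (g : Y ⟶ Y'),
          c X Y' (f ≫ g) = (c X Y f) ∘ₗ Linear.leftComp k (S.functor.obj X) g) ∧
        (∀ (X' X Y : T) (a : X' ⟶ X) (f : X ⟶ Y),
          c X' Y (a ≫ f) = (c X Y f) ∘ₗ Linear.rightComp k Y (S.functor.map a))) ↔
    ((∀ X : T, ∃ (SX : T) (e : ∀ Y : T, (Y ⟶ SX) ≃ₗ[k] Module.Dual k (X ⟶ Y)),
        ∀ (Y Y' : T) (g : Y' ⟶ Y) (f : Y ⟶ SX),
          e Y' (g ≫ f) = (e Y f) ∘ₗ Linear.rightComp k X g) ∧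
      (∀ X : T, ∃ (RX : T) (e : ∀ Y : T, (RX ⟶ Y) ≃ₗ[k] Module.Dual k (Y ⟶ X)),
        ∀ (Y Y' : T) (g : Y ⟶ Y') (f : RX ⟶ Y),
          e Y' (f ≫ g) = (e Y f) ∘ₗ Linear.leftComp k X g)) := by
  constructor
  · rintro ⟨S, _, _, c, hc₁, hc₂⟩
    let s := GrothLib.Serre25.serOf S.functor.obj c hc₁
    refine ⟨fun X => ⟨S.functor.obj X, fun Y => LinearEquiv.ofBijective ((s X).P Y).flip
      ⟨(s X).flip_injective Y, fun φ => ?_⟩, fun Y Y' g f => ?_⟩, fun X => ?_⟩
    · obtain ⟨g, hg⟩ := (s X).exists_right φ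
      exact ⟨g, LinearMap.ext hg⟩
    · refine LinearMap.ext fun h => ?_
      change (s X).tr (h ≫ g ≫ f) = (s X).tr ((h ≫ g) ≫ f)
      rw [Category.assoc]
    · let i : ∀ Y : T, (Y ⟶ S.functor.obj (S.inverse.obj X)) ≃ₗ[k] (Y ⟶ X) := fun Y =>
        Linear.homCongr k (Iso.refl Y) (S.counitIso.app X)
      refine ⟨S.inverse.obj X, fun Y => (c (S.inverse.obj X) Y).trans (i Y).symm.dualMap, fun Y Y' g f => ?_⟩
      refine LinearMap.ext fun h => ?_
      change c (S.inverse.obj X) Y' (f ≫ g) ((i Y').symm h) = c (S.inverse.obj X) Y f ((i Y).symm (g ≫ h))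
      rw [hc₁, LinearMap.comp_apply]
      refine congrArg (c (S.inverse.obj X) Y f) ?_
      simp [i, Linear.homCongr_symm_apply, Linear.leftComp]
  · rintro ⟨h₁, h₂⟩
    choose SF e he using h₁
    let s : ∀ X, GrothLib.Serre25.Ser k X (SF X) := fun X =>
      { tr :=
          ((Module.Dual.eval k (X ⟶ X) (𝟙 X)) ∘ₗ (e X X).toLinearMap)
        injL := fun {Y} f hf => (Module.forall_dual_apply_eq_zero_iff k f).1 fun φ => by
          obtain ⟨g, rfl⟩ := (e X Y).surjective φ
          have h := LinearMap.congr_fun (he X Y X f g) (𝟙 X)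
          simp only [LinearMap.comp_apply, Linear.rightComp_apply, Category.id_comp] at h
          exact h.symm.trans (hf g)
        injR := fun {Y} g hg => (e X Y).injective ((LinearMap.ext fun f => by
          have h := LinearMap.congr_fun (he X Y X f g) (𝟙 X)
          simp only [LinearMap.comp_apply, Linear.rightComp_apply, Category.id_comp] at h
          exact h.symm.trans (hg f) : e X Y g = 0).trans (map_zero _).symm) }
    let F := GrothLib.Serre25.Ser.functor s
    have : F.Faithful := ⟨fun {X Y a b} h => ((s Y).map_bijective (s X)).1 h⟩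
    have : F.Full := ⟨fun {X Y} g => ((s Y).map_bijective (s X)).2 g⟩
    have : F.EssSurj := ⟨fun X => by
      obtain ⟨RX, eR, heR⟩ := h₂ X
      have hn : ∀ (Y : T) (f : RX ⟶ Y) (g : Y ⟶ X), eR Y f g = eR RX (𝟙 RX) (f ≫ g) := fun Y f g => by
        conv_lhs => rw [← Category.id_comp f, heR RX Y f (𝟙 RX)]
        rfl
      let t : GrothLib.Serre25.Ser k RX X :=
        { tr := eR RX (𝟙 RX)
          injL := fun {Y} f hf => (eR Y).injective ((LinearMap.ext fun g => (hn Y f g).trans (hf g) :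
            eR Y f = 0).trans (map_zero _).symm)
          injR := fun {Y} g hg => (Module.forall_dual_apply_eq_zero_iff k g).1 fun φ => by
            obtain ⟨f, rfl⟩ := (eR Y).surjective φ
            exact (hn Y f g).trans (hg f) }
      exact ⟨RX, ⟨(s RX).iso t⟩⟩⟩
    have : F.IsEquivalence := { }
    refine ⟨F.asEquivalence, inferInstanceAs F.Additive, inferInstanceAs (F.Linear k),
      fun X Y => LinearEquiv.ofBijective ((s X).P Y) ((s X).P_bijective Y), fun X Y Y' f g => ?_, fun X' X Y a f => ?_⟩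
    · refine LinearMap.ext fun h => ?_
      change (s X).tr ((f ≫ g) ≫ h) = (s X).tr (f ≫ g ≫ h)
      rw [Category.assoc]
    · refine LinearMap.ext fun g => ?_
      change (s X').tr ((a ≫ f) ≫ g) = (s X).tr (f ≫ g ≫ GrothLib.Serre25.Ser.map (s X') (s X) a)
      rw [← Category.assoc f, (s X).map_spec, Category.assoc]
      rfl

end Groth.Agent.S6718
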