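import Groth.Statements.S6720
import Groth.Agent.Lib.PointSky29.Main

set_option autoImplicit false
universe u
open CategoryTheory AlgebraicGeometry
attribute [local instance] HasDerivedCategory.standard
open DEquiv

namespace Groth.Agent.S6720

/-- Let X be a scheme of finite type over a field k which is regular, x ∈ X a closed point, O_x the
skyscraper sheaf at x with value κ(x), and K a perfect object of D(O_X). If Hom(O_x, K⟦i⟧) = 0 for
all i ∈ ℤ, then K is zero on an open neighbourhood of x; likewise if Hom(K, O_x⟦i⟧) = 0 for all i ∈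
ℤ. (K zero on U is expressed as: no cohomology sheaf of K has a point of U in its support.) -/
theorem result
    (k : Type u) [Field k] (X : Scheme.{u}) [X.Over (Spec (.of k))]
    [LocallyOfFiniteType (X ↘ Spec (.of k))] [CompactSpace X]
    (hreg : Models.IsRegularScheme X) (x : X) (hx : IsClosed ({x} : Set X))
    (K : DCoh.D X) (hK : DCoh.IsPerfect K) :
    ((∀ (i : ℤ) (φ : DCoh.inD X ((Coh.push (X.fromSpecResidueField x)).obj (Coh.structureModule _)) ⟶ (shiftFunctor (DCoh.D X) i).obj K), φ = 0) →
      ∃ U : X.Opens, x ∈ U ∧ ∀ (i : ℤ) (y : X), y ∈ U → y ∉ CohB1.support (DCoh.HD K i)) ∧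
    ((∀ (i : ℤ) (φ : K ⟶ (shiftFunctor (DCoh.D X) i).obj (DCoh.inD X ((Coh.push (X.fromSpecResidueField x)).obj (Coh.structureModule _)))), φ = 0) →
      ∃ U : X.Opens, x ∈ U ∧ ∀ (i : ℤ) (y : X), y ∈ U → y ∉ CohB1.support (DCoh.HD K i)) := by
  haveI := LocallyOfFiniteType.isLocallyNoetherian (X ↘ Spec (.of k))
  haveI : AlgebraicGeometry.IsNoetherian X := {}
  obtain ⟨hcoh, a, b, ha, hb⟩ := GrothLib.OX.isCohD_and_bounded_of_isPerfect hK
  exact ⟨GrothLib.PointSky29.zero_near_of_left_orthogonal x hx K hcoh a b,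
    GrothLib.PointSky29.zero_near_of_right_orthogonal x hx K hcoh a b⟩

end Groth.Agent.S6720
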