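import Groth.Statements.S6721
import Groth.Agent.Lib.ExtVanishReg20.Main
import Groth.Agent.Lib.DerCat.Truncation
import Groth.Agent.Lib.OX.HomVanish

set_option autoImplicit false
universe u
open CategoryTheory AlgebraicGeometry
attribute [local instance] HasDerivedCategory.standard
open DEquiv

namespace Groth.Agent.S6721

/-- Let X be a Noetherian scheme all of whose local rings are regular and whose underlying space has
Krull dimension d. Let K be a bounded object of D(O_X) with coherent cohomology sheaves and a ∈ ℤ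
with H^i(K) = 0 for a < i < a + d. Then the connecting morphism τ_{≥ a+d} K ⟶ (τ_{< a+d} K)⟦1⟧ of
the truncation triangle vanishes (note τ_{< a+d} K = τ_{≤ a} K here), so K decomposes as τ_{≤ a} K ⊕
τ_{≥ a+d} K. -/
theorem result
    (X : Scheme.{u}) [IsNoetherian X] (hreg : Models.IsRegularScheme X) (d : ℕ)
    (hd : topologicalKrullDim X = d) (K : DCoh.D X) (hK : DCoh.IsCohD K) (lo hi : ℤ)
    [DerivedCategory.IsGE K lo] [DerivedCategory.IsLE K hi] (a : ℤ)
    (hgap : ∀ i : ℤ, a < i → i < a + d → Limits.IsZero (DCoh.HD K i)) :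
    (DerivedCategory.TStructure.t.truncGEδLT (a + d)).app K = 0 := by
  let L₀ := (DerivedCategory.TStructure.t.truncLT (a + d)).obj K
  haveI hL₀ : L₀.IsLE a := by
    rw [DerivedCategory.isLE_iff]
    intro i hi
    rcases lt_or_ge i (a + d) with h | h
    · haveI := GrothLib.DerTrunc.isIso_homology_truncLTι K (a + d) i h
      exact (hgap i hi h).of_iso (asIso ((DerivedCategory.homologyFunctor X.Modules i).map
        ((DerivedCategory.TStructure.t.truncLTι (a + d)).app K)))
    · exact GrothLib.DerTrunc.isZero_homology_truncLT K (a + d) i h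
  haveI hL₀' : L₀.IsGE lo := inferInstanceAs (DerivedCategory.TStructure.t.IsGE L₀ lo)
  haveI : DerivedCategory.IsLE (L₀⟦(1 : ℤ)⟧) (a - 1) :=
    DerivedCategory.TStructure.t.isLE_shift L₀ a 1 (a - 1) (by omega)
  haveI : DerivedCategory.IsGE (L₀⟦(1 : ℤ)⟧) (lo - 1) :=
    DerivedCategory.TStructure.t.isGE_shift L₀ lo 1 (lo - 1) (by omega)
  haveI : DerivedCategory.IsGE ((DerivedCategory.TStructure.t.truncGE (a + d)).obj K) (a + d) :=
    inferInstanceAs (DerivedCategory.TStructure.t.IsGE _ (a + d))
  haveI : DerivedCategory.IsLE ((DerivedCategory.TStructure.t.truncGE (a + d)).obj K) hi :=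
    inferInstanceAs (DerivedCategory.TStructure.t.IsLE ((DerivedCategory.TStructure.t.truncGE (a + d)).obj K) hi)
  have hL₀q : DCoh.IsQCohD L₀ := fun i => by
    rcases lt_or_ge i (a + d) with h | h
    · haveI := GrothLib.DerTrunc.isIso_homology_truncLTι K (a + d) i h
      exact GrothLib.OX.isQCoh_of_iso (asIso ((DerivedCategory.homologyFunctor X.Modules i).map
        ((DerivedCategory.TStructure.t.truncLTι (a + d)).app K))).symm (hK i).1
    · exact GrothLib.OX.isQCoh_of_isZero (GrothLib.DerTrunc.isZero_homology_truncLT K (a + d) i h)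
  have hL : DCoh.IsQCohD (L₀⟦(1 : ℤ)⟧) := fun i =>
    GrothLib.OX.isQCoh_of_iso (GrothLib.OX.HDShiftIso L₀ 1 i (1 + i) rfl).symm (hL₀q (1 + i))
  exact GrothLib.ExtVanishReg20.hom_eq_zero hreg d hd.le _ _ a hi (lo - 1) hL _

end Groth.Agent.S6721
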