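import Groth.Statements.S6724
import Groth.Agent.Lib.GabRos20.Reconstruct
import Groth.Agent.Lib.FunMor20.CohExact

set_option autoImplicit false
set_option maxHeartbeats 1000000
set_option linter.style.haveILetI false
set_option backward.isDefEq.respectTransparency.types false
universe u
open CategoryTheory AlgebraicGeometry
open FunMor

namespace Groth.Agent.S6724

/-- Let X and Y be Noetherian schemes and F : Coh(O_X) ⥤ Coh(O_Y) an equivalence of categories. Then
there exist an isomorphism of schemes f : Y ≅ X and an invertible O_Y-module L such that F(G) ≅ f^*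
G ⊗ L functorially in the coherent O_X-module G (an isomorphism between F followed by the inclusion
into O_Y-modules and the composite of the inclusion, f^* and - ⊗ L). -/
theorem result
    (X Y : Scheme.{u}) [IsNoetherian X] [IsNoetherian Y]
    (F : ObjectProperty.FullSubcategory (fun M : X.Modules => Coh.IsCoh M) ≌ ObjectProperty.FullSubcategory (fun M : Y.Modules => Coh.IsCoh M)) :
    ∃ (f : Y ≅ X) (L : Y.Modules), PicF.IsInvertible L ∧
      Nonempty (F.functor ⋙ ObjectProperty.ι (fun M : Y.Modules => Coh.IsCoh M) ≅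
        ObjectProperty.ι (fun M : X.Modules => Coh.IsCoh M) ⋙ Scheme.Modules.pullback f.hom ⋙ DCoh.tensorRightMod L) := by
  let KX := GrothLib.FunMor20.cohι X
  let KY := GrothLib.FunMor20.cohι Y
  obtain ⟨E, hE, ⟨e⟩⟩ := GrothLib.FunMor20.Ind.exists_extension.{u} KX (F.functor ⋙ KY)
  obtain ⟨E', hE', ⟨e'⟩⟩ := GrothLib.FunMor20.Ind.exists_extension.{u} KY (F.inverse ⋙ KX)
  haveI := hE
  haveI := hE'
  haveI : Limits.PreservesFilteredColimitsOfSize.{u, u} (E ⋙ E') := ⟨fun J _ _ => inferInstance⟩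
  haveI : Limits.PreservesFilteredColimitsOfSize.{u, u} (E' ⋙ E) := ⟨fun J _ _ => inferInstance⟩
  obtain ⟨u₁⟩ := GrothLib.FunMor20.Ind.extension_unique.{u} KX (𝟭 _) (E ⋙ E')
    (KX.rightUnitor ≪≫ KX.leftUnitor.symm ≪≫ Functor.isoWhiskerRight F.unitIso KX ≪≫
      Functor.associator _ _ _ ≪≫ Functor.isoWhiskerLeft F.functor e'.symm ≪≫
      (Functor.associator _ _ _).symm ≪≫ Functor.isoWhiskerRight e.symm E' ≪≫ Functor.associator _ _ _)
  obtain ⟨u₂⟩ := GrothLib.FunMor20.Ind.extension_unique.{u} KY (E' ⋙ E) (𝟭 _)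
    ((Functor.associator _ _ _).symm ≪≫ Functor.isoWhiskerRight e' E ≪≫ Functor.associator _ _ _ ≪≫
      Functor.isoWhiskerLeft F.inverse e ≪≫ (Functor.associator _ _ _).symm ≪≫
      Functor.isoWhiskerRight F.counitIso KY ≪≫ KY.leftUnitor ≪≫ KY.rightUnitor.symm)
  obtain ⟨f, L, hL, ⟨i⟩⟩ := GrothLib.GabRos20.reconstruct X Y (CategoryTheory.Equivalence.mk E E' u₁ u₂)
  exact ⟨f, L, hL, ⟨Functor.isoWhiskerRight e.symm (QCohCat.isQCoh Y).ι ≪≫ Functor.isoWhiskerLeft KX i⟩⟩

end Groth.Agent.S6724
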