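import Groth.Statements.S6725
import Mathlib.CategoryTheory.Preadditive.Biproducts
import Mathlib.RingTheory.Noetherian.Basic
import Mathlib.LinearAlgebra.Isomorphisms
import Mathlib.RingTheory.Finiteness.Prod
import Mathlib.CategoryTheory.FinCategory.Basic
import Mathlib.LinearAlgebra.StdBasis
-- import your own Groth.Agent.* helpers here

set_option autoImplicit false
universe u v' u'
open CategoryTheory CategoryTheory.Limits
open FunMor

namespace Groth.Agent.S6725

universe w

section

variable {A : Type u} [CommRing A] {B : Type u'} [Category.{v'} B] [Preadditive B] {K : B}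

/-- Maps out of `K` as a module through `κ`. -/
def HomK (_κ : A →+* End K) (T : B) : Type v' := K ⟶ T

variable (κ : A →+* End K)

instance (T : B) : AddCommGroup (HomK κ T) := inferInstanceAs (AddCommGroup (K ⟶ T))

theorem kap_mul (a b : A) : κ (a * b) = κ a ≫ κ b := by
  rw [mul_comm, map_mul]
  rfl

instance (T : B) : Module A (HomK κ T) where
  smul a f := (κ a ≫ f : K ⟶ T)
  one_smul f := by
    change κ 1 ≫ (f : K ⟶ T) = f
    rw [map_one]
    exact Category.id_comp _
  mul_smul a b f := by
    change κ (a * b) ≫ (f : K ⟶ T) = κ a ≫ κ b ≫ f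
    rw [kap_mul, Category.assoc]
  smul_zero a := Limits.comp_zero
  smul_add a f g := Preadditive.comp_add _ _ _ _ _ _
  add_smul a b f := by
    change κ (a + b) ≫ (f : K ⟶ T) = κ a ≫ f + κ b ≫ f
    rw [map_add]
    exact Preadditive.add_comp _ _ _ _ _ _
  zero_smul f := by
    change κ 0 ≫ (f : K ⟶ T) = 0
    rw [map_zero]
    exact Limits.zero_comp

variable {κ}

/-- Postcomposition. -/
def post {S T : B} (h : S ⟶ T) : HomK κ S →ₗ[A] HomK κ T where
  toFun f := (show K ⟶ S from f) ≫ h
  map_add' f g := Preadditive.add_comp _ _ _ (show K ⟶ S from f) g h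
  map_smul' a f := Category.assoc (κ a) (show K ⟶ S from f) h

theorem post_comp {R S T : B} (g : R ⟶ S) (h : S ⟶ T) (f : HomK κ R) :
    post (κ := κ) (g ≫ h) f = post h (post g f) := (Category.assoc _ _ _).symm

theorem post_id {R : B} (f : HomK κ R) : post (κ := κ) (𝟙 R) f = f := Category.comp_id _

theorem post_add {S T : B} (g h : S ⟶ T) (f : HomK κ S) :
    post (κ := κ) (g + h) f = post g f + post h f := Preadditive.comp_add _ _ _ _ _ _

variable (κ) in
/-- An object corepresenting `T ↦ (M →ₗ HomK κ T)`. -/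
structure Rep (M : Type u) [AddCommGroup M] [Module A M] where
  C : B
  η : M →ₗ[A] HomK κ C
  exists_desc : ∀ {T : B} (β : M →ₗ[A] HomK κ T), ∃ h : C ⟶ T, ∀ m, post h (η m) = β m
  ext : ∀ {T : B} (g h : C ⟶ T), (∀ m, post g (η m) = post h (η m)) → g = h

theorem exists_rep [HasFiniteBiproducts B] [HasCokernels B] (M : Type u) [AddCommGroup M] [Module A M]
    [Module.FinitePresentation A M] : Nonempty (Rep κ M) := by
  classical
  obtain ⟨n, m, f, g, hf, hfg⟩ := Module.FinitePresentation.exists_fin' A M
  let d : (⨁ fun _ : Fin m => K) ⟶ (⨁ fun _ : Fin n => K) :=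
    biproduct.desc fun i => biproduct.lift fun j => κ (g (Pi.single i 1) j)
  let e : Fin n → HomK κ (cokernel d) := fun j => biproduct.ι (fun _ : Fin n => K) j ≫ cokernel.π d
  let θ : (Fin n → A) →ₗ[A] HomK κ (cokernel d) := Fintype.linearCombination A e
  have hθ : ∀ i, θ (g (Pi.single i 1)) = 0 := fun i => by
    have h2 : biproduct.ι _ i ≫ d ≫ cokernel.π d = 0 := by rw [cokernel.condition, comp_zero]
    rw [biproduct.ι_desc_assoc, biproduct.lift_eq, Preadditive.sum_comp] at h2
    refine (Fintype.linearCombination_apply A e _).trans (Eq.trans ?_ h2)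
    refine Finset.sum_congr rfl fun j _ => ?_
    exact (Category.assoc _ _ _).symm
  have hker : LinearMap.ker f ≤ LinearMap.ker θ := by
    intro v hv
    obtain ⟨w, rfl⟩ := (hfg v).1 hv
    exact LinearMap.congr_fun (LinearMap.pi_ext' (fun i => LinearMap.ext_ring (by simpa using hθ i)) :
      θ ∘ₗ g = 0) w
  let η : M →ₗ[A] HomK κ (cokernel d) :=
    (LinearMap.ker f).liftQ θ hker ∘ₗ (f.quotKerEquivOfSurjective hf).symm.toLinearMap
  have hη : ∀ v, η (f v) = θ v := fun v => by
    have hs : (f.quotKerEquivOfSurjective hf).symm (f v) = Submodule.Quotient.mk v := by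
      rw [LinearEquiv.symm_apply_eq]
      rfl
    change (LinearMap.ker f).liftQ θ hker _ = _
    rw [LinearEquiv.coe_coe, hs]
    rfl
  have hθe : ∀ j, θ (Pi.single j 1) = e j := fun j => by
    rw [Fintype.linearCombination_apply_single, one_smul]
  refine ⟨⟨cokernel d, η, fun {T} β => ?_, fun {T} g' h' hgh => ?_⟩⟩
  · let t : Fin n → (K ⟶ T) := fun j => β (f (Pi.single j 1))
    have hd : d ≫ biproduct.desc t = 0 := by
      refine biproduct.hom_ext' _ _ fun i => ?_
      rw [biproduct.ι_desc_assoc, biproduct.lift_desc, comp_zero]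
      have h3 : β (f (g (Pi.single i 1))) = 0 := by
        rw [(hfg _).2 ⟨_, rfl⟩, map_zero]
      conv_lhs at h3 => rw [pi_eq_sum_univ' (g (Pi.single i 1)), map_sum, map_sum]
      refine Eq.trans (Finset.sum_congr rfl fun j _ => ?_) h3
      rw [map_smul, map_smul]
      rfl
    refine ⟨cokernel.desc d _ hd, fun x => ?_⟩
    obtain ⟨v, rfl⟩ := hf x
    rw [hη]
    refine LinearMap.congr_fun (LinearMap.pi_ext' (fun j => LinearMap.ext_ring ?_) :
      post (cokernel.desc d _ hd) ∘ₗ θ = β ∘ₗ f) v
    simp only [LinearMap.comp_apply, LinearMap.coe_single, hθe]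
    refine (Category.assoc _ _ _).trans ?_
    rw [cokernel.π_desc, biproduct.ι_desc]
  · refine coequalizer.hom_ext (biproduct.hom_ext' _ _ fun j => ?_)
    have := hgh (f (Pi.single j 1))
    rw [hη, hθe] at this
    rw [← Category.assoc, ← Category.assoc]
    exact this

end

section

variable {A : Type u} [CommRing A] {J : Type} [SmallCategory J] [FinCategory J]

/-- Finitely presented modules have a finitely presented colimit cocone in all modules. -/
theorem exists_finitePresentation_colimit (D : J ⥤ ModuleCat.{u} A) [∀ j, Module.FinitePresentation A (D.obj j)] :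
    ∃ (Q : ModuleCat.{u} A) (_ : Module.FinitePresentation A Q) (q : ∀ j, D.obj j ⟶ Q),
      (∀ {i j : J} (f : i ⟶ j), D.map f ≫ q j = q i) ∧
      (⨆ j, LinearMap.range (q j).hom) = ⊤ ∧
      ∀ {T : Type w} [AddCommGroup T] [Module A T] (β : ∀ j, D.obj j →ₗ[A] T),
        (∀ {i j : J} (f : i ⟶ j) x, β j (D.map f x) = β i x) → ∃ b : Q →ₗ[A] T, ∀ j x, b (q j x) = β j x := by
  classical
  let S : Submodule A (∀ j, D.obj j) := ⨆ a : (Σ i, Σ j, (i ⟶ j)), LinearMap.range
    ((LinearMap.single A (fun j => D.obj j) a.2.1).comp (D.map a.2.2).hom -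
      LinearMap.single A (fun j => D.obj j) a.1)
  have hS : S.FG := by
    have h : ∀ a : (Σ i, Σ j, (i ⟶ j)), (LinearMap.range
      ((LinearMap.single A (fun j => D.obj j) a.2.1).comp (D.map a.2.2).hom -
        LinearMap.single A (fun j => D.obj j) a.1)).FG := fun a => by
      rw [← Submodule.map_top]
      exact Submodule.FG.map _ Module.Finite.fg_top
    exact Submodule.fg_iSup _ h
  have hfp : Module.FinitePresentation A ((∀ j, D.obj j) ⧸ S) :=
    Module.finitePresentation_of_surjective S.mkQ S.mkQ_surjective (by rwa [Submodule.ker_mkQ])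
  refine ⟨ModuleCat.of A ((∀ j, D.obj j) ⧸ S), hfp,
    fun j => ModuleCat.ofHom (S.mkQ.comp (LinearMap.single A (fun j => D.obj j) j)), ?_, ?_, ?_⟩
  · intro i j f
    refine ModuleCat.hom_ext (LinearMap.ext fun x => ?_)
    exact (Submodule.Quotient.eq S).2 (le_iSup
      (fun a : (Σ i, Σ j, (i ⟶ j)) => LinearMap.range
        ((LinearMap.single A (fun j => D.obj j) a.2.1).comp (D.map a.2.2).hom -
          LinearMap.single A (fun j => D.obj j) a.1)) ⟨i, j, f⟩ ⟨x, rfl⟩)
  · refine eq_top_iff.2 fun y _ => ?_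
    obtain ⟨v, rfl⟩ := S.mkQ_surjective y
    rw [← Finset.univ_sum_single v, map_sum]
    exact Submodule.sum_mem _ fun j _ => Submodule.mem_iSup_of_mem j ⟨v j, rfl⟩
  · intro T _ _ β hβ
    refine ⟨S.liftQ (LinearMap.lsum A (fun j => D.obj j) ℕ β) (iSup_le ?_), fun j x => ?_⟩
    · rintro ⟨i, j, f⟩ _ ⟨x, rfl⟩
      rw [LinearMap.mem_ker, LinearMap.sub_apply, map_sub, LinearMap.comp_apply]
      simp only [LinearMap.coe_single, LinearMap.lsum_piSingle]
      exact sub_eq_zero.2 (hβ f x)
    · simp only [Submodule.liftQ_apply, Submodule.mkQ_apply, ModuleCat.hom_ofHom, LinearMap.comp_apply]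
      change (LinearMap.lsum A (fun j => D.obj j) ℕ β) (LinearMap.single A (fun j => D.obj j) j x) = _
      rw [LinearMap.lsum_apply, LinearMap.sum_apply, Finset.sum_eq_single j]
      · simp
      · intro b _ hb; simp [hb]
      · simp

end

/-- Essential surjectivity of the functor F ↦ (F(A), induced A-action): let A be a commutative ring and
B an additive category with cokernels. For every object K of B and ring map κ : A → End(K) there
exist a right exact functor F from the category of finitely presented A-modules to B and an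
isomorphism F(A) ≅ K carrying F(multiplication by a) to κ(a) for every a ∈ A. -/
theorem result
    (A : Type u) [CommRing A] {B : Type u'} [Category.{v'} B] [Preadditive B] [HasFiniteBiproducts B]
    [HasCokernels B] (K : B) (κ : A →+* End K) :
    ∃ (F : (ObjectProperty.FullSubcategory (fun M : ModuleCat.{u} A => Module.FinitePresentation A M)) ⥤ B) (_ : PreservesFiniteColimits F)
      (e : F.obj (⟨ModuleCat.of A A, inferInstance⟩ : (ObjectProperty.FullSubcategory (fun M : ModuleCat.{u} A => Module.FinitePresentation A M))) ≅ K),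
      ∀ a : A, F.map (ObjectProperty.homMk (ModuleCat.ofHom (LinearMap.lsmul A A a)) : (⟨ModuleCat.of A A, inferInstance⟩ : (ObjectProperty.FullSubcategory (fun M : ModuleCat.{u} A => Module.FinitePresentation A M))) ⟶ (⟨ModuleCat.of A A, inferInstance⟩ : (ObjectProperty.FullSubcategory (fun M : ModuleCat.{u} A => Module.FinitePresentation A M)))) ≫ e.hom = e.hom ≫ κ a := by
  classical
  let P : ObjectProperty (ModuleCat.{u} A) := fun M => Module.FinitePresentation A M
  have hrep : ∀ M : P.FullSubcategory, Nonempty (Rep κ M.obj) := fun M =>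
    haveI : Module.FinitePresentation A M.obj := M.property
    exists_rep M.obj
  let r : ∀ M : P.FullSubcategory, Rep κ M.obj := fun M => (hrep M).some
  let dsc : ∀ (M : P.FullSubcategory) {T : B}, (M.obj →ₗ[A] HomK κ T) → ((r M).C ⟶ T) :=
    fun M {T} β => Classical.choose ((r M).exists_desc β)
  have hdsc : ∀ (M : P.FullSubcategory) {T : B} (β : M.obj →ₗ[A] HomK κ T) m,
      post (dsc M β) ((r M).η m) = β m := fun M {T} β => Classical.choose_spec ((r M).exists_desc β)
  let F : P.FullSubcategory ⥤ B :=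
    { obj := fun M => (r M).C
      map := fun {M N} φ => dsc M ((r N).η ∘ₗ φ.hom.hom)
      map_id := fun M => (r M).ext _ _ fun m => by rw [hdsc, post_id]; rfl
      map_comp := fun {M N O} φ ψ => (r M).ext _ _ fun m => by
        rw [hdsc, post_comp, hdsc, LinearMap.comp_apply (r N).η, hdsc]
        rfl }
  have hF : ∀ {M N : P.FullSubcategory} (φ : M ⟶ N) m,
      post (F.map φ) ((r M).η m) = (r N).η (φ.hom.hom m) := fun φ m => hdsc _ _ _
  have hPF : PreservesFiniteColimits F := by
    refine ⟨fun J _ _ => ⟨fun {D} => ⟨fun {c} hc => ?_⟩⟩⟩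
    haveI : ∀ j, Module.FinitePresentation A ((D ⋙ P.ι).obj j) := fun j => (D.obj j).property
    obtain ⟨Q, hQ, q, hq, hgen, hdescQ⟩ := exists_finitePresentation_colimit.{u, max u v'} (D ⋙ P.ι)
    let Q' : P.FullSubcategory := ⟨Q, hQ⟩
    let cQ : Cocone D :=
      { pt := Q'
        ι :=
          { app := fun j => ObjectProperty.homMk (q j)
            naturality := fun i j f => ObjectProperty.hom_ext _ ((hq f).trans (Category.comp_id _).symm) } }
    let t : c.pt ⟶ Q' := hc.desc cQ
    obtain ⟨b, hb⟩ := hdescQ (T := ULift.{v'} c.pt.obj) (fun j => ULift.moduleEquiv.symm.toLinearMap ∘ₗ (c.ι.app j).hom.hom)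
      (fun {i j} f x => congrArg ULift.up (ConcreteCategory.congr_hom (congrArg InducedCategory.Hom.hom (c.w f)) x))
    have hsurj : ∀ y : c.pt.obj, y ∈ ⨆ j, LinearMap.range (c.ι.app j).hom.hom := by
      have hbt : ∀ y : c.pt.obj, ULift.down (b (t.hom.hom y)) = y := by
        let ρ : Q' ⟶ c.pt := ObjectProperty.homMk (ModuleCat.ofHom (ULift.moduleEquiv.toLinearMap ∘ₗ b))
        have : t ≫ ρ = 𝟙 c.pt := hc.hom_ext fun j => by
          rw [← Category.assoc, hc.fac, Category.comp_id]
          exact ObjectProperty.hom_ext _ (ModuleCat.hom_ext (LinearMap.ext fun x => congrArg ULift.down (hb j x)))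
        intro y
        exact ConcreteCategory.congr_hom (congrArg InducedCategory.Hom.hom this) y
      intro y
      have hle : ⊤ ≤ (⨆ j, LinearMap.range (c.ι.app j).hom.hom).comap (ULift.moduleEquiv.toLinearMap ∘ₗ b) := by
        rw [← hgen]
        refine iSup_le fun j => ?_
        rintro _ ⟨x, rfl⟩
        refine Submodule.mem_iSup_of_mem j ⟨x, ?_⟩
        exact (congrArg ULift.down (hb j x)).symm
      have := hle (Submodule.mem_top (x := t.hom.hom y))
      rw [← hbt y]
      exact this
    have hβ : ∀ s : Cocone (D ⋙ F), ∃ β : c.pt.obj →ₗ[A] HomK κ s.pt,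
        ∀ j x, β ((c.ι.app j).hom.hom x) = post (s.ι.app j) ((r (D.obj j)).η x) := by
      intro s
      obtain ⟨bs, hbs⟩ := hdescQ (T := ULift.{u} (HomK κ s.pt))
        (fun j => ULift.moduleEquiv.symm.toLinearMap ∘ₗ post (s.ι.app j) ∘ₗ (r (D.obj j)).η)
        (fun {i j} f x => congrArg ULift.up (by
          change post (s.ι.app j) ((r (D.obj j)).η ((D.map f).hom.hom x)) = post (s.ι.app i) ((r (D.obj i)).η x)
          rw [← hF, ← post_comp]
          exact congrArg (fun h => post h ((r (D.obj i)).η x)) (s.w f)))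
      refine ⟨ULift.moduleEquiv.toLinearMap ∘ₗ bs ∘ₗ t.hom.hom, fun j x => ?_⟩
      have := ConcreteCategory.congr_hom (congrArg InducedCategory.Hom.hom (hc.fac cQ j)) x
      change ULift.down (bs (t.hom.hom ((c.ι.app j).hom.hom x))) = _
      exact (congrArg (fun z => ULift.down (bs z)) this).trans (congrArg ULift.down (hbs j x))
    choose β hβ using hβ
    refine ⟨{ desc := fun s => dsc c.pt (β s), fac := fun s j => ?_, uniq := fun s h hh => ?_ }⟩
    · refine (r (D.obj j)).ext _ _ fun x => ?_
      change post (F.map (c.ι.app j) ≫ dsc c.pt (β s)) _ = _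
      rw [post_comp, hF, hdsc, hβ]
    · refine (r c.pt).ext _ _ fun y => ?_
      rw [hdsc]
      have hle : (⨆ j, LinearMap.range (c.ι.app j).hom.hom) ≤
          LinearMap.eqLocus (post h ∘ₗ (r c.pt).η) (β s) := by
        refine iSup_le fun j => ?_
        rintro _ ⟨x, rfl⟩
        change post h ((r c.pt).η ((c.ι.app j).hom.hom x)) = β s _
        rw [hβ, ← hF, ← post_comp]
        exact congrArg (fun g => post g ((r (D.obj j)).η x)) (hh j)
      exact hle (hsurj y)
  let A1 : P.FullSubcategory := ⟨ModuleCat.of A A, inferInstanceAs (Module.FinitePresentation A A)⟩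
  let β₀ : A →ₗ[A] HomK κ K :=
    { toFun := fun a => κ a
      map_add' := fun a b => map_add κ a b
      map_smul' := fun a b => kap_mul κ a b }
  refine ⟨F, hPF, ⟨dsc A1 β₀, ((r A1).η (1 : A) : K ⟶ (r A1).C), ?_, ?_⟩, fun a => ?_⟩
  · refine (r A1).ext _ _ fun m => ?_
    rw [post_comp, hdsc, post_id]
    change κ m ≫ ((r A1).η (1 : A) : K ⟶ _) = _
    exact ((r A1).η.map_smul m (1 : A)).symm.trans (congrArg _ (mul_one m))
  · exact (hdsc A1 β₀ (1 : A)).trans (map_one κ)
  · refine (r A1).ext _ _ fun m => ?_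
    rw [post_comp, post_comp]
    erw [hF, hdsc, hdsc]
    change κ (a * m) = κ m ≫ κ a
    rw [← kap_mul, mul_comm]

end Groth.Agent.S6725
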