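import Groth.Statements.S6726
import Groth.Agent.Lib.FPMod20.Hom

set_option autoImplicit false
universe u v' u'
open CategoryTheory CategoryTheory.Limits
open FunMor

namespace Groth.Agent.S6726

/-- Full faithfulness of the functor F ↦ (F(A), induced A-action): let A be a commutative ring, B an
additive category with cokernels, and F, F' right exact functors from the category of finitely
presented A-modules to B. Then two natural transformations F ⟶ F' with the same component at A are
equal, and a morphism φ : F(A) ⟶ F'(A) is the component at A of a natural transformation as soon as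
it commutes with F and F' applied to multiplication by every a ∈ A. -/
theorem result
    (A : Type u) [CommRing A] {B : Type u'} [Category.{v'} B] [Preadditive B] [HasFiniteBiproducts B]
    [HasCokernels B] (F F' : (ObjectProperty.FullSubcategory (fun M : ModuleCat.{u} A => Module.FinitePresentation A M)) ⥤ B)
    [PreservesFiniteColimits F] [PreservesFiniteColimits F'] :
    (∀ t t' : F ⟶ F', t.app (⟨ModuleCat.of A A, inferInstance⟩ : (ObjectProperty.FullSubcategory (fun M : ModuleCat.{u} A => Module.FinitePresentation A M))) = t'.app (⟨ModuleCat.of A A, inferInstance⟩ : (ObjectProperty.FullSubcategory (fun M : ModuleCat.{u} A => Module.FinitePresentation A M))) → t = t') ∧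
    ∀ φ : F.obj (⟨ModuleCat.of A A, inferInstance⟩ : (ObjectProperty.FullSubcategory (fun M : ModuleCat.{u} A => Module.FinitePresentation A M))) ⟶ F'.obj (⟨ModuleCat.of A A, inferInstance⟩ : (ObjectProperty.FullSubcategory (fun M : ModuleCat.{u} A => Module.FinitePresentation A M))),
      (∀ a : A, F.map (ObjectProperty.homMk (ModuleCat.ofHom (LinearMap.lsmul A A a)) : (⟨ModuleCat.of A A, inferInstance⟩ : (ObjectProperty.FullSubcategory (fun M : ModuleCat.{u} A => Module.FinitePresentation A M))) ⟶ (⟨ModuleCat.of A A, inferInstance⟩ : (ObjectProperty.FullSubcategory (fun M : ModuleCat.{u} A => Module.FinitePresentation A M)))) ≫ φ = φ ≫ F'.map (ObjectProperty.homMk (ModuleCat.ofHom (LinearMap.lsmul A A a)) : (⟨ModuleCat.of A A, inferInstance⟩ : (ObjectProperty.FullSubcategory (fun M : ModuleCat.{u} A => Module.FinitePresentation A M))) ⟶ (⟨ModuleCat.of A A, inferInstance⟩ : (ObjectProperty.FullSubcategory (fun M : ModuleCat.{u} A => Module.FinitePresentation A M))))) →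
      ∃ t : F ⟶ F', t.app (⟨ModuleCat.of A A, inferInstance⟩ : (ObjectProperty.FullSubcategory (fun M : ModuleCat.{u} A => Module.FinitePresentation A M))) = φ := by
  exact ⟨fun t t' h => GrothLib.FPMod20.natTrans_ext F F' t t' h,
    fun φ hφ => GrothLib.FPMod20.exists_natTrans φ hφ⟩

end Groth.Agent.S6726
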