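import Groth.Statements.S6729
import Groth.Agent.Lib.SecExt20.BoxCover
import Groth.Agent.Lib.SecExt20.Resolution
import Groth.Agent.Lib.QCoh.Pieces
import Groth.Agent.Lib.QCoh.SupportExact

set_option autoImplicit false
set_option maxHeartbeats 1000000
set_option linter.style.haveILetI false
set_option backward.isDefEq.respectTransparency false
universe u
open CategoryTheory AlgebraicGeometry
open DEquiv

namespace Groth.Agent.S6729

open CategoryTheory.Limits in
/-- Let R be a Noetherian ring and X a separated scheme of finite type over R which has the resolution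
property. Let O_Δ = Δ_* O_X on X ×_R X, where Δ is the diagonal. Then there is a resolution ⋯ ⟶ E_1
⊠ G_1 ⟶ E_0 ⊠ G_0 ⟶ O_Δ ⟶ 0 with every E_i and G_i a finite locally free O_X-module: an ℕ-indexed
chain complex with a quasi-isomorphism to O_Δ in degree 0, each of whose terms is isomorphic to
pr_1^* E_i ⊗ pr_2^* G_i. -/
theorem result
    (R : Type u) [CommRing R] [IsNoetherianRing R] (X : Scheme.{u}) [X.Over (Spec (.of R))]
    [IsSeparated (X ↘ Spec (.of R))] [LocallyOfFiniteType (X ↘ Spec (.of R))] [CompactSpace X]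
    (hX : PerfAux.HasResolutionProperty X) :
    ∃ (C : ChainComplex (pullback (X ↘ Spec (.of R)) (X ↘ Spec (.of R))).Modules ℕ)
      (π : C ⟶ (ChainComplex.single₀ _).obj
        ((Coh.push (pullback.diagonal (X ↘ Spec (.of R)))).obj (Coh.structureModule X))),
      QuasiIso π ∧ ∀ n : ℕ, ∃ (E G : X.Modules), FlatMod.IsFinLocFree E ∧ FlatMod.IsFinLocFree G ∧
        Nonempty (C.X n ≅ CohB1.tensorMod
          ((Scheme.Modules.pullback (pullback.fst (X ↘ Spec (.of R)) (X ↘ Spec (.of R)))).obj E)
          ((Scheme.Modules.pullback (pullback.snd (X ↘ Spec (.of R)) (X ↘ Spec (.of R)))).obj G)) := by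
  let a := X ↘ Spec (.of R)
  haveI : QuasiSeparatedSpace X := quasiSeparatedSpace_of_quasiSeparated a
  haveI : IsLocallyNoetherian (pullback a a) :=
    LocallyOfFiniteType.isLocallyNoetherian (pullback.fst a a ≫ a)
  haveI : IsClosedImmersion (pullback.diagonal a) := IsSeparated.diagonal_isClosedImmersion
  obtain ⟨C, π, hπ, hB⟩ := GrothLib.SecExt20.exists_resolution (A := (pullback a a).Modules) Coh.IsCoh
    (fun N => ∃ (E G : X.Modules), FlatMod.IsFinLocFree E ∧ FlatMod.IsFinLocFree G ∧
      Nonempty (N ≅ CohB1.tensorMod ((Scheme.Modules.pullback (pullback.fst a a)).obj E)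
        ((Scheme.Modules.pullback (pullback.snd a a)).obj G)))
    (fun f hM hN => GrothLib.QCoh.isCoh_kernel f hM hN)
    (fun M hM => by
      obtain ⟨E, G, φ, hE, hG, hφ⟩ := GrothLib.SecExt20.exists_box_cover a a hX hX M hM.1 hM.2
      exact ⟨_, φ, GrothLib.Euler.isCoh_of_isFinLocFree (GrothLib.SecExt20.isFinLocFree_box _ _ hE hG),
        ⟨E, G, hE, hG, ⟨Iso.refl _⟩⟩, hφ⟩)
    ((Coh.push (pullback.diagonal a)).obj (Coh.structureModule X))
    (GrothLib.QCoh.pushUnit_isCoh (pullback.diagonal a))
  exact ⟨C, π, hπ, hB⟩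

end Groth.Agent.S6729
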