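import Groth.Statements.S6730
import Groth.Agent.Lib.FunMor20.CohExact

set_option autoImplicit false
set_option maxHeartbeats 1000000
set_option linter.style.haveILetI false
set_option backward.isDefEq.respectTransparency.types false
universe u
open CategoryTheory CategoryTheory.Limits AlgebraicGeometry
open FunMor

namespace Groth.Agent.S6730

/-- Let X and Y be Noetherian schemes and F : Coh(O_X) ⥤ Coh(O_Y) a functor. Then F extends to a functor
F' : QCoh(O_X) ⥤ QCoh(O_Y) which commutes with filtered colimits, uniquely up to isomorphism;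
moreover for any such extension F': if F is additive, F' commutes with arbitrary direct sums, and if
F is left exact (resp. right exact), so is F'. -/
theorem result
    (X Y : Scheme.{u}) [IsNoetherian X] [IsNoetherian Y]
    (F : ObjectProperty.FullSubcategory (fun M : X.Modules => Coh.IsCoh M) ⥤ ObjectProperty.FullSubcategory (fun M : Y.Modules => Coh.IsCoh M)) :
    (∃ F' : QCohCat.QCoh X ⥤ QCohCat.QCoh Y, PreservesFilteredColimitsOfSize.{u, u} F' ∧
      Nonempty ((ObjectProperty.ιOfLE (P := (fun M : X.Modules => Coh.IsCoh M)) (P' := QCohCat.isQCoh X) (fun _ h => h.1)) ⋙ F' ≅ F ⋙ (ObjectProperty.ιOfLE (P := (fun M : Y.Modules => Coh.IsCoh M)) (P' := QCohCat.isQCoh Y) (fun _ h => h.1)))) ∧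
    (∀ F₁ F₂ : QCohCat.QCoh X ⥤ QCohCat.QCoh Y, PreservesFilteredColimitsOfSize.{u, u} F₁ →
      PreservesFilteredColimitsOfSize.{u, u} F₂ →
      Nonempty ((ObjectProperty.ιOfLE (P := (fun M : X.Modules => Coh.IsCoh M)) (P' := QCohCat.isQCoh X) (fun _ h => h.1)) ⋙ F₁ ≅ F ⋙ (ObjectProperty.ιOfLE (P := (fun M : Y.Modules => Coh.IsCoh M)) (P' := QCohCat.isQCoh Y) (fun _ h => h.1))) →
      Nonempty ((ObjectProperty.ιOfLE (P := (fun M : X.Modules => Coh.IsCoh M)) (P' := QCohCat.isQCoh X) (fun _ h => h.1)) ⋙ F₂ ≅ F ⋙ (ObjectProperty.ιOfLE (P := (fun M : Y.Modules => Coh.IsCoh M)) (P' := QCohCat.isQCoh Y) (fun _ h => h.1))) → Nonempty (F₁ ≅ F₂)) ∧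
    ∀ F' : QCohCat.QCoh X ⥤ QCohCat.QCoh Y, PreservesFilteredColimitsOfSize.{u, u} F' →
      Nonempty ((ObjectProperty.ιOfLE (P := (fun M : X.Modules => Coh.IsCoh M)) (P' := QCohCat.isQCoh X) (fun _ h => h.1)) ⋙ F' ≅ F ⋙ (ObjectProperty.ιOfLE (P := (fun M : Y.Modules => Coh.IsCoh M)) (P' := QCohCat.isQCoh Y) (fun _ h => h.1))) →
      (F.Additive → ∀ J : Type u, PreservesColimitsOfShape (Discrete J) F') ∧
      (PreservesFiniteLimits F → PreservesFiniteLimits F') ∧
      (PreservesFiniteColimits F → PreservesFiniteColimits F') := by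
  let K := GrothLib.FunMor20.cohι X
  let L := GrothLib.FunMor20.cohι Y
  let G := F ⋙ L
  refine ⟨?_, fun F₁ F₂ h₁ h₂ e₁ e₂ => ?_, fun E hE he => ?_⟩
  · obtain ⟨E, hE, ⟨e⟩⟩ := GrothLib.FunMor20.Ind.exists_extension.{u} K G
    exact ⟨E, hE, ⟨e⟩⟩
  · exact GrothLib.FunMor20.Ind.extension_unique.{u} K F₁ F₂ (e₁.some ≪≫ e₂.some.symm)
  obtain ⟨e⟩ := he
  let e' : K ⋙ E ≅ G := e
  haveI := hE
  haveI hLadd : L.Additive := ⟨rfl⟩
  haveI hKadd : K.Additive := ⟨rfl⟩
  have hadd : F.Additive → E.Additive := fun _ => by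
    haveI : (K ⋙ E).Additive := Functor.additive_of_iso e'.symm
    exact GrothLib.FunMor20.Ind.additive_of_restriction.{u} K E
  refine ⟨fun hF J => ?_, fun hF => ?_, fun hF => ?_⟩
  · haveI := hadd hF
    exact GrothLib.FunMor20.Ind.preservesCoproducts.{u} K E J
  · haveI := GrothLib.FunMor20.additive_of_preservesFiniteLimits_coh F
    haveI := hadd inferInstance
    haveI : PreservesFiniteLimits G := GrothLib.FunMor20.preservesFiniteLimits_comp_cohι F
    haveI : PreservesFiniteLimits (K ⋙ E) := preservesFiniteLimits_of_natIso e'.symm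
    haveI : ∀ {M N : QCohCat.QCoh X} (f : M ⟶ N), PreservesLimit (parallelPair f 0) E := fun f =>
      GrothLib.FunMor20.preservesKernel_ind E f
    exact Functor.preservesFiniteLimits_of_preservesKernels E
  · haveI := GrothLib.FunMor20.additive_of_preservesFiniteColimits_coh F
    haveI := hadd inferInstance
    haveI : PreservesFiniteColimits G := GrothLib.FunMor20.preservesFiniteColimits_comp_cohι F
    haveI : PreservesFiniteColimits (K ⋙ E) := preservesFiniteColimits_of_natIso e'.symm
    haveI : ∀ {M N : QCohCat.QCoh X} (f : M ⟶ N), PreservesColimit (parallelPair f 0) E := fun f =>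
      GrothLib.FunMor20.preservesCokernel_ind E f
    exact Functor.preservesFiniteColimits_of_preservesCokernels E

end Groth.Agent.S6730
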