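import Groth.Statements.S6736
import Groth.Agent.Lib.FunMor20.Slice
import Groth.Agent.Lib.FunMor20.Box
import Groth.Agent.Lib.OX.AffineReflect

set_option autoImplicit false
set_option maxHeartbeats 1000000
set_option linter.style.haveILetI false
set_option backward.isDefEq.respectTransparency.types false
universe u
open CategoryTheory CategoryTheory.Limits AlgebraicGeometry
open FunMor

namespace Groth.Agent.S6736

/-- Let R be a ring and X, Y schemes over R with X quasi-compact with affine diagonal. Let K be a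
quasi-coherent module on X ×_R Y which is flat over X and such that R^q pr_{2,*}(pr_1^* F ⊗ K) = 0
for all quasi-coherent O_X-modules F and all q > 0. Then for every scheme T over R and every
quasi-coherent module F on T ×_R X, R^q pr_{13,*}(pr_{12}^* F ⊗ pr_{23}^* K) = 0 for all q > 0. Here
T ×_R X ×_R Y is realised as (T ×_R X) ×_X (X ×_R Y), with pr_{12}, pr_{23} its two projections and
pr_{13} the morphism to T ×_R Y determined by its two components. (Higher direct images as right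
derived functors; the injective-resolution instances hold for module categories of schemes but are
carried as binders.) -/
theorem result
    (R : Type u) [CommRing R] (X Y : Scheme.{u}) [X.Over (Spec (.of R))] [Y.Over (Spec (.of R))]
    [CompactSpace X] [IsAffineHom (pullback.diagonal (X ↘ Spec (.of R)))]
    [HasInjectiveResolutions (pullback (X ↘ Spec (.of R)) (Y ↘ Spec (.of R))).Modules]
    (K : (pullback (X ↘ Spec (.of R)) (Y ↘ Spec (.of R))).Modules) (hKq : Coh.IsQCoh K)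
    (hKfl : FlatMod.IsFlatOver (pullback.fst (X ↘ Spec (.of R)) (Y ↘ Spec (.of R))) K)
    (hKac : ∀ (F : X.Modules), Coh.IsQCoh F → ∀ q : ℕ, 0 < q →
      IsZero ((Coh.Rpush (pullback.snd (X ↘ Spec (.of R)) (Y ↘ Spec (.of R))) q).obj
        (CohB1.tensorMod ((Scheme.Modules.pullback (pullback.fst (X ↘ Spec (.of R)) (Y ↘ Spec (.of R)))).obj F) K)))
    (T : Scheme.{u}) [T.Over (Spec (.of R))]
    [HasInjectiveResolutions (pullback (pullback.snd (T ↘ Spec (.of R)) (X ↘ Spec (.of R))) (pullback.fst (X ↘ Spec (.of R)) (Y ↘ Spec (.of R)))).Modules]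
    (pr₁₃ : (pullback (pullback.snd (T ↘ Spec (.of R)) (X ↘ Spec (.of R))) (pullback.fst (X ↘ Spec (.of R)) (Y ↘ Spec (.of R)))) ⟶ (pullback (T ↘ Spec (.of R)) (Y ↘ Spec (.of R))))
    (h₁ : pr₁₃ ≫ pullback.fst (T ↘ Spec (.of R)) (Y ↘ Spec (.of R)) =
      pullback.fst _ _ ≫ pullback.fst (T ↘ Spec (.of R)) (X ↘ Spec (.of R)))
    (h₂ : pr₁₃ ≫ pullback.snd (T ↘ Spec (.of R)) (Y ↘ Spec (.of R)) =
      pullback.snd _ _ ≫ pullback.snd (X ↘ Spec (.of R)) (Y ↘ Spec (.of R)))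
    (F : (pullback (T ↘ Spec (.of R)) (X ↘ Spec (.of R))).Modules) (hF : Coh.IsQCoh F) (q : ℕ) (hq : 0 < q) :
    IsZero ((Coh.Rpush pr₁₃ q).obj
      (CohB1.tensorMod
        ((Scheme.Modules.pullback
          (pullback.fst (pullback.snd (T ↘ Spec (.of R)) (X ↘ Spec (.of R))) (pullback.fst (X ↘ Spec (.of R)) (Y ↘ Spec (.of R))))).obj F)
        ((Scheme.Modules.pullback
          (pullback.snd (pullback.snd (T ↘ Spec (.of R)) (X ↘ Spec (.of R))) (pullback.fst (X ↘ Spec (.of R)) (Y ↘ Spec (.of R))))).obj K))) := by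
  let S := Spec (CommRingCat.of R)
  let tX : T ⟶ S := T ↘ S
  let xX : X ⟶ S := X ↘ S
  let yX : Y ⟶ S := Y ↘ S
  let t := pullback.snd tX xX
  let p := pullback.fst xX yX
  let q₂ := pullback.snd xX yX
  let pr₁₂ := pullback.fst t p
  let pr₂₃ := pullback.snd t p
  haveI : QuasiCompact xX := (HasAffineProperty.iff_of_isAffine (P := @QuasiCompact)).2 ‹CompactSpace X›
  haveI : QuasiSeparated xX := (quasiSeparated_iff _).2 inferInstance
  haveI : QuasiCompact q₂ := MorphismProperty.pullback_snd (P := @QuasiCompact) _ _ inferInstance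
  haveI : QuasiSeparated q₂ := MorphismProperty.pullback_snd (P := @QuasiSeparated) _ _ inferInstance
  have hsq : IsPullback pr₁₃ pr₂₃ (pullback.snd tX yX) q₂ := by
    refine IsPullback.of_right ?_ h₂ (IsPullback.of_hasPullback tX yX)
    have hbig : IsPullback (pr₁₂ ≫ pullback.fst tX xX) pr₂₃ tX (p ≫ xX) :=
      (IsPullback.of_hasPullback t p).paste_horiz (IsPullback.of_hasPullback tX xX)
    rw [h₁]
    have he : q₂ ≫ yX = p ≫ xX := pullback.condition.symm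
    rw [he]
    exact hbig
  haveI : QuasiCompact pr₁₃ := MorphismProperty.of_isPullback hsq.flip ‹QuasiCompact q₂›
  haveI : QuasiSeparated pr₁₃ := MorphismProperty.of_isPullback hsq.flip ‹QuasiSeparated q₂›
  haveI hFq : F.IsQuasicoherent := hF
  haveI hKq' : K.IsQuasicoherent := hKq
  let G := CohB1.tensorMod ((Scheme.Modules.pullback pr₁₂).obj F) ((Scheme.Modules.pullback pr₂₃).obj K)
  haveI : G.IsQuasicoherent :=
    GrothLib.VA.isQCoh_tensor (GrothLib.VA.isQCoh_pullback pr₁₂ hF) (GrothLib.VA.isQCoh_pullback pr₂₃ hKq)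
  let cov := fun UV : T.affineOpens × Y.affineOpens =>
    pullback.fst tX yX ⁻¹ᵁ UV.1.1 ⊓ pullback.snd tX yX ⁻¹ᵁ UV.2.1
  refine GrothLib.OX.isZero_of_affine_cover (GrothLib.Cohom.isQuasicoherent_Rpush pr₁₃ G q) cov (fun UV => ?_)
    (fun z => ?_) fun UV s => ?_
  · exact GrothLib.FunMor20.isAffineOpen_box tX yX UV.1.2 UV.2.2
  · obtain ⟨U, hU, hzU, -⟩ := exists_isAffineOpen_mem_and_subset (x := pullback.fst tX yX z) (U := ⊤) trivial
    obtain ⟨V, hV, hzV, -⟩ := exists_isAffineOpen_mem_and_subset (x := pullback.snd tX yX z) (U := ⊤) trivial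
    exact ⟨(⟨U, hU⟩, ⟨V, hV⟩), hzU, hzV⟩
  obtain ⟨⟨U, hU⟩, ⟨V, hV⟩⟩ := UV
  let W := pullback.fst tX xX ⁻¹ᵁ U
  let j := (pr₁₂ ⁻¹ᵁ W).ι
  have hs : IsPullback (pullback.fst tX xX ∣_ U) (W.ι ≫ t) (U.ι ≫ tX) xX :=
    ((isPullback_morphismRestrict (pullback.fst tX xX) U).flip.paste_horiz
      (IsPullback.of_hasPullback tX xX).flip).flip
  haveI : IsAffine (U : Scheme.{u}) := hU
  haveI : IsAffineHom (W.ι ≫ t) := MorphismProperty.of_isPullback hs (isAffineHom_of_isAffine (U.ι ≫ tX))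
  have h : IsPullback (pr₁₂ ∣_ W) (j ≫ pr₂₃) (W.ι ≫ t) p :=
    ((isPullback_morphismRestrict pr₁₂ W).flip.paste_horiz (IsPullback.of_hasPullback t p).flip).flip
  have hFW : ((Scheme.Modules.pullback W.ι).obj F).IsQuasicoherent := GrothLib.VA.isQCoh_pullback W.ι hF
  have hn := GrothLib.FunMor20.subsingleton_ext_slice h q₂ ((Scheme.Modules.pullback W.ι).obj F) K
    (n := q) (fun M hM => hKac M hM q hq) hV
  let e : G.restrict j ≅ CohB1.tensorMod ((Scheme.Modules.pullback (pr₁₂ ∣_ W)).obj ((Scheme.Modules.pullback W.ι).obj F))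
      ((Scheme.Modules.pullback (j ≫ pr₂₃)).obj K) :=
    (Scheme.Modules.restrictFunctorIsoPullback j).app G ≪≫ GrothLib.OX.pullTensorIso j _ _ ≪≫
      GrothLib.FunMor20.tensorModIso ((Scheme.Modules.pullbackComp j pr₁₂).app F ≪≫
          (Scheme.Modules.pullbackCongr (morphismRestrict_ι pr₁₂ W).symm).app F ≪≫
          ((Scheme.Modules.pullbackComp (pr₁₂ ∣_ W) W.ι).app F).symm)
        ((Scheme.Modules.pullbackComp j pr₂₃).app K)
  have hO : pr₁₃ ⁻¹ᵁ cov (⟨U, hU⟩, ⟨V, hV⟩) = j ''ᵁ ((j ≫ pr₂₃) ⁻¹ᵁ q₂ ⁻¹ᵁ V) := by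
    rw [Scheme.Hom.comp_preimage, Scheme.Hom.image_preimage_eq_opensRange_inf, Scheme.Opens.opensRange_ι]
    have e₁ : pr₁₃ ⁻¹ᵁ pullback.fst tX yX ⁻¹ᵁ U = pr₁₂ ⁻¹ᵁ W := by
      rw [← Scheme.Hom.comp_preimage, h₁]; rfl
    have e₂ : pr₁₃ ⁻¹ᵁ pullback.snd tX yX ⁻¹ᵁ V = pr₂₃ ⁻¹ᵁ q₂ ⁻¹ᵁ V := by
      rw [← Scheme.Hom.comp_preimage, h₂]; rfl
    rw [← e₁, ← e₂]
    rfl
  obtain ⟨e₁⟩ := GrothLib.Cohom.nonempty_ext_image_equiv j G ((j ≫ pr₂₃) ⁻¹ᵁ q₂ ⁻¹ᵁ V) q
  rw [← hO] at e₁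
  obtain ⟨e₂⟩ := GrothLib.Cohom.nonempty_HHon_equiv G (pr₁₃ ⁻¹ᵁ cov (⟨U, hU⟩, ⟨V, hV⟩)) q
  obtain ⟨e₃, -⟩ := GrothLib.BCCoh.exists_Rpush_equiv pr₁₃
    (GrothLib.FunMor20.isAffineOpen_box tX yX hU hV) G q
  let e₄ := ((CategoryTheory.Abelian.extFunctorObj.{u} (GrothLib.Cohom.freeFun.obj ((j ≫ pr₂₃) ⁻¹ᵁ q₂ ⁻¹ᵁ V)) q).mapIso
    ((GrothLib.QCoh.toAbFun _).mapIso e)).addCommGroupIsoToAddEquiv
  exact @Subsingleton.elim _ (@Equiv.subsingleton _ _ (((e₃.symm.trans e₂).trans e₁).trans e₄).toEquiv hn) s 0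

end Groth.Agent.S6736
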