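import Groth.Statements.S6739
import Groth.Agent.Lib.FMK22.PointThick
import Groth.Agent.Lib.Hilb20.Stable

set_option autoImplicit false
universe u
open CategoryTheory CategoryTheory.Limits AlgebraicGeometry
attribute [local instance] HasDerivedCategory.standard
open DEquiv

namespace Groth.Agent.S6739

/-- Let k be a field and X, Y schemes of finite type over k. Let K_0 ⟶ K_1 ⟶ K_2 ⟶ ⋯ be a system of
perfect objects of D(O_{X ×_k Y}) and m ≥ 0 an integer such that (1) H^q(K_n) = 0 for q > m and all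
n, and (2) for every coherent O_X-module F whose support is a finite set of closed points, each
object R pr_{2,*}(pr_1^* F ⊗^L K_n) has zero cohomology sheaves except possibly in degrees lying in
[-m, m] ∪ [-m-n, m-n], and whenever n > 2m, the maps induced by the system are isomorphisms on the
i-th cohomology sheaves of these objects for all i with -m ≤ i ≤ m. Then the cohomology sheaves of
each K_n are zero in every degree not in [-m, m] ∪ [-m-n, m-n], and once n > 2m, each map K_n ⟶
K_{n+1} of the system induces an isomorphism on the i-th cohomology sheaf for all i with -m ≤ i ≤ m.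
(The derived functors - ⊗^L pr_1^* F and R pr_{2,*} are assumed to exist, as instance binders; pr_1
is flat, so pr_1^* F is the derived pullback. A further splitting of K_n when X and Y are smooth is
not part of this statement.) -/
theorem result
    (k : Type u) [Field k] (X Y : Scheme.{u}) [X.Over (Spec (.of k))] [Y.Over (Spec (.of k))]
    [LocallyOfFiniteType (X ↘ Spec (.of k))] [CompactSpace X] [LocallyOfFiniteType (Y ↘ Spec (.of k))] [CompactSpace Y]
    [∀ F : X.Modules, DCoh.HasLTensorMod ((Scheme.Modules.pullback (pullback.fst (X ↘ Spec (.of k)) (Y ↘ Spec (.of k)))).obj F)]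
    [DCoh.HasRpush (pullback.snd (X ↘ Spec (.of k)) (Y ↘ Spec (.of k)))]
    (K : ℕ → DCoh.D (pullback (X ↘ Spec (.of k)) (Y ↘ Spec (.of k)))) (t : ∀ n : ℕ, K n ⟶ K (n + 1)) (hK : ∀ n, DCoh.IsPerfect (K n))
    (m : ℕ) (h1 : ∀ (n : ℕ) (q : ℤ), (m : ℤ) < q → IsZero (DCoh.HD (K n) q))
    (h2 : ∀ (F : X.Modules), Coh.IsCoh F → (CohB1.support F).Finite →
      (∀ x ∈ CohB1.support F, IsClosed ({x} : Set X)) →
      (∀ (n : ℕ) (i : ℤ), ¬ (-(m : ℤ) ≤ i ∧ i ≤ m) → ¬ (-(m : ℤ) - n ≤ i ∧ i ≤ (m : ℤ) - n) →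
          IsZero (DCoh.HD ((DCoh.Rpush (pullback.snd (X ↘ Spec (.of k)) (Y ↘ Spec (.of k)))).obj ((DCoh.LTensorMod ((Scheme.Modules.pullback (pullback.fst (X ↘ Spec (.of k)) (Y ↘ Spec (.of k)))).obj F)).obj (K n))) i)) ∧
      (∀ (n : ℕ) (i : ℤ), 2 * m < n → -(m : ℤ) ≤ i → i ≤ m →
          IsIso ((DerivedCategory.homologyFunctor _ i).map ((DCoh.Rpush (pullback.snd (X ↘ Spec (.of k)) (Y ↘ Spec (.of k)))).map ((DCoh.LTensorMod ((Scheme.Modules.pullback (pullback.fst (X ↘ Spec (.of k)) (Y ↘ Spec (.of k)))).obj F)).map (t n)))))) :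
    (∀ (n : ℕ) (i : ℤ), ¬ (-(m : ℤ) ≤ i ∧ i ≤ m) → ¬ (-(m : ℤ) - n ≤ i ∧ i ≤ (m : ℤ) - n) →
        IsZero (DCoh.HD (K n) i)) ∧
    ∀ (n : ℕ) (i : ℤ), 2 * m < n → -(m : ℤ) ≤ i → i ≤ m →
        IsIso ((DerivedCategory.homologyFunctor _ i).map (t n)) := by
  let a := X ↘ Spec (CommRingCat.of k)
  let b := Y ↘ Spec (CommRingCat.of k)
  let p := pullback.fst a b
  let q := pullback.snd a b
  haveI : IsLocallyNoetherian X := LocallyOfFiniteType.isLocallyNoetherian a
  haveI : IsNoetherian X := {}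
  haveI : LocallyOfFiniteType p := MorphismProperty.pullback_fst _ _ (inferInstanceAs (LocallyOfFiniteType b))
  haveI : LocallyOfFiniteType (p ≫ a) := inferInstance
  haveI : IsLocallyNoetherian (pullback a b) := LocallyOfFiniteType.isLocallyNoetherian (p ≫ a)
  haveI : JacobsonSpace X := LocallyOfFiniteType.jacobsonSpace a
  haveI : JacobsonSpace ↥(pullback a b) := LocallyOfFiniteType.jacobsonSpace (p ≫ a)
  have key : ∀ (C : DCoh.D (pullback a b)), DCoh.IsPerfect C → ∀ i : ℤ,
      (∀ (F : X.Modules) (W : Scheme.{u}) (g : W ⟶ pullback a b) (_ : IsClosedImmersion g) (_ : DCoh.HasLpull g),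
        Coh.IsCoh F → (CohB1.support F).Finite → (∀ x ∈ CohB1.support F, IsClosed ({x} : Set X)) →
        IsAffineHom (g ≫ q) →
        ((Scheme.Modules.pullback p).obj F ≅ (Scheme.Modules.pushforward g).obj (Coh.structureModule W)) →
        IsZero (DCoh.HD ((DCoh.Lpull g).obj C) i)) →
      IsZero (DCoh.HD C i) := by
    intro C hC i h
    refine GrothLib.Hilb20.isZero_of_support_eq_empty (Set.not_nonempty_iff_eq_empty.1 fun hne => ?_)
    obtain ⟨z, hz, hzc⟩ := nonempty_inter_closedPoints hne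
      (GrothLib.QCoh.isClosed_support_of_isCoh (GrothLib.FMK22.isCohD_of_perfect hC i)).isLocallyClosed
    have hx : IsClosed ({p z} : Set X) := p.closePoints_subset_preimage_closedPoints hzc
    refine GrothLib.FMK22.notMem_support_of_thickenings C hC z i (fun e => ?_) hz
    obtain ⟨F, W, g, t, hF, hsupp, hg, haff, htz, hker, ⟨eF⟩⟩ := GrothLib.FMK22.exists_thickening a b z hx e
    haveI := GrothLib.OX.hasLpull g
    exact ⟨W, g, hg, inferInstance, t, htz, hker, h F W g hg inferInstance hF ((Set.finite_singleton _).subset hsupp)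
      (fun x hx' => by rw [Set.mem_singleton_iff.1 (hsupp hx')]; exact hx) haff eF⟩
  have part1 : ∀ (n : ℕ) (i : ℤ), ¬ (-(m : ℤ) ≤ i ∧ i ≤ m) → ¬ (-(m : ℤ) - n ≤ i ∧ i ≤ (m : ℤ) - n) →
      IsZero (DCoh.HD (K n) i) := fun n i hi hi' =>
    key (K n) (hK n) i fun F W g _ _ hF hfin hcl haff eF =>
      GrothLib.FMK22.isZero_HD_lpull_of_push g q _ eF (GrothLib.OX.isQCohD_of_isPerfect (hK n)) i
        ((h2 F hF hfin hcl).1 n i hi hi')
  refine ⟨part1, fun n i hn hi hi' => ?_⟩
  obtain ⟨C, u, v, hT⟩ := Pretriangulated.distinguished_cocone_triangle (t n)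
  have hC : DCoh.IsPerfect C := (GrothLib.OX.isPerfect_triangle hT).1 (hK n) (hK (n + 1))
  have hz : ∀ j : ℤ, -(m : ℤ) - 1 ≤ j → j ≤ m → IsZero (DCoh.HD C j) := fun j hj hj' =>
    key C hC j fun F W g _ _ hF hfin hcl haff eF => by
      obtain ⟨hv, hiso⟩ := h2 F hF hfin hcl
      refine GrothLib.FMK22.isZero_HD_lpull_cone g q _ eF hT (GrothLib.OX.isQCohD_of_isPerfect hC) j ?_ ?_
      · rcases eq_or_lt_of_le hj with hj0 | hj0
        · exact IsZero.epi (hv (n + 1) j (by omega) (by omega)) _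
        · exact @IsIso.epi_of_iso _ _ _ _ _ (hiso n j hn (by omega) hj')
      · rcases eq_or_lt_of_le hj' with hj0 | hj0
        · exact IsZero.mono (hv n (j + 1) (by omega) (by omega)) _
        · exact @IsIso.mono_of_iso _ _ _ _ _ (hiso n (j + 1) hn (by omega) (by omega))
  haveI : Mono ((DerivedCategory.homologyFunctor _ i).map (t n)) :=
    (DerivedCategory.HomologySequence.mono_homologyMap_mor₁_iff _ hT (i - 1) i (by omega)).2
      ((hz (i - 1) (by omega) (by omega)).eq_of_src _ _)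
  haveI : Epi ((DerivedCategory.homologyFunctor _ i).map (t n)) :=
    (DerivedCategory.HomologySequence.epi_homologyMap_mor₁_iff _ hT i).2
      ((hz i (by omega) (by omega)).eq_of_tgt _ _)
  exact isIso_of_mono_of_epi _

end Groth.Agent.S6739
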