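import Groth.Statements.S6742
import Groth.Agent.Lib.OX.ExtFinite
import Groth.Agent.Lib.OX.HomVanish
import Groth.Agent.Lib.OX.RegularPerfect

set_option autoImplicit false
universe u
open CategoryTheory AlgebraicGeometry
attribute [local instance] HasDerivedCategory.standard
open DEquiv

namespace Groth.Agent.S6742

/-- Let X be a scheme proper over a field k, let K be an object of D(O_X) which is bounded and has
coherent cohomology sheaves, and let E be a perfect object of D(O_X). Then the k-vector spaces
Ext^i_X(E, K) = Hom(E, K⟦i⟧) (k-linear structure induced by X → Spec k) are finite-dimensional for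
all i ∈ ℤ and nonzero for only finitely many i. -/
theorem result
    (k : Type u) [Field k] (X : Scheme.{u}) [X.Over (Spec (.of k))] [IsProper (X ↘ Spec (.of k))]
    (K : DCoh.D X) (hK : SGA6.cohbP X K) (E : DCoh.D X) (hE : DCoh.IsPerfect E) :
    (∀ i : ℤ, Module.Finite k (E ⟶ (shiftFunctor (DCoh.D X) i).obj K)) ∧
        Set.Finite {i : ℤ | Nontrivial (E ⟶ (shiftFunctor (DCoh.D X) i).obj K)} := by
  obtain ⟨hKc, a, c, ha, hc⟩ := hK
  haveI : IsLocallyNoetherian X := LocallyOfFiniteType.isLocallyNoetherian (X ↘ Spec (.of k))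
  haveI : CompactSpace X := QuasiCompact.compactSpace_of_compactSpace (X ↘ Spec (.of k))
  haveI : AlgebraicGeometry.IsNoetherian X := {}
  obtain ⟨hEc, a', b', -, hb'⟩ := GrothLib.OX.isCohD_and_bounded_of_isPerfect hE
  haveI := ha
  haveI := hc
  haveI := hb'
  refine ⟨fun i => GrothLib.OX.finite_hom_shift k E K hEc b' hKc a i, ?_⟩
  obtain ⟨p, q, hpq⟩ := GrothLib.OX.vanRange_of_isPerfect hE
  refine (Set.finite_Icc (a - q) (c - p)).subset fun i hi => ?_
  by_contra hn
  refine (not_nontrivial_iff_subsingleton.2 ⟨fun f g => ?_⟩) hi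
  have hz : ∀ φ : E ⟶ (shiftFunctor (DCoh.D X) i).obj K, φ = 0 := hpq _
    (GrothLib.OX.isQCohD_shift (fun j => (hKc j).1) i) fun j h1 h2 =>
    (show Limits.IsZero (DCoh.HD K (i + j)) by
      rcases (not_and_or.1 (fun h : a - q ≤ i ∧ i ≤ c - p => hn h)) with h | h
      · exact DerivedCategory.isZero_of_isGE K a _ (by omega)
      · exact DerivedCategory.isZero_of_isLE K c _ (by omega)).of_iso (GrothLib.OX.HDShiftIso K i j _ rfl)
  rw [hz f, hz g]

end Groth.Agent.S6742
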