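import Groth.Statements.S6766
import Groth.Agent.Lib.FunMor20.AffinePush

set_option autoImplicit false
set_option maxHeartbeats 400000
set_option linter.style.haveILetI false
set_option backward.isDefEq.respectTransparency.types false
universe u
open CategoryTheory AlgebraicGeometry
attribute [local instance] HasDerivedCategory.standard
open FunMor

namespace Groth.Agent.S6766

/-- Let R be a ring and X, Y schemes over R with X quasi-compact with affine diagonal. Suppose that F :
QCoh(O_X) ⥤ QCoh(O_Y) is a functor that is R-linear and right exact and that preserves direct sums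
of any size. One can then find a quasi-coherent O_{X ×_R Y}-module K and a natural transformation t
from F (followed by the inclusion into O_Y-modules) to the functor F_K : M ↦ pr_{2,*}(pr_1^* M ⊗ K)
such that t is an isomorphism at f_* M' whenever f : X' ⟶ X is a morphism out of an affine scheme X'
and M' is any quasi-coherent O_{X'}-module (f is then affine, so f_* M' is quasi-coherent; the
statement quantifies over a proof of this). -/
theorem result
    (R : Type u) [CommRing R] (X Y : Scheme.{u}) [X.Over (Spec (.of R))] [Y.Over (Spec (.of R))] [CompactSpace X] [IsAffineHom (Limits.pullback.diagonal (X ↘ Spec (.of R)))]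
    (F : QCohCat.QCoh X ⥤ QCohCat.QCoh Y) [F.Additive] [F.Linear R]
    [Limits.PreservesFiniteColimits F] [∀ J : Type u, Limits.PreservesColimitsOfShape (Discrete J) F] :
    ∃ (K : (Limits.pullback (X ↘ Spec (.of R)) (Y ↘ Spec (.of R))).Modules) (_ : Coh.IsQCoh K)
      (t : F ⋙ ObjectProperty.ι (QCohCat.isQCoh Y) ⟶ (ObjectProperty.ι (QCohCat.isQCoh X) ⋙ Scheme.Modules.pullback (Limits.pullback.fst (X ↘ Spec (.of R)) (Y ↘ Spec (.of R))) ⋙ DCoh.tensorRightMod K ⋙ Coh.push (Limits.pullback.snd (X ↘ Spec (.of R)) (Y ↘ Spec (.of R))))),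
      ∀ (X' : Scheme.{u}) [IsAffine X'] (f : X' ⟶ X) (M' : X'.Modules), Coh.IsQCoh M' →
        ∀ (hM : QCohCat.isQCoh X ((Coh.push f).obj M')),
          IsIso (t.app ⟨(Coh.push f).obj M', hM⟩) := by
  let S := Spec (CommRingCat.of R)
  let x : X ⟶ S := X ↘ S
  let y : Y ⟶ S := Y ↘ S
  have h : IsPullback (Limits.pullback.fst x y) (Limits.pullback.snd x y) x y := IsPullback.of_hasPullback x y
  let ιY := ObjectProperty.ι (QCohCat.isQCoh Y)
  let 𝔽 := F ⋙ ιY
  haveI : Limits.PreservesFiniteColimits ιY := GrothLib.FunMor20.preservesFiniteColimits_ι Y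
  haveI : ∀ J : Type u, Limits.PreservesColimitsOfShape (Discrete J) ιY := fun J => GrothLib.FunMor20.preservesDiscrete_ι Y J
  haveI : Limits.PreservesBinaryBiproducts ιY := Limits.preservesBinaryBiproducts_of_preservesBinaryCoproducts _
  haveI : ιY.Additive := Functor.additive_of_preservesBinaryBiproducts _
  haveI : 𝔽.Additive := inferInstance
  haveI : Limits.PreservesFiniteColimits 𝔽 := Limits.comp_preservesFiniteColimits F ιY
  haveI : ∀ J : Type u, Limits.PreservesColimitsOfShape (Discrete J) 𝔽 := fun J =>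
    Limits.comp_preservesColimitsOfShape F ιY
  have hqc : ∀ M, (𝔽.obj M).IsQuasicoherent := fun M => (F.obj M).property
  have hR : ∀ (M : QCohCat.QCoh X) (r : Γ(S, ⊤)),
      𝔽.map (GrothLib.FunMor20.smulQ M (x.appTop r)) = Formal.smulModΓ (𝔽.obj M) (y.appTop r) := fun M r => by
    obtain ⟨a, rfl⟩ := (Scheme.ΓSpecIso (CommRingCat.of R)).commRingCatIsoToRingEquiv.symm.surjective r
    have h1 : GrothLib.FunMor20.smulQ M (x.appTop ((Scheme.ΓSpecIso (CommRingCat.of R)).commRingCatIsoToRingEquiv.symm a)) = a • 𝟙 M :=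
      ObjectProperty.hom_ext _ (KLin.smul_id (A := R) M.obj a).symm
    rw [h1]
    show (F.map (a • 𝟙 M)).hom = _
    rw [Functor.map_smul, F.map_id]
    exact KLin.smul_id (A := R) (F.obj M).obj a
  obtain ⟨K, hK, t, ι, U, hcov, ht⟩ := GrothLib.FunMor20.exists_glued_kernel 𝔽 h hqc hR
  refine ⟨K, hK, t, fun X' _ f M' hM' hM => ?_⟩
  haveI : IsAffineHom f := GrothLib.FunMor20.isAffineHom_of_affine_source x f
  exact GrothLib.FunMor20.isIso_app_affinePush h 𝔽 hqc hR K t U hcov ht f ⟨M', hM'⟩

end Groth.Agent.S6766
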