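import Groth.Statements.S6753
import Groth.Agent.S6730
import Groth.Agent.S6766
import Groth.Agent.Lib.FunMor20.FiniteSupport
import Groth.Agent.Lib.FunMor20.RestrictEpi
import Groth.Agent.Lib.HomSh.Coherent

set_option autoImplicit false
set_option maxHeartbeats 1000000
set_option linter.style.haveILetI false
set_option backward.isDefEq.respectTransparency.types false
universe u
open CategoryTheory AlgebraicGeometry
attribute [local instance] HasDerivedCategory.standard
open FunMor

namespace Groth.Agent.S6753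

/-- Let X and Y be schemes of finite type over a field k with X separated over k, and let F : Coh(O_X) ⥤
Coh(O_Y) be a k-linear exact functor between the full subcategories of coherent modules. Then there
is a coherent O_{X ×_k Y}-module K, flat over X and whose support is closed and finite over Y (with
its reduced structure), such that F is isomorphic to the restriction to coherent modules of the
functor M ↦ pr_{2,*}(pr_1^* M ⊗ K): an isomorphism of functors Coh(O_X) ⥤ Mod(O_Y) between F
followed by the inclusion and the inclusion followed by pullback along pr_1, tensoring with K and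
pushforward along pr_2. (The published statement is an equivalence between the category of such
functors and the category of such K; this row states that every such functor arises from some K.) -/
theorem result
    (k : Type u) [Field k] (X Y : Scheme.{u}) [X.Over (Spec (.of k))] [Y.Over (Spec (.of k))]
    [LocallyOfFiniteType (X ↘ Spec (.of k))] [CompactSpace X] [IsSeparated (X ↘ Spec (.of k))]
    [LocallyOfFiniteType (Y ↘ Spec (.of k))] [CompactSpace Y]
    (F : (ObjectProperty.FullSubcategory fun M : X.Modules => Coh.IsCoh M) ⥤ (ObjectProperty.FullSubcategory fun M : Y.Modules => Coh.IsCoh M)) [F.Additive] [F.Linear k]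
    [Limits.PreservesFiniteLimits F] [Limits.PreservesFiniteColimits F] :
    ∃ (K : (Limits.pullback (X ↘ Spec (.of k)) (Y ↘ Spec (.of k))).Modules), Coh.IsCoh K ∧ FlatMod.IsFlatOver (Limits.pullback.fst (X ↘ Spec (.of k)) (Y ↘ Spec (.of k))) K ∧
      (∃ hZ : IsClosed (CohB1.support K),
        IsFinite ((Scheme.IdealSheafData.vanishingIdeal ⟨CohB1.support K, hZ⟩).subschemeι ≫ (Limits.pullback.snd (X ↘ Spec (.of k)) (Y ↘ Spec (.of k))))) ∧
      Nonempty (F ⋙ ObjectProperty.ι (fun M : Y.Modules => Coh.IsCoh M) ≅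
        ObjectProperty.ι (fun M : X.Modules => Coh.IsCoh M) ⋙ Scheme.Modules.pullback (Limits.pullback.fst (X ↘ Spec (.of k)) (Y ↘ Spec (.of k))) ⋙
          DCoh.tensorRightMod K ⋙ Coh.push (Limits.pullback.snd (X ↘ Spec (.of k)) (Y ↘ Spec (.of k)))) := by
  let S := Spec (CommRingCat.of k)
  let x : X ⟶ S := X ↘ S
  let y : Y ⟶ S := Y ↘ S
  haveI : IsNoetherianRing (CommRingCat.of k) := inferInstanceAs (IsNoetherianRing k)
  haveI : IsLocallyArtinian S := Scheme.isLocallyArtinianScheme_Spec.2 (inferInstanceAs (IsArtinianRing k))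
  haveI : IsLocallyNoetherian X := LocallyOfFiniteType.isLocallyNoetherian x
  haveI : IsNoetherian X := { }
  haveI : IsLocallyNoetherian Y := LocallyOfFiniteType.isLocallyNoetherian y
  haveI : IsNoetherian Y := { }
  haveI : QuasiCompact x := inferInstance
  -- the extension to quasi-coherent modules
  obtain ⟨⟨E, hE, ⟨e⟩⟩, -, hprops⟩ := Groth.Agent.S6730.result X Y F
  obtain ⟨hcop, hlim, hcolim⟩ := hprops E hE ⟨e⟩
  haveI := hE
  haveI : ∀ J : Type u, Limits.PreservesColimitsOfShape (Discrete J) E := hcop inferInstance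
  haveI : Limits.PreservesFiniteLimits E := hlim inferInstance
  haveI : Limits.PreservesFiniteColimits E := hcolim inferInstance
  let KX := GrothLib.FunMor20.cohι X
  let KY := GrothLib.FunMor20.cohι Y
  haveI : KX.Additive := ⟨rfl⟩
  haveI : KY.Additive := ⟨rfl⟩
  let e' : KX ⋙ E ≅ F ⋙ KY := e
  haveI : E.Additive := by
    haveI : (KX ⋙ E).Additive := Functor.additive_of_iso e'.symm
    exact GrothLib.FunMor20.Ind.additive_of_restriction.{u} KX E
  have hsm : ∀ (a : k) (M : QCohCat.QCoh X), E.map (a • 𝟙 M) = a • 𝟙 (E.obj M) := fun a M => by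
    refine GrothLib.FunMor20.Ind.hom_ext_of_preserves.{u} KX E fun A p => ?_
    have hcomm : p ≫ (a • 𝟙 M) = KX.map (a • 𝟙 A) ≫ p := by
      rw [Linear.comp_smul, Category.comp_id]
      show a • p = (a • 𝟙 (KX.obj A)) ≫ p
      rw [Linear.smul_comp, Category.id_comp]
    have hA : E.map (KX.map (a • 𝟙 A)) = a • 𝟙 (E.obj (KX.obj A)) := by
      have h1 := e'.hom.naturality (a • 𝟙 A)
      have h2 : (F ⋙ KY).map (a • 𝟙 A) = a • 𝟙 ((F ⋙ KY).obj A) := by
        show KY.map (F.map (a • 𝟙 A)) = _
        rw [Functor.map_smul, F.map_id]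
        rfl
      rw [h2, Linear.comp_smul, Category.comp_id] at h1
      rw [← cancel_mono (e'.hom.app A), Linear.smul_comp, Category.id_comp]
      exact h1
    rw [← E.map_comp, hcomm, E.map_comp, hA, Linear.smul_comp, Category.id_comp, Linear.comp_smul, Category.comp_id]
  haveI : E.Linear k := ⟨fun {M N} f a => by
    have h1 : a • f = f ≫ (a • 𝟙 N) := by rw [Linear.comp_smul, Category.comp_id]
    rw [h1, E.map_comp, hsm, Linear.comp_smul, Category.comp_id]⟩
  -- the kernel
  haveI : IsAffineHom (Limits.pullback.diagonal x) := inferInstance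
  obtain ⟨K, hKq, t, ht⟩ := Groth.Agent.S6766.result k X Y E
  haveI : K.IsQuasicoherent := hKq
  let pT := Limits.pullback.fst x y
  let qT := Limits.pullback.snd x y
  have h : IsPullback pT qT x y := IsPullback.of_hasPullback x y
  let ιY := ObjectProperty.ι (QCohCat.isQCoh Y)
  let 𝔽 := E ⋙ ιY
  haveI : Limits.PreservesFiniteLimits ιY := GrothLib.QCohCat20.preservesFiniteLimits_ι
  haveI : Limits.PreservesFiniteColimits ιY := GrothLib.FunMor20.preservesFiniteColimits_ι Y
  haveI : ∀ J : Type u, Limits.PreservesColimitsOfShape (Discrete J) ιY := fun J =>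
    GrothLib.FunMor20.preservesDiscrete_ι Y J
  haveI : Limits.PreservesFiniteLimits 𝔽 := Limits.comp_preservesFiniteLimits E ιY
  haveI : Limits.PreservesFiniteColimits 𝔽 := Limits.comp_preservesFiniteColimits E ιY
  have ht' : ∀ (W : Scheme.{u}) [IsAffine W] (f : W ⟶ X) [IsAffineHom f] (N : QCohCat.QCoh W),
      IsIso (t.app ((GrothLib.FunMor20.qcohPush f).obj N)) := fun W _ f _ N =>
    ht W f N.obj N.property ((GrothLib.FunMor20.qcohPush f).obj N).property
  haveI : IsIso t := GrothLib.FunMor20.isIso_of_affinePush h 𝔽 K t ht'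
  let iso : 𝔽 ≅ GrothLib.FunMor20.Φ pT qT K := asIso t
  haveI : Limits.PreservesFiniteColimits (GrothLib.FunMor20.Φ pT qT K) :=
    Limits.preservesFiniteColimits_of_natIso iso
  haveI : ∀ J : Type u, Limits.PreservesColimitsOfShape (Discrete J) (GrothLib.FunMor20.Φ pT qT K) := fun J =>
    haveI : Limits.PreservesColimitsOfShape (Discrete J) 𝔽 := Limits.comp_preservesColimitsOfShape E ιY
    Limits.preservesColimitsOfShape_of_natIso iso
  haveI : QuasiCompact qT := inferInstance
  haveI : QuasiSeparated qT := inferInstance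
  -- coherence of the direct image of the kernel
  let O₀ : (GrothLib.FunMor20.cohP X).FullSubcategory := ⟨Coh.structureModule X, GrothLib.HomSh.isCoh_structureModule X⟩
  have hFO : Coh.IsCoh (F.obj O₀).obj := (F.obj O₀).property
  let eO : (GrothLib.FunMor20.Φ pT qT K).obj (GrothLib.FunMor20.qO X) ≅ (F.obj O₀).obj :=
    (iso.app (GrothLib.FunMor20.qO X)).symm ≪≫ ιY.mapIso (e'.app O₀)
  have hKc : Coh.IsCoh K := GrothLib.FunMor20.isCoh_kernelModule' h K hFO eO
  have hpush : Coh.IsCoh ((Scheme.Modules.pushforward qT).obj K) :=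
    GrothLib.QCoh.isCoh_of_iso (eO.symm ≪≫ (Scheme.Modules.pushforward qT).mapIso (GrothLib.FunMor20.ωGen pT K)) hFO
  have hH : ∀ (V : Y.Opens), IsAffineOpen V → ∀ n : ℕ,
      Subsingleton (Abelian.Ext.{u} (GrothLib.Cohom.freeFun.obj (qT ⁻¹ᵁ V)) (Coh.toAb K) (n + 1)) := fun V hV n => by
    let e₃ := ((Abelian.extFunctorObj.{u} (GrothLib.Cohom.freeFun.obj (qT ⁻¹ᵁ V)) (n + 1)).mapIso
      ((GrothLib.QCoh.toAbFun (Limits.pullback x y)).mapIso (GrothLib.FunMor20.ωGen pT K))).addCommGroupIsoToAddEquiv
    exact @Equiv.subsingleton _ _ e₃.symm.toEquiv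
      (GrothLib.FunMor20.subsingleton_ext_kernel h 𝔽 K t ht' hV n (GrothLib.FunMor20.qO X))
  have hfin := GrothLib.FunMor20.isFinite_supportMap h K hKc (GrothLib.FunMor20.restrictsEpi_of_rightExact pT qT K)
    hpush (fun N _ ψ hψ => GrothLib.FunMor20.eq_zero_of_push_eq_zero h K ψ hψ) hH
  refine ⟨K, hKc, GrothLib.FunMor20.isFlatOver_kernel h 𝔽 K t ht', ?_, ⟨?_⟩⟩
  · let I := GrothLib.QCoh.annIdeal K hKc.2
    have hsupp : (I.support : Set (Limits.pullback x y : Scheme.{u})) = CohB1.support K :=
      GrothLib.QCoh.coe_support_annIdeal K hKc.2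
    refine ⟨hsupp ▸ I.support.isClosed, ?_⟩
    have hle : I ≤ Scheme.IdealSheafData.vanishingIdeal ⟨CohB1.support K, hsupp ▸ I.support.isClosed⟩ :=
      Scheme.IdealSheafData.le_support_iff_le_vanishingIdeal.1 (fun z hz => hsupp.symm.subset hz)
    rw [← Scheme.IdealSheafData.inclusion_subschemeι hle, Category.assoc]
    haveI : IsFinite (I.subschemeι ≫ qT) := hfin
    infer_instance
  · exact Functor.isoWhiskerRight e'.symm ιY ≪≫ Functor.isoWhiskerLeft KX iso

end Groth.Agent.S6753
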