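import Groth.Statements.S6757
import Groth.Agent.Lib.FunMor20.ExactKernel
import Groth.Agent.S6766

set_option autoImplicit false
set_option maxHeartbeats 1000000
set_option linter.style.haveILetI false
set_option backward.isDefEq.respectTransparency.types false
universe u
open CategoryTheory AlgebraicGeometry
attribute [local instance] HasDerivedCategory.standard
open FunMor

namespace Groth.Agent.S6757

/-- Let R be a ring and X, Y schemes over R with X quasi-compact with affine diagonal, and let F :
QCoh(O_X) ⥤ QCoh(O_Y) be an R-linear exact functor which commutes with arbitrary direct sums. Then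
there is a quasi-coherent O_{X ×_R Y}-module K which is flat over X and satisfies R^q
pr_{2,*}(pr_1^* M ⊗ K) = 0 for every quasi-coherent O_X-module M and every q > 0 (higher direct
images as right derived functors; the existence of injective resolutions, true for module categories
of schemes, is carried as a binder), such that F is isomorphic to the functor M ↦ pr_{2,*}(pr_1^* M
⊗ K): an isomorphism of functors QCoh(O_X) ⥤ Mod(O_Y) between F followed by the inclusion and the
inclusion followed by pullback along pr_1, tensoring with K and pushforward along pr_2. (The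
published statement is an equivalence of categories between such functors and such K; this row
states that every such functor arises from some such K.) -/
theorem result
    (R : Type u) [CommRing R] (X Y : Scheme.{u}) [X.Over (Spec (.of R))] [Y.Over (Spec (.of R))] [CompactSpace X] [IsAffineHom (Limits.pullback.diagonal (X ↘ Spec (.of R)))]
    [HasInjectiveResolutions (Limits.pullback (X ↘ Spec (.of R)) (Y ↘ Spec (.of R))).Modules]
    (F : QCohCat.QCoh X ⥤ QCohCat.QCoh Y) [F.Additive] [F.Linear R]
    [Limits.PreservesFiniteLimits F] [Limits.PreservesFiniteColimits F]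
    [∀ J : Type u, Limits.PreservesColimitsOfShape (Discrete J) F] :
    ∃ (K : (Limits.pullback (X ↘ Spec (.of R)) (Y ↘ Spec (.of R))).Modules), Coh.IsQCoh K ∧ FlatMod.IsFlatOver (Limits.pullback.fst (X ↘ Spec (.of R)) (Y ↘ Spec (.of R))) K ∧
      (∀ (M : X.Modules), Coh.IsQCoh M → ∀ q : ℕ, 0 < q →
        Limits.IsZero ((Coh.Rpush (Limits.pullback.snd (X ↘ Spec (.of R)) (Y ↘ Spec (.of R))) q).obj
          ((DCoh.tensorRightMod K).obj ((Scheme.Modules.pullback (Limits.pullback.fst (X ↘ Spec (.of R)) (Y ↘ Spec (.of R)))).obj M)))) ∧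
      Nonempty (F ⋙ ObjectProperty.ι (QCohCat.isQCoh Y) ≅ (ObjectProperty.ι (QCohCat.isQCoh X) ⋙ Scheme.Modules.pullback (Limits.pullback.fst (X ↘ Spec (.of R)) (Y ↘ Spec (.of R))) ⋙ DCoh.tensorRightMod K ⋙ Coh.push (Limits.pullback.snd (X ↘ Spec (.of R)) (Y ↘ Spec (.of R))))) := by
  let x : X ⟶ Spec (CommRingCat.of R) := X ↘ Spec (CommRingCat.of R)
  let y : Y ⟶ Spec (CommRingCat.of R) := Y ↘ Spec (CommRingCat.of R)
  obtain ⟨K, hK, t, ht⟩ := Groth.Agent.S6766.result R X Y F
  have h : IsPullback (Limits.pullback.fst x y) (Limits.pullback.snd x y) x y := IsPullback.of_hasPullback x y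
  haveI : K.IsQuasicoherent := hK
  let 𝔽 := F ⋙ ObjectProperty.ι (QCohCat.isQCoh Y)
  haveI : Limits.PreservesFiniteLimits (ObjectProperty.ι (QCohCat.isQCoh Y)) :=
    GrothLib.QCohCat20.preservesFiniteLimits_ι
  haveI : Limits.PreservesFiniteColimits (ObjectProperty.ι (QCohCat.isQCoh Y)) :=
    GrothLib.FunMor20.preservesFiniteColimits_ι Y
  haveI : Limits.PreservesFiniteLimits 𝔽 := Limits.comp_preservesFiniteLimits F (ObjectProperty.ι (QCohCat.isQCoh Y))
  haveI : Limits.PreservesFiniteColimits 𝔽 := Limits.comp_preservesFiniteColimits F (ObjectProperty.ι (QCohCat.isQCoh Y))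
  have ht' : ∀ (W : Scheme.{u}) [IsAffine W] (f : W ⟶ X) [IsAffineHom f] (N : QCohCat.QCoh W),
      IsIso (t.app ((GrothLib.FunMor20.qcohPush f).obj N)) := fun W _ f _ N =>
    ht W f N.obj N.property ((GrothLib.FunMor20.qcohPush f).obj N).property
  haveI : QuasiCompact x := inferInstance
  haveI : QuasiSeparated x := ⟨inferInstance⟩
  haveI : QuasiCompact (Limits.pullback.snd x y) := inferInstance
  haveI : QuasiSeparated (Limits.pullback.snd x y) := inferInstance
  refine ⟨K, hK, GrothLib.FunMor20.isFlatOver_kernel h 𝔽 K t ht', fun M hM q hq => ?_, ?_⟩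
  · obtain ⟨n, rfl⟩ := Nat.exists_eq_succ_of_ne_zero (by omega : q ≠ 0)
    exact GrothLib.FunMor20.isZero_Rpush_kernel h 𝔽 K t ht' ⟨M, hM⟩ n
  · haveI := GrothLib.FunMor20.isIso_of_affinePush h 𝔽 K t ht'
    exact ⟨asIso t⟩

end Groth.Agent.S6757
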