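import Groth.Statements.S6762
import Groth.Agent.Lib.FunMor20.FMNat

set_option autoImplicit false
set_option maxHeartbeats 1000000
set_option linter.style.haveILetI false
set_option backward.isDefEq.respectTransparency.types false
universe u
open CategoryTheory AlgebraicGeometry
attribute [local instance] HasDerivedCategory.standard
open FunMor

namespace Groth.Agent.S6762

/-- Let R be a ring, X and Y schemes over R with X affine, K a quasi-coherent O_{X ×_R Y}-module and F_K
the functor M ↦ pr_{2,*}(pr_1^* M ⊗ K). Let f : X' ⟶ X be an affine morphism, view X' over R through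
f, and let g : X' ×_R Y ⟶ X ×_R Y be the morphism f × id_Y (characterised by its two components).
Then F_K ∘ f_* is isomorphic, as a functor on quasi-coherent O_{X'}-modules, to the functor M' ↦
pr'_{2,*}(pr'^*_1 M' ⊗ g^* K) attached to the quasi-coherent module g^* K on X' ×_R Y. -/
theorem result
    (R : Type u) [CommRing R] (X Y : Scheme.{u}) [X.Over (Spec (.of R))] [Y.Over (Spec (.of R))] [IsAffine X]
    (K : (Limits.pullback (X ↘ Spec (.of R)) (Y ↘ Spec (.of R))).Modules) (hK : Coh.IsQCoh K)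
    {X' : Scheme.{u}} (f : X' ⟶ X) [IsAffineHom f]
    (g : (Limits.pullback (f ≫ (X ↘ Spec (.of R))) (Y ↘ Spec (.of R))) ⟶ (Limits.pullback (X ↘ Spec (.of R)) (Y ↘ Spec (.of R))))
    (hg₁ : g ≫ (Limits.pullback.fst (X ↘ Spec (.of R)) (Y ↘ Spec (.of R))) = (Limits.pullback.fst (f ≫ (X ↘ Spec (.of R))) (Y ↘ Spec (.of R))) ≫ f) (hg₂ : g ≫ (Limits.pullback.snd (X ↘ Spec (.of R)) (Y ↘ Spec (.of R))) = (Limits.pullback.snd (f ≫ (X ↘ Spec (.of R))) (Y ↘ Spec (.of R)))) :
    Nonempty (ObjectProperty.ι (QCohCat.isQCoh X') ⋙ Coh.push f ⋙ (Scheme.Modules.pullback (Limits.pullback.fst (X ↘ Spec (.of R)) (Y ↘ Spec (.of R))) ⋙ DCoh.tensorRightMod K ⋙ Coh.push (Limits.pullback.snd (X ↘ Spec (.of R)) (Y ↘ Spec (.of R)))) ≅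
      ObjectProperty.ι (QCohCat.isQCoh X') ⋙ (Scheme.Modules.pullback (Limits.pullback.fst (f ≫ (X ↘ Spec (.of R))) (Y ↘ Spec (.of R))) ⋙ DCoh.tensorRightMod ((Scheme.Modules.pullback g).obj K) ⋙ Coh.push (Limits.pullback.snd (f ≫ (X ↘ Spec (.of R))) (Y ↘ Spec (.of R))))) := by
  let x := X ↘ Spec (CommRingCat.of R)
  let y := Y ↘ Spec (CommRingCat.of R)
  have h : IsPullback (Limits.pullback.fst (f ≫ x) y) g f (Limits.pullback.fst x y) :=
    (IsPullback.of_right (h₁₂ := Limits.pullback.snd x y) (v₁₃ := y)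
      (by rw [hg₂]; exact (IsPullback.of_hasPullback (f ≫ x) y).flip) hg₁
      (IsPullback.of_hasPullback x y).flip).flip
  haveI : K.IsQuasicoherent := hK
  let q := Limits.pullback.snd x y
  let q' := Limits.pullback.snd (f ≫ x) y
  let H := ObjectProperty.ι (QCohCat.isQCoh X') ⋙ Scheme.Modules.pullback (Limits.pullback.fst (f ≫ x) y) ⋙
    DCoh.tensorRightMod ((Scheme.Modules.pullback g).obj K)
  exact ⟨Functor.isoWhiskerRight (GrothLib.FunMor20.pushSquareIso h K) (Scheme.Modules.pushforward q) ≪≫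
    Functor.isoWhiskerLeft H (Scheme.Modules.pushforwardComp g q ≪≫ Scheme.Modules.pushforwardCongr hg₂)⟩

end Groth.Agent.S6762
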