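import Groth.Statements.S6763
import Groth.Agent.Lib.FunMor20.FMNat
import Groth.Agent.Lib.FlatBC.Push

set_option autoImplicit false
set_option maxHeartbeats 1000000
set_option linter.style.haveILetI false
set_option backward.isDefEq.respectTransparency.types false
universe u
open CategoryTheory AlgebraicGeometry
attribute [local instance] HasDerivedCategory.standard
open FunMor

namespace Groth.Agent.S6763

/-- Let R be a ring, X and Y schemes over R with X affine, K a quasi-coherent O_{X ×_R Y}-module and F_K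
the functor M ↦ pr_{2,*}(pr_1^* M ⊗ K). Let g : Y' ⟶ Y be a flat morphism, view Y' over R through g,
and let h : X ×_R Y' ⟶ X ×_R Y be the morphism id_X × g (characterised by its two components). Then
g^* ∘ F_K is isomorphic, as a functor on quasi-coherent O_X-modules, to the functor M ↦
pr'_{2,*}(pr'^*_1 M ⊗ h^* K) attached to the quasi-coherent module h^* K on X ×_R Y'. (The case of
an open immersion g is a special case.) -/
theorem result
    (R : Type u) [CommRing R] (X Y : Scheme.{u}) [X.Over (Spec (.of R))] [Y.Over (Spec (.of R))] [IsAffine X]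
    (K : (Limits.pullback (X ↘ Spec (.of R)) (Y ↘ Spec (.of R))).Modules) (hK : Coh.IsQCoh K)
    {Y' : Scheme.{u}} (g : Y' ⟶ Y) [Flat g]
    (h : (Limits.pullback (X ↘ Spec (.of R)) (g ≫ (Y ↘ Spec (.of R)))) ⟶ (Limits.pullback (X ↘ Spec (.of R)) (Y ↘ Spec (.of R))))
    (hh₁ : h ≫ (Limits.pullback.fst (X ↘ Spec (.of R)) (Y ↘ Spec (.of R))) = (Limits.pullback.fst (X ↘ Spec (.of R)) (g ≫ (Y ↘ Spec (.of R))))) (hh₂ : h ≫ (Limits.pullback.snd (X ↘ Spec (.of R)) (Y ↘ Spec (.of R))) = (Limits.pullback.snd (X ↘ Spec (.of R)) (g ≫ (Y ↘ Spec (.of R)))) ≫ g) :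
    Nonempty ((ObjectProperty.ι (QCohCat.isQCoh X) ⋙ Scheme.Modules.pullback (Limits.pullback.fst (X ↘ Spec (.of R)) (Y ↘ Spec (.of R))) ⋙ DCoh.tensorRightMod K ⋙ Coh.push (Limits.pullback.snd (X ↘ Spec (.of R)) (Y ↘ Spec (.of R)))) ⋙ Scheme.Modules.pullback g ≅
      ObjectProperty.ι (QCohCat.isQCoh X) ⋙ (Scheme.Modules.pullback (Limits.pullback.fst (X ↘ Spec (.of R)) (g ≫ (Y ↘ Spec (.of R)))) ⋙ DCoh.tensorRightMod ((Scheme.Modules.pullback h).obj K) ⋙ Coh.push (Limits.pullback.snd (X ↘ Spec (.of R)) (g ≫ (Y ↘ Spec (.of R)))))) := by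
  let x := X ↘ Spec (CommRingCat.of R)
  let y := Y ↘ Spec (CommRingCat.of R)
  let p := Limits.pullback.fst x y
  let q := Limits.pullback.snd x y
  let p' := Limits.pullback.fst x (g ≫ y)
  let q' := Limits.pullback.snd x (g ≫ y)
  have hsq : IsPullback h q' q g :=
    IsPullback.of_right (h₁₂ := p) (v₁₃ := x)
      (by rw [hh₁]; exact IsPullback.of_hasPullback x (g ≫ y)) hh₂ (IsPullback.of_hasPullback x y)
  haveI : IsAffineHom q := MorphismProperty.pullback_snd (P := @IsAffineHom) _ _ inferInstance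
  let G := ObjectProperty.ι (QCohCat.isQCoh X) ⋙ Scheme.Modules.pullback p ⋙ DCoh.tensorRightMod K
  have hG : ∀ M, (G.obj M).IsQuasicoherent := fun M =>
    GrothLib.VA.isQCoh_tensor (GrothLib.VA.isQCoh_pullback p M.property) hK
  have hbc : ∀ M, IsIso (GrothLib.AffBC.bcMap hsq (G.obj M)) := fun M =>
    haveI := hG M
    GrothLib.FlatBC.isIso_bcMap hsq (G.obj M)
  let bc : G ⋙ Scheme.Modules.pushforward q ⋙ Scheme.Modules.pullback g ≅
      G ⋙ Scheme.Modules.pullback h ⋙ Scheme.Modules.pushforward q' :=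
    NatIso.ofComponents (fun M => @asIso _ _ _ _ _ (hbc M)) fun a => GrothLib.FunMor20.bcMap_natural hsq (G.map a)
  let τ : Scheme.Modules.pullback p ⋙ DCoh.tensorRightMod K ⋙ Scheme.Modules.pullback h ≅
      (Scheme.Modules.pullback p ⋙ Scheme.Modules.pullback h) ⋙ DCoh.tensorRightMod ((Scheme.Modules.pullback h).obj K) :=
    Functor.isoWhiskerLeft (Scheme.Modules.pullback p)
      (NatIso.ofComponents (F := DCoh.tensorRightMod K ⋙ Scheme.Modules.pullback h)
        (G := Scheme.Modules.pullback h ⋙ DCoh.tensorRightMod ((Scheme.Modules.pullback h).obj K))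
        (fun M => GrothLib.OX.pullTensorIso h M K)
        (fun a => GrothLib.OX.pullTensorIso_natural₁ h a K))
  let pp : Scheme.Modules.pullback p ⋙ Scheme.Modules.pullback h ≅ Scheme.Modules.pullback p' :=
    Scheme.Modules.pullbackComp h p ≪≫ Scheme.Modules.pullbackCongr hh₁
  exact ⟨bc ≪≫ Functor.isoWhiskerLeft (ObjectProperty.ι (QCohCat.isQCoh X))
    (Functor.isoWhiskerRight (τ ≪≫ Functor.isoWhiskerRight pp _) (Scheme.Modules.pushforward q'))⟩

end Groth.Agent.S6763
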