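import Groth.Statements.S6764
import Groth.Agent.S6736
import Groth.Agent.Lib.FunMor20.Compose
import Groth.Agent.Lib.FunMor20.Coprod

set_option autoImplicit false
set_option maxHeartbeats 1000000
set_option linter.style.haveILetI false
set_option backward.isDefEq.respectTransparency.types false
universe u
open CategoryTheory AlgebraicGeometry
attribute [local instance] HasDerivedCategory.standard
open FunMor

namespace Groth.Agent.S6764

/-- Fix a ring R and R-schemes X, Y, Z, where X and Y are quasi-compact and have affine diagonal.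
Suppose the functors F from QCoh(O_X) to QCoh(O_Y) and G from QCoh(O_Y) to QCoh(O_Z) are exact,
R-linear, and preserve arbitrary direct sums, and let K on X ×_R Y and L on Y ×_R Z be
quasi-coherent kernels for them: K is flat over X, L is flat over Y, the higher direct images R^n
pr_{2,*}(pr_1^* M ⊗ K) and R^n pr_{2,*}(pr_1^* N ⊗ L) vanish for n > 0 and M, N quasi-coherent
(right derived functors; injective resolutions carried as binders), and F ≅ pr_{2,*}(pr_1^*(-) ⊗ K),
G ≅ pr_{2,*}(pr_1^*(-) ⊗ L) as functors to O-modules. Realise X ×_R Y ×_R Z as (X ×_R Y) ×_Y (Y ×_R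
Z) with projections pr_{12}, pr_{23} and let pr_{13} be its morphism to X ×_R Z determined by the
two components. Then G ∘ F is isomorphic, as a functor QCoh(O_X) ⥤ Mod(O_Z), to M ↦ pr_{2,*}(pr_1^*
M ⊗ E) with E = pr_{13,*}(pr_{12}^* K ⊗ pr_{23}^* L). -/
theorem result
    (R : Type u) [CommRing R] (X Y Z : Scheme.{u}) [X.Over (Spec (.of R))] [Y.Over (Spec (.of R))] [Z.Over (Spec (.of R))]
    [CompactSpace X] [IsAffineHom (Limits.pullback.diagonal (X ↘ Spec (.of R)))]
    [CompactSpace Y] [IsAffineHom (Limits.pullback.diagonal (Y ↘ Spec (.of R)))]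
    [HasInjectiveResolutions (Limits.pullback (X ↘ Spec (.of R)) (Y ↘ Spec (.of R))).Modules] [HasInjectiveResolutions (Limits.pullback (Y ↘ Spec (.of R)) (Z ↘ Spec (.of R))).Modules]
    (F : QCohCat.QCoh X ⥤ QCohCat.QCoh Y) [F.Additive] [F.Linear R]
    [Limits.PreservesFiniteLimits F] [Limits.PreservesFiniteColimits F]
    [∀ J : Type u, Limits.PreservesColimitsOfShape (Discrete J) F]
    (G : QCohCat.QCoh Y ⥤ QCohCat.QCoh Z) [G.Additive] [G.Linear R]
    [Limits.PreservesFiniteLimits G] [Limits.PreservesFiniteColimits G]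
    [∀ J : Type u, Limits.PreservesColimitsOfShape (Discrete J) G]
    (K : (Limits.pullback (X ↘ Spec (.of R)) (Y ↘ Spec (.of R))).Modules) (hK : Coh.IsQCoh K) (hKf : FlatMod.IsFlatOver (Limits.pullback.fst (X ↘ Spec (.of R)) (Y ↘ Spec (.of R))) K)
    (hKa : (∀ (M : X.Modules), Coh.IsQCoh M → ∀ n : ℕ, 0 < n →
      Limits.IsZero ((Coh.Rpush (Limits.pullback.snd (X ↘ Spec (.of R)) (Y ↘ Spec (.of R))) n).obj ((DCoh.tensorRightMod K).obj ((Scheme.Modules.pullback (Limits.pullback.fst (X ↘ Spec (.of R)) (Y ↘ Spec (.of R)))).obj M)))))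
    (hFK : Nonempty (F ⋙ ObjectProperty.ι (QCohCat.isQCoh Y) ≅ ObjectProperty.ι (QCohCat.isQCoh X) ⋙ (Scheme.Modules.pullback (Limits.pullback.fst (X ↘ Spec (.of R)) (Y ↘ Spec (.of R))) ⋙ DCoh.tensorRightMod K ⋙ Coh.push (Limits.pullback.snd (X ↘ Spec (.of R)) (Y ↘ Spec (.of R))))))
    (L : (Limits.pullback (Y ↘ Spec (.of R)) (Z ↘ Spec (.of R))).Modules) (hL : Coh.IsQCoh L) (hLf : FlatMod.IsFlatOver (Limits.pullback.fst (Y ↘ Spec (.of R)) (Z ↘ Spec (.of R))) L)
    (hLa : (∀ (M : Y.Modules), Coh.IsQCoh M → ∀ n : ℕ, 0 < n →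
      Limits.IsZero ((Coh.Rpush (Limits.pullback.snd (Y ↘ Spec (.of R)) (Z ↘ Spec (.of R))) n).obj ((DCoh.tensorRightMod L).obj ((Scheme.Modules.pullback (Limits.pullback.fst (Y ↘ Spec (.of R)) (Z ↘ Spec (.of R)))).obj M)))))
    (hGL : Nonempty (G ⋙ ObjectProperty.ι (QCohCat.isQCoh Z) ≅ ObjectProperty.ι (QCohCat.isQCoh Y) ⋙ (Scheme.Modules.pullback (Limits.pullback.fst (Y ↘ Spec (.of R)) (Z ↘ Spec (.of R))) ⋙ DCoh.tensorRightMod L ⋙ Coh.push (Limits.pullback.snd (Y ↘ Spec (.of R)) (Z ↘ Spec (.of R))))))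
    (pr₁₃ : (Limits.pullback (Limits.pullback.snd (X ↘ Spec (.of R)) (Y ↘ Spec (.of R))) (Limits.pullback.fst (Y ↘ Spec (.of R)) (Z ↘ Spec (.of R)))) ⟶ (Limits.pullback (X ↘ Spec (.of R)) (Z ↘ Spec (.of R))))
    (h₁ : pr₁₃ ≫ (Limits.pullback.fst (X ↘ Spec (.of R)) (Z ↘ Spec (.of R))) = (Limits.pullback.fst (Limits.pullback.snd (X ↘ Spec (.of R)) (Y ↘ Spec (.of R))) (Limits.pullback.fst (Y ↘ Spec (.of R)) (Z ↘ Spec (.of R)))) ≫ (Limits.pullback.fst (X ↘ Spec (.of R)) (Y ↘ Spec (.of R))))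
    (h₂ : pr₁₃ ≫ (Limits.pullback.snd (X ↘ Spec (.of R)) (Z ↘ Spec (.of R))) = (Limits.pullback.snd (Limits.pullback.snd (X ↘ Spec (.of R)) (Y ↘ Spec (.of R))) (Limits.pullback.fst (Y ↘ Spec (.of R)) (Z ↘ Spec (.of R)))) ≫ (Limits.pullback.snd (Y ↘ Spec (.of R)) (Z ↘ Spec (.of R)))) :
    Nonempty ((F ⋙ G) ⋙ ObjectProperty.ι (QCohCat.isQCoh Z) ≅
      ObjectProperty.ι (QCohCat.isQCoh X) ⋙
        (Scheme.Modules.pullback (Limits.pullback.fst (X ↘ Spec (.of R)) (Z ↘ Spec (.of R))) ⋙ DCoh.tensorRightMod ((Coh.push pr₁₃).obj (CohB1.tensorMod ((Scheme.Modules.pullback (Limits.pullback.fst (Limits.pullback.snd (X ↘ Spec (.of R)) (Y ↘ Spec (.of R))) (Limits.pullback.fst (Y ↘ Spec (.of R)) (Z ↘ Spec (.of R))))).obj K) ((Scheme.Modules.pullback (Limits.pullback.snd (Limits.pullback.snd (X ↘ Spec (.of R)) (Y ↘ Spec (.of R))) (Limits.pullback.fst (Y ↘ Spec (.of R)) (Z ↘ Spec (.of R))))).obj L))) ⋙ Coh.push (Limits.pullback.snd (X ↘ Spec (.of R)) (Z ↘ Spec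 (.of R))))) := by
  let S := Spec (CommRingCat.of R)
  let x : X ⟶ S := X ↘ S
  let y : Y ⟶ S := Y ↘ S
  let z : Z ⟶ S := Z ↘ S
  let p₁ := Limits.pullback.fst x y
  let q₁ := Limits.pullback.snd x y
  let p₂ := Limits.pullback.fst y z
  let q₂ := Limits.pullback.snd y z
  let p₃ := Limits.pullback.fst x z
  let q₃ := Limits.pullback.snd x z
  let a := Limits.pullback.fst q₁ p₂
  let b := Limits.pullback.snd q₁ p₂
  let c := pr₁₃
  have h : IsPullback a b q₁ p₂ := IsPullback.of_hasPullback q₁ p₂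
  let K' := (Scheme.Modules.pullback a).obj K
  let L' := (Scheme.Modules.pullback b).obj L
  let E' := CohB1.tensorMod K' L'
  obtain ⟨eF⟩ := hFK
  obtain ⟨eG⟩ := hGL
  -- exactness of the first transform
  let F₁ := GrothLib.FunMor20.preFM p₁ K ⋙ Coh.push q₁
  let eF' : F ⋙ ObjectProperty.ι (QCohCat.isQCoh Y) ≅ F₁ := eF
  haveI := GrothLib.QCohCat20.preservesFiniteLimits_ι (X := Y)
  haveI := GrothLib.FunMor20.preservesFiniteColimits_ι Y
  haveI : Limits.PreservesFiniteLimits (F ⋙ ObjectProperty.ι (QCohCat.isQCoh Y)) :=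
    Limits.comp_preservesFiniteLimits F _
  haveI : Limits.PreservesFiniteColimits (F ⋙ ObjectProperty.ι (QCohCat.isQCoh Y)) :=
    Limits.comp_preservesFiniteColimits F _
  have hex₁ : Limits.PreservesFiniteLimits F₁ ∧ Limits.PreservesFiniteColimits F₁ :=
    ⟨Limits.preservesFiniteLimits_of_natIso eF', Limits.preservesFiniteColimits_of_natIso eF'⟩
  obtain ⟨e₁⟩ := GrothLib.FunMor20.nonempty_step₁ (IsPullback.of_hasPullback x y) h K hK hKf L hL hLf hex₁
  -- the middle functor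
  let H := GrothLib.FunMor20.preFM p₁ K ⋙ Scheme.Modules.pullback a ⋙ DCoh.tensorRightMod L'
  haveI := (GrothLib.FunMor20.exact_preFM p₁ K hKf).1
  haveI := (GrothLib.FunMor20.exact_preFM p₁ K hKf).2
  haveI : L.IsQuasicoherent := hL
  have hH := GrothLib.FunMor20.exact_pullback_tensor (GrothLib.FunMor20.preFM p₁ K) a L'
    (GrothLib.FlatDesc.isFlatOver_baseChange h.flip L hLf)
  haveI : Limits.PreservesFiniteLimits H := hH.1
  haveI : Limits.PreservesFiniteColimits H := hH.2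
  haveI : QuasiCompact y := (HasAffineProperty.iff_of_isAffine (P := @QuasiCompact)).2 ‹CompactSpace Y›
  haveI : QuasiSeparated y := (quasiSeparated_iff _).2 inferInstance
  haveI : QuasiCompact q₂ := MorphismProperty.pullback_snd (P := @QuasiCompact) _ _ inferInstance
  haveI : QuasiSeparated q₂ := MorphismProperty.pullback_snd (P := @QuasiSeparated) _ _ inferInstance
  have hsq : IsPullback c b q₃ q₂ := by
    refine IsPullback.of_right ?_ h₂ (IsPullback.of_hasPullback x z)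
    have hbig : IsPullback (a ≫ p₁) b x (p₂ ≫ y) :=
      (IsPullback.of_hasPullback q₁ p₂).paste_horiz (IsPullback.of_hasPullback x y)
    rw [h₁]
    have he : q₂ ≫ z = p₂ ≫ y := Limits.pullback.condition.symm
    rw [he]
    exact hbig
  haveI : QuasiCompact c := MorphismProperty.of_isPullback hsq.flip ‹QuasiCompact q₂›
  haveI : QuasiSeparated c := MorphismProperty.of_isPullback hsq.flip ‹QuasiSeparated q₂›
  have hHq : ∀ N, (H.obj N).IsQuasicoherent := fun N =>
    GrothLib.VA.isQCoh_tensor (GrothLib.VA.isQCoh_pullback a (GrothLib.FunMor20.qcoh_preFM p₁ K hK N))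
      (GrothLib.VA.isQCoh_pullback b hL)
  have hR : ∀ N, Limits.IsZero ((Coh.Rpush c 1).obj (H.obj N)) := fun N =>
    Groth.Agent.S6736.result R Y Z L hL hLf hLa X c h₁ h₂ ((GrothLib.FunMor20.preFM p₁ K).obj N)
      (GrothLib.FunMor20.qcoh_preFM p₁ K hK N) 1 one_pos
  obtain ⟨hc₁, hc₂⟩ := GrothLib.FunMor20.exact_comp_push H c hHq hR
  haveI hHsum : ∀ J : Type u, Limits.PreservesColimitsOfShape (Discrete J) H := fun J =>
    haveI := GrothLib.FunMor20.preservesDiscrete_preFM p₁ K J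
    GrothLib.FunMor20.preservesDiscrete_pullback_tensor _ a L' J
  haveI hcsum : ∀ J : Type u, Limits.PreservesColimitsOfShape (Discrete J) (H ⋙ Coh.push c) := fun J =>
    haveI : Limits.PreservesColimitsOfShape (Discrete J) (Coh.push c) :=
      GrothLib.FunMor20.preservesColimitsOfShape_pushforward_discrete c J
    Limits.comp_preservesColimitsOfShape H (Coh.push c)
  -- comparison with the kernel
  let P : Scheme.Modules.pullback p₃ ⋙ Scheme.Modules.pullback c ≅ Scheme.Modules.pullback p₁ ⋙ Scheme.Modules.pullback a :=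
    Scheme.Modules.pullbackComp c p₃ ≪≫ Scheme.Modules.pullbackCongr h₁ ≪≫ (Scheme.Modules.pullbackComp a p₁).symm
  let α : DCoh.tensorRightMod K ⋙ Scheme.Modules.pullback a ⋙ DCoh.tensorRightMod L' ≅
      Scheme.Modules.pullback a ⋙ DCoh.tensorRightMod E' :=
    NatIso.ofComponents
      (fun M => ((DCoh.tensorBi).mapIso (GrothLib.OX.pullTensorIso a M K)).app L' ≪≫
        GrothLib.OX.tensorAssoc ((Scheme.Modules.pullback a).obj M) K' L')
      (fun {M M'} f => by
        have h1 := congrArg (fun φ => ((DCoh.tensorBi).map φ).app L') (GrothLib.OX.pullTensorIso_natural₁ a f K)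
        simp only [Functor.map_comp, NatTrans.comp_app] at h1
        have h2 := GrothLib.OX.tensorAssoc_natural₁ ((Scheme.Modules.pullback a).map f) K' L'
        simp only [Iso.trans_hom, Iso.app_hom, Functor.mapIso_hom, Category.assoc]
        erw [reassoc_of% h1, h2]
        rfl)
  let Hc := ObjectProperty.ι (QCohCat.isQCoh X) ⋙ Scheme.Modules.pullback p₃ ⋙ Scheme.Modules.pullback c ⋙ DCoh.tensorRightMod E'
  let eH : H ≅ Hc :=
    Functor.isoWhiskerLeft (ObjectProperty.ι (QCohCat.isQCoh X) ⋙ Scheme.Modules.pullback p₁) α ≪≫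
      Functor.isoWhiskerLeft (ObjectProperty.ι (QCohCat.isQCoh X)) (Functor.isoWhiskerRight P.symm (DCoh.tensorRightMod E'))
  let eHc : H ⋙ Coh.push c ≅ Hc ⋙ Coh.push c := Functor.isoWhiskerRight eH _
  obtain ⟨e₃⟩ := GrothLib.FunMor20.nonempty_step₃ x p₃ c E' (Limits.preservesFiniteColimits_of_natIso eHc)
    (fun J => Limits.preservesColimitsOfShape_of_natIso eHc)
  exact ⟨Functor.isoWhiskerLeft F eG ≪≫
    Functor.isoWhiskerRight eF' (Scheme.Modules.pullback p₂ ⋙ DCoh.tensorRightMod L ⋙ Coh.push q₂) ≪≫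
    Functor.isoWhiskerRight e₁ (Coh.push q₂) ≪≫
    Functor.isoWhiskerLeft H (Scheme.Modules.pushforwardComp b q₂ ≪≫ Scheme.Modules.pushforwardCongr h₂.symm ≪≫
      (Scheme.Modules.pushforwardComp c q₃).symm) ≪≫
    Functor.isoWhiskerRight eHc (Coh.push q₃) ≪≫
    Functor.isoWhiskerRight e₃.symm (Coh.push q₃)⟩

end Groth.Agent.S6764
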