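import Groth.Statements.S6767
import Groth.Agent.S6736
import Groth.Agent.Lib.FunMor20.Compose
import Groth.Agent.Lib.UnitsThick26.FlatIdeal
import Groth.Agent.Lib.FlatBC.Push

set_option autoImplicit false
set_option maxHeartbeats 1000000
set_option linter.style.haveILetI false
set_option backward.isDefEq.respectTransparency.types false
universe u
open CategoryTheory AlgebraicGeometry
attribute [local instance] HasDerivedCategory.standard
open FunMor

namespace Groth.Agent.S6767

/-- Let R be a ring and X, Y schemes over R with X quasi-compact, separated and flat over R. Let K be a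
quasi-coherent O_{X ×_R Y}-module which is flat over X and such that R^q pr_{2,*}(pr_1^* M ⊗ K) = 0
for every quasi-coherent O_X-module M and every q > 0 (right derived functors of pr_{2,*}; the
existence of injective resolutions is carried as a binder) — that is, K is the kernel of the exact
functor M ↦ pr_{2,*}(pr_1^* M ⊗ K). Then there is an epimorphism O_X ⊠ F(O_X) = pr_1^* O_X ⊗ pr_2^*
(pr_{2,*} K) ⟶ K of O_{X ×_R Y}-modules (existence of such an epimorphism; pr_{2,*}(pr_1^* O_X ⊗ K)
is written as pr_{2,*} K). -/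
theorem result
    (R : Type u) [CommRing R] (X Y : Scheme.{u}) [X.Over (Spec (.of R))] [Y.Over (Spec (.of R))] [CompactSpace X] [IsSeparated (X ↘ Spec (.of R))] [Flat (X ↘ Spec (.of R))]
    [HasInjectiveResolutions (Limits.pullback (X ↘ Spec (.of R)) (Y ↘ Spec (.of R))).Modules]
    (K : (Limits.pullback (X ↘ Spec (.of R)) (Y ↘ Spec (.of R))).Modules) (hK : Coh.IsQCoh K) (hKf : FlatMod.IsFlatOver (Limits.pullback.fst (X ↘ Spec (.of R)) (Y ↘ Spec (.of R))) K)
    (hKa : ∀ (M : X.Modules), Coh.IsQCoh M → ∀ q : ℕ, 0 < q →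
      Limits.IsZero ((Coh.Rpush (Limits.pullback.snd (X ↘ Spec (.of R)) (Y ↘ Spec (.of R))) q).obj ((DCoh.tensorRightMod K).obj ((Scheme.Modules.pullback (Limits.pullback.fst (X ↘ Spec (.of R)) (Y ↘ Spec (.of R)))).obj M)))) :
    ∃ π : CohB1.tensorMod ((Scheme.Modules.pullback (Limits.pullback.fst (X ↘ Spec (.of R)) (Y ↘ Spec (.of R)))).obj (Coh.structureModule X))
        ((Scheme.Modules.pullback (Limits.pullback.snd (X ↘ Spec (.of R)) (Y ↘ Spec (.of R)))).obj ((Coh.push (Limits.pullback.snd (X ↘ Spec (.of R)) (Y ↘ Spec (.of R)))).obj K)) ⟶ K, Epi π := by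
  let S := Spec (CommRingCat.of R)
  let x : X ⟶ S := X ↘ S
  let y : Y ⟶ S := Y ↘ S
  let p := Limits.pullback.fst x y
  let q := Limits.pullback.snd x y
  let xx := Limits.pullback.snd x x
  let pr₁₂ := Limits.pullback.fst xx p
  let pr₂₃ := Limits.pullback.snd xx p
  let c : Limits.pullback xx p ⟶ Limits.pullback x y :=
    Limits.pullback.lift (pr₁₂ ≫ Limits.pullback.fst x x) (pr₂₃ ≫ q) (by
      have h1 : pr₁₂ ≫ xx = pr₂₃ ≫ p := Limits.pullback.condition
      have h2 : Limits.pullback.fst x x ≫ x = xx ≫ x := Limits.pullback.condition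
      have h3 : p ≫ x = q ≫ y := Limits.pullback.condition
      show (pr₁₂ ≫ Limits.pullback.fst x x) ≫ x = (pr₂₃ ≫ q) ≫ y
      rw [Category.assoc, h2, ← Category.assoc, h1, Category.assoc, h3, Category.assoc])
  have hc₁ : c ≫ p = pr₁₂ ≫ Limits.pullback.fst x x := Limits.pullback.lift_fst _ _ _
  have hc₂ : c ≫ q = pr₂₃ ≫ q := Limits.pullback.lift_snd _ _ _
  haveI : K.IsQuasicoherent := hK
  haveI : QuasiCompact x := (HasAffineProperty.iff_of_isAffine (P := @QuasiCompact)).2 ‹CompactSpace X›
  haveI : QuasiCompact q := MorphismProperty.pullback_snd (P := @QuasiCompact) _ _ inferInstance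
  haveI : QuasiSeparated q := MorphismProperty.pullback_snd (P := @QuasiSeparated) _ _ inferInstance
  haveI : Flat q := MorphismProperty.pullback_snd (P := @Flat) _ _ ‹Flat x›
  have hsq : IsPullback c pr₂₃ q q := by
    refine IsPullback.of_right ?_ hc₂ (IsPullback.of_hasPullback x y)
    rw [hc₁]
    have he : q ≫ y = p ≫ x := Limits.pullback.condition.symm
    rw [he]
    exact (IsPullback.of_hasPullback xx p).paste_horiz (IsPullback.of_hasPullback x x)
  haveI : QuasiCompact c := MorphismProperty.of_isPullback hsq.flip ‹QuasiCompact q›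
  haveI : QuasiSeparated c := MorphismProperty.of_isPullback hsq.flip ‹QuasiSeparated q›
  let K' := (Scheme.Modules.pullback pr₂₃).obj K
  have hK' : Coh.IsQCoh K' := GrothLib.VA.isQCoh_pullback pr₂₃ hK
  have hK'f : FlatMod.IsFlatOver pr₁₂ K' :=
    GrothLib.FlatDesc.isFlatOver_baseChange (IsPullback.of_hasPullback xx p).flip K hKf
  -- the exact transform relative to the diagonal
  let H := GrothLib.FunMor20.preFM pr₁₂ K'
  haveI := (GrothLib.FunMor20.exact_preFM pr₁₂ K' hK'f).1
  haveI := (GrothLib.FunMor20.exact_preFM pr₁₂ K' hK'f).2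
  obtain ⟨hG₁, hG₂⟩ := GrothLib.FunMor20.exact_comp_push H c (GrothLib.FunMor20.qcoh_preFM pr₁₂ K' hK')
    (fun N => Groth.Agent.S6736.result R X Y K hK hKf hKa X c hc₁ hc₂ N.obj N.property 1 one_pos)
  let G := H ⋙ Coh.push c
  haveI : Limits.PreservesFiniteColimits G := hG₂
  -- the diagonal
  let Δ := Limits.pullback.diagonal x
  let qΔ := (GrothLib.FunMor20.qcohPush Δ).obj (GrothLib.FunMor20.qO X)
  let σ : GrothLib.FunMor20.qO (Limits.pullback x x) ⟶ qΔ := ObjectProperty.homMk (ClSub.unitToPush Δ)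
  haveI := GrothLib.UnitsThick26.epi_unitToPush Δ
  haveI : Epi σ := ⟨fun a b h => ObjectProperty.hom_ext _
    ((cancel_epi (ClSub.unitToPush Δ)).1 (congrArg InducedCategory.Hom.hom h))⟩
  haveI : Epi (G.map σ) := by
    exact Functor.map_epi G σ
  -- source
  let e₀ := ((DCoh.tensorBi).mapIso (GrothLib.OX.pullUnitIso p)).app ((Scheme.Modules.pullback q).obj ((Coh.push q).obj K)) ≪≫
    GrothLib.OX.tensorUnitLeftIso _
  haveI := GrothLib.FlatBC.isIso_bcMap hsq.flip K
  let e₁ : (Scheme.Modules.pullback q).obj ((Coh.push q).obj K) ≅ (Coh.push c).obj K' :=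
    asIso (GrothLib.AffBC.bcMap hsq.flip K)
  let e₂ : (Coh.push c).obj K' ≅ G.obj (GrothLib.FunMor20.qO _) :=
    (Coh.push c).mapIso ((((DCoh.tensorBi).mapIso (GrothLib.OX.pullUnitIso pr₁₂)).app K') ≪≫ GrothLib.OX.tensorUnitLeftIso K').symm
  -- target
  let hΔ := IsPullback.of_hasPullback Δ pr₁₂
  let i := Limits.pullback.snd Δ pr₁₂
  let eΔ := (GrothLib.FunMor20.pushSquareIso hΔ K').app (GrothLib.FunMor20.qO X)
  let j := i ≫ c
  have hj : j = i ≫ pr₂₃ := by
    apply Limits.pullback.hom_ext
    · rw [Category.assoc, Category.assoc, hc₁]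
      erw [← hΔ.w_assoc, ← Limits.pullback.condition (f := xx) (g := p)]
      erw [← hΔ.w_assoc]
      rw [Limits.pullback.diagonal_fst, Limits.pullback.diagonal_snd]
    · rw [Category.assoc, Category.assoc, hc₂]
  haveI : IsIso j := by
    rw [hj]
    have h2 : IsPullback (Limits.pullback.fst Δ pr₁₂) (i ≫ pr₂₃) (Δ ≫ xx) p :=
      hΔ.paste_vert (IsPullback.of_hasPullback xx p)
    have : Δ ≫ xx = 𝟙 X := Limits.pullback.diagonal_snd x
    rw [this] at h2
    exact h2.isIso_snd_of_isIso
  let K'' := (Scheme.Modules.pullback j).obj K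
  let e₃ : (DCoh.tensorRightMod ((Scheme.Modules.pullback i).obj K')).obj
      ((Scheme.Modules.pullback (Limits.pullback.fst Δ pr₁₂)).obj (Coh.structureModule X)) ≅ K'' :=
    (((DCoh.tensorBi).mapIso (GrothLib.OX.pullUnitIso _)).app _) ≪≫ GrothLib.OX.tensorUnitLeftIso _ ≪≫
      (Scheme.Modules.pullbackComp i pr₂₃).app K ≪≫ (Scheme.Modules.pullbackCongr hj.symm).app K
  haveI : IsIso ((Scheme.Modules.pullbackPushforwardAdjunction j).unit.app K) := by
    let adj := Scheme.Modules.pullbackPushforwardAdjunction j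
    haveI hc : IsIso ((Scheme.Modules.restrictAdjunction j).counit) := inferInstance
    let ff := (Scheme.Modules.restrictAdjunction j).fullyFaithfulROfIsIsoCounit
    haveI := ff.full
    haveI := ff.faithful
    haveI : IsIso (adj.counit.app ((Scheme.Modules.pullback j).obj K)) := inferInstance
    haveI h1 : IsIso ((Scheme.Modules.pullback j).map (adj.unit.app K) ≫ adj.counit.app ((Scheme.Modules.pullback j).obj K)) := by
      erw [adj.left_triangle_components K]; infer_instance
    haveI h2 : IsIso ((Scheme.Modules.pullback j).map (adj.unit.app K)) := IsIso.of_isIso_comp_right _ (adj.counit.app ((Scheme.Modules.pullback j).obj K))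
    let P : Scheme.Modules.pullback j ⋙ Scheme.Modules.pullback (inv j) ≅ 𝟭 _ :=
      Scheme.Modules.pullbackComp (inv j) j ≪≫ Scheme.Modules.pullbackCongr (IsIso.inv_hom_id j) ≪≫ Scheme.Modules.pullbackId _
    exact (NatIso.isIso_map_iff P (adj.unit.app K)).1 (inferInstanceAs (IsIso ((Scheme.Modules.pullback (inv j)).map ((Scheme.Modules.pullback j).map (adj.unit.app K)))))
  let eT : G.obj qΔ ≅ K := (Coh.push c).mapIso (eΔ ≪≫ (Scheme.Modules.pushforward i).mapIso e₃) ≪≫
    (Scheme.Modules.pushforwardComp i c).app K'' ≪≫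
    (asIso ((Scheme.Modules.pullbackPushforwardAdjunction j).unit.app K)).symm
  exact ⟨(e₀ ≪≫ e₁ ≪≫ e₂).hom ≫ G.map σ ≫ eT.hom, epi_comp' inferInstance (epi_comp' ‹Epi (G.map σ)› inferInstance)⟩

end Groth.Agent.S6767
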