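import Groth.Statements.S6771
import Groth.Agent.Lib.FunMor20.Exact
import Groth.Agent.Lib.FunMor20.Coprod
import Groth.Agent.Lib.QCohCat20.Category
import Groth.Agent.Lib.QCohCat20.Compact
import Groth.Agent.Lib.VA.QCohPullback
import Groth.Agent.Lib.VA.Tensor
import Groth.Agent.Lib.OX.Tensor
import Mathlib.Algebra.Homology.ShortComplex.ExactFunctor

set_option autoImplicit false
set_option linter.style.haveILetI false
set_option backward.isDefEq.respectTransparency.types false
universe u
open CategoryTheory AlgebraicGeometry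
attribute [local instance] HasDerivedCategory.standard
open FunMor

namespace Groth.Agent.S6771

/-- The direction from kernels to functors: let R be a ring and X, Y schemes over R with X quasi-compact
with affine diagonal, and let K be a quasi-coherent O_{X ×_R Y}-module which is flat over X and such
that R^q pr_{2,*}(pr_1^* M ⊗ K) = 0 for every quasi-coherent O_X-module M and every q > 0 (right
derived functors of pr_{2,*}; injective resolutions carried as a binder). Then the functor F_K : M ↦
pr_{2,*}(pr_1^* M ⊗ K), from quasi-coherent O_X-modules to O_Y-modules, is exact (preserves finite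
limits and finite colimits) and commutes with arbitrary direct sums. -/
theorem result
    (R : Type u) [CommRing R] (X Y : Scheme.{u}) [X.Over (Spec (.of R))] [Y.Over (Spec (.of R))] [CompactSpace X] [IsAffineHom (Limits.pullback.diagonal (X ↘ Spec (.of R)))]
    [HasInjectiveResolutions (Limits.pullback (X ↘ Spec (.of R)) (Y ↘ Spec (.of R))).Modules]
    (K : (Limits.pullback (X ↘ Spec (.of R)) (Y ↘ Spec (.of R))).Modules) (hK : Coh.IsQCoh K) (hKf : FlatMod.IsFlatOver (Limits.pullback.fst (X ↘ Spec (.of R)) (Y ↘ Spec (.of R))) K)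
    (hKa : ∀ (M : X.Modules), Coh.IsQCoh M → ∀ q : ℕ, 0 < q →
      Limits.IsZero ((Coh.Rpush (Limits.pullback.snd (X ↘ Spec (.of R)) (Y ↘ Spec (.of R))) q).obj ((DCoh.tensorRightMod K).obj ((Scheme.Modules.pullback (Limits.pullback.fst (X ↘ Spec (.of R)) (Y ↘ Spec (.of R)))).obj M)))) :
    Limits.PreservesFiniteLimits (ObjectProperty.ι (QCohCat.isQCoh X) ⋙ Scheme.Modules.pullback (Limits.pullback.fst (X ↘ Spec (.of R)) (Y ↘ Spec (.of R))) ⋙ DCoh.tensorRightMod K ⋙ Coh.push (Limits.pullback.snd (X ↘ Spec (.of R)) (Y ↘ Spec (.of R)))) ∧ Limits.PreservesFiniteColimits (ObjectProperty.ι (QCohCat.isQCoh X) ⋙ Scheme.Modules.pullback (Limits.pullback.fst (X ↘ Spec (.of R)) (Y ↘ Spec (.of R))) ⋙ DCoh.tensorRightMod K ⋙ Coh.push (Limits.pullback.snd (X ↘ Spec (.of R)) (Y ↘ Spec (.of R)))) ∧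
      ∀ J : Type u, Limits.PreservesColimitsOfShape (Discrete J) (ObjectProperty.ι (QCohCat.isQCoh X) ⋙ Scheme.Modules.pullback (Limits.pullback.fst (X ↘ Spec (.of R)) (Y ↘ Spec (.of R))) ⋙ DCoh.tensorRightMod K ⋙ Coh.push (Limits.pullback.snd (X ↘ Spec (.of R)) (Y ↘ Spec (.of R)))) := by
  let p := Limits.pullback.fst (X ↘ Spec (.of R)) (Y ↘ Spec (.of R))
  let q := Limits.pullback.snd (X ↘ Spec (.of R)) (Y ↘ Spec (.of R))
  haveI : QuasiCompact (X ↘ Spec (.of R)) :=
    (HasAffineProperty.iff_of_isAffine (P := @QuasiCompact)).2 ‹CompactSpace X›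
  haveI : QuasiSeparated (X ↘ Spec (.of R)) := (quasiSeparated_iff _).2 inferInstance
  haveI : QuasiCompact q := MorphismProperty.pullback_snd (P := @QuasiCompact) _ _ inferInstance
  haveI : QuasiSeparated q := MorphismProperty.pullback_snd (P := @QuasiSeparated) _ _ inferInstance
  haveI : Limits.PreservesColimitsOfSize.{u, u} (DCoh.tensorRightMod K) :=
    inferInstanceAs (Limits.PreservesColimitsOfSize.{u, u} ((DCoh.tensorBi).flip.obj K))
  haveI : Limits.PreservesColimitsOfSize.{u, u} (Scheme.Modules.pullback p) :=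
    (Scheme.Modules.pullbackPushforwardAdjunction p).leftAdjoint_preservesColimits
  let H := Scheme.Modules.pullback p ⋙ DCoh.tensorRightMod K
  let G := ObjectProperty.ι (QCohCat.isQCoh X) ⋙ H ⋙ Coh.push q
  haveI := GrothLib.QCohCat20.preservesFiniteLimits_ι (X := X)
  haveI : Limits.PreservesFiniteColimits (ObjectProperty.ι (QCohCat.isQCoh X)) :=
    Limits.preservesFiniteColimits_of_preservesFiniteColimitsOfSize.{u} _ fun J _ _ =>
      ⟨fun {D} => GrothLib.QCohCat20.preservesColimit_ι D⟩
  haveI : Limits.PreservesFiniteColimits H :=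
    Limits.preservesFiniteColimits_of_preservesFiniteColimitsOfSize.{u} _ fun J _ _ => inferInstance
  haveI : Limits.PreservesBinaryBiproducts H := Limits.preservesBinaryBiproducts_of_preservesBinaryCoproducts H
  haveI : H.Additive := Functor.additive_of_preservesBinaryBiproducts H
  haveI : (Coh.push q).Additive := (Scheme.Modules.pullbackPushforwardAdjunction q).right_adjoint_additive
  haveI : Limits.PreservesFiniteLimits (Coh.push q) :=
    haveI := (Scheme.Modules.pullbackPushforwardAdjunction q).rightAdjoint_preservesLimits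
    Limits.PreservesLimitsOfSize.preservesFiniteLimits _
  haveI : Limits.PreservesBinaryBiproducts (ObjectProperty.ι (QCohCat.isQCoh X)) :=
    Limits.preservesBinaryBiproducts_of_preservesBinaryCoproducts _
  haveI : (ObjectProperty.ι (QCohCat.isQCoh X)).Additive := Functor.additive_of_preservesBinaryBiproducts _
  haveI : G.Additive := inferInstance
  have hG : ∀ S : ShortComplex (QCohCat.QCoh X), S.ShortExact → (S.map G).ShortExact := fun S hS => by
    have h1 := hS.map_of_exact (ObjectProperty.ι (QCohCat.isQCoh X))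
    haveI hm : Mono (H.map ((ObjectProperty.ι (QCohCat.isQCoh X)).map S.f)) := by
      haveI : Mono ((ObjectProperty.ι (QCohCat.isQCoh X)).map S.f) := h1.mono_f
      exact GrothLib.FunMor20.mono_pullback_tensor p K hKf ((ObjectProperty.ι (QCohCat.isQCoh X)).map S.f)
    have h2 : ((S.map (ObjectProperty.ι (QCohCat.isQCoh X))).map H).ShortExact :=
      { exact := (h1.exact.map_of_epi_of_preservesCokernel H h1.epi_g inferInstance)
        mono_f := hm
        epi_g := by
          haveI := h1.epi_g
          exact H.map_epi _ }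
    have hq : ∀ (M : QCohCat.QCoh X), (H.obj M.obj).IsQuasicoherent := fun M =>
      GrothLib.VA.isQCoh_tensor (GrothLib.VA.isQCoh_pullback p M.property) hK
    haveI : (((S.map (ObjectProperty.ι (QCohCat.isQCoh X))).map H).X₁).IsQuasicoherent := hq S.X₁
    haveI : (((S.map (ObjectProperty.ι (QCohCat.isQCoh X))).map H).X₃).IsQuasicoherent := hq S.X₃
    exact
      { exact := h2.exact.map_of_mono_of_preservesKernel (Coh.push q) h2.mono_f inferInstance
        mono_f := by
          haveI := h2.mono_f
          exact (Coh.push q).map_mono _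
        epi_g := GrothLib.FunMor20.epi_push_of_Rpush q h2 (hKa S.X₁.obj S.X₁.property 1 one_pos) }
  have hboth : Limits.PreservesFiniteLimits G ∧ Limits.PreservesFiniteColimits G :=
    ((Functor.exact_tfae G).out 0 3).1 hG
  refine ⟨hboth.1, hboth.2, fun J => ⟨fun {D} => ?_⟩⟩
  haveI := GrothLib.QCohCat20.preservesColimit_ι D
  haveI := GrothLib.FunMor20.preservesColimitsOfShape_pushforward_discrete q J
  infer_instance

end Groth.Agent.S6771
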