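import Groth.Statements.S6772
import Groth.Agent.Lib.DirImg8.Colim
import Groth.Agent.Lib.VA.QCohPullback
import Groth.Agent.Lib.VA.Tensor
import Groth.Agent.Lib.OX.Tensor
import Groth.Agent.Lib.QCohCat20.Compact

set_option autoImplicit false
set_option linter.style.haveILetI false
set_option backward.isDefEq.respectTransparency.types false
universe u
open CategoryTheory AlgebraicGeometry
attribute [local instance] HasDerivedCategory.standard
open FunMor

namespace Groth.Agent.S6772

/-- The direction from kernels to functors: let R be a ring and X, Y schemes over R with X affine, and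
let K be a quasi-coherent O_{X ×_R Y}-module. Then the functor F_K : M ↦ pr_{2,*}(pr_1^* M ⊗ K),
from quasi-coherent O_X-modules to O_Y-modules, is right exact (preserves finite colimits) and
commutes with arbitrary direct sums. (pr_2 is affine, so pr_{2,*} is exact on quasi-coherent
modules.) -/
theorem result
    (R : Type u) [CommRing R] (X Y : Scheme.{u}) [X.Over (Spec (.of R))] [Y.Over (Spec (.of R))] [IsAffine X]
    (K : (Limits.pullback (X ↘ Spec (.of R)) (Y ↘ Spec (.of R))).Modules) (hK : Coh.IsQCoh K) :
    Limits.PreservesFiniteColimits (ObjectProperty.ι (QCohCat.isQCoh X) ⋙ Scheme.Modules.pullback (Limits.pullback.fst (X ↘ Spec (.of R)) (Y ↘ Spec (.of R))) ⋙ DCoh.tensorRightMod K ⋙ Coh.push (Limits.pullback.snd (X ↘ Spec (.of R)) (Y ↘ Spec (.of R)))) ∧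
      ∀ J : Type u, Limits.PreservesColimitsOfShape (Discrete J) (ObjectProperty.ι (QCohCat.isQCoh X) ⋙ Scheme.Modules.pullback (Limits.pullback.fst (X ↘ Spec (.of R)) (Y ↘ Spec (.of R))) ⋙ DCoh.tensorRightMod K ⋙ Coh.push (Limits.pullback.snd (X ↘ Spec (.of R)) (Y ↘ Spec (.of R)))) := by
  let p := Limits.pullback.fst (X ↘ Spec (.of R)) (Y ↘ Spec (.of R))
  let q := Limits.pullback.snd (X ↘ Spec (.of R)) (Y ↘ Spec (.of R))
  haveI : IsAffineHom q := MorphismProperty.pullback_snd (P := @IsAffineHom) _ _ inferInstance
  haveI : Limits.PreservesColimitsOfSize.{u, u} (DCoh.tensorRightMod K) :=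
    inferInstanceAs (Limits.PreservesColimitsOfSize.{u, u} ((DCoh.tensorBi).flip.obj K))
  haveI : Limits.PreservesColimitsOfSize.{u, u} (Scheme.Modules.pullback p) :=
    (Scheme.Modules.pullbackPushforwardAdjunction p).leftAdjoint_preservesColimits
  have key : ∀ (J : Type u) [SmallCategory J], Limits.PreservesColimitsOfShape J
      (ObjectProperty.ι (QCohCat.isQCoh X) ⋙ Scheme.Modules.pullback p ⋙ DCoh.tensorRightMod K ⋙ Coh.push q) :=
    fun J _ => ⟨fun {D} => by
      haveI := GrothLib.QCohCat20.preservesColimit_ι D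
      haveI : Limits.PreservesColimit (((D ⋙ ObjectProperty.ι (QCohCat.isQCoh X)) ⋙ Scheme.Modules.pullback p) ⋙ DCoh.tensorRightMod K) (Coh.push q) :=
        GrothLib.DirImg8.preservesColimit_pushforward q _ fun j =>
          GrothLib.VA.isQCoh_tensor (GrothLib.VA.isQCoh_pullback p (D.obj j).property) hK
      infer_instance⟩
  exact ⟨Limits.preservesFiniteColimits_of_preservesFiniteColimitsOfSize.{u} _ fun J _ _ => key J, fun J => key _⟩

end Groth.Agent.S6772
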