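import Groth.Statements.S6775
import Mathlib.CategoryTheory.Abelian.CommSq
-- import your own Groth.Agent.* helpers here

set_option autoImplicit false
open CategoryTheory CategoryTheory.Limits
universe v u
open CategoryTheory CategoryTheory.Abelian

namespace Groth.Agent.S6775

/-- In an abelian category a cartesian square whose bottom arrow `k` is an epimorphism is also
cocartesian, and the arrow `f` opposite to `k` is an epimorphism. -/
theorem result {A : Type u} [Category.{v} A] [Abelian A] {w x y z : A} (f : w ⟶ y) (g : w ⟶ x) (h : y ⟶ z) (k : x ⟶ z) (sq : IsPullback f g h k) [Epi k] : IsPushout f g h k ∧ Epi f := by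
  haveI hfe : Epi f := (MorphismProperty.of_isPullback (P := MorphismProperty.epimorphisms A) sq.flip
    (MorphismProperty.epimorphisms.infer_property k))
  refine ⟨⟨⟨sq.w⟩, ⟨PushoutCocone.IsColimit.mk sq.w (fun c => Abelian.epiDesc k c.inr ?_) (fun c => ?_)
    (fun c => Abelian.comp_epiDesc _ _ _) (fun c m _ hm => ?_)⟩⟩, hfe⟩
  · obtain ⟨l, hl1, hl2⟩ := sq.exists_lift (0 : kernel k ⟶ y) (kernel.ι k)
      (by rw [zero_comp, kernel.condition])
    rw [← hl2, Category.assoc, ← c.condition, reassoc_of% hl1, zero_comp]
  · rw [← cancel_epi f, reassoc_of% sq.w, Abelian.comp_epiDesc, c.condition]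
  · rw [← cancel_epi k, hm, Abelian.comp_epiDesc]

end Groth.Agent.S6775
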