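import Groth.Statements.S6776
import Mathlib.CategoryTheory.Abelian.CommSq
-- import your own Groth.Agent.* helpers here

set_option autoImplicit false
open CategoryTheory CategoryTheory.Limits
universe v u
open CategoryTheory CategoryTheory.Abelian

namespace Groth.Agent.S6776

/-- In an abelian category a cocartesian square whose left arrow `g` is a monomorphism is also
cartesian, and the arrow `h` opposite to `g` is a monomorphism. -/
theorem result {A : Type u} [Category.{v} A] [Abelian A] {w x y z : A} (f : w ⟶ y) (g : w ⟶ x) (h : y ⟶ z) (k : x ⟶ z) (sq : IsPushout f g h k) [Mono g] : IsPullback f g h k ∧ Mono h := by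
  haveI hhm : Mono h := (MorphismProperty.of_isPushout (P := MorphismProperty.monomorphisms A) sq
    (MorphismProperty.monomorphisms.infer_property g))
  refine ⟨⟨⟨sq.w⟩, ⟨PullbackCone.IsLimit.mk sq.w (fun c => Abelian.monoLift g c.snd ?_) (fun c => ?_)
    (fun c => Abelian.monoLift_comp _ _ _) (fun c m _ hm => ?_)⟩⟩, hhm⟩
  · obtain ⟨l, hl1, hl2⟩ := sq.exists_desc (0 : y ⟶ cokernel g) (cokernel.π g)
      (by rw [comp_zero, cokernel.condition])
    rw [← hl2, ← Category.assoc, ← c.condition, Category.assoc, hl1, comp_zero]
  · rw [← cancel_mono h, Category.assoc, sq.w, ← Category.assoc, Abelian.monoLift_comp, c.condition]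
  · rw [← cancel_mono g, hm, Abelian.monoLift_comp]

end Groth.Agent.S6776
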