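import Groth.Statements.S6779
import Groth.Agent.Lib.SimpGrp.Moore

set_option autoImplicit false
open CategoryTheory
universe u
open SSet

namespace Groth.Agent.S6779

/-- The underlying simplicial set of a simplicial group is a Kan complex. -/
theorem result (X : SimplicialObject GrpCat.{u}) : SSet.KanComplex (X ⋙ forget GrpCat.{u}) := by
  let T : SimplicialObject GrpCat.{u} := (Functor.const _).obj (GrpCat.of PUnit.{u + 1})
  let f : X ⟶ T :=
    { app := fun _ => 1
      naturality := fun _ _ _ => by ext x; exact Subsingleton.elim (α := PUnit.{u + 1}) _ _ }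
  haveI : ∀ n, Subsingleton ((T ⋙ forget GrpCat.{u}).obj n) := fun _ => inferInstanceAs (Subsingleton PUnit.{u + 1})
  letI : HomotopicalAlgebra.CategoryWithFibrations SSet.{u} := ⟨SSet.modelCategoryQuillen.J.rlp⟩
  refine (HomotopicalAlgebra.isFibrant_iff _).2 ((SSet.modelCategoryQuillen.fibration_iff _).2 ?_)
  intro _ _ g hg
  haveI := GrothLib.SimpGrp.rlp_of_surjective f (fun n y => ⟨1, Subsingleton.elim (α := PUnit.{u + 1}) _ _⟩) g hg
  refine ⟨fun {a b} _ => ?_⟩
  have sq : CommSq a g (Functor.whiskerRight f (forget GrpCat.{u}) : (X ⋙ forget GrpCat.{u} : SSet.{u}) ⟶ T ⋙ forget GrpCat.{u})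
      ({ app := fun _ => ↾fun _ => PUnit.unit, naturality := fun _ _ _ => by ext x; rfl } : _ ⟶ (T ⋙ forget GrpCat.{u} : SSet.{u})) :=
    ⟨by ext n x; exact Subsingleton.elim (α := PUnit.{u + 1}) _ _⟩
  exact CommSq.HasLift.mk' ⟨sq.lift, sq.fac_left, Limits.terminal.hom_ext _ _⟩

end Groth.Agent.S6779
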