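import Groth.Statements.S6783
import Groth.Agent.Lib.SSetCosk.Basic
import Groth.Agent.Lib.SSetCosk.Cech

set_option autoImplicit false
open CategoryTheory
universe u
open SSet

namespace Groth.Agent.S6783

/-- For a surjective map of sets `f : A → B`, the augmentation from the Čech nerve of `f` (with
`n`-simplices the `(n+1)`-fold fibre product of `A` over `B`) to the constant simplicial set `B` is
a trivial Kan fibration. -/
theorem result {A B : Type u} (f : A ⟶ B) (hf : Function.Surjective f) : SSet.modelCategoryQuillen.I.rlp (Arrow.mk f).augmentedCechNerve.hom := by
  exact GrothLib.SSetCosk.rlp_augmentedCechNerve f hf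

end Groth.Agent.S6783
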