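import Groth.Statements.S6785
import Groth.Agent.Lib.SSetCosk.Basic
import Groth.Agent.Lib.SSetCosk.Trivial

set_option autoImplicit false
open CategoryTheory
universe u
open SSet

namespace Groth.Agent.S6785

/-- A trivial Kan fibration `f : X ⟶ Y` of simplicial sets is a homotopy equivalence; more precisely it
has a section `g`, and `g ∘ f` is homotopic to the identity of `X` by a single homotopy in each
direction. (The published statement only asserts a homotopy equivalence; the section and the
one-step homotopies are what its proof constructs.) -/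
theorem result {X Y : SSet.{u}} (f : X ⟶ Y) (hf : SSet.modelCategoryQuillen.I.rlp f) : ∃ g : Y ⟶ X, g ≫ f = 𝟙 Y ∧ Nonempty (SSet.Homotopy (𝟙 X) (f ≫ g)) ∧ Nonempty (SSet.Homotopy (f ≫ g) (𝟙 X)) := by
  have hm : (MorphismProperty.monomorphisms SSet.{u}).rlp f := SSet.rlp_monomorphisms.symm ▸ hf
  obtain ⟨⟨⟨g, -, hg⟩⟩⟩ := (hm _ (MorphismProperty.monomorphisms.infer_property (⊥ : Y.Subcomplex).ι)).sq_hasLift
    (CommSq.mk (f := SSet.Subcomplex.isInitialBot.to X) (g := (⊥ : Y.Subcomplex).ι) (h := f) (i := 𝟙 Y)
      (SSet.Subcomplex.isInitialBot.hom_ext _ _))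
  exact ⟨g, hg, GrothLib.SSetCosk.homotopy_retraction f hm g hg⟩

end Groth.Agent.S6785
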