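import Groth.Statements.S6787
import Mathlib.CategoryTheory.CofilteredSystem
-- import your own Groth.Agent.* helpers here

set_option autoImplicit false
open CategoryTheory CategoryTheory.Limits
universe u
open HomAlg3

namespace Groth.Agent.S6787
open CategoryTheory Opposite


/-- Take inverse systems `(A_i)`, `(B_i)`, `(C_i)` of abelian groups over `ℕ`, with morphisms of systems
`(A_i) ⟶ (B_i) ⟶ (C_i)` that give a short exact sequence at every index, and suppose `(C_i)` is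
essentially constant. Then `(A_i)` is Mittag-Leffler if and only if `(B_i)` is. -/
theorem result {A B C : ℕᵒᵖ ⥤ AddCommGrpCat.{u}} (a : A ⟶ B) (b : B ⟶ C) (ha : ∀ i, Function.Injective (a.app i).hom) (hb : ∀ i, Function.Surjective (b.app i).hom) (hex : ∀ i, (b.app i).hom.ker = (a.app i).hom.range) (hC : ∃ (C₀ : AddCommGrpCat.{u}) (c : (Functor.const ℕᵒᵖ).obj C₀ ⟶ C), DerCA.IsEssConstant C C₀ c) : (A ⋙ forget AddCommGrpCat).IsMittagLeffler ↔ (B ⋙ forget AddCommGrpCat).IsMittagLeffler := by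
  obtain ⟨C₀, c, i₀, s, hcs, hC⟩ := hC
  let r : ∀ (G : ℕᵒᵖ ⥤ AddCommGrpCat.{u}) {k j : ℕ}, j ≤ k → (G.obj (op k) →+ G.obj (op j)) :=
    fun G _ _ h => (G.map (homOfLE h).op).hom
  have hr : ∀ (G : ℕᵒᵖ ⥤ AddCommGrpCat.{u}) {a b d : ℕ} (h : a ≤ b) (h' : b ≤ d) (x),
      r G h (r G h' x) = r G (h.trans h') x := fun G a b d h h' x => by
    change G.map _ (G.map _ x) = G.map _ x
    rw [← ConcreteCategory.comp_apply, ← G.map_comp]
    rfl
  have hML : ∀ G : ℕᵒᵖ ⥤ AddCommGrpCat.{u}, (G ⋙ forget AddCommGrpCat).IsMittagLeffler ↔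
      ∀ j : ℕ, ∃ (k : ℕ) (h : j ≤ k), ∀ (l : ℕ) (hl : k ≤ l), ∀ x, ∃ y, r G (h.trans hl) y = r G h x := by
    intro G
    refine ⟨fun h j => ?_, fun h j => ?_⟩
    · obtain ⟨i, f, hf⟩ := h (op j)
      refine ⟨i.unop, f.unop.le, fun l hl x => ?_⟩
      obtain ⟨z, hz⟩ := hf (homOfLE (f.unop.le.trans hl)).op ⟨x, rfl⟩
      exact ⟨z, hz⟩
    · obtain ⟨k, hk, h'⟩ := h j.unop
      refine ⟨op k, (homOfLE hk).op, fun l g => ?_⟩
      rintro _ ⟨x, rfl⟩
      obtain ⟨y, hy⟩ := h' (max k l.unop) (le_max_left _ _) x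
      exact ⟨r G (le_max_right k l.unop) y, (hr G g.unop.le (le_max_right k l.unop) y).trans hy⟩
  have natA : ∀ {p q : ℕ} (h : p ≤ q) (x), (a.app (op p)).hom (r A h x) = r B h ((a.app (op q)).hom x) :=
    fun h x => ConcreteCategory.congr_hom (a.naturality (homOfLE h).op) x
  have natB : ∀ {p q : ℕ} (h : p ≤ q) (x), (b.app (op p)).hom (r B h x) = r C h ((b.app (op q)).hom x) :=
    fun h x => ConcreteCategory.congr_hom (b.naturality (homOfLE h).op) x
  have natc : ∀ {p q : ℕ} (h : p ≤ q) (x), r C h ((c.app (op q)).hom x) = (c.app (op p)).hom x :=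
    fun h x => (ConcreteCategory.congr_hom (c.naturality (homOfLE h).op) x).symm
  have hs : ∀ x, s.hom ((c.app (op i₀)).hom x) = x := fun x => ConcreteCategory.congr_hom hcs x
  have htr : ∀ j : ℕ, ∃ (k : ℕ) (hi : i₀ ≤ k) (hj : j ≤ k),
      ∀ z, r C hj z = (c.app (op j)).hom (s.hom (r C hi z)) := fun j => by
    obtain ⟨k, hi, hj, h⟩ := hC j
    exact ⟨k, hi, hj, fun z => ConcreteCategory.congr_hom h z⟩
  rw [hML, hML]
  refine ⟨fun hA j => ?_, fun hB j => ?_⟩
  · obtain ⟨m, hm, hAm⟩ := hA j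
    obtain ⟨k, hi, hk, hck⟩ := htr m
    refine ⟨k, hm.trans hk, fun l hl x => ?_⟩
    obtain ⟨y₀, hy₀⟩ := hb (op l) ((c.app (op l)).hom (s.hom (r C hi ((b.app (op k)).hom x))))
    have h0 : (b.app (op m)).hom (r B hk x - r B (hk.trans hl) y₀) = 0 := by
      rw [map_sub, natB, natB, hy₀, natc, hck, sub_self]
    obtain ⟨z, hz⟩ : r B hk x - r B (hk.trans hl) y₀ ∈ (a.app (op m)).hom.range := by
      rw [← hex]; exact h0
    obtain ⟨w, hw⟩ := hAm l (hk.trans hl) z
    refine ⟨(a.app (op l)).hom w + y₀, ?_⟩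
    have hw' := congrArg (a.app (op j)).hom hw
    rw [natA, natA, hz, map_sub, hr, hr] at hw'
    rw [map_add, hw', sub_add_cancel]
  · obtain ⟨k, hk, hBk⟩ := hB (max j i₀)
    refine ⟨k, (le_max_left j i₀).trans hk, fun l hl x => ?_⟩
    obtain ⟨l', hi', hl', hcl⟩ := htr l
    obtain ⟨y, hy⟩ := hBk l' (hl.trans hl') ((a.app (op k)).hom x)
    have hax : (b.app (op k)).hom ((a.app (op k)).hom x) = 0 := by
      have : (a.app (op k)).hom x ∈ (b.app (op k)).hom.ker := by rw [hex]; exact ⟨x, rfl⟩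
      exact this
    set v := s.hom (r C hi' ((b.app (op l')).hom y)) with hv
    have hlz : r C hl' ((b.app (op l')).hom y) = (c.app (op l)).hom v := hcl _
    have hcv : (c.app (op (max j i₀))).hom v = 0 := by
      rw [← natc (hk.trans hl) v, ← hlz, hr, ← natB, hy, natB, hax, map_zero]
    have hv0 : v = 0 := by
      rw [← hs v, ← natc (le_max_right j i₀) v, hcv, map_zero, map_zero]
    have hby : (b.app (op l)).hom (r B hl' y) = 0 := by
      rw [natB, hlz, hv0, map_zero]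
    obtain ⟨w, hw⟩ : r B hl' y ∈ (a.app (op l)).hom.range := by rw [← hex]; exact hby
    refine ⟨w, ?_⟩
    have e : r A (hk.trans hl) w = r A hk x := ha (op (max j i₀)) (by
      rw [natA, natA, hw, hr, hy])
    rw [← hr A (le_max_left j i₀) (hk.trans hl), e, hr]

end Groth.Agent.S6787
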