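import Groth.Statements.S6788
import Mathlib.CategoryTheory.Localization.CalculusOfFractions.Fractions
import Mathlib.CategoryTheory.Limits.Shapes.ZeroMorphisms
-- import your own Groth.Agent.* helpers here

set_option autoImplicit false
open CategoryTheory CategoryTheory.Limits
universe v u v' u'
open CategoryTheory CategoryTheory.Localization

namespace Groth.Agent.S6788

/-- For a multiplicative system `W` (left and right calculus of fractions) in a preadditive category
with a zero object and its localization functor `L`, an object `X` becomes zero in the localization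
iff some zero map out of `X` lies in `W`, iff some zero map into `X` lies in `W`. (The published
statement assumes the category additive; only the zero object and the preadditive structure are
used.) -/
theorem result {C : Type u} [Category.{v} C] [Preadditive C] [HasZeroObject C] {D : Type u'} [Category.{v'} D] (L : C ⥤ D) (W : MorphismProperty C) [W.HasLeftCalculusOfFractions] [W.HasRightCalculusOfFractions] [L.IsLocalization W] (X : C) : (IsZero (L.obj X) ↔ ∃ Y : C, W (0 : X ⟶ Y)) ∧ (IsZero (L.obj X) ↔ ∃ Z : C, W (0 : Z ⟶ X)) := by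
  haveI := Localization.inverts L W
  open scoped ZeroObject in
  have hO : IsZero (L.obj (0 : C)) := by
    haveI := Localization.essSurj L W
    refine IsZero.mk (fun Y => ⟨⟨⟨L.map 0 ≫ (L.objObjPreimageIso Y).hom⟩, fun a => ?_⟩⟩)
      (fun Y => ⟨⟨⟨(L.objObjPreimageIso Y).inv ≫ L.map 0⟩, fun a => ?_⟩⟩)
    · show a = L.map 0 ≫ (L.objObjPreimageIso Y).hom
      rw [← cancel_mono (L.objObjPreimageIso Y).inv, Category.assoc, Iso.hom_inv_id, Category.comp_id]
      obtain ⟨φ, hφ⟩ := Localization.exists_leftFraction L W (a ≫ (L.objObjPreimageIso Y).inv)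
      rw [hφ]
      haveI := Localization.inverts L W φ.s φ.hs
      rw [← cancel_mono (L.map φ.s), MorphismProperty.LeftFraction.map_comp_map_s, ← L.map_comp]
      exact congrArg L.map ((isZero_zero C).eq_of_src _ _)
    · show a = (L.objObjPreimageIso Y).inv ≫ L.map 0
      rw [← cancel_epi (L.objObjPreimageIso Y).hom, Iso.hom_inv_id_assoc]
      obtain ⟨φ, hφ⟩ := Localization.exists_rightFraction L W ((L.objObjPreimageIso Y).hom ≫ a)
      rw [hφ]
      haveI := Localization.inverts L W φ.s φ.hs
      rw [← cancel_epi (L.map φ.s), MorphismProperty.RightFraction.map_s_comp_map, ← L.map_comp]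
      exact congrArg L.map ((isZero_zero C).eq_of_tgt _ _)
  constructor
  · constructor
    · intro h
      obtain ⟨Z, s, hs, hs'⟩ := (MorphismProperty.map_eq_iff_postcomp L W (𝟙 X) 0).1 (h.eq_of_src _ _)
      rw [Category.id_comp, zero_comp] at hs'
      exact ⟨Z, hs' ▸ hs⟩
    · rintro ⟨Y, hY⟩
      open scoped ZeroObject in
      haveI := Localization.inverts L W _ hY
      open scoped ZeroObject in
      refine hO.of_iso ⟨L.map 0, L.map (0 : (0 : C) ⟶ Y) ≫ inv (L.map (0 : X ⟶ Y)), ?_, hO.eq_of_src _ _⟩
      rw [← Category.assoc, ← L.map_comp, zero_comp]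
      exact IsIso.hom_inv_id _
  · constructor
    · intro h
      obtain ⟨Z, s, hs, hs'⟩ := (MorphismProperty.map_eq_iff_precomp L W (𝟙 X) 0).1 (h.eq_of_src _ _)
      rw [Category.comp_id, comp_zero] at hs'
      exact ⟨Z, hs' ▸ hs⟩
    · rintro ⟨Z, hZ⟩
      open scoped ZeroObject in
      haveI := Localization.inverts L W _ hZ
      open scoped ZeroObject in
      refine hO.of_iso ⟨inv (L.map (0 : Z ⟶ X)) ≫ L.map (0 : Z ⟶ 0), L.map 0, ?_, hO.eq_of_src _ _⟩
      rw [Category.assoc, ← L.map_comp, comp_zero]
      exact IsIso.inv_hom_id _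

end Groth.Agent.S6788
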