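import Groth.Statements.S6789
import Groth.Agent.Lib.CechNerveHtpy25.Basic

set_option autoImplicit false
set_option linter.all false
set_option backward.isDefEq.respectTransparency false
set_option backward.isDefEq.respectTransparency.types false
open CategoryTheory CategoryTheory.Limits
universe v u
open CategoryTheory CategoryTheory.SimplicialObject

namespace Groth.Agent.S6789

/-- For a morphism `f : Y ⟶ X` with a section `s`, the endomorphism of the Čech nerve of `f` (the
simplicial object of iterated fibre products of `Y` over `X`) that applies `s ∘ f` factorwise admits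
simplicial homotopies to and from the identity: the published formula gives one direction and its
mirror image (exchange the roles of the identity and `s ∘ f`) gives the other. -/
theorem result {C : Type u} [Category.{v} C] {Y X : C} (f : Y ⟶ X) (s : X ⟶ Y) (hs : s ≫ f = 𝟙 X) [∀ n : ℕ, HasWidePullback (Arrow.mk f).right (fun _ : Fin (n + 1) => (Arrow.mk f).left) (fun _ => (Arrow.mk f).hom)] (φ : Arrow.mk f ⟶ Arrow.mk f) (hφl : φ.left = f ≫ s) (hφr : φ.right = 𝟙 X) : Nonempty (SimplicialObject.Homotopy (𝟙 (Arrow.mk f).cechNerve) (Arrow.mapCechNerve φ)) ∧ Nonempty (SimplicialObject.Homotopy (Arrow.mapCechNerve φ) (𝟙 (Arrow.mk f).cechNerve)) := by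
  let N := (Arrow.mk f).cechNerve
  let π : ∀ n : SimplexCategory, Fin (n.len + 1) → (N.obj (Opposite.op n) ⟶ Y) := fun n k => WidePullback.π _ k
  have hπ : ∀ {m n : SimplexCategory} (θ : m ⟶ n) k, N.map θ.op ≫ π m k = π n (θ.toOrderHom k) :=
    fun θ k => WidePullback.lift_π ..
  have hext : ∀ (n : SimplexCategory) {W : C} (a b : W ⟶ N.obj (Opposite.op n)),
      (∀ k, a ≫ π n k = b ≫ π n k) → a = b := fun n W a b h => by
    refine WidePullback.hom_ext _ _ _ h ?_
    rw [← WidePullback.π_arrow _ (0 : Fin (n.len + 1)), ← Category.assoc, ← Category.assoc]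
    exact congrArg (· ≫ _) (h 0)
  have hid : ∀ n k, (𝟙 N : N ⟶ N).app (Opposite.op n) ≫ π n k = π n k ≫ 𝟙 Y := fun n k => by simp
  have hφ : ∀ n k, (Arrow.mapCechNerve φ).app (Opposite.op n) ≫ π n k = π n k ≫ (f ≫ s) := fun n k => by
    rw [← hφl]
    exact WidePullback.lift_π ..
  have hlift : ∀ (a b : Y ⟶ Y), a ≫ f = f → b ≫ f = f → ∀ (n : ℕ) (c : Fin (n + 2) → Bool) (p : Fin (n + 2) → Fin (n + 1)),
      ∃ l : N.obj (Opposite.op (SimplexCategory.mk n)) ⟶ N.obj (Opposite.op (SimplexCategory.mk (n + 1))),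
        ∀ k, l ≫ π _ k = π _ (p k) ≫ if c k then a else b := fun a b ha hb n c p =>
    ⟨WidePullback.lift (WidePullback.base _) (fun k => π (SimplexCategory.mk n) (p k) ≫ if c k then a else b) (fun k => by
      refine (Category.assoc _ _ _).trans ((congrArg (π (SimplexCategory.mk n) (p k) ≫ ·) ?_).trans (WidePullback.π_arrow _ _))
      show _ ≫ f = f
      split_ifs <;> assumption), fun k => WidePullback.lift_π ..⟩
  have h1 : 𝟙 Y ≫ f = f := Category.id_comp f
  have h2 : (f ≫ s) ≫ f = f := by rw [Category.assoc, hs, Category.comp_id]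
  exact ⟨GrothLib.CechNerveHtpy25.nonempty_homotopy π π hπ hπ hext (𝟙 Y) (f ≫ s) _ _ hid hφ (hlift _ _ h1 h2),
    GrothLib.CechNerveHtpy25.nonempty_homotopy π π hπ hπ hext (f ≫ s) (𝟙 Y) _ _ hφ hid (hlift _ _ h2 h1)⟩

end Groth.Agent.S6789
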