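import Groth.Statements.S6790
import Mathlib

set_option autoImplicit false
open CategoryTheory CategoryTheory.Limits MonoidalCategory
universe v u
open CategoryTheory CategoryTheory.Monoidal
open ExactPairing

namespace Groth.Agent.S6790

/-- In an idempotent-complete additive monoidal category, a direct summand of an object admitting a dual
(with coevaluation `𝟙_ A ⟶ X ⊗ Y` and evaluation `Y ⊗ X ⟶ 𝟙_ A`) again admits such a dual. -/
theorem result {A : Type u} [Category.{v} A] [Preadditive A] [HasFiniteBiproducts A] [MonoidalCategory A] [MonoidalPreadditive A] [IsIdempotentComplete A] {X X₁ : A} (i : X₁ ⟶ X) (p : X ⟶ X₁) (hip : i ≫ p = 𝟙 X₁) [HasRightDual X] : Nonempty (HasRightDual X₁) := by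
  set e : X ⟶ X := p ≫ i with he
  have hee : e ≫ e = e := by simp [he, reassoc_of% hip]
  have hq : eᘁ ≫ eᘁ = eᘁ := by rw [← comp_rightAdjointMate, hee]
  obtain ⟨Y₁, j, r, hjr, hrj⟩ := IsIdempotentComplete.idempotents_split Xᘁ (eᘁ) hq
  have hie : i ≫ e = i := by simp [he, reassoc_of% hip]
  have hjq : j ≫ eᘁ = j := by rw [← hrj, reassoc_of% hjr]
  let pr : ExactPairing X₁ Y₁ :=
    { coevaluation' := η_ X Xᘁ ≫ (p ⊗ₘ r)
      evaluation' := (j ⊗ₘ i) ≫ ε_ X Xᘁ
      evaluation_coevaluation' := by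
        have key : (eᘁ ⊗ₘ i) ≫ ε_ X Xᘁ = Xᘁ ◁ i ≫ ε_ X Xᘁ := by
          rw [MonoidalCategory.tensorHom_def', Category.assoc, rightAdjointMate_comp_evaluation,
            ← MonoidalCategory.whiskerLeft_comp_assoc, hie]
        calc (η_ X Xᘁ ≫ (p ⊗ₘ r)) ▷ X₁ ≫ (α_ X₁ Y₁ X₁).hom ≫ X₁ ◁ ((j ⊗ₘ i) ≫ ε_ X Xᘁ)
            = η_ X Xᘁ ▷ X₁ ≫ (α_ X Xᘁ X₁).hom ≫ X ◁ (((r ≫ j) ⊗ₘ i) ≫ ε_ X Xᘁ) ≫ p ▷ 𝟙_ A := by
              rw [MonoidalCategory.comp_whiskerRight, Category.assoc, ← MonoidalCategory.tensorHom_id (p ⊗ₘ r),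
                MonoidalCategory.associator_naturality_assoc, MonoidalCategory.whiskerLeft_comp,
                ← MonoidalCategory.id_tensorHom, MonoidalCategory.tensorHom_comp_tensorHom_assoc,
                Category.comp_id, MonoidalCategory.tensorHom_comp_tensorHom, Category.id_comp,
                MonoidalCategory.tensorHom_def' p, Category.assoc,
                MonoidalCategory.whiskerLeft_comp, Category.assoc, MonoidalCategory.whisker_exchange]
          _ = η_ X Xᘁ ▷ X₁ ≫ (X ⊗ Xᘁ) ◁ i ≫ (α_ X Xᘁ X).hom ≫ X ◁ ε_ X Xᘁ ≫ p ▷ 𝟙_ A := by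
              rw [hrj, key, MonoidalCategory.whiskerLeft_comp, Category.assoc,
                MonoidalCategory.associator_naturality_right_assoc]
          _ = 𝟙_ A ◁ i ≫ (η_ X Xᘁ ▷ X ≫ (α_ X Xᘁ X).hom ≫ X ◁ ε_ X Xᘁ) ≫ p ▷ 𝟙_ A := by
              rw [← MonoidalCategory.whisker_exchange_assoc]; simp only [Category.assoc]
          _ = (λ_ X₁).hom ≫ (ρ_ X₁).inv := by
              rw [evaluation_coevaluation, Category.assoc, MonoidalCategory.leftUnitor_naturality_assoc,
                ← MonoidalCategory.rightUnitor_inv_naturality, reassoc_of% hip]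
      coevaluation_evaluation' := by
        have key : (j ⊗ₘ e) ≫ ε_ X Xᘁ = j ▷ X ≫ ε_ X Xᘁ := by
          rw [MonoidalCategory.tensorHom_def, Category.assoc, ← rightAdjointMate_comp_evaluation,
            ← MonoidalCategory.comp_whiskerRight_assoc, hjq]
        calc Y₁ ◁ (η_ X Xᘁ ≫ (p ⊗ₘ r)) ≫ (α_ Y₁ X₁ Y₁).inv ≫ ((j ⊗ₘ i) ≫ ε_ X Xᘁ) ▷ Y₁
            = Y₁ ◁ η_ X Xᘁ ≫ (α_ Y₁ X Xᘁ).inv ≫ ((j ⊗ₘ e) ≫ ε_ X Xᘁ) ▷ Xᘁ ≫ 𝟙_ A ◁ r := by
              rw [MonoidalCategory.whiskerLeft_comp, Category.assoc, ← MonoidalCategory.id_tensorHom Y₁ (p ⊗ₘ r),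
                MonoidalCategory.associator_inv_naturality_assoc, MonoidalCategory.comp_whiskerRight,
                ← MonoidalCategory.tensorHom_id, MonoidalCategory.tensorHom_comp_tensorHom_assoc,
                Category.comp_id, MonoidalCategory.tensorHom_comp_tensorHom, Category.id_comp,
                MonoidalCategory.tensorHom_def _ r, Category.assoc,
                MonoidalCategory.comp_whiskerRight, Category.assoc, ← MonoidalCategory.whisker_exchange]
          _ = j ▷ 𝟙_ A ≫ (Xᘁ ◁ η_ X Xᘁ ≫ (α_ Xᘁ X Xᘁ).inv ≫ ε_ X Xᘁ ▷ Xᘁ) ≫ 𝟙_ A ◁ r := by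
              rw [key, MonoidalCategory.comp_whiskerRight, Category.assoc,
                ← MonoidalCategory.associator_inv_naturality_left_assoc,
                MonoidalCategory.whisker_exchange_assoc]
              simp only [Category.assoc]
          _ = (ρ_ Y₁).hom ≫ (λ_ Y₁).inv := by
              rw [coevaluation_evaluation, Category.assoc, MonoidalCategory.rightUnitor_naturality_assoc,
                ← MonoidalCategory.leftUnitor_inv_naturality, reassoc_of% hjr] }
  exact ⟨{ rightDual := Y₁, exact := pr }⟩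

end Groth.Agent.S6790
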