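import Groth.Statements.S6791
import Mathlib.CategoryTheory.Abelian.SerreClass.Localization
-- import your own Groth.Agent.* helpers here

set_option autoImplicit false
open CategoryTheory CategoryTheory.Limits
universe v u v' u' v'' u''
open CategoryTheory CategoryTheory.SerreClass

namespace Groth.Agent.S6791

/-- For an exact functor `F : A ⥤ B` of abelian categories and a Serre class `P` of `A` killed by `F`,
with `L : A ⥤ Q` a model of the quotient `A/P` and `Fbar : Q ⥤ B` the induced functor, `P` is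
exactly the kernel of `F` if and only if `Fbar` is faithful. -/
theorem result {A : Type u} [Category.{v} A] [Abelian A] {B : Type u'} [Category.{v'} B] [Abelian B] (F : A ⥤ B) [F.Additive] [PreservesFiniteLimits F] [PreservesFiniteColimits F] (P : ObjectProperty A) [P.IsSerreClass] (hP : ∀ X : A, P X → IsZero (F.obj X)) {Q : Type u''} [Category.{v''} Q] [Abelian Q] (L : A ⥤ Q) [L.IsLocalization P.isoModSerre] [L.Additive] [PreservesFiniteLimits L] [PreservesFiniteColimits L] (Fbar : Q ⥤ B) (e : L ⋙ Fbar ≅ F) : (∀ X : A, IsZero (F.obj X) → P X) ↔ Fbar.Faithful := by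
  refine ⟨fun h => ⟨fun {A₁ A₂ a b} hab => ?_⟩, fun _ X hX => ?_⟩
  · have := Localization.essSurj L P.isoModSerre
    obtain ⟨X, ⟨eX⟩⟩ : ∃ X, Nonempty (L.obj X ≅ A₁) := ⟨_, ⟨L.objObjPreimageIso A₁⟩⟩
    obtain ⟨Y, ⟨eY⟩⟩ : ∃ Y, Nonempty (L.obj Y ≅ A₂) := ⟨_, ⟨L.objObjPreimageIso A₂⟩⟩
    suffices eX.hom ≫ a ≫ eY.inv = eX.hom ≫ b ≫ eY.inv by
      rwa [cancel_epi, cancel_mono] at this
    obtain ⟨φ, h₁, h₂⟩ := Localization.exists_leftFraction₂ L P.isoModSerre
      (eX.hom ≫ a ≫ eY.inv) (eX.hom ≫ b ≫ eY.inv)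
    have hab' : Fbar.map (eX.hom ≫ a ≫ eY.inv) = Fbar.map (eX.hom ≫ b ≫ eY.inv) := by
      simp only [Functor.map_comp, hab]
    rw [h₁, h₂] at hab' ⊢
    have := Localization.inverts L P.isoModSerre φ.s φ.hs
    have e1 := MorphismProperty.LeftFraction.map_comp_map_s φ.fst L (Localization.inverts L _)
    have e2 := MorphismProperty.LeftFraction.map_comp_map_s φ.snd L (Localization.inverts L _)
    rw [← cancel_mono (L.map φ.s)]
    refine e1.trans (Eq.trans ?_ e2.symm)
    have h3 : Fbar.map (L.map φ.f) = Fbar.map (L.map φ.f') := by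
      have h4 := congrArg (· ≫ Fbar.map (L.map φ.s)) hab'
      simp only [← Functor.map_comp] at h4
      exact (congrArg Fbar.map e1.symm).trans (h4.trans (congrArg Fbar.map e2))
    have h5 : F.map (φ.f - φ.f') = 0 := by
      rw [Functor.map_sub, sub_eq_zero, ← cancel_epi (e.hom.app X)]
      exact (e.hom.naturality φ.f).symm.trans ((congrArg (· ≫ _) h3).trans (e.hom.naturality φ.f'))
    change L.map φ.f = L.map φ.f'
    rw [← sub_eq_zero, ← Functor.map_sub, ObjectProperty.SerreClassLocalization.map_eq_zero_iff L P]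
    apply h
    have hf : F.map (Abelian.factorThruImage (φ.f - φ.f')) ≫ F.map (Abelian.image.ι (φ.f - φ.f')) = 0 := by
      rw [← F.map_comp, Abelian.image.fac, h5]
    rw [IsZero.iff_id_eq_zero, ← cancel_epi (F.map (Abelian.factorThruImage (φ.f - φ.f'))),
      ← cancel_mono (F.map (Abelian.image.ι (φ.f - φ.f'))), Category.comp_id, comp_zero, zero_comp]
    exact hf
  · have h0 : IsZero (Fbar.obj (L.obj X)) := hX.of_iso (e.app X)
    rw [← ObjectProperty.SerreClassLocalization.isZero_obj_iff L P, IsZero.iff_id_eq_zero]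
    exact Fbar.map_injective (h0.eq_of_src _ _)

end Groth.Agent.S6791
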