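import Groth.Statements.S6795
import Mathlib.CategoryTheory.Preadditive.Biproducts
-- import your own Groth.Agent.* helpers here

set_option autoImplicit false
open CategoryTheory CategoryTheory.Limits
universe v u
open CategoryTheory CategoryTheory.Preadditive

namespace Groth.Agent.S6795

/-- A preadditive category with countable products in which split epimorphisms have kernels is
idempotent complete (Karoubian). -/
theorem result {D : Type u} [Category.{v} D] [Preadditive D] [HasCountableProducts D] (hk : ∀ ⦃X Y : D⦄ (f : X ⟶ Y), IsSplitEpi f → HasKernel f) : IsIdempotentComplete D := by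
  constructor
  intro X e he
  -- split the idempotent `1 - (1 - e) = e` as a kernel of a split epimorphism of `X^ℕ`
  set f := 𝟙 X - e with hf
  have hff : f ≫ f = f := by simp [hf, Preadditive.comp_sub, Preadditive.sub_comp, he]
  have hef : e ≫ f = 0 := by simp [hf, Preadditive.comp_sub, he]
  have hfe : f ≫ e = 0 := by simp [hf, Preadditive.sub_comp, he]
  let P := ∏ᶜ (fun _ : ℕ => X)
  let π : ∀ n : ℕ, P ⟶ X := fun n => Pi.π (fun _ : ℕ => X) n
  let s : P ⟶ P := Pi.lift fun n => π n ≫ f + π (n + 1) ≫ e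
  let r : P ⟶ P := Pi.lift fun n =>
    match n with
    | 0 => π 0 ≫ f
    | m + 1 => π (m + 1) ≫ f + π m ≫ e
  have hs : ∀ n, s ≫ π n = π n ≫ f + π (n + 1) ≫ e := fun n => Pi.lift_π _ _
  have hr0 : r ≫ π 0 = π 0 ≫ f := Pi.lift_π _ _
  have hr1 : ∀ n, r ≫ π (n + 1) = π (n + 1) ≫ f + π n ≫ e := fun n => Pi.lift_π _ _
  have hrs : r ≫ s = 𝟙 P := by
    refine Pi.hom_ext _ _ fun n => ?_
    show (r ≫ s) ≫ π n = 𝟙 P ≫ π n
    rw [Category.assoc, hs, Preadditive.comp_add, reassoc_of% hr1, Category.id_comp]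
    cases n with
    | zero =>
      rw [reassoc_of% hr0]
      simp [hff, hfe, he, hef, ← Preadditive.comp_add, hf, Preadditive.comp_sub]
    | succ m =>
      rw [reassoc_of% hr1]
      simp [hff, hfe, he, hef, ← Preadditive.comp_add, hf, Preadditive.comp_sub]
  haveI : IsSplitEpi s := ⟨⟨r, hrs⟩⟩
  haveI := hk s inferInstance
  let a : X ⟶ P := Pi.lift fun n =>
    match n with
    | 0 => e
    | _ + 1 => 0
  have ha0 : a ≫ π 0 = e := Pi.lift_π _ _
  have ha1 : ∀ n, a ≫ π (n + 1) = 0 := fun n => Pi.lift_π _ _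
  have has : a ≫ s = 0 := by
    refine Pi.hom_ext _ _ fun n => ?_
    show (a ≫ s) ≫ π n = 0 ≫ π n
    rw [Category.assoc, hs, Preadditive.comp_add, reassoc_of% ha1, zero_comp, zero_comp, add_zero]
    cases n with
    | zero => rw [reassoc_of% ha0, hef]
    | succ m => rw [reassoc_of% ha1, zero_comp]
  have hker : ∀ n, kernel.ι s ≫ π n ≫ f = 0 ∧ kernel.ι s ≫ π (n + 1) ≫ e = 0 := by
    intro n
    have h : kernel.ι s ≫ π n ≫ f + kernel.ι s ≫ π (n + 1) ≫ e = 0 := by
      rw [← Preadditive.comp_add, ← hs, ← Category.assoc, kernel.condition, zero_comp]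
    have h1 := h =≫ f
    simp only [Preadditive.add_comp, Category.assoc, hff, hef, comp_zero, add_zero, zero_comp] at h1
    exact ⟨h1, by rwa [h1, zero_add] at h⟩
  refine ⟨kernel s, kernel.ι s ≫ π 0, kernel.lift s a has, ?_, by rw [kernel.lift_ι_assoc, ha0]⟩
  rw [← cancel_mono (kernel.ι s), Category.assoc, Category.assoc, kernel.lift_ι, Category.id_comp]
  refine Pi.hom_ext _ _ fun n => ?_
  show (kernel.ι s ≫ π 0 ≫ a) ≫ π n = kernel.ι s ≫ π n
  have hid : ∀ (u : kernel s ⟶ X), u ≫ f = 0 → u ≫ e = u := by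
    intro u hu
    rw [hf, Preadditive.comp_sub, Category.comp_id, sub_eq_zero] at hu
    exact hu.symm
  cases n with
  | zero => rw [Category.assoc, Category.assoc, ha0, ← Category.assoc, hid _ (by rw [Category.assoc]; exact (hker 0).1)]
  | succ m =>
    rw [Category.assoc, Category.assoc, ha1, comp_zero, comp_zero,
      ← hid (kernel.ι s ≫ π (m + 1)) (by rw [Category.assoc]; exact (hker (m + 1)).1), Category.assoc, (hker m).2]

end Groth.Agent.S6795
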