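import Groth.Statements.S6796
import Mathlib.CategoryTheory.Preadditive.Biproducts
-- import your own Groth.Agent.* helpers here

set_option autoImplicit false
open CategoryTheory CategoryTheory.Limits
universe v u
open CategoryTheory CategoryTheory.Preadditive

namespace Groth.Agent.S6796

/-- A preadditive category with countable coproducts in which split monomorphisms have cokernels is
idempotent complete (Karoubian). -/
theorem result {D : Type u} [Category.{v} D] [Preadditive D] [HasCountableCoproducts D] (hk : ∀ ⦃X Y : D⦄ (f : X ⟶ Y), IsSplitMono f → HasCokernel f) : IsIdempotentComplete D := by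
  constructor
  intro X e he
  set f := 𝟙 X - e with hf
  have hff : f ≫ f = f := by simp [hf, Preadditive.comp_sub, Preadditive.sub_comp, he]
  have hef : e ≫ f = 0 := by simp [hf, Preadditive.comp_sub, he]
  have hfe : f ≫ e = 0 := by simp [hf, Preadditive.sub_comp, he]
  let P := ∐ (fun _ : ℕ => X)
  let ι : ∀ n : ℕ, X ⟶ P := fun n => Sigma.ι (fun _ : ℕ => X) n
  let s : P ⟶ P := Sigma.desc fun n => f ≫ ι n + e ≫ ι (n + 1)
  let r : P ⟶ P := Sigma.desc fun n =>
    match n with
    | 0 => f ≫ ι 0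
    | m + 1 => f ≫ ι (m + 1) + e ≫ ι m
  have hs : ∀ n, ι n ≫ s = f ≫ ι n + e ≫ ι (n + 1) := fun n => Sigma.ι_desc _ _
  have hr0 : ι 0 ≫ r = f ≫ ι 0 := Sigma.ι_desc _ _
  have hr1 : ∀ n, ι (n + 1) ≫ r = f ≫ ι (n + 1) + e ≫ ι n := fun n => Sigma.ι_desc _ _
  have hsr : s ≫ r = 𝟙 P := by
    refine Sigma.hom_ext _ _ fun n => ?_
    show ι n ≫ s ≫ r = ι n ≫ 𝟙 P
    rw [reassoc_of% (hs n), Preadditive.add_comp, Category.assoc, Category.assoc, hr1, Category.comp_id]
    cases n with
    | zero =>
      rw [hr0]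
      simp only [Preadditive.comp_add, reassoc_of% hff, reassoc_of% hfe, reassoc_of% hef, reassoc_of% he,
        zero_comp, add_zero, zero_add]
      rw [← Preadditive.add_comp, hf, sub_add_cancel, Category.id_comp]
    | succ m =>
      rw [hr1]
      simp only [Preadditive.comp_add, reassoc_of% hff, reassoc_of% hfe, reassoc_of% hef, reassoc_of% he,
        zero_comp, add_zero, zero_add]
      rw [← Preadditive.add_comp, hf, sub_add_cancel, Category.id_comp]
  haveI : IsSplitMono s := ⟨⟨r, hsr⟩⟩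
  haveI := hk s inferInstance
  let a : P ⟶ X := Sigma.desc fun n =>
    match n with
    | 0 => e
    | _ + 1 => 0
  have ha0 : ι 0 ≫ a = e := Sigma.ι_desc _ _
  have ha1 : ∀ n, ι (n + 1) ≫ a = 0 := fun n => Sigma.ι_desc _ _
  have has : s ≫ a = 0 := by
    refine Sigma.hom_ext _ _ fun n => ?_
    show ι n ≫ s ≫ a = ι n ≫ 0
    rw [reassoc_of% (hs n), Preadditive.add_comp, Category.assoc, Category.assoc, ha1, comp_zero, comp_zero,
      add_zero]
    cases n with
    | zero => rw [ha0, hfe]
    | succ m => rw [ha1, comp_zero]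
  have hcok : ∀ n, f ≫ ι n ≫ cokernel.π s = 0 ∧ e ≫ ι (n + 1) ≫ cokernel.π s = 0 := by
    intro n
    have h : f ≫ ι n ≫ cokernel.π s + e ≫ ι (n + 1) ≫ cokernel.π s = 0 := by
      rw [← Category.assoc, ← Category.assoc e, ← Preadditive.add_comp, ← hs, Category.assoc,
        cokernel.condition, comp_zero]
    have h1 := f ≫= h
    simp only [Preadditive.comp_add, reassoc_of% hff, reassoc_of% hfe, zero_comp, add_zero, comp_zero] at h1
    exact ⟨h1, by rwa [h1, zero_add] at h⟩
  refine ⟨cokernel s, cokernel.desc s a has, ι 0 ≫ cokernel.π s, ?_, by rw [Category.assoc, cokernel.π_desc, ha0]⟩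
  rw [← cancel_epi (cokernel.π s), ← Category.assoc, cokernel.π_desc, Category.comp_id]
  refine Sigma.hom_ext _ _ fun n => ?_
  show ι n ≫ a ≫ ι 0 ≫ cokernel.π s = ι n ≫ cokernel.π s
  have hid : ∀ (u : X ⟶ cokernel s), f ≫ u = 0 → e ≫ u = u := by
    intro u hu
    rw [hf, Preadditive.sub_comp, Category.id_comp, sub_eq_zero] at hu
    exact hu.symm
  cases n with
  | zero => rw [reassoc_of% ha0, hid _ (hcok 0).1]
  | succ m =>
    rw [reassoc_of% (ha1 m), zero_comp, ← hid (ι (m + 1) ≫ cokernel.π s) (hcok (m + 1)).1, (hcok m).2]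

end Groth.Agent.S6796
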