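import Groth.Statements.S6800
import Mathlib.CategoryTheory.FinCategory.Basic
import Mathlib.Data.Fintype.Sigma
import Mathlib.Data.Finite.Sigma
import Mathlib.AlgebraicTopology.SimplexCategory.Basic
-- import your own Groth.Agent.* helpers here

set_option autoImplicit false
open CategoryTheory CategoryTheory.Limits
universe v u
open CategoryTheory CategoryTheory.SimplicialObject CategoryTheory.SimplicialObject.Truncated

namespace Groth.Agent.S6800

/-- In a category with finite limits every truncated simplicial object has a pointwise right Kan
extension along the inclusion of the truncated simplex category, i.e. the coskeleton functors exist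
and are given by the limit formula. -/
theorem result {C : Type u} [Category.{v} C] [HasFiniteLimits C] (m : ℕ) (U : (SimplexCategory.Truncated m)ᵒᵖ ⥤ C) : (SimplexCategory.Truncated.inclusion m).op.HasPointwiseRightKanExtension U := by
  intro Y
  classical
  haveI hobj : Finite (StructuredArrow Y (SimplexCategory.Truncated.inclusion m).op) := by
    let mkArr : (Σ i : Fin (m + 1), (SimplexCategory.mk i ⟶ Y.unop)) →
        StructuredArrow Y (SimplexCategory.Truncated.inclusion m).op := fun p =>
      StructuredArrow.mk (Y := Opposite.op (⟨SimplexCategory.mk p.1, Nat.le_of_lt_succ p.1.isLt⟩ :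
        SimplexCategory.Truncated m)) p.2.op
    refine Finite.of_surjective mkArr ?_
    rintro ⟨⟨⟨⟩⟩, ⟨⟨i⟩, hi⟩, f⟩
    exact ⟨⟨⟨i, Nat.lt_succ_of_le hi⟩, f.unop⟩, rfl⟩
  haveI : ∀ a b : StructuredArrow Y (SimplexCategory.Truncated.inclusion m).op, Finite (a ⟶ b) :=
    fun a b => Finite.of_injective (fun φ => φ.right.unop.hom) fun φ ψ h =>
      StructuredArrow.hom_ext _ _ (Quiver.Hom.unop_inj (ObjectProperty.hom_ext _ h))
  haveI : FinCategory (StructuredArrow Y (SimplexCategory.Truncated.inclusion m).op) :=
    { fintypeObj := Fintype.ofFinite _, fintypeHom := fun _ _ => Fintype.ofFinite _ }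
  exact inferInstanceAs (HasLimit _)

end Groth.Agent.S6800
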