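import Groth.Statements.S6802
-- import your own Groth.Agent.* helpers here

set_option autoImplicit false
open CategoryTheory
universe v u
open SpSeq SpSeq.FilObj

namespace Groth.Agent.S6802
open CategoryTheory.Limits

lemma image_comp_image {A : Type u} [Category.{v} A] [Abelian A] {W X Y : A} (h : W ⟶ X) (g : X ⟶ Y) :
    imageSubobject (h ≫ g) = imageSubobject ((imageSubobject h).arrow ≫ g) := by
  refine le_antisymm ?_ ?_
  · conv_lhs => rw [← imageSubobject_arrow_comp h, Category.assoc]
    exact imageSubobject_comp_le _ _
  · have hh : h ≫ g = factorThruImageSubobject h ≫ ((imageSubobject h).arrow ≫ g) := by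
      rw [← Category.assoc, imageSubobject_arrow_comp]
    rw [hh]
    have : IsIso (Subobject.ofLE _ _ (imageSubobject_comp_le (factorThruImageSubobject h)
        ((imageSubobject h).arrow ≫ g))) := isIso_of_mono_of_epi _
    exact Subobject.le_of_comm (inv (Subobject.ofLE _ _ (imageSubobject_comp_le (factorThruImageSubobject h)
        ((imageSubobject h).arrow ≫ g)))) (by rw [IsIso.inv_comp_eq, Subobject.ofLE_arrow])


/-- The composite of two strict morphisms of filtered objects is strict when the first one is an
epimorphism. -/
theorem result {A : Type u} [Category.{v} A] [Abelian A] {K L M : SpSeq.FilObj A} (f : K ⟶ L) (g : L ⟶ M) (hf : SpSeq.FilObj.IsStrict f) (hg : SpSeq.FilObj.IsStrict g) [Epi f.hom] : SpSeq.FilObj.IsStrict (f ≫ g) := by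
  intro p
  change imageSubobject ((K.fil p).arrow ≫ f.hom ≫ g.hom) = imageSubobject (f.hom ≫ g.hom) ⊓ M.fil p
  have he : imageSubobject (f.hom ≫ g.hom) = imageSubobject g.hom := by
    have : IsIso (Subobject.ofLE _ _ (imageSubobject_comp_le f.hom g.hom)) := isIso_of_mono_of_epi _
    exact le_antisymm (imageSubobject_comp_le _ _) (Subobject.le_of_comm
      (inv (Subobject.ofLE _ _ (imageSubobject_comp_le f.hom g.hom))) (by rw [IsIso.inv_comp_eq, Subobject.ofLE_arrow]))
  have htop : imageSubobject f.hom = ⊤ := by
    have : IsIso (imageSubobject f.hom).arrow := by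
      have := epi_of_epi_fac (imageSubobject_arrow_comp f.hom)
      exact isIso_of_mono_of_epi _
    exact Subobject.eq_top_of_isIso_arrow _
  rw [← Category.assoc, image_comp_image, hf p, htop, top_inf_eq, hg p, he]

end Groth.Agent.S6802
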