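import Groth.Statements.S6805
import Groth.Agent.Lib.SSetCosk.Basic
import Groth.Agent.Lib.SSetCosk.Sk

set_option autoImplicit false
open CategoryTheory
universe u
open SSet

namespace Groth.Agent.S6805

/-- The simplicial set freely generated by an `m`-truncated simplicial set (its image under the left
adjoint of `m`-truncation) has only degenerate simplices above dimension `m`. -/
theorem result (m : ℕ) (U : SSet.Truncated.{u} m) : ((SSet.Truncated.sk m).obj U).HasDimensionLT (m + 1) := by
  exact GrothLib.SSetCosk.hasDimensionLT_sk m U

end Groth.Agent.S6805
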