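import Groth.Statements.S6806
import Groth.Agent.Lib.SimpGen.Basic
-- import your own Groth.Agent.* helpers here

set_option autoImplicit false
open CategoryTheory CategoryTheory.Limits
universe v u
open CategoryTheory CategoryTheory.Abelian

namespace Groth.Agent.S6806

/-- For an `m`-truncated simplicial object `U` of an abelian category, the normalized Moore complex of
its free extension `i_{m!} U` (left adjoint of truncation) is zero in every degree `n > m`. Here the
normalized complex in degree `n` is the intersection of the kernels of the faces `d_1, …, d_n`; the
published statement intersects the kernels of `d_0, …, d_{n-1}` instead, and the two versions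
correspond under reversal of the ordering of each `[n]`, so both vanish. -/
theorem result {A : Type u} [Category.{v} A] [Abelian A] (m : ℕ) [∀ F : (SimplexCategory.Truncated m)ᵒᵖ ⥤ A, (SimplexCategory.Truncated.inclusion m).op.HasLeftKanExtension F] (U : SimplicialObject.Truncated A m) (n : ℕ) (hn : m < n) : AlgebraicTopology.NormalizedMooreComplex.objX ((SimplicialObject.Truncated.sk m).obj U) n = ⊥ := by
  let V := (SimplicialObject.Truncated.sk m).obj U
  choose U' hU' using fun k : ℕ => GrothLib.SimpGen.exists_lub
    fun φ : GrothLib.SimpGen.Idx m k => imageSubobject (GrothLib.SimpGen.genMap V φ)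
  have h := GrothLib.SimpGen.inf_objX_eq_bot V m U' hU' n hn
  rwa [(GrothLib.SimpGen.sk_generated m U).2 U' hU' n, top_inf_eq] at h

end Groth.Agent.S6806
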