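import Groth.Statements.S6807
import Groth.Agent.S6786
import Mathlib.Algebra.Homology.HomologicalComplexLimits
import Mathlib.Algebra.Homology.ShortComplex.Ab
import Mathlib.CategoryTheory.Limits.ConcreteCategory.Basic
-- import your own Groth.Agent.* helpers here

set_option autoImplicit false
open CategoryTheory CategoryTheory.Limits
universe u
open HomAlg3

namespace Groth.Agent.S6807

/-- The tower of cycles. -/
noncomputable abbrev Zt (K : ℕᵒᵖ ⥤ HomologicalComplex AddCommGrpCat.{u} (ComplexShape.up ℤ)) (m : ℤ) :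
    ℕᵒᵖ ⥤ AddCommGrpCat.{u} := K ⋙ HomologicalComplex.cyclesFunctor _ _ m

/-- Cycles into terms. -/
noncomputable def iTower (K : ℕᵒᵖ ⥤ HomologicalComplex AddCommGrpCat.{u} (ComplexShape.up ℤ)) (m : ℤ) :
    Zt K m ⟶ K ⋙ HomologicalComplex.eval _ _ m where
  app i := (K.obj i).iCycles m
  naturality _ _ f := HomologicalComplex.cyclesMap_i (K.map f) m

/-- Terms into cycles. -/
noncomputable def tTower (K : ℕᵒᵖ ⥤ HomologicalComplex AddCommGrpCat.{u} (ComplexShape.up ℤ)) (i j : ℤ) :
    K ⋙ HomologicalComplex.eval _ _ i ⟶ Zt K j where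
  app k := (K.obj k).toCycles i j
  naturality a b f := by
    change (K.map f).f i ≫ _ = _ ≫ HomologicalComplex.cyclesMap (K.map f) j
    rw [← cancel_mono ((K.obj b).iCycles j), Category.assoc, Category.assoc,
      HomologicalComplex.toCycles_i, HomologicalComplex.cyclesMap_i,
      HomologicalComplex.toCycles_i_assoc]
    exact (K.map f).comm i j

/-- Cycles onto cohomology. -/
noncomputable def pTower (K : ℕᵒᵖ ⥤ HomologicalComplex AddCommGrpCat.{u} (ComplexShape.up ℤ)) (m : ℤ) :
    Zt K m ⟶ K ⋙ HomologicalComplex.homologyFunctor _ _ m where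
  app i := (K.obj i).homologyπ m
  naturality _ _ f := (HomologicalComplex.homologyπ_naturality (K.map f) m).symm

/-- The zero map to the zero tower. -/
noncomputable def zTower (C : ℕᵒᵖ ⥤ AddCommGrpCat.{u}) :
    C ⟶ (Functor.const ℕᵒᵖ).obj (AddCommGrpCat.of PUnit.{u + 1}) := 0

theorem ker_toCycles (C : HomologicalComplex AddCommGrpCat.{u} (ComplexShape.up ℤ)) (i j : ℤ)
    (h : i + 1 = j) : (C.toCycles i j).hom.ker = (C.iCycles i).hom.range := by
  have hn : (ComplexShape.up ℤ).next i = j := (ComplexShape.up ℤ).next_eq' h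
  have hex : (ShortComplex.mk (C.iCycles i) (C.d i j) (by simp)).Exact :=
    ShortComplex.exact_of_f_is_kernel _ (C.cyclesIsKernel i j hn)
  ext x
  constructor
  · intro hx
    refine (ShortComplex.ab_exact_iff _).1 hex x ?_
    change C.d i j x = 0
    rw [← C.toCycles_i i j, ConcreteCategory.comp_apply]
    exact (congrArg _ hx).trans (map_zero _)
  · rintro ⟨y, rfl⟩
    refine ((AddCommGrpCat.mono_iff_injective (C.iCycles j)).1 inferInstance) ?_
    rw [map_zero, ← ConcreteCategory.comp_apply, C.toCycles_i]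
    change (C.iCycles i ≫ C.d i j) y = 0
    rw [C.iCycles_d]
    rfl

theorem ker_homologyπ (C : HomologicalComplex AddCommGrpCat.{u} (ComplexShape.up ℤ)) (i j : ℤ)
    (h : i + 1 = j) : (C.homologyπ j).hom.ker = (C.toCycles i j).hom.range := by
  have hp : (ComplexShape.up ℤ).prev j = i := (ComplexShape.up ℤ).prev_eq' h
  have hex : (ShortComplex.mk (C.toCycles i j) (C.homologyπ j) (by simp)).Exact :=
    ShortComplex.exact_of_g_is_cokernel _ (C.homologyIsCokernel i j hp)
  ext x
  refine ⟨fun hx => (ShortComplex.ab_exact_iff _).1 hex x hx, ?_⟩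
  rintro ⟨y, rfl⟩
  change (C.toCycles i j ≫ C.homologyπ j) y = 0
  rw [C.toCycles_comp_homologyπ]
  rfl

/-- Cycles form a Mittag-Leffler system. -/
theorem cycles_isMittagLeffler (K : ℕᵒᵖ ⥤ HomologicalComplex AddCommGrpCat.{u} (ComplexShape.up ℤ))
    (i j : ℤ) (h : i + 1 = j)
    (hA : ((K ⋙ HomologicalComplex.eval _ _ i) ⋙ forget AddCommGrpCat).IsMittagLeffler)
    (hH : ∃ (C₀ : AddCommGrpCat.{u}) (c : (Functor.const ℕᵒᵖ).obj C₀ ⟶ K ⋙ HomologicalComplex.homologyFunctor _ _ j), DerCA.IsEssConstant (K ⋙ HomologicalComplex.homologyFunctor _ _ j) C₀ c) :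
    (Zt K j ⋙ forget AddCommGrpCat).IsMittagLeffler := by
  obtain ⟨C₀, c, i₀, s, -, hc⟩ := hH
  rintro ⟨j₀⟩
  obtain ⟨⟨j₁⟩, f, hf⟩ := hA (Opposite.op j₀)
  obtain ⟨k, hik, hjk, htr⟩ := hc j₁
  refine ⟨Opposite.op k, (homOfLE (f.unop.le.trans hjk)).op, ?_⟩
  rintro ⟨l⟩ g _ ⟨(z : (Zt K j).obj (Opposite.op k)), rfl⟩
  by_cases hl : l ≤ k
  · exact ⟨(Zt K j).map (homOfLE hl).op z,
      (ConcreteCategory.congr_hom ((Zt K j).map_comp (homOfLE hl).op g) z).symm⟩
  have hjl : j₁ ≤ l := hjk.trans (by omega)
  obtain ⟨(z' : (Zt K j).obj (Opposite.op l)), hz'⟩ := ((AddCommGrpCat.epi_iff_surjective ((K.obj (Opposite.op l)).homologyπ j)).1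
    inferInstance) (c.app (Opposite.op l) (s ((K ⋙ HomologicalComplex.homologyFunctor _ _ j).map
      (homOfLE hik).op ((pTower K j).app _ z))))
  let w : (Zt K j).obj (Opposite.op j₁) :=
    (Zt K j).map (homOfLE hjk).op z - (Zt K j).map (homOfLE hjl).op z'
  have hw : (pTower K j).app _ w = 0 := by
    rw [map_sub, sub_eq_zero]
    refine (ConcreteCategory.congr_hom ((pTower K j).naturality (homOfLE hjk).op) z).trans ?_
    refine Eq.trans ?_ (ConcreteCategory.congr_hom ((pTower K j).naturality (homOfLE hjl).op) z').symm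
    change (ARSys.tr (K ⋙ HomologicalComplex.homologyFunctor _ _ j) hjk) ((pTower K j).app _ z) = _
    rw [htr]
    change c.app (Opposite.op j₁) (s _) = (K ⋙ HomologicalComplex.homologyFunctor _ _ j).map _ ((K.obj (Opposite.op l)).homologyπ j z')
    rw [hz']
    exact ConcreteCategory.congr_hom (c.naturality (homOfLE hjl).op) _
  obtain ⟨a, ha⟩ : w ∈ ((K.obj (Opposite.op j₁)).toCycles i j).hom.range := by
    rw [← ker_homologyπ _ i j h]
    exact hw
  obtain ⟨a', ha'⟩ := hf g ⟨a, rfl⟩
  refine ⟨z' + (tTower K i j).app _ a', ?_⟩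
  change (Zt K j).map g (z' + (tTower K i j).app _ a') = (Zt K j).map _ z
  rw [map_add]
  have e1 : (Zt K j).map g ((tTower K i j).app (Opposite.op l) a') =
      (Zt K j).map f ((Zt K j).map (homOfLE hjk).op z) -
        (Zt K j).map f ((Zt K j).map (homOfLE hjl).op z') := by
    refine (ConcreteCategory.congr_hom ((tTower K i j).naturality g) a').symm.trans ?_
    refine (congrArg ((tTower K i j).app _) ha').trans ?_
    refine (ConcreteCategory.congr_hom ((tTower K i j).naturality f) a).trans ?_
    rw [← map_sub]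
    exact congrArg ((Zt K j).map f) ha
  rw [e1, ← ConcreteCategory.comp_apply ((Zt K j).map (homOfLE hjk).op),
    ← ConcreteCategory.comp_apply ((Zt K j).map (homOfLE hjl).op), ← Functor.map_comp, ← Functor.map_comp]
  rw [Subsingleton.elim ((homOfLE hjl).op ≫ f) g, add_sub_cancel]
  rfl

theorem ker_zTower (C : ℕᵒᵖ ⥤ AddCommGrpCat.{u}) (i : ℕᵒᵖ) : ((zTower C).app i).hom.ker = ⊤ :=
  top_le_iff.1 fun _ _ => rfl

/-- Cohomology of a limit of complexes, elementwise. -/
theorem bijective_post (K : ℕᵒᵖ ⥤ HomologicalComplex AddCommGrpCat.{u} (ComplexShape.up ℤ))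
    (i j k l : ℤ) (hij : i + 1 = j) (hjk : j + 1 = k) (hkl : k + 1 = l)
    (h2 : ((K ⋙ HomologicalComplex.eval _ _ i) ⋙ forget AddCommGrpCat).IsMittagLeffler)
    (h1 : ((K ⋙ HomologicalComplex.eval _ _ j) ⋙ forget AddCommGrpCat).IsMittagLeffler)
    (hH : ∃ (C₀ : AddCommGrpCat.{u}) (c : (Functor.const ℕᵒᵖ).obj C₀ ⟶ K ⋙ HomologicalComplex.homologyFunctor _ _ j), DerCA.IsEssConstant (K ⋙ HomologicalComplex.homologyFunctor _ _ j) C₀ c) :
    Function.Bijective (limit.post K (HomologicalComplex.homologyFunctor _ _ k)) := by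
  let E (m : ℤ) := isLimitOfPreserves (HomologicalComplex.eval AddCommGrpCat.{u} (ComplexShape.up ℤ) m) (limit.isLimit K)
  have hmono : ∀ (C : HomologicalComplex AddCommGrpCat.{u} (ComplexShape.up ℤ)) (m : ℤ),
      Function.Injective (C.iCycles m) := fun C m => (AddCommGrpCat.mono_iff_injective _).1 inferInstance
  constructor
  · rw [injective_iff_map_eq_zero]
    intro x hx
    obtain ⟨z, rfl⟩ := ((AddCommGrpCat.epi_iff_surjective ((limit K).homologyπ k)).1 inferInstance) x
    let Z := limit.lift (Zt K k) ((HomologicalComplex.cyclesFunctor _ _ k).mapCone (limit.cone K))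
    have hZ : ∀ m, limit.π (Zt K k) m (Z z) = HomologicalComplex.cyclesMap (limit.π K m) k z :=
      fun m => ConcreteCategory.congr_hom (limit.lift_π
        ((HomologicalComplex.cyclesFunctor _ _ k).mapCone (limit.cone K)) m) z
    have hex := Groth.Agent.S6786.result (iTower K j) (tTower K j k) (pTower K k)
      (fun m => ker_toCycles (K.obj m) j k hjk) (fun m => ker_homologyπ (K.obj m) j k hjk)
      (cycles_isMittagLeffler K i j hij h2 hH)
    have hker : Z z ∈ (limMap (pTower K k)).hom.ker := by
      refine Concrete.limit_ext _ _ _ fun m => ?_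
      refine (ConcreteCategory.congr_hom (limMap_π (pTower K k) m) _).trans ?_
      refine (congrArg ((pTower K k).app m) (hZ m)).trans ?_
      refine (ConcreteCategory.congr_hom (HomologicalComplex.homologyπ_naturality (limit.π K m) k).symm z).trans ?_
      refine (ConcreteCategory.congr_hom (limit.post_π K (HomologicalComplex.homologyFunctor _ _ k) m) _).symm.trans ?_
      exact congrArg (limit.π (K ⋙ HomologicalComplex.homologyFunctor _ _ k) m) hx
    rw [hex] at hker
    obtain ⟨b, hb⟩ := hker
    let b' : (limit K).X j := (E j).conePointUniqueUpToIso (limit.isLimit _) |>.inv b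
    have hb' : (limit K).toCycles j k b' = z := by
      refine hmono _ _ (Concrete.isLimit_ext _ (E k) _ _ fun m => ?_)
      change (limit.π K m).f k ((limit K).iCycles k ((limit K).toCycles j k b')) =
        (limit.π K m).f k ((limit K).iCycles k z)
      have h3 : (limit.π K m).f j b' = limit.π (K ⋙ HomologicalComplex.eval _ _ j) m b :=
        ConcreteCategory.congr_hom ((E j).conePointUniqueUpToIso_inv_comp (limit.isLimit _) m) b
      have h4 : (K.obj m).toCycles j k (limit.π (K ⋙ HomologicalComplex.eval _ _ j) m b) =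
          HomologicalComplex.cyclesMap (limit.π K m) k z :=
        ((ConcreteCategory.congr_hom (limMap_π (tTower K j k) m) b).symm.trans
          (congrArg (limit.π (Zt K k) m) hb)).trans (hZ m)
      rw [← ConcreteCategory.comp_apply ((limit K).toCycles j k), (limit K).toCycles_i,
        ← ConcreteCategory.comp_apply ((limit K).d j k), ← (limit.π K m).comm, ConcreteCategory.comp_apply,
        h3, ← (K.obj m).toCycles_i j k, ConcreteCategory.comp_apply, h4, ← ConcreteCategory.comp_apply,
        HomologicalComplex.cyclesMap_i]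
      rfl
    rw [← hb', ← ConcreteCategory.comp_apply, (limit K).toCycles_comp_homologyπ]
    rfl
  · intro x
    have hex := Groth.Agent.S6786.result (tTower K j k) (pTower K k)
      (zTower (K ⋙ HomologicalComplex.homologyFunctor _ _ k))
      (fun m => ker_homologyπ (K.obj m) j k hjk)
      (fun m => (ker_zTower _ m).trans (AddMonoidHom.range_eq_top.2
        ((AddCommGrpCat.epi_iff_surjective ((K.obj m).homologyπ k)).1 inferInstance)).symm) h1
    obtain ⟨y, hy⟩ : x ∈ (limMap (pTower K k)).hom.range := by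
      rw [← hex]
      exact Concrete.limit_ext _ _ _ fun m => rfl
    let y' : (limit K).X k :=
      (E k).conePointUniqueUpToIso (limit.isLimit _) |>.inv (limMap (iTower K k) y)
    have hy' : ∀ m, (limit.π K m).f k y' = (K.obj m).iCycles k (limit.π (Zt K k) m y) := fun m =>
      (ConcreteCategory.congr_hom ((E k).conePointUniqueUpToIso_inv_comp (limit.isLimit _) m) _).trans
        (ConcreteCategory.congr_hom (limMap_π (iTower K k) m) y)
    have hd : (limit K).d k l y' = 0 := by
      refine Concrete.isLimit_ext _ (E l) _ _ fun m => ?_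
      change (limit.π K m).f l ((limit K).d k l y') = (limit.π K m).f l 0
      rw [← ConcreteCategory.comp_apply ((limit K).d k l), ← (limit.π K m).comm, ConcreteCategory.comp_apply, hy',
        map_zero, ← ConcreteCategory.comp_apply, (K.obj m).iCycles_d]
      rfl
    obtain ⟨z, hz⟩ : ∃ z, (limit K).iCycles k z = y' :=
      (ShortComplex.ab_exact_iff _).1 (ShortComplex.exact_of_f_is_kernel
        (ShortComplex.mk ((limit K).iCycles k) ((limit K).d k l) (by simp))
        ((limit K).cyclesIsKernel k l ((ComplexShape.up ℤ).next_eq' hkl))) y' hd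
    have hcz : ∀ m, HomologicalComplex.cyclesMap (limit.π K m) k z = limit.π (Zt K k) m y := fun m => by
      refine hmono _ _ ?_
      rw [← ConcreteCategory.comp_apply, HomologicalComplex.cyclesMap_i, ConcreteCategory.comp_apply, hz, hy']
    refine ⟨(limit K).homologyπ k z, Concrete.limit_ext _ _ _ fun m => ?_⟩
    refine (ConcreteCategory.congr_hom (limit.post_π K (HomologicalComplex.homologyFunctor _ _ k) m) _).trans ?_
    refine (ConcreteCategory.congr_hom (HomologicalComplex.homologyπ_naturality (limit.π K m) k) z).trans ?_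
    refine (congrArg ((K.obj m).homologyπ k) (hcz m)).trans ?_
    exact (ConcreteCategory.congr_hom (limMap_π (pTower K k) m) y).symm.trans
      (congrArg (fun t => limit.π (K ⋙ HomologicalComplex.homologyFunctor _ _ k) m t) hy)


/-- For an inverse system of cochain complexes of abelian groups over `ℕ` whose terms in degrees `n-2`
and `n-1` form Mittag-Leffler systems and whose degree-`(n-1)` cohomologies form an essentially
constant system, the canonical map from the degree-`n` cohomology of the limit complex to the limit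
of the degree-`n` cohomologies is an isomorphism. (The published statement is for four-term
complexes in degrees `-2, …, 1`; only those four degrees of a longer complex enter.) -/
theorem result (K : ℕᵒᵖ ⥤ HomologicalComplex AddCommGrpCat.{u} (ComplexShape.up ℤ)) (n : ℤ) (h2 : ((K ⋙ HomologicalComplex.eval _ _ (n - 2)) ⋙ forget AddCommGrpCat).IsMittagLeffler) (h1 : ((K ⋙ HomologicalComplex.eval _ _ (n - 1)) ⋙ forget AddCommGrpCat).IsMittagLeffler) (hH : ∃ (C₀ : AddCommGrpCat.{u}) (c : (Functor.const ℕᵒᵖ).obj C₀ ⟶ K ⋙ HomologicalComplex.homologyFunctor _ _ (n - 1)), DerCA.IsEssConstant (K ⋙ HomologicalComplex.homologyFunctor _ _ (n - 1)) C₀ c) : IsIso (limit.post K (HomologicalComplex.homologyFunctor _ _ n)) := by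
  have : IsIso (limit.post K (HomologicalComplex.homologyFunctor _ _ n)) :=
    (ConcreteCategory.isIso_iff_bijective _).2
      (bijective_post K (n - 2) (n - 1) n (n + 1) (by omega) (by omega) rfl h2 h1 hH)
  exact this

end Groth.Agent.S6807
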