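import Groth.Statements.S6813
import Groth.Agent.Lib.CoskFin25.Basic
import Mathlib.CategoryTheory.Limits.Constructions.Over.Connected
import Mathlib.CategoryTheory.Limits.Constructions.Over.Basic

set_option autoImplicit false
set_option linter.all false
set_option backward.isDefEq.respectTransparency false
set_option backward.isDefEq.respectTransparency.types false
open CategoryTheory CategoryTheory.Limits
universe v u
open CategoryTheory CategoryTheory.SimplicialObject

namespace Groth.Agent.S6813
open Opposite

/-- The category of small simplices of a simplex is connected. -/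
theorem isConnected_simplices (k : ℕ) (hk : 1 ≤ k) (Y : SimplexCategoryᵒᵖ) :
    IsConnected (StructuredArrow Y (SimplexCategory.Truncated.inclusion k).op) := by
  let J := StructuredArrow Y (SimplexCategory.Truncated.inclusion k).op
  let o : SimplexCategory.Truncated k := ⟨SimplexCategory.mk 0, Nat.zero_le _⟩
  let e : SimplexCategory.Truncated k := ⟨SimplexCategory.mk 1, hk⟩
  let vert : Fin (Y.unop.len + 1) → J := fun a =>
    StructuredArrow.mk (Y := op o) (SimplexCategory.const (SimplexCategory.mk 0) Y.unop a).op
  have : Nonempty J := ⟨vert 0⟩
  have hc : ∀ (A : J) (i : Fin (A.right.unop.obj.len + 1)), Zigzag A (vert (A.hom.unop.toOrderHom i)) := fun A i =>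
    Zigzag.of_hom (StructuredArrow.homMk
      (ObjectProperty.homMk (SimplexCategory.const (SimplexCategory.mk 0) A.right.unop.obj i) : o ⟶ A.right.unop).op
      (Quiver.Hom.unop_inj (by
        ext x : 3
        rfl)))
  have hle : ∀ a b : Fin (Y.unop.len + 1), a ≤ b → Zigzag (vert a) (vert b) := fun a b hab => by
    let E : J := StructuredArrow.mk (Y := op e) (SimplexCategory.mkOfLe a b hab).op
    exact (hc E 0).symm.trans (hc E 1)
  refine zigzag_isConnected fun A B => ((hc A 0).trans ?_).trans (hc B 0).symm
  rcases le_total (A.hom.unop.toOrderHom 0) (B.hom.unop.toOrderHom 0) with h | h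
  · exact hle _ _ h
  · exact (hle _ _ h).symm


/-- For `k ≥ 1` the forgetful functor from the over category `C/X` to `C` (with `C` having finite
limits) commutes with `cosk_k`; stated as: a `k`-coskeletal simplicial object of `C/X` has
`k`-coskeletal underlying simplicial object in `C`. -/
theorem result {C : Type u} [Category.{v} C] [HasFiniteLimits C] (X : C) (k : ℕ) (hk : 1 ≤ k) (V : SimplicialObject (Over X)) [V.IsCoskeletal k] : SimplicialObject.IsCoskeletal (V ⋙ Over.forget X) k := by
  have := GrothLib.CoskFin25.hasPointwiseRightKanExtension k ((SimplexCategory.Truncated.inclusion k).op ⋙ V)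
  let hp := Functor.isPointwiseRightKanExtensionOfIsRightKanExtension V
    (𝟙 ((SimplexCategory.Truncated.inclusion k).op ⋙ V))
  let hq : (Functor.RightExtension.mk (V ⋙ Over.forget X)
      (𝟙 ((SimplexCategory.Truncated.inclusion k).op ⋙ V ⋙ Over.forget X))).IsPointwiseRightKanExtension := fun Y =>
    haveI := isConnected_simplices k hk Y
    IsLimit.ofIsoLimit (isLimitOfPreserves (Over.forget X) (hp Y)) (Cone.ext (Iso.refl _) fun j => by
      simp [Functor.RightExtension.coneAt]
      rfl)
  exact ⟨hq.isRightKanExtension⟩

end Groth.Agent.S6813
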