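import Groth.Statements.S6814
import Mathlib

set_option autoImplicit false
set_option linter.all false
set_option backward.isDefEq.respectTransparency false
open CategoryTheory CategoryTheory.Limits Opposite
universe v u
open CategoryTheory CategoryTheory.SimplicialObject CategoryTheory.SimplicialObject.Truncated

namespace Groth.Agent.S6814

abbrev TObj (N m : ℕ) (h : m ≤ N) : SimplexCategory.Truncated N := ⟨SimplexCategory.mk m, h⟩

variable {C : Type u} [Category.{v} C] (n : ℕ) (U : (SimplexCategory.Truncated (n + 1))ᵒᵖ ⥤ C) (T : C)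
  (π : Fin (n + 3) → (T ⟶ U.obj (op (TObj (n + 1) (n + 1) le_rfl))))

abbrev dd (j : Fin (n + 2)) : TObj (n + 1) n (Nat.le_succ n) ⟶ TObj (n + 1) (n + 1) le_rfl :=
  ObjectProperty.homMk (SimplexCategory.δ j)

def Rel : Prop := ∀ i j : Fin (n + 2), i ≤ j →
  π (Fin.castSucc i) ≫ U.map (dd n j).op = π j.succ ≫ U.map (dd n i).op

variable {n U T π}

theorem indep_lt (hπ : Rel n U T π) {m : SimplexCategory.Truncated (n + 1)}
    {k k' : Fin (n + 3)} (hk : k < k') (g g' : m.obj ⟶ SimplexCategory.mk (n + 1))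
    (h : g ≫ SimplexCategory.δ k = g' ≫ SimplexCategory.δ k') :
    π k ≫ U.map (ObjectProperty.homMk g : m ⟶ TObj (n + 1) (n + 1) le_rfl).op =
      π k' ≫ U.map (ObjectProperty.homMk g' : m ⟶ TObj (n + 1) (n + 1) le_rfl).op := by
  obtain ⟨i, rfl⟩ : ∃ i : Fin (n + 2), k = i.castSucc :=
    ⟨k.castPred (Fin.ne_last_of_lt hk), (Fin.castSucc_castPred _ _).symm⟩
  obtain ⟨j, rfl⟩ : ∃ j : Fin (n + 2), k' = j.succ :=
    ⟨k'.pred (Fin.ne_zero_of_lt hk), (Fin.succ_pred _ _).symm⟩
  have hij : i ≤ j := Fin.le_castSucc_iff.2 hk |> fun h' => by simpa using h'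
  obtain ⟨e, he⟩ := SimplexCategory.eq_comp_δ_of_not_surjective' g' i fun x hx => by
    have h1 := DFunLike.congr_fun (congrArg (fun q => q.toOrderHom) h) x
    simp only [SimplexCategory.comp_toOrderHom, OrderHom.comp_coe, Function.comp_apply] at h1
    rw [hx] at h1
    change i.castSucc.succAbove (g.toOrderHom x) = j.succ.succAbove i at h1
    rw [Fin.succAbove_succ_of_le j i hij] at h1
    exact Fin.succAbove_ne _ _ h1
  have hg : g = e ≫ SimplexCategory.δ j := by
    rw [← cancel_mono (SimplexCategory.δ i.castSucc), h, he, Category.assoc, Category.assoc,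
      SimplexCategory.δ_comp_δ hij]
  subst hg he
  let E : m ⟶ TObj (n + 1) n (Nat.le_succ n) := ObjectProperty.homMk e
  show π i.castSucc ≫ U.map (E ≫ dd n j).op = π j.succ ≫ U.map (E ≫ dd n i).op
  rw [op_comp, op_comp, Functor.map_comp, Functor.map_comp, reassoc_of% (hπ i j hij)]

theorem indep (hπ : Rel n U T π) {m : SimplexCategory.Truncated (n + 1)}
    {k k' : Fin (n + 3)} (g g' : m.obj ⟶ SimplexCategory.mk (n + 1))
    (h : g ≫ SimplexCategory.δ k = g' ≫ SimplexCategory.δ k') :
    π k ≫ U.map (ObjectProperty.homMk g : m ⟶ TObj (n + 1) (n + 1) le_rfl).op =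
      π k' ≫ U.map (ObjectProperty.homMk g' : m ⟶ TObj (n + 1) (n + 1) le_rfl).op := by
  rcases lt_trichotomy k k' with hk | rfl | hk
  · exact indep_lt hπ hk g g' h
  · rw [(cancel_mono _).1 h]
  · exact (indep_lt hπ hk g' g h.symm).symm

variable (n) in
abbrev G : (SimplexCategory.Truncated (n + 1))ᵒᵖ ⥤ (SimplexCategory.Truncated (n + 2))ᵒᵖ :=
  (SimplexCategory.Truncated.incl (n + 1) (n + 2) (Nat.le_succ _)).op

variable (n) in
abbrev Y : (SimplexCategory.Truncated (n + 2))ᵒᵖ := op (TObj (n + 2) (n + 2) le_rfl)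

theorem exists_dec (Z : StructuredArrow (Y n) (G n)) :
    ∃ (k : Fin (n + 3)) (g : Z.right.unop.obj ⟶ SimplexCategory.mk (n + 1)),
      Z.hom.unop.hom = g ≫ SimplexCategory.δ k := by
  refine SimplexCategory.eq_comp_δ_of_not_surjective (n := n + 1) Z.hom.unop.hom fun hs => ?_
  have h1 := Fintype.card_le_of_surjective _ hs
  simp only [Fintype.card_fin] at h1
  have h2 := Z.right.unop.property
  change n + 2 + 1 ≤ _ at h1
  change _ ≤ n + 1 at h2
  change n + 2 + 1 ≤ Z.right.unop.obj.len + 1 at h1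
  omega

noncomputable def leg (Z : StructuredArrow (Y n) (G n)) : T ⟶ U.obj Z.right :=
  π (exists_dec Z).choose ≫ U.map (ObjectProperty.homMk (exists_dec Z).choose_spec.choose :
    Z.right.unop ⟶ TObj (n + 1) (n + 1) le_rfl).op

theorem leg_eq (hπ : Rel n U T π) (Z : StructuredArrow (Y n) (G n)) (k : Fin (n + 3))
    (g : Z.right.unop.obj ⟶ SimplexCategory.mk (n + 1)) (h : Z.hom.unop.hom = g ≫ SimplexCategory.δ k) :
    leg (π := π) Z = π k ≫ U.map (ObjectProperty.homMk g : Z.right.unop ⟶ TObj (n + 1) (n + 1) le_rfl).op :=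
  indep hπ _ _ ((exists_dec Z).choose_spec.choose_spec.symm.trans h)

noncomputable def cone (hπ : Rel n U T π) : Cone (StructuredArrow.proj (Y n) (G n) ⋙ U) where
  pt := T
  π :=
    { app := fun Z => leg (π := π) Z
      naturality := fun Z Z' φ => by
        obtain ⟨k, g, h⟩ := exists_dec Z
        show 𝟙 T ≫ leg (π := π) Z' = leg (π := π) Z ≫ U.map φ.right
        rw [Category.id_comp, leg_eq hπ Z k g h, leg_eq hπ Z' k (φ.right.unop.hom ≫ g) (by
          rw [← StructuredArrow.w φ, Category.assoc, ← h]; rfl)]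
        show π k ≫ U.map (φ.right.unop ≫ (ObjectProperty.homMk g :
          Z.right.unop ⟶ TObj (n + 1) (n + 1) le_rfl)).op = _
        rw [op_comp, Functor.map_comp, Category.assoc]
        rfl }

variable (n) in
abbrev dk (k : Fin (n + 3)) : StructuredArrow (Y n) (G n) :=
  StructuredArrow.mk (Y := op (TObj (n + 1) (n + 1) le_rfl))
    ((ObjectProperty.homMk (SimplexCategory.δ k) :
      TObj (n + 2) (n + 1) (Nat.le_succ _) ⟶ TObj (n + 2) (n + 2) le_rfl).op)

theorem leg_dk (hπ : Rel n U T π) (k : Fin (n + 3)) : leg (π := π) (dk n k) = π k := by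
  rw [leg_eq hπ (dk n k) k (𝟙 _) (by rw [Category.id_comp]; rfl)]
  show π k ≫ U.map (𝟙 (TObj (n + 1) (n + 1) le_rfl)).op = _
  rw [op_id, U.map_id]
  exact Category.comp_id _

theorem rel_of_cone (s : Cone (StructuredArrow.proj (Y n) (G n) ⋙ U)) :
    Rel n U s.pt (fun k => s.π.app (dk n k)) := by
  intro i j hij
  let W : StructuredArrow (Y n) (G n) := StructuredArrow.mk (Y := op (TObj (n + 1) n (Nat.le_succ n)))
    ((ObjectProperty.homMk (SimplexCategory.δ j ≫ SimplexCategory.δ i.castSucc) :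
      TObj (n + 2) n (by omega) ⟶ TObj (n + 2) (n + 2) le_rfl).op)
  let a : dk n i.castSucc ⟶ W := StructuredArrow.homMk (dd n j).op rfl
  let b : dk n j.succ ⟶ W := StructuredArrow.homMk (dd n i).op (by
    apply Quiver.Hom.unop_inj
    apply ObjectProperty.hom_ext
    exact SimplexCategory.δ_comp_δ hij)
  exact (s.w a).trans (s.w b).symm

noncomputable def isLimit (hπ : Rel n U T π)
    (huniv : ∀ (S : C) (g : Fin (n + 3) → (S ⟶ U.obj (op (TObj (n + 1) (n + 1) le_rfl)))),
      Rel n U S g → ∃! t : S ⟶ T, ∀ k, t ≫ π k = g k) : IsLimit (cone hπ) where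
  lift s := (huniv _ _ (rel_of_cone s)).choose
  fac s Z := by
    obtain ⟨k, g, h⟩ := exists_dec Z
    show (huniv _ _ (rel_of_cone s)).choose ≫ leg (π := π) Z = s.π.app Z
    rw [leg_eq hπ Z k g h, ← Category.assoc, (huniv _ _ (rel_of_cone s)).choose_spec.1 k]
    let a : dk n k ⟶ Z := StructuredArrow.homMk
      (ObjectProperty.homMk g : Z.right.unop ⟶ TObj (n + 1) (n + 1) le_rfl).op (by
        apply Quiver.Hom.unop_inj
        apply ObjectProperty.hom_ext
        exact h.symm)
    exact s.w a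
  uniq s m hm := (huniv _ _ (rel_of_cone s)).choose_spec.2 m fun k => by
    rw [← hm (dk n k)]
    exact congrArg (m ≫ ·) (leg_dk hπ k).symm


/-- Let `U` be an `(n+1)`-truncated simplicial object of a category `C` (so the truncation level is at
least `1`), and let `T` be an object with morphisms `π_0, …, π_{n+2} : T ⟶ U_{n+1}` satisfying the
face relations `d_j π_i = d_i π_{j+1}` for `i ≤ j` and universal among such families (that is, `T`
represents the functor of `(n+3)`-tuples of morphisms to `U_{n+1}` satisfying the face relations).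
Then `U` extends to an `(n+2)`-truncated simplicial object right adjoint to restriction: the
pointwise right Kan extension of `U` along the inclusion of `(n+1)`-truncated into `(n+2)`-truncated
simplex categories exists, and for any right Kan extension `V` of `U` the morphism `V_{n+2} ⟶ T`
matching the faces of `V` with the `π_k` is an isomorphism (the new top term is the representing
object). -/
theorem result {C : Type u} [Category.{v} C] (n : ℕ) (U : (SimplexCategory.Truncated (n + 1))ᵒᵖ ⥤ C) (T : C) (π : Fin (n + 3) → (T ⟶ U.obj (op ⟨SimplexCategory.mk (n + 1), (SimplexCategory.len_mk (n + 1)).le⟩))) (hπ : ∀ i j : Fin (n + 2), i ≤ j → π (Fin.castSucc i) ≫ U.map (SimplexCategory.Truncated.δ (n + 1) j ((SimplexCategory.len_mk n).trans_le (Nat.le_succ n)) (SimplexCategory.len_mk (n + 1)).le).op = π j.succ ≫ U.map (SimplexCategory.Truncated.δ (n + 1) i ((SimplexCategory.len_mk n).trans_le (Nat.le_succ n)) (SimplexCategory.len_mk (n + 1)).le).op) (huniv : ∀ (S : C) (g : Fin (n + 3) → (S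 ⟶ U.obj (op ⟨SimplexCategory.mk (n + 1), (SimplexCategory.len_mk (n + 1)).le⟩))), (∀ i j : Fin (n + 2), i ≤ j → g (Fin.castSucc i) ≫ U.map (SimplexCategory.Truncated.δ (n + 1) j ((SimplexCategory.len_mk n).trans_le (Nat.le_succ n)) (SimplexCategory.len_mk (n + 1)).le).op = g j.succ ≫ U.map (SimplexCategory.Truncated.δ (n + 1) i ((SimplexCategory.len_mk n).trans_le (Nat.le_succ n)) (SimplexCategory.len_mk (n + 1)).le).op) → ∃! t : S ⟶ T, ∀ k : Fin (n + 3), t ≫ π k = g k) : (SimplexCategory.Truncated.incl (n + 1) (n + 2) (Nat.le_succ _)).op.HasPointwiseRightKanExtension U ∧ ∀ (V : (SimplexCategory.Truncated (n + 2))ᵒᵖ ⥤ C) (α : (SimplexCategory.Truncated.incl (n + 1) (n + 2) (Nat.le_succ _)).op ⋙ V ⟶ U) [V.IsRightKanExtension α] (t : V.obj (op ⟨SimplexCategory.mk (n + 2), (SimplexCategory.len_mk (n + 2)).le⟩) ⟶ T), (∀ k : Fin (n + 3), t ≫ π k = V.map (SimplexCategory.Truncated.δ (n + 2) k ((SimplexCategory.len_mk (n + 1)).trans_le (Nat.le_succ (n + 1))) (SimplexCategory.len_mk (n + 2)).le).op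 ≫ α.app (op ⟨SimplexCategory.mk (n + 1), (SimplexCategory.len_mk (n + 1)).le⟩)) → IsIso t := by
  have hT := isLimit (U := U) (T := T) (π := π) hπ huniv
  have : (G n).HasPointwiseRightKanExtension U := by
    rintro ⟨⟨Δ, hΔ⟩⟩
    induction Δ using SimplexCategory.rec with
    | _ m =>
    rcases Nat.lt_or_ge (n + 1) m with hm | hm
    · obtain rfl : m = n + 2 := le_antisymm hΔ hm
      exact ⟨⟨⟨cone hπ, hT⟩⟩⟩
    · let I := StructuredArrow.mkIdInitial (T := G n) (Y := op (TObj (n + 1) m hm))
      exact ⟨⟨⟨coneOfDiagramInitial I _, limitOfDiagramInitial I _⟩⟩⟩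
  refine ⟨this, fun V α _ t ht => ?_⟩
  have hV := Functor.isPointwiseRightKanExtensionOfIsRightKanExtension (L := G n) (F := U) V α (Y n)
  let e := IsLimit.conePointUniqueUpToIso hV hT
  have he : t = e.hom := by
    refine hT.hom_ext fun Z => ?_
    rw [IsLimit.conePointUniqueUpToIso_hom_comp hV hT Z]
    obtain ⟨k, g, h⟩ := exists_dec Z
    show t ≫ leg (π := π) Z = V.map Z.hom ≫ α.app Z.right
    rw [leg_eq hπ Z k g h, ← Category.assoc]
    have h1 : t ≫ π k = V.map (dk n k).hom ≫ α.app _ := ht k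
    let a : dk n k ⟶ Z := StructuredArrow.homMk
      (ObjectProperty.homMk g : Z.right.unop ⟶ TObj (n + 1) (n + 1) le_rfl).op (by
        apply Quiver.Hom.unop_inj
        apply ObjectProperty.hom_ext
        exact h.symm)
    rw [h1, ← StructuredArrow.w a, Functor.map_comp, Category.assoc, Category.assoc]
    congr 1
    exact (α.naturality a.right).symm
  rw [he]
  exact inferInstanceAs (IsIso e.hom)

end Groth.Agent.S6814
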