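import Groth.Statements.S6815
import Mathlib.CategoryTheory.Limits.FunctorCategory.Shapes.Products
-- import your own Groth.Agent.* helpers here

set_option autoImplicit false
open CategoryTheory CategoryTheory.Limits
universe w v u
open CategoryTheory CategoryTheory.SimplicialObject

namespace Groth.Agent.S6815
open Limits


/-- Homotopies between the factors of two product morphisms of simplicial objects assemble to a homotopy
between the products. -/
theorem result {C : Type u} [Category.{v} C] {T : Type w} [HasLimitsOfShape (Discrete T) C] {X Y : T → SimplicialObject C} (a b : ∀ t, X t ⟶ Y t) (h : ∀ t, Nonempty (SimplicialObject.Homotopy (a t) (b t))) : Nonempty (SimplicialObject.Homotopy (Limits.Pi.map a) (Limits.Pi.map b)) := by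
  have H := fun t => (h t).some
  let L : ∀ {n : ℕ} {A : C}, (∀ t, A ⟶ (Y t).obj (Opposite.op (SimplexCategory.mk n))) →
      (A ⟶ (∏ᶜ Y).obj (Opposite.op (SimplexCategory.mk n))) :=
    fun {n A} f => Pi.lift f ≫ (piObjIso Y _).inv
  have hL : ∀ {n : ℕ} {A : C} (f : ∀ t, A ⟶ (Y t).obj (Opposite.op (SimplexCategory.mk n))) (t : T),
      L f ≫ (Pi.π Y t).app _ = f t := fun f t => by simp [L]
  have hext : ∀ {n : ℕ} {A : C} (f g : A ⟶ (∏ᶜ Y).obj (Opposite.op (SimplexCategory.mk n))),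
      (∀ t, f ≫ (Pi.π Y t).app _ = g ≫ (Pi.π Y t).app _) → f = g := fun f g he => by
    rw [← cancel_mono (piObjIso Y _).hom]
    exact Pi.hom_ext _ _ fun t => by simpa using he t
  have hb : ∀ (c : ∀ t, X t ⟶ Y t) (t : T) (m), (Limits.Pi.map c).app m ≫ (Pi.π Y t).app m =
      (Pi.π X t).app m ≫ (c t).app m := fun c t m => by
    rw [← NatTrans.comp_app, Limits.Pi.map_π, NatTrans.comp_app]
  have hY : ∀ {n : ℕ} (i : Fin (n + 2)) (t : T),
      (∏ᶜ Y).δ i ≫ (Pi.π Y t).app _ = (Pi.π Y t).app _ ≫ (Y t).δ i := fun i t => SimplicialObject.δ_naturality _ i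
  have hYs : ∀ {n : ℕ} (i : Fin (n + 1)) (t : T),
      (∏ᶜ Y).σ i ≫ (Pi.π Y t).app _ = (Pi.π Y t).app _ ≫ (Y t).σ i := fun i t => SimplicialObject.σ_naturality _ i
  have hX : ∀ {n : ℕ} (i : Fin (n + 2)) (t : T),
      (∏ᶜ X).δ i ≫ (Pi.π X t).app _ = (Pi.π X t).app _ ≫ (X t).δ i := fun i t => SimplicialObject.δ_naturality _ i
  have hXs : ∀ {n : ℕ} (i : Fin (n + 1)) (t : T),
      (∏ᶜ X).σ i ≫ (Pi.π X t).app _ = (Pi.π X t).app _ ≫ (X t).σ i := fun i t => SimplicialObject.σ_naturality _ i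
  refine ⟨{
    h := fun {n} i => L fun t => (Pi.π X t).app _ ≫ (H t).h i
    h_zero_comp_δ_zero := fun n => hext _ _ fun t => ?_
    h_last_comp_δ_last := fun n => hext _ _ fun t => ?_
    h_succ_comp_δ_castSucc_of_lt := fun {n} i j hij => hext _ _ fun t => ?_
    h_succ_comp_δ_castSucc_succ := fun {n} j => hext _ _ fun t => ?_
    h_castSucc_comp_δ_succ_of_lt := fun {n} i j hji => hext _ _ fun t => ?_
    h_comp_σ_castSucc_of_le := fun {n} i j hij => hext _ _ fun t => ?_
    h_comp_σ_succ_of_lt := fun {n} i j hji => hext _ _ fun t => ?_ }⟩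
  all_goals simp only [Category.assoc, hY, hYs, hb, hL, reassoc_of% hL, reassoc_of% hX, reassoc_of% hXs]
  · rw [(H t).h_zero_comp_δ_zero]
  · rw [(H t).h_last_comp_δ_last]
  · rw [(H t).h_succ_comp_δ_castSucc_of_lt i j hij]
  · rw [(H t).h_succ_comp_δ_castSucc_succ j]
  · rw [(H t).h_castSucc_comp_δ_succ_of_lt i j hji]
  · rw [(H t).h_comp_σ_castSucc_of_le i j hij]
  · rw [(H t).h_comp_σ_succ_of_lt i j hji]

end Groth.Agent.S6815
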