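import Groth.Statements.S6816
import Mathlib.Tactic.Abel
-- import your own Groth.Agent.* helpers here

set_option autoImplicit false
open CategoryTheory CategoryTheory.Limits
universe v u
open CochainComplex

namespace Groth.Agent.S6816

/-- The boundary morphisms `C ⟶ A⟦1⟧` attached to two degreewise splittings of a degreewise split
sequence `A ⟶ B ⟶ C` of cochain complexes are homotopic. -/
theorem result {C : Type u} [Category.{v} C] [Preadditive C] [HasBinaryBiproducts C] (S : ShortComplex (CochainComplex C ℤ)) (σ σ' : ∀ n : ℤ, (S.map (HomologicalComplex.eval C (ComplexShape.up ℤ) n)).Splitting) : Nonempty (Homotopy (CochainComplex.homOfDegreewiseSplit S σ) (CochainComplex.homOfDegreewiseSplit S σ')) := by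
  classical
  let ρ : ∀ k, S.X₂.X k ⟶ S.X₁.X k := fun k => (σ k).r
  let ρ' : ∀ k, S.X₂.X k ⟶ S.X₁.X k := fun k => (σ' k).r
  let τ : ∀ k, S.X₃.X k ⟶ S.X₂.X k := fun k => (σ k).s
  let τ' : ∀ k, S.X₃.X k ⟶ S.X₂.X k := fun k => (σ' k).s
  let H : ∀ n, S.X₃.X n ⟶ S.X₁.X n := fun n => τ n ≫ ρ' n
  have key : ∀ n m : ℤ, n + 1 = m → τ n ≫ S.X₂.d n m ≫ ρ m - τ' n ≫ S.X₂.d n m ≫ ρ' m =
      H n ≫ S.X₁.d n m - S.X₃.d n m ≫ H m := by
    intro n m _
    have h1 : ρ' n ≫ S.f.f n + S.g.f n ≫ τ' n = 𝟙 _ := (σ' n).id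
    have h2 : ρ m ≫ S.f.f m + S.g.f m ≫ τ m = 𝟙 _ := (σ m).id
    have e1 : τ n = H n ≫ S.f.f n + τ' n := by
      have hsg : τ n ≫ S.g.f n = 𝟙 _ := (σ n).s_g
      calc τ n = τ n ≫ (ρ' n ≫ S.f.f n + S.g.f n ≫ τ' n) := by rw [h1, Category.comp_id]
        _ = _ := by rw [Preadditive.comp_add, reassoc_of% hsg]; simp only [H, Category.assoc]
    have e2 : ρ' m = ρ m + S.g.f m ≫ H m := by
      have hfr : S.f.f m ≫ ρ' m = 𝟙 _ := (σ' m).f_r
      calc ρ' m = (ρ m ≫ S.f.f m + S.g.f m ≫ τ m) ≫ ρ' m := by rw [h2]; exact (Category.id_comp _).symm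
        _ = _ := by rw [Preadditive.add_comp, Category.assoc, hfr]; simp only [H, Category.assoc, Category.comp_id]
    have hsg : τ n ≫ S.g.f n = 𝟙 _ := (σ n).s_g
    have hfr : S.f.f m ≫ ρ' m = 𝟙 _ := (σ' m).f_r
    have A : τ n ≫ S.X₂.d n m ≫ ρ' m - τ' n ≫ S.X₂.d n m ≫ ρ' m = H n ≫ S.X₁.d n m := by
      conv_lhs => arg 1; rw [e1]
      rw [Preadditive.add_comp, add_sub_cancel_right, Category.assoc, S.f.comm_assoc, hfr]
      exact congrArg (H n ≫ ·) (Category.comp_id _)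
    have B : τ n ≫ S.X₂.d n m ≫ ρ m - τ n ≫ S.X₂.d n m ≫ ρ' m = -(S.X₃.d n m ≫ H m) := by
      conv_lhs => arg 2; rw [e2]
      rw [Preadditive.comp_add, Preadditive.comp_add, ← S.g.comm_assoc, reassoc_of% hsg, sub_add_cancel_left]
    rw [sub_eq_add_neg (H n ≫ _), ← A, ← B]
    abel
  let φ := CochainComplex.homOfDegreewiseSplit S σ
  let φ' := CochainComplex.homOfDegreewiseSplit S σ'
  let hh : ∀ i j : ℤ, S.X₃.X i ⟶ (S.X₁⟦(1 : ℤ)⟧).X j := fun i j =>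
    if e : i = j + 1 then -(H i ≫ (HomologicalComplex.XIsoOfEq S.X₁ e).hom) else 0
  refine ⟨{ hom := hh, zero := fun i j hij => dif_neg (fun e => hij e.symm), comm := fun n => ?_ }⟩
  rw [dNext_eq hh (show (ComplexShape.up ℤ).Rel n (n + 1) by rfl),
    prevD_eq hh (show (ComplexShape.up ℤ).Rel (n - 1) n by simp),
    CochainComplex.homOfDegreewiseSplit_f, CochainComplex.homOfDegreewiseSplit_f]
  have e1 : hh (n + 1) n = -H (n + 1) := by
    simp only [hh, dif_pos, HomologicalComplex.XIsoOfEq_rfl, Iso.refl_hom]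
    exact congrArg (- ·) (Category.comp_id _)
  have gen : ∀ k : ℤ, k + 1 = n → hh n k ≫ (S.X₁⟦(1 : ℤ)⟧).d k n = H n ≫ S.X₁.d n (n + 1) := by
    intro k hk
    subst hk
    simp only [hh, dif_pos, HomologicalComplex.XIsoOfEq_rfl, Iso.refl_hom, CochainComplex.shiftFunctor_obj_d']
    rw [Int.negOnePow_one, Units.neg_smul, one_smul]
    change (-(H (k + 1) ≫ 𝟙 (S.X₁.X (k + 1)))) ≫ (-S.X₁.d (k + 1) (k + 1 + 1)) = _
    rw [Category.comp_id, Preadditive.neg_comp, Preadditive.comp_neg, neg_neg]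
  rw [e1, gen (n - 1) (by omega)]
  have hk := key n (n + 1) rfl
  change τ n ≫ S.X₂.d n (n + 1) ≫ ρ (n + 1) =
    (S.X₃.d n (n + 1) ≫ (-H (n + 1)) + H n ≫ S.X₁.d n (n + 1) : S.X₃.X n ⟶ S.X₁.X (n + 1)) +
      τ' n ≫ S.X₂.d n (n + 1) ≫ ρ' (n + 1)
  rw [Preadditive.comp_neg]
  refine (eq_add_of_sub_eq (hk.trans (sub_eq_add_neg _ _))).trans ?_
  exact congrArg₂ (· + ·) (add_comm _ _) rfl

end Groth.Agent.S6816
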