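import Groth.Statements.S6819
import Groth.Agent.Lib.SimpGen.Basic
-- import your own Groth.Agent.* helpers here

set_option autoImplicit false
open CategoryTheory CategoryTheory.Limits Opposite
universe v u
open CategoryTheory CategoryTheory.Abelian

namespace Groth.Agent.S6819

/-- For a simplicial object `U` of an abelian category, the counit `i_{n!} sk_n U ⟶ U` of the skeleton
adjunction is a monomorphism in each degree, with image the subobject generated by the images of the
maps `U_i ⟶ U_m` induced by `[m] ⟶ [i]`, `i ≤ n`. -/
theorem result {A : Type u} [Category.{v} A] [Abelian A] (U : SimplicialObject A) (n : ℕ) (U' : ∀ m : ℕ, Subobject (U.obj (op (SimplexCategory.mk m)))) (hU' : ∀ m : ℕ, IsLUB (Set.range (fun φ : Σ i : Fin (n + 1), (SimplexCategory.mk m ⟶ SimplexCategory.mk i) => imageSubobject (U.map φ.2.op))) (U' m)) [∀ F : (SimplexCategory.Truncated n)ᵒᵖ ⥤ A, (SimplexCategory.Truncated.inclusion n).op.HasLeftKanExtension F] (m : ℕ) : Mono (((SimplicialObject.skAdj n).counit.app U).app (op (SimplexCategory.mk m))) ∧ imageSubobject (((SimplicialObject.skAdj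 n).counit.app U).app (op (SimplexCategory.mk m))) = U' m := by
  classical
  set c := (SimplicialObject.skAdj n).counit.app U with hc
  let V := (SimplicialObject.Truncated.sk n).obj ((SimplicialObject.truncation n).obj U)
  haveI := GrothLib.SimpGen.isIso_unit_truncation n U
  haveI hiso : IsIso ((SimplicialObject.truncation n).map c) := by
    have htri := (SimplicialObject.skAdj n).right_triangle_components U
    exact IsIso.of_isIso_fac_left htri
  have hisoapp : ∀ i (hi : i ≤ n), IsIso (c.app (Opposite.op (SimplexCategory.mk i))) := fun i hi =>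
    NatIso.isIso_app_of_isIso ((SimplicialObject.truncation n).map c)
      (Opposite.op ⟨SimplexCategory.mk i, hi⟩)
  choose W hW using fun k : ℕ => GrothLib.SimpGen.exists_lub
    fun φ : GrothLib.SimpGen.Idx n k => imageSubobject (GrothLib.SimpGen.genMap V φ)
  have hWtop := (GrothLib.SimpGen.sk_generated n ((SimplicialObject.truncation n).obj U)).2 W hW
  have hP : ∀ k, n < k → (AlgebraicTopology.DoldKan.PInfty (X := V)).f k = 0 := by
    intro k hk
    have h := GrothLib.SimpGen.inf_objX_eq_bot V n W hW k hk
    rw [hWtop k, top_inf_eq] at h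
    have hf := AlgebraicTopology.DoldKan.factors_normalizedMooreComplex_PInfty (X := V) k
    rwa [h, Subobject.bot_factors_iff_zero] at hf
  have hinj : ∀ (k : ℕ) (T : A) (x : T ⟶ V.obj (Opposite.op (SimplexCategory.mk k))),
      x ≫ c.app (Opposite.op (SimplexCategory.mk k)) = 0 → x = 0 := by
    intro k
    induction k with
    | zero =>
      intro T x hx
      haveI := hisoapp 0 (Nat.zero_le n)
      exact zero_of_comp_mono _ hx
    | succ k ih =>
      intro T x hx
      by_cases hk : k + 1 ≤ n
      · haveI := hisoapp (k + 1) hk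
        exact zero_of_comp_mono _ hx
      have h1 : x = x ≫ (AlgebraicTopology.DoldKan.P (X := V) (k + 1)).f (k + 1) +
          x ≫ (AlgebraicTopology.DoldKan.Q (X := V) (k + 1)).f (k + 1) := by
        rw [← Preadditive.comp_add, AlgebraicTopology.DoldKan.P_add_Q_f]
        exact (Category.comp_id x).symm
      rw [h1, ← AlgebraicTopology.DoldKan.PInfty_f, hP (k + 1) (by omega), comp_zero, zero_add,
        AlgebraicTopology.DoldKan.decomposition_Q, Preadditive.comp_sum]
      refine Finset.sum_eq_zero fun i _ => ?_
      have h2 : x ≫ (AlgebraicTopology.DoldKan.P (X := V) i).f (k + 1) ≫ V.δ (Fin.rev i).succ = 0 := by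
        apply ih
        simp only [Category.assoc]
        rw [show V.δ (Fin.rev i).succ ≫ c.app _ = c.app _ ≫ U.δ (Fin.rev i).succ from c.naturality _]
        rw [← AlgebraicTopology.DoldKan.P_f_naturality_assoc i (k + 1) c, reassoc_of% hx, zero_comp]
      rw [reassoc_of% h2, zero_comp]
  constructor
  · exact Preadditive.mono_of_cancel_zero _ (fun {T} x hx => hinj m T x hx)
  · set cm := c.app (Opposite.op (SimplexCategory.mk m))
    have hgen : ∀ φ : GrothLib.SimpGen.Idx n m, GrothLib.SimpGen.genMap V φ ≫ cm =
        c.app (Opposite.op (SimplexCategory.mk φ.1)) ≫ GrothLib.SimpGen.genMap U φ := fun φ =>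
      c.naturality φ.2.op
    apply le_antisymm
    · refine GrothLib.SimpGen.image_le_of_factors ?_
      rw [GrothLib.SimpGen.factors_iff]
      have h0 : (W m).arrow ≫ cm ≫ cokernel.π (U' m).arrow = 0 :=
        GrothLib.SimpGen.lub_comp_eq_zero _ (hW m) _ fun φ => by
          rw [← Category.assoc, hgen, Category.assoc,
            (GrothLib.SimpGen.factors_iff _ _).1 (GrothLib.SimpGen.gen_factors _ (hU' m) φ), comp_zero]
      rw [hWtop m] at h0
      exact (cancel_epi (⊤ : Subobject (V.obj (Opposite.op (SimplexCategory.mk m)))).arrow).1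
        (h0.trans comp_zero.symm)
    · refine (hU' m).2 ?_
      rintro _ ⟨φ, rfl⟩
      haveI := hisoapp φ.1 (Nat.le_of_lt_succ φ.1.isLt)
      refine GrothLib.SimpGen.image_le_of_factors ?_
      show (imageSubobject cm).Factors (GrothLib.SimpGen.genMap U φ)
      rw [show GrothLib.SimpGen.genMap U φ =
          (inv (c.app (Opposite.op (SimplexCategory.mk φ.1))) ≫ GrothLib.SimpGen.genMap V φ) ≫ cm by
        rw [Category.assoc, hgen, IsIso.inv_hom_id_assoc]]
      exact Subobject.factors_of_factors_right _
        (GrothLib.SimpGen.factors_of_image_le le_rfl)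

end Groth.Agent.S6819
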