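import Groth.Statements.S6820
-- import your own Groth.Agent.* helpers here

set_option autoImplicit false
universe u
open Smoothing

namespace Groth.Agent.S6820

/-- Let A be a Noetherian ring, M a finite A-module, S a multiplicative subset of A and π an element of
A such that on the localised module S⁻¹M the kernels of multiplication by π and by π² agree. Then
there is an element s of S such that for every n > 0 the kernels of multiplication by sⁿπ and by
(sⁿπ)² on M agree. (Kernel equalities are written as implications, the reverse inclusions being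
automatic.) -/
theorem result {A : Type u} [CommRing A] [IsNoetherianRing A]
    (M : Type u) [AddCommGroup M] [Module A M] [Module.Finite A M] (S : Submonoid A) (π : A)
    (h : ∀ m : LocalizedModule S M, π ^ 2 • m = 0 → π • m = 0) :
    ∃ s ∈ S, ∀ n : ℕ, 0 < n → ∀ m : M, (s ^ n * π) ^ 2 • m = 0 → (s ^ n * π) • m = 0 := by
  classical
  let P : Submodule A M := LinearMap.ker (π ^ 2 • (LinearMap.id : M →ₗ[A] M))
  obtain ⟨T, hT⟩ := (IsNoetherian.noetherian P : P.FG)
  have hex : ∀ m ∈ T, ∃ t ∈ S, t • (π • m) = 0 := fun m hm => by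
    have hm' : π ^ 2 • m = 0 := by
      have h1 : m ∈ P := hT ▸ Submodule.subset_span hm
      simpa [P] using h1
    have h2 := h (LocalizedModule.mk m 1) (by
      rw [LocalizedModule.smul'_mk, hm', LocalizedModule.zero_mk])
    rw [LocalizedModule.smul'_mk, ← LocalizedModule.zero_mk 1, LocalizedModule.mk_eq] at h2
    obtain ⟨u, hu⟩ := h2
    refine ⟨u, u.2, ?_⟩
    simpa [Submonoid.smul_def] using hu
  choose t htS ht using hex
  let s₀ : A := ∏ m : T, t m.1 m.2
  have hs₀ : s₀ ∈ S := Submonoid.prod_mem _ fun m _ => htS _ _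
  have hkill : ∀ m ∈ P, s₀ • (π • m) = 0 := by
    intro m hm
    rw [← hT] at hm
    induction hm using Submodule.span_induction with
    | mem x hx =>
      obtain ⟨c, hc⟩ : t x hx ∣ s₀ :=
        Finset.dvd_prod_of_mem (fun m : T => t m.1 m.2) (Finset.mem_univ ⟨x, hx⟩)
      rw [hc, mul_comm, mul_smul, ht x hx, smul_zero]
    | zero => simp
    | add x y _ _ hx hy => rw [smul_add, smul_add, hx, hy, add_zero]
    | smul a x _ hx => rw [smul_comm π a, smul_comm s₀ a, hx, smul_zero]
  let chain : ℕ →o Submodule A M :=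
    ⟨fun j => LinearMap.ker (s₀ ^ j • (LinearMap.id : M →ₗ[A] M)), fun i j hij m hm => by
      obtain ⟨d, rfl⟩ := Nat.exists_eq_add_of_le hij
      simp only [LinearMap.mem_ker, LinearMap.smul_apply, LinearMap.id_coe, id_eq] at hm ⊢
      rw [pow_add, mul_comm, mul_smul, hm, smul_zero]⟩
  obtain ⟨N, hN⟩ := WellFoundedGT.monotone_chain_condition chain
  let s := s₀ ^ (N + 1)
  have hstab : ∀ j : ℕ, ∀ m : M, s ^ (j + 1) • m = 0 → s • m = 0 := fun j m hm => by
    have h1 : m ∈ chain ((N + 1) * (j + 1)) := by
      simpa [chain, s, pow_mul] using hm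
    have e1 := hN ((N + 1) * (j + 1)) (le_trans (Nat.le_succ N) (Nat.le_mul_of_pos_right _ (Nat.succ_pos j)))
    have e2 := hN (N + 1) (Nat.le_succ N)
    rw [← e1, e2] at h1
    simpa [chain, s] using h1
  refine ⟨s, pow_mem hs₀ _, fun n hn m hm => ?_⟩
  have h1 : s ^ (2 * n) • m ∈ P := by
    simp only [P, LinearMap.mem_ker, LinearMap.smul_apply, LinearMap.id_coe, id_eq]
    rw [smul_smul, ← hm]
    congr 1
    ring
  have h2 := hkill _ h1
  have h3 : s • (π • m) = 0 := by
    refine hstab (2 * n) _ ?_
    have h4 := congrArg (s₀ ^ N • ·) h2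
    simp only [smul_zero, smul_smul] at h4 ⊢
    rw [← h4]
    congr 1
    simp only [s]
    ring
  obtain ⟨n, rfl⟩ := Nat.exists_eq_add_of_le hn
  rw [pow_add, pow_one, mul_comm s, mul_assoc, mul_smul, mul_smul, h3, smul_zero]

end Groth.Agent.S6820
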