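import Groth.Statements.S6822
import Groth.Agent.Lib.Smoothing.ModPowEight

set_option autoImplicit false
set_option backward.isDefEq.respectTransparency false
universe u
open Smoothing

namespace Groth.Agent.S6822

/-- Let R be Noetherian, A a finitely presented R-algebra, φ : A → Λ an R-algebra map and 𝔮 ⊆ Λ a prime.
Let r ≥ 1 and π₁, …, π_r ∈ R map into 𝔮, and assume: for each i the annihilators of π_i and of π_i²
agree in R/(π₁⁸, …, π_{i−1}⁸) and in Λ/(π₁⁸, …, π_{i−1}⁸)Λ, and each π_i maps to a strictly standard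
element of A over R. Write K = (π₁⁸, …, π_r⁸). If the reduced problem R/K → A/KA → Λ/KΛ ⊇ 𝔮/KΛ can
be resolved (for the map A/KA → Λ/KΛ induced by φ), then R → A → Λ ⊇ 𝔮 can be resolved. -/
theorem result {R A Λ : Type u} [CommRing R] [IsNoetherianRing R]
    [CommRing A] [Algebra R A] [Algebra.FinitePresentation R A] [CommRing Λ] [Algebra R Λ]
    (φ : A →ₐ[R] Λ) (𝔮 : Ideal Λ) [𝔮.IsPrime] {r : ℕ} (hr : 0 < r) (π : Fin r → R)
    (hπ𝔮 : ∀ i, algebraMap R Λ (π i) ∈ 𝔮)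
    (hR : ∀ i : Fin r, ∀ x : R ⧸ Ideal.span (Set.range fun j : {j : Fin r // (j : ℕ) < (i : ℕ)} => π j ^ 8),
      Ideal.Quotient.mk _ (π i) ^ 2 * x = 0 → Ideal.Quotient.mk _ (π i) * x = 0)
    (hΛ : ∀ i : Fin r, ∀ x : Λ ⧸ Ideal.span (Set.range fun j : {j : Fin r // (j : ℕ) < (i : ℕ)} =>
        algebraMap R Λ (π j) ^ 8),
      Ideal.Quotient.mk _ (algebraMap R Λ (π i)) ^ 2 * x = 0 → Ideal.Quotient.mk _ (algebraMap R Λ (π i)) * x = 0)
    (hstd : ∀ i, Smoothing.IsStrictlyStandard R A (algebraMap R A (π i)))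
    (K : Ideal R) (hK : K = Ideal.span (Set.range fun i => π i ^ 8))
    (φK : (A ⧸ K.map (algebraMap R A)) →ₐ[R ⧸ K] (Λ ⧸ K.map (algebraMap R Λ)))
    (hφK : ∀ a : A, φK (Ideal.Quotient.mk _ a) = Ideal.Quotient.mk _ (φ a))
    (hres : Smoothing.Resolvable (R ⧸ K) φK (𝔮.map (Ideal.Quotient.mk (K.map (algebraMap R Λ))))) :
    Smoothing.Resolvable R φ 𝔮 := Smoothing.resolvable_mod_pow_eight φ 𝔮 π hπ𝔮 hR hΛ hstd K hK φK hφK hres

end Groth.Agent.S6822
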