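import Groth.Statements.S6826
import Groth.Agent.Lib.RelGCIReg.SyntLiftMain

set_option autoImplicit false
universe u
open Smoothing

namespace Groth.Agent.S6826

theorem result {R A₀ : Type u} [CommRing R] (I : Ideal R) [CommRing A₀]
    [Algebra (R ⧸ I) A₀] (h : Synt.IsSyntomic (R ⧸ I) A₀) :
    ∃ (A : Type u) (_ : CommRing A) (_ : Algebra R A), Synt.IsSyntomic R A ∧
      Nonempty ((A ⧸ I.map (algebraMap R A)) ≃ₐ[R ⧸ I] A₀) :=
  GrothLib.RelGCIReg.exists_syntomic_lift I h

end Groth.Agent.S6826
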