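import Groth.Statements.S6827
import Groth.Agent.Lib.Hensel.SmoothAlgLift
-- import your own Groth.Agent.* helpers here

set_option autoImplicit false
universe u
open Smoothing

namespace Groth.Agent.S6827

/-- Let R → R₀ be a surjective ring map with kernel I (so R₀ = R/I) and A₀ a smooth R₀-algebra. Then
there is a smooth R-algebra A with A/IA isomorphic to A₀ as an R/I-algebra. -/
theorem result {R A₀ : Type u} [CommRing R] (I : Ideal R) [CommRing A₀]
    [Algebra (R ⧸ I) A₀] [Algebra.Smooth (R ⧸ I) A₀] :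
    ∃ (A : Type u) (_ : CommRing A) (_ : Algebra R A), Algebra.Smooth R A ∧
      Nonempty ((A ⧸ I.map (algebraMap R A)) ≃ₐ[R ⧸ I] A₀) := by
  let _ : Algebra R A₀ := ((algebraMap (R ⧸ I) A₀).comp (Ideal.Quotient.mk I)).toAlgebra
  have : IsScalarTower R (R ⧸ I) A₀ := .of_algebraMap_eq' rfl
  obtain ⟨Z, _, _, φ, hZ, hφ, hker⟩ := GrothLib.Hensel.exists_smooth_lift I A₀
  exact ⟨Z, inferInstance, inferInstance, hZ,
    ⟨((Ideal.quotientEquivAlgOfEq R hker.symm).trans
      (Ideal.quotientKerAlgEquivOfSurjective hφ)).extendScalarsOfSurjective Ideal.Quotient.mk_surjective⟩⟩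

end Groth.Agent.S6827
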