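import Groth.Statements.S6828
import Groth.Agent.Lib.RelGCIReg.FreeConormal

set_option autoImplicit false
universe u
open Smoothing

namespace Groth.Agent.S6828

theorem result {R A : Type u} [CommRing R] [CommRing A] [Algebra R A]
    (h : Synt.IsSyntomic R A) :
    ∃ (n c : ℕ) (F : Fin c → MvPolynomial (Fin n) R), Synt.IsRelGCI R n c F ∧
      Module.Flat R (Synt.RelGCIRing R n c F) ∧
      ∃ (_ : Algebra A (Synt.RelGCIRing R n c F)) (_ : IsScalarTower R A (Synt.RelGCIRing R n c F)),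
        Algebra.Smooth A (Synt.RelGCIRing R n c F) ∧
        ∃ ρ : Synt.RelGCIRing R n c F →ₐ[R] A, ∀ a : A, ρ (algebraMap A (Synt.RelGCIRing R n c F) a) = a := by
  haveI := h.2.1
  obtain ⟨n, α, hα, hker⟩ := Algebra.FinitePresentation.out (R := R) (A := A)
  let e : (MvPolynomial (Fin n) R ⧸ RingHom.ker α.toRingHom) ≃ₐ[R] A :=
    Ideal.quotientKerAlgEquivOfSurjective hα
  obtain ⟨N, c, F, hF, ι, ρ, hι, hρ⟩ := GrothLib.RelGCIReg.exists_smooth_retract _ hker
    (GrothLib.RelGCIReg.isSyntomic_of_algEquiv e.symm h)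
  let ι' : A →ₐ[R] Synt.RelGCIRing R N c F := ι.comp e.symm.toAlgHom
  refine ⟨N, c, F, hF, GrothLib.RelGCIReg.flat _ hF, ι'.toRingHom.toAlgebra, ?_, ?_, e.toAlgHom.comp ρ, fun a => ?_⟩
  · letI := ι'.toRingHom.toAlgebra
    exact IsScalarTower.of_algebraMap_eq fun r => (ι'.commutes r).symm
  · show (ι.toRingHom.comp e.symm.toAlgHom.toRingHom).Smooth
    exact RingHom.Smooth.comp (RingHom.Smooth.of_bijective e.symm.bijective) hι
  · show e (ρ (ι (e.symm a))) = a
    rw [hρ, AlgEquiv.apply_symm_apply]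

end Groth.Agent.S6828
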