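import Groth.Statements.S6839
import Groth.Agent.Lib.SecGen25.Space

set_option autoImplicit false
universe u
open CategoryTheory CategoryTheory.Limits TopologicalSpace
open ModSite

namespace Groth.Agent.S6839

/-- On a ringed space (X, O), if 0 → F₁ → F₂ → F₃ → 0 is a short exact sequence of O-modules with F₁ and
F₃ of finite type, then F₂ is of finite type. (The first assertion of the source, that images of
finite type modules are of finite type, is not restated.) -/
theorem result {X : TopCat.{u}} (O : TopCat.Sheaf CommRingCat.{u} X)
    (S : ShortComplex (ModSite.Mod O)) (hS : S.ShortExact) [SheafOfModules.IsFiniteType (R := ModSite.ringSh O) S.X₁]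
    [SheafOfModules.IsFiniteType (R := ModSite.ringSh O) S.X₃] : SheafOfModules.IsFiniteType (R := ModSite.ringSh O) S.X₂ := by
  exact GrothLib.SecGen25.isFiniteType_middle S hS ‹_› ‹_›

end Groth.Agent.S6839
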