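import Groth.Statements.S6843
import Groth.Agent.Lib.Smoothing.Approx.EtaleLoc
import Groth.Agent.Lib.Ratliff.Excellent

set_option autoImplicit false
universe u
open Smoothing

namespace Groth.Agent.S6843

/-- Let R be a Noetherian ring, p ⊆ R a prime with R_p a G-ring, (R_p)^ the completion of R_p, and F₁,
…, F_m polynomials in n variables over R with a solution a in (R_p)^. Then for every N there are an
étale R-algebra R', a ring map ψ : R' → (R_p)^ compatible with the maps from R, a prime p' ⊆ R'
lying over p with κ(p) = κ(p') (every element of R'/p' is a fraction of elements of R/p) and ψ(p') ⊆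
p(R_p)^, and a solution b of the system in R' with a_i − ψ(b_i) ∈ p^N (R_p)^. (The source compares a
and b through the identification of (R_p)^ with the completion of R'_{p'}; here the comparison map
is ψ.) -/
theorem result {R : Type u} [CommRing R] [IsNoetherianRing R]
    (p : Ideal R) [p.IsPrime] (hG : CAlg.IsGRing (Localization.AtPrime p)) {n m : ℕ}
    (F : Fin m → MvPolynomial (Fin n) R)
    (a : Fin n → AdicCompletion (IsLocalRing.maximalIdeal (Localization.AtPrime p)) (Localization.AtPrime p))
    (ha : ∀ j, MvPolynomial.aeval a (MvPolynomial.map (algebraMap R (Localization.AtPrime p)) (F j)) = 0) (N : ℕ) :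
    ∃ (R' : Type u) (_ : CommRing R') (_ : Algebra R R'), Algebra.Etale R R' ∧
      ∃ (ψ : R' →+* AdicCompletion (IsLocalRing.maximalIdeal (Localization.AtPrime p)) (Localization.AtPrime p))
        (p' : Ideal R'), p'.IsPrime ∧
        (∀ r : R, ψ (algebraMap R R' r) =
          algebraMap (Localization.AtPrime p) _ (algebraMap R (Localization.AtPrime p) r)) ∧
        p'.comap (algebraMap R R') = p ∧
        (∀ x : R', ∃ r s : R, s ∉ p ∧ algebraMap R R' s * x - algebraMap R R' r ∈ p') ∧
        (∀ x ∈ p', ψ x ∈ (IsLocalRing.maximalIdeal (Localization.AtPrime p)).map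
          (algebraMap (Localization.AtPrime p)
            (AdicCompletion (IsLocalRing.maximalIdeal (Localization.AtPrime p)) (Localization.AtPrime p)))) ∧
        ∃ b : Fin n → R', (∀ j, MvPolynomial.aeval b (F j) = 0) ∧
          ∀ i, a i - ψ (b i) ∈ (IsLocalRing.maximalIdeal (Localization.AtPrime p) ^ N).map
            (algebraMap (Localization.AtPrime p)
              (AdicCompletion (IsLocalRing.maximalIdeal (Localization.AtPrime p)) (Localization.AtPrime p))) := by
  haveI := hG.1
  refine Smoothing.Approx.exists_etale_solution_prime p (GrothLib.Ratliff.isRegularHom_cpl_of_isGRing _ hG) F a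
    (fun j => ?_) N
  rw [← MvPolynomial.aeval_map_algebraMap (Localization.AtPrime p)]
  exact ha j

end Groth.Agent.S6843
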