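import Groth.Statements.S6844
import Groth.Agent.Lib.FlatRel25.Flat
-- import your own Groth.Agent.* helpers here

set_option autoImplicit false
universe u
open CategoryTheory CategoryTheory.Limits TopologicalSpace
open ModSite

namespace Groth.Agent.S6844

/-- Equational criterion of flatness, sheaf form: let (X, O) be a ringed space, F a flat O-module (− ⊗_O
F exact), U ⊆ X open, f₁, …, f_n ∈ O(U) and s₁, …, s_n ∈ F(U) with Σ f_i s_i = 0 (so that O_U →
O_U^n → F|_U is a complex). Then every x ∈ U has an open neighbourhood V ⊆ U together with m,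
sections t₁, …, t_m ∈ F(V) and a_{ij} ∈ O(V) such that s_i|_V = Σ_j a_{ij} t_j for all i and Σ_i
f_i|_V a_{ij} = 0 for all j. -/
theorem result {X : TopCat.{u}} (O : TopCat.Sheaf CommRingCat.{u} X)
    (F : ModSite.Mod O) (hF : ModSite.IsFlat F) (U : Opens X) {n : ℕ}
    (f : Fin n → (ModSite.ringSh O).obj.obj (Opposite.op U)) (s : Fin n → ModSite.sect F U)
    (hrel : ∑ i, f i • s i = 0) (x : X) (hx : x ∈ U) :
    ∃ (V : Opens X) (hV : V ≤ U) (m : ℕ) (a : Fin n → Fin m → (ModSite.ringSh O).obj.obj (Opposite.op V))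
      (t : Fin m → ModSite.sect F V), x ∈ V ∧
      (∀ i, (F.val.map (homOfLE hV).op).hom (s i) = ∑ j, a i j • t j) ∧
        ∀ j, ∑ i, ((ModSite.ringSh O).obj.map (homOfLE hV).op).hom (f i) * a i j = 0 := by
  let e : ULift.{u} (Fin n) ≃ Fin n := Equiv.ulift
  have hT := GrothLib.FlatRel25.locRel_of_isFlat hF U (ULift.{u} (Fin n)) (f ∘ e) (s ∘ e)
    ((e.sum_comp fun i => f i • s i).trans hrel)
  obtain ⟨V, i, hg, hxV⟩ := hT x hx
  obtain ⟨l, t, a, h1, h2⟩ := hg
  refine ⟨V, leOfHom i, l, fun j => a ⟨j⟩, t, hxV, fun j => ?_, fun k => ?_⟩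
  · exact (congrArg (fun k : V ⟶ U => (F.val.map k.op).hom (s j)) (Subsingleton.elim _ i)).trans (h1 ⟨j⟩)
  · refine Eq.trans ?_ (((e.symm.sum_comp fun i' => a i' k * GrothLib.FlatRel25.resR i ((f ∘ e) i'))).trans (h2 () k))
    refine Finset.sum_congr rfl fun j _ => ?_
    exact (congrArg (fun k' : V ⟶ U => (show O.obj.obj (Opposite.op V) from ((ModSite.ringSh O).obj.map k'.op).hom (f j)) * a ⟨j⟩ k) (Subsingleton.elim _ i)).trans (mul_comm _ _)

end Groth.Agent.S6844
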