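import Groth.Statements.S6854
import Groth.Agent.Lib.ArtApprox4.Main

set_option autoImplicit false
universe u
open Smoothing

namespace Groth.Agent.S6854

/-- Let k be a field of characteristic p > 0 and Λ an Artinian local k-algebra with residue field K such
that H_1(L_{K/k}) is a finite-dimensional K-vector space. Then Λ is a filtered colimit (a directed
union) of k-subalgebras A ⊆ Λ which are Artinian local and essentially of finite type over k, with A
→ Λ flat and m_A Λ = m_Λ; stated as: every finite subset of Λ is contained in such a subalgebra. -/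
theorem result {k Λ : Type u} [Field k] (p : ℕ) [Fact p.Prime]
    [CharP k p] [CommRing Λ] [Algebra k Λ] [IsArtinianRing Λ] [IsLocalRing Λ]
    (hH : Module.Finite (IsLocalRing.ResidueField Λ) (Algebra.H1Cotangent k (IsLocalRing.ResidueField Λ)))
    (E : Finset Λ) :
    ∃ (A : Subalgebra k Λ) (_ : IsLocalRing A), (↑E : Set Λ) ⊆ A ∧ IsArtinianRing A ∧ Module.Flat A Λ ∧
      Algebra.EssFiniteType k A ∧
      (IsLocalRing.maximalIdeal A).map (algebraMap A Λ) = IsLocalRing.maximalIdeal Λ := by
  obtain ⟨σ, B₀, hσ, hk⟩ := Groth.Agent.ArtApprox4.exists_coefficient p hH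
  exact Groth.Agent.ArtApprox4.exists_subalgebra σ hσ B₀ hk E

end Groth.Agent.S6854
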