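import Groth.Statements.S6855
-- import your own Groth.Agent.* helpers here

set_option autoImplicit false
universe u
open CategoryTheory CategoryTheory.Limits TopologicalSpace
open ModSite

namespace Groth.Agent.S6855

/-- Let X be a topological space and O a sheaf of rings on X. Then the support of O, the set of points x
with nonzero stalk O_x, is closed in X. -/
theorem result {X : TopCat.{u}} (O : TopCat.Sheaf CommRingCat.{u} X) :
    IsClosed {x : X | Nontrivial (O.presheaf.stalk x)} := by
  refine isOpen_compl_iff.1 (isOpen_iff_forall_mem_open.2 fun x hx => ?_)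
  have hs : Subsingleton (O.presheaf.stalk x) := not_nontrivial_iff_subsingleton.1 hx
  obtain ⟨U, _, hxU⟩ : ∃ U : Opens X, True ∧ x ∈ U := ⟨⊤, trivial, trivial⟩
  obtain ⟨W, hxW, i, j, e⟩ := O.presheaf.germ_eq x hxU hxU 1 0 (Subsingleton.elim _ _)
  refine ⟨W, fun z hz => ?_, W.isOpen, hxW⟩
  intro (hn : Nontrivial (O.presheaf.stalk z))
  have h1 : O.presheaf.germ W z hz (O.presheaf.map i.op 1) = O.presheaf.germ W z hz (O.presheaf.map j.op 0) :=
    congrArg _ e
  rw [map_one, map_one, map_zero, map_zero] at h1
  exact one_ne_zero h1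

end Groth.Agent.S6855
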