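import Groth.Statements.S6857
import Groth.Agent.Lib.ClosedEmb25.Ab
-- import your own Groth.Agent.* helpers here

set_option autoImplicit false
universe u
open CategoryTheory CategoryTheory.Limits TopologicalSpace
open CohTop

namespace Groth.Agent.S6857

/-- Let i : Z → X be the inclusion of a closed subset of a topological space (a closed embedding). Then
i_* : Ab(Z) → Ab(X) is exact (right exactness being the content, i_* is a right adjoint) and fully
faithful, an abelian sheaf on X lies in its essential image exactly when its stalks at points
outside i(Z) are zero (support contained in Z), and i⁻¹ ∘ i_* is isomorphic to the identity functor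
(existence of an isomorphism of functors is asserted). -/
theorem result {Z X : TopCat.{u}} (i : Z ⟶ X)
    (hi : Topology.IsClosedEmbedding i) :
    PreservesFiniteColimits (CohTop.push i) ∧ (CohTop.push i).Full ∧ (CohTop.push i).Faithful ∧
      (∀ F : CohTop.Ab X, (CohTop.push i).essImage F ↔ ∀ x : X, x ∉ Set.range i → IsZero (CohTop.stalk F x)) ∧
      Nonempty (CohTop.push i ⋙ CohTop.pull i ≅ 𝟭 (CohTop.Ab Z)) := by
  refine ⟨GrothLib.ClosedEmb.preservesFiniteColimits_push hi, GrothLib.ClosedEmb.full hi.isInducing, GrothLib.ClosedEmb.faithful hi.isInducing,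
    GrothLib.ClosedEmb.essImage_iff_ab hi, ?_⟩
  have := fun G => GrothLib.ClosedEmb.isIso_counit AddCommGrpCat.{u} hi.isInducing G
  have : IsIso (TopCat.Sheaf.pullbackPushforwardAdjunction AddCommGrpCat.{u} i).counit :=
    NatIso.isIso_of_isIso_app _
  exact ⟨@asIso _ _ _ _ (TopCat.Sheaf.pullbackPushforwardAdjunction AddCommGrpCat.{u} i).counit this⟩

end Groth.Agent.S6857
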