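import Groth.Statements.S6858
import Groth.Agent.Lib.SecGen25.Rank

set_option autoImplicit false
universe u
open CategoryTheory CategoryTheory.Limits TopologicalSpace
open ModSite

namespace Groth.Agent.S6858

/-- Let (X, O) be a ringed space all of whose stalks O_{X,x} are nonzero rings and F a locally free
O-module. Then there is a locally constant function rank_F : X → ℕ ∪ {∞} such that for every point
x, every open neighbourhood U of x and every index set I with F|_U ≅ ⊕_{i ∈ I} O_U, the cardinality
of I (a natural number or ∞) is rank_F(x). -/
theorem result {X : TopCat.{u}} (O : TopCat.Sheaf CommRingCat.{u} X)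
    (hO : ∀ x : X, Nontrivial (O.presheaf.stalk x)) (F : ModSite.Mod O)
    [SheafOfModules.IsLocallyFree (R := ModSite.ringSh O) F] :
    ∃ rk : X → ℕ∞, IsLocallyConstant rk ∧
      ∀ (x : X) (U : Opens X) (I : Type u), x ∈ U →
        Nonempty ((ModSite.restr O U).obj F ≅ SheafOfModules.free I) → ENat.card I = rk x := by
  exact GrothLib.SecGen25.exists_rank hO ‹_›

end Groth.Agent.S6858
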