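import Groth.Statements.S6860
import Mathlib.RingTheory.Smooth.StandardSmooth
import Mathlib.RingTheory.Extension.Presentation.Submersive

set_option autoImplicit false
set_option backward.isDefEq.respectTransparency false
universe u
open Smoothing

namespace Groth.Agent.S6860

/-- Let R → A be standard smooth and E ⊆ A a finite subset. Then A admits a standard smooth presentation
A = R[x₁, …, x_N]/(f₁, …, f_c) (a submersive presentation: finitely many generators and relations,
an injection from the relations to the variables picking the distinguished variables, and the
Jacobian of the relations with respect to the distinguished variables invertible in A) in which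
every element of E is the class of a distinguished variable. (The published statement arranges E to
be exactly the classes of the first n = |E| variables, all of them distinguished, with c ≥ n; this
row states that E is contained in the set of classes of the distinguished variables, which is what
that arrangement gives.) -/
theorem result {R A : Type u} [CommRing R] [CommRing A] [Algebra R A]
    [Algebra.IsStandardSmooth R A] (E : Finset A) :
    ∃ (ι σ : Type) (_ : Finite ι) (_ : Finite σ) (P : Algebra.SubmersivePresentation R A ι σ),
      (↑E : Set A) ⊆ Set.range (P.val ∘ P.map) := by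
  classical
  obtain ⟨ι, σ, hσ, hι, ⟨P⟩⟩ := ‹Algebra.IsStandardSmooth R A›.out
  let k := E.card
  let e : Fin k → A := fun i => (E.equivFin.symm i : A)
  let v : Fin k → MvPolynomial (Fin k) A := fun i => MvPolynomial.X i - MvPolynomial.C (e i)
  let J := Ideal.span (Set.range v)
  have hJ : ∀ x ∈ J, MvPolynomial.aeval (R := A) e x = 0 := by
    intro x hx
    have : J ≤ RingHom.ker (MvPolynomial.aeval (R := A) e).toRingHom := Ideal.span_le.2 (by
      rintro _ ⟨i, rfl⟩
      simp [v])
    exact this hx
  let Φ : (MvPolynomial (Fin k) A ⧸ J) ≃ₐ[A] A :=
    AlgEquiv.ofAlgHom (Ideal.Quotient.liftₐ J (MvPolynomial.aeval e) hJ) (Algebra.ofId _ _)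
      (AlgHom.ext fun x => by simp)
      (Ideal.Quotient.algHom_ext A (MvPolynomial.algHom_ext fun i => by
        have h : Ideal.Quotient.mk J (MvPolynomial.X i) = Ideal.Quotient.mk J (MvPolynomial.C (e i)) :=
          Ideal.Quotient.eq.2 (Ideal.subset_span ⟨i, rfl⟩)
        simp [h]
        rfl))
  let Q₀ : Algebra.SubmersivePresentation A (MvPolynomial (Fin k) A ⧸ J) (Fin k) (Fin k) :=
    { Algebra.PreSubmersivePresentation.naive (v := v) id Function.injective_id with
      jacobian_isUnit := by
        rw [Algebra.PreSubmersivePresentation.jacobian_eq_jacobiMatrix_det]
        have : (Algebra.PreSubmersivePresentation.naive (v := v) id Function.injective_id).jacobiMatrix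
            = 1 := by
          ext i j : 1
          rw [Algebra.PreSubmersivePresentation.jacobiMatrix_naive]
          by_cases hij : i = j
          · subst hij; simp [v]
          · simp [v, MvPolynomial.pderiv_X, hij, Pi.single_apply, Ne.symm hij]
        rw [this, Matrix.det_one, map_one]
        exact isUnit_one }
  let Q := Q₀.ofAlgEquiv Φ
  refine ⟨_, _, inferInstance, inferInstance, Q.comp P, ?_⟩
  intro a ha
  refine ⟨Sum.inl (E.equivFin ⟨a, ha⟩), ?_⟩
  show Φ (Ideal.Quotient.mk J (MvPolynomial.X _)) = a
  show MvPolynomial.aeval e (MvPolynomial.X (E.equivFin ⟨a, ha⟩)) = a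
  simp [e]

end Groth.Agent.S6860
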