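import Groth.Statements.S6862
import Mathlib.Algebra.Module.StablyFree.Basic
import Mathlib.RingTheory.Finiteness.Prod
import Mathlib.Algebra.Module.Projective
-- import your own Groth.Agent.* helpers here

set_option autoImplicit false
universe u
open CAlg

namespace Groth.Agent.S6862

/-- Let `R` be a commutative ring and `P'`, `P`, `P''` finitely generated projective `R`-modules in an
exact sequence `0 → P' → P → P'' → 0`. Whenever two of the three are stably free, the remaining one
is stably free too (all three cases are stated). -/
theorem result {R : Type u} [CommRing R] {P' P P'' : Type u}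
    [AddCommGroup P'] [Module R P'] [Module.Finite R P'] [Module.Projective R P']
    [AddCommGroup P] [Module R P] [Module.Finite R P] [Module.Projective R P]
    [AddCommGroup P''] [Module R P''] [Module.Finite R P''] [Module.Projective R P'']
    (f : P' →ₗ[R] P) (g : P →ₗ[R] P'') (hf : Function.Injective f) (hg : Function.Surjective g)
    (hfg : Function.Exact f g) :
    (Module.IsStablyFree R P' → Module.IsStablyFree R P → Module.IsStablyFree R P'') ∧
    (Module.IsStablyFree R P' → Module.IsStablyFree R P'' → Module.IsStablyFree R P) ∧
    (Module.IsStablyFree R P → Module.IsStablyFree R P'' → Module.IsStablyFree R P') := by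
  obtain ⟨s, hs⟩ := Module.projective_lifting_property g LinearMap.id hg
  let e : P ≃ₗ[R] P' × P'' :=
    (hfg.splitSurjectiveEquiv hf ⟨s, hs⟩).1
  refine ⟨fun h1 h2 => ?_, fun h1 h2 => ?_, fun h1 h2 => ?_⟩
  · obtain ⟨F, _, _, _, _, hF⟩ := Module.IsStablyFree.exist_free_prod R P'
    obtain ⟨G, _, _, _, _, hG⟩ := Module.IsStablyFree.exist_free_prod R P
    have : Module.Free R (P'' × ((P' × F) × G)) := Module.Free.of_equiv
      ((LinearEquiv.prodAssoc R P G F).trans
        ((e.prodCongr (LinearEquiv.prodComm R G F)).trans
          (((LinearEquiv.prodComm R P' P'').prodCongr (LinearEquiv.refl R (F × G))).trans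
            ((LinearEquiv.prodAssoc R P'' P' (F × G)).trans
              ((LinearEquiv.refl R P'').prodCongr (LinearEquiv.prodAssoc R P' F G).symm)))))
    exact .of_free_prod R P'' ((P' × F) × G)
  · obtain ⟨F, _, _, _, _, hF⟩ := Module.IsStablyFree.exist_free_prod R P'
    obtain ⟨G, _, _, _, _, hG⟩ := Module.IsStablyFree.exist_free_prod R P''
    have : Module.Free R (P × (F × G)) := Module.Free.of_equiv
      ((LinearEquiv.prodProdProdComm R P' F P'' G).trans
        (e.symm.prodCongr (LinearEquiv.refl R (F × G))))
    exact .of_free_prod R P (F × G)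
  · obtain ⟨F, _, _, _, _, hF⟩ := Module.IsStablyFree.exist_free_prod R P''
    obtain ⟨G, _, _, _, _, hG⟩ := Module.IsStablyFree.exist_free_prod R P
    have : Module.Free R (P' × ((P'' × F) × G)) := Module.Free.of_equiv
      ((LinearEquiv.prodAssoc R P G F).trans
        ((e.prodCongr (LinearEquiv.prodComm R G F)).trans
          ((LinearEquiv.prodAssoc R P' P'' (F × G)).trans
            ((LinearEquiv.refl R P').prodCongr (LinearEquiv.prodAssoc R P'' F G).symm))))
    exact .of_free_prod R P' ((P'' × F) × G)

end Groth.Agent.S6862
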