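import Groth.Statements.S6863
import Mathlib
-- import your own Groth.Agent.* helpers here

set_option autoImplicit false
universe u
open TensorProduct
open CAlg

namespace Groth.Agent.S6863

/-- Let `I` be an ideal of a commutative ring `R` contained in the Jacobson radical (equivalently, `1 +
i` is a unit for each `i ∈ I`). Then each finitely generated stably free module `E` over `R/I`
lifts: there is a finite stably free `R`-module `M` with `M/IM ≅ E` (existence of an isomorphism
only; the published statement names no map). -/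
theorem result {R : Type u} [CommRing R] (I : Ideal R)
    (hI : I ≤ Ideal.jacobson (⊥ : Ideal R)) (E : Type u) [AddCommGroup E] [Module (R ⧸ I) E]
    [Module.Finite (R ⧸ I) E] [Module.IsStablyFree (R ⧸ I) E] :
    ∃ (M : Type u) (_ : AddCommGroup M) (_ : Module R M), Module.Finite R M ∧ Module.IsStablyFree R M ∧
      Nonempty ((R ⧸ I) ⊗[R] M ≃ₗ[R ⧸ I] E) := by
  classical
  obtain ⟨N', _, _, _, _, hfree⟩ := Module.IsStablyFree.exist_free_prod (R ⧸ I) E
  let bN := Module.Free.chooseBasis (R ⧸ I) N'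
  let bb := Module.Free.chooseBasis (R ⧸ I) (E × N')
  let α := Module.Free.ChooseBasisIndex (R ⧸ I) N'
  let β := Module.Free.ChooseBasisIndex (R ⧸ I) (E × N')
  let p : (β → R ⧸ I) →ₗ[R ⧸ I] (α → R ⧸ I) :=
    bN.equivFun.toLinearMap ∘ₗ (LinearMap.snd (R ⧸ I) E N') ∘ₗ bb.equivFun.symm.toLinearMap
  have hp : Function.Surjective p :=
    bN.equivFun.surjective.comp (Prod.snd_surjective.comp bb.equivFun.symm.surjective)
  let mkβ : (β → R) →ₗ[R] (β → R ⧸ I) := LinearMap.pi fun i ↦ (Submodule.mkQ I) ∘ₗ LinearMap.proj i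
  let mkα : (α → R) →ₗ[R] (α → R ⧸ I) := LinearMap.pi fun i ↦ (Submodule.mkQ I) ∘ₗ LinearMap.proj i
  have hmkα : Function.Surjective mkα := fun y ↦ by
    choose x hx using fun i ↦ Submodule.mkQ_surjective I (y i)
    exact ⟨x, funext hx⟩
  have hmkβ : Function.Surjective mkβ := fun y ↦ by
    choose x hx using fun i ↦ Submodule.mkQ_surjective I (y i)
    exact ⟨x, funext hx⟩
  obtain ⟨P, hP⟩ := Module.projective_lifting_property mkα ((p.restrictScalars R) ∘ₗ mkβ) hmkα
  have hP' : ∀ w, mkα (P w) = p (mkβ w) := fun w ↦ LinearMap.congr_fun hP w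
  have hker : ∀ (γ : Type u) [Fintype γ] (x : γ → R), (∀ i, x i ∈ I) → x ∈ I • (⊤ : Submodule R (γ → R)) := fun γ _ x hx ↦ by
    rw [pi_eq_sum_univ x]
    exact Submodule.sum_mem _ fun i _ ↦ Submodule.smul_mem_smul (hx i) Submodule.mem_top
  have hPsurj : Function.Surjective P := by
    rw [← LinearMap.range_eq_top]
    refine top_le_iff.mp (Submodule.le_of_le_smul_of_le_jacobson_bot Module.Finite.fg_top hI fun x _ ↦ ?_)
    obtain ⟨v, hv⟩ := hp (mkα x)
    obtain ⟨w, rfl⟩ := hmkβ v
    refine Submodule.mem_sup.mpr ⟨P w, ⟨w, rfl⟩, x - P w, hker α _ fun i ↦ ?_, add_sub_cancel _ _⟩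
    have := congrFun ((hP' w).trans hv) i
    exact (Submodule.Quotient.eq I).mp this.symm
  obtain ⟨s, hs⟩ := Module.projective_lifting_property P LinearMap.id hPsurj
  have hs' : ∀ y, P (s y) = y := fun y ↦ LinearMap.congr_fun hs y
  let M := LinearMap.ker P
  let ret : (β → R) →ₗ[R] M := (LinearMap.id - s ∘ₗ P).codRestrict M fun w ↦ by
    show P (w - s (P w)) = 0
    rw [map_sub, hs', sub_self]
  have hret : ∀ m : M, ret m = m := fun m ↦ Subtype.ext (by
    show (m : β → R) - s (P m) = m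
    rw [LinearMap.mem_ker.mp m.2, map_zero, sub_zero])
  have hfin : Module.Finite R M := Module.Finite.of_surjective ret fun m ↦ ⟨m, hret m⟩
  let e : (M × (α → R)) ≃ₗ[R] (β → R) :=
    { toFun := fun x ↦ (x.1 : β → R) + s x.2
      map_add' := fun x y ↦ by simp only [Prod.fst_add, Prod.snd_add, Submodule.coe_add, map_add]; abel
      map_smul' := fun r x ↦ by simp [smul_add]
      invFun := fun w ↦ (ret w, P w)
      left_inv := fun x ↦ by
        have h1 : P ((x.1 : β → R) + s x.2) = x.2 := by rw [map_add, LinearMap.mem_ker.mp x.1.2, hs', zero_add]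
        refine Prod.ext (Subtype.ext ?_) h1
        show (x.1 : β → R) + s x.2 - s (P ((x.1 : β → R) + s x.2)) = x.1
        rw [h1, add_sub_cancel_right]
      right_inv := fun w ↦ by show (w - s (P w)) + s (P w) = w; rw [sub_add_cancel] }
  haveI : Module.Free R (M × (α → R)) := Module.Free.of_equiv e.symm
  have hsf : Module.IsStablyFree R M := Module.IsStablyFree.of_free_prod R M (α → R)
  letI : Module R E := Module.compHom E (Ideal.Quotient.mk I)
  haveI : IsScalarTower R (R ⧸ I) E := IsScalarTower.of_algebraMap_smul fun r x ↦ rfl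
  let fE : (β → R ⧸ I) →ₗ[R] E := ((LinearMap.fst (R ⧸ I) E N') ∘ₗ bb.equivFun.symm.toLinearMap).restrictScalars R
  let θ0 : M →ₗ[R] E := fE ∘ₗ mkβ ∘ₗ M.subtype
  let θ : (R ⧸ I) ⊗[R] M →ₗ[R ⧸ I] E := LinearMap.liftBaseChange (R ⧸ I) θ0
  have hθ : ∀ m, θ (1 ⊗ₜ m) = θ0 m := fun m ↦ by simp [θ]
  have hmem : ∀ (γ : Type u) [Fintype γ] (f : (α → R) →ₗ[R] (γ → R)) (y : α → R), (∀ i, y i ∈ I) → ∀ j, f y j ∈ I := fun γ _ f y hy j ↦ by
    rw [pi_eq_sum_univ y, map_sum, Finset.sum_apply]
    exact Ideal.sum_mem _ fun i _ ↦ by rw [map_smul, Pi.smul_apply, smul_eq_mul]; exact I.mul_mem_right _ (hy i)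
  refine ⟨M, inferInstance, inferInstance, hfin, hsf, ⟨LinearEquiv.ofBijective θ ⟨?_, fun x ↦ ?_⟩⟩⟩
  · rw [injective_iff_map_eq_zero]
    intro z hz
    obtain ⟨m, rfl⟩ := TensorProduct.mk_surjective R M (R ⧸ I) Ideal.Quotient.mk_surjective z
    change θ (1 ⊗ₜ m) = 0 at hz
    rw [hθ] at hz
    have h2 : p (mkβ m) = 0 := by rw [← hP', LinearMap.mem_ker.mp m.2, map_zero]
    have h3 : bb.equivFun.symm (mkβ m) = 0 := Prod.ext hz (bN.equivFun.injective (h2.trans (map_zero _).symm))
    have h4 : mkβ m = 0 := bb.equivFun.symm.injective (h3.trans (map_zero _).symm)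
    show (1 : R ⧸ I) ⊗ₜ[R] m = 0
    rw [← hret m, pi_eq_sum_univ (m : β → R), map_sum, TensorProduct.tmul_sum]
    refine Finset.sum_eq_zero fun i _ ↦ ?_
    rw [map_smul, ← TensorProduct.smul_tmul]
    have : (m : β → R) i • (1 : R ⧸ I) = 0 := by
      rw [Algebra.smul_def, mul_one]
      exact (Submodule.Quotient.mk_eq_zero I).mpr ((Submodule.Quotient.mk_eq_zero I).mp (congrFun h4 i))
    rw [this, TensorProduct.zero_tmul]
  · obtain ⟨w, hw⟩ := hmkβ (bb.equivFun (x, 0))
    have hPw : ∀ i, P w i ∈ I := fun i ↦ by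
      have h5 : mkα (P w) = 0 := by
        rw [hP', hw]
        show bN.equivFun ((bb.equivFun.symm (bb.equivFun (x, 0))).2) = 0
        rw [LinearEquiv.symm_apply_apply, map_zero]
      exact (Submodule.Quotient.mk_eq_zero I).mp (congrFun h5 i)
    refine ⟨1 ⊗ₜ ret w, ?_⟩
    rw [hθ]
    have h6 : mkβ (ret w : β → R) = mkβ w := funext fun j ↦ (Submodule.Quotient.eq I).mpr (by
      show (w - s (P w)) j - w j ∈ I
      rw [Pi.sub_apply, sub_sub_cancel_left]
      exact neg_mem (hmem β s _ hPw j))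
    show fE (mkβ (ret w : β → R)) = x
    rw [h6, hw]
    show (bb.equivFun.symm (bb.equivFun (x, 0))).1 = x
    rw [LinearEquiv.symm_apply_apply]

end Groth.Agent.S6863
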