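import Groth.Statements.S6864
import Mathlib.RingTheory.Nakayama
import Mathlib.LinearAlgebra.TensorProduct.Quotient
import Mathlib.RingTheory.TensorProduct.Maps
import Mathlib.RingTheory.Finiteness.Basic

set_option autoImplicit false
universe u
open TensorProduct
open CAlg

namespace Groth.Agent.S6864

/-- Let `I` be an ideal of a commutative ring `R` contained in the Jacobson radical and let `φ : P → P'`
be an `R`-linear map between finite projective `R`-modules. If the induced map `P/IP → P'/IP'` is
bijective, then `φ` is bijective. -/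
theorem result {R : Type u} [CommRing R] (I : Ideal R)
    (hI : I ≤ Ideal.jacobson (⊥ : Ideal R)) {P P' : Type u}
    [AddCommGroup P] [Module R P] [Module.Finite R P] [Module.Projective R P]
    [AddCommGroup P'] [Module R P'] [Module.Finite R P'] [Module.Projective R P'] (φ : P →ₗ[R] P')
    (h : Function.Bijective (φ.baseChange (R ⧸ I))) : Function.Bijective φ := by
  let εP := TensorProduct.quotTensorEquivQuotSMul P I
  let εP' := TensorProduct.quotTensorEquivQuotSMul P' I
  have key : ∀ z, εP' (φ.baseChange (R ⧸ I) z) = (I • (⊤ : Submodule R P)).mapQ (I • ⊤) φ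
      (by rw [← Submodule.map_le_iff_le_comap, Submodule.map_smul'']
          exact Submodule.smul_mono le_rfl le_top) (εP z) := by
    intro z
    induction z using TensorProduct.induction_on with
    | zero => simp
    | add a b ha hb => simp only [map_add, ha, hb]
    | tmul r x =>
      obtain ⟨r, rfl⟩ := Ideal.Quotient.mk_surjective r
      simp [εP, εP']
  have hinj : ∀ x, φ x = 0 → x ∈ I • (⊤ : Submodule R P) := by
    intro x hx
    rw [← Submodule.Quotient.mk_eq_zero]
    have h1 : φ.baseChange (R ⧸ I) (εP.symm (Submodule.Quotient.mk x)) = 0 := by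
      apply εP'.injective
      rw [key, εP.apply_symm_apply, map_zero, Submodule.mapQ_apply, hx, Submodule.Quotient.mk_zero]
    have h2 := h.1 (h1.trans (map_zero _).symm)
    simpa using congrArg εP h2
  have hsurj : LinearMap.range φ = ⊤ := by
    have h1 : (⊤ : Submodule R P') ≤ LinearMap.range φ ⊔ I • ⊤ := by
      intro y _
      obtain ⟨z, hz⟩ := h.2 (εP'.symm (Submodule.Quotient.mk y))
      obtain ⟨x, hx⟩ := Submodule.Quotient.mk_surjective _ (εP z)
      have h2 := congrArg εP' hz
      rw [key, εP'.apply_symm_apply, ← hx, Submodule.mapQ_apply] at h2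
      exact Submodule.mem_sup.2 ⟨φ x, ⟨x, rfl⟩, y - φ x, (Submodule.Quotient.eq _).1 h2.symm, by abel⟩
    exact top_le_iff.1 (Submodule.le_of_le_smul_of_le_jacobson_bot Module.Finite.fg_top hI h1)
  obtain ⟨s, hs⟩ := Module.projective_lifting_property φ LinearMap.id (LinearMap.range_eq_top.1 hsurj)
  have hs' : ∀ y, φ (s y) = y := LinearMap.congr_fun hs
  let e : P →ₗ[R] P := LinearMap.id - s ∘ₗ φ
  have hrange : LinearMap.range e = LinearMap.ker φ := by
    refine le_antisymm ?_ fun x hx => ⟨x, by simp [e, LinearMap.mem_ker.1 hx]⟩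
    rintro _ ⟨x, rfl⟩
    simp [e, hs']
  have hfg : (LinearMap.ker φ).FG := by
    rw [← hrange, LinearMap.range_eq_map]
    exact Module.Finite.fg_top.map _
  have hker : LinearMap.ker φ ≤ I • LinearMap.ker φ := by
    intro x hx
    have h1 : e x ∈ I • LinearMap.range e := by
      rw [← Submodule.map_top, ← Submodule.map_smul'']
      exact Submodule.mem_map_of_mem (hinj x hx)
    rw [hrange] at h1
    simpa [e, LinearMap.mem_ker.1 hx] using h1
  exact ⟨LinearMap.ker_eq_bot.1 (Submodule.eq_bot_of_le_smul_of_le_jacobson_bot I _ hfg hker hI),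
    LinearMap.range_eq_top.1 hsurj⟩

end Groth.Agent.S6864
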