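import Groth.Statements.S6865
import Groth.Agent.S6864
import Mathlib.Algebra.Module.Projective

set_option autoImplicit false
universe u
open TensorProduct
open CAlg

namespace Groth.Agent.S6865

/-- Let `I` be an ideal of a commutative ring `R` contained in the Jacobson radical and let `P, P'` be
finite projective `R`-modules. If `P/IP` and `P'/IP'` are isomorphic `R/I`-modules, then `P` and
`P'` are isomorphic. -/
theorem result {R : Type u} [CommRing R] (I : Ideal R)
    (hI : I ≤ Ideal.jacobson (⊥ : Ideal R)) (P P' : Type u)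
    [AddCommGroup P] [Module R P] [Module.Finite R P] [Module.Projective R P]
    [AddCommGroup P'] [Module R P'] [Module.Finite R P'] [Module.Projective R P']
    (e : (R ⧸ I) ⊗[R] P ≃ₗ[R ⧸ I] (R ⧸ I) ⊗[R] P') : Nonempty (P ≃ₗ[R] P') := by
  let μ := TensorProduct.mk R (R ⧸ I) P' 1
  have hμ : Function.Surjective μ := by
    intro z
    induction z using TensorProduct.induction_on with
    | zero => exact ⟨0, map_zero μ⟩
    | add a b ha hb =>
      obtain ⟨u, rfl⟩ := ha
      obtain ⟨v, rfl⟩ := hb
      exact ⟨u + v, map_add μ u v⟩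
    | tmul r y =>
      obtain ⟨r, rfl⟩ := Ideal.Quotient.mk_surjective r
      refine ⟨r • y, ?_⟩
      change (1 : R ⧸ I) ⊗ₜ[R] (r • y) = _
      rw [← TensorProduct.smul_tmul, Algebra.smul_def, mul_one]
      rfl
  obtain ⟨φ, hφ⟩ := Module.projective_lifting_property μ
    ((e.toLinearMap.restrictScalars R) ∘ₗ TensorProduct.mk R (R ⧸ I) P 1) hμ
  have hb : Function.Bijective (φ.baseChange (R ⧸ I)) := by
    have : φ.baseChange (R ⧸ I) = e.toLinearMap := by
      apply TensorProduct.AlgebraTensorModule.ext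
      intro r x
      have h1 : (1 : R ⧸ I) ⊗ₜ[R] φ x = e (1 ⊗ₜ[R] x) := LinearMap.congr_fun hφ x
      rw [LinearMap.baseChange_tmul]
      have h2 : r ⊗ₜ[R] φ x = r • ((1 : R ⧸ I) ⊗ₜ[R] φ x) := by
        rw [TensorProduct.smul_tmul', smul_eq_mul, mul_one]
      have h3 : r ⊗ₜ[R] x = r • ((1 : R ⧸ I) ⊗ₜ[R] x) := by
        rw [TensorProduct.smul_tmul', smul_eq_mul, mul_one]
      rw [h2, h1, h3]
      exact (map_smul e r _).symm
    rw [this]; exact e.bijective
  exact ⟨LinearEquiv.ofBijective φ (Groth.Agent.S6864.result I hI φ hb)⟩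

end Groth.Agent.S6865
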