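import Groth.Statements.S6866
import Mathlib
-- import your own Groth.Agent.* helpers here

set_option autoImplicit false
universe u
open TensorProduct
open CAlg

namespace Groth.Agent.S6866

/-- If `M` is a torsion free module over a domain `R` and `R → R'` is a flat ring map to another domain,
then `R' ⊗_R M` is torsion free over `R'`. -/
theorem result (R R' : Type u) [CommRing R] [IsDomain R] [CommRing R']
    [IsDomain R'] [Algebra R R'] [Module.Flat R R'] (M : Type u) [AddCommGroup M] [Module R M]
    [Module.IsTorsionFree R M] : Module.IsTorsionFree R' (R' ⊗[R] M) := by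
  let K := FractionRing R
  let V := K ⊗[R] M
  have : Module.Flat R V := Module.Flat.trans R K V
  let φ : M →ₗ[R] V := TensorProduct.mk R K M 1
  have hφ : Function.Injective φ := by
    rw [← LinearMap.ker_eq_bot, eq_bot_iff]
    intro m hm
    obtain ⟨c, hc⟩ := (IsLocalizedModule.eq_zero_iff (nonZeroDivisors R) φ).mp hm
    exact (smul_eq_zero.mp hc).resolve_left (nonZeroDivisors.coe_ne_zero c)
  have hinj : Function.Injective (φ.lTensor R') := Module.Flat.lTensor_preserves_injective_linearMap φ hφ
  refine ⟨fun r hr ↦ ?_⟩
  intro x y hxy
  apply hinj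
  let μ : R' →ₗ[R] R' := LinearMap.lsmul R' R' r |>.restrictScalars R
  have hμ : Function.Injective μ := fun a b h ↦ hr.left h
  have key : ∀ z : R' ⊗[R] M, φ.lTensor R' (r • z) = μ.rTensor V (φ.lTensor R' z) := fun z ↦ by
    induction z using TensorProduct.induction_on with
    | zero => simp
    | tmul a m => simp [μ, TensorProduct.smul_tmul']
    | add a b ha hb => simp only [smul_add, map_add, ha, hb]
  refine Module.Flat.rTensor_preserves_injective_linearMap (M := V) μ hμ ?_
  rw [← key, ← key]
  exact congrArg _ hxy

end Groth.Agent.S6866
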