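import Groth.Statements.S6868
import Groth.Agent.S2085
import Mathlib
-- import your own Groth.Agent.* helpers here

set_option autoImplicit false
universe u
open CAlg

namespace Groth.Agent.S6868

/-- (1) ⇔ (3) ⇔ (4): for a Noetherian domain `R` and a nonzero finite `R`-module `M`, torsion-freeness
of `M` is equivalent to `(0)` being the unique associated prime of `M`, and also to the conjunction:
`(0)` belongs to the support of `M` and `M` satisfies Serre's condition `(S_1)`. (The published
statement also lists embedding into a finite free module and the absence of embedded associated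
primes; this row states the other three conditions.) -/
theorem result (R : Type u) [CommRing R]
    [IsDomain R] [IsNoetherianRing R] (M : Type u) [AddCommGroup M] [Module R M] [Module.Finite R M] [Nontrivial M] :
    (Module.IsTorsionFree R M ↔ associatedPrimes R M = {⊥}) ∧
    (Module.IsTorsionFree R M ↔
      (⟨⊥, Ideal.isPrime_bot⟩ : PrimeSpectrum R) ∈ Module.support R M ∧ LocCoh.HasSk 1 R M) := by
  classical
  have h1 : Module.IsTorsionFree R M ↔ associatedPrimes R M = {⊥} := by
    constructor
    · intro h
      have hle : ∀ p ∈ associatedPrimes R M, p = ⊥ := fun p hp ↦ by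
        obtain ⟨hprime, x, hx⟩ := hp
        rw [eq_bot_iff]
        intro r hr
        rw [hx] at hr
        obtain ⟨n, hn⟩ := hr
        rw [Submodule.mem_colon_singleton, Submodule.mem_bot, smul_eq_zero] at hn
        rcases hn with hn | hn
        · exact pow_eq_zero_iff'.mp hn |>.1
        · exact absurd ((Ideal.eq_top_iff_one _).mpr (by rw [hx]; exact Ideal.le_radical (by simp [Submodule.mem_colon_singleton, hn]))) hprime.ne_top
      obtain ⟨p, hp⟩ := associatedPrimes.nonempty R M
      exact Set.eq_singleton_iff_unique_mem.mpr ⟨hle p hp ▸ hp, hle⟩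
    · intro h
      refine .of_smul_eq_zero fun r m hrm ↦ or_iff_not_imp_right.mpr fun hm ↦ ?_
      obtain ⟨P, hP, hle⟩ := exists_le_isAssociatedPrime_of_isNoetherianRing R m hm
      have hPb : P = ⊥ := h.le (show P ∈ associatedPrimes R M from hP)
      have := hle (show r ∈ (⊥ : Submodule R M).colon {m} by simpa [Submodule.mem_colon_singleton] using hrm)
      simpa [hPb] using this
  refine ⟨h1, h1.trans ⟨fun h ↦ ?_, fun ⟨hsupp, hS⟩ ↦ ?_⟩⟩
  · have hb : (⊥ : Ideal R) ∈ associatedPrimes R M := h ▸ rfl
    have hann : Module.annihilator R M ≤ ⊥ :=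
      le_of_eq_of_le Submodule.annihilator_top.symm (IsAssociatedPrime.annihilator_le hb)
    refine ⟨Module.mem_support_iff_of_finite.mpr hann, (Groth.Agent.S2085.result).mp fun p hp ↦ ?_⟩
    rw [h, Set.mem_singleton_iff] at hp
    subst hp
    exact ⟨⟨Ideal.isPrime_bot, hann⟩, fun q _ _ ↦ bot_le⟩
  · have hann : Module.annihilator R M ≤ ⊥ := Module.mem_support_iff_of_finite.mp hsupp
    obtain ⟨p, hp⟩ := associatedPrimes.nonempty R M
    have hle : ∀ p ∈ associatedPrimes R M, p = ⊥ := fun p hp ↦
      eq_bot_iff.mpr ((Groth.Agent.S2085.result.mpr hS p hp).2 ⟨Ideal.isPrime_bot, hann⟩ bot_le)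
    exact Set.eq_singleton_iff_unique_mem.mpr ⟨hle p hp ▸ hp, hle⟩

end Groth.Agent.S6868
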