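import Groth.Statements.S6870
import Mathlib
-- import your own Groth.Agent.* helpers here

set_option autoImplicit false
universe u
open CAlg

namespace Groth.Agent.S6870

/-- Let `R` be a domain, `M` a finite `R`-module and `j : M → M**` the evaluation map into the double
dual. Then one nonzero `c ∈ R` kills the kernel of `j` and multiplies `M**` into the image of `j`.
(The published statement says only that the kernel and cokernel of `j` are torsion; this row gives
one such `c` for both.) -/
theorem result (R : Type u) [CommRing R] [IsDomain R] (M : Type u)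
    [AddCommGroup M] [Module R M] [Module.Finite R M] :
    ∃ c : R, c ≠ 0 ∧ (∀ x : M, Module.Dual.eval R M x = 0 → c • x = 0) ∧
      ∀ y : Module.Dual R (Module.Dual R M), c • y ∈ LinearMap.range (Module.Dual.eval R M) := by
  skip
  classical
  obtain ⟨n, v, hv⟩ := Module.Finite.exists_fin (R := R) (M := M)
  obtain ⟨s, hsli, hs⟩ := exists_maximal_linearIndepOn R v
  choose! a ha0 ha using hs
  let c : R := ∏ i ∈ Finset.univ.filter (fun i => i ∉ s), a i
  have hc : c ≠ 0 := Finset.prod_ne_zero_iff.mpr fun i hi => ha0 i (Finset.mem_filter.mp hi).2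
  have hcm : ∀ m : M, c • m ∈ Submodule.span R (v '' s) := by
    intro m
    have hm : m ∈ Submodule.span R (Set.range v) := by rw [hv]; trivial
    induction hm using Submodule.span_induction with
    | mem x hx =>
      obtain ⟨i, rfl⟩ := hx
      by_cases hi : i ∈ s
      · exact Submodule.smul_mem _ _ (Submodule.subset_span ⟨i, hi, rfl⟩)
      · obtain ⟨d, hd⟩ : a i ∣ c := Finset.dvd_prod_of_mem _ (Finset.mem_filter.mpr ⟨Finset.mem_univ _, hi⟩)
        rw [hd, mul_comm, mul_smul]
        exact Submodule.smul_mem _ _ (ha i hi)
    | zero => simp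
    | add x y _ _ hx hy => rw [smul_add]; exact Submodule.add_mem _ hx hy
    | smul r x _ hx => rw [smul_comm]; exact Submodule.smul_mem _ r hx
  let F : Submodule R M := Submodule.span R (v '' s)
  have hspan : Submodule.span R (Set.range fun i : ↥s => v i) = F := by
    show _ = Submodule.span R (v '' s)
    rw [Set.image_eq_range]
  haveI : Module.Free R F :=
    Module.Free.of_basis ((Module.Basis.span hsli).map (LinearEquiv.ofEq _ _ hspan))
  haveI : Module.Finite R F :=
    Module.Finite.of_basis ((Module.Basis.span hsli).map (LinearEquiv.ofEq _ _ hspan))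
  let π : M →ₗ[R] F := (c • LinearMap.id).codRestrict F hcm
  have hπ : F.subtype ∘ₗ π = c • LinearMap.id := LinearMap.subtype_comp_codRestrict _ _ _
  refine ⟨c, hc, fun x hx => ?_, fun y => ?_⟩
  · have h1 : Module.Dual.eval R F (π x) = 0 := by
      ext φ
      have := LinearMap.congr_fun hx (φ ∘ₗ π)
      simpa using this
    have h2 : π x = 0 := (Module.bijective_dual_eval R F).1 (by rw [h1, map_zero])
    have := congrArg F.subtype h2
    rw [map_zero, ← LinearMap.comp_apply, hπ] at this
    simpa using this
  · obtain ⟨z, hz⟩ := (Module.bijective_dual_eval R F).2 (π.dualMap.dualMap y)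
    refine ⟨(z : M), ?_⟩
    ext φ
    have := LinearMap.congr_fun hz (F.subtype.dualMap φ)
    simp only [Module.Dual.eval_apply, LinearMap.dualMap_apply', LinearMap.comp_apply,
      Submodule.subtype_apply] at this
    rw [LinearMap.comp_assoc, hπ] at this
    rw [Module.Dual.eval_apply, LinearMap.smul_apply, this, ← map_smul]
    congr 1
    ext m; simp

end Groth.Agent.S6870
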