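import Groth.Statements.S6871
import Groth.Agent.Lib.DepthKer.ReflexiveLocal
import Mathlib.RingTheory.LocalProperties.Exactness
-- import your own Groth.Agent.* helpers here

set_option autoImplicit false
universe u
open CAlg

namespace Groth.Agent.S6871

/-- Let `R` be a Noetherian domain and `M` a finite `R`-module. Then `M` is reflexive if and only if
`M_𝔭` is a reflexive `R_𝔭`-module for every prime `𝔭`, if and only if `M_𝔪` is a reflexive
`R_𝔪`-module for every maximal ideal `𝔪`. -/
theorem result (R : Type u) [CommRing R] [IsDomain R] [IsNoetherianRing R] (M : Type u)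
    [AddCommGroup M] [Module R M] [Module.Finite R M] :
    (Module.IsReflexive R M ↔
      ∀ (p : Ideal R) [p.IsPrime], Module.IsReflexive (Localization.AtPrime p) (LocalizedModule p.primeCompl M)) ∧
    (Module.IsReflexive R M ↔
      ∀ (m : Ideal R) (_ : m.IsMaximal),
        Module.IsReflexive (Localization.AtPrime m) (LocalizedModule m.primeCompl M)) := by
  have hmax : (∀ (m : Ideal R) (_ : m.IsMaximal), Module.IsReflexive (Localization.AtPrime m) (LocalizedModule m.primeCompl M)) →
      Module.IsReflexive R M := fun h ↦
    ⟨bijective_of_localized_maximal (Module.Dual.eval R M) fun m hm ↦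
      GrothLib.DepthKer.bijective_localized_of_isReflexive M m (h m hm)⟩
  refine ⟨⟨fun _ p _ ↦ GrothLib.DepthKer.isReflexive_localized M p, fun h ↦ hmax fun m hm ↦ h m⟩,
    ⟨fun _ m hm ↦ GrothLib.DepthKer.isReflexive_localized M m, hmax⟩⟩

end Groth.Agent.S6871
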