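import Groth.Statements.S6874
import Mathlib
-- import your own Groth.Agent.* helpers here

set_option autoImplicit false
universe u
open TensorProduct
open CAlg

namespace Groth.Agent.S6874

section Aux
open TensorProduct
variable (R R' : Type u) [CommRing R] [CommRing R'] [Algebra R R'] [Module.Flat R R'] (M : Type u)
  [AddCommGroup M] [Module R M] [Module.FinitePresentation R M]

/-- The dual commutes with flat base change. -/
noncomputable def dualBC : R' ⊗[R] Module.Dual R M ≃ₗ[R'] Module.Dual R' (R' ⊗[R] M) :=
  (Module.FinitePresentation.isBaseChange_map R M R R').equiv.trans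
    ((AlgebraTensorModule.rid R R' R').congrRight)

theorem dualBC_apply (s t : R') (φ : Module.Dual R M) (m : M) :
    dualBC R R' M (s ⊗ₜ φ) (t ⊗ₜ m) = s * t * algebraMap R R' (φ m) := by
  show AlgebraTensorModule.rid R R' R' (((Module.FinitePresentation.isBaseChange_map R M R R').equiv (s ⊗ₜ φ)) (t ⊗ₜ m)) = _
  rw [IsBaseChange.equiv_tmul, LinearMap.smul_apply, map_smul]
  show s • AlgebraTensorModule.rid R R' R' (LinearMap.baseChange R' (φ : M →ₗ[R] R) (t ⊗ₜ m)) = _
  rw [LinearMap.baseChange_tmul, AlgebraTensorModule.rid_tmul, smul_eq_mul, Algebra.smul_def]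
  ring

end Aux

/-- For a flat ring map `R → R'` between Noetherian domains and a finite reflexive `R`-module `M`, the
base change `R' ⊗_R M` is a (finite) reflexive `R'`-module. -/
theorem result (R R' : Type u) [CommRing R] [IsDomain R]
    [IsNoetherianRing R] [CommRing R'] [IsDomain R'] [IsNoetherianRing R'] [Algebra R R'] [Module.Flat R R']
    (M : Type u) [AddCommGroup M] [Module R M] [Module.Finite R M] [Module.IsReflexive R M] :
    Module.IsReflexive R' (R' ⊗[R] M) := by
  haveI : Module.FinitePresentation R M := Module.finitePresentation_of_finite R M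
  haveI : Module.Finite R (Module.Dual R M) := inferInstance
  haveI : Module.FinitePresentation R (Module.Dual R M) := Module.finitePresentation_of_finite R _
  let e1 := dualBC R R' M
  let e2 := dualBC R R' (Module.Dual R M)
  have key : ∀ x, e1.dualMap (Module.Dual.eval R' (R' ⊗[R] M) x) =
      e2 ((Module.evalEquiv R M).toLinearMap.baseChange R' x) := by
    intro x
    induction x using TensorProduct.induction_on with
    | zero => simp only [map_zero]
    | add a b ha hb => simp only [map_add, ha, hb]
    | tmul s m =>
      apply LinearMap.ext
      intro y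
      induction y using TensorProduct.induction_on with
      | zero => simp only [map_zero]
      | add a b ha hb => simp only [map_add, ha, hb]
      | tmul t φ =>
        rw [LinearEquiv.dualMap_apply, Module.Dual.eval_apply, LinearMap.baseChange_tmul, dualBC_apply, dualBC_apply]
        simp only [LinearEquiv.coe_coe, Module.evalEquiv_apply, Module.Dual.eval_apply]
        ring
  refine ⟨?_⟩
  have hb : Function.Bijective (e1.dualMap.symm ∘ (e2 ∘ ((Module.evalEquiv R M).toLinearMap.baseChange R'))) := by
    refine e1.dualMap.symm.bijective.comp (e2.bijective.comp ?_)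
    exact ((Module.evalEquiv R M).baseChange R R').bijective
  convert hb using 1
  funext x
  show _ = e1.dualMap.symm (e2 _)
  rw [← key, LinearEquiv.symm_apply_apply]

end Groth.Agent.S6874
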