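import Groth.Statements.S6875
import Groth.Agent.Lib.HomSh.Reflexive
-- import your own Groth.Agent.* helpers here

set_option autoImplicit false
universe u
open CAlg

namespace Groth.Agent.S6875

/-- Let `R` be a Noetherian domain, `M` a finite `R`-module and `N` a finite reflexive `R`-module. Then
`Hom_R(M, N)` is reflexive. -/
theorem result (R : Type u) [CommRing R] [IsDomain R] [IsNoetherianRing R]
    (M N : Type u) [AddCommGroup M] [Module R M] [Module.Finite R M] [AddCommGroup N] [Module R N] [Module.Finite R N]
    [Module.IsReflexive R N] : Module.IsReflexive R (M →ₗ[R] N) := by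
  exact GrothLib.HomSh.isReflexive_linearMap R M N

end Groth.Agent.S6875
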