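import Groth.Statements.S6876
import Groth.Agent.Lib.DepthKer.Basic
-- import your own Groth.Agent.* helpers here

set_option autoImplicit false
universe u
open CAlg

namespace Groth.Agent.S6876

/-- Let `R` be a Noetherian local ring and `M, N` finite `R`-modules. If `N` has depth `≥ 1` then so
does `Hom_R(M, N)`; if `N` has depth `≥ 2` then so does `Hom_R(M, N)`. -/
theorem result (R : Type u) [CommRing R] [IsNoetherianRing R] [IsLocalRing R]
    (M N : Type u) [AddCommGroup M] [Module R M] [Module.Finite R M] [AddCommGroup N] [Module R N] [Module.Finite R N] :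
    (1 ≤ LocCoh.depth R N → 1 ≤ LocCoh.depth R (M →ₗ[R] N)) ∧
    (2 ≤ LocCoh.depth R N → 2 ≤ LocCoh.depth R (M →ₗ[R] N)) := by
  classical
  obtain ⟨n, π, hπ⟩ := Module.Finite.exists_fin' R M
  obtain ⟨s, hs⟩ := IsNoetherian.noetherian (LinearMap.ker π)
  let e := s.equivFin
  let i : (M →ₗ[R] N) →ₗ[R] (Fin n → N) :=
    LinearMap.pi fun k => LinearMap.applyₗ (π (Pi.single k 1))
  let u : (Fin n → N) →ₗ[R] (Fin s.card → N) :=
    LinearMap.pi fun k => ∑ l, (e.symm k : Fin n → R) l • LinearMap.proj l
  have hval : ∀ (φ : M →ₗ[R] N) (w : Fin n → R), φ (π w) = ∑ l, w l • i φ l := by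
    intro φ w
    conv_lhs => rw [pi_eq_sum_univ' w, map_sum, map_sum]
    exact Finset.sum_congr rfl fun l _ => by rw [map_smul, map_smul]; rfl
  have hi : Function.Injective i := fun φ ψ h => LinearMap.ext fun x => by
    obtain ⟨w, rfl⟩ := hπ x
    rw [hval, hval, h]
  haveI : Module.Finite R (M →ₗ[R] N) := Module.Finite.of_injective i hi
  have hex : Function.Exact i u := fun a => by
    refine ⟨fun ha => ?_, ?_⟩
    · let ψ : (Fin n → R) →ₗ[R] N := ∑ l, (LinearMap.proj (R := R) (φ := fun _ : Fin n => R) l).smulRight (a l)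
      have hψ : LinearMap.ker π ≤ LinearMap.ker ψ := by
        intro w hw
        rw [← hs] at hw
        induction hw using Submodule.span_induction with
        | mem w hw =>
          have := congrFun ha (e ⟨w, hw⟩)
          simpa [u, ψ] using this
        | zero => simp
        | add y z _ _ hy hz => exact add_mem hy hz
        | smul c y _ hy => exact Submodule.smul_mem _ c hy
      refine ⟨((LinearMap.ker π).liftQ ψ hψ) ∘ₗ (π.quotKerEquivOfSurjective hπ).symm.toLinearMap, funext fun k => ?_⟩
      have : (π.quotKerEquivOfSurjective hπ).symm (π (Pi.single k 1)) = Submodule.Quotient.mk (Pi.single k 1) :=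
        (LinearEquiv.symm_apply_eq _).2 rfl
      simp [i, this, ψ, Pi.single_apply]
    · rintro ⟨φ, rfl⟩
      funext k
      have h2 := hval φ (e.symm k : Fin n → R)
      have hk : (e.symm k : Fin n → R) ∈ LinearMap.ker π := by rw [← hs]; exact Submodule.subset_span (e.symm k).2
      rw [LinearMap.mem_ker.1 hk, map_zero] at h2
      simpa [u] using h2.symm
  refine ⟨fun h => GrothLib.DepthKer.one_le_of_injective _ i hi ?_,
    fun h => GrothLib.DepthKer.two_le_of_exact _ i u hi hex ?_ ?_⟩
  · simpa using GrothLib.DepthKer.le_idealDepth_pi _ 1 (by simpa [LocCoh.depth] using h) n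
  · simpa using GrothLib.DepthKer.le_idealDepth_pi _ 2 (by simpa [LocCoh.depth] using h) n
  · simpa using GrothLib.DepthKer.le_idealDepth_pi _ 1
      (by simpa [LocCoh.depth] using le_trans (show (1 : ℕ∞) ≤ 2 by norm_num) h) s.card

end Groth.Agent.S6876
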