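import Groth.Statements.S6877
import Groth.Agent.Lib.DepthKer.Basic


set_option autoImplicit false
set_option linter.all false
universe u
open CAlg

namespace Groth.Agent.S6877

variable {R : Type u} [CommRing R] [IsNoetherianRing R] {N : Type u} [AddCommGroup N] [Module R N] [Module.Finite R N]

theorem hasSk_mono (h : LocCoh.HasSk 2 R N) : LocCoh.HasSk 1 R N := by
  intro p _
  exact le_trans (min_le_min (by norm_num) le_rfl) (h p)

omit [IsNoetherianRing R] in
theorem support_pi (n : ℕ) : Module.support R (Fin n → N) ⊆ Module.support R N := by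
  intro q hq
  obtain ⟨x, hx⟩ := Module.mem_support_iff'.1 hq
  by_contra hN
  have : ∀ j, ∃ r ∉ q.asIdeal, r • x j = 0 := fun j => by
    by_contra hh
    push Not at hh
    exact hN (Module.mem_support_iff'.2 ⟨x j, fun r hr => hh r hr⟩)
  choose r hr hrx using this
  refine hx (∏ j, r j) ?_ (funext fun j => ?_)
  · intro h
    obtain ⟨j, -, hj⟩ := (q.2.prod_mem_iff).1 h
    exact hr j hj
  · rw [Pi.smul_apply, ← Finset.prod_erase_mul _ _ (Finset.mem_univ j), mul_smul, hrx, smul_zero]
    rfl

theorem hasSk_pi (k n : ℕ) (h : LocCoh.HasSk k R N) : LocCoh.HasSk k R (Fin n → N) := by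
  intro p _
  have hle : Module.supportDim (Localization.AtPrime p) (LocalizedModule p.primeCompl (Fin n → N)) ≤
      Module.supportDim (Localization.AtPrime p) (LocalizedModule p.primeCompl N) := by
    refine Order.krullDim_le_of_strictMono (fun q => ⟨q.1, ?_⟩) fun _ _ hab => hab
    exact GrothLib.DepthKer.support_localizedModule_mono (support_pi n) p q.2
  have h0 := h p
  have hk : ∀ j : ℕ, (j : WithBot ℕ∞) ≤ min (k : WithBot ℕ∞)
      (Module.supportDim (Localization.AtPrime p) (LocalizedModule p.primeCompl (Fin n → N))) →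
      (j : WithBot ℕ∞) ≤ ((LocCoh.depth (Localization.AtPrime p) (LocalizedModule p.primeCompl (Fin n → N)) : ℕ∞) : WithBot ℕ∞) := by
    intro j hj
    have h1 : (j : WithBot ℕ∞) ≤ ((LocCoh.depth (Localization.AtPrime p) (LocalizedModule p.primeCompl N) : ℕ∞) : WithBot ℕ∞) :=
      (hj.trans (min_le_min le_rfl hle)).trans h0
    exact WithBot.coe_le_coe.2 (GrothLib.DepthKer.depth_localizedModule_pi p j n (WithBot.coe_le_coe.1 h1))
  generalize Module.supportDim (Localization.AtPrime p) (LocalizedModule p.primeCompl (Fin n → N)) = d at hk ⊢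
  induction d using WithBot.recBotCoe with
  | bot => simp
  | coe a =>
    rcases le_total (k : ℕ∞) a with hka | hka
    · exact le_trans (min_le_left _ _) (hk k (le_min le_rfl (WithBot.coe_le_coe.2 hka)))
    · obtain ⟨j, rfl⟩ := ENat.ne_top_iff_exists.1 (ne_top_of_le_ne_top (ENat.coe_ne_top k) hka)
      exact le_trans (min_le_right _ _) (hk j (le_min (WithBot.coe_le_coe.2 hka) le_rfl))


/-- Let `R` be a Noetherian ring and `M, N` finite `R`-modules. If `N` has `(S_1)`, resp. `(S_2)`, then
so does `Hom_R(M, N)`. (The published statement has a third part, over a domain: `N` torsion free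
with `(S_2)` implies the same for `Hom_R(M, N)`; this row states parts one and two.) -/
theorem result (R : Type u) [CommRing R] [IsNoetherianRing R]
    (M N : Type u) [AddCommGroup M] [Module R M] [Module.Finite R M] [AddCommGroup N] [Module R N] [Module.Finite R N] :
    (LocCoh.HasSk 1 R N → LocCoh.HasSk 1 R (M →ₗ[R] N)) ∧
    (LocCoh.HasSk 2 R N → LocCoh.HasSk 2 R (M →ₗ[R] N)) := by
  classical
  obtain ⟨n, π, hπ⟩ := Module.Finite.exists_fin' R M
  obtain ⟨s, hs⟩ := IsNoetherian.noetherian (LinearMap.ker π)
  let e := s.equivFin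
  let v : Fin (s.card + 1) → (Fin n → R) := Fin.cons 0 fun k => (e.symm k : Fin n → R)
  let i : (M →ₗ[R] N) →ₗ[R] (Fin n → N) :=
    LinearMap.pi fun j => LinearMap.applyₗ (π (Pi.single j 1))
  let u : (Fin n → N) →ₗ[R] (Fin (s.card + 1) → N) :=
    LinearMap.pi fun k => ∑ l, v k l • LinearMap.proj l
  have hival : ∀ (g : M →ₗ[R] N) (w : Fin n → R), g (π w) = ∑ k, w k • i g k := by
    intro g w
    conv_lhs => rw [pi_eq_sum_univ' w, map_sum, map_sum]
    refine Finset.sum_congr rfl fun k _ => ?_
    rw [map_smul, map_smul]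
    rfl
  have hi : Function.Injective i := fun g g' h => by
    refine LinearMap.ext fun x => ?_
    obtain ⟨w, rfl⟩ := hπ x
    rw [hival, hival, h]
  have hex : Function.Exact i u := by
    intro a
    constructor
    · intro ha
      let ψ : (Fin n → R) →ₗ[R] N := ∑ k, (LinearMap.proj k : (Fin n → R) →ₗ[R] R).smulRight (a k)
      have hker : LinearMap.ker π ≤ LinearMap.ker ψ := by
        rw [← hs, Submodule.span_le]
        intro w hw
        have := congrFun ha (Fin.succ (e ⟨w, hw⟩))
        simpa [u, v, ψ] using this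
      let g : M →ₗ[R] N :=
        ((LinearMap.ker π).liftQ ψ hker) ∘ₗ (π.quotKerEquivOfSurjective hπ).symm.toLinearMap
      refine ⟨g, funext fun j => ?_⟩
      show g (π (Pi.single j 1)) = a j
      have : (π.quotKerEquivOfSurjective hπ).symm (π (Pi.single j 1)) = Submodule.Quotient.mk (Pi.single j 1) := by
        rw [LinearEquiv.symm_apply_eq]; rfl
      simp [g, this, ψ, Pi.single_apply]
    · rintro ⟨g, rfl⟩
      funext k
      have hv : π (v k) = 0 := by
        refine Fin.cases ?_ (fun k => ?_) k
        · simp [v]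
        · have hmem : ((e.symm k : Fin n → R)) ∈ LinearMap.ker π := by
            rw [← hs]
            exact Submodule.subset_span (e.symm k).2
          simpa [v] using hmem
      have := hival g (v k)
      rw [hv, map_zero] at this
      simpa [u] using this.symm
  refine ⟨fun h => GrothLib.DepthKer.hasSk_one_of_injective i hi (hasSk_pi 1 n h), fun h => ?_⟩
  refine GrothLib.DepthKer.hasSk_two_of_exact i u hi hex ?_ (hasSk_pi 1 _ (hasSk_mono h)) (hasSk_pi 2 n h)
  exact ((Module.support_subset_of_injective i hi).trans (support_pi n)).trans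
    (Module.support_subset_of_injective (LinearMap.single R (fun _ => N) (0 : Fin (s.card + 1)))
      (fun a b h => by simpa using congrFun h 0))

end Groth.Agent.S6877
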