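import Groth.Statements.S6879
import Groth.Agent.Lib.DepthKer.ReflexiveLocal
-- import your own Groth.Agent.* helpers here

set_option autoImplicit false
universe u
open CAlg

namespace Groth.Agent.S6879

/-- Let `R` be a Noetherian domain and `M` a finite `R`-module. Then `M` is reflexive if and only if for
every prime `𝔭` of `R` either `M_𝔭` is a reflexive `R_𝔭`-module or `depth(M_𝔭) ≥ 2`. -/
theorem result (R : Type u) [CommRing R] [IsDomain R]
    [IsNoetherianRing R] (M : Type u) [AddCommGroup M] [Module R M] [Module.Finite R M] :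
    Module.IsReflexive R M ↔ ∀ (p : Ideal R) [p.IsPrime],
      Module.IsReflexive (Localization.AtPrime p) (LocalizedModule p.primeCompl M) ∨
        2 ≤ LocCoh.depth (Localization.AtPrime p) (LocalizedModule p.primeCompl M) := by
  refine ⟨fun hM p _ => Or.inl (GrothLib.DepthKer.isReflexive_localized M p), fun h => ⟨?_⟩⟩
  refine GrothLib.DepthKer.bijective_of_depth_two (Module.Dual.eval R M) fun p _ => ?_
  rcases h p with hr | hd
  · exact Or.inl (GrothLib.DepthKer.bijective_localized_of_isReflexive M p hr)
  haveI : IsNoetherianRing (Localization.AtPrime p) :=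
    IsLocalization.isNoetherianRing p.primeCompl _ inferInstance
  by_cases hp : p = ⊥
  · -- the generic point: the stalk vanishes
    obtain ⟨x, hx, hxr⟩ := GrothLib.DepthKer.exists_regular
      (IsLocalRing.maximalIdeal (Localization.AtPrime p)) (LocalizedModule p.primeCompl M)
      (le_trans (by norm_num) hd)
    have hm : IsLocalRing.maximalIdeal (Localization.AtPrime p) = ⊥ := by
      subst hp
      rw [← Localization.AtPrime.map_eq_maximalIdeal, Ideal.map_bot]
    rw [hm, Submodule.mem_bot] at hx
    subst hx
    haveI : Subsingleton (LocalizedModule p.primeCompl M) := subsingleton_of_forall_eq 0 fun z =>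
      hxr (show (0 : Localization.AtPrime p) • z = 0 • 0 by simp)
    refine Or.inl (GrothLib.DepthKer.bijective_localized_of_isReflexive M p ⟨⟨fun a b _ => Subsingleton.elim a b,
      fun ξ => ⟨0, LinearMap.ext fun ψ => ?_⟩⟩⟩)
    rw [Subsingleton.elim ψ 0, map_zero, map_zero]
  refine Or.inr ⟨hd, fun hass => hp ?_⟩
  obtain ⟨hpp, f, hf⟩ := (isAssociatedPrime_iff_exists_injective_linearMap _ _).1 ((AssociatedPrimes.mem_iff).1 hass)
  rw [eq_bot_iff]
  intro r hr
  by_contra hr0
  have h1 : r • f (Ideal.Quotient.mk p 1) = 0 := by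
    rw [← map_smul, Algebra.smul_def, Ideal.Quotient.algebraMap_eq, ← map_mul, mul_one,
      Ideal.Quotient.eq_zero_iff_mem.2 hr, map_zero]
  have h2 : f (Ideal.Quotient.mk p 1) = 0 := by
    refine LinearMap.ext fun φ => ?_
    have h3 := LinearMap.congr_fun h1 φ
    simp only [LinearMap.smul_apply, LinearMap.zero_apply, smul_eq_mul] at h3
    exact (mul_eq_zero.1 h3).resolve_left hr0
  rw [map_eq_zero_iff f hf, Ideal.Quotient.eq_zero_iff_mem] at h2
  exact hpp.ne_top ((Ideal.eq_top_iff_one p).2 h2)

end Groth.Agent.S6879
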