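import Groth.Statements.S6880
import Groth.Agent.Lib.DepthKer.Basic
import Groth.Agent.S18702
-- import your own Groth.Agent.* helpers here

set_option autoImplicit false
universe u
open CAlg

namespace Groth.Agent.S6880

/-- Let `R` be a Noetherian domain and `M` a finite reflexive `R`-module. For a prime `𝔭` with
`depth(R_𝔭) ≥ 2` one has `depth(M_𝔭) ≥ 2`; and if `R` has `(S_2)` then `M` has `(S_2)`. -/
theorem result (R : Type u) [CommRing R] [IsDomain R] [IsNoetherianRing R] (M : Type u)
    [AddCommGroup M] [Module R M] [Module.Finite R M] [Module.IsReflexive R M] :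
    (∀ (p : Ideal R) [p.IsPrime], 2 ≤ LocCoh.depth (Localization.AtPrime p) (Localization.AtPrime p) →
      2 ≤ LocCoh.depth (Localization.AtPrime p) (LocalizedModule p.primeCompl M)) ∧
    (LocCoh.HasSk 2 R R → LocCoh.HasSk 2 R M) := by
  refine ⟨fun p _ h => ?_, fun h => (Groth.Agent.S18702.result R ⊤ M).2.2.2 h⟩
  haveI : IsNoetherianRing (Localization.AtPrime p) :=
    IsLocalization.isNoetherianRing p.primeCompl _ inferInstance
  obtain ⟨n, m, i, u, hi, hex⟩ := GrothLib.DepthKer.exists_presentation (A := R) M
  let e : LocalizedModule p.primeCompl R ≃ₗ[Localization.AtPrime p] Localization.AtPrime p :=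
    (LocalizedModule.equivTensorProduct p.primeCompl R).trans
      (TensorProduct.AlgebraTensorModule.rid R (Localization.AtPrime p) (Localization.AtPrime p))
  have h2 : (2 : ℕ∞) ≤ LocCoh.depth (Localization.AtPrime p) (LocalizedModule p.primeCompl R) := by
    rw [GrothLib.Depth.depth_localization_self]; exact h
  refine GrothLib.DepthKer.two_le_of_exact _ (LocalizedModule.map p.primeCompl i) (LocalizedModule.map p.primeCompl u)
    (LocalizedModule.map_injective _ i hi)
    (show Function.Exact (LocalizedModule.map p.primeCompl i) (LocalizedModule.map p.primeCompl u) from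
      LocalizedModule.map_exact p.primeCompl i u hex) ?_ ?_
  · simpa [LocCoh.depth] using GrothLib.DepthKer.depth_localizedModule_pi p 2 n (by simpa using h2)
  · simpa [LocCoh.depth] using GrothLib.DepthKer.depth_localizedModule_pi p 1 (m + 1)
      (by simpa using le_trans (show (1 : ℕ∞) ≤ 2 by norm_num) h2)

end Groth.Agent.S6880
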