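import Groth.Statements.S6881
import Mathlib.LinearAlgebra.Dual.Lemmas
import Mathlib.RingTheory.DedekindDomain.IntegralClosure
import Mathlib.RingTheory.Localization.Integer
import Mathlib.RingTheory.IntegralClosure.Algebra.Basic
import Mathlib.RingTheory.Noetherian.Basic
-- import your own Groth.Agent.* helpers here

set_option autoImplicit false
universe u
open CAlg

namespace Groth.Agent.S6881

/-- For `A` a Noetherian integrally closed domain with fraction field `K` and `L/K` a finite field
extension, if the integral closure of `A` in `L` is a finitely generated `A`-module then it is a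
reflexive `A`-module. -/
theorem result (A K L : Type u) [CommRing A] [IsDomain A] [IsNoetherianRing A]
    [IsIntegrallyClosed A] [Field K] [Algebra A K] [IsFractionRing A K] [Field L] [Algebra K L] [FiniteDimensional K L]
    [Algebra A L] [IsScalarTower A K L] [Module.Finite A ↥(integralClosure A L)] :
    Module.IsReflexive A ↥(integralClosure A L) := by
  classical
  let B := integralClosure A L
  have hinjAL : Function.Injective (algebraMap A L) := by
    rw [IsScalarTower.algebraMap_eq A K L]
    exact (algebraMap K L).injective.comp (IsFractionRing.injective A K)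
  obtain ⟨s, b, hb⟩ := FiniteDimensional.exists_is_basis_integral A K L
  let bB : s → B := fun i => ⟨b i, hb i⟩
  obtain ⟨k, v, hv⟩ := Module.Finite.exists_fin (R := A) (M := B)
  obtain ⟨c, hc⟩ := IsLocalization.exist_integer_multiples_of_finset (nonZeroDivisors A)
    ((Finset.univ : Finset (Fin k × s)).image fun p => b.repr (v p.1 : L) p.2)
  have hc0 : algebraMap A K c ≠ 0 := IsFractionRing.to_map_ne_zero_of_mem_nonZeroDivisors c.2
  have hcoord : ∀ (i : s) (x : B), (c : A) • b.repr (x : L) i ∈ LinearMap.range (Algebra.linearMap A K) := by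
    intro i x
    have hx : x ∈ Submodule.span A (Set.range v) := hv ▸ Submodule.mem_top
    induction hx using Submodule.span_induction with
    | mem y hy =>
      obtain ⟨j, rfl⟩ := hy
      exact hc _ (Finset.mem_image_of_mem _ (Finset.mem_univ (j, i)))
    | zero => simp
    | add y z _ _ hy hz =>
      rw [AddMemClass.coe_add, map_add, Finsupp.add_apply, smul_add]; exact Submodule.add_mem _ hy hz
    | smul r y _ hy =>
      rw [show ((r • y : B) : L) = algebraMap A K r • (y : L) by rw [algebraMap_smul]; rfl, map_smul,
        Finsupp.smul_apply, algebraMap_smul, smul_comm]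
      exact Submodule.smul_mem _ _ hy
  let e := LinearEquiv.ofInjective (Algebra.linearMap A K) (IsFractionRing.injective A K)
  let coordK : s → B →ₗ[A] K := fun i =>
    (c : A) • ((b.coord i).restrictScalars A).comp B.val.toLinearMap
  let coord : s → Module.Dual A B := fun i => e.symm.toLinearMap.comp ((coordK i).codRestrict _ (hcoord i))
  have hco : ∀ (i : s) (x : B), algebraMap A K (coord i x) = (c : A) • b.repr (x : L) i := fun i x =>
    congrArg Subtype.val (e.apply_symm_apply ⟨(c : A) • b.repr (x : L) i, hcoord i x⟩)
  -- the extension of a functional to `L`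
  let ext : Module.Dual A B → L →ₗ[K] K := fun φ => b.constr K fun i => algebraMap A K (φ (bB i))
  have hrel : ∀ (φ : Module.Dual A B) (x : B), (c : A) * φ x = ∑ i, φ (bB i) * coord i x := by
    intro φ x
    have hx : (c : A) • x = ∑ i, coord i x • bB i := by
      refine Subtype.ext ?_
      rw [AddSubmonoidClass.coe_finsetSum]
      show (c : A) • (x : L) = ∑ i, coord i x • b i
      conv_lhs => rw [← b.sum_repr (x : L), Finset.smul_sum]
      refine Finset.sum_congr rfl fun i _ => ?_
      rw [← smul_assoc, ← hco, algebraMap_smul]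
    have h := congrArg φ hx
    rw [map_smul, map_sum, smul_eq_mul] at h
    rw [h]
    exact Finset.sum_congr rfl fun i _ => by rw [map_smul, smul_eq_mul, mul_comm]
  have hext : ∀ (φ : Module.Dual A B) (x : B), ext φ x = algebraMap A K (φ x) := by
    intro φ x
    refine mul_left_cancel₀ hc0 ?_
    rw [← map_mul, hrel, map_sum, Module.Basis.constr_apply_fintype, Finset.mul_sum]
    refine Finset.sum_congr rfl fun i _ => ?_
    rw [map_mul, hco, smul_eq_mul, Algebra.smul_def, Module.Basis.equivFun_apply]
    ring
  -- the bidual inside `L`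
  let D : Submodule A L :=
    { carrier := {z | ∀ φ : Module.Dual A B, ext φ z ∈ LinearMap.range (Algebra.linearMap A K)}
      zero_mem' := fun φ => by simp
      add_mem' := fun {y z} hy hz φ => by rw [map_add]; exact Submodule.add_mem _ (hy φ) (hz φ)
      smul_mem' := fun r z hz φ => by
        rw [← algebraMap_smul K r z, map_smul, algebraMap_smul]; exact Submodule.smul_mem _ _ (hz φ) }
  have hBD : ∀ x : B, (x : L) ∈ D := fun x φ => ⟨φ x, (hext φ x).symm⟩
  have hmulB : ∀ (z : L), z ∈ D → ∀ x : B, (x : L) * z ∈ D := by
    intro z hz x φ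
    obtain ⟨a, ha⟩ := hz (φ.comp (LinearMap.mulLeft A x))
    refine ⟨a, ha.trans ?_⟩
    refine LinearMap.congr_fun (b.ext (f₁ := ext (φ.comp (LinearMap.mulLeft A x)))
      (f₂ := (ext φ).comp (LinearMap.mulLeft K (x : L))) fun i => ?_) z
    rw [Module.Basis.constr_basis]
    exact (hext φ (x * bB i)).symm
  have hmul : ∀ z ∈ D, ∀ w ∈ D, z * w ∈ D := by
    intro z hz w hw φ
    have hψ : ∀ x : B, ext φ ((x : L) * w) ∈ LinearMap.range (Algebra.linearMap A K) := fun x => hmulB w hw x φ
    let ψK : B →ₗ[A] K :=
      ((ext φ).restrictScalars A).comp ((LinearMap.mulRight A w).comp B.val.toLinearMap)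
    let ψ : Module.Dual A B := e.symm.toLinearMap.comp (ψK.codRestrict _ hψ)
    obtain ⟨a, ha⟩ := hz ψ
    refine ⟨a, ha.trans ?_⟩
    refine LinearMap.congr_fun (b.ext (f₁ := ext ψ) (f₂ := (ext φ).comp (LinearMap.mulRight K w)) fun i => ?_) z
    rw [Module.Basis.constr_basis]
    exact congrArg Subtype.val (e.apply_symm_apply ⟨ext φ ((bB i : L) * w), hψ (bB i)⟩)
  have hD : D.FG := by
    refine Submodule.FG.of_le (Submodule.fg_span (Set.finite_range fun i => (algebraMap A K c)⁻¹ • b i)) ?_
    intro z hz
    rw [← b.sum_repr z]
    refine Submodule.sum_mem _ fun i _ => ?_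
    obtain ⟨a, ha⟩ := hz (coord i)
    have : b.repr z i = algebraMap A K a * (algebraMap A K c)⁻¹ := by
      rw [eq_mul_inv_iff_mul_eq₀ hc0, show algebraMap A K a = ext (coord i) z from ha,
        Module.Basis.constr_apply_fintype]
      rw [Finset.sum_eq_single i]
      · rw [hco, Module.Basis.equivFun_apply]
        simp [bB, Algebra.smul_def]
      · intro j _ hj
        rw [hco]
        simp [bB, Finsupp.single_eq_of_ne (Ne.symm hj)]
      · simp
    rw [this, mul_smul, algebraMap_smul]
    exact Submodule.smul_mem _ _ (Submodule.subset_span ⟨i, rfl⟩)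
  constructor
  constructor
  · intro x y hxy
    refine Subtype.ext (b.repr.injective (Finsupp.ext fun i => ?_))
    have h := congrArg (algebraMap A K) (LinearMap.congr_fun hxy (coord i))
    change algebraMap A K (coord i x) = algebraMap A K (coord i y) at h
    rw [hco, hco, Algebra.smul_def, Algebra.smul_def] at h
    exact mul_left_cancel₀ hc0 h
  · intro ξ
    let z : L := ∑ i, (algebraMap A K (ξ (coord i)) * (algebraMap A K c)⁻¹) • b i
    have hz : ∀ φ : Module.Dual A B, ext φ z = algebraMap A K (ξ φ) := by
      intro φ
      have h1 : (c : A) • φ = ∑ i, φ (bB i) • coord i := LinearMap.ext fun x => by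
        simp [hrel φ x]
      have h2 := congrArg (algebraMap A K) (congrArg ξ h1)
      simp only [map_smul, map_sum, smul_eq_mul, map_mul] at h2
      refine mul_left_cancel₀ hc0 ?_
      rw [h2, map_sum, Finset.mul_sum]
      refine Finset.sum_congr rfl fun i _ => ?_
      rw [map_smul, Module.Basis.constr_basis, smul_eq_mul]
      field_simp
    have hzD : z ∈ D := fun φ => ⟨ξ φ, (hz φ).symm⟩
    have hzB : IsIntegral A z := by
      refine isIntegral_of_smul_mem_submodule D (fun h => ?_) hD z fun w hw => hmul z hzD w hw
      have h1 := hBD 1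
      rw [h, Submodule.mem_bot] at h1
      exact one_ne_zero h1
    refine ⟨⟨z, hzB⟩, LinearMap.ext fun φ => IsFractionRing.injective A K ?_⟩
    rw [← hz φ]
    exact (hext φ ⟨z, hzB⟩).symm

end Groth.Agent.S6881
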