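import Groth.Statements.S6882
import Mathlib.LinearAlgebra.Dual.Lemmas
import Mathlib.Algebra.Module.PID
import Mathlib.RingTheory.DiscreteValuationRing.Basic
-- import your own Groth.Agent.* helpers here

set_option autoImplicit false
universe u
open CAlg

namespace Groth.Agent.S6882

/-- For a finite module `M` over a discrete valuation ring `R`, the evaluation map from `M` to its
double dual `M**` is surjective. -/
theorem result (R : Type u) [CommRing R] [IsDomain R]
    [IsDiscreteValuationRing R] (M : Type u) [AddCommGroup M] [Module R M] [Module.Finite R M] :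
    Function.Surjective (Module.Dual.eval R M) := by
  let T := Submodule.torsion R M
  let q := T.mkQ
  have hinj : Function.Injective q.dualMap :=
    LinearMap.dualMap_injective_of_surjective T.mkQ_surjective
  have hsurj : Function.Surjective q.dualMap := by
    intro φ
    refine ⟨T.liftQ φ ?_, LinearMap.ext fun x => rfl⟩
    rintro x ⟨⟨a, ha⟩, hax⟩
    have h : a • φ x = 0 := by rw [← map_smul, show a • x = 0 from hax, map_zero]
    exact (smul_eq_zero.1 h).resolve_left (nonZeroDivisors.ne_zero ha)
  let e := LinearEquiv.ofBijective q.dualMap ⟨hinj, hsurj⟩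
  intro ξ
  obtain ⟨y, hy⟩ := (Module.bijective_dual_eval R (M ⧸ T)).2 (ξ.comp e.toLinearMap)
  obtain ⟨x, rfl⟩ := T.mkQ_surjective y
  refine ⟨x, LinearMap.ext fun φ => ?_⟩
  obtain ⟨ψ, rfl⟩ := hsurj φ
  exact LinearMap.congr_fun hy ψ

end Groth.Agent.S6882
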