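import Groth.Statements.S6886
import Mathlib
-- import your own Groth.Agent.* helpers here

set_option autoImplicit false
universe u
open TensorProduct
open CAlg

namespace Groth.Agent.S6886

/-- Let `R → S` be a finite ring map. One can find an extension `R ⊆ R'` of rings, with `R'` finite and
free as an `R`-module, for which the ring `S ⊗_R R'` arises as a quotient of `R'[T_1, …,
T_n]/(P_1(T_1), …, P_n(T_n))` with each `P_i(T) = ∏_j (T - α_{ij})` a product of linear factors over
`R'`. -/
theorem result (R S : Type u) [CommRing R] [CommRing S] [Algebra R S]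
    [Module.Finite R S] :
    ∃ (R' : Type u) (_ : CommRing R') (_ : Algebra R R'), Module.Finite R R' ∧ Module.Free R R' ∧
      Function.Injective (algebraMap R R') ∧
      ∃ (n : ℕ) (d : Fin n → ℕ) (α : (i : Fin n) → Fin (d i) → R')
        (φ : MvPolynomial (Fin n) R' →ₐ[R'] R' ⊗[R] S), Function.Surjective φ ∧
          ∀ i, φ (∏ j, (MvPolynomial.X i - MvPolynomial.C (α i j))) = 0 := by
  classical
  have split : ∀ (d : ℕ) (A : Type u) [CommRing A] (P : Polynomial A), P.Monic → P.natDegree ≤ d →
      ∃ (B : Type u) (_ : CommRing B) (_ : Algebra A B), Module.Finite A B ∧ Module.Free A B ∧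
        Function.Injective (algebraMap A B) ∧ ∃ (m : ℕ) (α : Fin m → B),
          P.map (algebraMap A B) = ∏ j, (Polynomial.X - Polynomial.C (α j)) := by
    intro d
    induction d with
    | zero =>
      intro A _ P hP hd
      refine ⟨A, inferInstance, inferInstance, inferInstance, inferInstance, fun a b h => h, 0,
        Fin.elim0, ?_⟩
      rw [hP.natDegree_eq_zero.mp (Nat.le_zero.mp hd)]
      simp
    | succ d ih =>
      intro A _ P hP hd
      by_cases h0 : P.natDegree = 0
      · exact ih A P hP (by omega)
      haveI : Nontrivial A := Polynomial.nontrivial_iff.mp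
        ⟨P, 0, fun h => h0 (by rw [h, Polynomial.natDegree_zero])⟩
      have hdvd : Polynomial.X - Polynomial.C (AdjoinRoot.root P) ∣ P.map (AdjoinRoot.of P) :=
        Polynomial.dvd_iff_isRoot.mpr (AdjoinRoot.isRoot_root P)
      obtain ⟨Q, hQ⟩ := hdvd
      have hinj : Function.Injective (AdjoinRoot.of P) := by
        rw [injective_iff_map_eq_zero]
        intro a ha
        rw [← AdjoinRoot.mk_C, AdjoinRoot.mk_eq_zero] at ha
        obtain ⟨T, hT⟩ := ha
        by_contra ha0
        have hT0 : T ≠ 0 := by
          rintro rfl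
          rw [mul_zero, Polynomial.C_eq_zero] at hT
          exact ha0 hT
        have h1 := congrArg Polynomial.natDegree hT
        rw [Polynomial.natDegree_C, hP.natDegree_mul' hT0] at h1
        omega
      haveI : Nontrivial (AdjoinRoot P) := hinj.nontrivial
      have hXm := Polynomial.monic_X_sub_C (AdjoinRoot.root P)
      have hQm : Q.Monic := hXm.of_mul_monic_left (hQ ▸ hP.map _)
      have hQd : Q.natDegree ≤ d := by
        have h1 := congrArg Polynomial.natDegree hQ
        rw [hP.natDegree_map, hXm.natDegree_mul hQm, Polynomial.natDegree_X_sub_C] at h1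
        omega
      obtain ⟨B, _, _, hfin, hfree, hinj', m, α, hα⟩ := ih (AdjoinRoot P) Q hQm hQd
      letI : Algebra A B := ((algebraMap (AdjoinRoot P) B).comp (AdjoinRoot.of P)).toAlgebra
      haveI : IsScalarTower A (AdjoinRoot P) B := IsScalarTower.of_algebraMap_eq fun a => rfl
      haveI := hP.finite_adjoinRoot
      haveI := hP.free_adjoinRoot
      refine ⟨B, inferInstance, inferInstance, Module.Finite.trans (AdjoinRoot P) B,
        Module.Free.trans (S := AdjoinRoot P), hinj'.comp hinj, m + 1,
        Fin.cons (algebraMap (AdjoinRoot P) B (AdjoinRoot.root P)) α, ?_⟩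
      rw [IsScalarTower.algebraMap_eq A (AdjoinRoot P) B, ← Polynomial.map_map,
        AdjoinRoot.algebraMap_eq, hQ, Polynomial.map_mul, hα, Fin.prod_univ_succ]
      simp
  obtain ⟨n, s, hs⟩ := Module.Finite.exists_fin (R := R) (M := S)
  have hint : ∀ i, IsIntegral R (s i) := fun i => Algebra.IsIntegral.isIntegral _
  choose P hPm hP using hint
  have key : ∀ k ≤ n, ∃ (R' : Type u) (_ : CommRing R') (_ : Algebra R R'), Module.Finite R R' ∧
      Module.Free R R' ∧ Function.Injective (algebraMap R R') ∧
      ∃ (d : Fin n → ℕ) (α : (i : Fin n) → Fin (d i) → R'), ∀ i : Fin n, (i : ℕ) < k →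
        (P i).map (algebraMap R R') = ∏ j, (Polynomial.X - Polynomial.C (α i j)) := by
    intro k
    induction k with
    | zero =>
      intro _
      exact ⟨R, inferInstance, inferInstance, inferInstance, inferInstance, fun a b h => h,
        fun _ => 0, fun _ => Fin.elim0, fun i hi => absurd hi (Nat.not_lt_zero _)⟩
    | succ k ih =>
      intro hk
      obtain ⟨R₁, _, _, hfin, hfree, hinj, d, α, hα⟩ := ih (by omega)
      obtain ⟨B, _, _, hfin', hfree', hinj', m, β, hβ⟩ :=
        split _ R₁ ((P ⟨k, hk⟩).map (algebraMap R R₁)) ((hPm _).map _) le_rfl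
      letI : Algebra R B := ((algebraMap R₁ B).comp (algebraMap R R₁)).toAlgebra
      haveI : IsScalarTower R R₁ B := IsScalarTower.of_algebraMap_eq fun a => rfl
      refine ⟨B, inferInstance, inferInstance, Module.Finite.trans R₁ B,
        Module.Free.trans (S := R₁), hinj'.comp hinj,
        fun i => if (i : ℕ) = k then m else d i,
        fun i => if h : (i : ℕ) = k then fun j => β (Fin.cast (if_pos h) j)
          else fun j => algebraMap R₁ B (α i (Fin.cast (if_neg h) j)), fun i hi => ?_⟩
      rw [IsScalarTower.algebraMap_eq R R₁ B, ← Polynomial.map_map]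
      by_cases h : (i : ℕ) = k
      · have : i = ⟨k, hk⟩ := Fin.ext h
        subst this
        rw [hβ]
        refine (Fintype.prod_equiv (finCongr (if_pos rfl).symm) _ _ fun j => ?_)
        simp
      · rw [hα i (by omega), Polynomial.map_prod]
        refine (Fintype.prod_equiv (finCongr (if_neg h).symm) _ _ fun j => ?_)
        simp [h]
  obtain ⟨R', _, _, hfin, hfree, hinj, d, α, hα⟩ := key n le_rfl
  let φ : MvPolynomial (Fin n) R' →ₐ[R'] R' ⊗[R] S := MvPolynomial.aeval fun i => 1 ⊗ₜ s i
  refine ⟨R', inferInstance, inferInstance, hfin, hfree, hinj, n, d, α, φ, fun z => ?_, fun i => ?_⟩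
  · induction z using TensorProduct.induction_on with
    | zero => exact ⟨0, map_zero _⟩
    | add x y hx hy =>
      obtain ⟨a, ha⟩ := hx
      obtain ⟨b, hb⟩ := hy
      exact ⟨a + b, by rw [map_add, ha, hb]⟩
    | tmul r t =>
      have ht : t ∈ Submodule.span R (Set.range s) := hs ▸ trivial
      obtain ⟨c, rfl⟩ := (Submodule.mem_span_range_iff_exists_fun R).mp ht
      refine ⟨∑ i, MvPolynomial.C (r * algebraMap R R' (c i)) * MvPolynomial.X i, ?_⟩
      rw [map_sum, TensorProduct.tmul_sum]
      refine Finset.sum_congr rfl fun i _ => ?_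
      rw [map_mul, MvPolynomial.aeval_C, MvPolynomial.aeval_X,
        Algebra.TensorProduct.algebraMap_apply, Algebra.TensorProduct.tmul_mul_tmul,
        Algebra.algebraMap_self, RingHom.id_apply, one_mul, mul_one, TensorProduct.tmul_smul,
        TensorProduct.smul_tmul', Algebra.smul_def, mul_comm]
  · have h1 : ((P i).map (algebraMap R R')).eval₂ (algebraMap R' (R' ⊗[R] S)) (1 ⊗ₜ s i) = 0 := by
      rw [Polynomial.eval₂_map, ← IsScalarTower.algebraMap_eq, ← Polynomial.aeval_def,
        show (1 : R') ⊗ₜ[R] s i = Algebra.TensorProduct.includeRight (R := R) (A := R') (s i) from rfl,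
        Polynomial.aeval_algHom_apply, Polynomial.aeval_def, hP, map_zero]
    rw [hα i i.isLt, Polynomial.eval₂_finsetProd] at h1
    simpa [φ] using h1

end Groth.Agent.S6886
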