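import Groth.Statements.S6887
import Mathlib

set_option autoImplicit false
universe u
open Polynomial
open CAlg

namespace Groth.Agent.S6887

/-- Let `(A, I)` be a Zariski pair (`I` inside the Jacobson radical) and `A → B` a finite ring map.
Suppose `B/IB ≅ B₁ × B₂` as `A`-algebras with `A → B₁` surjective, and `b ∈ B` maps to `(1, 0)`.
Then there is a monic `f ∈ A[x]` with `f(b) = 0` whose reduction modulo `I` is `(x - 1) x^d` for
some `d ≥ 1`. -/
theorem result (A B : Type u) [CommRing A] [CommRing B]
    [Algebra A B] [Module.Finite A B] (I : Ideal A) (hI : I ≤ Ideal.jacobson (⊥ : Ideal A))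
    (B₁ B₂ : Type u) [CommRing B₁] [CommRing B₂] [Algebra A B₁] [Algebra A B₂]
    (e : (B ⧸ I.map (algebraMap A B)) ≃ₐ[A] B₁ × B₂) (h₁ : Function.Surjective (algebraMap A B₁)) (b : B)
    (hb : e (Ideal.Quotient.mk (I.map (algebraMap A B)) b) = (1, 0)) :
    ∃ (f : A[X]) (d : ℕ), f.Monic ∧ Polynomial.aeval b f = 0 ∧ 1 ≤ d ∧
      f.map (Ideal.Quotient.mk I) = (X - 1) * X ^ d := by
  classical
  obtain ⟨n, g, hg⟩ := Module.Finite.exists_fin (R := A) (M := B)
  let g' : Fin (n + 1) → B := Fin.cons 0 g
  let v : Option (Fin (n + 1)) → B := fun j => j.elim b fun i => g' i - b * g' i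
  let J : Submodule A B := I • ⊤
  have hJ : ∀ x : B, x ∈ J ↔ e (Ideal.Quotient.mk (I.map (algebraMap A B)) x) = 0 := fun x => by
    rw [map_eq_zero_iff e e.injective, Ideal.Quotient.eq_zero_iff_mem]
    simp only [J, Ideal.smul_top_eq_map, Submodule.restrictScalars_mem]
  have hval : ∀ x : B, e (Ideal.Quotient.mk (I.map (algebraMap A B)) (b * x)) =
      ((e (Ideal.Quotient.mk _ x)).1, 0) := fun x => by
    rw [map_mul, map_mul, hb]
    ext <;> simp
  -- the residues
  have h0 : b * v none - v none ∈ J := by
    rw [hJ, map_sub, map_sub, hval]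
    simp [v, hb]
  have hs : ∀ i, b * v (some i) ∈ J := fun i => by
    rw [hJ, hval]
    simp only [v, Option.elim, map_sub, hval]
    simp
  have hspan : Submodule.span A (Set.range v) = ⊤ := by
    refine top_le_iff.mp (Submodule.le_of_le_smul_of_le_jacobson_bot Module.Finite.fg_top hI fun x _ => ?_)
    obtain ⟨a, ha⟩ := h₁ (e (Ideal.Quotient.mk (I.map (algebraMap A B)) x)).1
    have h1 : b * x - a • b ∈ J := by
      rw [hJ, map_sub, map_sub, hval, Algebra.smul_def, map_mul, map_mul, hb, ← ha]
      ext <;> simp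
    have h2 : x - b * x ∈ Submodule.span A (Set.range v) := by
      have hx : x ∈ Submodule.span A (Set.range g) := by rw [hg]; trivial
      obtain ⟨c, rfl⟩ := (Submodule.mem_span_range_iff_exists_fun A).mp hx
      rw [Finset.mul_sum, ← Finset.sum_sub_distrib]
      refine sum_mem fun i _ => ?_
      rw [mul_smul_comm, ← smul_sub]
      exact Submodule.smul_mem _ _ (Submodule.subset_span ⟨some i.succ, by simp [v, g']⟩)
    have h3 : a • b ∈ Submodule.span A (Set.range v) :=
      Submodule.smul_mem _ _ (Submodule.subset_span ⟨none, rfl⟩)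
    refine Submodule.mem_sup.mpr ⟨(x - b * x) + a • b, add_mem h2 h3, b * x - a • b, h1, by abel⟩
  have hcoef : ∀ x ∈ J, ∃ c : Option (Fin (n + 1)) → A, (∀ i, c i ∈ I) ∧ ∑ i, c i • v i = x := fun x hx => by
    simp only [J] at hx
    rw [← hspan] at hx
    obtain ⟨c, hc, hcx⟩ := (Submodule.mem_ideal_smul_span_iff_exists_sum I v x).mp hx
    refine ⟨c, hc, ?_⟩
    rw [← hcx, Finsupp.sum_fintype _ _ (fun i => zero_smul A (v i))]
  choose c hc hcx using hcoef
  let ε : Option (Fin (n + 1)) → A := fun j => j.elim 1 fun _ => 0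
  have hmem : ∀ j, b * v j - ε j • v j ∈ J := fun j => by
    cases j with
    | none => simpa [ε] using h0
    | some i => simpa [ε] using hs i
  let M : Matrix (Option (Fin (n + 1))) (Option (Fin (n + 1))) A :=
    Matrix.diagonal ε + Matrix.of fun i j => c _ (hmem j) i
  have hM : M.Represents v (Algebra.lmul A B b) := by
    rw [Matrix.represents_iff']
    intro j
    simp only [M, Matrix.add_apply, Matrix.of_apply, add_smul, Finset.sum_add_distrib, hcx]
    rw [Finset.sum_eq_single j (fun i _ hij => by rw [Matrix.diagonal_apply_ne _ hij, zero_smul])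
      (fun h => absurd (Finset.mem_univ j) h), Matrix.diagonal_apply_eq]
    exact add_sub_cancel _ _
  have hrep : ∀ p : A[X], (Polynomial.aeval M p).Represents v (Polynomial.aeval (Algebra.lmul A B b) p) := by
    intro p
    induction p using Polynomial.induction_on with
    | C a => simpa only [Polynomial.aeval_C] using Matrix.Represents.algebraMap a
    | add p q hp hq => rw [map_add, map_add]; exact hp.add hq
    | monomial m a h =>
      rw [pow_succ, ← mul_assoc, map_mul, map_mul (Polynomial.aeval (Algebra.lmul A B b)), Polynomial.aeval_X,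
        Polynomial.aeval_X]
      exact h.mul hM
  refine ⟨M.charpoly, n + 1, M.charpoly_monic, ?_, Nat.succ_pos n, ?_⟩
  · have h := hrep M.charpoly
    rw [Matrix.aeval_self_charpoly] at h
    have h2 := (Matrix.Represents.eq hspan h Matrix.Represents.zero)
    rw [Polynomial.aeval_algHom_apply] at h2
    simpa using LinearMap.congr_fun h2 1
  · rw [← Matrix.charpoly_map]
    have : M.map (Ideal.Quotient.mk I) = Matrix.diagonal fun j => Ideal.Quotient.mk I (ε j) := by
      ext i j
      have hz : Ideal.Quotient.mk I (c _ (hmem j) i) = 0 := Ideal.Quotient.eq_zero_iff_mem.mpr (hc _ _ i)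
      simp only [M, Matrix.map_apply, Matrix.add_apply, Matrix.of_apply, map_add, hz, add_zero, Matrix.diagonal_apply]
      split <;> simp
    rw [this, Matrix.charpoly_diagonal, Fintype.prod_option]
    simp [ε]

end Groth.Agent.S6887
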