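import Groth.Statements.S6888
import Mathlib.RingTheory.Henselian
import Mathlib.Data.Multiset.Fintype
import Mathlib.Algebra.Polynomial.Derivative
import Mathlib.Algebra.Ring.Idempotent
import Mathlib.RingTheory.Jacobson.Ideal
-- import your own Groth.Agent.* helpers here

set_option autoImplicit false
universe u
open Polynomial
open CAlg

namespace Groth.Agent.S6888

/-- Let `A` be absolutely integrally closed (every monic polynomial over `A` is a product of linear
factors) and `I ⊆ A` an ideal contained in the Jacobson radical such that `A → A/I` is surjective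
(hence bijective) on idempotents. Then `(A, I)` is a henselian pair. (The published statement also
records the converse, which holds for every henselian pair; this row states the sufficiency only.) -/
theorem result (A : Type u) [CommRing A]
    (hA : ∀ f : A[X], f.Monic → ∃ s : Multiset A, f = (s.map fun a => X - C a).prod) (I : Ideal A)
    (hI : I ≤ Ideal.jacobson (⊥ : Ideal A))
    (hidem : ∀ e : A ⧸ I, IsIdempotentElem e → ∃ e' : A, IsIdempotentElem e' ∧ Ideal.Quotient.mk I e' = e) :
    HenselianRing A I := by
  classical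
  have hz : ∀ e : A, IsIdempotentElem e → e ∈ I → e = 0 := by
    intro e he heI
    obtain ⟨w, hw⟩ := isUnit_iff_exists_inv.mp (Ideal.mem_jacobson_bot.mp (hI heI) (-1))
    have h : e * (e * (-1) + 1) = 0 := by rw [mul_add, mul_one, ← mul_assoc, he.eq]; ring
    calc e = e * ((e * (-1) + 1) * w) := by rw [hw, mul_one]
      _ = 0 := by rw [← mul_assoc, h, zero_mul]
  refine ⟨hI, fun f hf a₀ hroot hder => ?_⟩
  obtain ⟨s, hs⟩ := hA f hf
  let α : s.ToType → A := fun i => (i.1 : A)
  have hf' : f = ∏ i, (X - C (α i)) := by
    rw [hs, Finset.prod_eq_multiset_prod]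
    conv_lhs => rw [← Multiset.map_univ_coe s, Multiset.map_map]
    rfl
  let q := Ideal.Quotient.mk I
  let c : s.ToType → A ⧸ I := fun i => q (a₀ - α i)
  have hprod : ∏ i, c i = 0 := by
    have h : f.eval a₀ = ∏ i, (a₀ - α i) := by rw [hf', eval_prod]; simp
    rw [← map_prod q, ← h]
    exact Ideal.Quotient.eq_zero_iff_mem.mpr hroot
  have hsum : IsUnit (∑ i, ∏ j ∈ Finset.univ.erase i, c j) := by
    have h : f.derivative.eval a₀ = ∑ i, ∏ j ∈ Finset.univ.erase i, (a₀ - α j) := by
      rw [hf', derivative_prod_finset, eval_finset_sum]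
      simp [eval_prod]
    rw [h, map_sum] at hder
    simpa only [map_prod] using hder
  obtain ⟨v, hv⟩ := isUnit_iff_exists_inv'.mp hsum
  let e : s.ToType → A ⧸ I := fun i => v * ∏ j ∈ Finset.univ.erase i, c j
  have hce : ∀ i, c i * e i = 0 := by
    intro i
    simp only [e]
    rw [mul_left_comm, Finset.mul_prod_erase _ _ (Finset.mem_univ i), hprod, mul_zero]
  have horth : ∀ i j, i ≠ j → e i * e j = 0 := by
    intro i j hij
    simp only [e]
    rw [← Finset.mul_prod_erase (Finset.univ.erase i) c (Finset.mem_erase.mpr ⟨hij.symm, Finset.mem_univ j⟩),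
      mul_mul_mul_comm]
    have h2 := Finset.mul_prod_erase Finset.univ c (Finset.mem_univ j)
    rw [hprod] at h2
    calc v * v * (c j * (∏ x ∈ (Finset.univ.erase i).erase j, c x) * ∏ j_1 ∈ Finset.univ.erase j, c j_1)
        = v * v * (∏ x ∈ (Finset.univ.erase i).erase j, c x) * (c j * ∏ x ∈ Finset.univ.erase j, c x) := by ring
      _ = 0 := by rw [h2, mul_zero]
  have hone : ∑ i, e i = 1 := by simp only [e, ← Finset.mul_sum, hv]
  have hid : ∀ i, IsIdempotentElem (e i) := by
    intro i
    have h := congrArg (e i * ·) hone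
    simp only [Finset.mul_sum, mul_one] at h
    rw [Finset.sum_eq_single i (fun j _ hj => horth i j hj.symm)
      (fun h => absurd (Finset.mem_univ i) h)] at h
    exact h
  choose E hE hqE using fun i => hidem (e i) (hid i)
  have hEorth : ∀ i j, i ≠ j → E i * E j = 0 := fun i j hij =>
    hz _ ((hE i).mul (hE j)) (Ideal.Quotient.eq_zero_iff_mem.mp (by
      rw [map_mul, hqE, hqE, horth i j hij]))
  have hsumid : IsIdempotentElem (∑ i, E i) := by
    unfold IsIdempotentElem
    rw [Finset.sum_mul_sum]
    refine Finset.sum_congr rfl fun i _ => ?_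
    rw [Finset.sum_eq_single i (fun j _ hj => hEorth i j hj.symm)
      (fun h => absurd (Finset.mem_univ i) h)]
    exact hE i
  have hEone : ∑ i, E i = 1 := by
    have h := hz _ hsumid.one_sub (Ideal.Quotient.eq_zero_iff_mem.mp (by
      rw [map_sub, map_one, map_sum]
      simp only [hqE, hone, sub_self]))
    exact (sub_eq_zero.mp h).symm
  let a := ∑ i, E i * α i
  refine ⟨a, ?_, ?_⟩
  · have key : ∀ i, E i * f.eval a = 0 := by
      intro i
      have h1 : E i * (a - α i) = 0 := by
        rw [mul_sub, Finset.mul_sum, Finset.sum_eq_single i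
          (fun j _ hj => by rw [← mul_assoc, hEorth i j hj.symm, zero_mul])
          (fun h => absurd (Finset.mem_univ i) h), ← mul_assoc, (hE i).eq, sub_self]
      rw [hf', eval_prod, ← Finset.mul_prod_erase _ _ (Finset.mem_univ i), ← mul_assoc]
      simp [h1]
    show f.eval a = 0
    rw [← one_mul (f.eval a), ← hEone, Finset.sum_mul]
    exact Finset.sum_eq_zero fun i _ => key i
  · refine Ideal.Quotient.eq.mp ?_
    rw [← one_mul (Ideal.Quotient.mk I a₀), ← hone, Finset.sum_mul, map_sum]
    refine Finset.sum_congr rfl fun i _ => ?_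
    rw [map_mul, hqE]
    have h1 := hce i
    simp only [c, q, map_sub] at h1
    rw [mul_comm, mul_sub, sub_eq_zero] at h1
    exact h1.symm

end Groth.Agent.S6888
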