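import Groth.Statements.S6891
import Groth.Agent.Lib.Fitting.Support
-- import your own Groth.Agent.* helpers here

set_option autoImplicit false
universe u
open Fitt

namespace Groth.Agent.S6891

/-- Let `M` be a finite `R`-module. Then `Fit_0(M) ⊆ Ann_R(M)`, the closed set `V(Fit_0(M))` equals
`Supp(M)`, and for an ideal `I` one has `Fit_0(R/I) = I`. -/
theorem result {R : Type u} [CommRing R] (M : Type u) [AddCommGroup M]
    [Module R M] [Module.Finite R M] (I : Ideal R) :
    Fitt.ideal R M 0 ≤ Module.annihilator R M ∧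
    PrimeSpectrum.zeroLocus (Fitt.ideal R M 0 : Set R) = Module.support R M ∧
    Fitt.ideal R (R ⧸ I) 0 = I := by
  exact ⟨GrothLib.Fitting.ideal_zero_le_annihilator, GrothLib.Fitting.zeroLocus_ideal_zero,
  GrothLib.Fitting.ideal_quotient_zero I⟩

end Groth.Agent.S6891
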