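import Groth.Statements.S6893
import Mathlib
-- import your own Groth.Agent.* helpers here

set_option autoImplicit false
universe u
open TensorProduct
open CAlg

namespace Groth.Agent.S6893

open scoped TensorProduct

theorem rTensor_injective_of_killed {R : Type u} [CommRing R] {M : Type u} [AddCommGroup M] [Module R M]
    (I : Ideal R) [Module.Flat (R ⧸ I) ((R ⧸ I) ⊗[R] M)] (N N' : Type u) [AddCommGroup N] [Module R N]
    [AddCommGroup N'] [Module R N'] (hN : ∀ r ∈ I, ∀ n : N, r • n = 0) (hN' : ∀ r ∈ I, ∀ n : N', r • n = 0)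
    (f : N →ₗ[R] N') (hf : Function.Injective f) : Function.Injective (f.rTensor M) := by
  classical
  have tN : Module.IsTorsionBySet R N (I : Set R) := fun n r ↦ hN r r.2 n
  have tN' : Module.IsTorsionBySet R N' (I : Set R) := fun n r ↦ hN' r r.2 n
  letI := tN.module
  letI := tN'.module
  haveI : IsScalarTower R (R ⧸ I) N := tN.isScalarTower
  haveI : IsScalarTower R (R ⧸ I) N' := tN'.isScalarTower
  let g : N →ₗ[R ⧸ I] N' := f.extendScalarsOfSurjective Ideal.Quotient.mk_surjective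
  let e := TensorProduct.AlgebraTensorModule.cancelBaseChange R (R ⧸ I) (R ⧸ I) N M
  let e' := TensorProduct.AlgebraTensorModule.cancelBaseChange R (R ⧸ I) (R ⧸ I) N' M
  have hg : Function.Injective (g.rTensor ((R ⧸ I) ⊗[R] M)) := Module.Flat.rTensor_preserves_injective_linearMap g hf
  have key : ∀ z, f.rTensor M (e z) = e' (g.rTensor _ z) := fun z ↦ by
    induction z using TensorProduct.induction_on with
    | zero => simp
    | tmul n w =>
      induction w using TensorProduct.induction_on with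
      | zero => simp
      | tmul a m =>
        obtain ⟨a, rfl⟩ := Ideal.Quotient.mk_surjective a
        simp only [e, e', LinearMap.rTensor_tmul, TensorProduct.AlgebraTensorModule.cancelBaseChange_tmul]
        congr 1
        exact g.map_smul _ _
      | add a b ha hb => simp only [TensorProduct.tmul_add, map_add, ha, hb]
    | add a b ha hb => simp only [map_add, ha, hb]
  intro x y hxy
  obtain ⟨x, rfl⟩ := e.surjective x
  obtain ⟨y, rfl⟩ := e.surjective y
  rw [key, key] at hxy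
  exact congrArg e (hg (e'.injective hxy))

theorem rTensor_subtype_injective_of_pair {R : Type u} [CommRing R] {M : Type u} [AddCommGroup M] [Module R M]
    (I₁ I₂ : Ideal R) [Module.Flat (R ⧸ I₁) ((R ⧸ I₁) ⊗[R] M)] [Module.Flat (R ⧸ I₂) ((R ⧸ I₂) ⊗[R] M)]
    (Q P₁ P₂ : Type u) [AddCommGroup Q] [Module R Q] [AddCommGroup P₁] [Module R P₁] [AddCommGroup P₂] [Module R P₂]
    (q₁ : Q →ₗ[R] P₁) (q₂ : Q →ₗ[R] P₂) (hq12 : ∀ x, q₁ x = 0 → q₂ x = 0 → x = 0)
    (hk₁ : ∀ r ∈ I₁, ∀ n : P₁, r • n = 0) (hk₂ : ∀ r ∈ I₂, ∀ n : P₂, r • n = 0)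
    (KR : Submodule R Q) : Function.Injective (KR.subtype.rTensor M) := by
  classical
  let φ : KR →ₗ[R] P₁ := q₁ ∘ₗ KR.subtype
  let C := LinearMap.range φ
  let B := LinearMap.ker φ
  let ψ : B →ₗ[R] P₂ := q₂ ∘ₗ KR.subtype ∘ₗ B.subtype
  have hψ : Function.Injective ψ := by
    rw [injective_iff_map_eq_zero]
    intro b hb
    exact Subtype.ext (Subtype.ext (hq12 _ (LinearMap.mem_ker.mp b.2) hb))
  have h1 : Function.Injective (C.subtype.rTensor M) := rTensor_injective_of_killed I₁ C _ (fun r hr n ↦ Subtype.ext (hk₁ r hr n.1)) hk₁ _ C.injective_subtype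
  have h2 : Function.Injective (ψ.rTensor M) := rTensor_injective_of_killed I₂ B _ (fun r hr n ↦ hψ (by rw [map_smul, map_zero]; exact hk₂ r hr _)) hk₂ ψ hψ
  have hex := rTensor_exact M (f := B.subtype) (g := φ.rangeRestrict) (by
    intro x
    constructor
    · intro hx; exact ⟨⟨x, congrArg Subtype.val hx⟩, rfl⟩
    · rintro ⟨b, rfl⟩; exact Subtype.ext b.2) φ.surjective_rangeRestrict
  rw [injective_iff_map_eq_zero]
  intro z hz
  have hz1 : φ.rangeRestrict.rTensor M z = 0 := h1 (by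
    rw [map_zero, ← LinearMap.rTensor_comp_apply, show C.subtype ∘ₗ φ.rangeRestrict = q₁ ∘ₗ KR.subtype from rfl,
      LinearMap.rTensor_comp_apply, hz, map_zero])
  obtain ⟨b, rfl⟩ := (hex z).mp hz1
  have hb : b = 0 := h2 (by
    rw [map_zero, show ψ = q₂ ∘ₗ (KR.subtype ∘ₗ B.subtype) from rfl, LinearMap.rTensor_comp_apply,
      LinearMap.rTensor_comp_apply, hz, map_zero])
  rw [hb, map_zero]

theorem rTensor_subtype_injective {R : Type u} [CommRing R] {M : Type u} [AddCommGroup M] [Module R M]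
    (I₁ I₂ : Ideal R) [Module.Flat (R ⧸ I₁) ((R ⧸ I₁) ⊗[R] M)] [Module.Flat (R ⧸ I₂) ((R ⧸ I₂) ⊗[R] M)]
    (KR : Submodule R (R ⧸ (I₁ ⊓ I₂))) : Function.Injective (KR.subtype.rTensor M) := by
  have hkill : ∀ (I : Ideal R) (r : R), r ∈ I → ∀ n : R ⧸ I, r • n = 0 := fun I r hr n ↦ by
    obtain ⟨n, rfl⟩ := Ideal.Quotient.mk_surjective n
    exact Ideal.Quotient.eq_zero_iff_mem.mpr (I.mul_mem_right n hr)
  refine rTensor_subtype_injective_of_pair I₁ I₂ _ (R ⧸ I₁) (R ⧸ I₂)
    (Submodule.mapQ (I₁ ⊓ I₂) I₁ LinearMap.id inf_le_left) (Submodule.mapQ (I₁ ⊓ I₂) I₂ LinearMap.id inf_le_right)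
    (fun x h1 h2 ↦ ?_) (hkill I₁) (hkill I₂) KR
  obtain ⟨x, rfl⟩ := Submodule.Quotient.mk_surjective _ x
  exact (Submodule.Quotient.mk_eq_zero _).mpr ⟨(Submodule.Quotient.mk_eq_zero _).mp h1, (Submodule.Quotient.mk_eq_zero _).mp h2⟩



/-- Let `M` be a module over a ring `R` and `I₁, I₂ ⊆ R` ideals. Suppose flatness of `M/I₁M` as an
`R/I₁`-module holds, and likewise `M/I₂M` is a flat `R/I₂`-module; then the quotient `M/(I₁ ∩ I₂)M`
is also flat as a module over `R/(I₁ ∩ I₂)`. -/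
theorem result {R : Type u} [CommRing R] (M : Type u) [AddCommGroup M] [Module R M]
    (I₁ I₂ : Ideal R) [Module.Flat (R ⧸ I₁) ((R ⧸ I₁) ⊗[R] M)] [Module.Flat (R ⧸ I₂) ((R ⧸ I₂) ⊗[R] M)] :
    Module.Flat (R ⧸ (I₁ ⊓ I₂)) ((R ⧸ (I₁ ⊓ I₂)) ⊗[R] M) := by
  classical
  rw [Module.Flat.iff_rTensor_injective']
  intro K
  let KR : Submodule R (R ⧸ (I₁ ⊓ I₂)) := K.restrictScalars R
  let e := TensorProduct.AlgebraTensorModule.cancelBaseChange R (R ⧸ (I₁ ⊓ I₂)) (R ⧸ (I₁ ⊓ I₂)) K M
  let e' := TensorProduct.AlgebraTensorModule.cancelBaseChange R (R ⧸ (I₁ ⊓ I₂)) (R ⧸ (I₁ ⊓ I₂)) (R ⧸ (I₁ ⊓ I₂)) M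
  let ι : (K : Type u) ≃ₗ[R] KR := LinearEquiv.refl R _
  have key : ∀ z, KR.subtype.rTensor M (ι.toLinearMap.rTensor M (e z)) = e' (K.subtype.rTensor _ z) := fun z ↦ by
    induction z using TensorProduct.induction_on with
    | zero => simp
    | tmul n w =>
      induction w using TensorProduct.induction_on with
      | zero => simp
      | tmul a m => simp [e, e', ι]; rfl
      | add a b ha hb => simp only [TensorProduct.tmul_add, map_add, ha, hb]
    | add a b ha hb => simp only [map_add, ha, hb]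
  intro x y hxy
  apply e.injective
  have := congrArg e' hxy
  rw [← key, ← key] at this
  exact (LinearEquiv.rTensor M ι).injective (rTensor_subtype_injective I₁ I₂ KR this)

end Groth.Agent.S6893
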