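import Groth.Statements.S6896
import Groth.Agent.Lib.Fitting.Local
import Groth.Agent.Lib.Fitting.Strict
-- import your own Groth.Agent.* helpers here

set_option autoImplicit false
universe u
open Fitt

namespace Groth.Agent.S6896

/-- Let `R` be a local ring, `M` a finite `R`-module and `k ≥ 0` with `Fit_k(M) = (f)` principal. Then
the quotient `M'` of `M` by the submodule `{x ∈ M | f x = 0}` can be generated by `k` elements. -/
theorem result {R : Type u} [CommRing R] [IsLocalRing R]
    (M : Type u) [AddCommGroup M] [Module R M] [Module.Finite R M] (k : ℕ) (f : R)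
    (hf : Fitt.ideal R M k = Ideal.span {f}) :
    ∃ g : Fin k → M ⧸ LinearMap.ker (f • (LinearMap.id : M →ₗ[R] M)),
      Submodule.span R (Set.range g) = ⊤ := by
  classical
  let N := M ⧸ LinearMap.ker (f • (LinearMap.id : M →ₗ[R] M))
  let q : M →ₗ[R] N := Submodule.mkQ _
  have htors : ∀ m : M, f • m = 0 → q m = 0 := fun m hm =>
    (Submodule.Quotient.mk_eq_zero _).2 (by simpa using hm)
  by_cases hf0 : f = 0
  · refine ⟨fun _ => 0, Submodule.eq_top_iff'.2 fun t => ?_⟩
    obtain ⟨m, rfl⟩ := Submodule.mkQ_surjective _ t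
    rw [show Submodule.mkQ _ m = (0 : N) from htors m (by rw [hf0, zero_smul])]
    exact zero_mem _
  obtain ⟨n, x, hx⟩ := GrothLib.Fitting.exists_tuple R M
  rw [GrothLib.Fitting.ideal_eq_minors x hx] at hf
  have hdvd : ∀ (z : Fin (n - k) → Fin n → R) (e : Fin (n - k) → Fin n), (∀ j, z j ∈ GrothLib.Fitting.rel x) →
      f ∣ 1 * (Matrix.of fun a b => z b (e a)).det := fun z e hz => by
    rw [one_mul, ← Ideal.mem_span_singleton, ← hf]
    exact GrothLib.Fitting.det_mem_minors z e hz
  have hunit : ∃ (z : Fin (n - k) → Fin n → R) (e : Fin (n - k) → Fin n) (c : R), Function.Injective e ∧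
      (∀ j, z j ∈ GrothLib.Fitting.rel x) ∧ 1 * (Matrix.of fun a b => z b (e a)).det = f * c ∧ IsUnit c := by
    by_contra hno
    have hle : Ideal.span {f} ≤ Ideal.span {f} * IsLocalRing.maximalIdeal R := by
      conv_lhs => rw [← hf]
      refine GrothLib.Fitting.minors_le_iff.2 fun z e hz => ?_
      by_cases he : Function.Injective e
      swap
      · obtain ⟨i, j, hij, hne⟩ := Function.not_injective_iff.1 he
        rw [Matrix.det_zero_of_row_eq hne (by ext b; simp [hij])]
        exact zero_mem _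
      obtain ⟨c, hc⟩ := hdvd z e hz
      rw [one_mul] at hc
      rw [hc, Ideal.mem_span_singleton_mul]
      exact ⟨c, fun hu => hno ⟨z, e, c, he, hz, by rw [one_mul]; exact hc, hu⟩, rfl⟩
    obtain ⟨c, hc, hfc⟩ := Ideal.mem_span_singleton_mul.1 (hle (Ideal.subset_span rfl))
    have hu : IsUnit (1 - c) := IsLocalRing.isUnit_one_sub_self_of_mem_nonunits c hc
    exact hf0 (hu.mul_left_eq_zero.1 (by rw [mul_sub, mul_one, hfc, sub_self]))
  obtain ⟨z, e, c, he, hz, hc, hcu⟩ := hunit
  have hpow := GrothLib.Fitting.pow_mem_ideal_of_minor x hx k q (Submodule.mkQ_surjective _) f 1 htors hdvd z e he hz c hc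
  have hnot : ¬ Fitt.ideal R N k ≤ IsLocalRing.maximalIdeal R := fun hle => hle hpow (hcu.pow _)
  obtain ⟨u, hu, y, hy⟩ := GrothLib.Fitting.exists_smul_mem_span k (IsLocalRing.maximalIdeal R)
    ((GrothLib.Fitting.not_le_iff_finrank_fiber_le k _).1 hnot)
  refine ⟨y, Submodule.eq_top_iff'.2 fun m => ?_⟩
  have hu' : IsUnit u := by simpa using hu
  exact (Submodule.smul_mem_iff_of_isUnit _ hu').1 (hy m)

end Groth.Agent.S6896
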