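import Groth.Statements.S6897
import Groth.Agent.Lib.Fitting.ProjDim
-- import your own Groth.Agent.* helpers here

set_option autoImplicit false
universe u
open CategoryTheory
open Fitt

namespace Groth.Agent.S6897

/-- Let `M` be a finitely presented `R`-module and `k ≥ 0` such that `Fit_k(M) = (f)` for a
nonzerodivisor `f` and `Fit_{k-1}(M) = 0` (no condition when `k = 0`). Let `M' = Ker(f : M → M)`.
Then: the projective dimension of `M` is at most `1`; `M'` coincides with the `f`-power torsion of
`M` and its projective dimension is at most `1`; every prime of `R` has a basic open neighbourhood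
over which `M/M'` is free of rank `k`; and `M ≅ M/M' ⊕ M'` (existence of an isomorphism). -/
theorem result {R : Type u} [CommRing R] (M : Type u)
    [AddCommGroup M] [Module R M] [Module.FinitePresentation R M] (k : ℕ) (f : R) (hf0 : f ∈ nonZeroDivisors R)
    (hf : Fitt.ideal R M k = Ideal.span {f}) (hk : k = 0 ∨ Fitt.ideal R M (k - 1) = ⊥) :
    HasProjectiveDimensionLT (ModuleCat.of R M) 2 ∧
    (∀ x : M, (∃ n : ℕ, f ^ n • x = 0) ↔ f • x = 0) ∧
    HasProjectiveDimensionLT (ModuleCat.of R ↥(LinearMap.ker (f • (LinearMap.id : M →ₗ[R] M)))) 2 ∧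
    (∀ (p : Ideal R) [p.IsPrime], ∃ g : R, g ∉ p ∧
      Module.Free (Localization.Away g)
          (LocalizedModule (Submonoid.powers g) (M ⧸ LinearMap.ker (f • (LinearMap.id : M →ₗ[R] M)))) ∧
        Module.finrank (Localization.Away g)
          (LocalizedModule (Submonoid.powers g) (M ⧸ LinearMap.ker (f • (LinearMap.id : M →ₗ[R] M)))) = k) ∧
    Nonempty (M ≃ₗ[R] (M ⧸ LinearMap.ker (f • (LinearMap.id : M →ₗ[R] M))) ×
      ↥(LinearMap.ker (f • (LinearMap.id : M →ₗ[R] M)))) := by
  exact GrothLib.Fitting.split_of_ideal_eq k f hf0 hf hk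

end Groth.Agent.S6897
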