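import Groth.Statements.S6898
import Mathlib
-- import your own Groth.Agent.* helpers here

set_option autoImplicit false
universe u
open TensorProduct
open CAlg

namespace Groth.Agent.S6898

/-- Let `(A, 𝔪)` be a local ring and `u : M → N` a linear map between flat `A`-modules whose reduction
`M/𝔪M → N/𝔪N` is injective. If `I` is the content ideal of some `x ∈ M` (the least ideal `I` with `x
∈ IM`), then `I` is also the least ideal `J` with `u(x) ∈ J·N`. -/
theorem result {A : Type u} [CommRing A] [IsLocalRing A] {M N : Type u}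
    [AddCommGroup M] [Module A M] [Module.Flat A M] [AddCommGroup N] [Module A N] [Module.Flat A N] (u : M →ₗ[A] N)
    (hu : Function.Injective (u.baseChange (IsLocalRing.ResidueField A))) (x : M) (I : Ideal A)
    (hx : IsLeast {J : Ideal A | x ∈ J • (⊤ : Submodule A M)} I) :
    IsLeast {J : Ideal A | u x ∈ J • (⊤ : Submodule A N)} I := by
  classical
  obtain ⟨hxI, hmin⟩ := hx
  refine ⟨?_, fun J hJ => ?_⟩
  · exact Submodule.map_smul'' I ⊤ u ▸ Submodule.mem_map_of_mem hxI |> fun h =>
      Submodule.smul_mono le_rfl le_top h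
  -- a finite expression of `x`
  obtain ⟨nf, b, m, hb, hsum⟩ : ∃ (n : ℕ) (b : Fin n → A) (m : Fin n → M), (∀ i, b i ∈ I) ∧ ∑ i, b i • m i = x := by
    refine Submodule.smul_induction_on hxI (fun r hr y _ => ⟨1, fun _ => r, fun _ => y, fun _ => hr, by simp⟩) ?_
    rintro _ _ ⟨n, b, m, hb, rfl⟩ ⟨n', b', m', hb', rfl⟩
    exact ⟨n + n', Fin.append b b', Fin.append m m', fun i => by
      induction i using Fin.addCases <;> simp [hb, hb'], by simp [Fin.sum_univ_add]⟩
  have hIfg : I.FG := by
    have hle : I ≤ Ideal.span (Set.range b) := hmin (by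
      rw [Set.mem_ofPred_eq, ← hsum]
      exact Submodule.sum_mem _ fun i _ => Submodule.smul_mem_smul (Ideal.subset_span ⟨i, rfl⟩) trivial)
    rw [le_antisymm hle (Ideal.span_le.2 (Set.range_subset_iff.2 hb))]
    exact Submodule.fg_span (Set.finite_range b)
  by_contra hIJ
  -- replace `J` by `J ⊓ I` and form the residue vector space
  let K : Ideal A := J ⊓ I ⊔ IsLocalRing.maximalIdeal A • I
  let π : I →ₗ[A] (I ⧸ (Submodule.comap I.subtype K)) := Submodule.mkQ _
  have hmV : ∀ a ∈ IsLocalRing.maximalIdeal A, ∀ v : I ⧸ (Submodule.comap I.subtype K), a • v = 0 := fun a ha v => by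
    obtain ⟨v, rfl⟩ := Submodule.mkQ_surjective _ v
    rw [← map_smul]
    exact (Submodule.Quotient.mk_eq_zero _).2 (Submodule.mem_sup_right (Submodule.smul_mem_smul ha v.2))
  have hVinj : Function.Injective (u.lTensor (I ⧸ (Submodule.comap I.subtype K))) := by
    let k := IsLocalRing.ResidueField A
    letI : Module k (I ⧸ (Submodule.comap I.subtype K)) := Module.IsTorsionBySet.module (I := IsLocalRing.maximalIdeal A)
      (fun v a => hmV a.1 a.2 v)
    have : IsScalarTower A k (I ⧸ (Submodule.comap I.subtype K)) := IsScalarTower.of_algebraMap_smul fun a v => rfl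
    let e := TensorProduct.AlgebraTensorModule.cancelBaseChange A k k (I ⧸ (Submodule.comap I.subtype K)) M
    let e' := TensorProduct.AlgebraTensorModule.cancelBaseChange A k k (I ⧸ (Submodule.comap I.subtype K)) N
    have h1 : Function.Injective ((u.baseChange k).lTensor (I ⧸ (Submodule.comap I.subtype K))) :=
      Module.Flat.lTensor_preserves_injective_linearMap _ hu
    have hnat : ∀ t, u.lTensor (I ⧸ (Submodule.comap I.subtype K)) (e t) = e' ((u.baseChange k).lTensor _ t) := fun t => by
      induction t using TensorProduct.induction_on with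
      | zero => simp
      | tmul v y =>
        induction y using TensorProduct.induction_on with
        | zero => simp
        | tmul c y => simp [e, e']
        | add p q hp hq => simp [TensorProduct.tmul_add, map_add, hp, hq]
      | add p q hp hq => simp [map_add, hp, hq]
    intro p q hpq
    apply e.symm.injective
    apply h1
    apply e'.injective
    rw [← hnat, ← hnat, e.apply_symm_apply, e.apply_symm_apply, hpq]
  -- `u x ∈ (J ⊓ I) N`
  let μ : I ⊗[A] N →ₗ[A] N := (TensorProduct.lid A N).toLinearMap ∘ₗ LinearMap.rTensor N I.subtype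
  have hμ : Function.Injective μ := (TensorProduct.lid A N).injective.comp
    (Module.Flat.rTensor_preserves_injective_linearMap _ I.subtype_injective)
  let ω : I ⊗[A] N := ∑ i, (⟨b i, hb i⟩ : I) ⊗ₜ u (m i)
  have hω : μ ω = u x := by simp [μ, ω, ← hsum]
  have huxJI : u x ∈ (J ⊓ I) • (⊤ : Submodule A N) := by
    let Q := A ⧸ (J ⊓ I)
    have hprod : ∀ (y : N), (Ideal.Quotient.mk J 1 : A ⧸ J) ⊗ₜ[A] y = 0 → (Ideal.Quotient.mk I 1 : A ⧸ I) ⊗ₜ[A] y = 0 →
        (Ideal.Quotient.mk (J ⊓ I) 1 : Q) ⊗ₜ[A] y = 0 := by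
      intro y hyJ hyI
      let d : Q →ₗ[A] (A ⧸ J) × (A ⧸ I) :=
        (Submodule.mapQ (J ⊓ I) J LinearMap.id inf_le_left).prod (Submodule.mapQ (J ⊓ I) I LinearMap.id inf_le_right)
      have hd : Function.Injective d := by
        rw [injective_iff_map_eq_zero]
        intro q hq
        obtain ⟨a, rfl⟩ := Submodule.mkQ_surjective _ q
        exact (Submodule.Quotient.mk_eq_zero _).2 ⟨(Submodule.Quotient.mk_eq_zero _).1 (congrArg Prod.fst hq),
          (Submodule.Quotient.mk_eq_zero _).1 (congrArg Prod.snd hq)⟩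
      refine Module.Flat.rTensor_preserves_injective_linearMap d hd ?_
      apply (TensorProduct.prodLeft A A (A ⧸ J) (A ⧸ I) N).injective
      rw [LinearMap.rTensor_tmul, map_zero, map_zero]
      exact Prod.ext hyJ hyI
    have hmem : ∀ (L : Ideal A) (y : N), (Ideal.Quotient.mk L 1 : A ⧸ L) ⊗ₜ[A] y = 0 ↔ y ∈ L • (⊤ : Submodule A N) := by
      intro L y
      rw [← (TensorProduct.quotTensorEquivQuotSMul N L).map_eq_zero_iff, TensorProduct.quotTensorEquivQuotSMul_mk_tmul,
        one_smul, Submodule.Quotient.mk_eq_zero]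
    refine (hmem _ _).1 (hprod _ ((hmem _ _).2 hJ) ((hmem _ _).2 ?_))
    rw [← hω]
    simp only [μ, ω, map_sum, LinearMap.comp_apply, LinearMap.rTensor_tmul, LinearEquiv.coe_coe,
      TensorProduct.lid_tmul]
    exact Submodule.sum_mem _ fun i _ => Submodule.smul_mem_smul (hb i) trivial
  have hωV : LinearMap.rTensor N π ω = 0 := by
    have key : ∀ y ∈ (J ⊓ I) • (⊤ : Submodule A N), ∃ t, μ t = y ∧ LinearMap.rTensor N π t = 0 := fun y hy => by
      refine Submodule.smul_induction_on hy (fun c hc y _ => ⟨(⟨c, hc.2⟩ : I) ⊗ₜ y, by simp [μ], ?_⟩) ?_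
      · rw [LinearMap.rTensor_tmul,
          show π ⟨c, hc.2⟩ = 0 from (Submodule.Quotient.mk_eq_zero _).2 (Submodule.mem_sup_left hc),
          TensorProduct.zero_tmul]
      · rintro _ _ ⟨t, rfl, ht⟩ ⟨t', rfl, ht'⟩
        exact ⟨t + t', map_add _ _ _, by rw [map_add, ht, ht', add_zero]⟩
    obtain ⟨t, ht, ht0⟩ := key _ huxJI
    rwa [show ω = t from hμ (hω.trans ht.symm)]
  have hτV : LinearMap.rTensor M π (∑ i, (⟨b i, hb i⟩ : I) ⊗ₜ m i) = 0 := hVinj (by
    rw [map_zero, ← LinearMap.comp_apply, LinearMap.lTensor_comp_rTensor, ← LinearMap.rTensor_comp_lTensor,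
      LinearMap.comp_apply, ← hωV]
    simp [ω, map_sum])
  obtain ⟨w, hw⟩ := ((rTensor_exact M (LinearMap.exact_subtype_mkQ (Submodule.comap I.subtype K)) (Submodule.mkQ_surjective _)) _).1 hτV
  have hxK : x ∈ K • (⊤ : Submodule A M) := by
    let ν : I ⊗[A] M →ₗ[A] M := (TensorProduct.lid A M).toLinearMap ∘ₗ LinearMap.rTensor M I.subtype
    rw [show x = ν (∑ i, (⟨b i, hb i⟩ : I) ⊗ₜ m i) by simp [ν, ← hsum], ← hw]
    clear hw
    induction w using TensorProduct.induction_on with
    | zero => simp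
    | tmul k y => simpa [ν] using Submodule.smul_mem_smul k.2 (Submodule.mem_top : y ∈ (⊤ : Submodule A M))
    | add p q hp hq => simp only [map_add]; exact add_mem hp hq
  refine hIJ (le_trans ?_ (inf_le_left : J ⊓ I ≤ J) : I ≤ J)
  exact Submodule.le_of_le_smul_of_le_jacobson_bot hIfg
    (IsLocalRing.jacobson_eq_maximalIdeal (⊥ : Ideal A) bot_ne_top).ge (hmin hxK)

end Groth.Agent.S6898
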