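import Groth.Statements.S6903
import Groth.Agent.Lib.DCxKFlat.Bridge


set_option autoImplicit false
universe u
open CategoryTheory CategoryTheory.Limits MonoidalCategory
open DRing

namespace Groth.Agent.S6903

/-- A filtered colimit of K-flat complexes of `R`-modules is K-flat. -/
theorem result (R : Type u) [CommRing R] (J : Type u) [SmallCategory J] [IsFiltered J]
    (F : J ⥤ DRing.Cx R) (hF : ∀ j : J, (∀ L : DRing.Cx R, (∀ i : ℤ, IsZero (L.homology i)) → ∀ i : ℤ, IsZero ((L ⊗ F.obj j).homology i))) :
    (∀ L : DRing.Cx R, (∀ i : ℤ, IsZero (L.homology i)) → ∀ i : ℤ, IsZero ((L ⊗ colimit F).homology i)) :=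
  GrothLib.KF.isKFlat_colimit_filtered F hF

end Groth.Agent.S6903
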