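import Groth.Statements.S6909
import Groth.Agent.Lib.ARCongr.Basic

set_option autoImplicit false
universe u
open CAlg

namespace Groth.Agent.S6909

/-- Let `A` be a Noetherian ring, `I ⊆ A` an ideal inside the Jacobson radical, and `L → M → N` two
complexes `(f, g)` and `(f', g')` of finite `A`-modules with `f' ≡ f` modulo `I^{c+1}M` and `g' ≡ g`
modulo `I^{c+1}N`. If `c` works in the Artin–Rees lemma for `f` and for `g` (that is `f(L) ∩ IⁿM ⊆
f(I^{n-c}L)` for `n ≥ c`, and likewise for `g`) and `(f, g)` is exact, then `c` works for `g'` and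
`(f', g')` is exact. -/
theorem result {A : Type u} [CommRing A] [IsNoetherianRing A] (I : Ideal A)
    (hI : I ≤ Ideal.jacobson (⊥ : Ideal A)) {L M N : Type u} [AddCommGroup L] [Module A L] [Module.Finite A L]
    [AddCommGroup M] [Module A M] [Module.Finite A M] [AddCommGroup N] [Module A N] [Module.Finite A N]
    (f f' : L →ₗ[A] M) (g g' : M →ₗ[A] N) (c : ℕ) (hgf : g.comp f = 0) (hgf' : g'.comp f' = 0)
    (hf : (∀ n : ℕ, c ≤ n → LinearMap.range f ⊓ (I ^ n • (⊤ : Submodule A M)) ≤ Submodule.map f (I ^ (n - c) • (⊤ : Submodule A L))))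
    (hg : (∀ n : ℕ, c ≤ n → LinearMap.range g ⊓ (I ^ n • (⊤ : Submodule A N)) ≤ Submodule.map g (I ^ (n - c) • (⊤ : Submodule A M))))
    (hex : Function.Exact f g)
    (hff' : ∀ x : L, f x - f' x ∈ I ^ (c + 1) • (⊤ : Submodule A M))
    (hgg' : ∀ y : M, g y - g' y ∈ I ^ (c + 1) • (⊤ : Submodule A N)) :
    (∀ n : ℕ, c ≤ n → LinearMap.range g' ⊓ (I ^ n • (⊤ : Submodule A N)) ≤ Submodule.map g' (I ^ (n - c) • (⊤ : Submodule A M))) ∧
    Function.Exact f' g' := by
  exact ⟨GrothLib.ARCongr.works_congr I hgf' hf hg hex hff' hgg',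
    GrothLib.ARCongr.exact_congr I hgf' hf hg hex hff' hgg' hI⟩

end Groth.Agent.S6909
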