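import Groth.Statements.S6911
import Groth.Agent.Lib.ARCongr.Basic

set_option autoImplicit false
universe u
open TensorProduct
open CAlg

namespace Groth.Agent.S6911

/-- Let `A → B` be a flat map of Noetherian rings, `I ⊆ A` an ideal and `f : M → N` a map of finite
`A`-modules such that `c` works for `f` in the Artin–Rees lemma (`f(M) ∩ IⁿN ⊆ f(I^{n-c}M)` for `n ≥
c`). Then `c` works for `f ⊗ 1 : M ⊗_A B → N ⊗_A B` and the ideal `IB`. -/
theorem result {A B : Type u} [CommRing A] [IsNoetherianRing A] [CommRing B]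
    [IsNoetherianRing B] [Algebra A B] [Module.Flat A B] (I : Ideal A) {M N : Type u} [AddCommGroup M] [Module A M]
    [Module.Finite A M] [AddCommGroup N] [Module A N] [Module.Finite A N] (f : M →ₗ[A] N) (c : ℕ)
    (hf : (∀ n : ℕ, c ≤ n → LinearMap.range f ⊓ (I ^ n • (⊤ : Submodule A N)) ≤ Submodule.map f (I ^ (n - c) • (⊤ : Submodule A M)))) :
    ∀ n : ℕ, c ≤ n →
      LinearMap.range (f.baseChange B) ⊓ ((I.map (algebraMap A B)) ^ n • (⊤ : Submodule B (B ⊗[A] N))) ≤
        Submodule.map (f.baseChange B) ((I.map (algebraMap A B)) ^ (n - c) • (⊤ : Submodule B (B ⊗[A] M))) := by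
  exact GrothLib.ARCongr.works_baseChange I f c hf

end Groth.Agent.S6911
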