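import Groth.Statements.S6912
import Mathlib
-- import your own Groth.Agent.* helpers here

set_option autoImplicit false
universe u
open TensorProduct
open CAlg

namespace Groth.Agent.S6912

/-- Let `R` be a domain and `M`, `N` two `R`-modules; rank means dimension over the fraction field after
base change. Then `rank (M ⊗_R N) = rank M · rank N`, and when `M` is finitely presented also `rank
Hom_R(M, N) = rank M · rank N`. -/
theorem result (R : Type u) [CommRing R] [IsDomain R] (M N : Type u)
    [AddCommGroup M] [Module R M] [AddCommGroup N] [Module R N] :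
    Module.rank R (M ⊗[R] N) = Module.rank R M * Module.rank R N ∧
    (Module.FinitePresentation R M → Module.rank R (M →ₗ[R] N) = Module.rank R M * Module.rank R N) := by
  classical
  let K := FractionRing R
  let MK := LocalizedModule (nonZeroDivisors R) M
  let NK := LocalizedModule (nonZeroDivisors R) N
  let fM : M →ₗ[R] MK := LocalizedModule.mkLinearMap _ _
  let fN : N →ₗ[R] NK := LocalizedModule.mkLinearMap _ _
  have rk : ∀ (P : Type u) [AddCommGroup P] [Module R P] (P' : Type u) [AddCommGroup P'] [Module R P'] [Module K P']
      [IsScalarTower R K P'] (f : P →ₗ[R] P') [IsLocalizedModule (nonZeroDivisors R) f],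
      Module.rank K P' = Module.rank R P := fun P _ _ P' _ _ _ _ f _ ↦ by
    rw [IsLocalization.rank_eq K (nonZeroDivisors R) le_rfl, IsLocalizedModule.rank_eq (nonZeroDivisors R) le_rfl f]
  constructor
  · have e1 := rk (M ⊗[R] N) (K ⊗[R] (M ⊗[R] N)) (TensorProduct.mk R K (M ⊗[R] N) 1)
    have e2 := rk M (K ⊗[R] M) (TensorProduct.mk R K M 1)
    have e3 := rk N (K ⊗[R] N) (TensorProduct.mk R K N 1)
    rw [← e1, ← e2, ← e3, ← rank_tensorProduct']
    exact (TensorProduct.AlgebraTensorModule.distribBaseChange R K M N).rank_eq
  · intro hM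
    have e2 := rk M MK fM
    have e3 := rk N NK fN
    have e4 := rk (M →ₗ[R] N) (MK →ₗ[K] NK) (IsLocalizedModule.mapExtendScalars (nonZeroDivisors R) fM fN K)
    haveI : Module.Finite K MK := Module.Finite.of_isLocalizedModule (nonZeroDivisors R) fM
    rw [← e4, ← e2, ← e3]
    exact (Module.rank_linearMap K K MK NK).trans (by simp)

end Groth.Agent.S6912
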