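import Groth.Statements.S6913
import Mathlib
-- import your own Groth.Agent.* helpers here

set_option autoImplicit false
universe u
open CAlg

namespace Groth.Agent.S6913

/-- Let `R` be a domain and `M` a finite `R`-module, of (finite) rank `r`. Then: some linear map `M →
R^r` has torsion kernel and torsion cokernel; some nonzero `f ∈ R` makes `M_f` free of rank `r` over
`R_f`; and some injective linear map `R^r → M` has torsion cokernel. -/
theorem result (R : Type u) [CommRing R] [IsDomain R] (M : Type u) [AddCommGroup M]
    [Module R M] [Module.Finite R M] :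
    (∃ h : M →ₗ[R] (Fin (Module.finrank R M) → R),
      (∀ x : M, h x = 0 → ∃ c : R, c ≠ 0 ∧ c • x = 0) ∧
      (∀ y : Fin (Module.finrank R M) → R, ∃ c : R, c ≠ 0 ∧ c • y ∈ LinearMap.range h)) ∧
    (∃ f : R, f ≠ 0 ∧ Module.Free (Localization.Away f) (LocalizedModule (Submonoid.powers f) M) ∧
      Module.finrank (Localization.Away f) (LocalizedModule (Submonoid.powers f) M) = Module.finrank R M) ∧
    (∃ g : (Fin (Module.finrank R M) → R) →ₗ[R] M, Function.Injective g ∧
      ∀ x : M, ∃ c : R, c ≠ 0 ∧ c • x ∈ LinearMap.range g) := by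
  classical
  set r := Module.finrank R M
  obtain ⟨v, hv⟩ := exists_linearIndependent_of_le_finrank (le_refl r)
  let g : (Fin r → R) →ₗ[R] M := Fintype.linearCombination R v
  have hgi : Function.Injective g := hv.fintypeLinearCombination_injective
  have htor : ∀ x : M, ∃ c : R, c ≠ 0 ∧ c • x ∈ LinearMap.range g := by
    intro x
    have hnot : ¬ LinearIndependent R (Option.elim' x v) := fun h => by
      have := h.fintype_card_le_finrank
      simp [r] at this
    obtain ⟨a, ha, i, hi⟩ := Fintype.not_linearIndependent_iff.1 hnot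
    rw [Fintype.sum_option] at ha
    refine ⟨a none, fun h0 => ?_, ⟨fun j => - a (some j), ?_⟩⟩
    · rw [h0, zero_smul, zero_add] at ha
      have := Fintype.linearIndependent_iff.1 hv (fun j => a (some j)) ha
      cases i with
      | none => exact hi h0
      | some j => exact hi (this j)
    · simp only [g, Fintype.linearCombination_apply, neg_smul, Finset.sum_neg_distrib]
      exact (eq_neg_of_add_eq_zero_left ha).symm
  obtain ⟨t, ht⟩ := Module.Finite.fg_top (R := R) (M := M)
  choose c hc0 hc using htor
  let C : R := ∏ x ∈ t, c x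
  have hC : C ≠ 0 := Finset.prod_ne_zero_iff.2 fun x _ => hc0 x
  have hCm : ∀ x : M, C • x ∈ LinearMap.range g := by
    intro x
    have hx : x ∈ (LinearMap.range g).comap (C • LinearMap.id : M →ₗ[R] M) := by
      refine (ht ▸ Submodule.span_le.2 ?_ : (⊤ : Submodule R M) ≤ _) trivial
      intro y hy
      obtain ⟨q, hq⟩ := Finset.dvd_prod_of_mem c (Finset.mem_coe.1 hy)
      show C • y ∈ LinearMap.range g
      rw [show C = q * c y from hq.trans (mul_comm _ _), mul_smul]
      exact Submodule.smul_mem _ _ (hc y)
    simpa using hx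
  let e := LinearEquiv.ofInjective g hgi
  let h : M →ₗ[R] (Fin r → R) := e.symm.toLinearMap ∘ₗ
    (C • LinearMap.id : M →ₗ[R] M).codRestrict (LinearMap.range g) (fun x => by simpa using hCm x)
  have hgh : ∀ x : M, g (h x) = C • x := fun x => by
    rw [← LinearEquiv.ofInjective_apply (h := hgi)]
    simp [h, e]
  refine ⟨⟨h, fun x hx => ⟨C, hC, by rw [← hgh, hx, map_zero]⟩, fun y => ⟨C, hC, g y, hgi ?_⟩⟩, ⟨C, hC, ?_⟩,
    ⟨g, hgi, fun x => ⟨c x, hc0 x, hc x⟩⟩⟩
  · rw [hgh, map_smul]
  · let S := Submonoid.powers C
    let f0 := LocalizedModule.mkLinearMap S (Fin r → R)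
    let f1 := LocalizedModule.mkLinearMap S M
    let gS := IsLocalizedModule.map S f0 f1 g
    have hbij : Function.Bijective gS := by
      refine ⟨IsLocalizedModule.map_injective S f0 f1 g hgi, fun z => ?_⟩
      obtain ⟨⟨m, s⟩, rfl⟩ := IsLocalizedModule.mk'_surjective S f1 z
      obtain ⟨y, hy⟩ := hCm m
      refine ⟨IsLocalizedModule.mk' f0 y (⟨C, Submonoid.mem_powers C⟩ * s), ?_⟩
      simp only [gS, IsLocalizedModule.map_mk', hy, Function.uncurry_apply_pair]
      exact IsLocalizedModule.mk'_cancel_left f1 m (⟨C, Submonoid.mem_powers C⟩ : S) s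
    have : Nontrivial (Localization.Away C) := Function.Injective.nontrivial
      (IsLocalization.injective (Localization.Away C) (powers_le_nonZeroDivisors_of_noZeroDivisors hC))
    let E : LocalizedModule S (Fin r → R) ≃ₗ[Localization.Away C] LocalizedModule S M :=
      LinearEquiv.ofBijective (LinearMap.extendScalarsOfIsLocalization S (Localization.Away C) gS) hbij
    have hfree : Module.Free (Localization.Away C) (LocalizedModule S (Fin r → R)) :=
      Module.free_of_isLocalizedModule S f0
    exact ⟨Module.Free.of_equiv E, by rw [← E.finrank_eq,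
      Module.finrank_of_isLocalizedModule_of_free (Localization.Away C) S f0, Module.finrank_fin_fun]⟩

end Groth.Agent.S6913
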