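import Groth.Statements.S6914
import Groth.Agent.Lib.Fitting.Transform
-- import your own Groth.Agent.* helpers here

set_option autoImplicit false
universe u
open TensorProduct
open Fitt

namespace Groth.Agent.S6914

/-- Let `M` be a finite `R`-module, `k ≥ 0`, `I = Fit_k(M)` and `a ∈ I`; let `R₁ ≅ R[I/a]` be (a copy
of) the affine blow-up algebra and `M' = (M ⊗_R R₁)/(a-power torsion)` the strict transform. Then
`Fit_k(M') = R₁`. -/
theorem result {R : Type u} [CommRing R] (M : Type u) [AddCommGroup M] [Module R M]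
    [Module.Finite R M] (k : ℕ) (a : R) (ha : a ∈ Fitt.ideal R M k)
    (R₁ : Type u) [CommRing R₁] [Algebra R R₁] (e : R₁ ≃ₐ[R] ↥(BlowUp.affineAlgebra R (Fitt.ideal R M k) a)) :
    Fitt.ideal R₁ ((R₁ ⊗[R] M) ⧸ FlatCA.powTorsion R₁ (algebraMap R R₁ a) (R₁ ⊗[R] M)) k = ⊤ := by
  refine GrothLib.Fitting.ideal_transform_eq_top k (algebraMap R R₁ a) 1
    (GrothLib.Fitting.blowUp_algebraMap_mem_nonZeroDivisors e) ?_
  rw [Ideal.span_singleton_one, Ideal.top_mul, GrothLib.Fitting.ideal_baseChange,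
    GrothLib.Fitting.blowUp_map_eq_span ha e]

end Groth.Agent.S6914
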