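import Groth.Statements.S6915
import Groth.Agent.Lib.Fitting.Transform
-- import your own Groth.Agent.* helpers here

set_option autoImplicit false
universe u
open TensorProduct
open Fitt

namespace Groth.Agent.S6915

/-- Let `M` be a finite `R`-module, `k ≥ 0` and `I = Fit_k(M)`, and assume `M_𝔭` is free of rank `k` for
every prime `𝔭` not containing `I`. Then for every `a ∈ I` and (a copy `R₁` of) the affine blow-up
algebra `R[I/a]`, the strict transform `M' = (M ⊗_R R₁)/(a-power torsion)` is finite locally free of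
rank `k`: every prime of `R₁` has a basic open neighbourhood over which `M'` is free of rank `k`. -/
theorem result {R : Type u} [CommRing R] (M : Type u) [AddCommGroup M]
    [Module R M] [Module.Finite R M] (k : ℕ)
    (hfree : ∀ (p : Ideal R) [p.IsPrime], ¬ Fitt.ideal R M k ≤ p →
      Module.Free (Localization.AtPrime p) (LocalizedModule p.primeCompl M) ∧
        Module.finrank (Localization.AtPrime p) (LocalizedModule p.primeCompl M) = k)
    (a : R) (ha : a ∈ Fitt.ideal R M k) (R₁ : Type u) [CommRing R₁] [Algebra R R₁] (e : R₁ ≃ₐ[R] ↥(BlowUp.affineAlgebra R (Fitt.ideal R M k) a)) :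
    ∀ (p' : Ideal R₁) [p'.IsPrime], ∃ g : R₁, g ∉ p' ∧
      Module.Free (Localization.Away g) (LocalizedModule (Submonoid.powers g) ((R₁ ⊗[R] M) ⧸ FlatCA.powTorsion R₁ (algebraMap R R₁ a) (R₁ ⊗[R] M))) ∧
      Module.finrank (Localization.Away g) (LocalizedModule (Submonoid.powers g) ((R₁ ⊗[R] M) ⧸ FlatCA.powTorsion R₁ (algebraMap R R₁ a) (R₁ ⊗[R] M))) = k := by
  intro p' hp'
  have ha₁ := GrothLib.Fitting.blowUp_algebraMap_mem_nonZeroDivisors e
  refine GrothLib.Fitting.free_near_of_ideal_eq k (fun j hj => ?_) ?_ p'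
  · refine GrothLib.Fitting.ideal_transform_eq_bot j _ ha₁ ?_
    rw [GrothLib.Fitting.ideal_baseChange]
    exact GrothLib.Fitting.map_ideal_eq_bot_of_free k j hj a (fun p _ hap => hfree p fun hle => hap (hle ha)) R₁ ha₁
  · refine GrothLib.Fitting.ideal_transform_eq_top k (algebraMap R R₁ a) 1 ha₁ ?_
    rw [Ideal.span_singleton_one, Ideal.top_mul, GrothLib.Fitting.ideal_baseChange,
      GrothLib.Fitting.blowUp_map_eq_span ha e]

end Groth.Agent.S6915
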