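import Groth.Statements.S6917
import Groth.Agent.Lib.Milnor.Basic
import Groth.Agent.Lib.Misc6.AffinePushout
import Mathlib.Topology.Category.TopCat.Limits.Basic
-- import your own Groth.Agent.* helpers here

set_option autoImplicit false
universe u
open CategoryTheory
open EtAlg

namespace Groth.Agent.S6917

section
open PrimeSpectrum

variable {B' B A' A : Type u} [CommRing B'] [CommRing B] [CommRing A'] [CommRing A]
    [Algebra B' B] [Algebra B' A'] [Algebra B A] [Algebra A' A] [Algebra B' A] [IsScalarTower B' B A] [IsScalarTower B' A' A]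

theorem comap_square (r : PrimeSpectrum A) :
    comap (algebraMap B' B) (comap (algebraMap B A) r) = comap (algebraMap B' A') (comap (algebraMap A' A) r) := by
  rw [← comap_comp_apply, ← comap_comp_apply, ← IsScalarTower.algebraMap_eq, ← IsScalarTower.algebraMap_eq]

theorem range_f (hsq : EtMil.IsFibreSquare B' B A' A) (x : PrimeSpectrum B') :
    x ∈ Set.range (comap (algebraMap B' B)) ↔ RingHom.ker (algebraMap B' B) ≤ x.asIdeal := by
  rw [range_comap_of_surjective _ _ (Milnor.sq_of_isFibreSquare hsq).surjL]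
  rfl

theorem jointly_surjective (hsq : EtMil.IsFibreSquare B' B A' A) (x : PrimeSpectrum B') :
    x ∈ Set.range (comap (algebraMap B' B)) ∨ x ∈ Set.range (comap (algebraMap B' A')) := by
  refine (GrothLib.Misc6.FibreSquare.jointPair (q := algebraMap B A) (p := algebraMap A' A)
    ⟨?_, fun y h1 h2 => ?_, fun b a hba => ?_, hsq.1⟩).surj x
  · rw [← IsScalarTower.algebraMap_eq, ← IsScalarTower.algebraMap_eq]
  · exact Milnor.eq_of_pair hsq (by rw [h1, map_zero]) (by rw [h2, map_zero])
  · exact (hsq.2 b a hba).exists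

/-- Off the closed part, membership in a prime of `A'` is detected in `B'`. -/
theorem exists_detect (hsq : EtMil.IsFibreSquare B' B A' A) {x : PrimeSpectrum B'}
    (hx : x ∉ Set.range (comap (algebraMap B' B))) :
    ∃ (j : B') (μ : A' → B'), (∀ a, algebraMap B' A' (μ a) = algebraMap B' A' j * a) ∧
      ∀ p : PrimeSpectrum A', comap (algebraMap B' A') p = x → ∀ a, (a ∈ p.asIdeal ↔ μ a ∈ x.asIdeal) := by
  rw [range_f hsq] at hx
  obtain ⟨j, hj, hjx⟩ := SetLike.not_le_iff_exists.mp hx
  obtain ⟨μ, -, h2, -⟩ := Milnor.exists_mulMap hsq (j := j) hj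
  refine ⟨j, μ, h2, fun p hp a => ?_⟩
  subst hp
  show _ ↔ algebraMap B' A' (μ a) ∈ p.asIdeal
  rw [h2]
  exact ⟨fun h => p.asIdeal.mul_mem_left _ h, fun h => (p.isPrime.mem_or_mem h).resolve_left hjx⟩

theorem mem_range_c_of_mem (hsq : EtMil.IsFibreSquare B' B A' A) {p : PrimeSpectrum A'}
    (hx : comap (algebraMap B' A') p ∈ Set.range (comap (algebraMap B' B))) :
    p ∈ Set.range (comap (algebraMap A' A)) := by
  rw [range_f hsq] at hx
  rw [range_comap_of_surjective _ _ hsq.1]
  intro i hi
  obtain ⟨j, hj, rfl⟩ := (Milnor.sq_of_isFibreSquare hsq).lift i hi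
  exact hx hj

variable {Z : Type u} [TopologicalSpace Z]

theorem existsUnique_desc (hsq : EtMil.IsFibreSquare B' B A' A) (φ : C(PrimeSpectrum B, Z)) (ψ : C(PrimeSpectrum A', Z))
    (hw : ∀ r : PrimeSpectrum A, φ (comap (algebraMap B A) r) = ψ (comap (algebraMap A' A) r)) :
    ∃! h : C(PrimeSpectrum B', Z), (∀ q, h (comap (algebraMap B' B) q) = φ q) ∧
      ∀ p, h (comap (algebraMap B' A') p) = ψ p := by
  classical
  have hfinj := comap_injective_of_surjective _ (Milnor.sq_of_isFibreSquare hsq).surjL
  have hxg := fun x => jointly_surjective hsq x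
  let h₀ : PrimeSpectrum B' → Z := fun x =>
    if hx : x ∈ Set.range (comap (algebraMap B' B)) then φ hx.choose
    else ψ ((hxg x).resolve_left hx).choose
  have hf : ∀ q, h₀ (comap (algebraMap B' B) q) = φ q := fun q => by
    simp only [h₀, dif_pos (Set.mem_range_self q)]
    exact congrArg φ (hfinj (Set.mem_range_self q : comap (algebraMap B' B) q ∈ Set.range _).choose_spec)
  have hg : ∀ p, h₀ (comap (algebraMap B' A') p) = ψ p := fun p => by
    by_cases hx : comap (algebraMap B' A') p ∈ Set.range (comap (algebraMap B' B))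
    · obtain ⟨r, rfl⟩ := mem_range_c_of_mem hsq hx
      rw [← comap_square (B := B), hf, hw]
    · simp only [h₀, dif_neg hx]
      have hsp := ((hxg _).resolve_left hx).choose_spec
      obtain ⟨j, μ, -, hd⟩ := exists_detect hsq hx
      refine congrArg ψ (PrimeSpectrum.ext (Ideal.ext fun a => ?_))
      rw [hd _ hsp, hd _ rfl]
  have hc : Continuous h₀ := by
    rw [continuous_iff_isClosed]
    intro C hC
    have hF : IsClosed (comap (algebraMap B' B) '' (φ ⁻¹' C)) :=
      (isClosedEmbedding_comap_of_surjective _ _ (Milnor.sq_of_isFibreSquare hsq).surjL).isClosedMap _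
        (hC.preimage φ.continuous)
    have hFD : comap (algebraMap B' B) '' (φ ⁻¹' C) ⊆ h₀ ⁻¹' C := by
      rintro _ ⟨q, hq, rfl⟩
      show h₀ _ ∈ C
      rw [hf]; exact hq
    obtain ⟨K, hK⟩ := (isClosed_iff_zeroLocus_ideal _).mp (hC.preimage ψ.continuous)
    suffices h₀ ⁻¹' C = comap (algebraMap B' B) '' (φ ⁻¹' C) ∪ zeroLocus (K.comap (algebraMap B' A') : Set B') by
      rw [this]; exact hF.union (isClosed_zeroLocus _)
    refine subset_antisymm (fun x hx => ?_) (Set.union_subset hFD fun x hx => ?_)
    · rcases hxg x with ⟨q, rfl⟩ | ⟨p, rfl⟩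
      · exact Or.inl ⟨q, by rw [Set.mem_preimage, hf] at hx; exact hx, rfl⟩
      · refine Or.inr ?_
        rw [Set.mem_preimage, hg] at hx
        have : p ∈ zeroLocus (K : Set A') := hK ▸ hx
        exact fun b hb => this hb
    · by_cases hxf : x ∈ Set.range (comap (algebraMap B' B))
      · refine hFD ?_
        have h1 : (K ⊔ RingHom.ker (algebraMap A' A)).comap (algebraMap B' A') ≤ x.asIdeal := by
          intro b hb
          rw [Ideal.mem_comap, Submodule.mem_sup] at hb
          obtain ⟨k, hk, i, hi, hki⟩ := hb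
          obtain ⟨j, hj, hji⟩ := (Milnor.sq_of_isFibreSquare hsq).lift i hi
          have h2 : b - j ∈ K.comap (algebraMap B' A') := by
            rw [Ideal.mem_comap, map_sub, hji, ← hki, add_sub_cancel_right]; exact hk
          rw [← sub_add_cancel b j]
          exact add_mem (hx h2) ((range_f hsq x).mp hxf hj)
        have h3 : x ∈ closure (comap (algebraMap B' A') '' zeroLocus ((K ⊔ RingHom.ker (algebraMap A' A) : Ideal A') : Set A')) := by
          rw [closure_image_comap_zeroLocus]
          exact h1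
        refine hF.closure_subset_iff.mpr ?_ h3
        rintro _ ⟨p, hp, rfl⟩
        have hp1 : p ∈ Set.range (comap (algebraMap A' A)) := by
          rw [range_comap_of_surjective _ _ hsq.1]
          exact fun i hi => hp (Submodule.mem_sup_right hi)
        obtain ⟨r, rfl⟩ := hp1
        refine ⟨comap (algebraMap B A) r, ?_, comap_square r⟩
        rw [Set.mem_preimage, hw]
        show comap (algebraMap A' A) r ∈ ψ ⁻¹' C
        rw [hK]
        exact fun k hk => hp (Submodule.mem_sup_left hk)
      · obtain ⟨p, rfl⟩ := (hxg x).resolve_left hxf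
        rw [Set.mem_preimage, hg]
        show p ∈ ψ ⁻¹' C
        rw [hK]
        obtain ⟨j, μ, h2, hd⟩ := exists_detect hsq hxf
        intro a ha
        refine (hd p rfl a).mpr (hx ?_)
        show algebraMap B' A' (μ a) ∈ K
        rw [h2]; exact K.mul_mem_left _ ha
  refine ⟨⟨h₀, hc⟩, ⟨hf, hg⟩, fun h ⟨h1, h2⟩ => ContinuousMap.ext fun x => ?_⟩
  rcases hxg x with ⟨q, rfl⟩ | ⟨p, rfl⟩
  · exact (h1 q).trans (hf q).symm
  · exact (h2 p).trans (hg p).symm

end

/-- Let `B' = B ×_A A'` be a fibre square of rings with `A' → A` surjective. Then `Spec(B') = Spec(B)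
⨿_{Spec(A)} Spec(A')`: the square of prime spectra is a pushout of topological spaces. -/
theorem result (B' B A' A : Type u) [CommRing B'] [CommRing B] [CommRing A'] [CommRing A]
    [Algebra B' B] [Algebra B' A'] [Algebra B A] [Algebra A' A] [Algebra B' A] [IsScalarTower B' B A] [IsScalarTower B' A' A]
    (hsq : EtMil.IsFibreSquare B' B A' A) :
    IsPushout (TopCat.ofHom (ContinuousMap.mk (PrimeSpectrum.comap (algebraMap B A)) (PrimeSpectrum.continuous_comap _))) (TopCat.ofHom (ContinuousMap.mk (PrimeSpectrum.comap (algebraMap A' A)) (PrimeSpectrum.continuous_comap _)))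
      (TopCat.ofHom (ContinuousMap.mk (PrimeSpectrum.comap (algebraMap B' B)) (PrimeSpectrum.continuous_comap _)))
      (TopCat.ofHom (ContinuousMap.mk (PrimeSpectrum.comap (algebraMap B' A')) (PrimeSpectrum.continuous_comap _))) := by
  refine ⟨⟨?_⟩, ⟨Limits.PushoutCocone.isColimitAux' _ fun s => ?_⟩⟩
  · apply TopCat.hom_ext
    apply ContinuousMap.ext
    exact fun r => comap_square r
  · have hex := existsUnique_desc hsq s.inl.hom s.inr.hom
      (fun r => congrArg (fun F => (TopCat.Hom.hom F) r) s.condition)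
    refine ⟨TopCat.ofHom hex.choose, TopCat.hom_ext (ContinuousMap.ext hex.choose_spec.1.1),
      TopCat.hom_ext (ContinuousMap.ext hex.choose_spec.1.2), fun {m} h1 h2 => ?_⟩
    refine TopCat.hom_ext (hex.choose_spec.2 m.hom ⟨fun q => ?_, fun p => ?_⟩)
    · exact congrArg (fun F => (TopCat.Hom.hom F) q) h1
    · exact congrArg (fun F => (TopCat.Hom.hom F) p) h2

end Groth.Agent.S6917
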