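import Groth.Statements.S6918
import Groth.Agent.Lib.FibreFlat.BaseChange
-- import your own Groth.Agent.* helpers here

set_option autoImplicit false
universe u
open FlatMor

namespace Groth.Agent.S6918

/-- Let `R → S` be a ring map, `J ⊆ S` an ideal, `M` an `S`-module, `I ⊆ R` an ideal, `R → R'` a ring
map and `I' ⊇ IR'`; put `S' = S ⊗_R R'`, `M' = M ⊗_R R'`. If `M_𝔮` is flat over `R` for all primes
`𝔮 ⊇ IS + J` of `S`, then `M'_{𝔮'}` is flat over `R'` for all primes `𝔮' ⊇ I'S' + JS'` of `S'`. (The
published statement passes from an arbitrary pair `(R', I')` over `R` to a further pair `(R'',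
I'')`; this row takes the first pair to be `(R, I)`.) -/
theorem result {R S R' S' : Type u} [CommRing R] [CommRing S] [CommRing R'] [CommRing S']
    [Algebra R S] [Algebra R R'] [Algebra S S'] [Algebra R' S'] [Algebra R S'] [IsScalarTower R S S']
    [IsScalarTower R R' S'] [Algebra.IsPushout R S R' S']
    (I : Ideal R) (I' : Ideal R') (hII' : I.map (algebraMap R R') ≤ I')
    {M M' : Type u} [AddCommGroup M] [Module S M] [Module R M] [IsScalarTower R S M]
    [AddCommGroup M'] [Module S' M'] [Module R' M'] [IsScalarTower R' S' M'] [Module S M'] [IsScalarTower S S' M']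
    (f : M →ₗ[S] M') (hf : IsBaseChange S' f) (J : Ideal S)
    (h : (∀ (q : Ideal S) [q.IsPrime], I.map (algebraMap R S) ⊔ J ≤ q → FlatCA.FlatAt R q M)) :
    (∀ (q : Ideal S') [q.IsPrime], I'.map (algebraMap R' S') ⊔ J.map (algebraMap S S') ≤ q → FlatCA.FlatAt R' q M') := by
  intro q' _ hq'
  let q : Ideal S := q'.comap (algebraMap S S')
  haveI : q.IsPrime := Ideal.IsPrime.comap _
  have hq : I.map (algebraMap R S) ⊔ J ≤ q := by
    refine sup_le ?_ (Ideal.map_le_iff_le_comap.mp (le_sup_right.trans hq'))
    rw [← Ideal.map_le_iff_le_comap, Ideal.map_map, ← IsScalarTower.algebraMap_eq R S S',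
      IsScalarTower.algebraMap_eq R R' S', ← Ideal.map_map]
    exact (Ideal.map_mono hII').trans (le_sup_left.trans hq')
  haveI : Module.Flat R (LocalizedModule q.primeCompl M) := h q hq
  letI : Module R M' := Module.compHom M' (algebraMap R S)
  haveI : IsScalarTower R S M' := IsScalarTower.of_compHom R S M'
  haveI : IsScalarTower R R' M' := ⟨fun r r' x => by
    show (r • r') • x = (algebraMap R S r) • (r' • x)
    rw [← algebraMap_smul S' r', ← algebraMap_smul S' (algebraMap R S r), ← algebraMap_smul S' (r • r'),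
      ← IsScalarTower.algebraMap_apply, smul_smul, Algebra.smul_def, map_mul, ← IsScalarTower.algebraMap_apply]⟩
  haveI : Algebra.IsPushout R R' S S' := Algebra.IsPushout.symm ‹_›
  have hg : IsBaseChange R' (f.restrictScalars R) := by
    refine IsBaseChange.of_equiv ((Algebra.IsPushout.cancelBaseChange R R' S S' M).symm.trans
      (hf.equiv.restrictScalars R')) fun x => ?_
    simp [IsBaseChange.equiv_tmul]
  show Module.Flat R' (LocalizedModule q'.primeCompl M')
  rw [Module.Flat.iff_lTensor_injective]
  intro K _
  let φ' : LocalizedModule q'.primeCompl M' →ₗ[S'] _ := LinearMap.id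
  let inc : M' →ₗ[S'] LocalizedModule q'.primeCompl M' := LocalizedModule.mkLinearMap _ _
  have hinc : IsLocalizedModule q'.primeCompl (TensorProduct.AlgebraTensorModule.rTensor R' K inc) := inferInstance
  rw [injective_iff_map_eq_zero]
  intro z hz
  obtain ⟨⟨y, u⟩, hu⟩ := IsLocalizedModule.surj q'.primeCompl (TensorProduct.AlgebraTensorModule.rTensor R' K inc) z
  have hy : (inc.restrictScalars R').rTensor R' (K.subtype.lTensor M' y) = 0 := by
    rw [← LinearMap.comp_apply, LinearMap.rTensor_comp_lTensor, ← LinearMap.lTensor_comp_rTensor, LinearMap.comp_apply]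
    show K.subtype.lTensor _ (TensorProduct.AlgebraTensorModule.rTensor R' K inc y) = 0
    rw [← hu, Submonoid.smul_def, ← TensorProduct.AlgebraTensorModule.coe_lTensor (A := S'),
      LinearMap.map_smul, TensorProduct.AlgebraTensorModule.coe_lTensor, hz, smul_zero]
  obtain ⟨v, hv⟩ := (IsLocalizedModule.eq_zero_iff q'.primeCompl (TensorProduct.AlgebraTensorModule.rTensor R' R' inc)).mp hy
  obtain ⟨θ, hθ, hθt⟩ := GrothLib.FibreFlat.exists_theta hg K
  obtain ⟨θ₀, hθ₀, hθ₀t⟩ := GrothLib.FibreFlat.exists_theta hg R'
  obtain ⟨w, hw⟩ := hθ.2 ((v : S') • y)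
  have hsm : ∀ (s : S) (ν : TensorProduct R M K), θ (s • ν) = (algebraMap S S' s) • θ ν := fun s ν => by
    induction ν using TensorProduct.induction_on with
    | zero => simp
    | add a b ha hb => rw [smul_add, map_add, map_add, smul_add, ha, hb]
    | tmul m k =>
      rw [TensorProduct.smul_tmul', hθt, hθt, TensorProduct.smul_tmul', algebraMap_smul]
      simp
  have hnat : ∀ ν : TensorProduct R M K, θ₀ ((K.subtype.restrictScalars R).lTensor M ν) = K.subtype.lTensor M' (θ ν) := fun ν => by
    induction ν using TensorProduct.induction_on with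
    | zero => simp
    | add a b ha hb => simp only [map_add, ha, hb]
    | tmul m k => simp [hθt, hθ₀t]
  have hw0 : (K.subtype.restrictScalars R).lTensor M w = 0 := hθ₀.1 (by
    rw [map_zero, hnat, hw, ← TensorProduct.AlgebraTensorModule.coe_lTensor (A := S'), LinearMap.map_smul,
      TensorProduct.AlgebraTensorModule.coe_lTensor]
    exact hv)
  let incS : M →ₗ[S] LocalizedModule q.primeCompl M := LocalizedModule.mkLinearMap _ _
  have hw1 : TensorProduct.AlgebraTensorModule.rTensor R K incS w = 0 := by
    refine Module.Flat.lTensor_preserves_injective_linearMap (M := LocalizedModule q.primeCompl M)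
      (K.subtype.restrictScalars R) K.injective_subtype ?_
    rw [map_zero]
    show ((K.subtype.restrictScalars R).lTensor _) (((incS.restrictScalars R).rTensor K) w) = 0
    rw [← LinearMap.comp_apply, LinearMap.lTensor_comp_rTensor, ← LinearMap.rTensor_comp_lTensor, LinearMap.comp_apply,
      hw0, map_zero]
  obtain ⟨s, hs⟩ := (IsLocalizedModule.eq_zero_iff q.primeCompl (TensorProduct.AlgebraTensorModule.rTensor R K incS)).mp hw1
  have hy0 : (algebraMap S S' s * v) • y = 0 := by
    rw [mul_smul, ← hw, ← hsm, show (s : S) • w = 0 from hs, map_zero]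
  have hs' : (algebraMap S S' s) * v ∈ q'.primeCompl := mul_mem (fun hmem => s.2 hmem) v.2
  have hy1 : TensorProduct.AlgebraTensorModule.rTensor R' K inc y = 0 :=
    (IsLocalizedModule.eq_zero_iff q'.primeCompl _).mpr ⟨⟨_, hs'⟩, hy0⟩
  rw [hy1] at hu
  exact (IsLocalizedModule.smul_injective (TensorProduct.AlgebraTensorModule.rTensor R' K inc) u) (hu.trans (smul_zero u).symm)

end Groth.Agent.S6918
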