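import Groth.Statements.S6920
import Mathlib.Algebra.Category.Ring.Epi
import Mathlib.Algebra.Algebra.Epi
import Mathlib.RingTheory.TensorProduct.Basic

set_option autoImplicit false
universe u
open CategoryTheory CategoryTheory.Limits MonoidalCategory
open DRing

namespace Groth.Agent.S6920

/-- For an epimorphism of rings `φ : R → S` and a complex `I•` of `S`-modules, if the underlying complex
of `R`-modules of `I•` is K-injective, then `I•` itself is K-injective over `S`. -/
theorem result (R S : Type u) [CommRing R] [CommRing S] (φ : R →+* S)
    (hφ : Epi (CommRingCat.ofHom φ)) (I : DRing.Cx S)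
    [CochainComplex.IsKInjective ((DRing.restrictCx φ).obj I)] : CochainComplex.IsKInjective I := by
  letI := φ.toAlgebra
  haveI : Algebra.IsEpi R S := CommRingCat.epi_iff_epi.1 hφ
  have hlin : ∀ {M N : ModuleCat.{u} S} (g : (ModuleCat.restrictScalars φ).obj M ⟶ (ModuleCat.restrictScalars φ).obj N)
      (s : S) (m : M), g.hom (s • m : M) = (s • g.hom m : N) := by
    intro M N g s m
    letI : Module R M := Module.compHom M φ
    letI : Module R N := Module.compHom N φ
    haveI : IsScalarTower R S M := ⟨fun r t x => by
      change (φ r * t) • x = φ r • t • x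
      rw [mul_smul]⟩
    haveI : IsScalarTower R S N := ⟨fun r t x => by
      change (φ r * t) • x = φ r • t • x
      rw [mul_smul]⟩
    let g' : M →ₗ[R] N := g.hom
    let B : S →ₗ[R] S →ₗ[R] N :=
      LinearMap.mk₂ R (fun a b => a • g' (b • m))
        (fun a₁ a₂ b => add_smul _ _ _) (fun r a b => smul_assoc _ _ _)
        (fun a b₁ b₂ => by rw [add_smul, map_add, smul_add])
        (fun r a b => by rw [smul_assoc, map_smul, smul_comm])
    have h := congrArg (TensorProduct.lift B) ((Algebra.isEpi_iff_forall_one_tmul_eq R S).1 inferInstance s)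
    simp only [TensorProduct.lift.tmul, B, LinearMap.mk₂_apply, one_smul] at h
    exact h
  refine ⟨fun {K} f hK => ?_⟩
  obtain ⟨H⟩ := CochainComplex.IsKInjective.nonempty_homotopy_zero ((DRing.restrictCx φ).map f)
    (fun i => (hK i).map (ModuleCat.restrictScalars φ))
  refine ⟨{ hom := fun i j => ModuleCat.ofHom
              { toFun := fun x => (H.hom i j).hom x
                map_add' := fun x y => map_add (H.hom i j).hom x y
                map_smul' := fun s x => hlin (H.hom i j) s x },
            zero := fun i j hij => ModuleCat.hom_ext (LinearMap.ext fun x => ?_),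
            comm := fun i => ModuleCat.hom_ext (LinearMap.ext fun x => ?_) }⟩
  · change (H.hom i j).hom x = 0
    rw [H.zero i j hij]
    rfl
  · have h := ConcreteCategory.congr_hom (H.comm i) x
    rw [dNext_eq _ (show (ComplexShape.up ℤ).Rel i (i + 1) from rfl),
      prevD_eq _ (show (ComplexShape.up ℤ).Rel (i - 1) i by simp)] at h ⊢
    exact h

end Groth.Agent.S6920
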