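import Groth.Statements.S6923
import Groth.Agent.Lib.LimProj4.Basic

set_option autoImplicit false
universe u
open Hensel

open scoped Matrix

namespace Groth.Agent.S6923

/-- Let `A = lim A_n` be the limit of an inverse system of rings `(A_n)_{n ≥ 0}` in which each map
`A_{n+1} → A_n` is onto and every element of its kernel is nilpotent. Let `M_n` be `A_n`-modules
with compatible maps `M_{n+1} → M_n` such that `M_0` is finite projective, every `M_n` is finite and
flat over `A_n`, and the maps induce isomorphisms `M_{n+1} ⊗_{A_{n+1}} A_n → M_n` (i.e. are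
surjective with kernel `Ker(A_{n+1} → A_n) M_{n+1}`). Then the inverse limit of the `M_n` is a
finitely generated projective `A`-module whose base change to each `A_n` maps onto `M_n`
isomorphically: there is a finite projective `A`-module `P` with compatible maps `P → M_n`, each
surjective with kernel `Ker(A → A_n) P`, through which `P` maps bijectively onto the compatible
sequences in `∏ M_n`. -/
theorem result (A : Type u) [CommRing A] (An : ℕ → Type u)
    [∀ n, CommRing (An n)] (t : ∀ n, An (n + 1) →+* An n) (π : ∀ n, A →+* An n)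
    (ht : ∀ n, Function.Surjective (t n)) (hnil : ∀ n (x : An (n + 1)), t n x = 0 → IsNilpotent x)
    (hA : FlatCA.IsRingLimit A An t π)
    (M : ℕ → Type u) [∀ n, AddCommGroup (M n)] [∀ n, Module (An n) (M n)] (u : ∀ n, M (n + 1) →ₛₗ[t n] M n)
    [Module.Projective (An 0) (M 0)] (hfin : ∀ n, Module.Finite (An n) (M n)) (hflat : ∀ n, Module.Flat (An n) (M n))
    (hu : ∀ n, Function.Surjective (u n) ∧ LinearMap.ker (u n) = RingHom.ker (t n) • (⊤ : Submodule (An (n + 1)) (M (n + 1)))) :
    ∃ (P : Type u) (_ : AddCommGroup P) (_ : Module A P) (p : ∀ n, P →ₛₗ[π n] M n),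
      Module.Finite A P ∧ Module.Projective A P ∧ (∀ n (x : P), u n (p (n + 1) x) = p n x) ∧
      (∀ n, Function.Surjective (p n) ∧ LinearMap.ker (p n) = RingHom.ker (π n) • (⊤ : Submodule A P)) ∧
      (∀ x : (∀ n, M n), (∀ n, u n (x (n + 1)) = x n) → ∃! q : P, ∀ n, p n q = x n) := by
  classical
  obtain ⟨hcomp, hinj, hlim⟩ := hA
  haveI := hfin 0
  obtain ⟨r, E0, x0, h0⟩ := GrothLib.LimProj4.exists_good_of_projective (R := An 0) (M 0)
  let St : ℕ → Type u := fun n =>
    {Ex : Matrix (Fin r) (Fin r) (An n) × (Fin r → M n) // GrothLib.LimProj4.Good Ex.1 Ex.2}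
  have step : ∀ n (s : St n), ∃ s' : St (n + 1), s'.1.1.map (t n) = s.1.1 ∧ ∀ i, u n (s'.1.2 i) = s.1.2 i := by
    intro n s
    haveI := hfin (n + 1)
    haveI := hflat (n + 1)
    obtain ⟨E, x, h1, h2, h3⟩ := GrothLib.LimProj4.exists_good_lift (t n) (ht n) (hnil n) (u n) (hu n).1 (hu n).2 s.2
    exact ⟨⟨(E, x), h1⟩, h2, h3⟩
  let s : ∀ n, St n := fun n => Nat.rec (motive := St) ⟨(E0, x0), h0⟩ (fun k sk => (step k sk).choose) n
  have hs : ∀ n, (s (n + 1)).1.1.map (t n) = (s n).1.1 ∧ ∀ i, u n ((s (n + 1)).1.2 i) = (s n).1.2 i :=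
    fun n => (step n (s n)).choose_spec
  have hEex : ∀ i j, ∃ e : A, ∀ n, π n e = (s n).1.1 i j := fun i j =>
    hlim _ fun n => congrFun (congrFun (hs n).1 i) j
  choose e he using hEex
  let E : Matrix (Fin r) (Fin r) A := Matrix.of e
  have hEmap : ∀ n, E.map (π n) = (s n).1.1 := fun n => Matrix.ext fun i j => he i j n
  have hE : IsIdempotentElem E := Matrix.ext fun i j => hinj _ _ fun n => by
    have h1 : (π n).mapMatrix (E * E) = (π n).mapMatrix E := by
      rw [map_mul]
      show E.map (π n) * E.map (π n) = E.map (π n)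
      rw [hEmap]
      exact (s n).2.1.eq
    exact congrFun (congrFun h1 i) j
  let P : Submodule A (Fin r → A) := LinearMap.range E.mulVecLin
  have hPfix : ∀ q ∈ P, E *ᵥ q = q := by
    rintro _ ⟨v, rfl⟩
    rw [Matrix.mulVecLin_apply, Matrix.mulVec_mulVec, hE.eq]
  let p : ∀ n, P →ₛₗ[π n] M n := fun n =>
    { toFun := fun q => Fintype.linearCombination (An n) (s n).1.2 (π n ∘ q.1)
      map_add' := fun a b => by rw [← map_add]; exact congrArg _ (funext fun i => map_add (π n) _ _)
      map_smul' := fun c a => by rw [← map_smul]; exact congrArg _ (funext fun i => map_mul (π n) _ _) }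
  have hπE : ∀ n v, π n ∘ (E *ᵥ v) = (s n).1.1 *ᵥ (π n ∘ v) := fun n v => funext fun i => by
    rw [← hEmap]; exact RingHom.map_mulVec (π n) E v i
  have hsurjπ : ∀ n, Function.Surjective (π n) := fun n y => by
    obtain ⟨x, hx, hy⟩ := GrothLib.LimProj4.exists_compatible n An t ht y
    obtain ⟨a, ha⟩ := hlim x hx
    exact ⟨a, (ha n).trans hy⟩
  have hpmk : ∀ n (v : Fin r → A), p n ⟨E *ᵥ v, LinearMap.mem_range_self E.mulVecLin v⟩ =
      Fintype.linearCombination (An n) (s n).1.2 (π n ∘ v) := fun n v => by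
    show Fintype.linearCombination (An n) (s n).1.2 (π n ∘ (E *ᵥ v)) = _
    rw [hπE]; exact ((s n).2.2.2 _).1.symm
  refine ⟨P, inferInstance, inferInstance, p, inferInstance, ?_, fun n q => ?_, fun n => ⟨fun m => ?_, ?_⟩,
    fun x hx => ?_⟩
  · exact Module.Projective.of_split P.subtype E.mulVecLin.rangeRestrict
      (LinearMap.ext fun q => Subtype.ext (hPfix q.1 q.2))
  · show u n (Fintype.linearCombination (An (n + 1)) (s (n + 1)).1.2 (π (n + 1) ∘ q.1)) = _
    show _ = Fintype.linearCombination (An n) (s n).1.2 (π n ∘ q.1)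
    simp only [Fintype.linearCombination_apply, map_sum, map_smulₛₗ, (hs n).2, Function.comp_apply]
    exact Finset.sum_congr rfl fun i _ => congrArg (· • _) (RingHom.congr_fun (hcomp n) _)
  · obtain ⟨v, hv⟩ := (s n).2.2.1 m
    choose w hw using fun i => hsurjπ n (v i)
    exact ⟨⟨E *ᵥ w, LinearMap.mem_range_self E.mulVecLin w⟩, by rw [hpmk, ← hv]; exact congrArg _ (funext hw)⟩
  · refine le_antisymm (fun q hq => ?_) (Submodule.smul_le.2 fun a ha q _ => ?_)
    · have h2 : π n ∘ q.1 = 0 := by
        have h1 := ((s n).2.2.2 (π n ∘ q.1)).2 hq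
        rwa [← hπE, hPfix q.1 q.2] at h1
      have hsum : q = ∑ i, q.1 i • (⟨E *ᵥ Pi.single i 1, LinearMap.mem_range_self E.mulVecLin _⟩ : P) := by
        refine Subtype.ext ?_
        rw [Submodule.coe_sum]
        conv_lhs => rw [← hPfix q.1 q.2, pi_eq_sum_univ' q.1, Matrix.mulVec_sum]
        simp [Matrix.mulVec_smul]
      rw [hsum]
      exact Submodule.sum_mem _ fun i _ =>
        Submodule.smul_mem_smul (RingHom.mem_ker.2 (congrFun h2 i)) Submodule.mem_top
    · rw [LinearMap.mem_ker, map_smulₛₗ, RingHom.mem_ker.1 ha, zero_smul]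
  · have hv : ∀ n, ∃ v, Fintype.linearCombination (An n) (s n).1.2 v = x n := fun n => (s n).2.2.1 _
    choose v hv using hv
    let w : ∀ n, Fin r → An n := fun n => (s n).1.1 *ᵥ v n
    have hw : ∀ n, Fintype.linearCombination (An n) (s n).1.2 (w n) = x n := fun n =>
      ((s n).2.2.2 _).1.symm.trans (hv n)
    have hwc : ∀ n, t n ∘ w (n + 1) = w n := fun n => by
      have h1 : t n ∘ w (n + 1) = (s n).1.1 *ᵥ (t n ∘ v (n + 1)) := funext fun i => by
        rw [← (hs n).1]; exact RingHom.map_mulVec (t n) _ _ i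
      have h2 : Fintype.linearCombination (An n) (s n).1.2 (t n ∘ v (n + 1) - v n) = 0 := by
        rw [map_sub, hv n, sub_eq_zero, ← hx n, ← hv (n + 1)]
        simp [Fintype.linearCombination_apply, (hs n).2]
      have h3 := ((s n).2.2.2 _).2 h2
      rw [Matrix.mulVec_sub, sub_eq_zero] at h3
      exact h1.trans h3
    choose q hq using fun i => hlim (fun n => w n i) fun n => congrFun (hwc n) i
    refine ⟨⟨E *ᵥ q, LinearMap.mem_range_self E.mulVecLin q⟩, fun n => ?_, fun q' hq' => ?_⟩
    · rw [hpmk, ← hw n]; exact congrArg _ (funext fun i => hq i n)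
    · refine Subtype.ext (funext fun i => hinj _ _ fun n => ?_)
      have h4 : Fintype.linearCombination (An n) (s n).1.2 (π n ∘ q'.1 - π n ∘ q) = 0 := by
        rw [map_sub, sub_eq_zero]
        exact (hq' n).trans ((hw n).symm.trans (congrArg _ (funext fun i => (hq i n).symm)))
      have h5 := ((s n).2.2.2 _).2 h4
      rw [Matrix.mulVec_sub, sub_eq_zero, ← hπE, ← hπE, hPfix q'.1 q'.2] at h5
      exact congrFun h5 i

end Groth.Agent.S6923
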