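import Groth.Statements.S6924
import Groth.Agent.Lib.Fitting.Flatify
-- import your own Groth.Agent.* helpers here

set_option autoImplicit false
universe u
open TensorProduct
open Fitt

namespace Groth.Agent.S6924

/-- Let `M` be a finite `R`-module and `f ∈ R` such that every prime of `D(f)` has a basic open
neighbourhood `D(g) ⊆ D(f)` with `M_g` free of rank `r` (in other words `M_f` is, locally on `D(f)`,
free of rank `r`). Then there is a finitely generated ideal `I ⊆ R` with `V(I) = V(f)` such that for
every `a ∈ I` and (a copy `R₁` of) the affine blow-up algebra `R[I/a]`, the strict transform `(M ⊗_R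
R₁)/(a-power torsion)` is finite locally free of rank `r` over `R₁`. -/
theorem result {R : Type u} [CommRing R] (M : Type u) [AddCommGroup M]
    [Module R M] [Module.Finite R M] (f : R) (r : ℕ)
    (hf : ∀ (p : Ideal R) [p.IsPrime], f ∉ p → ∃ g : R, g ∉ p ∧ g ∈ (Ideal.span {f}).radical ∧
      Module.Free (Localization.Away g) (LocalizedModule (Submonoid.powers g) M) ∧
        Module.finrank (Localization.Away g) (LocalizedModule (Submonoid.powers g) M) = r) :
    ∃ I : Ideal R, I.FG ∧ I.radical = (Ideal.span {f}).radical ∧ ∀ a ∈ I, ∀ (R₁ : Type u) [CommRing R₁] [Algebra R R₁] (e : R₁ ≃ₐ[R] ↥(BlowUp.affineAlgebra R I a)),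
      ∀ (p' : Ideal R₁) [p'.IsPrime], ∃ g : R₁, g ∉ p' ∧
        Module.Free (Localization.Away g) (LocalizedModule (Submonoid.powers g) ((R₁ ⊗[R] M) ⧸ FlatCA.powTorsion R₁ (algebraMap R R₁ a) (R₁ ⊗[R] M))) ∧
        Module.finrank (Localization.Away g) (LocalizedModule (Submonoid.powers g) ((R₁ ⊗[R] M) ⧸ FlatCA.powTorsion R₁ (algebraMap R R₁ a) (R₁ ⊗[R] M))) = r := by
  exact GrothLib.Fitting.exists_ideal_blowup_locallyFree M f r hf

end Groth.Agent.S6924
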