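import Groth.Statements.S6927
import Groth.Agent.S6926
import Groth.Agent.Lib.Flattening.Approx
-- import your own Groth.Agent.* helpers here

set_option autoImplicit false
universe u
open TensorProduct
open FlatMor

namespace Groth.Agent.S6927

/-- Let `(R, 𝔪)` be a complete Noetherian local ring, `R → S` of finite type, `M` a finite `S`-module,
and `I ⊆ 𝔪` the least ideal for which, at every prime `𝔮` of `S` lying over `𝔪`, the localization
`(M/IM)_𝔮` is an `R/I`-flat module. Then for every local homomorphism `φ : R → R'` of local rings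
(`R'` arbitrary), with `S' = S ⊗_R R'` and `M' = M ⊗_R R'`: `M'_{𝔮'}` is flat over `R'` for every
prime `𝔮'` of `S'` over `𝔪'` if and only if `φ(I) = 0`. -/
theorem result {R S R' S' : Type u} [CommRing R] [IsLocalRing R]
    [IsNoetherianRing R] [IsAdicComplete (IsLocalRing.maximalIdeal R) R] [CommRing S]
    [CommRing R'] [IsLocalRing R'] [CommRing S']
    [Algebra R S] [Algebra.FiniteType R S] [Algebra R R'] [IsLocalHom (algebraMap R R')] [Algebra S S'] [Algebra R' S']
    [Algebra R S'] [IsScalarTower R S S'] [IsScalarTower R R' S'] [Algebra.IsPushout R S R' S']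
    {M M' : Type u} [AddCommGroup M] [Module S M] [Module R M] [IsScalarTower R S M] [Module.Finite S M]
    [AddCommGroup M'] [Module S' M'] [Module R' M'] [IsScalarTower R' S' M'] [Module S M'] [IsScalarTower S S' M']
    (f : M →ₗ[S] M') (hf : IsBaseChange S' f) (I : Ideal R) (hIm : I ≤ IsLocalRing.maximalIdeal R)
    (hI : (∀ (q : Ideal S) [q.IsPrime], q.comap (algebraMap R S) = IsLocalRing.maximalIdeal R →
        Module.Flat (R ⧸ I) ((R ⧸ I) ⊗[R] LocalizedModule q.primeCompl M)))
    (hmin : ∀ J : Ideal R, (∀ (q : Ideal S) [q.IsPrime], q.comap (algebraMap R S) = IsLocalRing.maximalIdeal R →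
        Module.Flat (R ⧸ J) ((R ⧸ J) ⊗[R] LocalizedModule q.primeCompl M)) → I ≤ J) :
    (∀ (q' : Ideal S') [q'.IsPrime], q'.comap (algebraMap R' S') = IsLocalRing.maximalIdeal R' → FlatCA.FlatAt R' q' M') ↔
      I ≤ RingHom.ker (algebraMap R R') := by
  classical
  haveI : IsNoetherianRing S := Algebra.FiniteType.isNoetherianRing R S
  refine ⟨fun h => ?_, fun hker q' _ hq' => ?_⟩
  · have hR' : ∀ (q' : Ideal S') [q'.IsPrime], q'.comap (algebraMap R' S') = IsLocalRing.maximalIdeal R' →
        Module.Flat R' (LocalizedModule q'.primeCompl (S' ⊗[S] M)) := fun q' _ hq' => by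
      haveI : Module.Flat R' (LocalizedModule q'.primeCompl M') := h q' hq'
      let e : (S' ⊗[S] M) ≃ₗ[S'] M' := hf.equiv
      exact GrothLib.FlatLimit.flat_localized_congr (R := R') q'.primeCompl e.symm
    obtain ⟨GT, _, _, _, _, _, htower, hloc, hloc', hinj, hmem, htrans⟩ :=
      GrothLib.Flattening.exists_family (R := R) (R' := R')
    haveI := htower
    haveI := hloc'
    obtain ⟨T, hT⟩ := GrothLib.Flattening.exists_stage_flat_fibre (R := R) (R' := R') (S := S) (S' := S') M
      GT hinj hmem htrans hR'
    haveI : IsLocalHom (algebraMap R (GT T)) := hloc T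
    letI : Algebra S ((GT T) ⊗[R] S) := Algebra.TensorProduct.rightAlgebra
    haveI : Algebra.IsPushout R S (GT T) ((GT T) ⊗[R] S) := Algebra.IsPushout.symm inferInstance
    have hI' := (Groth.Agent.S6926.result (R := R) (S := S) (R' := (GT T)) (S' := (GT T) ⊗[R] S)
      (TensorProduct.mk S ((GT T) ⊗[R] S) M 1) (TensorProduct.isBaseChange S M ((GT T) ⊗[R] S)) I hIm hI hmin).1
      (fun Q _ hQ => hT Q hQ)
    intro x hx
    rw [RingHom.mem_ker, IsScalarTower.algebraMap_apply R (GT T) R', RingHom.mem_ker.mp (hI' hx), map_zero]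
  · have hmm : (IsLocalRing.maximalIdeal R').comap (algebraMap R R') = IsLocalRing.maximalIdeal R :=
      Ideal.ext fun x => by simp
    let q := q'.comap (algebraMap S S')
    have hq : q.comap (algebraMap R S) = IsLocalRing.maximalIdeal R := by
      rw [Ideal.comap_comap, ← IsScalarTower.algebraMap_eq R S S', IsScalarTower.algebraMap_eq R R' S',
        ← Ideal.comap_comap, hq', hmm]
    letI : Algebra (R ⧸ I) R' := (Ideal.Quotient.lift I (algebraMap R R') hker).toAlgebra
    haveI : IsScalarTower R (R ⧸ I) R' := IsScalarTower.of_algebraMap_eq fun _ => rfl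
    haveI := hI q hq
    exact GrothLib.Flattening.flatAt_of_flat_baseChange f hf q'
      ((GrothLib.Flattening.flat_cancel (A := R) (B := R ⧸ I) (C := R') _).1 inferInstance)

end Groth.Agent.S6927
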