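import Groth.Statements.S6929
import Mathlib.RingTheory.Adjoin.Tower
import Mathlib.RingTheory.Adjoin.FG

set_option autoImplicit false
universe u
open EtAlg

namespace Groth.Agent.S6929

theorem pi_fg (R : Type u) [CommRing R] {ι : Type u} [Fintype ι] (A : ι → Type u) [∀ i, CommRing (A i)]
    [∀ i, Algebra R (A i)] [∀ i, Algebra.FiniteType R (A i)] : (⊤ : Subalgebra R (∀ i, A i)).FG := by
  classical
  choose s hs using fun i => (Algebra.FiniteType.out : (⊤ : Subalgebra R (A i)).FG)
  let T : Finset (∀ i, A i) := Finset.univ.biUnion fun i => insert (Pi.single i (1 : A i)) ((s i).image fun g => Pi.single i g)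
  refine ⟨T, eq_top_iff.2 fun x _ => ?_⟩
  have key : ∀ i (a : A i), Pi.single i a ∈ Algebra.adjoin R (T : Set (∀ i, A i)) := fun i a => by
    have ha : a ∈ Algebra.adjoin R (s i : Set (A i)) := by rw [hs i]; trivial
    have h1 : Pi.single i (1 : A i) ∈ Algebra.adjoin R (T : Set (∀ i, A i)) :=
      Algebra.subset_adjoin (Finset.mem_biUnion.2 ⟨i, Finset.mem_univ _, Finset.mem_insert_self _ _⟩)
    induction ha using Algebra.adjoin_induction with
    | mem g hg =>
      exact Algebra.subset_adjoin (Finset.mem_biUnion.2 ⟨i, Finset.mem_univ _, Finset.mem_insert_of_mem (Finset.mem_image_of_mem _ hg)⟩)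
    | algebraMap c =>
      rw [Algebra.algebraMap_eq_smul_one, Pi.single_smul]
      exact Subalgebra.smul_mem _ h1 c
    | add a b _ _ ha hb => rw [Pi.single_add]; exact add_mem ha hb
    | mul a b _ _ ha hb => rw [Pi.single_mul]; exact mul_mem ha hb
  rw [← Finset.univ_sum_single x]
  exact Subalgebra.sum_mem _ fun i _ => key i (x i)


/-- Let `R` be a Noetherian ring, `ι` a finite index type, and `φ_i : A_i → B_i`, `ψ_i : Q → B_i`
surjective `R`-algebra maps, where `Q` and all `A_i`, `B_i` are `R`-algebras of finite type. Then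
the fibre product ring `P = Q ×_{∏ B_i} ∏ A_i` (pairs `(q, a)` with `ψ_i(q) = φ_i(a_i)` for all `i`)
is an `R`-algebra of finite type. -/
theorem result (R : Type u) [CommRing R] [IsNoetherianRing R] {ι : Type u} [Fintype ι]
    (Q : Type u) [CommRing Q] [Algebra R Q] [Algebra.FiniteType R Q] (A B : ι → Type u) [∀ i, CommRing (A i)]
    [∀ i, CommRing (B i)] [∀ i, Algebra R (A i)] [∀ i, Algebra R (B i)] (hA : ∀ i, Algebra.FiniteType R (A i))
    (hB : ∀ i, Algebra.FiniteType R (B i)) (φ : ∀ i, A i →ₐ[R] B i) (ψ : ∀ i, Q →ₐ[R] B i)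
    (hφ : ∀ i, Function.Surjective (φ i)) (hψ : ∀ i, Function.Surjective (ψ i)) :
    Algebra.FiniteType R ↥(AlgHom.equalizer ((AlgHom.pi ψ).comp (AlgHom.fst R Q (∀ i, A i)))
      ((AlgHom.pi fun i => (φ i).comp (Pi.evalAlgHom R A i)).comp (AlgHom.snd R Q (∀ i, A i)))) := by
  classical
  haveI := hA
  set P := AlgHom.equalizer ((AlgHom.pi ψ).comp (AlgHom.fst R Q (∀ i, A i)))
      ((AlgHom.pi fun i => (φ i).comp (Pi.evalAlgHom R A i)).comp (AlgHom.snd R Q (∀ i, A i))) with hP
  have hmem : ∀ (q : Q) (a : ∀ i, A i), (∀ i, ψ i q = φ i (a i)) → (q, a) ∈ P := fun q a h => funext h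
  have hfin : (⊤ : Submodule P (Q × ∀ i, A i)).FG := by
    refine ⟨insert ((1 : Q), (0 : ∀ i, A i)) (Finset.univ.image fun i => ((0 : Q), (Pi.single i 1 : ∀ i, A i))),
      eq_top_iff.2 ?_⟩
    rintro ⟨q, a⟩ -
    choose c hc using fun i => hφ i (ψ i q)
    choose q' hq' using fun i => hψ i (φ i (a i))
    choose d hd using fun i j => hφ j (ψ j (q' i))
    have h1 : (q, c) ∈ P := hmem q c fun i => (hc i).symm
    have h2 : ∀ i, (q' i, Function.update (d i) i (a i)) ∈ P := fun i => hmem _ _ fun j => by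
      by_cases hj : j = i
      · subst hj; rw [Function.update_self]; exact hq' j
      · rw [Function.update_of_ne hj]; exact (hd i j).symm
    have hsum : (q, a) = (⟨_, h1⟩ : P) • ((1 : Q), (0 : ∀ i, A i)) +
        ∑ i, (⟨_, h2 i⟩ : P) • ((0 : Q), (Pi.single i 1 : ∀ i, A i)) := by
      show (q, a) = (q, c) * ((1 : Q), (0 : ∀ i, A i)) +
        ∑ i, (q' i, Function.update (d i) i (a i)) * ((0 : Q), (Pi.single i 1 : ∀ i, A i))
      refine Prod.ext (by simp [Prod.fst_sum]) (funext fun j => ?_)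
      simp [Prod.snd_sum, Finset.sum_apply, Pi.mul_apply]
      rw [Finset.sum_eq_single j (fun b _ hb => by simp [Pi.single_eq_of_ne (Ne.symm hb)]) (by simp)]
      simp
    rw [hsum]
    refine add_mem (Submodule.smul_mem _ _ (Submodule.subset_span (by simp)))
      (Submodule.sum_mem _ fun i _ => Submodule.smul_mem _ _ (Submodule.subset_span (by simp)))
  exact ⟨fg_of_fg_of_fg R P (Q × ∀ i, A i) ((Subalgebra.prod_top (R := R) (A := Q) (B := ∀ i, A i)) ▸ Subalgebra.FG.prod Algebra.FiniteType.out (pi_fg R A)) hfin Subtype.val_injective⟩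


end Groth.Agent.S6929
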