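import Groth.Statements.S6932
import Mathlib
import Groth.Agent.Lib.NagataFP.Global
-- import your own Groth.Agent.* helpers here

set_option autoImplicit false
universe u
open CAlg

namespace Groth.Agent.S6932

/-- Let `R → S` be a ring map of finite type with `S` flat over `R`, such that `R → ∏_j R_{𝔭_j}` is
injective for some finite set of primes `𝔭_j` and each localization `S_𝔭` (at a prime `𝔭` of `R`) is
a finitely presented `R_𝔭`-algebra. Then `S` is a finitely presented `R`-algebra. -/
theorem result {R S : Type u} [CommRing R] [CommRing S]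
    [Algebra R S] [Algebra.FiniteType R S] [Module.Flat R S] (s : Finset (PrimeSpectrum R))
    (hs : Function.Injective fun r : R => fun p : s => algebraMap R (Localization.AtPrime p.1.asIdeal) r)
    (hloc : ∀ (p : Ideal R) [p.IsPrime],
      Algebra.FinitePresentation (Localization.AtPrime p) (Localization (Algebra.algebraMapSubmonoid S p.primeCompl))) :
    Algebra.FinitePresentation R S := by
  classical
  obtain ⟨n, f, hf⟩ := Algebra.FiniteType.iff_quotient_mvPolynomial''.1 (inferInstance : Algebra.FiniteType R S)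
  let P := MvPolynomial (Fin n) R
  letI : Algebra P S := f.toRingHom.toAlgebra
  haveI : IsScalarTower R P S := IsScalarTower.of_algebraMap_eq fun r => (f.commutes r).symm
  suffices h : (LinearMap.ker (Algebra.linearMap P S)).FG by
    exact Algebra.FinitePresentation.of_surjective hf h
  refine GrothLib.NagataFP.fg_ker_of_local (Algebra.linearMap P S) hf s hs fun p hp => ?_
  let Rp := Localization.AtPrime p
  let Sp := Localization (Algebra.algebraMapSubmonoid S p.primeCompl)
  let P' := MvPolynomial (Fin n) Rp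
  letI : Algebra P P' := (MvPolynomial.map (algebraMap R Rp)).toAlgebra
  haveI : IsLocalization (p.primeCompl.map (MvPolynomial.C : R →+* P)) P' :=
    MvPolynomial.isLocalization p.primeCompl Rp
  let g : P' →ₐ[Rp] Sp := MvPolynomial.aeval fun i => algebraMap S Sp (f (MvPolynomial.X i))
  have hC : ∀ r : R, algebraMap Rp Sp (algebraMap R Rp r) = algebraMap S Sp (algebraMap R S r) := fun r =>
    (IsScalarTower.algebraMap_apply R Rp Sp r).symm.trans (IsScalarTower.algebraMap_apply R S Sp r)
  have hg : ∀ x : P, g (algebraMap P P' x) = algebraMap S Sp (f x) := by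
    intro x
    have h : g.toRingHom.comp (algebraMap P P') = (algebraMap S Sp).comp f.toRingHom := by
      refine MvPolynomial.ringHom_ext (fun r => ?_) fun i => ?_
      · show g (MvPolynomial.map (algebraMap R Rp) (MvPolynomial.C r)) = algebraMap S Sp (f (MvPolynomial.C r))
        rw [MvPolynomial.map_C, ← MvPolynomial.algebraMap_eq, AlgHom.commutes, hC, ← f.commutes r]
        rfl
      · show g (MvPolynomial.map (algebraMap R Rp) (MvPolynomial.X i)) = _
        rw [MvPolynomial.map_X]
        exact MvPolynomial.aeval_X _ _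
    exact RingHom.congr_fun h x
  have hgsurj : Function.Surjective g := by
    intro y
    obtain ⟨a, ⟨_, u, hu, rfl⟩, rfl⟩ := IsLocalization.exists_mk'_eq (Algebra.algebraMapSubmonoid S p.primeCompl) y
    obtain ⟨a', rfl⟩ := hf a
    refine ⟨MvPolynomial.C (IsLocalization.mk' Rp 1 ⟨u, hu⟩) * algebraMap P P' a', ?_⟩
    rw [IsLocalization.eq_mk'_iff_mul_eq, map_mul, ← MvPolynomial.algebraMap_eq, AlgHom.commutes, hg]
    show algebraMap Rp Sp _ * _ * algebraMap S Sp (algebraMap R S u) = _
    rw [← hC, mul_right_comm, ← map_mul, IsLocalization.mk'_spec Rp 1 ⟨u, hu⟩, map_one, map_one, one_mul]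
  haveI : Algebra.FinitePresentation Rp Sp := hloc p
  obtain ⟨G, hG⟩ := Algebra.FinitePresentation.ker_fG_of_surjective g hgsurj
  let T := p.primeCompl.map (MvPolynomial.C : R →+* P)
  have hnum : ∀ x : G, ∃ k : P, k ∈ LinearMap.ker (Algebra.linearMap P S) ∧
      ∃ t : T, algebraMap P P' t * (x : P') = algebraMap P P' k := by
    intro x
    obtain ⟨⟨w, t⟩, hw⟩ := IsLocalization.surj T (x : P')
    have hx : g x.1 = 0 := RingHom.mem_ker.1 (hG ▸ Ideal.subset_span x.2)
    have h0 : algebraMap S Sp (f w) = algebraMap S Sp 0 := by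
      rw [map_zero, ← hg, ← show x.1 * algebraMap P P' t = algebraMap P P' w from hw, map_mul, hx, zero_mul]
    obtain ⟨⟨_, v, hv, rfl⟩, hv'⟩ := (IsLocalization.eq_iff_exists (Algebra.algebraMapSubmonoid S p.primeCompl) Sp).1 h0
    refine ⟨MvPolynomial.C v * w, ?_, ⟨MvPolynomial.C v, Submonoid.mem_map_of_mem _ hv⟩ * t, ?_⟩
    · show f (MvPolynomial.C v * w) = 0
      rw [map_mul, ← MvPolynomial.algebraMap_eq, f.commutes]
      simpa using hv'
    · rw [Submonoid.coe_mul, map_mul, map_mul, mul_assoc, mul_comm (algebraMap P P' t),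
        show x.1 * algebraMap P P' t = algebraMap P P' w from hw]
  choose k hk t ht using hnum
  refine ⟨Ideal.span (Set.range k), ⟨Finset.univ.image k, by rw [Finset.coe_image, Finset.coe_univ, Set.image_univ]⟩,
    Ideal.span_le.2 (Set.range_subset_iff.2 hk), fun x hx => ?_⟩
  have hmem : algebraMap P P' x ∈ (Ideal.span (Set.range k)).map (algebraMap P P') := by
    have hx' : algebraMap P P' x ∈ RingHom.ker g.toRingHom := by
      show g (algebraMap P P' x) = 0
      rw [hg, show f x = 0 from hx, map_zero]
    refine (?_ : RingHom.ker g.toRingHom ≤ _) hx'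
    refine hG.ge.trans (Ideal.span_le.2 fun y hy => ?_)
    have h := Ideal.mem_map_of_mem (algebraMap P P') (Ideal.subset_span ⟨⟨y, hy⟩, rfl⟩ : k ⟨y, hy⟩ ∈ Ideal.span (Set.range k))
    rw [← ht] at h
    exact (Ideal.unit_mul_mem_iff_mem _ (IsLocalization.map_units P' (t ⟨y, hy⟩))).1 h
  obtain ⟨_, ⟨u, hu, rfl⟩, hu'⟩ := (IsLocalization.algebraMap_mem_map_algebraMap_iff T P' _ x).1 hmem
  exact ⟨u, hu, hu'⟩

end Groth.Agent.S6932
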