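import Groth.Statements.S6933
-- no helpers

set_option autoImplicit false
universe u
open CategoryTheory
open InjHull

namespace Groth.Agent.S6933

/-- An abelian group `J` that is injective as an object of the category of abelian groups is divisible:
`n J = J` for every nonzero integer `n`. (The published statement is an equivalence; this row states
the implication from injective to divisible.) -/
theorem result (J : Type u) [AddCommGroup J] (hJ : Injective (AddCommGrpCat.of J))
    (n : ℤ) (hn : n ≠ 0) (x : J) : ∃ y : J, n • y = x := by
  let m : ULift.{u} ℤ →+ ULift.{u} ℤ :=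
    { toFun := fun k => ⟨n * k.down⟩
      map_zero' := by ext; simp
      map_add' := fun a b => by ext; simp [mul_add] }
  let g : ULift.{u} ℤ →+ J :=
    { toFun := fun k => k.down • x
      map_zero' := by simp
      map_add' := fun a b => by simp [add_smul] }
  haveI : Mono (AddCommGrpCat.ofHom m) := by
    refine ConcreteCategory.mono_of_injective _ ?_
    intro a b hab
    exact ULift.ext _ _ (mul_left_cancel₀ hn (congrArg ULift.down hab))
  refine ⟨(Injective.factorThru (AddCommGrpCat.ofHom g) (AddCommGrpCat.ofHom m)).hom ⟨1⟩, ?_⟩
  have h := ConcreteCategory.congr_hom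
    (Injective.comp_factorThru (AddCommGrpCat.ofHom g) (AddCommGrpCat.ofHom m)) (⟨1⟩ : ULift.{u} ℤ)
  rw [← map_zsmul]
  have e : n • (⟨1⟩ : ULift.{u} ℤ) = m ⟨1⟩ := by ext; simp [m]
  rw [e]
  exact h.trans (one_smul ℤ x)

end Groth.Agent.S6933
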