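import Groth.Statements.S6934
import Mathlib.RingTheory.Localization.Away.Basic
import Mathlib.Tactic.Ring
-- import your own Groth.Agent.* helpers here

set_option autoImplicit false
universe u
open EtAlg

namespace Groth.Agent.S6934

/-- Let `s : B → R`, `t : R' → R` be ring maps and `B' = B ×_R R'` the fibre product ring, i.e. a ring
`B'` with maps `p : B' → B`, `q : B' → R'`, `s ∘ p = t ∘ q`, such that `(p, q)` is injective with
image the pairs `(b, r')` with `s(b) = t(r')`. Let `h ∈ B'` with images `g = p(h)`, `f = q(h)`. Then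
the square of localizations `B'_h → B_g`, `B'_h → R'_f`, `B_g → R_{s(g)}`, `R'_f → R_{t(f)} =
R_{s(g)}` (the induced maps) is cartesian as well: `B'_h = B_g ×_{R_{s(g)}} R'_f`. -/
theorem result {B R R' B' : Type u} [CommRing B] [CommRing R] [CommRing R'] [CommRing B']
    (s : B →+* R) (t : R' →+* R) (p : B' →+* B) (q : B' →+* R') (hc : s.comp p = t.comp q)
    (hinj : ∀ x y : B', p x = p y → q x = q y → x = y) (hsurj : ∀ (b : B) (r' : R'), s b = t r' → ∃ x : B', p x = b ∧ q x = r')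
    (h : B') (Bh Bg Rf Rsg : Type u) [CommRing Bh] [CommRing Bg] [CommRing Rf] [CommRing Rsg]
    [Algebra B' Bh] [IsLocalization.Away h Bh] [Algebra B Bg] [IsLocalization.Away (p h) Bg]
    [Algebra R' Rf] [IsLocalization.Away (q h) Rf] [Algebra R Rsg] [IsLocalization.Away (s (p h)) Rsg]
    (pL : Bh →+* Bg) (qL : Bh →+* Rf) (sL : Bg →+* Rsg) (tL : Rf →+* Rsg)
    (hp : pL.comp (algebraMap B' Bh) = (algebraMap B Bg).comp p) (hq : qL.comp (algebraMap B' Bh) = (algebraMap R' Rf).comp q)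
    (hs : sL.comp (algebraMap B Bg) = (algebraMap R Rsg).comp s) (ht : tL.comp (algebraMap R' Rf) = (algebraMap R Rsg).comp t) :
    (∀ x y : Bh, pL x = pL y → qL x = qL y → x = y) ∧
    (∀ (b : Bg) (r : Rf), sL b = tL r → ∃ x : Bh, pL x = b ∧ qL x = r) := by
  have hpa : ∀ a, pL (algebraMap B' Bh a) = algebraMap B Bg (p a) := RingHom.congr_fun hp
  have hqa : ∀ a, qL (algebraMap B' Bh a) = algebraMap R' Rf (q a) := RingHom.congr_fun hq
  have hsa : ∀ a, sL (algebraMap B Bg a) = algebraMap R Rsg (s a) := RingHom.congr_fun hs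
  have hta : ∀ a, tL (algebraMap R' Rf a) = algebraMap R Rsg (t a) := RingHom.congr_fun ht
  have hst : s (p h) = t (q h) := RingHom.congr_fun hc h
  refine ⟨fun x y hxp hxq => ?_, fun b r hbr => ?_⟩
  · rw [← sub_eq_zero]
    set z := x - y
    have hzp : pL z = 0 := by rw [map_sub, hxp, sub_self]
    have hzq : qL z = 0 := by rw [map_sub, hxq, sub_self]
    obtain ⟨⟨a, _, n, rfl⟩, hz⟩ := IsLocalization.surj (Submonoid.powers h) z
    dsimp only at hz
    have e₁ := congrArg pL hz
    rw [map_mul, hzp, zero_mul, hpa, eq_comm, IsLocalization.map_eq_zero_iff (Submonoid.powers (p h))] at e₁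
    have e₂ := congrArg qL hz
    rw [map_mul, hzq, zero_mul, hqa, eq_comm, IsLocalization.map_eq_zero_iff (Submonoid.powers (q h))] at e₂
    obtain ⟨⟨_, k, rfl⟩, hk⟩ := e₁
    obtain ⟨⟨_, l, rfl⟩, hl⟩ := e₂
    have ha : h ^ (k + l) * a = 0 := by
      refine hinj _ _ ?_ ?_
      · rw [map_mul, map_pow, map_zero, pow_add, mul_comm ((p h) ^ k), mul_assoc, hk, mul_zero]
      · rw [map_mul, map_pow, map_zero, pow_add, mul_assoc, hl, mul_zero]
    have hu : IsUnit (algebraMap B' Bh (h ^ (k + l)) * algebraMap B' Bh (h ^ n)) :=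
      (IsLocalization.map_units Bh (⟨_, k + l, rfl⟩ : Submonoid.powers h)).mul
        (IsLocalization.map_units Bh (⟨_, n, rfl⟩ : Submonoid.powers h))
    refine hu.mul_left_eq_zero.mp ?_
    rw [mul_comm (algebraMap B' Bh (h ^ (k + l))), ← mul_assoc, hz, ← map_mul, mul_comm a, ha, map_zero]
  · obtain ⟨⟨b₀, _, m, rfl⟩, hb⟩ := IsLocalization.surj (Submonoid.powers (p h)) b
    obtain ⟨⟨r₀, _, l, rfl⟩, hr⟩ := IsLocalization.surj (Submonoid.powers (q h)) r
    dsimp only at hb hr
    have e : algebraMap R Rsg (s ((p h) ^ l * b₀)) = algebraMap R Rsg (t ((q h) ^ m * r₀)) := by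
      rw [← hsa, ← hta, map_mul (algebraMap B Bg), map_mul (algebraMap R' Rf), ← hb, ← hr]
      simp only [map_mul, hsa, hta, map_pow, hbr, hst]
      ring
    obtain ⟨⟨_, k, rfl⟩, hk⟩ := (IsLocalization.eq_iff_exists (Submonoid.powers (s (p h))) Rsg).mp e
    dsimp only at hk
    obtain ⟨a, ha₁, ha₂⟩ := hsurj ((p h) ^ k * ((p h) ^ l * b₀)) ((q h) ^ k * ((q h) ^ m * r₀)) (by
      rw [map_mul s, map_mul t, map_pow, map_pow, ← hst]; exact hk)
    refine ⟨IsLocalization.mk' Bh a (⟨h ^ (k + (l + m)), _, rfl⟩ : Submonoid.powers h), ?_, ?_⟩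
    · refine (IsLocalization.map_units Bg
        (⟨(p h) ^ (k + (l + m)), _, rfl⟩ : Submonoid.powers (p h))).mul_left_cancel ?_
      show algebraMap B Bg ((p h) ^ (k + (l + m))) * _ = algebraMap B Bg ((p h) ^ (k + (l + m))) * _
      rw [← map_pow p, ← hpa, ← map_mul pL, IsLocalization.mk'_spec'_mk, hpa, ha₁, hpa, map_pow p,
        pow_add, pow_add, map_mul, map_mul, map_mul, map_mul, ← hb]
      ring
    · refine (IsLocalization.map_units Rf
        (⟨(q h) ^ (k + (l + m)), _, rfl⟩ : Submonoid.powers (q h))).mul_left_cancel ?_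
      show algebraMap R' Rf ((q h) ^ (k + (l + m))) * _ = algebraMap R' Rf ((q h) ^ (k + (l + m))) * _
      rw [← map_pow q, ← hqa, ← map_mul qL, IsLocalization.mk'_spec'_mk, hqa, ha₂, hqa, map_pow q,
        pow_add, pow_add, map_mul, map_mul, map_mul, map_mul, ← hr]
      ring

end Groth.Agent.S6934
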