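import Groth.Statements.S6948
import Groth.Agent.Lib.DCxRing.LBase

set_option autoImplicit false
universe u
open CategoryTheory CategoryTheory.Limits
attribute [local instance] HasDerivedCategory.standard
open DRing

namespace Groth.Agent.S6948

/-- Let A → B be a homomorphism of commutative rings such that the derived base change D(A) → D(B)
exists, and let K be an object of D(A) with tor amplitude in [a, b]. Then K ⊗^L_A B has tor
amplitude in [a, b] as an object of D(B). -/
theorem result {A B : Type u} [CommRing A] [CommRing B] (φ : A →+* B)
    [DRing.HasLBaseChange φ] (K : Dual.D A) (a b : ℤ) (hK : DRing.HasTorAmplitudeIn A a b K) :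
    DRing.HasTorAmplitudeIn B a b ((DRing.LBaseChange φ).obj K) :=
  GrothLib.DR.hasTorAmplitudeIn_lBase φ hK

end Groth.Agent.S6948
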