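import Groth.Statements.S6956
import Groth.Agent.Lib.DCxRing.RestrictTor


set_option autoImplicit false
universe u
open CategoryTheory CategoryTheory.Limits
attribute [local instance] HasDerivedCategory.standard
open DRing

namespace Groth.Agent.S6956

/-- Let A → B be a homomorphism of commutative rings such that B is perfect as an A-module, and let K be
a perfect object of D(B). Then K, with scalars restricted to A, is a perfect object of D(A). -/
theorem result {A B : Type u} [CommRing A] [CommRing B] [Algebra A B]
    (hB : DRing.IsPerfectModule A B) (K : Dual.D B) (hK : DRing.IsPerfect B K) :
    DRing.IsPerfect A ((DRing.restrictD (algebraMap A B)).obj K) :=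
  GrothLib.DR.isPerfect_restrictD hB hK

end Groth.Agent.S6956
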