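import Groth.Statements.S6958
import Groth.Agent.Lib.DCxRing.LBase


set_option autoImplicit false
universe u
open CategoryTheory CategoryTheory.Limits
attribute [local instance] HasDerivedCategory.standard
open DRing

namespace Groth.Agent.S6958

/-- Let A → B be a flat homomorphism of commutative rings and M a perfect A-module. Then B ⊗_A M is a
perfect B-module. -/
theorem result {A B : Type u} [CommRing A] [CommRing B] [Algebra A B]
    [Module.Flat A B] (M : Type u) [AddCommGroup M] [Module A M] (hM : DRing.IsPerfectModule A M) :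
    DRing.IsPerfectModule B (TensorProduct A B M) := by
  obtain ⟨E, a, b, hv, hf, ⟨e⟩⟩ := hM
  let φ := algebraMap A B
  let F := ModuleCat.extendScalars.{u, u, u} φ
  haveI := GrothLib.DR.preservesFiniteLimits_extendScalars φ GrothLib.DR.flat_algebraMap
  haveI : Limits.PreservesFiniteColimits F := Limits.PreservesColimitsOfSize.preservesFiniteColimits.{0, 0} F
  let S := (HomologicalComplex.single (ModuleCat.{u} A) (ComplexShape.up ℤ) 0).obj (ModuleCat.of A M)
  let e₀ : DRing.toD S ≅ Dual.inD A M := (((SingleFunctors.evaluation _ _ 0).mapIso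
    (DerivedCategory.singleFunctorsPostcompQIso (ModuleCat.{u} A))).app (ModuleCat.of A M)).symm
  let e₁ := GrothLib.DR.toDMapCongr F (e ≪≫ e₀.symm)
  obtain ⟨e₂⟩ := GrothLib.DR.nonempty_map_inD F M
  obtain ⟨e₃⟩ := GrothLib.DR.nonempty_extendScalars_iso (A := A) (B := B) M
  refine ⟨(GrothLib.DR.bc φ).obj E, a, b, GrothLib.DR.vanishesOutside_map _ hv,
    GrothLib.DR.termwiseFiniteProjective_bc φ hf,
    ⟨e₁ ≪≫ e₂ ≪≫ (DerivedCategory.singleFunctor (ModuleCat.{u} B) 0).mapIso e₃.symm⟩⟩

end Groth.Agent.S6958
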