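import Groth.Statements.S6963
import Groth.Agent.Lib.DCxRHom.Dual
import Groth.Agent.Lib.DCxRing.Basic

set_option autoImplicit false
universe u
open CategoryTheory CategoryTheory.Limits
attribute [local instance] HasDerivedCategory.standard
open DRing

namespace Groth.Agent.S6963

/-- Let A be a commutative ring and K a perfect object of D(A), represented by a cochain complex E for
which RHom_A(E, -) exists; write K^∨ = RHom_A(E, A). Then K^∨ is a perfect object of D(A), and for
every cochain complex E' representing K^∨ for which RHom_A(E', -) exists, RHom_A(E', A) is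
isomorphic to K in D(A) (existence of an isomorphism only; the canonical one is the double-duality
map). -/
theorem result (A : Type u) [CommRing A] (K : Dual.D A) (hK : DRing.IsPerfect A K)
    (E : DRing.Cx A) (eK : DRing.toD E ≅ K) [DRing.HasRHomCx E] :
    DRing.IsPerfect A ((DRing.RHomCx E).obj (Dual.inD A A)) ∧
      ∀ (E' : DRing.Cx A) (eK' : DRing.toD E' ≅ (DRing.RHomCx E).obj (Dual.inD A A)) [DRing.HasRHomCx E'],
        Nonempty ((DRing.RHomCx E').obj (Dual.inD A A) ≅ K) := by
  obtain ⟨P, a, b, hout, hfp, ⟨eP⟩⟩ := hK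
  let S := GrothLib.RH.oneCx A
  let eS : Dual.inD A A ≅ DRing.toD S := (((SingleFunctors.evaluation _ _ 0).mapIso
    (DerivedCategory.singleFunctorsPostcompQIso (ModuleCat.{u} A))).app (ModuleCat.of A A))
  haveI := GrothLib.DR.isKProjective P b (fun i hi => hout i (Or.inr hi)) (fun i => (hfp i).2)
  let D := DRing.homCx P S
  have hD := GrothLib.RH.termwiseFiniteProjective_dual hfp
  have hDo := GrothLib.RH.vanishesOutside_dual hout
  let eD : (DRing.RHomCx E).obj (Dual.inD A A) ≅ DRing.toD D :=
    (DRing.RHomCx E).mapIso eS ≪≫ (GrothLib.RH.rHom_value_of_rep (eP ≪≫ eK.symm) S).some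
  refine ⟨⟨D, -b, -a, hDo, hD, ⟨eD.symm⟩⟩, fun E' eK' _ => ?_⟩
  haveI := GrothLib.DR.isKProjective D (-a) (fun i hi => hDo i (Or.inr hi)) (fun i => (hD i).2)
  haveI := GrothLib.RH.isIso_ev hfp
  exact ⟨(DRing.RHomCx E').mapIso eS ≪≫ (GrothLib.RH.rHom_value_of_rep (eD.symm ≪≫ eK'.symm) S).some ≪≫
    DerivedCategory.Q.mapIso (asIso (GrothLib.RH.ev P)).symm ≪≫ eP⟩

end Groth.Agent.S6963
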