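import Groth.Statements.S6966
import Mathlib
-- import your own Groth.Agent.* helpers here

set_option autoImplicit false
universe u
open CategoryTheory CategoryTheory.Limits
attribute [local instance] HasDerivedCategory.standard
open CAlg

namespace Groth.Agent.S6966

/-- Let R be a commutative ring, I an ideal of R and M an R-module. Then the following two conditions
coincide: for each a ∈ I, the endomorphism of M given by multiplication by a can be written as a
composite M → P → M with P some projective R-module; and for every R-module N and every a ∈ I, a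
annihilates Ext^1_R(M, N) = Hom(M[0], N[1]) in D(R). -/
theorem result (R : Type u) [CommRing R] (I : Ideal R) (M : Type u)
    [AddCommGroup M] [Module R M] :
    (∀ a ∈ I, ∃ (P : Type u) (_ : AddCommGroup P) (_ : Module R P) (_ : Module.Projective R P)
        (f : M →ₗ[R] P) (g : P →ₗ[R] M), g ∘ₗ f = a • LinearMap.id) ↔
      ∀ (N : Type u) [AddCommGroup N] [Module R N], ∀ a ∈ I,
        ∀ x : DRing.ExtD R (Dual.inD R M) (Dual.inD R N) 1, a • x = 0 := by
  classical
  letI := HasDerivedCategory.standard (ModuleCat.{u} R)
  let C := ModuleCat.{u} R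
  let X : C := ModuleCat.of R M
  constructor
  · intro h N _ _ a ha x
    obtain ⟨P, _, _, _, f, g, hfg⟩ := h a ha
    let e := CategoryTheory.Abelian.Ext.homLinearEquiv (R := R) (X := X) (Y := ModuleCat.of R N) (n := 1)
    obtain ⟨y, rfl⟩ : ∃ y, e y = x := ⟨e.symm x, e.apply_symm_apply x⟩
    have hay : a • y = 0 := by
      have hid : ModuleCat.ofHom f ≫ ModuleCat.ofHom g = a • CategoryTheory.CategoryStruct.id X := by
        ext m
        exact congr($hfg m)
      have h1 : a • y = (CategoryTheory.Abelian.Ext.mk₀ (a • CategoryTheory.CategoryStruct.id X)).comp y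
          (zero_add 1) := by
        rw [CategoryTheory.Abelian.Ext.mk₀_smul, CategoryTheory.Abelian.Ext.smul_comp,
          CategoryTheory.Abelian.Ext.mk₀_id_comp]
      rw [h1, ← hid, ← CategoryTheory.Abelian.Ext.mk₀_comp_mk₀,
        CategoryTheory.Abelian.Ext.comp_assoc_of_second_deg_zero]
      haveI : CategoryTheory.Projective (ModuleCat.of R P) :=
        (IsProjective.iff_projective P).mp inferInstance
      rw [CategoryTheory.Abelian.Ext.eq_zero_of_projective (P := ModuleCat.of R P)
        ((CategoryTheory.Abelian.Ext.mk₀ (ModuleCat.ofHom g)).comp y (zero_add 1)),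
        CategoryTheory.Abelian.Ext.comp_zero]
    change a • e y = 0
    rw [← map_smul e, hay, map_zero]
  · intro h a ha
    let π : (M →₀ R) →ₗ[R] M := Finsupp.linearCombination R id
    have hπ : Function.Surjective π := fun m => ⟨Finsupp.single m 1, by simp [π]⟩
    let S : CategoryTheory.ShortComplex C :=
      { X₁ := ModuleCat.of R (LinearMap.ker π)
        X₂ := ModuleCat.of R (M →₀ R)
        X₃ := X
        f := ModuleCat.ofHom (LinearMap.ker π).subtype
        g := ModuleCat.ofHom π
        zero := by ext x; exact x.2 }
    have hS : S.ShortExact :=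
      { exact := by
          rw [CategoryTheory.ShortComplex.ShortExact.moduleCat_exact_iff_function_exact]
          intro x
          exact ⟨fun hx => ⟨⟨x, hx⟩, rfl⟩, fun ⟨y, hy⟩ => hy ▸ y.2⟩
        mono_f := (ModuleCat.mono_iff_injective _).mpr Subtype.val_injective
        epi_g := (ModuleCat.epi_iff_surjective _).mpr hπ }
    let e := CategoryTheory.Abelian.Ext.homLinearEquiv (R := R) (X := X) (Y := S.X₁) (n := 1)
    have hc : (CategoryTheory.Abelian.Ext.mk₀ (a • CategoryTheory.CategoryStruct.id X)).comp
        hS.extClass (zero_add 1) = 0 := by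
      rw [CategoryTheory.Abelian.Ext.mk₀_smul, CategoryTheory.Abelian.Ext.smul_comp,
        CategoryTheory.Abelian.Ext.mk₀_id_comp]
      apply e.injective
      rw [map_smul, map_zero]
      exact h (LinearMap.ker π) a ha (e hS.extClass)
    obtain ⟨x₂, hx₂⟩ := CategoryTheory.Abelian.Ext.covariant_sequence_exact₃ X hS _ (zero_add 1) hc
    obtain ⟨f, rfl⟩ := (CategoryTheory.Abelian.Ext.mk₀_bijective X S.X₂).2 x₂
    rw [CategoryTheory.Abelian.Ext.mk₀_comp_mk₀] at hx₂
    have h1 := (CategoryTheory.Abelian.Ext.mk₀_bijective X X).1 hx₂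
    refine ⟨M →₀ R, inferInstance, inferInstance, inferInstance, f.hom, π, ?_⟩
    ext m
    exact congr($h1 m)

end Groth.Agent.S6966
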