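import Groth.Statements.S6967
import Mathlib
-- import your own Groth.Agent.* helpers here

set_option autoImplicit false
universe u
open CAlg

namespace Groth.Agent.S6967

/-- Let R be a commutative ring, I an ideal of R and 0 → K → P → M → 0 a short exact sequence of
R-modules with P projective. If multiplication by a on M factors through a projective R-module for
every a ∈ I, then multiplication by a on K factors through a projective R-module for every a ∈ I. -/
theorem result (R : Type u) [CommRing R] (I : Ideal R)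
    {K P M : Type u} [AddCommGroup K] [Module R K] [AddCommGroup P] [Module R P] [Module.Projective R P]
    [AddCommGroup M] [Module R M] (f : K →ₗ[R] P) (g : P →ₗ[R] M) (hf : Function.Injective f)
    (hg : Function.Surjective g) (hfg : LinearMap.range f = LinearMap.ker g)
    (hM : ∀ a ∈ I, ∃ (P : Type u) (_ : AddCommGroup P) (_ : Module R P) (_ : Module.Projective R P)
        (f : M →ₗ[R] P) (g : P →ₗ[R] M), g ∘ₗ f = a • LinearMap.id) :
    ∀ a ∈ I, ∃ (P : Type u) (_ : AddCommGroup P) (_ : Module R P) (_ : Module.Projective R P)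
        (f : K →ₗ[R] P) (g : P →ₗ[R] K), g ∘ₗ f = a • LinearMap.id := by
  intro a ha
  obtain ⟨P', _, _, _, u, v, huv⟩ := hM a ha
  obtain ⟨h, hh⟩ := Module.projective_lifting_property g v hg
  let ψ₀ : P →ₗ[R] P := a • LinearMap.id - h ∘ₗ u ∘ₗ g
  have hψ : ∀ z, ψ₀ z ∈ LinearMap.range f := by
    intro z
    rw [hfg, LinearMap.mem_ker]
    have h1 := LinearMap.congr_fun huv (g z)
    have h2 := LinearMap.congr_fun hh (u (g z))
    simp only [LinearMap.comp_apply, LinearMap.smul_apply, LinearMap.id_apply] at h1 h2
    simp [ψ₀, h2, h1]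
  let e := LinearEquiv.ofInjective f hf
  refine ⟨P, inferInstance, inferInstance, inferInstance, f, e.symm.toLinearMap ∘ₗ ψ₀.codRestrict _ hψ, ?_⟩
  ext z
  apply hf
  have hgf : g (f z) = 0 := LinearMap.mem_ker.1 (hfg ▸ LinearMap.mem_range_self f z)
  have : f (e.symm ⟨ψ₀ (f z), hψ _⟩) = ψ₀ (f z) := congrArg Subtype.val (e.apply_symm_apply _)
  show f (e.symm ⟨ψ₀ (f z), hψ _⟩) = f (a • z)
  rw [this]
  simp [ψ₀, hgf]

end Groth.Agent.S6967
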