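import Groth.Statements.S6969
import Mathlib
-- import your own Groth.Agent.* helpers here

set_option autoImplicit false
universe u
open CAlg

namespace Groth.Agent.S6969

/-- Let R be a commutative ring and φ : M → N an R-linear map which factors through a projective
R-module. If M is finitely generated, then φ factors through a finitely generated projective
R-module. -/
theorem result (R : Type u) [CommRing R] {M N : Type u} [AddCommGroup M]
    [Module R M] [Module.Finite R M] [AddCommGroup N] [Module R N] (φ : M →ₗ[R] N)
    (h : ∃ (P : Type u) (_ : AddCommGroup P) (_ : Module R P) (_ : Module.Projective R P) (f : M →ₗ[R] P)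
      (g : P →ₗ[R] N), g ∘ₗ f = φ) :
    ∃ (P : Type u) (_ : AddCommGroup P) (_ : Module R P) (_ : Module.Projective R P) (_ : Module.Finite R P)
      (f : M →ₗ[R] P) (g : P →ₗ[R] N), g ∘ₗ f = φ := by
  skip
  classical
  obtain ⟨P, _, _, _, f, g, hfg⟩ := h
  obtain ⟨s, hs⟩ := (Module.projective_def'.mp ‹Module.Projective R P›)
  obtain ⟨t, ht⟩ := (Module.Finite.fg_top (R := R) (M := M))
  let S : Finset P := t.biUnion (fun m => (s (f m)).support)
  have hS : ∀ m : M, (s (f m)) ∈ Finsupp.supported R R (↑S : Set P) := by
    intro m
    have hm : m ∈ Submodule.span R (↑t : Set M) := by rw [ht]; trivial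
    induction hm using Submodule.span_induction with
    | mem x hx =>
      rw [Finsupp.mem_supported]
      intro y hy
      exact Finset.mem_coe.mpr (Finset.mem_biUnion.mpr ⟨x, hx, hy⟩)
    | zero => simp
    | add x y _ _ hx hy => rw [map_add, map_add]; exact Submodule.add_mem _ hx hy
    | smul a x _ hx => rw [map_smul, map_smul]; exact Submodule.smul_mem _ a hx
  refine ⟨↥(↑S : Set P) →₀ R, inferInstance, inferInstance, inferInstance, inferInstance,
    Finsupp.lcomapDomain Subtype.val Subtype.val_injective ∘ₗ (s ∘ₗ f),
    g ∘ₗ (Finsupp.linearCombination R id ∘ₗ Finsupp.lmapDomain R R Subtype.val), ?_⟩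
  ext m
  have h1 : Finsupp.mapDomain Subtype.val (Finsupp.comapDomain (Subtype.val : ↥(↑S : Set P) → P) (s (f m))
      Subtype.val_injective.injOn) = s (f m) :=
    Finsupp.mapDomain_comapDomain _ Subtype.val_injective _
      (by rw [Subtype.range_coe]; exact (Finsupp.mem_supported _ _).mp (hS m))
  simp only [LinearMap.comp_apply, Finsupp.lmapDomain_apply]
  show g (Finsupp.linearCombination R id (Finsupp.mapDomain Subtype.val
    (Finsupp.comapDomain (Subtype.val : ↥(↑S : Set P) → P) (s (f m)) Subtype.val_injective.injOn))) = φ m
  rw [h1]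
  have h2 := LinearMap.congr_fun hs (f m)
  simp only [LinearMap.comp_apply, LinearMap.id_apply] at h2
  rw [h2, ← hfg]; rfl

end Groth.Agent.S6969
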