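import Groth.Statements.S6970
import Groth.Agent.Lib.DCxRing.NilLift


set_option autoImplicit false
universe u
open CategoryTheory CategoryTheory.Limits
attribute [local instance] HasDerivedCategory.standard
open DRing

namespace Groth.Agent.S6970

/-- Let R be a commutative ring and I a nilpotent ideal of R such that the derived base change D(R) →
D(R/I) exists. Let K be an object of D(R) and E a bounded above cochain complex of projective
R/I-modules which is isomorphic in D(R/I) to K ⊗^L_R R/I. Then there is a bounded above cochain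
complex P of projective R-modules which is isomorphic to K in D(R) and whose termwise reduction P
⊗_R R/I is isomorphic to E as a complex of R/I-modules. -/
theorem result (R : Type u) [CommRing R] (I : Ideal R)
    (hI : IsNilpotent I) [DRing.HasLBaseChange (Ideal.Quotient.mk I)] (K : Dual.D R)
    (E : DRing.Cx (R ⧸ I)) (b : ℤ) (hEb : DRing.VanishesAbove E b)
    (hEp : ∀ i : ℤ, Module.Projective (R ⧸ I) (E.X i))
    (hE : Nonempty (DRing.toD E ≅ (DRing.LBaseChange (Ideal.Quotient.mk I)).obj K)) :
    ∃ (P : DRing.Cx R) (b' : ℤ), DRing.VanishesAbove P b' ∧ (∀ i : ℤ, Module.Projective R (P.X i)) ∧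
      Nonempty (DRing.toD P ≅ K) ∧ Nonempty ((((ModuleCat.extendScalars (Ideal.Quotient.mk I)).mapHomologicalComplex (ComplexShape.up ℤ)).obj P) ≅ E) := by
  obtain ⟨eE⟩ := hE
  obtain ⟨Q, hQc, hQp, ⟨eQ⟩⟩ := GrothLib.DR.exists_projective_rep K b fun i hi =>
    GrothLib.DR.subsingleton_HD_of_reduction hI K hEb hEp eE i hi
  haveI : GrothLib.DR.proj R |>.IsClosedUnderIsomorphisms := GrothLib.DR.proj_closed R
  exact GrothLib.DR.exists_representative_lift (I := I) (Pc := GrothLib.DR.proj R) (fun X hX => hX)
    GrothLib.DR.proj_iff (fun X Y f _ _ h => GrothLib.DR.surjective_of_nilpotent hI f.hom h) K hQc hQp eQ hEb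
    (fun i => haveI := hEp i; GrothLib.DR.exists_projective_lift_of_nilpotent hI (E.X i)) eE

end Groth.Agent.S6970
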