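import Groth.Statements.S6971
import Groth.Agent.Lib.DCxRing.Reduction
import Groth.Agent.Lib.DCxRing.LBase


set_option autoImplicit false
universe u
open CategoryTheory CategoryTheory.Limits
attribute [local instance] HasDerivedCategory.standard
open DRing

namespace Groth.Agent.S6971

/-- Let R' → R be a surjective homomorphism of commutative rings whose kernel is a nilpotent ideal, such
that the derived base change D(R') → D(R) exists, and let K' be an object of D(R'). Then K' ⊗^L R is
pseudo-coherent over R (isomorphic in D(R) to a bounded above complex of finite free modules) if and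
only if K' is pseudo-coherent over R'. -/
theorem result {R' R : Type u} [CommRing R'] [CommRing R]
    (φ : R' →+* R) (hφ : Function.Surjective φ) (hnil : IsNilpotent (RingHom.ker φ))
    [DRing.HasLBaseChange φ] (K' : Dual.D R') :
    DRing.IsPseudoCoherent' R ((DRing.LBaseChange φ).obj K') ↔ DRing.IsPseudoCoherent' R' K' := by
  refine ⟨GrothLib.DR.isPseudoCoherent'_of_lBase φ hφ hnil K', ?_⟩
  rintro ⟨E, b, hEb, hEf, ⟨e⟩⟩
  obtain ⟨e'⟩ := GrothLib.DR.nonempty_lBase_iso φ hEb
    (GrothLib.DR.termwiseFlat_of_projective fun i => GrothLib.DR.projective_of_finiteFree hEf i)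
  exact ⟨(GrothLib.DR.bc φ).obj E, b, fun i hi => (ModuleCat.extendScalars φ).map_isZero (hEb i hi),
    fun i => GrothLib.DerBC.finiteFree_extendScalars φ (E.X i) (hEf i).1 (hEf i).2,
    ⟨e'.symm ≪≫ (DRing.LBaseChange φ).mapIso e⟩⟩

end Groth.Agent.S6971
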