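import Groth.Statements.S6972
import Groth.Agent.Lib.DCxRing.Minimal


set_option autoImplicit false
universe u
open CategoryTheory CategoryTheory.Limits
attribute [local instance] HasDerivedCategory.standard
open DRing

namespace Groth.Agent.S6972

/-- Let R be a local commutative ring with residue field κ such that the derived base change D(R) → D(κ)
exists, and let K be a pseudo-coherent object of D(R). Write d_i for the κ-dimension of H^i(K ⊗^L_R
κ). Then every H^i(K ⊗^L_R κ) is finite dimensional and vanishes for i large; there is a bounded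
above cochain complex P of finite free R-modules with rank P^i = d_i for all i which is isomorphic
to K in D(R); and any two such complexes are isomorphic as complexes of R-modules. -/
theorem result (R : Type u) [CommRing R] [IsLocalRing R]
    [DRing.HasLBaseChange (IsLocalRing.residue R)] (K : Dual.D R) (hK : DRing.IsPseudoCoherent' R K) :
    let κ := IsLocalRing.ResidueField R
    let Kκ := (DRing.LBaseChange (IsLocalRing.residue R)).obj K
    let Minimal := fun P : DRing.Cx R => (∃ b : ℤ, DRing.VanishesAbove P b) ∧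
      (∀ i : ℤ, Module.Free R (P.X i) ∧ Module.Finite R (P.X i) ∧
        Module.finrank R (P.X i) = Module.finrank κ (Dual.HD κ Kκ i)) ∧ Nonempty (DRing.toD P ≅ K)
    (∀ i : ℤ, Module.Finite κ (Dual.HD κ Kκ i)) ∧ (∃ b : ℤ, ∀ i : ℤ, b < i → Subsingleton (Dual.HD κ Kκ i)) ∧
      (∃ P : DRing.Cx R, Minimal P) ∧ ∀ P Q : DRing.Cx R, Minimal P → Minimal Q → Nonempty (P ≅ Q) := by
  intro κ Kκ Minimal
  obtain ⟨P, c, hPc, hPf, ⟨eP⟩⟩ := hK
  obtain ⟨Q, π, hπ, hQf, hQm, hQz⟩ := GrothLib.DR.exists_minimal_quotient P hPf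
  have eQ : DRing.toD Q ≅ K := (asIso (DerivedCategory.Q.map π)).symm ≪≫ eP
  have hQc : DRing.VanishesAbove Q c := fun i hi => hQz i (hPc i hi)
  -- the value of the derived base change on any representative
  have hval : ∀ (E : DRing.Cx R) (b : ℤ), DRing.VanishesAbove E b → DRing.TermwiseFiniteFree E →
      (DRing.toD E ≅ K) → ∀ i, Nonempty (Dual.HD κ (DRing.toD ((GrothLib.DR.bc (IsLocalRing.residue R)).obj E)) i ≃ₗ[κ]
        Dual.HD κ Kκ i) := fun E b hb hf e i => by
    obtain ⟨e'⟩ := GrothLib.KF.lBase_value (IsLocalRing.residue R) (GrothLib.KF.isKFlat_of_vanishesAbove hb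
      (GrothLib.DR.termwiseFlat_of_projective (GrothLib.DR.projective_of_finiteFree hf)))
    exact ⟨((DerivedCategory.homologyFunctor (ModuleCat.{u} κ) i).mapIso
      (e'.symm ≪≫ (DRing.LBaseChange (IsLocalRing.residue R)).mapIso e)).toLinearEquiv⟩
  have hmin : ∀ E : DRing.Cx R, Minimal E → GrothLib.DR.IsMinimal E ∧ DRing.TermwiseFiniteFree E := by
    rintro E ⟨⟨b, hb⟩, hf, ⟨e⟩⟩
    have hf' : DRing.TermwiseFiniteFree E := fun i => ⟨(hf i).2.1, (hf i).1⟩
    refine ⟨(GrothLib.DR.isMinimal_iff_bc E).2 fun i j => ?_, hf'⟩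
    by_cases hij : i + 1 = j
    · subst hij
      obtain ⟨l⟩ := hval E b hb hf' e i
      exact (GrothLib.DR.finrank_homology_bc E hf' i).2.2 (by rw [(hf i).2.2, l.finrank_eq])
    · exact ((GrothLib.DR.bc (IsLocalRing.residue R)).obj E).shape i j hij
  refine ⟨fun i => ?_, ⟨c, fun i hi => ?_⟩, ⟨Q, ⟨c, hQc⟩, fun i => ⟨(hQf i).2, (hQf i).1, ?_⟩, ⟨eQ⟩⟩,
    fun E F hE hF => ?_⟩
  · obtain ⟨l⟩ := hval P c hPc hPf eP i
    haveI := (GrothLib.DR.finrank_homology_bc P hPf i).1
    exact Module.Finite.equiv l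
  · obtain ⟨l⟩ := hval P c hPc hPf eP i
    exact l.symm.toEquiv.subsingleton_congr.2 ((GrothLib.DR.exactAt_iff _ i).1 (ShortComplex.exact_of_isZero_X₂ _
      ((ModuleCat.extendScalars (IsLocalRing.residue R)).map_isZero (hPc i hi))))
  · obtain ⟨l⟩ := hval Q c hQc hQf eQ i
    rw [← l.finrank_eq, (GrothLib.DR.finrank_homology_bc Q hQf i).2.1 hQm]
  · obtain ⟨hEm, hEf⟩ := hmin E hE
    obtain ⟨hFm, hFf⟩ := hmin F hF
    obtain ⟨⟨b, hb⟩, -, ⟨e⟩⟩ := hE
    obtain ⟨⟨b', hb'⟩, -, ⟨e'⟩⟩ := hF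
    exact GrothLib.DR.nonempty_iso_of_minimal hb hb' hEf hFf hEm hFm (e ≪≫ e'.symm)

end Groth.Agent.S6972
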