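import Groth.Statements.S6973
import Groth.Agent.Lib.DCxRing.ClassLiftApps
import Groth.Agent.Lib.Hensel.ProjectiveLift


set_option autoImplicit false
universe u
open CategoryTheory CategoryTheory.Limits
attribute [local instance] HasDerivedCategory.standard
open DRing

namespace Groth.Agent.S6973

/-- Let (R, I) be a henselian pair such that the derived base change D(R) → D(R/I) exists, K a
pseudo-coherent object of D(R), and E a bounded above cochain complex of finite projective
R/I-modules which is isomorphic in D(R/I) to K ⊗^L_R R/I. Then there is a bounded above cochain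
complex P of finite projective R-modules, isomorphic to K in D(R), whose termwise reduction P ⊗_R
R/I is isomorphic to E as a complex, and such that P^i is free for every i for which E^i is free. -/
theorem result (R : Type u) [CommRing R]
    (I : Ideal R) [HenselianRing R I] [DRing.HasLBaseChange (Ideal.Quotient.mk I)] (K : Dual.D R)
    (hK : DRing.IsPseudoCoherent' R K) (E : DRing.Cx (R ⧸ I)) (b : ℤ) (hEb : DRing.VanishesAbove E b)
    (hEp : DRing.TermwiseFiniteProjective E)
    (hE : Nonempty (DRing.toD E ≅ (DRing.LBaseChange (Ideal.Quotient.mk I)).obj K)) :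
    ∃ (P : DRing.Cx R) (b' : ℤ), DRing.VanishesAbove P b' ∧ DRing.TermwiseFiniteProjective P ∧
      Nonempty (DRing.toD P ≅ K) ∧ Nonempty ((((ModuleCat.extendScalars (Ideal.Quotient.mk I)).mapHomologicalComplex (ComplexShape.up ℤ)).obj P) ≅ E) ∧
      ∀ i : ℤ, Module.Free (R ⧸ I) (E.X i) → Module.Free R (P.X i) := by
  obtain ⟨Q, c, hQc, hQf, ⟨eQ⟩⟩ := hK
  obtain ⟨eE⟩ := hE
  have hI : I ≤ Ideal.jacobson (⊥ : Ideal R) := HenselianRing.jac
  have hQ : ∀ i, GrothLib.DR.finProj R (Q.X i) := fun i =>
    ⟨(hQf i).1, haveI := (hQf i).2; inferInstance⟩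
  have hlift : ∀ i, ∃ X : ModuleCat.{u} R, GrothLib.DR.finProj R X ∧
      Nonempty (TensorProduct R (R ⧸ I) X ≃ₗ[R ⧸ I] E.X i) := fun i => by
    haveI := (hEp i).1; haveI := (hEp i).2
    obtain ⟨X, _, _, hf, hp, e⟩ := GrothLib.Hensel.exists_projective_lift I (E.X i)
    exact ⟨ModuleCat.of R X, ⟨hf, hp⟩, e⟩
  obtain ⟨P, b', hPb, hP, hPK, ⟨eP⟩⟩ := GrothLib.DR.exists_representative_lift (I := I)
    (Pc := GrothLib.DR.finProj R) (fun X hX => hX.2) GrothLib.DR.finProj_iff
    (fun X Y f _ hY h => haveI := hY.1; GrothLib.DR.surjective_of_jacobson hI f.hom h) K hQc hQ eQ hEb hlift eE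
  refine ⟨P, b', hPb, hP, hPK, ⟨eP⟩, fun i hi => ?_⟩
  haveI := (hP i).1
  haveI := (hP i).2
  exact GrothLib.DR.free_of_jacobson hI (P.X i)
    (haveI : Module.Free (R ⧸ I) ((HomologicalComplex.eval (ModuleCat.{u} (R ⧸ I)) (ComplexShape.up ℤ) i).obj E) := hi
     Module.Free.of_equiv ((HomologicalComplex.eval _ _ i).mapIso eP).toLinearEquiv.symm)

end Groth.Agent.S6973
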