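import Groth.Statements.S6975
import Groth.Agent.Lib.DCxRing.Fibres

set_option autoImplicit false
universe u
open CategoryTheory CategoryTheory.Limits
attribute [local instance] HasDerivedCategory.standard
open DRing

namespace Groth.Agent.S6975

/-- Let R be a local commutative ring with residue field κ such that the derived base change D(R) → D(κ)
exists, and let K be a pseudo-coherent object of D(R). If there is an integer a with H^i(K ⊗^L_R κ)
= 0 for all i < a, then K is perfect. -/
theorem result (R : Type u) [CommRing R] [IsLocalRing R]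
    [DRing.HasLBaseChange (IsLocalRing.residue R)] (K : Dual.D R) (hK : DRing.IsPseudoCoherent' R K) (a : ℤ)
    (h : ∀ i : ℤ, i < a → Subsingleton (Dual.HD (IsLocalRing.ResidueField R)
      ((DRing.LBaseChange (IsLocalRing.residue R)).obj K) i)) :
    DRing.IsPerfect R K := by
  obtain ⟨E, b, hEb, hEf, eE⟩ := hK
  refine (GrothLib.DR.hasTorAmplitudeIn_of_fibres K ⟨E, b, hEb, hEf, eE⟩ a b fun P hP e m hm i hi => ?_).1
  obtain rfl : m = IsLocalRing.maximalIdeal R := IsLocalRing.eq_maximalIdeal hm
  rcases hi with hi | hi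
  · exact GrothLib.DR.exactAt_bc_of_lBase (IsLocalRing.residue R) hP e i (h i hi)
  · have hE' : GrothLib.KF.IsKFlat E := GrothLib.KF.isKFlat_of_vanishesAbove hEb
      (GrothLib.DR.termwiseFlat_of_projective fun j => GrothLib.DR.projective_of_finiteFree hEf j)
    haveI := GrothLib.KF.hasLBaseChange (Ideal.Quotient.mk (IsLocalRing.maximalIdeal R))
    obtain ⟨eE'⟩ := GrothLib.KF.lBase_value (Ideal.Quotient.mk (IsLocalRing.maximalIdeal R)) hE'
    refine GrothLib.DR.exactAt_bc_of_lBase (Ideal.Quotient.mk (IsLocalRing.maximalIdeal R)) hP e i ?_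
    refine GrothLib.DR.subsingleton_HD_of_iso (eE'.symm ≪≫
      (DRing.LBaseChange (Ideal.Quotient.mk (IsLocalRing.maximalIdeal R))).mapIso eE.some) i
      ((GrothLib.DR.exactAt_iff _ i).1 ?_)
    exact ShortComplex.exact_of_isZero_X₂ _ ((ModuleCat.extendScalars _).map_isZero (hEb i hi))

end Groth.Agent.S6975
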