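import Groth.Statements.S6980
import Groth.Agent.Lib.DCxRing.CompactDevissage

set_option autoImplicit false
universe u
open CategoryTheory CategoryTheory.Limits
attribute [local instance] HasDerivedCategory.standard
open DRing

namespace Groth.Agent.S6980

/-- Let R be a commutative ring, I and J ideals of R such that the derived base changes D(R) → D(R/I),
D(R/J), D(R/IJ) exist, and K an object of D(R). If K ⊗^L_R R/I is perfect in D(R/I) and K ⊗^L_R R/J
is perfect in D(R/J), then K ⊗^L_R R/IJ is perfect in D(R/IJ). -/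
theorem result (R : Type u) [CommRing R] (I J : Ideal R)
    [DRing.HasLBaseChange (Ideal.Quotient.mk I)] [DRing.HasLBaseChange (Ideal.Quotient.mk J)]
    [DRing.HasLBaseChange (Ideal.Quotient.mk (I * J))] (K : Dual.D R)
    (hI : DRing.IsPerfect (R ⧸ I) ((DRing.LBaseChange (Ideal.Quotient.mk I)).obj K))
    (hJ : DRing.IsPerfect (R ⧸ J) ((DRing.LBaseChange (Ideal.Quotient.mk J)).obj K)) :
    DRing.IsPerfect (R ⧸ (I * J)) ((DRing.LBaseChange (Ideal.Quotient.mk (I * J))).obj K) := by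
  let π := Ideal.Quotient.mk (I * J)
  let ψ₁ : R ⧸ (I * J) →+* R ⧸ I := Ideal.Quotient.factor (Ideal.mul_le_left : I * J ≤ I)
  let ψ₂ : R ⧸ (I * J) →+* R ⧸ J := Ideal.Quotient.factor (Ideal.mul_le_right : I * J ≤ J)
  haveI := GrothLib.KF.hasLBaseChange ψ₁
  haveI := GrothLib.KF.hasLBaseChange ψ₂
  have e₁ : Ideal.Quotient.mk I = ψ₁.comp π := (Ideal.Quotient.factor_comp_mk _).symm
  have e₂ : Ideal.Quotient.mk J = ψ₂.comp π := (Ideal.Quotient.factor_comp_mk _).symm
  obtain ⟨i₁⟩ := GrothLib.DR.nonempty_lBase_comp π ψ₁ _ e₁ K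
  obtain ⟨i₂⟩ := GrothLib.DR.nonempty_lBase_comp π ψ₂ _ e₂ K
  refine GrothLib.DR.isPerfect_of_two_quotients ψ₁ ψ₂ (Ideal.Quotient.factor_surjective _)
    (Ideal.Quotient.factor_surjective _) ?_
    (GrothLib.DR.isPerfect_of_iso i₁.symm hI) (GrothLib.DR.isPerfect_of_iso i₂.symm hJ)
  rw [Ideal.Quotient.factor_ker, Ideal.Quotient.factor_ker, ← Ideal.map_mul, Ideal.mul_comm]
  exact Ideal.map_quotient_self _

end Groth.Agent.S6980
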