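import Groth.Statements.S6981
import Groth.Agent.Lib.DCxRing.Restrict
import Mathlib.Algebra.Polynomial.Div
import Mathlib.Algebra.Polynomial.Eval.Coeff

set_option autoImplicit false
universe u
open CategoryTheory CategoryTheory.Limits
attribute [local instance] HasDerivedCategory.standard
open DRing

namespace Groth.Agent.S6981

/-- Let R be a commutative ring, K an object of D(R), m an integer, and R[x] → R the R-algebra
homomorphism sending x to 0. Then K is m-pseudo-coherent over R if and only if K, regarded as an
object of D(R[x]) by restriction of scalars along this map, is m-pseudo-coherent over R[x]. -/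
theorem result (R : Type u) [CommRing R] (K : Dual.D R)
    (m : ℤ) :
    DRing.IsPseudoCoherent R m K ↔
      DRing.IsPseudoCoherent (Polynomial R) m ((DRing.restrictD (Polynomial.evalRingHom (0 : R))).obj K) := by
  refine GrothLib.DR.isPseudoCoherent_restrictD_iff ?_ K m
  let F := (ModuleCat.restrictScalars.{u} (Polynomial.evalRingHom (0 : R))).obj (ModuleCat.of R R)
  let mulX : Polynomial R →ₗ[Polynomial R] Polynomial R := LinearMap.mulLeft (Polynomial R) Polynomial.X
  let ev : Polynomial R →ₗ[Polynomial R] F :=
    { toFun := fun p => (Polynomial.eval 0 p : R)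
      map_add' := fun p q => (Polynomial.eval_add :
        Polynomial.eval (0 : R) (p + q) = Polynomial.eval (0 : R) p + Polynomial.eval (0 : R) q)
      map_smul' := fun p q => (Polynomial.eval_mul :
        Polynomial.eval (0 : R) (p * q) = Polynomial.eval (0 : R) p * Polynomial.eval (0 : R) q) }
  have hex : Function.Exact mulX ev := by
    intro p
    constructor
    · intro hp
      have h0 : p.coeff 0 = 0 := by
        rw [Polynomial.coeff_zero_eq_eval_zero]; exact hp
      obtain ⟨q, rfl⟩ := Polynomial.X_dvd_iff.2 h0
      exact ⟨q, rfl⟩
    · rintro ⟨q, rfl⟩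
      show Polynomial.eval 0 (Polynomial.X * q) = 0
      simp
  let S := ShortComplex.mk (ModuleCat.ofHom mulX) (ModuleCat.ofHom ev)
    (ModuleCat.hom_ext hex.linearMap_comp_eq_zero)
  have hS : S.ShortExact :=
    { exact := (ShortComplex.ShortExact.moduleCat_exact_iff_function_exact _).2 hex
      mono_f := (ModuleCat.mono_iff_injective _).2 (show Function.Injective mulX from fun p q hpq =>
        (Polynomial.monic_X.isRegular).left hpq)
      epi_g := (ModuleCat.epi_iff_surjective _).2 (show Function.Surjective ev from fun r =>
        ⟨Polynomial.C (R := R) r, Polynomial.eval_C (R := R)⟩) }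
  exact (GrothLib.DR.isPseudoCoherent'_of_shortExact hS).1
    (GrothLib.DR.isPseudoCoherentModule'_of_finite_free (Polynomial R))
    (GrothLib.DR.isPseudoCoherentModule'_of_finite_free (Polynomial R))

end Groth.Agent.S6981
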