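import Groth.Statements.S6982
import Groth.Agent.Lib.DCxRing.FibreAmp
import Mathlib.Algebra.Homology.Linear
import Mathlib.Algebra.Homology.DerivedCategory.ShortExact


set_option autoImplicit false
universe u
open CategoryTheory CategoryTheory.Limits
attribute [local instance] HasDerivedCategory.standard
open DRing

namespace Groth.Agent.S6982

open scoped TensorProduct Polynomial

variable {R : Type u} [CommRing R]

/-- `R[X] ⊗ M → M`, evaluation at `0`. -/
noncomputable def evalMap (M : ModuleCat.{u} R) :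
    (ModuleCat.extendScalars.{u, u, u} (Polynomial.C : R →+* R[X])).obj M ⟶
      (ModuleCat.restrictScalars (Polynomial.evalRingHom (0 : R))).obj M :=
  ((ModuleCat.extendRestrictScalarsAdj (Polynomial.C : R →+* R[X])).homEquiv M _).symm
    (ModuleCat.ofHom (X := M) (Y := (ModuleCat.restrictScalars (Polynomial.C : R →+* R[X])).obj
        ((ModuleCat.restrictScalars (Polynomial.evalRingHom (0 : R))).obj M))
      { toFun := fun m => m
        map_add' := fun _ _ => rfl
        map_smul' := fun r m => by
          show r • m = Polynomial.evalRingHom (0 : R) (Polynomial.C r) • m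
          simp })

lemma evalMap_tmul (M : ModuleCat.{u} R) (p : R[X]) (m : M) :
    letI := (Polynomial.C : R →+* R[X]).toAlgebra
    letI : Module R R[X] := (Polynomial.C : R →+* R[X]).toAlgebra.toModule
    (evalMap M).hom (p ⊗ₜ[R] m) = (p.eval 0 • m : M) := rfl

lemma evalMap_natural {M N : ModuleCat.{u} R} (g : M ⟶ N) :
    (ModuleCat.extendScalars.{u, u, u} (Polynomial.C : R →+* R[X])).map g ≫ evalMap N =
      evalMap M ≫ (ModuleCat.restrictScalars (Polynomial.evalRingHom (0 : R))).map g := by
  refine ModuleCat.ExtendScalars.hom_ext fun m => ?_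
  letI := (Polynomial.C : R →+* R[X]).toAlgebra
  letI : Module R R[X] := (Polynomial.C : R →+* R[X]).toAlgebra.toModule
  change (evalMap N).hom ((1 : R[X]) ⊗ₜ[R] g.hom m) = g.hom ((evalMap M).hom ((1 : R[X]) ⊗ₜ[R] m))
  erw [evalMap_tmul, evalMap_tmul, map_smul]

/-- `0 → P[X] → P[X] → P → 0`. -/
noncomputable def ses (P : DRing.Cx R) : ShortComplex (DRing.Cx R[X]) where
  X₁ := (GrothLib.DR.bc (Polynomial.C : R →+* R[X])).obj P
  X₂ := (GrothLib.DR.bc (Polynomial.C : R →+* R[X])).obj P
  X₃ := (DRing.restrictCx (Polynomial.evalRingHom (0 : R))).obj P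
  f := (Polynomial.X : R[X]) • 𝟙 _
  g := { f := fun i => evalMap (P.X i), comm' := fun i j _ => (evalMap_natural (P.d i j)).symm }
  zero := by
    ext i : 1
    refine ModuleCat.hom_ext (LinearMap.ext fun z => ?_)
    refine ((evalMap (P.X i)).hom.map_smul (Polynomial.X : R[X]) z).trans ?_
    show Polynomial.evalRingHom (0 : R) Polynomial.X • (show P.X i from (evalMap (P.X i)).hom z) = 0
    simp

lemma shortExact_ses (P : DRing.Cx R) : (ses P).ShortExact := by
  refine HomologicalComplex.shortExact_of_degreewise_shortExact _ fun i => ?_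
  letI alg : Algebra R R[X] := (Polynomial.C : R →+* R[X]).toAlgebra
  letI : Module R R[X] := (Polynomial.C : R →+* R[X]).toAlgebra.toModule
  letI : DistribMulAction R R[X] := (Polynomial.C : R →+* R[X]).toAlgebra.toModule.toDistribMulAction
  letI : SMul R R[X] := (Polynomial.C : R →+* R[X]).toAlgebra.toSMul
  haveI : IsScalarTower R R R[X] := ⟨fun a b x => mul_smul a b x⟩
  let T := (ModuleCat.extendScalars.{u, u, u} (Polynomial.C : R →+* R[X])).obj (P.X i)
  let D : R[X] →ₗ[R] R[X] :=
    { toFun := Polynomial.divX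
      map_add' := fun _ _ => Polynomial.divX_add
      map_smul' := fun r p => by
        show Polynomial.divX (Polynomial.C r * p) = Polynomial.C r * Polynomial.divX p
        exact Polynomial.divX_C_mul }
  let D' := D.rTensor (P.X i)
  have hs : ∀ (p : R[X]) (m : P.X i) (q : R[X]), q • (p ⊗ₜ[R] m : R[X] ⊗[R] P.X i) = (q * p) ⊗ₜ[R] m :=
    fun p m q => rfl
  have h1 : ∀ z : R[X] ⊗[R] P.X i, D' ((Polynomial.X : R[X]) • z) = z := fun z => by
    induction z using TensorProduct.induction_on with
    | zero => simp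
    | tmul p m => simp only [hs, D', LinearMap.rTensor_tmul]; show Polynomial.divX (Polynomial.X * p) ⊗ₜ[R] m = p ⊗ₜ[R] m; rw [show Polynomial.divX (Polynomial.X * p) = p from Polynomial.ext fun n => by rw [Polynomial.coeff_divX, Polynomial.coeff_X_mul]]
    | add x y hx hy => rw [smul_add, map_add, hx, hy]
  have h2 : ∀ z : R[X] ⊗[R] P.X i, z = (Polynomial.X : R[X]) • D' z + (1 : R[X]) ⊗ₜ[R] (show P.X i from (evalMap (P.X i)).hom z) := fun z => by
    induction z using TensorProduct.induction_on with
    | zero =>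
      erw [map_zero, map_zero, TensorProduct.tmul_zero]
      simp
    | tmul p m =>
      erw [evalMap_tmul]
      rw [LinearMap.rTensor_tmul, hs, ← TensorProduct.smul_tmul, ← TensorProduct.add_tmul]
      congr 1
      show p = Polynomial.X * Polynomial.divX p + Polynomial.C (p.eval 0) * 1
      rw [mul_one, ← Polynomial.coeff_zero_eq_eval_zero, Polynomial.X_mul_divX_add]
    | add x y hx hy =>
      erw [map_add, map_add, smul_add, TensorProduct.tmul_add]
      conv_lhs => rw [hx, hy]
      abel
  refine ShortComplex.ShortExact.mk' ((ShortComplex.moduleCat_exact_iff _).2 fun z hz => ⟨D' z, ?_⟩)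
    ((ModuleCat.mono_iff_injective _).2 fun x y h => (h1 x).symm.trans ((congrArg D' h).trans (h1 y)))
    ((ModuleCat.epi_iff_surjective _).2 fun m => ⟨(1 : R[X]) ⊗ₜ[R] m, ?_⟩)
  · show (Polynomial.X : R[X]) • D' z = z
    have hz' : (show P.X i from (evalMap (P.X i)).hom z) = 0 := hz
    conv_rhs => rw [h2 z]
    erw [hz', TensorProduct.tmul_zero, add_zero]
  · show (evalMap (P.X i)).hom ((1 : R[X]) ⊗ₜ[R] m) = m
    erw [evalMap_tmul]
    simp

lemma map_mulX (P : DRing.Cx R) :
    ((ModuleCat.extendScalars (Polynomial.evalRingHom (0 : R))).mapHomologicalComplex (ComplexShape.up ℤ)).map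
      (ses P).f = 0 := by
  refine HomologicalComplex.hom_ext _ _ fun i => ModuleCat.ExtendScalars.hom_ext fun m => ?_
  letI := (Polynomial.evalRingHom (0 : R)).toAlgebra
  show (1 : R) ⊗ₜ[R[X]] ((Polynomial.X : R[X]) • m) = 0
  rw [← TensorProduct.smul_tmul]
  have : (Polynomial.X : R[X]) • (1 : R) = 0 := by
    show Polynomial.evalRingHom (0 : R) Polynomial.X * 1 = 0
    simp
  rw [this, TensorProduct.zero_tmul]

/-- `(P[X])` evaluated at `0` is `P`. -/
noncomputable def evalExtendIso (P : DRing.Cx R) :
    (GrothLib.DR.bc (Polynomial.evalRingHom (0 : R))).obj ((GrothLib.DR.bc (Polynomial.C : R →+* R[X])).obj P) ≅ P :=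
  let e : ModuleCat.extendScalars.{u, u, u} (Polynomial.C : R →+* R[X]) ⋙
      ModuleCat.extendScalars.{u, u, u} (Polynomial.evalRingHom (0 : R)) ≅ 𝟭 (ModuleCat.{u} R) :=
    (ModuleCat.extendScalarsComp _ _).symm ≪≫
      eqToIso (by rw [show (Polynomial.evalRingHom (0 : R)).comp Polynomial.C = RingHom.id R from RingHom.ext fun r => by simp]) ≪≫
      ModuleCat.extendScalarsId R
  HomologicalComplex.Hom.isoOfComponents (fun i => e.app (P.X i)) fun i j _ => (e.hom.naturality (P.d i j)).symm


/-- Let R be a commutative ring, K an object of D(R) and φ : R[x] → R the R-algebra homomorphism sending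
x to 0; assume the derived base change D(R[x]) → D(R) along φ exists. Then the derived base change
along φ of K (regarded as an object of D(R[x]) via φ) is isomorphic in D(R) to K ⊕ K[1]. -/
theorem result (R : Type u) [CommRing R]
    [DRing.HasLBaseChange (Polynomial.evalRingHom (0 : R))] (K : Dual.D R)
    [HasBinaryBiproduct K ((shiftFunctor (Dual.D R) (1 : ℤ)).obj K)] :
    Nonempty ((DRing.LBaseChange (Polynomial.evalRingHom (0 : R))).obj
        ((DRing.restrictD (Polynomial.evalRingHom (0 : R))).obj K) ≅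
      K ⊞ (shiftFunctor (Dual.D R) (1 : ℤ)).obj K) := by
  obtain ⟨P, hP, hPf, ⟨eK⟩⟩ := GrothLib.KF.exists_kflat_rep K
  let φ := Polynomial.evalRingHom (0 : R)
  let E0 := (GrothLib.DR.bc (Polynomial.C : R →+* Polynomial R)).obj P
  have hS : (ses P).ShortExact := shortExact_ses P
  haveI := CochainComplex.mappingCone.quasiIso_descShortComplex hS
  let E := CochainComplex.mappingCone (ses P).f
  have hE : GrothLib.KF.IsKFlat E :=
    GrothLib.KF.isKFlat_mappingCone _ (GrothLib.KF.isKFlat_bc _ hP) (GrothLib.KF.isKFlat_bc _ hP)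
  let eE : DRing.toD E ≅ (DRing.restrictD φ).obj K :=
    asIso (DerivedCategory.Q.map (CochainComplex.mappingCone.descShortComplex (ses P))) ≪≫
      (GrothLib.DR.restrictToDIso φ P).symm ≪≫ (DRing.restrictD φ).mapIso eK
  obtain ⟨e1⟩ := GrothLib.KF.lBase_value φ hE
  let f' := ((ModuleCat.extendScalars φ).mapHomologicalComplex (ComplexShape.up ℤ)).map (ses P).f
  let e2 : DRing.toD ((GrothLib.DR.bc φ).obj E) ≅ DRing.toD (CochainComplex.mappingCone f') :=
    DerivedCategory.Q.mapIso (CochainComplex.mappingCone.mapHomologicalComplexIso (ses P).f (ModuleCat.extendScalars φ))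
  let T := DerivedCategory.Q.mapTriangle.obj (CochainComplex.mappingCone.triangle f')
  have hT : T.rotate ∈ distTriang (Dual.D R) :=
    Pretriangulated.rot_of_distTriang _ (DerivedCategory.mappingCone_triangle_distinguished f')
  have h0 : T.rotate.mor₃ = 0 := by
    show -((shiftFunctor (Dual.D R) (1 : ℤ)).map (DerivedCategory.Q.map f')) = 0
    rw [show f' = 0 from map_mulX P, Functor.map_zero, Functor.map_zero, neg_zero]
  obtain ⟨e3, -, -⟩ := Pretriangulated.exists_iso_binaryBiproduct_of_distTriang _ hT h0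
  let eP : DRing.toD ((GrothLib.DR.bc φ).obj E0) ≅ K := DerivedCategory.Q.mapIso (evalExtendIso P) ≪≫ eK
  exact ⟨(DRing.LBaseChange φ).mapIso eE.symm ≪≫ e1 ≪≫ e2 ≪≫ e3 ≪≫
    biprod.mapIso eP ((shiftFunctor (Dual.D R) (1 : ℤ)).mapIso eP)⟩

end Groth.Agent.S6982
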