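import Groth.Statements.S6984
import Groth.Agent.Lib.RelPC.Basic

set_option autoImplicit false
universe u
open CategoryTheory CategoryTheory.Limits
attribute [local instance] HasDerivedCategory.standard
open DerCA

namespace Groth.Agent.S6984

/-- Let R be a commutative ring, A → B a finite homomorphism of finite type R-algebras, K an object of
D(B) and m an integer. Then K is m-pseudo-coherent relative to R over B if and only if K, with
scalars restricted to A, is m-pseudo-coherent relative to R over A; and K is pseudo-coherent
relative to R over B if and only if its restriction to A is pseudo-coherent relative to R. -/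
theorem result {R A B : Type u} [CommRing R] [CommRing A] [CommRing B]
    [Algebra R A] [Algebra A B] [Algebra R B] [IsScalarTower R A B] [Algebra.FiniteType R A]
    [Algebra.FiniteType R B] [Module.Finite A B] (K : Dual.D B) (m : ℤ) :
    (DerCA.IsRelPseudoCoherent R B m K ↔
      DerCA.IsRelPseudoCoherent R A m ((DRing.restrictD (algebraMap A B)).obj K)) ∧
      (DerCA.IsRelPseudoCoherentAll R B K ↔
        DerCA.IsRelPseudoCoherentAll R A ((DRing.restrictD (algebraMap A B)).obj K)) := by
  exact ⟨GrothLib.RelPC.rel_restrict_iff_of_finite K m,
    forall_congr' fun k => GrothLib.RelPC.rel_restrict_iff_of_finite K k⟩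

end Groth.Agent.S6984
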