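import Groth.Statements.S6985
import Groth.Agent.Lib.RelPC.MapPoly

set_option autoImplicit false
universe u
open CategoryTheory CategoryTheory.Limits
attribute [local instance] HasDerivedCategory.standard
open DerCA

namespace Groth.Agent.S6985

/-- Let R be a commutative ring and A → B a homomorphism of finite type R-algebras such that A, as an
A-module, is pseudo-coherent relative to R. Let K be an object of D(B) and m an integer. Then K is
m-pseudo-coherent relative to A if and only if K is m-pseudo-coherent relative to R; and K is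
pseudo-coherent relative to A if and only if it is pseudo-coherent relative to R. -/
theorem result {R A B : Type u} [CommRing R] [CommRing A]
    [CommRing B] [Algebra R A] [Algebra A B] [Algebra R B] [IsScalarTower R A B] [Algebra.FiniteType R A]
    [Algebra.FiniteType R B] [Algebra.FiniteType A B] (hA : DerCA.IsRelPseudoCoherentModuleAll R A A)
    (K : Dual.D B) (m : ℤ) :
    (DerCA.IsRelPseudoCoherent A B m K ↔ DerCA.IsRelPseudoCoherent R B m K) ∧
      (DerCA.IsRelPseudoCoherentAll A B K ↔ DerCA.IsRelPseudoCoherentAll R B K) := by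
  obtain ⟨n, α, hα⟩ := GrothLib.RelPC.exists_pres (R := R) (A := A)
  obtain ⟨k, β, hβ⟩ := GrothLib.RelPC.exists_pres (R := A) (A := B)
  obtain ⟨γ, e, hγ, hcomp⟩ := GrothLib.RelPC.exists_pres_comp α hα β hβ
  have key : ∀ j : ℤ, DerCA.IsRelPseudoCoherent A B j K ↔ DerCA.IsRelPseudoCoherent R B j K := fun j => by
    rw [GrothLib.RelPC.rel_iff β hβ, GrothLib.RelPC.rel_iff γ hγ]
    exact ((GrothLib.RelPC.pc_restrict_comp (GrothLib.RelPC.ringPC_equiv e) hcomp K j).trans
      (GrothLib.RelPC.pc_restrict_comp (GrothLib.RelPC.ringPC_map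
        (GrothLib.RelPC.ringPC_of_relPC_self hA α hα) (Fin k)) rfl K j)).symm
  exact ⟨key m, forall_congr' key⟩

end Groth.Agent.S6985
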