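import Groth.Statements.S6986
import Groth.Agent.Lib.RelPC.BaseChange

set_option autoImplicit false
universe u
open CategoryTheory CategoryTheory.Limits
attribute [local instance] HasDerivedCategory.standard
open DerCA

namespace Groth.Agent.S6986

/-- Let R → A → B be finite type homomorphisms of commutative rings such that B, as a B-module, is
pseudo-coherent relative to A, and assume the derived base change D(A) → D(B) exists. Let K be an
object of D(A) and m an integer. If K is m-pseudo-coherent relative to R, then K ⊗^L_A B is
m-pseudo-coherent relative to R; if K is pseudo-coherent relative to R, so is K ⊗^L_A B. -/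
theorem result {R A B : Type u} [CommRing R]
    [CommRing A] [CommRing B] [Algebra R A] [Algebra A B] [Algebra R B] [IsScalarTower R A B]
    [Algebra.FiniteType R A] [Algebra.FiniteType A B] (hB : DerCA.IsRelPseudoCoherentModuleAll A B B)
    [DRing.HasLBaseChange (algebraMap A B)] (K : Dual.D A) (m : ℤ) :
    (DerCA.IsRelPseudoCoherent R A m K →
      DerCA.IsRelPseudoCoherent R B m ((DRing.LBaseChange (algebraMap A B)).obj K)) ∧
      (DerCA.IsRelPseudoCoherentAll R A K →
        DerCA.IsRelPseudoCoherentAll R B ((DRing.LBaseChange (algebraMap A B)).obj K)) := by
  exact ⟨GrothLib.RelPC.rel_lBaseChange hB K m, fun h k => GrothLib.RelPC.rel_lBaseChange hB K k (h k)⟩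

end Groth.Agent.S6986
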