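import Groth.Statements.S6988
import Groth.Agent.Lib.DCxRing.ToSingle

set_option autoImplicit false
universe u
open CategoryTheory CategoryTheory.Limits
attribute [local instance] HasDerivedCategory.standard
open DRing

namespace Groth.Agent.S6988

/-- Let R be a commutative ring, K a pseudo-coherent object of D(R) and i an integer. Then some finitely
presented R-module M admits a morphism K → M[-i] in D(R) that is injective on H^i (here H^i(M[-i]) =
M). -/
theorem result (R : Type u) [CommRing R] (K : Dual.D R)
    (hK : DRing.IsPseudoCoherent' R K) (i : ℤ) :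
    ∃ (M : Type u) (_ : AddCommGroup M) (_ : Module R M) (_ : Module.FinitePresentation R M)
      (f : K ⟶ (shiftFunctor (Dual.D R) (-i)).obj (Dual.inD R M)),
      Mono ((DerivedCategory.homologyFunctor (ModuleCat.{u} R) i).map f) := by
  obtain ⟨E, b, hEb, hEf, ⟨e⟩⟩ := hK
  haveI : ∀ j, Module.Finite R (E.X j) := fun j => (hEf j).1
  haveI : ∀ j, Module.Free R (E.X j) := fun j => (hEf j).2
  let Q := LinearMap.range (E.d (i - 1) i).hom
  haveI : Module.FinitePresentation R (E.X i) := Module.finitePresentation_of_projective R (E.X i)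
  haveI hfp : Module.FinitePresentation R (E.X i ⧸ Q) :=
    Module.finitePresentation_of_surjective Q.mkQ Q.mkQ_surjective (by
      rw [Submodule.ker_mkQ]
      change (LinearMap.range (E.d (i - 1) i).hom).FG
      rw [LinearMap.range_eq_map]
      exact Submodule.FG.map _ Module.Finite.fg_top)
  have hg : ∀ w, Q.mkQ ((E.d (i - 1) i).hom w) = 0 := fun w => (Submodule.Quotient.mk_eq_zero _).2 ⟨w, rfl⟩
  refine ⟨E.X i ⧸ Q, inferInstance, inferInstance, hfp, e.inv ≫ GrothLib.DR.toSingleD E i Q.mkQ hg, ?_⟩
  let H := DerivedCategory.homologyFunctor (ModuleCat.{u} R) i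
  rw [Functor.map_comp, ModuleCat.mono_iff_injective, injective_iff_map_eq_zero]
  intro x hx
  obtain ⟨y, rfl⟩ := (ConcreteCategory.bijective_of_isIso (H.map e.hom)).2 x
  rw [← ConcreteCategory.comp_apply, ← Functor.map_comp_assoc, e.hom_inv_id, CategoryTheory.Functor.map_id,
    Category.id_comp] at hx
  obtain ⟨z, rfl⟩ := (ConcreteCategory.bijective_of_isIso (GrothLib.DR.homologyIso E i).inv).2 y
  obtain ⟨c, rfl⟩ := (ModuleCat.epi_iff_surjective (E.homologyπ i)).1 inferInstance z
  have h0 := (GrothLib.DR.toSingleD_homology_iff E i Q.mkQ hg c).1 hx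
  obtain ⟨w, hw⟩ := (Submodule.Quotient.mk_eq_zero Q).1 h0
  have : E.homologyπ i c = 0 := by
    have hc : c = E.toCycles (i - 1) i w := (ModuleCat.mono_iff_injective (E.iCycles i)).1 inferInstance (by
      rw [← hw]
      exact (ConcreteCategory.congr_hom (E.toCycles_i (i - 1) i) w).symm)
    rw [hc]
    exact ConcreteCategory.congr_hom (E.toCycles_comp_homologyπ (i - 1) i) w
  rw [this, map_zero, map_zero]

end Groth.Agent.S6988
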