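import Groth.Statements.S6989
import Groth.Agent.Lib.DCxRing.ToSingle
import Groth.Agent.Lib.DCxRing.Homology
import Mathlib.RingTheory.Filtration

set_option autoImplicit false
universe u
open CategoryTheory CategoryTheory.Limits
attribute [local instance] HasDerivedCategory.standard
open DRing

namespace Groth.Agent.S6989

/-- Let A be a Noetherian commutative ring, K an object of D(A) whose cohomology vanishes in large
degrees and whose cohomology modules are all finitely generated, m a maximal ideal of A and i an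
integer such that m H^i(K) ≠ H^i(K). Then some finitely generated A-module E killed by a power of m
receives a morphism K → E[-i] in D(A) whose induced map H^i(K) → H^i(E[-i]) is nonzero. -/
theorem result (A : Type u) [CommRing A]
    [IsNoetherianRing A] (K : Dual.D A) (hb : ∃ b : ℤ, ∀ j : ℤ, b < j → Subsingleton (Dual.HD A K j))
    (hfin : ∀ j : ℤ, Module.Finite A (Dual.HD A K j)) (m : Ideal A) [m.IsMaximal] (i : ℤ)
    (hi : m • (⊤ : Submodule A (Dual.HD A K i)) ≠ ⊤) :
    ∃ (E : Type u) (_ : AddCommGroup E) (_ : Module A E) (_ : Module.Finite A E) (n : ℕ)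
      (_ : m ^ n • (⊤ : Submodule A E) = ⊥) (f : K ⟶ (shiftFunctor (Dual.D A) (-i)).obj (Dual.inD A E)),
      (DerivedCategory.homologyFunctor (ModuleCat.{u} A) i).map f ≠ 0 := by
  obtain ⟨E, b, hEb, hEf, ⟨e⟩⟩ := (GrothLib.DR.isPseudoCoherent'_iff_of_coherent (fun I hI => by
    haveI := Module.Finite.of_fg hI
    exact Module.finitePresentation_of_finite A I) K hb).2 fun j => by
      haveI := hfin j
      exact Module.finitePresentation_of_finite A _
  haveI : ∀ j, Module.Finite A (E.X j) := fun j => (hEf j).1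
  let Q := LinearMap.range (E.d (i - 1) i).hom
  let H := DerivedCategory.homologyFunctor (ModuleCat.{u} A) i
  let ι : E.homology i →ₗ[A] Dual.HD A K i :=
    ((GrothLib.DR.homologyIso E i).symm ≪≫ H.mapIso e).toLinearEquiv.toLinearMap
  have hι : Function.Bijective ι := ((GrothLib.DR.homologyIso E i).symm ≪≫ H.mapIso e).toLinearEquiv.bijective
  let j : E.cycles i →ₗ[A] E.X i ⧸ Q := Q.mkQ.comp (E.iCycles i).hom
  let p : E.cycles i →ₗ[A] Dual.HD A K i := ι.comp (E.homologyπ i).hom
  have hp : Function.Surjective p := hι.2.comp ((ModuleCat.epi_iff_surjective (E.homologyπ i)).1 inferInstance)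
  obtain ⟨k, hk⟩ := Ideal.exists_pow_inf_eq_pow_smul m (LinearMap.range j)
  let P : Submodule A (E.X i ⧸ Q) := m ^ (k + 1) • ⊤
  have hkey : ∀ c, j c ∈ P → p c ∈ m • (⊤ : Submodule A (Dual.HD A K i)) := by
    intro c hc
    have h1 : j c ∈ (m ^ 1 • (m ^ k • ⊤ ⊓ LinearMap.range j) : Submodule A (E.X i ⧸ Q)) := by
      have := hk (k + 1) (by omega)
      rw [Nat.add_sub_cancel_left] at this
      rw [← this]
      exact ⟨hc, ⟨c, rfl⟩⟩
    have h2 : (m ^ 1 • (m ^ k • ⊤ ⊓ LinearMap.range j) : Submodule A (E.X i ⧸ Q)) ≤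
        (m • (⊤ : Submodule A (E.cycles i))).map j := by
      rw [Submodule.map_smul'', Submodule.map_top, pow_one]
      exact Submodule.smul_mono le_rfl inf_le_right
    obtain ⟨c', hc', he⟩ := h2 h1
    have hcc : p c = p c' := by
      have h3 : Q.mkQ (E.iCycles i (c - c')) = 0 := by
        rw [map_sub, map_sub]
        exact sub_eq_zero.2 he.symm
      obtain ⟨w, hw⟩ := (Submodule.Quotient.mk_eq_zero Q).1 h3
      have hc3 : c - c' = E.toCycles (i - 1) i w :=
        (ModuleCat.mono_iff_injective (E.iCycles i)).1 inferInstance (by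
          rw [← hw]
          exact (ConcreteCategory.congr_hom (E.toCycles_i (i - 1) i) w).symm)
      have hz : E.homologyπ i (c - c') = 0 := by
        rw [hc3]
        exact ConcreteCategory.congr_hom (E.toCycles_comp_homologyπ (i - 1) i) w
      rw [← sub_eq_zero, ← map_sub]
      exact (congrArg ι hz).trans (map_zero ι)
    rw [hcc]
    have h4 : p c' ∈ (m • (⊤ : Submodule A (E.cycles i))).map p := ⟨c', hc', rfl⟩
    rw [Submodule.map_smul'', Submodule.map_top] at h4
    exact Submodule.smul_mono le_rfl le_top h4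
  let g : E.X i →ₗ[A] (E.X i ⧸ Q) ⧸ P := P.mkQ.comp Q.mkQ
  have hg : ∀ w, g ((E.d (i - 1) i).hom w) = 0 := fun w => by
    simp only [g, LinearMap.comp_apply, Submodule.mkQ_apply,
      (Submodule.Quotient.mk_eq_zero Q).2 (LinearMap.mem_range_self (E.d (i - 1) i).hom w),
      Submodule.Quotient.mk_zero]
  refine ⟨(E.X i ⧸ Q) ⧸ P, inferInstance, inferInstance, inferInstance, k + 1, ?_,
    e.inv ≫ GrothLib.DR.toSingleD E i g hg, ?_⟩
  · rw [← Submodule.range_mkQ P, ← Submodule.map_top, ← Submodule.map_smul'', ← LinearMap.le_ker_iff_map,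
      Submodule.ker_mkQ]
  · intro h0
    apply hi
    rw [eq_top_iff]
    intro x _
    obtain ⟨c, rfl⟩ := hp x
    refine hkey c ((Submodule.Quotient.mk_eq_zero P).1 ((GrothLib.DR.toSingleD_homology_iff E i g hg c).1 ?_))
    have h5 := ConcreteCategory.congr_hom h0 (p c)
    rw [Functor.map_comp, ConcreteCategory.comp_apply] at h5
    have h6 : H.map e.inv (p c) = (GrothLib.DR.homologyIso E i).inv (E.homologyπ i c) := by
      change H.map e.inv (H.map e.hom ((GrothLib.DR.homologyIso E i).inv (E.homologyπ i c))) = _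
      rw [← ConcreteCategory.comp_apply, ← Functor.map_comp, e.hom_inv_id, CategoryTheory.Functor.map_id]
      rfl
    rw [← h6]
    exact h5

end Groth.Agent.S6989
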