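import Groth.Statements.S6991
import Groth.Agent.Lib.FlatFP.Syzygy
import Mathlib
-- import your own Groth.Agent.* helpers here

set_option autoImplicit false
universe u
open CAlg

namespace Groth.Agent.S6991

theorem key {R A : Type u} [CommRing R] [CommRing A] [Algebra R A] (M : Type u) [AddCommGroup M] [Module A M]
    {n k : ℕ} (α : MvPolynomial (Fin n) R →ₐ[R] A) (hα : Function.Surjective α)
    (β : MvPolynomial (Fin k) R →ₐ[R] A) (hβ : Function.Surjective β)
    (h : @Module.FinitePresentation (MvPolynomial (Fin n) R) M _ _ (Module.compHom M α.toRingHom)) :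
    @Module.FinitePresentation (MvPolynomial (Fin k) R) M _ _ (Module.compHom M β.toRingHom) := by
  classical
  choose p hp using fun j => hα (β (MvPolynomial.X j))
  choose q hq using fun i => hβ (α (MvPolynomial.X i))
  let γ : MvPolynomial (Fin n ⊕ Fin k) R →ₐ[R] A :=
    MvPolynomial.aeval (Sum.elim (fun i => α (MvPolynomial.X i)) fun j => β (MvPolynomial.X j))
  let πn : MvPolynomial (Fin n ⊕ Fin k) R →ₐ[R] MvPolynomial (Fin n) R :=
    MvPolynomial.aeval (Sum.elim MvPolynomial.X p)
  let πk : MvPolynomial (Fin n ⊕ Fin k) R →ₐ[R] MvPolynomial (Fin k) R :=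
    MvPolynomial.aeval (Sum.elim q MvPolynomial.X)
  have hn : α.comp πn = γ := MvPolynomial.algHom_ext (by rintro (i | j) <;> simp [γ, πn, hp])
  have hk : β.comp πk = γ := MvPolynomial.algHom_ext (by rintro (i | j) <;> simp [γ, πk, hq])
  have hns : Function.Surjective πn := fun x => ⟨MvPolynomial.rename Sum.inl x,
    DFunLike.congr_fun (show πn.comp (MvPolynomial.rename Sum.inl) = AlgHom.id R _ from
      MvPolynomial.algHom_ext (by intro i; simp [πn])) x⟩
  have hks : Function.Surjective πk := fun x => ⟨MvPolynomial.rename Sum.inr x,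
    DFunLike.congr_fun (show πk.comp (MvPolynomial.rename Sum.inr) = AlgHom.id R _ from
      MvPolynomial.algHom_ext (by intro i; simp [πk])) x⟩
  letI : Module (MvPolynomial (Fin n) R) M := Module.compHom M α.toRingHom
  letI : Module (MvPolynomial (Fin k) R) M := Module.compHom M β.toRingHom
  letI : Module (MvPolynomial (Fin n ⊕ Fin k) R) M := Module.compHom M γ.toRingHom
  haveI hfp : Module.FinitePresentation (MvPolynomial (Fin n ⊕ Fin k) R) M := by
    letI : Algebra (MvPolynomial (Fin n ⊕ Fin k) R) (MvPolynomial (Fin n) R) := πn.toRingHom.toAlgebra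
    haveI : IsScalarTower (MvPolynomial (Fin n ⊕ Fin k) R) (MvPolynomial (Fin n) R) M :=
      IsScalarTower.of_algebraMap_smul fun x m => by
        show α (πn x) • m = γ x • m
        rw [← hn]; rfl
    haveI : Module.FinitePresentation (MvPolynomial (Fin n) R) M := h
    haveI : Module.FinitePresentation (MvPolynomial (Fin n ⊕ Fin k) R) (MvPolynomial (Fin n) R) :=
      Module.finitePresentation_of_surjective
        (Algebra.linearMap (MvPolynomial (Fin n ⊕ Fin k) R) (MvPolynomial (Fin n) R)) hns
        (Algebra.FinitePresentation.ker_fG_of_surjective πn hns)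
    exact Module.FinitePresentation.trans (MvPolynomial (Fin n ⊕ Fin k) R) M (MvPolynomial (Fin n) R)
  letI : Algebra (MvPolynomial (Fin n ⊕ Fin k) R) (MvPolynomial (Fin k) R) := πk.toRingHom.toAlgebra
  haveI : IsScalarTower (MvPolynomial (Fin n ⊕ Fin k) R) (MvPolynomial (Fin k) R) M :=
    IsScalarTower.of_algebraMap_smul fun x m => by
      show β (πk x) • m = γ x • m
      rw [← hk]; rfl
  exact GrothLib.FlatFP.finitePresentation_of_surjective_algebraMap hks

/-- Let R → A be a finite type homomorphism of commutative rings, M an A-module, and α : R[x_1, ...,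
x_n] → A, β : R[y_1, ..., y_k] → A surjective R-algebra homomorphisms. Then M is finitely presented
as an R[x_1, ..., x_n]-module through α if and only if M is finitely presented as an R[y_1, ...,
y_k]-module through β. If this holds, M is a finitely presented A-module. -/
theorem result {R A : Type u} [CommRing R] [CommRing A] [Algebra R A]
    [Algebra.FiniteType R A] (M : Type u) [AddCommGroup M] [Module A M] {n k : ℕ}
    (α : MvPolynomial (Fin n) R →ₐ[R] A) (hα : Function.Surjective α)
    (β : MvPolynomial (Fin k) R →ₐ[R] A) (hβ : Function.Surjective β) :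
    (@Module.FinitePresentation (MvPolynomial (Fin n) R) M _ _ (Module.compHom M α.toRingHom) ↔
      @Module.FinitePresentation (MvPolynomial (Fin k) R) M _ _ (Module.compHom M β.toRingHom)) ∧
      (@Module.FinitePresentation (MvPolynomial (Fin n) R) M _ _ (Module.compHom M α.toRingHom) →
        Module.FinitePresentation A M) := by
  classical
  refine ⟨⟨key M α hα β hβ, key M β hβ α hα⟩, fun h => ?_⟩
  letI : Module (MvPolynomial (Fin n) R) M := Module.compHom M α.toRingHom
  letI : Algebra (MvPolynomial (Fin n) R) A := α.toRingHom.toAlgebra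
  haveI : IsScalarTower (MvPolynomial (Fin n) R) A M :=
    IsScalarTower.of_algebraMap_smul fun _ _ => rfl
  haveI : Module.FinitePresentation (MvPolynomial (Fin n) R) M := h
  exact GrothLib.FlatFP.finitePresentation_of_surjective_algebraMap hα

end Groth.Agent.S6991
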