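import Groth.Statements.S6995
import Groth.Agent.Lib.DCxRing.Splitting

set_option autoImplicit false
universe u
open CategoryTheory CategoryTheory.Limits
attribute [local instance] HasDerivedCategory.standard
open DRing

namespace Groth.Agent.S6995

/-- Let R be a Noetherian regular commutative ring of finite Krull dimension d ≥ 1, K a perfect object
of D(R) and k an integer such that H^i(K) = 0 for every i with k - d + 2 ≤ i ≤ k. Then K splits in
D(R) as the direct sum of its canonical truncations: there is an isomorphism K ≅ τ_(≤ k-d+1) K ⊕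
τ_(≥ k+1) K under which the truncation map τ_(≤ k-d+1) K → K becomes the first inclusion and K →
τ_(≥ k+1) K the second projection. -/
theorem result (R : Type u) [CommRing R] [IsNoetherianRing R]
    (hreg : ∀ p : PrimeSpectrum R, IsRegularLocalRing (Localization.AtPrime p.asIdeal)) (d : ℕ) (hd1 : 1 ≤ d)
    (hd : ringKrullDim R = d) (K : Dual.D R) (hK : DRing.IsPerfect R K) (k : ℤ)
    (hgap : ∀ i : ℤ, k - d + 2 ≤ i → i ≤ k → Subsingleton (Dual.HD R K i))
    [HasBinaryBiproduct
      (((DerivedCategory.TStructure.t : Triangulated.TStructure (Dual.D R)).truncLT (k - d + 2)).obj K)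
      (((DerivedCategory.TStructure.t : Triangulated.TStructure (Dual.D R)).truncGE (k + 1)).obj K)] :
    ∃ e : K ≅
      ((DerivedCategory.TStructure.t : Triangulated.TStructure (Dual.D R)).truncLT (k - d + 2)).obj K ⊞
        ((DerivedCategory.TStructure.t : Triangulated.TStructure (Dual.D R)).truncGE (k + 1)).obj K,
      ((DerivedCategory.TStructure.t : Triangulated.TStructure (Dual.D R)).truncLTι (k - d + 2)).app K ≫ e.hom =
          biprod.inl ∧
        e.hom ≫ biprod.snd =
          ((DerivedCategory.TStructure.t : Triangulated.TStructure (Dual.D R)).truncGEπ (k + 1)).app K := by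
  obtain ⟨E, a₀, b₀, hv, -, ⟨eE⟩⟩ := hK
  have hbd : ∀ i, b₀ < i → Subsingleton (Dual.HD R K i) := fun i hi =>
    GrothLib.DR.subsingleton_HD_of_iso eE i ((GrothLib.DR.exactAt_iff E i).1
      (ShortComplex.exact_of_isZero_X₂ _ (hv i (Or.inr hi))))
  refine GrothLib.DR.exists_split K (k - d + 2) (k + 1) (by omega) (fun i h1 h2 => hgap i h1 (by omega)) ?_
  let t : Triangulated.TStructure (Dual.D R) := DerivedCategory.TStructure.t
  have hU : GrothLib.DR.HasProjAmp ((t.truncGE (k + 1)).obj K) (k + 1 - d) b₀ := by
    refine GrothLib.DR.hasProjAmp_of_globalDimension d (fun M _ _ => GrothLib.DR.pdLE_of_regular hreg d hd M) _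
      (k + 1) b₀ fun i hi => ?_
    by_cases h : i < k + 1
    · exact (GrothLib.DR.subsingleton_iff_isZero _).2 (GrothLib.DerTrunc.isZero_homology_truncGE K (k + 1) i h)
    · haveI := GrothLib.DerTrunc.isIso_homology_truncGEπ K (k + 1) i (by omega)
      exact (asIso ((DerivedCategory.homologyFunctor (ModuleCat.{u} R) i).map
        ((t.truncGEπ (k + 1)).app K))).toLinearEquiv.symm.toEquiv.subsingleton_congr.2 (hbd i (by omega))
  refine GrothLib.DR.subsingleton_hom_of_hasProjAmp' hU fun i hi => ?_
  refine ((((DerivedCategory.homologyFunctor (ModuleCat.{u} R) 0).shiftIso 1 i (1 + i) rfl).app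
    _).toLinearEquiv).toEquiv.subsingleton_congr.2 ?_
  by_cases h : k + 1 ≤ 1 + i
  · exact (GrothLib.DR.subsingleton_iff_isZero _).2 (GrothLib.DerTrunc.isZero_homology_truncLT K (k + 1) (1 + i) h)
  · haveI := GrothLib.DerTrunc.isIso_homology_truncLTι K (k + 1) (1 + i) (by omega)
    exact (asIso ((DerivedCategory.homologyFunctor (ModuleCat.{u} R) (1 + i)).map
      ((t.truncLTι (k + 1)).app K))).toLinearEquiv.toEquiv.subsingleton_congr.2 (hgap (1 + i) (by omega) (by omega))

end Groth.Agent.S6995
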