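import Groth.Statements.S6999
import Groth.Agent.Lib.DCxRing.ColimHom


set_option autoImplicit false
universe u
open CategoryTheory CategoryTheory.Limits
attribute [local instance] HasDerivedCategory.standard
open DRing

namespace Groth.Agent.S6999

/-- Let R be a commutative ring, m an integer, K an m-pseudo-coherent object of D(R), and (M_j) a
diagram of R-modules over a small filtered category with colimit cocone M. Then the canonical map
colim_j Hom(K, M_j[n]) → Hom(K, M[n]) in D(R) is bijective for n < -m and injective for n = -m.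
Unfolded: for n < -m every morphism K → M[n] factors through M_j[n] → M[n] for some j; and for n ≤
-m, a morphism K → M_j[n] whose composite with M_j[n] → M[n] is zero already has zero composite with
M_j[n] → M_(j')[n] for some j → j'. -/
theorem result (R : Type u) [CommRing R] (m : ℤ) (K : Dual.D R)
    (hK : DRing.IsPseudoCoherent R m K) {J : Type u} [SmallCategory J] [IsFiltered J]
    (F : J ⥤ ModuleCat.{u} R) (c : Cocone F) (hc : IsColimit c) :
    (∀ n : ℤ, n < -m → ∀ x : K ⟶ (shiftFunctor (Dual.D R) n).obj (Dual.inD R c.pt),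
      ∃ (j : J) (y : K ⟶ (shiftFunctor (Dual.D R) n).obj (Dual.inD R (F.obj j))),
        y ≫ (shiftFunctor (Dual.D R) n).map
          ((DerivedCategory.singleFunctor (ModuleCat.{u} R) 0).map (c.ι.app j)) = x) ∧
    (∀ n : ℤ, n ≤ -m → ∀ (j : J) (y : K ⟶ (shiftFunctor (Dual.D R) n).obj (Dual.inD R (F.obj j))),
      y ≫ (shiftFunctor (Dual.D R) n).map
          ((DerivedCategory.singleFunctor (ModuleCat.{u} R) 0).map (c.ι.app j)) = 0 →
      ∃ (j' : J) (f : j ⟶ j'), y ≫ (shiftFunctor (Dual.D R) n).map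
          ((DerivedCategory.singleFunctor (ModuleCat.{u} R) 0).map (F.map f)) = 0) := by
  obtain ⟨E, a, b, α, hv, hf, hi, he⟩ := hK
  haveI := GrothLib.DerBC.isKProjective_of_finiteFree hv hf
  obtain ⟨C, β, γ, hT⟩ := Pretriangulated.distinguished_cocone_triangle α
  have hC : ∀ i, m ≤ i → IsZero ((DerivedCategory.homologyFunctor (ModuleCat.{u} R) i).obj C) :=
    (GrothLib.DerBC.cone_vanish_iff _ hT m).2 ⟨hi, he⟩
  haveI hCle : C.IsLE (m - 1) := by
    rw [DerivedCategory.isLE_iff]
    exact fun i hi => hC i (by omega)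
  let t : Triangulated.TStructure (Dual.D R) := DerivedCategory.TStructure.t
  -- the comparison with `E` is injective in degrees `≥ m` and surjective in degrees `> m`
  have hinj : ∀ (N : Type u) [AddCommGroup N] [Module R N] (k : ℤ), m ≤ k →
      ∀ x : K ⟶ (shiftFunctor (Dual.D R) (-k)).obj (Dual.inD R N), α ≫ x = 0 → x = 0 := by
    intro N _ _ k hk x hx
    obtain ⟨z, rfl⟩ : ∃ z : C ⟶ _, x = β ≫ z := Pretriangulated.Triangle.yoneda_exact₂ _ hT x hx
    rw [t.zero_of_isLE_of_isGE z (m - 1) k (by omega) hCle (GrothLib.DR.isGE_shift_inD N k), comp_zero]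
  have hsurj : ∀ (N : Type u) [AddCommGroup N] [Module R N] (k : ℤ), m < k →
      ∀ z : DRing.toD E ⟶ (shiftFunctor (Dual.D R) (-k)).obj (Dual.inD R N), ∃ x, α ≫ x = z := by
    intro N _ _ k hk z
    let T := (Pretriangulated.Triangle.mk α β γ).invRotate
    have h1 : t.IsLE T.obj₁ m := t.isLE_shift C (m - 1) (-1) m (by omega)
    obtain ⟨x, hx⟩ : ∃ x : K ⟶ _, z = α ≫ x :=
      Pretriangulated.Triangle.yoneda_exact₂ T (Pretriangulated.inv_rot_of_distTriang _ hT) z
        (t.zero_of_isLE_of_isGE _ m k (by omega) h1 (GrothLib.DR.isGE_shift_inD N k))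
    exact ⟨x, hx.symm⟩
  refine ⟨fun n hn x => ?_, fun n hn j y hy => ?_⟩
  · obtain ⟨k, rfl⟩ : ∃ k, n = -k := ⟨-n, (neg_neg n).symm⟩
    haveI := (hf k).1; haveI := (hf k).2; haveI := (hf (k - 1)).1
    obtain ⟨g, hg, hgx⟩ := GrothLib.DR.exists_toSingleD E k (α ≫ x)
    obtain ⟨j, g₀, hg₀⟩ := GrothLib.DR.exists_lift_colimit hc (E.X k) g
    obtain ⟨j', f, hf'⟩ := GrothLib.DR.exists_zero_colimit hc (E.X (k - 1)) (g₀.comp (E.d (k - 1) k).hom)
      (LinearMap.ext fun w => (LinearMap.congr_fun hg₀ _).trans (hg w))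
    obtain ⟨y, hy⟩ := hsurj (F.obj j') k (by omega)
      (GrothLib.DR.toSingleD E k ((F.map f).hom.comp g₀) fun w => LinearMap.congr_fun hf' w)
    refine ⟨j', y, sub_eq_zero.1 (hinj c.pt k (by omega) _ ?_)⟩
    rw [Preadditive.comp_sub, ← Category.assoc, hy, ← hgx, sub_eq_zero]
    refine (GrothLib.DR.toSingleD_comp E k (c.ι.app j').hom _ _).trans ?_
    congr 1
    rw [← hg₀, ← LinearMap.comp_assoc, ← ModuleCat.hom_comp, c.w f]
  · obtain ⟨k, rfl⟩ : ∃ k, n = -k := ⟨-n, (neg_neg n).symm⟩
    haveI := (hf k).1; haveI := (hf (k + 1)).1; haveI := (hf (k + 1)).2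
    obtain ⟨g, hg, hgy⟩ := GrothLib.DR.exists_toSingleD E k (α ≫ y)
    have h0 : GrothLib.DR.toSingleD E k ((c.ι.app j).hom.comp g) (fun x => by rw [LinearMap.comp_apply, hg, map_zero]) = 0 := by
      rw [← GrothLib.DR.toSingleD_comp E k (c.ι.app j).hom g hg, hgy, Category.assoc]
      exact (congrArg (α ≫ ·) hy).trans comp_zero
    obtain ⟨h, hh⟩ := (GrothLib.DR.toSingleD_eq_zero_iff E k _ _).1 h0
    obtain ⟨j₁, h₁, hh₁⟩ := GrothLib.DR.exists_lift_colimit hc (E.X (k + 1)) h
    let p := IsFiltered.leftToMax j j₁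
    let q := IsFiltered.rightToMax j j₁
    obtain ⟨j', f, hf'⟩ := GrothLib.DR.exists_zero_colimit hc (E.X k)
      ((F.map p).hom.comp g - ((F.map q).hom.comp h₁).comp (E.d k (k + 1)).hom) (by
        refine LinearMap.ext fun w => ?_
        simp only [LinearMap.comp_apply, LinearMap.sub_apply, map_sub, LinearMap.zero_apply]
        rw [sub_eq_zero]
        refine (ConcreteCategory.congr_hom (c.w p) (g w)).trans (Eq.trans ?_ (ConcreteCategory.congr_hom (c.w q) _).symm)
        exact (hh w).symm.trans (LinearMap.congr_fun hh₁ _).symm)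
    refine ⟨j', p ≫ f, hinj (F.obj j') k (by omega) _ ?_⟩
    rw [← Category.assoc, ← hgy]
    refine (GrothLib.DR.toSingleD_comp E k (F.map (p ≫ f)).hom g hg).trans ?_
    refine (GrothLib.DR.toSingleD_eq_zero_iff E k _ _).2 ⟨(F.map f).hom.comp ((F.map q).hom.comp h₁), fun w => ?_⟩
    have := LinearMap.congr_fun hf' w
    simp only [LinearMap.comp_apply, LinearMap.sub_apply, map_sub, LinearMap.zero_apply, sub_eq_zero] at this
    rw [LinearMap.comp_apply, LinearMap.comp_apply, LinearMap.comp_apply, Functor.map_comp]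
    exact this.symm

end Groth.Agent.S6999
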