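import Groth.Statements.S7006
import Mathlib
import Groth.Agent.Lib.RelFP19.Basic
-- import your own Groth.Agent.* helpers here

set_option autoImplicit false
universe u
open CAlg

namespace Groth.Agent.S7006

/-- Let R be a commutative ring, f an element of R, A an R_f-algebra with a surjective R_f-algebra
homomorphism α : R_f[x_1, ..., x_n] → A, g an element of A, and M an A-module which is finitely
presented as an R_f[x_1, ..., x_n]-module through α. Then for every surjective R-algebra
homomorphism γ : R[z_1, ..., z_k] → A_g, the localized module M_g is finitely presented as an R[z_1,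
..., z_k]-module through γ. -/
theorem result {R A : Type u} [CommRing R] [CommRing A] (f : R)
    [Algebra R A] [Algebra (Localization.Away f) A] [IsScalarTower R (Localization.Away f) A] {n k : ℕ}
    (α : MvPolynomial (Fin n) (Localization.Away f) →ₐ[Localization.Away f] A) (hα : Function.Surjective α)
    (g : A) (M : Type u) [AddCommGroup M] [Module A M]
    (hM : @Module.FinitePresentation (MvPolynomial (Fin n) (Localization.Away f)) (M) _ _ (Module.compHom (M) α.toRingHom))
    (γ : MvPolynomial (Fin k) R →ₐ[R] Localization.Away g) (hγ : Function.Surjective γ) :
    @Module.FinitePresentation (MvPolynomial (Fin k) R) (LocalizedModule (Submonoid.powers g) M) _ _ (Module.compHom (LocalizedModule (Submonoid.powers g) M) γ.toRingHom) := by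
  classical
  obtain ⟨N, φ, hφ, hcomp, hfp⟩ := GrothLib.RelFP19.exists_fpVia_tensor_of_finitePresentation
    (A' := Localization.Away g) α.toRingHom hα hM
  haveI : Algebra.FinitePresentation R (Localization.Away f) := IsLocalization.Away.finitePresentation f
  haveI : Algebra.FinitePresentation R (MvPolynomial (Fin n) (Localization.Away f)) :=
    Algebra.FinitePresentation.trans R (Localization.Away f) _
  haveI : Algebra.FinitePresentation R (MvPolynomial (Fin N) (MvPolynomial (Fin n) (Localization.Away f))) :=
    Algebra.FinitePresentation.mvPolynomial_of_finitePresentation _
  let φ' : MvPolynomial (Fin N) (MvPolynomial (Fin n) (Localization.Away f)) →ₐ[R] Localization.Away g :=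
    { φ with
      commutes' := fun r => by
        show φ (MvPolynomial.C (MvPolynomial.C (algebraMap R (Localization.Away f) r))) = _
        rw [hcomp, show α.toRingHom (MvPolynomial.C (algebraMap R (Localization.Away f) r)) =
            algebraMap (Localization.Away f) A (algebraMap R (Localization.Away f) r) from α.commutes _,
          ← IsScalarTower.algebraMap_apply, ← IsScalarTower.algebraMap_apply] }
  have hφ' : Function.Surjective φ' := hφ
  refine (GrothLib.RelFP19.fpVia_iff_of_finitePresentation (P := MvPolynomial (Fin N) (MvPolynomial (Fin n) (Localization.Away f))) (α := φ') hφ' γ hγ).1 ?_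
  exact GrothLib.RelFP19.fpVia_of_equiv φ (LocalizedModule.equivTensorProduct (Submonoid.powers g) M).symm hfp

end Groth.Agent.S7006
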