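import Groth.Statements.S7010
import Groth.Agent.Lib.DCxRing.Thick


set_option autoImplicit false
universe u
open CategoryTheory CategoryTheory.Limits
attribute [local instance] HasDerivedCategory.standard
open DRing

namespace Groth.Agent.S7010

open CategoryTheory.Pretriangulated in
/-- The inclusion of the perfect objects in the subcategory generated by R: let R be a commutative ring
and P a property of objects of D(R) which is closed under isomorphisms, holds for R[0], is stable
under all shifts, is closed under extensions (if it holds for the outer terms of a distinguished
triangle it holds for the middle term) and is closed under taking direct summands. Then P holds for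
every perfect object of D(R). -/
theorem result (R : Type u) [CommRing R]
    (P : ObjectProperty (Dual.D R)) [P.IsClosedUnderIsomorphisms] (hR : P (Dual.inD R R))
    (hshift : ∀ (K : Dual.D R) (n : ℤ), P K → P ((shiftFunctor (Dual.D R) n).obj K))
    (hext : ∀ T : Triangle (Dual.D R), T ∈ distinguishedTriangles → P T.obj₁ → P T.obj₃ → P T.obj₂)
    (hsum : ∀ (X Y : Dual.D R) [HasBinaryBiproduct X Y], P (X ⊞ Y) → P X)
    (K : Dual.D R) (hK : DRing.IsPerfect R K) : P K :=
  GrothLib.DR.prop_of_isPerfect P hR hshift hext hsum K hK

end Groth.Agent.S7010
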