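import Groth.Statements.S7015
import Mathlib.Algebra.Category.ModuleCat.Monoidal.Symmetric
import Mathlib.CategoryTheory.Monoidal.Rigid.Basic
import Mathlib.LinearAlgebra.TensorProduct.Finiteness
import Mathlib.RingTheory.Finiteness.Basic
import Mathlib.LinearAlgebra.StdBasis
import Mathlib.Algebra.Module.Projective
import Mathlib.LinearAlgebra.FreeModule.Finite.Basic

set_option autoImplicit false
universe u
open CategoryTheory MonoidalCategory
open DRing

namespace Groth.Agent.S7015

open scoped TensorProduct

/-- A module with an identity of finite rank is finite projective. -/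
lemma finite_projective_of_sum {R : Type u} [CommRing R] {M : Type u} [AddCommGroup M] [Module R M] {ι : Type u}
    (s : Finset ι) (m : ι → M) (f : ι → M →ₗ[R] R) (h : ∀ x, ∑ i ∈ s, f i x • m i = x) :
    Module.Finite R M ∧ Module.Projective R M := by
  let p : ({i // i ∈ s} → R) →ₗ[R] M := Fintype.linearCombination R (fun i => m i.1)
  let q : M →ₗ[R] ({i // i ∈ s} → R) := LinearMap.pi fun i => f i.1
  have hpq : p.comp q = LinearMap.id := LinearMap.ext fun x => by
    change Fintype.linearCombination R (fun i : s => m i.1) (fun i => f i.1 x) = x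
    rw [Fintype.linearCombination_apply]
    exact (Finset.sum_coe_sort s (fun i => f i x • m i)).trans (h x)
  exact ⟨Module.Finite.of_surjective p fun x => ⟨q x, LinearMap.congr_fun hpq x⟩, Module.Projective.of_split q p hpq⟩

/-- Let R be a commutative ring and M, N R-modules such that N is a left dual of M for the tensor
product of R-modules, i.e. there are a coevaluation R → M ⊗ N and an evaluation N ⊗ M → R satisfying
the triangle identities (an exact pairing). Then M and N are finitely generated projective
R-modules. -/
theorem result (R : Type u) [CommRing R] (M N : Type u) [AddCommGroup M]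
    [Module R M] [AddCommGroup N] [Module R N] [ExactPairing (ModuleCat.of R M) (ModuleCat.of R N)] :
    Module.Finite R M ∧ Module.Projective R M ∧ Module.Finite R N ∧ Module.Projective R N := by
  let X := ModuleCat.of R M
  let Y := ModuleCat.of R N
  let η : R →ₗ[R] M ⊗[R] N := (η_ X Y).hom
  let ε : N ⊗[R] M →ₗ[R] R := (ε_ X Y).hom
  obtain ⟨S, hS⟩ := TensorProduct.exists_finset (η 1)
  have h1 : ∀ x : M, ∑ i ∈ S, ε (i.2 ⊗ₜ x) • i.1 = x := fun x => by
    have h := ConcreteCategory.congr_hom (ExactPairing.evaluation_coevaluation X Y) ((1 : R) ⊗ₜ[R] x)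
    have h' : LinearMap.lTensor M ε (TensorProduct.assoc R M N M (η 1 ⊗ₜ x)) =
        ((1 : R) • x) ⊗ₜ[R] (1 : R) := h
    rw [hS, TensorProduct.sum_tmul, map_sum, map_sum] at h'
    have h'' := congrArg (TensorProduct.rid R M) h'
    simpa using h''
  have h2 : ∀ y : N, ∑ i ∈ S, ε (y ⊗ₜ i.1) • i.2 = y := fun y => by
    have h := ConcreteCategory.congr_hom (ExactPairing.coevaluation_evaluation X Y) (y ⊗ₜ[R] (1 : R))
    have h' : LinearMap.rTensor N ε ((TensorProduct.assoc R N M N).symm (y ⊗ₜ η 1)) =
        (1 : R) ⊗ₜ[R] ((1 : R) • y) := h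
    rw [hS, TensorProduct.tmul_sum, map_sum, map_sum] at h'
    have h'' := congrArg (TensorProduct.lid R N) h'
    simpa using h''
  obtain ⟨a, b⟩ := finite_projective_of_sum S (fun i => i.1) (fun i => ε.comp (TensorProduct.mk R N M i.2)) h1
  obtain ⟨c, d⟩ := finite_projective_of_sum S (fun i => i.2) (fun i => ε.comp ((TensorProduct.mk R N M).flip i.1)) h2
  exact ⟨a, b, c, d⟩

end Groth.Agent.S7015
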