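import Groth.Statements.S7016
import Groth.Agent.Lib.DCxRHom.HomAssoc
import Groth.Prelude.Def_DRing2
import Mathlib.CategoryTheory.Monoidal.Rigid.Basic
import Mathlib.LinearAlgebra.StdBasis
import Mathlib.Algebra.Module.Projective

set_option autoImplicit false
universe u
open CategoryTheory CategoryTheory.Limits
attribute [local instance] HasDerivedCategory.standard
open DRing

namespace Groth.Agent.S7016

open scoped TensorProduct
open MonoidalCategory HomologicalComplex GrothLib.RH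

variable {R : Type u} [CommRing R]

/-- Elements of a tensor product of complexes are finite sums of pure tensors. -/
lemma exists_sum (K L : DRing.Cx R) (n : ℤ) (e : (tens K L).X n) :
    ∃ (k : ℕ) (p : Fin k → ℤ) (x : ∀ i, K.X (p i)) (y : ∀ i, L.X (n - p i)),
      e = ∑ i, ιT K L (p i) (n - p i) n (by omega) (x i ⊗ₜ y i) := by
  let P : (tens K L).X n → Prop := fun e => ∃ (k : ℕ) (p : Fin k → ℤ) (x : ∀ i, K.X (p i)) (y : ∀ i, L.X (n - p i)),
      e = ∑ i, ιT K L (p i) (n - p i) n (by omega) (x i ⊗ₜ y i)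
  have hadd : ∀ a b, P a → P b → P (a + b) := by
    rintro a b ⟨k, p, x, y, rfl⟩ ⟨k', p', x', y', rfl⟩
    refine ⟨k + k', Fin.append p p', Fin.addCases (fun i => cast (by rw [Fin.append_left]) (x i))
      (fun i => cast (by rw [Fin.append_right]) (x' i)), Fin.addCases (fun i => cast (by rw [Fin.append_left]) (y i))
      (fun i => cast (by rw [Fin.append_right]) (y' i)), ?_⟩
    have key : ∀ (q q' : ℤ) (hq : q = q') (u : K.X q) (v : L.X (n - q)) (h1 : (K.X q : Type u) = K.X q')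
        (h2 : (L.X (n - q) : Type u) = L.X (n - q')),
        ιT K L q' (n - q') n (by omega) (cast h1 u ⊗ₜ cast h2 v) = ιT K L q (n - q) n (by omega) (u ⊗ₜ v) := by
      intro q q' hq u v h1 h2
      subst hq
      rfl
    rw [Fin.sum_univ_add]
    congr 1 <;> refine Finset.sum_congr rfl fun i _ => ?_
    · dsimp only
      rw [Fin.addCases_left, Fin.addCases_left, key (p i) _ (Fin.append_left p p' i).symm]
    · dsimp only
      rw [Fin.addCases_right, Fin.addCases_right, key (p' i) _ (Fin.append_right p p' i).symm]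
  have hzero : P 0 := ⟨0, Fin.elim0, fun i => i.elim0, fun i => i.elim0, by simp⟩
  have hsmul : ∀ (c : R) a, P a → P (c • a) := by
    rintro c a ⟨k, p, x, y, rfl⟩
    refine ⟨k, p, fun i => c • x i, y, ?_⟩
    rw [Finset.smul_sum]
    refine Finset.sum_congr rfl fun i _ => ?_
    rw [← map_smul, TensorProduct.smul_tmul']
  let S : Submodule R ((tens K L).X n) :=
    { carrier := setOf P, add_mem' := fun {a b} ha hb => hadd a b ha hb, zero_mem' := hzero,
      smul_mem' := hsmul }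
  have h : ModuleCat.ofHom S.mkQ = 0 := by
    refine HomologicalComplex.mapBifunctor.hom_ext fun q r (hqr : q + r = n) =>
      ModuleCat.MonoidalCategory.tensor_ext fun u v => ?_
    obtain rfl : r = n - q := by omega
    refine (Submodule.Quotient.mk_eq_zero S).2 ?_
    refine ⟨1, fun _ => q, fun _ => u, fun _ => v, ?_⟩
    exact (Fin.sum_univ_one (fun _ : Fin 1 => ιT K L q (n - q) n (by omega) (u ⊗ₜ v))).symm
  exact (Submodule.Quotient.mk_eq_zero S).1 (ConcreteCategory.congr_hom h e)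

/-- The coefficient in degree zero. -/
noncomputable def scal : (𝟙_ (DRing.Cx R)).X 0 →ₗ[R] R :=
  (singleObjXSelf (ComplexShape.up ℤ) 0 (ModuleCat.of R R)).hom.hom

/-- The unit in degree zero. -/
noncomputable def one₀ : (𝟙_ (DRing.Cx R)).X 0 :=
  (singleObjXSelf (ComplexShape.up ℤ) 0 (ModuleCat.of R R)).inv (1 : R)

lemma eq_scal (c : (𝟙_ (DRing.Cx R)).X 0) : c = scal c • one₀ := by
  change c = scal c • (singleObjXSelf (ComplexShape.up ℤ) 0 (ModuleCat.of R R)).inv (1 : R)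
  rw [← map_smul]
  change c = (singleObjXSelf (ComplexShape.up ℤ) 0 (ModuleCat.of R R)).inv (scal c * 1)
  rw [mul_one]
  exact (ConcreteCategory.congr_hom (singleObjXSelf (ComplexShape.up ℤ) 0 (ModuleCat.of R R)).hom_inv_id c).symm

lemma rightUnitor_inv_f (K : DRing.Cx R) (q : ℤ) (x : K.X q) :
    (ρ_ K).inv.f q x = ιT K (𝟙_ (DRing.Cx R)) q 0 q (add_zero q) (x ⊗ₜ one₀) :=
  ConcreteCategory.congr_hom (HomologicalComplex.rightUnitor'_inv K q) x

lemma leftUnitor_inv_f (K : DRing.Cx R) (q : ℤ) (x : K.X q) :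
    (λ_ K).inv.f q x = ιT (𝟙_ (DRing.Cx R)) K 0 q q (zero_add q) (one₀ ⊗ₜ x) :=
  ConcreteCategory.congr_hom (HomologicalComplex.leftUnitor'_inv K q) x

lemma rightUnitor_hom_ι (K : DRing.Cx R) (q : ℤ) (x : K.X q) (c : (𝟙_ (DRing.Cx R)).X 0) :
    (ρ_ K).hom.f q (ιT K (𝟙_ (DRing.Cx R)) q 0 q (add_zero q) (x ⊗ₜ c)) = scal c • x := by
  let G := ((ρ_ K).hom.f q).hom.comp ((ιT K (𝟙_ (DRing.Cx R)) q 0 q (add_zero q)).hom.comp
    (TensorProduct.mk R (K.X q) ((𝟙_ (DRing.Cx R)).X 0) x))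
  change G c = _
  rw [show G c = G (scal c • one₀) from congrArg G (eq_scal c), map_smul]
  refine congrArg (scal c • ·) ?_
  exact (congrArg ((ρ_ K).hom.f q) (rightUnitor_inv_f K q x).symm).trans (ConcreteCategory.congr_hom
    (HomologicalComplex.congr_hom (ρ_ K).inv_hom_id q) x)

lemma leftUnitor_hom_ι (K : DRing.Cx R) (q : ℤ) (x : K.X q) (c : (𝟙_ (DRing.Cx R)).X 0) :
    (λ_ K).hom.f q (ιT (𝟙_ (DRing.Cx R)) K 0 q q (zero_add q) (c ⊗ₜ x)) = scal c • x := by
  let G := ((λ_ K).hom.f q).hom.comp ((ιT (𝟙_ (DRing.Cx R)) K 0 q q (zero_add q)).hom.comp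
    ((TensorProduct.mk R ((𝟙_ (DRing.Cx R)).X 0) (K.X q)).flip x))
  change G c = _
  rw [show G c = G (scal c • one₀) from congrArg G (eq_scal c), map_smul]
  refine congrArg (scal c • ·) ?_
  exact (congrArg ((λ_ K).hom.f q) (leftUnitor_inv_f K q x).symm).trans (ConcreteCategory.congr_hom
    (HomologicalComplex.congr_hom (λ_ K).inv_hom_id q) x)

lemma whiskerLeft_ι (K : DRing.Cx R) {L L' : DRing.Cx R} (g : L ⟶ L') (p r s : ℤ) (h : p + r = s)
    (x : K.X p) (y : L.X r) :
    (K ◁ g).f s (ιT K L p r s h (x ⊗ₜ y)) = ιT K L' p r s h (x ⊗ₜ g.f r y) :=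
  ConcreteCategory.congr_hom (HomologicalComplex.ι_mapBifunctorMap (f₁ := 𝟙 K) (f₂ := g)
    (F := curriedTensor (ModuleCat.{u} R)) (c := ComplexShape.up ℤ) p r s h) (x ⊗ₜ y)

lemma whiskerRight_ι {K K' : DRing.Cx R} (f : K ⟶ K') (L : DRing.Cx R) (p r s : ℤ) (h : p + r = s)
    (x : K.X p) (y : L.X r) :
    (f ▷ L).f s (ιT K L p r s h (x ⊗ₜ y)) = ιT K' L p r s h (f.f p x ⊗ₜ y) :=
  ConcreteCategory.congr_hom (HomologicalComplex.ι_mapBifunctorMap (f₁ := f) (f₂ := 𝟙 L)
    (F := curriedTensor (ModuleCat.{u} R)) (c := ComplexShape.up ℤ) p r s h) (x ⊗ₜ y)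

lemma associator_ι (K L M : DRing.Cx R) (p q r s pq qr : ℤ) (hpq : p + q = pq) (hqr : q + r = qr)
    (h : pq + r = s) (h' : p + qr = s) (x : K.X p) (y : L.X q) (z : M.X r) :
    (α_ K L M).hom.f s (ιT (tens K L) M pq r s h (ιT K L p q pq hpq (x ⊗ₜ y) ⊗ₜ z)) =
      ιT K (tens L M) p qr s h' (x ⊗ₜ ιT L M q r qr hqr (y ⊗ₜ z)) := by
  have hh := HomologicalComplex.ι_mapBifunctorAssociatorX_hom (curriedAssociatorNatIso (ModuleCat.{u} R))
    K L M (ComplexShape.up ℤ) (ComplexShape.up ℤ) (ComplexShape.up ℤ) p q r s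
    (show p + q + r = s by omega)
  rw [HomologicalComplex.mapBifunctor₁₂.ι_eq _ _ _ _ _ _ _ p q r pq s hpq h,
    HomologicalComplex.mapBifunctor₂₃.ι_eq _ _ _ _ _ _ _ _ p q r qr s hqr h'] at hh
  exact ConcreteCategory.congr_hom hh ((x ⊗ₜ y) ⊗ₜ z)

/-- The zigzag identity on elements. -/
lemma zigzag (M N : DRing.Cx R) [ExactPairing M N] {k : ℕ} (p : Fin k → ℤ) (m : ∀ i, M.X (p i))
    (n : ∀ i, N.X (0 - p i))
    (hη : (η_ M N).f 0 one₀ = ∑ i, ιT M N (p i) (0 - p i) 0 (by omega) (m i ⊗ₜ n i)) :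
    (∀ q, ∃ f : Fin k → (M.X q →ₗ[R] R), ∀ x : M.X q,
      ∑ i, (if h : p i = q then f i x • (M.XIsoOfEq h).hom (m i) else 0) = x) ∧
    (∀ q, ∃ g : Fin k → (N.X q →ₗ[R] R), ∀ y : N.X q,
      ∑ i, (if h : 0 - p i = q then g i y • (N.XIsoOfEq h).hom (n i) else 0) = y) := by
  let ε := ε_ M N
  refine ⟨fun q => ⟨fun i => if h : p i = q then
      scal.comp ((ε.f 0).hom.comp ((ιT N M (0 - p i) q 0 (by omega)).hom.comp
        (TensorProduct.mk R (N.X (0 - p i)) (M.X q) (n i)))) else 0, fun x => ?_⟩,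
    fun q => ⟨fun i => if h : 0 - p i = q then
      scal.comp ((ε.f 0).hom.comp ((ιT N M q (p i) 0 (by omega)).hom.comp
        ((TensorProduct.mk R (N.X q) (M.X (p i))).flip (m i)))) else 0, fun y => ?_⟩⟩
  · have H := ConcreteCategory.congr_hom (HomologicalComplex.congr_hom (ExactPairing.evaluation_coevaluation M N) q)
      (ιT (𝟙_ (DRing.Cx R)) M 0 q q (zero_add q) (one₀ ⊗ₜ x))
    have H' : (M ◁ ε).f q ((α_ M N M).hom.f q ((η_ M N ▷ M).f q
        (ιT (𝟙_ (DRing.Cx R)) M 0 q q (zero_add q) (one₀ ⊗ₜ x)))) =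
        (ρ_ M).inv.f q ((λ_ M).hom.f q (ιT (𝟙_ (DRing.Cx R)) M 0 q q (zero_add q) (one₀ ⊗ₜ x))) := H
    rw [whiskerRight_ι, hη, leftUnitor_hom_ι] at H'
    have hs : scal (one₀ : (𝟙_ (DRing.Cx R)).X 0) = 1 :=
      ConcreteCategory.congr_hom (singleObjXSelf (ComplexShape.up ℤ) 0 (ModuleCat.of R R)).inv_hom_id (1 : R)
    rw [hs, one_smul] at H'
    have H'' := congrArg ((ρ_ M).hom.f q) H'
    rw [show (ρ_ M).hom.f q ((ρ_ M).inv.f q x) = x from ConcreteCategory.congr_hom
      (HomologicalComplex.congr_hom (ρ_ M).inv_hom_id q) x] at H''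
    refine Eq.trans ?_ H''
    let G := ((ρ_ M).hom.f q).hom.comp (((M ◁ ε).f q).hom.comp (((α_ M N M).hom.f q).hom.comp
      ((ιT (tens M N) M 0 q q (zero_add q)).hom.comp ((TensorProduct.mk R ((tens M N).X 0) (M.X q)).flip x))))
    refine Eq.trans ?_ (map_sum G (fun i => ιT M N (p i) (0 - p i) 0 (by omega) (m i ⊗ₜ n i)) Finset.univ).symm
    refine Finset.sum_congr rfl fun i _ => ?_
    change _ = (ρ_ M).hom.f q ((M ◁ ε).f q ((α_ M N M).hom.f q (ιT (tens M N) M 0 q q (zero_add q)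
      (ιT M N (p i) (0 - p i) 0 (by omega) (m i ⊗ₜ n i) ⊗ₜ x))))
    erw [associator_ι M N M (p i) (0 - p i) q q 0 (q - p i) (by omega) (by omega) (zero_add q) (by omega)]
    erw [whiskerLeft_ι]
    by_cases h : p i = q
    · have key : ∀ (p' : ℤ) (hp : p' = q) (m' : M.X p') (n' : N.X (0 - p')),
          (ρ_ M).hom.f q (ιT M (𝟙_ (DRing.Cx R)) p' (q - p') q (by omega)
            (m' ⊗ₜ ε.f (q - p') (ιT N M (0 - p') q (q - p') (by omega) (n' ⊗ₜ x)))) =
          scal (ε.f 0 (ιT N M (0 - p') q 0 (by omega) (n' ⊗ₜ x))) • (M.XIsoOfEq hp).hom m' := by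
        intro p' hp m' n'
        subst hp
        have key2 : ∀ (r : ℤ) (hr : r = 0),
          (ρ_ M).hom.f p' (ιT M (𝟙_ (DRing.Cx R)) p' r p' (by omega)
            (m' ⊗ₜ ε.f r (ιT N M (0 - p') p' r (by omega) (n' ⊗ₜ x)))) =
          scal (ε.f 0 (ιT N M (0 - p') p' 0 (by omega) (n' ⊗ₜ x))) • m' := by
          intro r hr
          subst hr
          exact rightUnitor_hom_ι _ _ _ _
        simpa using key2 (p' - p') (sub_self p')
      rw [dif_pos h]
      dsimp only
      erw [dif_pos h]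
      exact (key (p i) h (m i) (n i)).symm
    · rw [dif_neg h]
      haveI := ModuleCat.subsingleton_of_isZero
        (HomologicalComplex.isZero_single_obj_X (ComplexShape.up ℤ) 0 (𝟙_ (ModuleCat.{u} R)) (q - p i) (by omega))
      rw [show ε.f (q - p i) (ιT N M (0 - p i) q (q - p i) (by omega) (n i ⊗ₜ x)) =
        (0 : ((HomologicalComplex.single (ModuleCat.{u} R) (ComplexShape.up ℤ) 0).obj (𝟙_ (ModuleCat.{u} R))).X (q - p i))
          from Subsingleton.elim _ _]
      erw [TensorProduct.tmul_zero]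
      rw [map_zero]
      exact (map_zero _).symm
  · have H := ConcreteCategory.congr_hom (HomologicalComplex.congr_hom (ExactPairing.coevaluation_evaluation M N) q)
      (ιT N (𝟙_ (DRing.Cx R)) q 0 q (add_zero q) (y ⊗ₜ one₀))
    have H' : (ε ▷ N).f q ((α_ N M N).inv.f q ((N ◁ η_ M N).f q
        (ιT N (𝟙_ (DRing.Cx R)) q 0 q (add_zero q) (y ⊗ₜ one₀)))) =
        (λ_ N).inv.f q ((ρ_ N).hom.f q (ιT N (𝟙_ (DRing.Cx R)) q 0 q (add_zero q) (y ⊗ₜ one₀))) := H
    rw [whiskerLeft_ι, hη, rightUnitor_hom_ι] at H'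
    have hs : scal (one₀ : (𝟙_ (DRing.Cx R)).X 0) = 1 :=
      ConcreteCategory.congr_hom (singleObjXSelf (ComplexShape.up ℤ) 0 (ModuleCat.of R R)).inv_hom_id (1 : R)
    rw [hs, one_smul] at H'
    have H'' := congrArg ((λ_ N).hom.f q) H'
    rw [show (λ_ N).hom.f q ((λ_ N).inv.f q y) = y from ConcreteCategory.congr_hom
      (HomologicalComplex.congr_hom (λ_ N).inv_hom_id q) y] at H''
    refine Eq.trans ?_ H''
    let G := ((λ_ N).hom.f q).hom.comp (((ε ▷ N).f q).hom.comp (((α_ N M N).inv.f q).hom.comp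
      ((ιT N (tens M N) q 0 q (add_zero q)).hom.comp (TensorProduct.mk R (N.X q) ((tens M N).X 0) y))))
    refine Eq.trans ?_ (map_sum G (fun i => ιT M N (p i) (0 - p i) 0 (by omega) (m i ⊗ₜ n i)) Finset.univ).symm
    refine Finset.sum_congr rfl fun i _ => ?_
    have ha : (α_ N M N).inv.f q (ιT N (tens M N) q 0 q (add_zero q) (y ⊗ₜ ιT M N (p i) (0 - p i) 0 (by omega) (m i ⊗ₜ n i))) =
        ιT (tens N M) N (q + p i) (0 - p i) q (by omega) (ιT N M q (p i) (q + p i) rfl (y ⊗ₜ m i) ⊗ₜ n i) := by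
      rw [← associator_ι N M N q (p i) (0 - p i) q (q + p i) 0 rfl (by omega) (by omega) (add_zero q)]
      exact ConcreteCategory.congr_hom (HomologicalComplex.congr_hom (α_ N M N).hom_inv_id q) _
    change _ = (λ_ N).hom.f q ((ε ▷ N).f q ((α_ N M N).inv.f q (ιT N (tens M N) q 0 q (add_zero q)
      (y ⊗ₜ ιT M N (p i) (0 - p i) 0 (by omega) (m i ⊗ₜ n i)))))
    rw [ha]
    erw [whiskerRight_ι]
    by_cases h : 0 - p i = q
    · have key : ∀ (p' r : ℤ) (hp : 0 - p' = q) (hr : r = 0) (m' : M.X p') (n' : N.X (0 - p')) (hh : q + p' = r),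
          (λ_ N).hom.f q (ιT (𝟙_ (DRing.Cx R)) N r (0 - p') q (by omega)
            (ε.f r (ιT N M q p' r hh (y ⊗ₜ m')) ⊗ₜ n')) =
          scal (ε.f 0 (ιT N M q p' 0 (by omega) (y ⊗ₜ m'))) • (N.XIsoOfEq hp).hom n' := by
        intro p' r hp hr m' n' hh
        subst hp hr
        simpa using leftUnitor_hom_ι _ _ _ _
      rw [dif_pos h]
      dsimp only
      erw [dif_pos h]
      exact (key (p i) (q + p i) h (by omega) (m i) (n i) rfl).symm
    · rw [dif_neg h]
      haveI := ModuleCat.subsingleton_of_isZero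
        (HomologicalComplex.isZero_single_obj_X (ComplexShape.up ℤ) 0 (𝟙_ (ModuleCat.{u} R)) (q + p i) (by omega))
      rw [show ε.f (q + p i) (ιT N M q (p i) (q + p i) rfl (y ⊗ₜ m i)) =
        (0 : ((HomologicalComplex.single (ModuleCat.{u} R) (ComplexShape.up ℤ) 0).obj (𝟙_ (ModuleCat.{u} R))).X (q + p i))
          from Subsingleton.elim _ _]
      erw [TensorProduct.zero_tmul]
      rw [map_zero]
      exact (map_zero _).symm

/-- A module spanned with coordinates by finitely many elements is finite projective. -/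
lemma finite_projective_of_sum {X : ModuleCat.{u} R} {k : ℕ} (m : Fin k → X) (f : Fin k → (X →ₗ[R] R))
    (h : ∀ x, ∑ i, f i x • m i = x) : Module.Finite R X ∧ Module.Projective R X := by
  let p : (Fin k → R) →ₗ[R] X := Fintype.linearCombination R m
  let q : X →ₗ[R] (Fin k → R) := LinearMap.pi f
  have hpq : p.comp q = LinearMap.id := LinearMap.ext fun x => (Fintype.linearCombination_apply R m _).trans (h x)
  exact ⟨Module.Finite.of_surjective p fun x => ⟨q x, LinearMap.congr_fun hpq x⟩, Module.Projective.of_split q p hpq⟩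

/-- Concentration and finiteness from a coordinate formula. -/
lemma bounded_finite_projective (X : DRing.Cx R) {k : ℕ} (p : Fin k → ℤ) (m : ∀ i, X.X (p i))
    (hf : ∀ q, ∃ f : Fin k → (X.X q →ₗ[R] R), ∀ x : X.X q,
      ∑ i, (if h : p i = q then f i x • (X.XIsoOfEq h).hom (m i) else 0) = x) :
    (∃ a b : ℤ, DRing.VanishesOutside X a b) ∧ DRing.TermwiseFiniteProjective X := by
  refine ⟨?_, fun q => ?_⟩
  · obtain ⟨a, ha⟩ := (Set.finite_range p).bddBelow
    obtain ⟨b, hb⟩ := (Set.finite_range p).bddAbove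
    refine ⟨a, b, fun q hq => ?_⟩
    haveI : Subsingleton (X.X q) := by
      obtain ⟨f, hf'⟩ := hf q
      have h0 : ∀ x : X.X q, x = 0 := fun x => by
        rw [← hf' x]
        refine Finset.sum_eq_zero fun i _ => dif_neg fun h => ?_
        have := ha ⟨i, rfl⟩
        have := hb ⟨i, rfl⟩
        omega
      exact ⟨fun u v => (h0 u).trans (h0 v).symm⟩
    exact ModuleCat.isZero_of_subsingleton _
  · obtain ⟨f, hf'⟩ := hf q
    refine finite_projective_of_sum (fun i => if h : p i = q then (X.XIsoOfEq h).hom (m i) else 0) f fun x => ?_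
    refine Eq.trans (Finset.sum_congr rfl fun i _ => ?_) (hf' x)
    split <;> simp

open MonoidalCategory in
/-- Let R be a commutative ring and M, N cochain complexes of R-modules such that N is a left dual of M
for the tensor product of cochain complexes of R-modules (coevaluation R[0] → M ⊗ N and evaluation N
⊗ M → R[0] with the triangle identities, an exact pairing). Then M and N are bounded and every term
M^n, N^n is a finitely generated projective R-module. -/
theorem result (R : Type u) [CommRing R] (M N : DRing.Cx R)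
    [ExactPairing M N] :
    (∃ a b : ℤ, DRing.VanishesOutside M a b) ∧ (∃ a b : ℤ, DRing.VanishesOutside N a b) ∧
      DRing.TermwiseFiniteProjective M ∧ DRing.TermwiseFiniteProjective N := by
  obtain ⟨k, p, m, n, hη⟩ := exists_sum M N 0 ((η_ M N).f 0 one₀)
  obtain ⟨h1, h2⟩ := zigzag M N p m n hη
  obtain ⟨b1, f1⟩ := bounded_finite_projective M p m h1
  obtain ⟨b2, f2⟩ := bounded_finite_projective N (fun i => 0 - p i) n h2
  exact ⟨b1, b2, f1, f2⟩

end Groth.Agent.S7016
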