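import Groth.Statements.S7022
import Groth.Agent.Lib.RelPC.Basic
import Groth.Agent.S6937

set_option autoImplicit false
universe u
open CategoryTheory CategoryTheory.Limits
attribute [local instance] HasDerivedCategory.standard
open DerCA

namespace Groth.Agent.S7022

/-- Let R → A be a finite type homomorphism of commutative rings, m an integer and K, L objects of the
derived category D(A). Whenever the direct sum K ⊕ L is pseudo-coherent relative to R in degree m,
both summands K and L are too; likewise, relative pseudo-coherence of K ⊕ L (in every degree) passes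
to K and to L. -/
theorem result {R A : Type u} [CommRing R] [CommRing A] [Algebra R A] [Algebra.FiniteType R A] (m : ℤ) (K L : Dual.D A) [HasBinaryBiproduct K L] :
    (DerCA.IsRelPseudoCoherent R A m (K ⊞ L) → DerCA.IsRelPseudoCoherent R A m K ∧ DerCA.IsRelPseudoCoherent R A m L) ∧
      (DerCA.IsRelPseudoCoherentAll R A (K ⊞ L) →
        DerCA.IsRelPseudoCoherentAll R A K ∧ DerCA.IsRelPseudoCoherentAll R A L) := by
  obtain ⟨n, α, hα⟩ := GrothLib.RelPC.exists_pres (R := R) (A := A)
  let G := DRing.restrictD (α : MvPolynomial (Fin n) R →+* A)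
  have : HasBinaryBiproduct (G.obj K) (G.obj L) := HasBinaryBiproducts.has_binary_biproduct _ _
  have := preservesBinaryBiproducts_of_preservesBinaryProducts G
  have e : G.obj (K ⊞ L) ≅ G.obj K ⊞ G.obj L := G.mapBiprod K L
  have h := Groth.Agent.S6937.result (MvPolynomial (Fin n) R) m (G.obj K) (G.obj L)
  simp only [GrothLib.RelPC.rel_iff α hα, GrothLib.RelPC.relAll_iff α hα]
  exact ⟨fun hK => h.1 (GrothLib.DerBC.isPseudoCoherent_of_iso e hK),
    fun hK => h.2 (GrothLib.DR.isPseudoCoherent'_of_iso e hK)⟩

end Groth.Agent.S7022
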