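import Groth.Statements.S7024
import Groth.Agent.Lib.RelPC.Transport

set_option autoImplicit false
universe u
open CategoryTheory CategoryTheory.Limits
attribute [local instance] HasDerivedCategory.standard
open DerCA

namespace Groth.Agent.S7024

/-- Let R → A be a finite type homomorphism of commutative rings, m an integer and K an object of D(A)
whose cohomology vanishes in large degrees. If the module H^i(K) is (m - i)-pseudo-coherent relative
to R for every i, then K is m-pseudo-coherent relative to R. Moreover, K is relatively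
pseudo-coherent over R as soon as each cohomology module H^i(K) has this property over R. -/
theorem result {R A : Type u} [CommRing R] [CommRing A] [Algebra R A] [Algebra.FiniteType R A] (m : ℤ) (K : Dual.D A)
    (hb : ∃ b : ℤ, ∀ i : ℤ, b < i → Subsingleton (Dual.HD A K i)) :
    ((∀ i : ℤ, DerCA.IsRelPseudoCoherentModule R A (m - i) (Dual.HD A K i)) → DerCA.IsRelPseudoCoherent R A m K) ∧
      ((∀ i : ℤ, DerCA.IsRelPseudoCoherentModuleAll R A (Dual.HD A K i)) → DerCA.IsRelPseudoCoherentAll R A K) := by
  obtain ⟨n, α, hα⟩ := GrothLib.RelPC.exists_pres (R := R) (A := A)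
  obtain ⟨b, hb⟩ := hb
  let φ : MvPolynomial (Fin n) R →+* A := α
  have key : ∀ k : ℤ, (∀ i : ℤ, DerCA.IsRelPseudoCoherentModule R A (k - i) (Dual.HD A K i)) →
      DerCA.IsRelPseudoCoherent R A k K := fun k h => by
    rw [GrothLib.RelPC.rel_iff α hα]
    refine GrothLib.DR.isPseudoCoherent_of_homologyModules
      (fun i hi => (GrothLib.RelPC.subsingleton_HD_restrict_iff φ K i).2 (hb i hi)) fun i _ _ => ?_
    obtain ⟨e⟩ := GrothLib.RelPC.nonempty_HD_restrict φ K i
    exact GrothLib.DerBC.isPseudoCoherent_of_iso
      ((GrothLib.RelPC.restrictInDIso φ (Dual.HD A K i)) ≪≫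
        (DerivedCategory.singleFunctor _ 0).mapIso e.toModuleIso.symm)
      ((GrothLib.RelPC.rel_iff α hα _ _).1 (h i))
  exact ⟨key m, fun h k => key k fun i => h i _⟩

end Groth.Agent.S7024
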