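import Groth.Statements.S7028
import Groth.Agent.Lib.DCxRing.Perfect

set_option autoImplicit false
universe u
open CategoryTheory CategoryTheory.Limits
attribute [local instance] HasDerivedCategory.standard
open DRing

namespace Groth.Agent.S7028

open CategoryTheory.Pretriangulated in
/-- Let R be a commutative ring such that the derived tensor product - ⊗^L_R M exists on D(R) for every
R-module M, and let K → L → M → K[1] be a distinguished triangle in D(R). If two out of K, L, M are
perfect, then so is the third. -/
theorem result (R : Type u) [CommRing R] [∀ M : ModuleCat.{u} R, DRing.HasLTensor R M]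
    (T : Triangle (Dual.D R)) (hT : T ∈ distinguishedTriangles) :
    (DRing.IsPerfect R T.obj₁ → DRing.IsPerfect R T.obj₂ → DRing.IsPerfect R T.obj₃) ∧
      (DRing.IsPerfect R T.obj₁ → DRing.IsPerfect R T.obj₃ → DRing.IsPerfect R T.obj₂) ∧
      (DRing.IsPerfect R T.obj₂ → DRing.IsPerfect R T.obj₃ → DRing.IsPerfect R T.obj₁) :=
  GrothLib.DR.isPerfect_triangle T hT

end Groth.Agent.S7028
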