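import Groth.Statements.S7039
-- no helpers

set_option autoImplicit false
universe u
open LocCoh

namespace Groth.Agent.S7039

/-- For a finitely generated ideal I of a commutative ring R and any R-module M, the quotient of M by
its submodule of I-power torsion elements has no nonzero element annihilated by I. -/
theorem result {R : Type u} [CommRing R] (I : Ideal R) (hI : I.FG)
    (M : Type u) [AddCommGroup M] [Module R M] :
    LocCoh.torsionBy I (M ⧸ DRing.torsionSub I M) = ⊥ := by
  rw [eq_bot_iff]
  intro z hz
  obtain ⟨x, rfl⟩ := Submodule.Quotient.mk_surjective _ z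
  rw [Submodule.mem_bot, Submodule.Quotient.mk_eq_zero]
  obtain ⟨s, hs⟩ := hI
  have hmem : ∀ a ∈ I, a • x ∈ DRing.torsionSub I M := fun a ha => by
    rw [← Submodule.Quotient.mk_eq_zero, Submodule.Quotient.mk_smul]
    exact (Submodule.mem_torsionBySet_iff _ _).1 hz ⟨a, ha⟩
  choose n hn using fun a : s => hmem a.1 (hs ▸ Submodule.subset_span a.2)
  classical
  refine ⟨s.attach.sup n + 1, fun a ha => ?_⟩
  rw [pow_succ] at ha
  induction ha using Submodule.mul_induction_on' with
  | mem_mul_mem b hb c hc =>
    rw [← hs] at hc
    induction hc using Submodule.span_induction with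
    | mem c hc =>
      rw [mul_smul]
      exact hn ⟨c, hc⟩ b (Ideal.pow_le_pow_right (Finset.le_sup (f := n) (Finset.mem_attach _ _)) hb)
    | zero => rw [mul_zero, zero_smul]
    | add y z _ _ h1 h2 => rw [mul_add, add_smul, h1, h2, add_zero]
    | smul r y _ h1 => rw [smul_eq_mul, mul_left_comm, mul_smul, h1, smul_zero]
  | add y hy z hz h1 h2 => rw [add_smul, h1, h2, add_zero]

end Groth.Agent.S7039
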