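import Groth.Statements.S7040
import Mathlib.Algebra.Homology.ShortComplex.ModuleCat

set_option autoImplicit false
universe u
open CategoryTheory
open LocCoh

namespace Groth.Agent.S7040

/-- For a finitely generated ideal I of a commutative ring R, the property of being an I-power torsion
module (every element killed by a power of I) is a Serre class in the category of R-modules: it
holds for 0 and is closed under subobjects, quotients and extensions. -/
theorem result {R : Type u} [CommRing R] (I : Ideal R) (hI : I.FG) :
    ObjectProperty.IsSerreClass (C := ModuleCat.{u} R) (fun M => LocCoh.IsPowerTorsion I M) := by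
  refine { exists_zero := ⟨ModuleCat.of R PUnit, ModuleCat.isZero_of_subsingleton _,
             fun _ => ⟨0, fun _ _ => Subsingleton.elim _ _⟩⟩
           prop_of_mono := fun {X Y} f _ hY x => ?_
           prop_of_epi := fun {X Y} f _ hX y => ?_
           prop_X₂_of_shortExact := fun {S} hS h1 h3 x => ?_ }
  · obtain ⟨n, hn⟩ := hY (f.hom x)
    refine ⟨n, fun a ha => (ModuleCat.mono_iff_injective f).1 inferInstance ?_⟩
    rw [map_smul, hn a ha, map_zero]
  · obtain ⟨x, rfl⟩ := (ModuleCat.epi_iff_surjective f).1 inferInstance y
    obtain ⟨n, hn⟩ := hX x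
    exact ⟨n, fun a ha => by rw [← map_smul, hn a ha, map_zero]⟩
  · obtain ⟨n, hn⟩ := h3 (S.g.hom x)
    obtain ⟨s, hs⟩ := hI.pow (n := n)
    have hmem : ∀ a : s, ∃ l, S.f.hom l = (a : R) • x := fun a =>
      (ShortComplex.ShortExact.moduleCat_exact_iff_function_exact _).1 hS.exact _ |>.1 (by
        rw [map_smul]; exact hn a (hs ▸ Submodule.subset_span a.2))
    choose l hl using hmem
    choose m hm using fun a : s => h1 (l a)
    classical
    refine ⟨s.attach.sup m + n, fun a ha => ?_⟩
    rw [pow_add] at ha
    induction ha using Submodule.mul_induction_on' with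
    | mem_mul_mem b hb c hc =>
      rw [← hs] at hc
      induction hc using Submodule.span_induction with
      | mem c hc =>
        rw [mul_smul, ← hl ⟨c, hc⟩, ← map_smul,
          hm _ b (Ideal.pow_le_pow_right (Finset.le_sup (f := m) (Finset.mem_attach _ ⟨c, hc⟩)) hb), map_zero]
      | zero => rw [mul_zero, zero_smul]
      | add y z _ _ h1 h2 => rw [mul_add, add_smul, h1, h2, add_zero]
      | smul r y _ h1 => rw [smul_eq_mul, mul_left_comm, mul_smul, h1, smul_zero]
    | add y hy z hz h1 h2 => rw [add_smul, h1, h2, add_zero]

end Groth.Agent.S7040
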