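import Groth.Statements.S7041
import Mathlib.RingTheory.Ideal.Quotient.Operations
import Mathlib.LinearAlgebra.TensorProduct.Basic
import Mathlib.LinearAlgebra.TensorProduct.Tower

set_option autoImplicit false
universe u
open TensorProduct
open LocCoh

namespace Groth.Agent.S7041

/-- Let R → R' be a homomorphism of commutative rings and I an ideal of R such that the induced map
R/I^n → R'/I^n R' is bijective for every n > 0. Then for every R-module M in which every element is
killed by a power of I, the map M → R' ⊗_R M sending m to 1 ⊗ m is bijective. -/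
theorem result {R R' : Type u} [CommRing R] [CommRing R'] [Algebra R R']
    (I : Ideal R)
    (hq : ∀ n : ℕ, 0 < n → Function.Bijective
      (Ideal.quotientMap (Ideal.map (algebraMap R R') (I ^ n)) (algebraMap R R') Ideal.le_comap_map))
    (M : Type u) [AddCommGroup M] [Module R M] (hM : LocCoh.IsPowerTorsion I M) :
    Function.Bijective (fun m : M => (1 : R') ⊗ₜ[R] m) := by
  have hq' : ∀ (s : R') (n : ℕ), ∃ r : R, s - algebraMap R R' r ∈ Ideal.map (algebraMap R R') (I ^ n) := by
    intro s n
    rcases Nat.eq_zero_or_pos n with rfl | hn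
    · exact ⟨0, by simp [Ideal.map_top]⟩
    obtain ⟨z, hz⟩ := (hq n hn).2 (Ideal.Quotient.mk _ s)
    obtain ⟨r, rfl⟩ := Ideal.Quotient.mk_surjective z
    rw [Ideal.quotientMap_mk, Ideal.Quotient.eq] at hz
    exact ⟨r, by simpa using neg_mem hz⟩
  have hcomap : ∀ (n : ℕ) (r : R), algebraMap R R' r ∈ Ideal.map (algebraMap R R') (I ^ n) → r ∈ I ^ n := by
    intro n r hr
    rcases Nat.eq_zero_or_pos n with rfl | hn
    · simp
    exact Ideal.Quotient.eq_zero_iff_mem.1 ((hq n hn).1
      (a₁ := Ideal.Quotient.mk _ r) (a₂ := 0) (by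
        rw [map_zero, Ideal.quotientMap_mk]; exact Ideal.Quotient.eq_zero_iff_mem.2 hr))
  choose N hN using hM
  choose ρ hρ using hq'
  have hwd : ∀ (s : R') (m : M) (n : ℕ) (r : R), (∀ a ∈ I ^ n, a • m = 0) →
      s - algebraMap R R' r ∈ Ideal.map (algebraMap R R') (I ^ n) → ρ s (N m) • m = r • m := by
    intro s m n r hn hr
    have h1 : ρ s (N m) - r ∈ I ^ min (N m) n := by
      refine hcomap _ _ ?_
      rw [map_sub, ← sub_sub_sub_cancel_left (algebraMap R R' r) (algebraMap R R' (ρ s (N m))) s]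
      exact Ideal.sub_mem _ (Ideal.map_mono (Ideal.pow_le_pow_right (min_le_right _ _)) hr)
        (Ideal.map_mono (Ideal.pow_le_pow_right (min_le_left _ _)) (hρ s (N m)))
    rw [← sub_eq_zero, ← sub_smul]
    rcases le_total (N m) n with h | h
    · exact hN m _ (by rwa [min_eq_left h] at h1)
    · exact hn _ (by rwa [min_eq_right h] at h1)
  let B : R' →ₗ[R] M →ₗ[R] M := LinearMap.mk₂ R (fun s m => ρ s (N m) • m)
    (fun s s' m => by
      rw [← add_smul]
      refine hwd (s + s') m (N m) _ (hN m) ?_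
      rw [map_add, add_sub_add_comm]
      exact Ideal.add_mem _ (hρ s _) (hρ s' _))
    (fun c s m => by
      rw [← mul_smul]
      refine hwd (c • s) m (N m) _ (hN m) ?_
      rw [Algebra.smul_def, map_mul, ← mul_sub]
      exact Ideal.mul_mem_left _ _ (hρ s _))
    (fun s m m' => by
      obtain ⟨n, h1, h2⟩ : ∃ n, N m ≤ n ∧ N m' ≤ n := ⟨_, le_max_left _ _, le_max_right _ _⟩
      have k1 : ∀ a ∈ I ^ n, a • m = 0 := fun a ha => hN m a (Ideal.pow_le_pow_right h1 ha)
      have k2 : ∀ a ∈ I ^ n, a • m' = 0 := fun a ha => hN m' a (Ideal.pow_le_pow_right h2 ha)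
      rw [hwd s (m + m') n (ρ s n) (fun a ha => by rw [smul_add, k1 a ha, k2 a ha, add_zero]) (hρ s n),
        hwd s m n (ρ s n) k1 (hρ s n), hwd s m' n (ρ s n) k2 (hρ s n), smul_add])
    (fun c s m => by
      rw [hwd s (c • m) (N m) (ρ s (N m)) (fun a ha => by rw [smul_comm, hN m a ha, smul_zero]) (hρ s _),
        smul_comm])
  have hleft : ∀ m, TensorProduct.lift B ((1 : R') ⊗ₜ[R] m) = m := fun m => by
    rw [TensorProduct.lift.tmul]
    change ρ 1 (N m) • m = m
    rw [hwd 1 m (N m) 1 (hN m) (by simp), one_smul]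
  refine ⟨fun a b hab => by rw [← hleft a, ← hleft b]; exact congrArg _ hab, fun z => ⟨TensorProduct.lift B z, ?_⟩⟩
  have hkill : ∀ (n : ℕ) (m : M), (∀ a ∈ I ^ n, a • m = 0) → ∀ s ∈ Ideal.map (algebraMap R R') (I ^ n), s ⊗ₜ[R] m = 0 := by
    intro n m hn s hs
    induction hs using Submodule.span_induction with
    | mem s hs =>
      obtain ⟨a, ha, rfl⟩ := hs
      rw [Algebra.algebraMap_eq_smul_one, TensorProduct.smul_tmul, hn a ha, TensorProduct.tmul_zero]
    | zero => exact TensorProduct.zero_tmul _ _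
    | add x y _ _ h1 h2 => rw [TensorProduct.add_tmul, h1, h2, add_zero]
    | smul c x _ h1 =>
      have := congrArg (fun z : TensorProduct R R' M => c • z) h1
      simpa [TensorProduct.smul_tmul'] using this
  induction z using TensorProduct.induction_on with
  | zero => simp
  | tmul s m =>
    change (1 : R') ⊗ₜ[R] (ρ s (N m) • m) = s ⊗ₜ[R] m
    rw [← TensorProduct.smul_tmul, ← Algebra.algebraMap_eq_smul_one, ← sub_eq_zero,
      ← TensorProduct.sub_tmul, ← neg_sub, TensorProduct.neg_tmul,
      hkill _ _ (hN m) _ (hρ s _), neg_zero]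
  | add x y h1 h2 =>
    change (1 : R') ⊗ₜ[R] TensorProduct.lift B (x + y) = x + y
    dsimp only at h1 h2
    rw [map_add, TensorProduct.tmul_add, h1, h2]

end Groth.Agent.S7041
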