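import Groth.Statements.S7042
import Groth.Agent.Lib.DCxRing.DComplete.Basic
import Groth.Agent.Lib.DCxRing.DComplete.Ideal


set_option autoImplicit false
universe u
attribute [local instance] HasDerivedCategory.standard
open DRing

namespace Groth.Agent.S7042

open GrothLib.DCpl in
lemma key {A : Type u} [CommRing A] (f : A) {M : Type u} [AddCommGroup M] [Module A M] (hf : DCMod f M)
    (ht : ∀ m : M, ∃ c : ℕ, f ^ c • m = 0) : ∃ n : ℕ, ∀ x : M, f ^ n • x = 0 := by
  by_contra hne
  simp only [not_exists, not_forall] at hne
  have step : ∀ p : ℕ, ∃ w : M, ∀ z : M, f ^ (p + 1) • z ≠ f ^ p • w := fun p => by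
    by_contra hh
    simp only [not_exists, not_forall, not_not] at hh
    obtain ⟨x, hx⟩ := hne p
    choose g hg using hh
    let seq : ℕ → M := fun j => Nat.rec x (fun _ y => g y) j
    have h0 := hf.eq_zero (fun j => f ^ p • seq j) (fun j => by
      rw [smul_smul, ← pow_succ']
      exact (hg (seq j)).symm) 0
    exact hx h0
  choose w hw using step
  choose c hc using ht
  -- the partial sums, with exponents killing them
  let S : ℕ → M := fun k => Nat.rec 0 (fun k s => s + f ^ k • w (max k (c s) + k)) k
  let x : ℕ → M := fun k => w (max k (c (S k)) + k)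
  obtain ⟨z, hz⟩ := hf.2 x
  have hsum : ∀ k, z 0 = S k + f ^ k • z k := by
    intro k
    induction k with
    | zero => simp [S]
    | succ k ih =>
      have h1 : z k = x k + f • z (k + 1) := (eq_add_of_sub_eq (congrFun hz k)).trans (by simp)
      rw [ih, h1, smul_add, smul_smul, ← pow_succ, ← add_assoc]
  let k := c (z 0)
  let p := max k (c (S k))
  have h0 : f ^ p • z 0 = 0 := by
    rw [show p = (p - k) + k from (Nat.sub_add_cancel (le_max_left _ _)).symm, pow_add, mul_smul, hc, smul_zero]
  have hS : f ^ p • S k = 0 := by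
    rw [show p = (p - c (S k)) + c (S k) from (Nat.sub_add_cancel (le_max_right _ _)).symm, pow_add, mul_smul,
      hc, smul_zero]
  rw [hsum (k + 1), smul_add] at h0
  have h1 : S (k + 1) = S k + f ^ k • w (p + k) := rfl
  rw [h1, smul_add, hS, zero_add, smul_smul, ← pow_add, smul_smul, ← pow_add] at h0
  refine hw (p + k) (-z (k + 1)) ?_
  rw [smul_neg, neg_eq_iff_add_eq_zero, add_comm, add_assoc]
  exact h0


/-- Let I be a finitely generated ideal of a commutative ring A and let M be an A-module which, placed
in degree 0, is derived complete with respect to I, and in which every element is killed by a power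
of I. Then a single power of I kills M. -/
theorem result {A : Type u} [CommRing A]
    (I : Ideal A) (hI : I.FG) (M : Type u) [AddCommGroup M] [Module A M]
    (hc : DRing.IsDerivedComplete I (Dual.inD A M)) (ht : LocCoh.IsPowerTorsion I M) :
    ∃ n : ℕ, I ^ n • (⊤ : Submodule A M) = ⊥ := by
  rw [GrothLib.DCpl.isDerivedComplete_inD_iff] at hc
  have hle : I ≤ (⊤ : Submodule A M).annihilator.radical := fun f hf => by
    obtain ⟨n, hn⟩ := key f (hc f hf) fun m => by
      obtain ⟨c, hcc⟩ := ht m
      exact ⟨c, hcc _ (Ideal.pow_mem_pow hf c)⟩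
    exact ⟨n, Submodule.mem_annihilator.2 fun x _ => hn x⟩
  obtain ⟨n, hn⟩ := Ideal.exists_pow_le_of_le_radical_of_fg hle hI
  refine ⟨n, eq_bot_iff.2 (Submodule.smul_le.2 fun a ha x _ => ?_)⟩
  exact Submodule.mem_annihilator.1 (hn ha) x trivial

end Groth.Agent.S7042
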