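import Groth.Statements.S7043
import Groth.Agent.Lib.DCxRing.DComplete.Basic
import Groth.Agent.Lib.DCxRing.DComplete.Ideal


set_option autoImplicit false
universe u
attribute [local instance] HasDerivedCategory.standard
open DRing

namespace Groth.Agent.S7043

/-- Let f be an element of a commutative ring A and let M be an A-module which, placed in degree 0, is
derived complete with respect to the ideal (f). Then the ideal J = ⋂ f^n A annihilates the submodule
⋂ f^n M, which is the kernel of M → lim M/f^n M. (The case M = A says that J has square zero when A
itself is derived complete.) -/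
theorem result {A : Type u} [CommRing A] (f : A)
    (M : Type u) [AddCommGroup M] [Module A M]
    (hc : DRing.IsDerivedComplete (Ideal.span {f}) (Dual.inD A M)) :
    (⨅ n : ℕ, Ideal.span {f ^ n}) • (⨅ n : ℕ, (Ideal.span {f ^ n}) • (⊤ : Submodule A M)) = (⊥ : Submodule A M) := by
  rw [GrothLib.DCpl.isDerivedComplete_inD_iff] at hc
  have hf := hc f (Ideal.mem_span_singleton_self f)
  rw [eq_bot_iff, Submodule.smul_le]
  intro j hj x hx
  simp only [Submodule.mem_iInf, Ideal.mem_span_singleton'] at hj
  simp only [Submodule.mem_iInf, Submodule.ideal_span_singleton_smul,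
    Submodule.mem_smul_pointwise_iff_exists, Submodule.mem_top, true_and] at hx
  choose a ha using hj
  choose m hm using hx
  have h := hf.eq_zero (fun k => a k • x) (fun k => ?_) 0
  · rw [Submodule.mem_bot, ← ha 0, pow_zero, mul_one]
    exact h
  · rw [smul_smul, ← hm k, smul_smul, smul_smul, ha k, show f * a (k + 1) * f ^ k = a (k + 1) * f ^ (k + 1) by ring, ha (k + 1)]

end Groth.Agent.S7043
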