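import Groth.Statements.S7045
import Groth.Agent.Lib.DCxRing.DComplete.Basic
import Groth.Agent.Lib.DCxRing.DComplete.Transfer


set_option autoImplicit false
universe u
attribute [local instance] HasDerivedCategory.standard
open DRing

namespace Groth.Agent.S7045

open GrothLib.DCpl in
lemma key : ∀ (r : ℕ) (A : Type u) [CommRing A] (s : Finset A), s.card ≤ r →
    (∀ f ∈ s, DCMod f A) → (⨅ n : ℕ, Ideal.span (s : Set A) ^ n) ^ (2 ^ r) = ⊥ := by
  classical
  intro r
  induction r with
  | zero =>
    intro A _ s hs _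
    rw [Finset.card_eq_zero.1 (Nat.le_zero.1 hs), Finset.coe_empty, Ideal.span_empty, pow_zero, pow_one]
    exact eq_bot_iff.2 ((iInf_le _ 1).trans (by rw [pow_one]))
  | succ r ih =>
    intro A _ s hs hdc
    rcases s.eq_empty_or_nonempty with h | ⟨f, hf⟩
    · have h0 : (⨅ n : ℕ, Ideal.span (s : Set A) ^ n) = ⊥ :=
        eq_bot_iff.2 ((iInf_le _ 1).trans (by rw [pow_one, h, Finset.coe_empty, Ideal.span_empty]))
      rw [h0]
      exact Ideal.bot_pow (by positivity)
    set J := ⨅ n : ℕ, Ideal.span (s : Set A) ^ n with hJ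
    have hle : ∀ n : ℕ, J ^ (2 ^ r) ≤ Ideal.span {f ^ n} := by
      intro n
      rcases Nat.eq_zero_or_pos n with rfl | hn
      · simp
      let q := Ideal.Quotient.mk (Ideal.span {f ^ n})
      let t : Finset (A ⧸ Ideal.span {f ^ n}) := (s.erase f).image q
      have ht := ih (A ⧸ Ideal.span {f ^ n}) t
        (Finset.card_image_le.trans (by rw [Finset.card_erase_of_mem hf]; omega)) fun g hg => by
          obtain ⟨g', hg', rfl⟩ := Finset.mem_image.1 hg
          exact dcMod_quotient_span_singleton (hdc g' (Finset.mem_of_mem_erase hg'))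
      rw [← Ideal.mk_ker (I := Ideal.span {f ^ n}), ← Ideal.map_eq_bot_iff_le_ker, Ideal.map_pow, ← le_bot_iff, ← ht]
      refine Ideal.pow_right_mono (le_iInf fun m => ?_) _
      obtain ⟨e, he⟩ : ∃ e, Ideal.span (s : Set A) ^ e ≤
          Ideal.span {f ^ n} ⊔ Ideal.span ((s.erase f : Finset A) : Set A) ^ m := by
        refine Ideal.exists_pow_le_of_le_radical_of_fg (Ideal.span_le.2 fun g hg => ?_) ⟨s, rfl⟩
        by_cases hgf : g = f
        · subst hgf
          exact ⟨n, Ideal.mem_sup_left (Ideal.mem_span_singleton_self _)⟩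
        · exact ⟨m, Ideal.mem_sup_right (Ideal.pow_mem_pow (Ideal.subset_span (Finset.mem_erase.2 ⟨hgf, hg⟩)) m)⟩
      refine (Ideal.map_mono ((iInf_le _ e).trans he)).trans ?_
      rw [Ideal.map_sup, Ideal.map_pow, Ideal.map_span, Ideal.map_span, Set.image_singleton,
        Ideal.Quotient.eq_zero_iff_mem.2 (Ideal.mem_span_singleton_self _), Ideal.span_singleton_zero, bot_sup_eq,
        Finset.coe_image]
    have hjj : J ^ (2 ^ r) ≤ ⨅ n : ℕ, Ideal.span {f ^ n} := le_iInf hle
    rw [pow_succ, pow_mul, pow_two, ← le_bot_iff]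
    refine (Ideal.mul_mono hjj hjj).trans (Ideal.mul_le.2 fun j hj x hx => ?_)
    simp only [Submodule.mem_iInf, Ideal.mem_span_singleton'] at hj hx
    choose a ha using hj
    choose b hb using hx
    rw [Ideal.mem_bot, ← ha 0, pow_zero, mul_one]
    refine (hdc f hf).eq_zero (fun k => a k * x) (fun k => ?_) 0
    calc a k * x = (a k * f ^ k) * b k := by rw [← hb k]; ring
      _ = (a (k + 1) * f ^ (k + 1)) * b k := by rw [ha, ha]
      _ = f • (a (k + 1) * x) := by rw [← hb k, smul_eq_mul]; ring


/-- Let A be a commutative ring which, placed in degree 0 of D(A), is derived complete with respect to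
an ideal I generated by a finite set of r elements. Then the ideal J = ⋂ I^n satisfies J^N = 0 with
N = 2^r. -/
theorem result {A : Type u} [CommRing A] (I : Ideal A)
    (s : Finset A) (hs : Ideal.span (s : Set A) = I)
    (hc : DRing.IsDerivedComplete I (Dual.inD A A)) :
    (⨅ n : ℕ, I ^ n) ^ (2 ^ s.card) = ⊥ := by
  rw [GrothLib.DCpl.isDerivedComplete_inD_iff] at hc
  subst hs
  exact key s.card A s le_rfl fun f hf => hc f (Ideal.subset_span hf)

end Groth.Agent.S7045
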