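import Groth.Statements.S7044
import Groth.Agent.Lib.DCxRing.DComplete.Transfer
import Groth.Agent.Lib.DCxRing.DComplete.Basic
import Groth.Agent.S7045
import Mathlib.RingTheory.AdicCompletion.LocalRing
import Mathlib.RingTheory.Henselian


set_option autoImplicit false
universe u
attribute [local instance] HasDerivedCategory.standard
open DRing

namespace Groth.Agent.S7044

open GrothLib.DCpl Polynomial in
lemma key {A : Type u} [CommRing A] (I : Ideal A) (hc : ∀ f ∈ I, DCMod f A) : HenselianRing A I := by
  have hunit : ∀ x ∈ I, IsUnit (1 - x) := fun x hx => by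
    obtain ⟨y, hy⟩ := ((hc x hx).bijective_one_sub 1).2 1
    refine IsUnit.of_mul_eq_one y ?_
    rw [sub_mul, one_mul]
    simpa using hy
  have hjac : I ≤ Ideal.jacobson ⊥ := fun x hx => Ideal.mem_jacobson_bot.2 fun y => by
    have := hunit (-(x * y)) (neg_mem (I.mul_mem_right y hx))
    rwa [sub_neg_eq_add, add_comm] at this
  refine ⟨hjac, fun p hp a₀ h1 h2 => ?_⟩
  set g := p.eval a₀ with hg
  set J := Ideal.span {g} with hJ
  have hJI : J ≤ I := (Ideal.span_singleton_le_iff_mem I).2 h1
  have hpre : IsPrecomplete J A := by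
    have := isPrecomplete_of_dcMod (M := A) ({g} : Finset A) fun f hf => by
      rw [Finset.mem_singleton.1 hf]
      exact hc g h1
    rwa [Finset.coe_singleton] at this
  have hker : ∀ x : A, algebraMap A (AdicCompletion J A) x = 0 → ∀ y,
      algebraMap A (AdicCompletion J A) y = 0 → x * y = 0 := by
    have hmem : ∀ x : A, algebraMap A (AdicCompletion J A) x = 0 → ∀ n : ℕ, ∃ a, a * g ^ n = x := fun x hx n => by
      have h0 := congrArg (fun z => AdicCompletion.eval J A n z) hx
      simp only [map_zero, AdicCompletion.algebraMap_apply, AdicCompletion.eval_apply,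
        AdicCompletion.of_apply] at h0
      have h0' : x ∈ (J ^ n • ⊤ : Submodule A A) := by
        simpa [Ideal.Quotient.eq_zero_iff_mem, Algebra.smul_def] using h0
      rw [smul_eq_mul, Ideal.mul_top, hJ, Ideal.span_singleton_pow, Ideal.mem_span_singleton'] at h0'
      exact h0'
    intro x hx y hy
    choose a ha using hmem x hx
    choose b hb using hmem y hy
    rw [← ha 0, pow_zero, mul_one]
    refine (hc g h1).eq_zero (fun k => a k * y) (fun k => ?_) 0
    calc a k * y = (a k * g ^ k) * b k := by rw [← hb k]; ring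
      _ = (a (k + 1) * g ^ (k + 1)) * b k := by rw [ha, ha]
      _ = g • (a (k + 1) * y) := by rw [← hb k, smul_eq_mul]; ring
  haveI := AdicCompletion.isAdicComplete_self J (Submodule.fg_span_singleton g)
  let φ := algebraMap A (AdicCompletion J A)
  have hφ : Function.Surjective φ := AdicCompletion.of_surjective J A
  have hu : IsUnit (p.derivative.eval a₀) := by
    obtain ⟨z, hz⟩ := h2.exists_right_inv
    obtain ⟨z, rfl⟩ := Ideal.Quotient.mk_surjective z
    rw [← map_mul, ← map_one (Ideal.Quotient.mk I), Ideal.Quotient.eq] at hz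
    have := hunit _ (neg_mem hz)
    rw [sub_neg_eq_add, add_sub_cancel] at this
    exact isUnit_of_mul_isUnit_left this
  obtain ⟨α, hα, hαmem⟩ := HenselianRing.is_henselian (I := J.map φ) (p.map φ) (hp.map φ) (φ a₀)
    (by rw [eval_map, eval₂_at_apply]; exact Ideal.mem_map_of_mem φ (Ideal.mem_span_singleton_self g))
    (by rw [derivative_map, eval_map, eval₂_at_apply]; exact (hu.map φ).map _)
  obtain ⟨a, rfl⟩ := hφ α
  rw [IsRoot, eval_map, eval₂_at_apply] at hα
  have hamem : a - a₀ ∈ I := by
    rw [← map_sub, ← Ideal.mem_comap, Ideal.comap_map_of_surjective φ hφ, ← RingHom.ker_eq_comap_bot] at hαmem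
    refine (sup_le hJI fun x hx => ?_) hαmem
    have h0 := congrArg (fun z => AdicCompletion.eval J A 1 z) (show φ x = 0 from hx)
    simp only [φ, map_zero, AdicCompletion.algebraMap_apply, AdicCompletion.eval_apply,
      AdicCompletion.of_apply] at h0
    have h0' : x ∈ (J ^ 1 • ⊤ : Submodule A A) := by
      simpa [Ideal.Quotient.eq_zero_iff_mem, Algebra.smul_def] using h0
    rw [smul_eq_mul, Ideal.mul_top, pow_one] at h0'
    exact hJI h0'
  have hua : IsUnit (p.derivative.eval a) := by
    obtain ⟨w, hw⟩ := sub_dvd_eval_sub a a₀ p.derivative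
    obtain ⟨z, hz⟩ := hu.exists_right_inv
    have hmem : -((p.derivative.eval a - p.derivative.eval a₀) * z) ∈ I :=
      neg_mem (I.mul_mem_right _ (hw ▸ I.mul_mem_right _ hamem))
    have := hunit _ hmem
    rw [sub_neg_eq_add, sub_mul, hz, add_sub_cancel] at this
    exact isUnit_of_mul_isUnit_left this
  obtain ⟨v, hv⟩ := hua.exists_right_inv
  refine ⟨a - p.eval a * v, ?_, ?_⟩
  · rw [IsRoot, sub_eq_add_neg]
    obtain ⟨k, hk⟩ := p.binomExpansion a (-(p.eval a * v))
    rw [hk, mul_neg, ← mul_assoc, mul_comm (p.derivative.eval a), mul_assoc, hv, mul_one, neg_sq, mul_pow]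
    have hsq : p.eval a ^ 2 = 0 := by rw [pow_two]; exact hker _ hα _ hα
    rw [hsq]
    ring
  · rw [sub_right_comm]
    refine sub_mem hamem (I.mul_mem_right _ ?_)
    obtain ⟨w, hw⟩ := sub_dvd_eval_sub a a₀ p
    have := add_mem (show p.eval a - p.eval a₀ ∈ I from hw ▸ I.mul_mem_right _ hamem) h1
    rwa [hg, sub_add_cancel] at this


/-- Let A be a commutative ring and I an ideal of A; if A, regarded as an object of D(A) sitting in
degree 0, is I-adically derived complete, then the pair (A, I) is henselian: I lies in the Jacobson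
radical and simple roots modulo I of monic polynomials lift to roots in A. -/
theorem result {A : Type u} [CommRing A] (I : Ideal A)
    (hc : DRing.IsDerivedComplete I (Dual.inD A A)) : HenselianRing A I := by
  rw [GrothLib.DCpl.isDerivedComplete_inD_iff] at hc
  exact key I hc

end Groth.Agent.S7044
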