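import Groth.Statements.S7046
import Groth.Agent.Lib.DCxRing.DComplete.Basic
import Groth.Agent.Lib.DCxRing.DComplete.Transfer
import Groth.Agent.S7045


set_option autoImplicit false
universe u
attribute [local instance] HasDerivedCategory.standard
open DRing

namespace Groth.Agent.S7046

/-- A reduced commutative ring A which, placed in degree 0 of D(A), is derived complete with respect to
a finitely generated ideal I is I-adically complete, i.e. separated and complete for the I-adic
topology. -/
theorem result {A : Type u} [CommRing A] [IsReduced A]
    (I : Ideal A) (hI : I.FG) (hc : DRing.IsDerivedComplete I (Dual.inD A A)) :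
    IsAdicComplete I A := by
  obtain ⟨s, hs⟩ := hI
  have h := S7045.result I s hs hc
  rw [GrothLib.DCpl.isDerivedComplete_inD_iff] at hc
  subst hs
  haveI := GrothLib.DCpl.isPrecomplete_of_dcMod (M := A) s fun g hg => hc g (Ideal.subset_span hg)
  haveI : IsHausdorff (Submodule.span A (s : Set A)) A := ⟨fun x hx => ?_⟩
  · exact { }
  have hx' : x ∈ ⨅ n : ℕ, Submodule.span A (s : Set A) ^ n := by
    simpa [SModEq.zero] using hx
  have := Ideal.pow_mem_pow hx' (2 ^ s.card)
  rw [h, Ideal.mem_bot] at this
  exact eq_zero_of_pow_eq_zero this

end Groth.Agent.S7046
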