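import Groth.Statements.S7050
import Groth.Agent.Lib.DCxRing.DComplete.Basic
import Groth.Agent.Lib.DCxRing.DComplete.Ideal


set_option autoImplicit false
universe u
attribute [local instance] HasDerivedCategory.standard
open DRing

namespace Groth.Agent.S7050

/-- For a commutative ring A, an ideal I and an object K of D(A), K is derived complete with respect to
I if and only if each of its cohomology modules, placed in degree 0, is derived complete with
respect to I. -/
theorem result {A : Type u} [CommRing A] (I : Ideal A) (K : Dual.D A) :
    DRing.IsDerivedComplete I K ↔ ∀ i : ℤ, DRing.IsDerivedComplete I (Dual.inD A (Dual.HD A K i)) := by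
  simp only [GrothLib.DCpl.isDerivedComplete_inD_iff]
  rw [GrothLib.DCpl.isDerivedComplete_iff]
  exact ⟨fun h i f hf => h f hf i, fun h f hf i => h i f hf⟩

end Groth.Agent.S7050
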