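import Groth.Statements.S7053
import Groth.Agent.Lib.DCxRing.DComplete.Basic
import Groth.Agent.Lib.DCxRing.DComplete.Ideal


set_option autoImplicit false
universe u
attribute [local instance] HasDerivedCategory.standard
open DRing

namespace Groth.Agent.S7053

open GrothLib.DCpl in
lemma key {A : Type u} [CommRing A] : ∀ (s : Finset A) (M : Type u) [AddCommGroup M] [Module A M],
    (∀ f ∈ s, DCMod f M) → (Ideal.span (s : Set A)) • (⊤ : Submodule A M) = ⊤ → Subsingleton M := by
  classical
  intro s
  induction s using Finset.induction with
  | empty =>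
    intro M _ _ _ h
    rw [Finset.coe_empty, Ideal.span_empty, Submodule.bot_smul] at h
    exact (Submodule.subsingleton_iff A).1 (subsingleton_of_bot_eq_top h)
  | insert f t ht ih =>
    intro M _ _ hdc h
    let u : M →ₗ[A] M := LinearMap.lsmul A M f
    have hfM := hdc f (Finset.mem_insert_self f t)
    have hQ : Subsingleton (M ⧸ LinearMap.range u) := by
      refine ih _ (fun g hg => dcMod_coker u (hdc g (Finset.mem_insert_of_mem hg))
        (hdc g (Finset.mem_insert_of_mem hg))) ?_
      have h1 := congrArg (Submodule.map (LinearMap.range u).mkQ) h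
      rw [Submodule.map_smul'', Submodule.map_top, Submodule.range_mkQ, Finset.coe_insert, Ideal.span_insert,
        Submodule.sup_smul] at h1
      refine (sup_eq_right.2 ?_).symm.trans h1
      refine Submodule.smul_le.2 fun a ha x _ => ?_
      obtain ⟨b, rfl⟩ := Ideal.mem_span_singleton'.1 ha
      obtain ⟨z, rfl⟩ := (LinearMap.range u).mkQ_surjective x
      have h0 : (b * f) • z ∈ LinearMap.range u := ⟨b • z, by simp [u, smul_smul, mul_comm]⟩
      rw [← map_smul, Submodule.mkQ_apply, (Submodule.Quotient.mk_eq_zero _).2 h0]
      exact zero_mem _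
    have hdiv : ∀ x : M, ∃ y, f • y = x := fun x => by
      have := (Submodule.Quotient.subsingleton_iff.1 hQ).symm ▸ Submodule.mem_top (x := x)
      exact this
    choose g hg using hdiv
    refine subsingleton_of_forall_eq 0 fun x => ?_
    let seq : ℕ → M := fun j => Nat.rec x (fun _ y => g y) j
    exact hfM.eq_zero seq (fun j => (hg (seq j)).symm) 0


/-- For a commutative ring A, a finitely generated ideal I and an A-module M which, placed in degree 0
of D(A), is derived complete with respect to I, if IM = M then M = 0. -/
theorem result {A : Type u} [CommRing A] (I : Ideal A) (hI : I.FG)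
    (M : Type u) [AddCommGroup M] [Module A M] (hc : DRing.IsDerivedComplete I (Dual.inD A M))
    (h : I • (⊤ : Submodule A M) = ⊤) : Subsingleton M := by
  rw [GrothLib.DCpl.isDerivedComplete_inD_iff] at hc
  obtain ⟨s, hs⟩ := hI
  refine key s M (fun f hf => hc f (hs ▸ Ideal.subset_span hf)) ?_
  rw [← h]
  congr 1

end Groth.Agent.S7053
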