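import Groth.Statements.S7054
import Groth.Agent.Lib.DCxRing.DComplete.Basic
import Groth.Agent.Lib.DCxRing.DComplete.Transfer


set_option autoImplicit false
universe u
attribute [local instance] HasDerivedCategory.standard
open DRing

namespace Groth.Agent.S7054

/-- For a commutative ring A and an ideal I such that A, placed in degree 0, is derived complete with
respect to I, every object of D(A) isomorphic to a bounded above complex of finite free A-modules is
derived complete with respect to I. -/
theorem result {A : Type u} [CommRing A] (I : Ideal A)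
    (hA : DRing.IsDerivedComplete I (Dual.inD A A)) (K : Dual.D A) (hK : DRing.IsPseudoCoherent' A K) :
    DRing.IsDerivedComplete I K := by
  rw [GrothLib.DCpl.isDerivedComplete_inD_iff] at hA
  obtain ⟨E, b, -, hE, ⟨e⟩⟩ := hK
  rw [GrothLib.DCpl.isDerivedComplete_iff]
  intro f hf n
  have hX : ∀ i, GrothLib.DCpl.DCMod f (E.X i) := fun i => by
    haveI := (hE i).1
    haveI := (hE i).2
    exact GrothLib.DCpl.dcMod_of_equiv (Module.Free.chooseBasis A (E.X i)).equivFun.symm
      (GrothLib.DCpl.dcMod_pi (hA f hf))
  refine GrothLib.DCpl.dcMod_of_equiv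
    ((E.sc n).moduleCatHomologyIso.symm ≪≫ (GrothLib.DR.homologyIso E n).symm ≪≫
      (DerivedCategory.homologyFunctor (ModuleCat.{u} A) n).mapIso e).toLinearEquiv ?_
  exact GrothLib.DCpl.dcMod_coker _ (hX _) (GrothLib.DCpl.dcMod_ker _ (hX n) (hX _))

end Groth.Agent.S7054
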