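import Groth.Statements.S7055
import Groth.Agent.Lib.DCxRing.DComplete.Nakayama


set_option autoImplicit false
universe u
attribute [local instance] HasDerivedCategory.standard
open CategoryTheory
open DRing

namespace Groth.Agent.S7055

/-- For a commutative ring A, a finitely generated ideal I and an object K of D(A) which is derived
complete with respect to I, if K ⊗^L_A A/I vanishes then K vanishes. The derived tensor product with
the module A/I is the total left derived functor, assumed to exist. -/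
theorem result {A : Type u} [CommRing A] (I : Ideal A) (hI : I.FG)
    [DRing.HasLTensor A (ModuleCat.of A (A ⧸ I))]
    (K : Dual.D A) (hc : DRing.IsDerivedComplete I K)
    (h0 : Limits.IsZero ((DRing.LTensor A (ModuleCat.of A (A ⧸ I))).obj K)) : Limits.IsZero K := by
  obtain ⟨P, hP, hPf, ⟨e⟩⟩ := GrothLib.KF.exists_kflat_rep K
  obtain ⟨eP⟩ := GrothLib.KF.lTensor_value (ModuleCat.of A (A ⧸ I)) hP
  let F := MonoidalCategory.tensorRight (ModuleCat.of A (A ⧸ I))
  let eS : ∀ (X : DRing.Cx A) (k : ℤ), DRing.toD (X⟦k⟧) ≅ (DRing.toD X)⟦k⟧ := fun X k =>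
    (DerivedCategory.Q.commShiftIso k).app X
  have hzero : Limits.IsZero (DRing.toD (DRing.tensorCx P (ModuleCat.of A (A ⧸ I)))) :=
    h0.of_iso (eP.symm ≪≫ (DRing.LTensor A (ModuleCat.of A (A ⧸ I))).mapIso e)
  refine GrothLib.DerTrunc.isZero_of_forall K fun i => ?_
  rw [← GrothLib.DR.subsingleton_iff_isZero]
  have hdc : DRing.IsDerivedComplete I (DRing.toD (P⟦i - 1⟧)) := by
    rw [GrothLib.DCpl.isDerivedComplete_iff]
    exact fun f hf => GrothLib.DCpl.dcObj_of_iso
      ((CategoryTheory.shiftFunctor (Dual.D A) (i - 1)).mapIso e.symm ≪≫ (eS P (i - 1)).symm)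
      (GrothLib.DCpl.dcObj_shift ((GrothLib.DCpl.isDerivedComplete_iff I K).1 hc f hf) (i - 1))
  have h1 : ∀ j : ℤ, 0 < j → (DRing.tensorCx (P⟦i - 1⟧) (ModuleCat.of A (A ⧸ I))).ExactAt j := fun j _ => by
    rw [GrothLib.DR.exactAt_iff]
    refine GrothLib.DR.subsingleton_HD_of_isZero ?_ j
    refine Limits.IsZero.of_iso ((CategoryTheory.shiftFunctor (Dual.D A) (i - 1)).map_isZero hzero) ?_
    exact DerivedCategory.Q.mapIso (((F.mapHomologicalComplex (ComplexShape.up ℤ)).commShiftIso (i - 1)).app P) ≪≫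
      eS _ (i - 1)
  have h2 := (GrothLib.DR.exactAt_iff _ _).1
    ((GrothLib.DCpl.forall_exactAt_iff I hI (GrothLib.KF.isKFlat_shift hP (i - 1)) (fun j => hPf _) hdc).2 h1 1 one_pos)
  exact @Equiv.subsingleton _ _
    (((DerivedCategory.homologyFunctor (ModuleCat.{u} A) 1).mapIso (eS P (i - 1) ≪≫
        (CategoryTheory.shiftFunctor (Dual.D A) (i - 1)).mapIso e)) ≪≫
      ((DerivedCategory.homologyFunctor (ModuleCat.{u} A) 0).shiftIso (i - 1) 1 i (by omega)).app K).toLinearEquiv.symm.toEquiv h2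

end Groth.Agent.S7055
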