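import Groth.Statements.S7056
import Groth.Agent.Lib.DCxRing.DComplete.Nakayama


set_option autoImplicit false
universe u
attribute [local instance] HasDerivedCategory.standard
open CategoryTheory
open DRing

namespace Groth.Agent.S7056

open GrothLib GrothLib.DCpl in
lemma isDerivedComplete_of_iso {A : Type u} [CommRing A] {I : Ideal A} {K L : Dual.D A} (e : K ≅ L)
    (h : DRing.IsDerivedComplete I K) : DRing.IsDerivedComplete I L := by
  rw [isDerivedComplete_iff] at h ⊢
  exact fun f hf => dcObj_of_iso e (h f hf)


/-- (1)⇔(2): for a commutative ring A, a finitely generated ideal I and an object K of D(A) which is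
derived complete with respect to I, the cohomology of K vanishes in all positive degrees if and only
if the cohomology of K ⊗^L_A A/I does. The derived tensor product with the module A/I is the total
left derived functor, assumed to exist. -/
theorem result {A : Type u} [CommRing A]
    (I : Ideal A) (hI : I.FG) [DRing.HasLTensor A (ModuleCat.of A (A ⧸ I))]
    (K : Dual.D A) (hc : DRing.IsDerivedComplete I K) :
    (∀ i : ℤ, 0 < i → Subsingleton (Dual.HD A K i)) ↔
      ∀ i : ℤ, 0 < i → Subsingleton (Dual.HD A ((DRing.LTensor A (ModuleCat.of A (A ⧸ I))).obj K) i) := by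
  obtain ⟨P, hP, hPf, ⟨e⟩⟩ := GrothLib.KF.exists_kflat_rep K
  obtain ⟨eP⟩ := GrothLib.KF.lTensor_value (ModuleCat.of A (A ⧸ I)) hP
  have key := GrothLib.DCpl.forall_exactAt_iff I hI hP hPf (isDerivedComplete_of_iso e.symm hc)
  simp only [GrothLib.DR.exactAt_iff] at key
  let e' := eP.symm ≪≫ (DRing.LTensor A (ModuleCat.of A (A ⧸ I))).mapIso e
  let H := fun i : ℤ => DerivedCategory.homologyFunctor (ModuleCat.{u} A) i
  exact ⟨fun h i hi => @Equiv.subsingleton _ _ ((H i).mapIso e').toLinearEquiv.symm.toEquiv
      (key.1 (fun j hj => @Equiv.subsingleton _ _ ((H j).mapIso e).toLinearEquiv.toEquiv (h j hj)) i hi),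
    fun h i hi => @Equiv.subsingleton _ _ ((H i).mapIso e).toLinearEquiv.symm.toEquiv
      (key.2 (fun j hj => @Equiv.subsingleton _ _ ((H j).mapIso e').toLinearEquiv.toEquiv (h j hj)) i hi)⟩

end Groth.Agent.S7056
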