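import Groth.Statements.S7057
import Groth.Agent.Lib.DCxRing.DComplete.Basic
import Groth.Agent.Lib.DCxRing.DComplete.Transfer
import Groth.Agent.Lib.DCxRing.Restrict


set_option autoImplicit false
universe u
attribute [local instance] HasDerivedCategory.standard
open DRing

namespace Groth.Agent.S7057

/-- For a homomorphism of commutative rings A → B, an ideal I of A and an object L of D(B), L is derived
complete with respect to the extended ideal IB if and only if L viewed in D(A) by restriction of
scalars is derived complete with respect to I. -/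
theorem result {A B : Type u} [CommRing A] [CommRing B] (φ : A →+* B)
    (I : Ideal A) (L : Dual.D B) :
    DRing.IsDerivedComplete (I.map φ) L ↔ DRing.IsDerivedComplete I ((DRing.restrictD φ).obj L) := by
  letI := φ.toAlgebra
  let P := DerivedCategory.Q.objPreimage L
  let e : DRing.toD P ≅ L := DerivedCategory.Q.objObjPreimageIso L
  let e₁ : ∀ n : ℤ, ((DerivedCategory.homologyFunctor (ModuleCat.{u} B) n).obj L) ≅ P.homology n := fun n =>
    (DerivedCategory.homologyFunctor (ModuleCat.{u} B) n).mapIso e.symm ≪≫ GrothLib.DR.homologyIso P n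
  let e₂ : ∀ n : ℤ, (DerivedCategory.homologyFunctor (ModuleCat.{u} A) n).obj ((DRing.restrictD φ).obj L) ≅
      (ModuleCat.restrictScalars.{u} φ).obj (P.homology n) := fun n =>
    (DerivedCategory.homologyFunctor (ModuleCat.{u} A) n).mapIso
      ((DRing.restrictD φ).mapIso e.symm ≪≫ GrothLib.DR.restrictToDIso φ P) ≪≫
      GrothLib.DR.homologyIso _ n ≪≫ GrothLib.DR.mapHomologyIso (ModuleCat.restrictScalars.{u} φ) P n
  have key : ∀ (f : A) (n : ℤ), GrothLib.DCpl.DCMod f (Dual.HD A ((DRing.restrictD φ).obj L) n) ↔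
      GrothLib.DCpl.DCMod (φ f) (Dual.HD B L n) := fun f n => by
    have h : GrothLib.DCpl.DCMod f ((ModuleCat.restrictScalars.{u} φ).obj (P.homology n)) ↔
        GrothLib.DCpl.DCMod (φ f) (P.homology n) := Iff.rfl
    exact ⟨fun hh => GrothLib.DCpl.dcMod_of_equiv (e₁ n).toLinearEquiv.symm
        (h.1 (GrothLib.DCpl.dcMod_of_equiv (e₂ n).toLinearEquiv hh)),
      fun hh => GrothLib.DCpl.dcMod_of_equiv (e₂ n).toLinearEquiv.symm
        (h.2 (GrothLib.DCpl.dcMod_of_equiv (e₁ n).toLinearEquiv hh))⟩
  rw [GrothLib.DCpl.isDerivedComplete_iff, GrothLib.DCpl.isDerivedComplete_iff]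
  refine ⟨fun h f hf n => (key f n).2 (h _ (Ideal.mem_map_of_mem φ hf) n), fun h g hg n => ?_⟩
  have hle : I.map φ ≤ GrothLib.DCpl.dcIdeal B (Dual.HD B L n) :=
    Ideal.map_le_iff_le_comap.2 fun f hf => (key f n).1 (h f hf n)
  exact hle hg

end Groth.Agent.S7057
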