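import Groth.Statements.S7058
import Groth.Agent.Lib.DCxRing.DComplete.Orthogonal
import Groth.Agent.Lib.DCxRing.Restrict


set_option autoImplicit false
universe u
attribute [local instance] HasDerivedCategory.standard
open CategoryTheory
open DRing

namespace Groth.Agent.S7058

lemma isIso_smul_id {A : Type u} [CommRing A] (f : A) (P : DRing.Cx A)
    (hP : ∀ i : ℤ, Function.Bijective (fun x : P.X i => f • x)) : IsIso (f • 𝟙 (DRing.toD P)) := by
  haveI : ∀ i, IsIso ((f • 𝟙 P : P ⟶ P).f i) := fun i => by
    rw [ConcreteCategory.isIso_iff_bijective]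
    exact hP i
  haveI : IsIso (f • 𝟙 P : P ⟶ P) := HomologicalComplex.Hom.isIso_of_components _
  have : IsIso (DerivedCategory.Q.map (f • 𝟙 P)) := inferInstance
  rwa [Functor.map_smul, CategoryTheory.Functor.map_id] at this


/-- Let A be a commutative ring, I a finitely generated ideal, and assume the derived completion functor
(left adjoint to the inclusion of derived complete objects of D(A)) exists. If K is a cochain
complex of A-modules and some f in I acts bijectively on every term of K, then the derived
completion of K is zero. -/
theorem result {A : Type u} [CommRing A] (I : Ideal A) (hI : I.FG)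
    [DRing.HasDerivedCompletion I] (K : DRing.Cx A) (f : A) (hf : f ∈ I)
    (hK : ∀ i : ℤ, Function.Bijective (fun x : K.X i => f • x)) :
    Limits.IsZero ((DRing.derivedCompletion I).obj (DRing.toD K)).obj := by
  set X := ((DRing.derivedCompletion I).obj (DRing.toD K)) with hX
  haveI := isIso_smul_id f K hK
  have hz : ∀ ξ : DRing.toD K ⟶ X.obj, ξ = 0 := fun ξ =>
    GrothLib.DCpl.hom_eq_zero_of_isIso_smul ((GrothLib.DCpl.isDerivedComplete_iff I _).1 X.property f hf) ξ
  have hid : 𝟙 X = 0 := ((DRing.derivedCompletionAdj I).homEquiv _ _).injective ((hz _).trans (hz _).symm)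
  rw [Limits.IsZero.iff_id_eq_zero]
  have := congrArg (ObjectProperty.ι (DRing.IsDerivedComplete I)).map hid
  rw [CategoryTheory.Functor.map_id, Functor.map_zero] at this
  exact this

end Groth.Agent.S7058
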