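import Groth.Statements.S7059
import Groth.Agent.Lib.DCxRing.DComplete.Basic
import Groth.Agent.Lib.DCxRing.DComplete.Transfer
import Groth.Agent.Lib.AdicExtra.Complete
import Groth.Agent.Lib.AdicExtra.Completion
import Groth.Agent.S7048
import Groth.Agent.S7053
import Mathlib.RingTheory.Filtration
import Mathlib.RingTheory.AdicCompletion.Completeness


set_option autoImplicit false
universe u
attribute [local instance] HasDerivedCategory.standard
open DRing

namespace Groth.Agent.S7059

open GrothLib GrothLib.DCpl

lemma exists_sum_of_mem {R : Type u} [CommRing R] {r : ℕ} (f : Fin r → R) {M : Type u} [AddCommGroup M]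
    [Module R M] (W : Submodule R M) {x : M} (hx : x ∈ Ideal.span (Set.range f) • W) :
    ∃ y : Fin r → M, (∀ j, y j ∈ W) ∧ x = ∑ j, f j • y j := by
  refine Submodule.smul_induction_on hx (fun a ha w hw => ?_) (fun a b ha hb => ?_)
  · obtain ⟨c, rfl⟩ := Ideal.mem_span_range_iff_exists_fun.1 ha
    exact ⟨fun j => c j • w, fun j => W.smul_mem _ hw, by simp [Finset.sum_smul, smul_smul, mul_comm]⟩
  · obtain ⟨y, hy, rfl⟩ := ha
    obtain ⟨z, hz, rfl⟩ := hb
    exact ⟨y + z, fun j => W.add_mem (hy j) (hz j), by simp [smul_add, Finset.sum_add_distrib]⟩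

lemma finite_completion {A : Type u} [CommRing A] (I : Ideal A) (hI : I.FG) (M : Type u) [AddCommGroup M] [Module A M]
    (hf : Module.Finite A (M ⧸ I • (⊤ : Submodule A M))) :
    Module.Finite (AdicCompletion I A) (AdicCompletion I M) := by
  let B := AdicCompletion I A
  let J := I.map (algebraMap A B)
  haveI : IsAdicComplete J B := AdicCompletion.isAdicComplete_self I hI
  haveI := AdicCompletion.isAdicComplete (M := M) hI
  haveI : IsHausdorff J (AdicCompletion I M) := IsHausdorff.map_algebraMap_iff.2 inferInstance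
  refine GrothLib.AdicExtra.finite_of_quotient_finite (I := J) ?_
  let q : AdicCompletion I M →ₗ[A] (AdicCompletion I M ⧸ (J • ⊤ : Submodule B (AdicCompletion I M))) :=
    (J • ⊤ : Submodule B (AdicCompletion I M)).mkQ.restrictScalars A
  have hker : (I • ⊤ : Submodule A M) ≤ LinearMap.ker (q ∘ₗ AdicCompletion.of I M) :=
    Submodule.smul_le.2 fun a ha m _ => by
      rw [LinearMap.mem_ker, map_smul, LinearMap.comp_apply, ← algebraMap_smul B a]
      exact (Submodule.Quotient.mk_eq_zero _).2 (Submodule.smul_mem_smul (Ideal.mem_map_of_mem _ ha) trivial)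
  have hsurj : Function.Surjective (Submodule.liftQ _ _ hker) := by
    intro y
    obtain ⟨y, rfl⟩ := Submodule.mkQ_surjective _ y
    obtain ⟨m, hm⟩ := Submodule.Quotient.mk_surjective _ (y.val 1)
    refine ⟨Submodule.Quotient.mk m, ?_⟩
    rw [Submodule.liftQ_apply]
    refine (Submodule.Quotient.eq _).2 ?_
    have h1 : AdicCompletion.of I M m - y ∈ (I ^ 1 • ⊤ : Submodule A (AdicCompletion I M)) := by
      rw [AdicCompletion.pow_smul_top_eq_ker_eval hI, LinearMap.mem_ker, map_sub, sub_eq_zero,
        AdicCompletion.eval_apply, AdicCompletion.eval_apply]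
      exact hm
    rw [pow_one] at h1
    refine Submodule.smul_induction_on h1 (fun a ha z _ => ?_) (fun a b ha hb => add_mem ha hb)
    rw [← algebraMap_smul B a z]
    exact Submodule.smul_mem_smul (Ideal.mem_map_of_mem _ ha) trivial
  haveI : Module.Finite A (AdicCompletion I M ⧸ (J • ⊤ : Submodule B (AdicCompletion I M))) :=
    Module.Finite.of_surjective _ hsurj
  exact Module.Finite.of_restrictScalars_finite A B _

lemma ker_of_eq_smul {A : Type u} [CommRing A] [IsNoetherianRing A] (I : Ideal A) (M : Type u) [AddCommGroup M]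
    [Module A M] (hfin : Module.Finite (AdicCompletion I A) (AdicCompletion I M))
    (hsurj : Function.Surjective (AdicCompletion.of I M)) :
    LinearMap.ker (AdicCompletion.of I M) ≤ I • LinearMap.ker (AdicCompletion.of I M) := by
  intro x hx
  haveI := GrothLib.AdicExtra.isNoetherianRing_adicCompletion I
  let B := AdicCompletion I A
  obtain ⟨r, f, hf⟩ := Submodule.fg_iff_exists_fin_generating_family.1 I.fg_of_isNoetherianRing
  have hf' : Ideal.span (Set.range f) = I := hf
  let J := I.map (algebraMap A B)
  let θ : (Fin r → AdicCompletion I M) →ₗ[B] AdicCompletion I M :=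
    ∑ j, algebraMap A B (f j) • LinearMap.proj j
  have hθ : ∀ y, θ y = ∑ j, f j • y j := fun y => by simp [θ, algebraMap_smul]
  let Z := LinearMap.ker θ
  obtain ⟨k, hk⟩ := J.exists_pow_inf_eq_pow_smul Z
  -- write `x` with coefficients deep in the filtration
  have hxn : x ∈ (I ^ (k + 2) • ⊤ : Submodule A M) := by
    have h0 := congrArg (fun z => z.val (k + 2)) (LinearMap.mem_ker.1 hx)
    simp only [AdicCompletion.of_apply, AdicCompletion.val_zero] at h0
    exact (Submodule.Quotient.mk_eq_zero _).1 h0
  rw [show I ^ (k + 2) = I * I ^ (k + 1) from pow_succ' I (k + 1), Submodule.mul_smul] at hxn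
  have hxn' : x ∈ Ideal.span (Set.range f) • (I ^ (k + 1) • ⊤ : Submodule A M) :=
    Submodule.smul_mono_left hf'.ge hxn
  obtain ⟨y, hy, hxy⟩ := exists_sum_of_mem f (I ^ (k + 1) • ⊤ : Submodule A M) hxn'
  let yb : Fin r → AdicCompletion I M := fun j => AdicCompletion.of I M (y j)
  have hyZ : yb ∈ Z := by
    rw [LinearMap.mem_ker, hθ]
    simp only [yb, ← map_smul, ← map_sum, ← hxy]
    exact hx
  have hcoord : ∀ j, yb j ∈ (J ^ (k + 1) • ⊤ : Submodule B (AdicCompletion I M)) := fun j => by
    have hj : yb j ∈ Submodule.map (AdicCompletion.of I M) (I ^ (k + 1) • ⊤) := ⟨y j, hy j, rfl⟩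
    rw [Submodule.map_smul''] at hj
    refine Submodule.smul_induction_on hj (fun a ha z _ => ?_) (fun a b ha hb => add_mem ha hb)
    rw [← algebraMap_smul B a z, show J ^ (k + 1) = (I ^ (k + 1)).map (algebraMap A B) from (Ideal.map_pow _ _ _).symm]
    exact Submodule.smul_mem_smul (Ideal.mem_map_of_mem _ ha) trivial
  have hyJ : yb ∈ (J ^ (k + 1) • ⊤ : Submodule B (Fin r → AdicCompletion I M)) := by
    rw [← Finset.univ_sum_single yb]
    refine sum_mem fun j _ => ?_
    have h1 := Submodule.mem_map_of_mem (f := LinearMap.single B (fun _ : Fin r => AdicCompletion I M) j) (hcoord j)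
    rw [Submodule.map_smul''] at h1
    exact Submodule.smul_mono le_rfl le_top h1
  have hyJZ : yb ∈ J • Z := by
    have h1 : yb ∈ (J ^ (k + 1) • ⊤ : Submodule B (Fin r → AdicCompletion I M)) ⊓ Z := ⟨hyJ, hyZ⟩
    rw [hk (k + 1) (by omega), show k + 1 - k = 1 by omega, pow_one] at h1
    exact Submodule.smul_mono le_rfl inf_le_right h1
  have hJ : J = Ideal.span (Set.range fun l => algebraMap A B (f l)) := by
    refine (congrArg (Ideal.map (algebraMap A B)) hf'.symm).trans ?_
    rw [Ideal.map_span, ← Set.range_comp]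
    rfl
  rw [hJ] at hyJZ
  obtain ⟨z, hz, hyz⟩ := exists_sum_of_mem (fun l => algebraMap A B (f l)) Z hyJZ
  choose w hw using fun (l : Fin r) (j : Fin r) => hsurj (z l j)
  have hn : ∀ l, ∑ j, f j • w l j ∈ LinearMap.ker (AdicCompletion.of I M) := fun l => by
    have := hz l
    rw [LinearMap.mem_ker, hθ] at this
    rw [LinearMap.mem_ker, map_sum]
    simpa only [map_smul, hw] using this
  have hν : ∀ j, y j - ∑ l, f l • w l j ∈ LinearMap.ker (AdicCompletion.of I M) := fun j => by
    rw [LinearMap.mem_ker, map_sub, map_sum, sub_eq_zero]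
    simp only [map_smul, hw]
    rw [show AdicCompletion.of I M (y j) = yb j from rfl, hyz, Finset.sum_apply]
    simp [algebraMap_smul]
  have hx' : x = ∑ j, f j • (y j - ∑ l, f l • w l j) + ∑ l, f l • ∑ j, f j • w l j := by
    have hc : ∑ l, f l • ∑ j, f j • w l j = ∑ j, f j • ∑ l, f l • w l j := by
      simp only [Finset.smul_sum]
      rw [Finset.sum_comm]
      exact Finset.sum_congr rfl fun j _ => Finset.sum_congr rfl fun l _ => smul_comm _ _ _
    rw [hc, ← Finset.sum_add_distrib]
    simp only [← smul_add, sub_add_cancel]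
    exact hxy
  rw [hx']
  have hfI : ∀ j, f j ∈ I := fun j => hf' ▸ Ideal.subset_span ⟨j, rfl⟩
  exact add_mem (sum_mem fun j _ => Submodule.smul_mem_smul (hfI j) (hν j))
    (sum_mem fun l _ => Submodule.smul_mem_smul (hfI l) (hn l))


/-- Let A be a Noetherian commutative ring, I an ideal and M an A-module which, placed in degree 0 of
D(A), is derived complete with respect to I. If M/IM is a finite module, then M is I-adically
complete, and M (identified with its I-adic completion) is a finite module over the I-adic
completion of A. -/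
theorem result {A : Type u} [CommRing A]
    [IsNoetherianRing A] (I : Ideal A) (M : Type u) [AddCommGroup M] [Module A M]
    (hc : DRing.IsDerivedComplete I (Dual.inD A M))
    (hf : Module.Finite A (M ⧸ I • (⊤ : Submodule A M))) :
    IsAdicComplete I M ∧ Module.Finite (AdicCompletion I A) (AdicCompletion I M) := by
  have hI : I.FG := I.fg_of_isNoetherianRing
  have hfin := finite_completion I hI M hf
  rw [isDerivedComplete_inD_iff] at hc
  obtain ⟨s, hs⟩ := hI
  subst hs
  haveI := isPrecomplete_of_dcMod (M := M) s fun g hg => hc g (Ideal.subset_span hg)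
  set I := Ideal.span (s : Set A)
  have hsurj : Function.Surjective (AdicCompletion.of I M) := AdicCompletion.of_surjective _ _
  haveI := AdicCompletion.isAdicComplete (M := M) (I := I) ⟨s, rfl⟩
  have hN : Subsingleton (LinearMap.ker (AdicCompletion.of I M)) := by
    refine S7053.result I ⟨s, rfl⟩ _ ((isDerivedComplete_inD_iff I _).2 fun g hg =>
      dcMod_ker _ (hc g hg) (dcMod_of_isAdicComplete I _ hg)) ?_
    apply Submodule.map_injective_of_injective (f := (LinearMap.ker (AdicCompletion.of I M)).subtype)
      Subtype.val_injective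
    rw [Submodule.map_smul'', Submodule.map_top, Submodule.range_subtype]
    exact le_antisymm Submodule.smul_le_right (ker_of_eq_smul I M hfin hsurj)
  have hinj : Function.Injective (AdicCompletion.of I M) := by
    rw [← LinearMap.ker_eq_bot, eq_bot_iff]
    intro x hx
    exact congrArg Subtype.val (hN.elim ⟨x, hx⟩ 0)
  exact ⟨AdicCompletion.of_bijective_iff.1 ⟨hinj, hsurj⟩, hfin⟩

end Groth.Agent.S7059
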