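import Groth.Statements.S7060
import Groth.Agent.Lib.DCxRing.DComplete.Noetherian


set_option autoImplicit false
universe u
attribute [local instance] HasDerivedCategory.standard
open CategoryTheory
open DRing

namespace Groth.Agent.S7060

/-- Let A be a Noetherian commutative ring and I an ideal, and assume the derived completion functor
(left adjoint to the inclusion of derived complete objects) exists. If K is an object of D(A) whose
cohomology modules are all finite A-modules, then for every n there is an A-linear isomorphism from
the n-th cohomology module of the derived completion K^∧ of K to the I-adic completion of H^n(K)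
which carries the map H^n(K) → H^n(K^∧) induced by the canonical morphism K → K^∧ to the canonical
map from H^n(K) to its I-adic completion. -/
theorem result {A : Type u} [CommRing A] [IsNoetherianRing A]
    (I : Ideal A) [DRing.HasDerivedCompletion I] (K : Dual.D A)
    (hK : ∀ n : ℤ, Module.Finite A (Dual.HD A K n)) (n : ℤ) :
    ∃ e : Dual.HD A ((DRing.derivedCompletion I).obj K).obj n ≃ₗ[A] AdicCompletion I (Dual.HD A K n),
      ∀ x : Dual.HD A K n,
        e (((DerivedCategory.homologyFunctor (ModuleCat.{u} A) n).map (DRing.toDerivedCompletion I K)).hom x) =
          AdicCompletion.of I (Dual.HD A K n) x := by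
  obtain ⟨L, η, hL, hU, he⟩ := GrothLib.DCpl.exists_hat_completion I K hK
  obtain ⟨s, hs⟩ := I.fg_of_isNoetherianRing
  obtain ⟨i, hi⟩ := GrothLib.DCpl.exists_iso_completion I hs η
    (fun g hg n => (GrothLib.DCpl.isDerivedComplete_iff I L).1 hL g (hs ▸ Ideal.subset_span hg) n)
    (fun E hE => hU E (GrothLib.DCpl.isDerivedComplete_of_span hs E hE))
  obtain ⟨e, he⟩ := he n
  refine ⟨((DerivedCategory.homologyFunctor (ModuleCat.{u} A) n).mapIso i).toLinearEquiv.trans e, fun x => ?_⟩
  rw [← he x, ← hi]
  simp only [Functor.map_comp]
  rfl

end Groth.Agent.S7060
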