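import Groth.Statements.S7061
import Groth.Agent.Lib.DCxRing.DComplete.FlatCompletion

set_option autoImplicit false
universe u
attribute [local instance] HasDerivedCategory.standard
open TensorProduct
open CategoryTheory
open DRing

namespace Groth.Agent.S7061

/-- Let A be a Noetherian commutative ring and I an ideal, and assume the derived completion functor
exists. For a finite A-module M and a flat A-module N, the derived completion of M ⊗_A N (placed in
degree 0) has vanishing cohomology in every nonzero degree, and there is an A-linear isomorphism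
from its degree-0 cohomology to the I-adic completion of M ⊗_A N which carries the map M ⊗_A N =
H^0((M ⊗_A N)[0]) → H^0(((M ⊗_A N)[0])^∧) induced by the canonical morphism to the derived
completion to the canonical map from M ⊗_A N to its I-adic completion. -/
theorem result {A : Type u} [CommRing A] [IsNoetherianRing A]
    (I : Ideal A) [DRing.HasDerivedCompletion I]
    (M N : Type u) [AddCommGroup M] [Module A M] [Module.Finite A M] [AddCommGroup N] [Module A N] [Module.Flat A N] :
    (∀ i : ℤ, i ≠ 0 → Subsingleton (Dual.HD A ((DRing.derivedCompletion I).obj (Dual.inD A (M ⊗[A] N))).obj i)) ∧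
      ∃ e : Dual.HD A ((DRing.derivedCompletion I).obj (Dual.inD A (M ⊗[A] N))).obj 0 ≃ₗ[A]
          AdicCompletion I (M ⊗[A] N),
        ∀ x : M ⊗[A] N,
          e ((((DerivedCategory.singleFunctorCompHomologyFunctorIso (ModuleCat.{u} A) 0).inv.app
                (ModuleCat.of A (M ⊗[A] N))) ≫
              (DerivedCategory.homologyFunctor (ModuleCat.{u} A) 0).map
                (DRing.toDerivedCompletion I (Dual.inD A (M ⊗[A] N)))).hom x) =
            AdicCompletion.of I (M ⊗[A] N) x := by
  obtain ⟨s, hs⟩ := I.fg_of_isNoetherianRing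
  obtain ⟨e, he⟩ := GrothLib.DCpl.exists_iso_completion I hs (GrothLib.DCpl.toHatD I M N)
    (fun g hg => (GrothLib.DCpl.isDerivedComplete_iff I _).1 (GrothLib.DCpl.isDerivedComplete_hatD I M N) g
      (hs ▸ Ideal.subset_span hg))
    (fun E hE => GrothLib.DCpl.bijective_toHatD I M N (GrothLib.DCpl.isDerivedComplete_of_span hs E hE))
  refine ⟨fun i hi => GrothLib.DR.subsingleton_HD_of_iso e.symm i (GrothLib.DR.subsingleton_HD_inD _ i hi), ?_⟩
  let H := DerivedCategory.homologyFunctor (ModuleCat.{u} A) 0
  let ν := DerivedCategory.singleFunctorCompHomologyFunctorIso (ModuleCat.{u} A) 0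
  refine ⟨(H.mapIso e ≪≫ ν.app (ModuleCat.of A (AdicCompletion I (M ⊗[A] N)))).toLinearEquiv, fun x => ?_⟩
  have hn := ν.hom.naturality (ModuleCat.ofHom (AdicCompletion.of I (M ⊗[A] N)))
  have key : ν.inv.app (ModuleCat.of A (M ⊗[A] N)) ≫ H.map (DRing.toDerivedCompletion I (Dual.inD A (M ⊗[A] N))) ≫
      H.map e.hom ≫ ν.hom.app _ = ModuleCat.ofHom (AdicCompletion.of I (M ⊗[A] N)) := by
    rw [← Functor.map_comp_assoc, he]
    exact (congrArg (ν.inv.app _ ≫ ·) hn).trans (ν.inv_hom_id_app_assoc _ _)
  have h := congrArg (fun g => g.hom x) key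
  simp only [ModuleCat.hom_comp, LinearMap.comp_apply, ModuleCat.hom_ofHom] at h ⊢
  refine Eq.trans ?_ h
  erw [CategoryTheory.Iso.toLinearEquiv_apply]

end Groth.Agent.S7061
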