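import Groth.Statements.S7064
import Groth.Agent.Lib.GlueTor.Basic

set_option autoImplicit false
universe u
open EtGlue

namespace Groth.Agent.S7064

/-- For a glueing pair (R → R', f) and any R-module M, the group Tor_1^R(R', Coker(M → M_f)) vanishes,
where M_f is the localization of M at the powers of f (Tor computed by resolving the second
argument). -/
theorem result {R R' : Type u} [CommRing R] [CommRing R']
    [Algebra R R'] (f : R) (h : EtGlue.IsGlueingPair R R' f) (M : Type u) [AddCommGroup M] [Module R M] :
    Subsingleton (DRing.Tor R 1 R'
      (LocalizedModule (Submonoid.powers f) M ⧸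
        LinearMap.range (LocalizedModule.mkLinearMap (Submonoid.powers f) M))) := by
    refine GrothLib.GlueTor.subsingleton_tor_one (GrothLib.GlueTor.good_of_fTors h fun x => ?_)
    obtain ⟨y, rfl⟩ := Submodule.Quotient.mk_surjective _ x
    induction y using LocalizedModule.induction_on with
    | h m s =>
      obtain ⟨n, hn⟩ := s.2
      refine ⟨n, (Submodule.Quotient.mk_smul _ _ _).symm.trans ((Submodule.Quotient.mk_eq_zero _).2 ⟨m, ?_⟩)⟩
      have hs : f ^ n = ((s : Submonoid.powers f) : R) := hn
      rw [LocalizedModule.mkLinearMap_apply, hs, LocalizedModule.smul'_mk, ← Submonoid.smul_def,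
        LocalizedModule.mk_cancel]

end Groth.Agent.S7064
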