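import Groth.Statements.S7065
import Mathlib.RingTheory.Spectrum.Prime.Topology
-- no helpers

set_option autoImplicit false
universe u
open EtGlue

namespace Groth.Agent.S7065

/-- Let R → R' be a homomorphism of commutative rings and f an element of R such that the induced map
R/fR → R'/fR' is bijective. Then Spec(R') ⊔ Spec(R_f) → Spec(R) is surjective: every prime of R is
the contraction of a prime of R' or of a prime of R_f. -/
theorem result {R R' : Type u} [CommRing R] [CommRing R']
    [Algebra R R'] (f : R)
    (hq : Function.Bijective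
      (Ideal.quotientMap (Ideal.map (algebraMap R R') (Ideal.span {f})) (algebraMap R R') Ideal.le_comap_map))
    (p : PrimeSpectrum R) :
    (∃ q : PrimeSpectrum R', PrimeSpectrum.comap (algebraMap R R') q = p) ∨
      ∃ q : PrimeSpectrum (Localization.Away f), PrimeSpectrum.comap (algebraMap R (Localization.Away f)) q = p := by
  by_cases hf : f ∈ p.asIdeal
  · left
    let φ := RingEquiv.ofBijective (Ideal.quotientMap (Ideal.map (algebraMap R R') (Ideal.span {f}))
      (algebraMap R R') Ideal.le_comap_map) hq
    have hle : Ideal.span {f} ≤ p.asIdeal := (Ideal.span_singleton_le_iff_mem _).2 hf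
    haveI : (p.asIdeal.map (Ideal.Quotient.mk (Ideal.span {f}))).IsPrime :=
      Ideal.map_isPrime_of_surjective Ideal.Quotient.mk_surjective (by rwa [Ideal.mk_ker])
    let q' : Ideal R' := ((p.asIdeal.map (Ideal.Quotient.mk (Ideal.span {f}))).comap
      φ.symm.toRingHom).comap (Ideal.Quotient.mk _)
    refine ⟨⟨q', inferInstance⟩, PrimeSpectrum.ext ?_⟩
    ext x
    simp only [PrimeSpectrum.comap_asIdeal, Ideal.mem_comap, q']
    have : φ.symm (Ideal.Quotient.mk (Ideal.map (algebraMap R R') (Ideal.span {f})) (algebraMap R R' x)) = Ideal.Quotient.mk (Ideal.span {f}) x := by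
      rw [RingEquiv.symm_apply_eq]
      simp [φ, RingEquiv.coe_ofBijective]
    show φ.symm _ ∈ _ ↔ _
    rw [this]
    refine ⟨fun h => ?_, Ideal.mem_map_of_mem _⟩
    obtain ⟨y, hy, hxy⟩ := (Ideal.mem_map_iff_of_surjective _ Ideal.Quotient.mk_surjective).1 h
    have := hle (Ideal.Quotient.eq.1 hxy)
    simpa using Ideal.sub_mem _ hy this
  · right
    exact (show p ∈ Set.range (PrimeSpectrum.comap (algebraMap R (Localization.Away f))) by
      rw [PrimeSpectrum.localization_away_comap_range _ f]; exact hf)

end Groth.Agent.S7065
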