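import Groth.Statements.S7069
import Groth.Agent.Lib.PerfHom.Perfect
-- import your own Groth.Agent.* helpers here

set_option autoImplicit false
universe u
attribute [local instance] HasDerivedCategory.standard
open MoreMor

namespace Groth.Agent.S7069

/-- A finite type homomorphism of commutative rings A → B, where A is a regular ring of finite Krull
dimension, is perfect: pseudo-coherent with B of finite tor dimension as an A-module. -/
theorem result (A B : Type u) [CommRing A] [CommRing B] [Algebra A B]
    [IsRegularRing A] (hdim : ringKrullDim A < ⊤) [Algebra.FiniteType A B] : MoreMor.IsPerfectHom A B := by
    exact ⟨GrothLib.PHom.of_noetherian, GrothLib.PHom.finiteTorDim_of_regular hdim B⟩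

end Groth.Agent.S7069
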