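import Groth.Statements.S7072
import Groth.Agent.Lib.NLAmp.Main

set_option autoImplicit false
universe u
attribute [local instance] HasDerivedCategory.standard
open LCI

namespace Groth.Agent.S7072

theorem result {A B : Type u} [CommRing A] [CommRing B] [Algebra A B]
    (h : LCI.IsLCI A B) :
    DRing.IsPerfect B (LCI.NL A B) ∧ DRing.HasTorAmplitudeIn B (-1) 0 (LCI.NL A B) :=
  GrothLib.NLAmp.perfect_and_amp_of_isLCI h

end Groth.Agent.S7072
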