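import Groth.Statements.S7074
import Groth.Agent.Lib.DualCx22.RelPerfectModule
import Groth.Agent.Lib.DCxRing.RestrictTor

set_option autoImplicit false
universe u
attribute [local instance] HasDerivedCategory.standard
open CategoryTheory
open Dual2

namespace Groth.Agent.S7074

/-- For a flat homomorphism of finite presentation R → A of commutative rings and an object K of D(A), K
is R-perfect (pseudo-coherent over A and of finite tor dimension over R) if and only if K is
isomorphic in D(A) to a bounded complex whose terms are finitely presented A-modules that are flat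
as R-modules. -/
theorem result (R A : Type u) [CommRing R] [CommRing A] [Algebra R A]
    [Module.Flat R A] [Algebra.FinitePresentation R A] (K : Dual.D A) :
    Dual2.IsRelPerfect R A K ↔
      ∃ (E : DRing.Cx A) (a b : ℤ), DRing.VanishesOutside E a b ∧
        (∀ i : ℤ, Module.FinitePresentation A (E.X i) ∧
          Module.Flat R ((ModuleCat.restrictScalars (algebraMap R A)).obj (E.X i))) ∧
        Nonempty (DRing.toD E ≅ K) := by
  constructor
  · rintro ⟨⟨E, c, hc, hEf, ⟨e⟩⟩, a, b, ht⟩
    have hflat : DRing.TermwiseFlat ((DRing.restrictCx (algebraMap R A)).obj E) :=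
      GrothLib.DR.termwiseFlat_restrict (GrothLib.DR.termwiseFlat_of_projective fun i =>
        GrothLib.DR.projective_of_finiteFree hEf i)
    have hv : DRing.VanishesAbove ((DRing.restrictCx (algebraMap R A)).obj E) c := fun i hi =>
      (ModuleCat.restrictScalars (algebraMap R A)).map_isZero (hc i hi)
    have hamp : DRing.HasTorAmplitudeIn R a b (DRing.toD ((DRing.restrictCx (algebraMap R A)).obj E)) :=
      GrothLib.DR.hasTorAmplitudeIn_of_iso (((DRing.restrictD (algebraMap R A)).mapIso e).symm ≪≫
        GrothLib.DR.restrictToDIso (algebraMap R A) E) ht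
    haveI : E.IsGE a := by
      rw [CochainComplex.isGE_iff]
      intro i hi
      exact (GrothLib.KF.exactAt_restrict_iff (algebraMap R A) E i).1
        ((GrothLib.DR.exactAt_iff _ i).2 (GrothLib.DR.subsingleton_HD_of_amplitude hamp i (Or.inl hi)))
    refine ⟨E.truncGE a, a, max a c, fun i hi => ?_, fun i => ?_,
      ⟨(asIso (DerivedCategory.Q.map (E.πTruncGE a))).symm ≪≫ e⟩⟩
    · rcases hi with hi | hi
      · exact (E.truncGE a).isZero_of_isStrictlyGE a i hi
      · exact (hc i (lt_of_le_of_lt (le_max_right a c) hi)).of_iso
          (E.truncGEXIso a i (lt_of_le_of_lt (le_max_left a c) hi))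
    · rcases lt_trichotomy i a with hi | rfl | hi
      · haveI := ModuleCat.subsingleton_of_isZero ((E.truncGE a).isZero_of_isStrictlyGE a i hi)
        haveI : Subsingleton ((ModuleCat.restrictScalars (algebraMap R A)).obj ((E.truncGE a).X i)) := this
        exact ⟨inferInstance, inferInstance⟩
      · exact ⟨GrothLib.DualCx22.finitePresentation_truncGE_bottom E hEf i,
          GrothLib.DualCx22.flat_restrict_truncGE_bottom (algebraMap R A) E hv hflat i b hamp⟩
      · let q := (E.truncGEXIso a i hi).symm
        haveI := (hEf i).1
        haveI := GrothLib.DR.projective_of_finiteFree hEf i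
        haveI := Module.finitePresentation_of_projective A (E.X i)
        haveI : Module.Flat R ((ModuleCat.restrictScalars (algebraMap R A)).obj (E.X i)) := hflat i
        exact ⟨Module.FinitePresentation.of_equiv q.toLinearEquiv,
          Module.Flat.of_linearEquiv ((ModuleCat.restrictScalars (algebraMap R A)).mapIso q).toLinearEquiv.symm⟩
  · rintro ⟨E, a, b, hv, hE, ⟨e⟩⟩
    refine ⟨GrothLib.DR.isPseudoCoherent'_of_forall fun m => GrothLib.DerBC.isPseudoCoherent_of_iso e
      (GrothLib.DR.isPseudoCoherent_of_termwise (b := b) (fun i hi => hv i (Or.inr hi)) fun i _ _ => ?_), a, b,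
      (DRing.restrictCx (algebraMap R A)).obj E,
      fun i hi => (ModuleCat.restrictScalars (algebraMap R A)).map_isZero (hv i hi), fun i => (hE i).2,
      ⟨(GrothLib.DR.restrictToDIso (algebraMap R A) E).symm ≪≫ (DRing.restrictD (algebraMap R A)).mapIso e⟩⟩
    haveI := (hE i).1
    exact GrothLib.DR.isPseudoCoherent_of_prime
      (GrothLib.DualCx22.isPseudoCoherentModule'_of_flat (E.X i) (hE i).2) (m - i)

end Groth.Agent.S7074
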