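import Groth.Statements.S7075
import Groth.Agent.S12898
import Groth.Agent.S13563
import Groth.Agent.Lib.FlatFP.TorShift
import Groth.Agent.Lib.DCxRing.LBase
import Groth.Agent.Lib.DCxRing.Perfect
import Groth.Agent.Lib.DCxRing.RestrictTor

set_option autoImplicit false
universe u
attribute [local instance] HasDerivedCategory.standard
open TensorProduct
open Dual2
open CategoryTheory

namespace Groth.Agent.S7075

/-- Let R → A be a flat homomorphism of finite presentation of commutative rings, R → R' any ring map
and A' = R' ⊗_R A. If K in D(A) is R-perfect then its derived base change K ⊗^L_A A' (the total left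
derived functor of extension of scalars, assumed to exist) is R'-perfect in D(A'). -/
theorem result (R A R' : Type u) [CommRing R] [CommRing A] [Algebra R A] [CommRing R'] [Algebra R R']
    [Module.Flat R A] [Algebra.FinitePresentation R A]
    [DRing.HasLBaseChange (Algebra.TensorProduct.includeRight.toRingHom : A →+* R' ⊗[R] A)]
    (K : Dual.D A) (hK : Dual2.IsRelPerfect R A K) :
    Dual2.IsRelPerfect R' (R' ⊗[R] A)
      ((DRing.LBaseChange (Algebra.TensorProduct.includeRight.toRingHom : A →+* R' ⊗[R] A)).obj K) := by
  let α : A →+* TensorProduct R R' A := Algebra.TensorProduct.includeRight.toRingHom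
  letI : Algebra A (TensorProduct R R' A) := Algebra.TensorProduct.rightAlgebra
  haveI := GrothLib.KF.hasLBaseChange (algebraMap R R')
  haveI : DRing.HasLBaseChange (algebraMap A (TensorProduct R R' A)) := ‹DRing.HasLBaseChange α›
  refine ⟨?_, ?_⟩
  · obtain ⟨E, b, hE, hEf, ⟨e⟩⟩ := hK.1
    have hp : DRing.TermwiseFiniteProjective E := fun i =>
      ⟨(hEf i).1, GrothLib.DR.projective_of_finiteFree hEf i⟩
    obtain ⟨e'⟩ := GrothLib.DR.nonempty_lBase_iso α hE
      (GrothLib.DR.termwiseFlat_of_projective fun i => (hp i).2)
    exact GrothLib.DR.isPseudoCoherent'_of_forall fun m =>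
      GrothLib.DerBC.isPseudoCoherent_of_iso (e'.symm ≪≫ (DRing.LBaseChange α).mapIso e)
        (GrothLib.DR.isPseudoCoherent_of_finiteProjective (b := b)
          (fun i hi => (ModuleCat.extendScalars α).map_isZero (hE i hi))
          (GrothLib.DR.termwiseFiniteProjective_bc α hp) m)
  · obtain ⟨a, b, ht⟩ := hK.2
    obtain ⟨adjρ⟩ := Groth.Agent.S12898.result (algebraMap R R')
    obtain ⟨adjα⟩ := Groth.Agent.S12898.result (algebraMap A (TensorProduct R R' A))
    have h : (algebraMap A (TensorProduct R R' A)).comp (algebraMap R A) =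
        (algebraMap R' (TensorProduct R R' A)).comp (algebraMap R R') :=
      RingHom.ext fun r => ((IsScalarTower.algebraMap_apply R A (TensorProduct R R' A) r).symm.trans
        (IsScalarTower.algebraMap_apply R R' (TensorProduct R R' A) r))
    haveI : IsIso (TrivBC.cmp adjρ adjα h K) := Groth.Agent.S13563.result R A R' (TensorProduct R R' A)
      (fun p hp => by
        obtain ⟨q, rfl⟩ : ∃ q, p = q + 1 := ⟨p - 1, by omega⟩
        exact (GrothLib.DR.subsingleton_iff_isZero _).2
          (GrothLib.FlatFP.isZero_tor_succ_of_flat (ModuleCat.of R A) (ModuleCat.of R R') q)) adjρ adjα h K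
    exact ⟨a, b, GrothLib.DR.hasTorAmplitudeIn_of_iso (asIso (TrivBC.cmp adjρ adjα h K))
      (GrothLib.DR.hasTorAmplitudeIn_lBase (algebraMap R R') ht)⟩

end Groth.Agent.S7075
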