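import Groth.Statements.S7076
import Groth.Agent.S12898
import Groth.Agent.S13563
import Groth.Agent.S6971
import Groth.Agent.S6952
import Groth.Agent.Lib.FlatFP.TorShift
import Groth.Agent.Lib.DCxRing.LBase
import Groth.Agent.Lib.DCxRing.Amplitude
import Mathlib.LinearAlgebra.TensorProduct.RightExactness

set_option autoImplicit false
universe u
attribute [local instance] HasDerivedCategory.standard
open TensorProduct
open Dual2
open CategoryTheory

namespace Groth.Agent.S7076

/-- Let R' → A' be a flat homomorphism of finite presentation of commutative rings, R' → R a surjective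
homomorphism of rings with nilpotent kernel, A = R ⊗_{R'} A', and K' an object of D(A'). If the
derived base change K' ⊗^L_{A'} A (total left derived functor of extension of scalars, assumed to
exist) is R-perfect in D(A), then K' is R'-perfect in D(A'). -/
theorem result (R' A' R : Type u) [CommRing R'] [CommRing A'] [Algebra R' A']
    [CommRing R] [Algebra R' R] [Module.Flat R' A'] [Algebra.FinitePresentation R' A']
    (hs : Function.Surjective (algebraMap R' R)) (hn : IsNilpotent (RingHom.ker (algebraMap R' R)))
    [DRing.HasLBaseChange (Algebra.TensorProduct.includeRight.toRingHom : A' →+* R ⊗[R'] A')]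
    (K' : Dual.D A')
    (hK : Dual2.IsRelPerfect R (R ⊗[R'] A')
      ((DRing.LBaseChange (Algebra.TensorProduct.includeRight.toRingHom : A' →+* R ⊗[R'] A')).obj K')) :
    Dual2.IsRelPerfect R' A' K' := by
  let α : A' →+* TensorProduct R' R A' := Algebra.TensorProduct.includeRight.toRingHom
  have hα : Function.Surjective α := Algebra.TensorProduct.includeRight_surjective A' hs
  have hαn : IsNilpotent (RingHom.ker α) := by
    obtain ⟨n, hn⟩ := hn
    let ψ : A' →+* TensorProduct R' R' A' := Algebra.TensorProduct.includeRight.toRingHom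
    let J := (RingHom.ker (Algebra.ofId R' R)).map
      (Algebra.TensorProduct.includeLeft : R' →ₐ[R'] TensorProduct R' R' A')
    have hker : RingHom.ker (Algebra.TensorProduct.map (Algebra.ofId R' R) (AlgHom.id R' A')) = J :=
      Algebra.TensorProduct.rTensor_ker (f := Algebra.ofId R' R) hs
    have hle : RingHom.ker α ≤ Ideal.comap ψ J := fun x hx => by
      rw [Ideal.mem_comap, ← hker, RingHom.mem_ker]
      refine Eq.trans ?_ (RingHom.mem_ker.1 hx)
      exact (Algebra.TensorProduct.map_tmul _ _ (1 : R') x).trans (by simp [α])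
    have hψ : Function.Injective ψ := fun x y hxy => by
      simpa [ψ] using congrArg (Algebra.TensorProduct.lid R' A') hxy
    refine ⟨n, le_bot_iff.1 ((Ideal.pow_right_mono hle n).trans ((Ideal.le_comap_pow ψ n).trans ?_))⟩
    have hJ : J ^ n = ⊥ := by
      rw [← Ideal.map_pow, show RingHom.ker (Algebra.ofId R' R) ^ n = 0 from hn]
      exact Ideal.map_bot
    rw [hJ]
    exact le_of_eq ((RingHom.ker_eq_comap_bot ψ).symm.trans ((RingHom.injective_iff_ker_eq_bot ψ).1 hψ))
  letI : Algebra A' (TensorProduct R' R A') := Algebra.TensorProduct.rightAlgebra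
  haveI := GrothLib.KF.hasLBaseChange (algebraMap R' R)
  haveI : DRing.HasLBaseChange (algebraMap A' (TensorProduct R' R A')) := ‹DRing.HasLBaseChange α›
  refine ⟨(Groth.Agent.S6971.result α hα hαn K').1 hK.1, ?_⟩
  obtain ⟨a, b, ht⟩ := hK.2
  obtain ⟨adjρ⟩ := Groth.Agent.S12898.result (algebraMap R' R)
  obtain ⟨adjα⟩ := Groth.Agent.S12898.result (algebraMap A' (TensorProduct R' R A'))
  have h : (algebraMap A' (TensorProduct R' R A')).comp (algebraMap R' A') =
      (algebraMap R (TensorProduct R' R A')).comp (algebraMap R' R) :=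
    RingHom.ext fun r => ((IsScalarTower.algebraMap_apply R' A' (TensorProduct R' R A') r).symm.trans
      (IsScalarTower.algebraMap_apply R' R (TensorProduct R' R A') r))
  haveI : IsIso (TrivBC.cmp adjρ adjα h K') := Groth.Agent.S13563.result R' A' R (TensorProduct R' R A')
    (fun p hp => by
      obtain ⟨q, rfl⟩ : ∃ q, p = q + 1 := ⟨p - 1, by omega⟩
      exact (GrothLib.DR.subsingleton_iff_isZero _).2
        (GrothLib.FlatFP.isZero_tor_succ_of_flat (ModuleCat.of R' A') (ModuleCat.of R' R) q)) adjρ adjα h K'
  exact ⟨a, b, (Groth.Agent.S6952.result (algebraMap R' R) hs hn _ a b).1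
    (GrothLib.DR.hasTorAmplitudeIn_of_iso (asIso (TrivBC.cmp adjρ adjα h K')).symm ht)⟩

end Groth.Agent.S7076
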