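import Groth.Statements.S7084
import Groth.Agent.Lib.DCxRing.Reduction
import Groth.Agent.Lib.DCxRing.DComplete.Nakayama

set_option autoImplicit false
universe u
attribute [local instance] HasDerivedCategory.standard
open CategoryTheory
open LocCoh

namespace Groth.Agent.S7084

open GrothLib in
lemma key {R : Type u} [CommRing R] (I : Ideal R) {P : DRing.Cx R} (hP : KF.IsKFlat P)
    (hPf : DRing.TermwiseFlat P)
    (h : ∀ i : ℤ, 0 < i → (DRing.tensorCx P (ModuleCat.of R (R ⧸ I))).ExactAt i) (i : ℤ) (hi : 0 < i) :
    ∀ (k : ℕ) (N : ModuleCat.{u} R), I ^ k • (⊤ : Submodule R N) = ⊥ → (DRing.tensorCx P N).ExactAt i := by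
  intro k
  induction k with
  | zero =>
    intro N hN
    rw [pow_zero, Ideal.one_eq_top, Submodule.top_smul] at hN
    haveI : Subsingleton N :=
      ⟨fun x y => ((Submodule.mem_bot R).1 (hN ▸ Submodule.mem_top (x := x))).trans
        ((Submodule.mem_bot R).1 (hN ▸ Submodule.mem_top (x := y))).symm⟩
    exact ShortComplex.exact_of_isZero_X₂ _
      (((MonoidalCategory.curriedTensor (ModuleCat.{u} R)).obj (P.X i)).map_isZero
        (ModuleCat.isZero_of_subsingleton N))
  | succ k ih =>
    intro N hN
    let φ := Ideal.Quotient.mk I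
    let W : Submodule R N := I • ⊤
    have hW : I ^ k • (⊤ : Submodule R W) = ⊥ := by
      apply Submodule.map_injective_of_injective (f := W.subtype) Subtype.val_injective
      rw [Submodule.map_smul'', Submodule.map_top, Submodule.range_subtype, Submodule.map_bot]
      show I ^ k • (I • (⊤ : Submodule R N)) = ⊥
      rw [← Submodule.mul_smul, ← pow_succ]
      exact hN
    have hQ : RingHom.ker φ • (⊤ : Submodule R (N ⧸ W)) = ⊥ := by
      rw [Ideal.mk_ker, ← Submodule.range_mkQ W, ← Submodule.map_top, ← Submodule.map_smul'']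
      exact Submodule.mkQ_map_self W
    obtain ⟨M, ⟨eM⟩⟩ := DR.exists_restrict_iso φ Ideal.Quotient.mk_surjective (ModuleCat.of R (N ⧸ W)) hQ
    let e1 : (ModuleCat.restrictScalars φ).obj (ModuleCat.of (R ⧸ I) (R ⧸ I)) ≅ ModuleCat.of R (R ⧸ I) :=
      LinearEquiv.toModuleIso
        ({ toFun := fun x => x, invFun := fun x => x, map_add' := fun _ _ => rfl
           map_smul' := fun a x => rfl
           left_inv := fun _ => rfl, right_inv := fun _ => rfl } :
          ((ModuleCat.restrictScalars φ).obj (ModuleCat.of (R ⧸ I) (R ⧸ I))) ≃ₗ[R] (R ⧸ I))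
    have hC : ∀ j : ℤ, 0 < j → ((DR.bc φ).obj P).ExactAt j := fun j hj => by
      have h1 : (DRing.tensorCx P ((ModuleCat.restrictScalars φ).obj (ModuleCat.of (R ⧸ I) (R ⧸ I)))).ExactAt j :=
        (h j hj).of_iso (HomologicalComplex.Hom.isoOfComponents
          (fun k => MonoidalCategory.whiskerLeftIso (P.X k) e1.symm)
          fun k l _ => (MonoidalCategory.whisker_exchange (P.d k l) e1.inv).symm.symm)
      exact ((KF.exactAt_tensor_restrict_iff φ P _ j).1 h1).of_iso (KF.tensorCxUnitIso _)
    have h3 : (DRing.tensorCx P (ModuleCat.of R (N ⧸ W))).ExactAt i :=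
      ((KF.exactAt_tensor_restrict_iff φ P M i).2
        (DCpl.exactAt_tensor_of_exactAbove (KF.isKFlat_bc φ hP) hC M i hi)).of_iso
        (HomologicalComplex.Hom.isoOfComponents (fun j => MonoidalCategory.whiskerLeftIso (P.X j) eM)
          fun j k _ => (MonoidalCategory.whisker_exchange (P.d j k) eM.hom).symm.symm)
    let S : ShortComplex (ModuleCat.{u} R) := ShortComplex.mk
      (X₁ := ModuleCat.of R W) (X₂ := N) (X₃ := ModuleCat.of R (N ⧸ W))
      (ModuleCat.ofHom (X := ↥W) W.subtype) (ModuleCat.ofHom W.mkQ)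
      (ModuleCat.hom_ext (LinearMap.ext fun x => (Submodule.Quotient.mk_eq_zero W).2 x.2))
    have hS : S.ShortExact :=
      { exact := (ShortComplex.ShortExact.moduleCat_exact_iff_function_exact S).2 (LinearMap.exact_subtype_mkQ W)
        mono_f := (ModuleCat.mono_iff_injective _).2 Subtype.val_injective
        epi_g := (ModuleCat.epi_iff_surjective _).2 W.mkQ_surjective }
    exact DR.exactAt_tensor_middle hPf hS i (ih (ModuleCat.of R W) hW) h3

/-- Parts (1)–(2) in the case of a module killed by a power of the ideal: let R be a commutative ring, I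
an ideal and K an object of D(R) such that K ⊗^L_R R/I has no cohomology in positive degrees. Then
for every R-module N annihilated by some power of I, K ⊗^L_R N has no cohomology in positive
degrees. (The published statement allows any I-power torsion module N; this row takes N annihilated
by a single power of I, the case the published argument carries out in full, which contains the case
N = R/I^n.) The derived tensor products with modules are total left derived functors, assumed to
exist. -/
theorem result {R : Type u} [CommRing R] (I : Ideal R)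
    [DRing.HasLTensor R (ModuleCat.of R (R ⧸ I))] (K : Dual.D R)
    (hK : ∀ i : ℤ, 0 < i → Subsingleton (Dual.HD R ((DRing.LTensor R (ModuleCat.of R (R ⧸ I))).obj K) i))
    (N : Type u) [AddCommGroup N] [Module R N] (n : ℕ) (hN : I ^ n • (⊤ : Submodule R N) = ⊥)
    [DRing.HasLTensor R (ModuleCat.of R N)] (i : ℤ) (hi : 0 < i) :
    Subsingleton (Dual.HD R ((DRing.LTensor R (ModuleCat.of R N)).obj K) i) := by
  obtain ⟨G, ⟨eK⟩⟩ := Functor.EssSurj.mem_essImage (F := DerivedCategory.Q) K
  obtain ⟨P, q, hP, hPf, hq, -⟩ := GrothLib.KF.exists_kflat_resolution G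
  haveI := hq
  have eP : DRing.toD P ≅ K := asIso (DerivedCategory.Q.map q) ≪≫ eK
  obtain ⟨e0⟩ := GrothLib.KF.lTensor_value (ModuleCat.of R (R ⧸ I)) hP
  obtain ⟨e1⟩ := GrothLib.KF.lTensor_value (ModuleCat.of R N) hP
  have h : ∀ j : ℤ, 0 < j → (DRing.tensorCx P (ModuleCat.of R (R ⧸ I))).ExactAt j := fun j hj => by
    rw [GrothLib.DR.exactAt_iff]
    exact GrothLib.DR.subsingleton_HD_of_iso
      (((DRing.LTensor R (ModuleCat.of R (R ⧸ I))).mapIso eP).symm ≪≫ e0) j (hK j hj)
  have h2 := (GrothLib.DR.exactAt_iff _ i).1 (key I hP hPf h i hi n (ModuleCat.of R N) hN)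
  exact GrothLib.DR.subsingleton_HD_of_iso
    (e1.symm ≪≫ (DRing.LTensor R (ModuleCat.of R N)).mapIso eP) i h2

end Groth.Agent.S7084
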