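import Groth.Statements.S7085
import Groth.Agent.Lib.LC.DT

set_option autoImplicit false
universe u
open LocCoh

namespace Groth.Agent.S7085

/-- Let R be a commutative ring, I an ideal generated by finitely many elements f_1, …, f_t, and M an
R-module. Then: M has no nonzero element killed by I if and only if it has no nonzero element killed
by I^n for every n ≥ 1; and M has no nonzero element killed by I if and only if an element of M
vanishing in every localization M_{f_i} is zero. -/
theorem result {R : Type u} [CommRing R] {t : ℕ} (f : Fin t → R)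
    (I : Ideal R) (hI : Ideal.span (Set.range f) = I) (M : Type u) [AddCommGroup M] [Module R M] :
    (LocCoh.torsionBy I M = ⊥ ↔ ∀ n : ℕ, 1 ≤ n → LocCoh.torsionBy (I ^ n) M = ⊥) ∧
    (LocCoh.torsionBy I M = ⊥ ↔
      ∀ m : M, (∀ i : Fin t, LocalizedModule.mkLinearMap (Submonoid.powers (f i)) M m = 0) → m = 0) := by
  have key : ∀ n : ℕ, LocCoh.torsionBy I M = ⊥ → ∀ m : M, (∀ a ∈ I ^ n, a • m = 0) → m = 0 := by
    intro n h
    induction n with
    | zero => exact fun m hm => (one_smul R m).symm.trans (hm 1 (by simp))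
    | succ n ih =>
      intro m hm
      refine ih m fun a ha => ?_
      rw [← Submodule.mem_bot R, ← h]
      refine (Submodule.mem_torsionBySet_iff _ _).2 fun b => ?_
      rw [← mul_smul]
      exact hm _ (pow_succ' I n ▸ Ideal.mul_mem_mul b.2 ha)
  have hback : ∀ m : M, m ∈ LocCoh.torsionBy I M → ∀ a ∈ I, a • m = 0 := fun m hm a ha =>
    (Submodule.mem_torsionBySet_iff _ _).1 hm ⟨a, ha⟩
  refine ⟨⟨fun h n _ => eq_bot_iff.2 fun m hm => ?_, fun h => ?_⟩, ⟨fun h m hm => ?_, fun h => ?_⟩⟩
  · exact key n h m fun a ha => (Submodule.mem_torsionBySet_iff _ _).1 hm ⟨a, ha⟩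
  · have := h 1 le_rfl
    rwa [pow_one] at this
  · have hloc : ∀ i, ∃ n : ℕ, f i ^ n • m = 0 := fun i => by
      obtain ⟨⟨_, n, rfl⟩, hc⟩ := (IsLocalizedModule.eq_zero_iff (Submonoid.powers (f i))
        (LocalizedModule.mkLinearMap (Submonoid.powers (f i)) M)).1 (hm i)
      exact ⟨n, hc⟩
    have hfg : I.FG := hI ▸ Submodule.fg_span (Set.finite_range f)
    have hle : I ≤ (Submodule.span R {m}).annihilator.radical := by
      rw [← hI, Ideal.span_le]
      rintro _ ⟨i, rfl⟩
      obtain ⟨n, hn⟩ := hloc i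
      exact ⟨n, (Submodule.mem_annihilator_span_singleton m _).2 hn⟩
    obtain ⟨n, hn⟩ := Ideal.exists_pow_le_of_le_radical_of_fg hle hfg
    exact key n h m fun a ha => (Submodule.mem_annihilator_span_singleton m _).1 (hn ha)
  · refine eq_bot_iff.2 fun m hm => h m fun i => ?_
    refine (IsLocalizedModule.eq_zero_iff (Submonoid.powers (f i)) _).2
      ⟨⟨f i, Submonoid.mem_powers _⟩, ?_⟩
    exact hback m hm _ (hI ▸ Ideal.subset_span ⟨i, rfl⟩)

end Groth.Agent.S7085
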