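import Groth.Statements.S7088
import Groth.Agent.Lib.DCxRHom.HomHtpy
import Groth.Agent.Lib.DCxRing.Basic
import Groth.Agent.Lib.DCxKFlat.KFlatBounded

set_option autoImplicit false
universe u
attribute [local instance] HasDerivedCategory.standard
open CategoryTheory MonoidalCategory
open DRing

namespace Groth.Agent.S7088

/-- Let R be a commutative ring, P a bounded above cochain complex of projective R-modules whose image
in D(R) is perfect, and K a K-flat complex of R-modules (tensoring with K carries acyclic complexes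
to acyclic complexes). Then the Hom complex Hom•(P, K) is again K-flat. -/
theorem result {R : Type u} [CommRing R] (P K : DRing.Cx R) (b : ℤ)
    (hPb : DRing.VanishesAbove P b) (hPp : ∀ i : ℤ, Module.Projective R (P.X i))
    (hperf : DRing.IsPerfect R (DRing.toD P))
    (hK : ∀ L : DRing.Cx R, (∀ i : ℤ, Limits.IsZero (L.homology i)) →
      ∀ i : ℤ, Limits.IsZero (((tensorRight K).obj L).homology i)) :
    ∀ L : DRing.Cx R, (∀ i : ℤ, Limits.IsZero (L.homology i)) →
      ∀ i : ℤ, Limits.IsZero (((tensorRight (DRing.homCx P K)).obj L).homology i) := by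
  obtain ⟨P', a', b', hout, hfp, ⟨e⟩⟩ := hperf
  haveI := GrothLib.DR.isKProjective P b hPb hPp
  haveI := GrothLib.DR.isKProjective P' b' (fun i hi => hout i (Or.inr hi)) (fun i => (hfp i).2)
  obtain ⟨s, hs⟩ := GrothLib.RH.exists_quasiIso_of_iso e
  obtain ⟨h, -⟩ := (CochainComplex.IsKProjective.quasiIso_iff s).1 hs
  let D := DRing.homCx P' (GrothLib.RH.oneCx R)
  have hD : GrothLib.KF.IsKFlat D := GrothLib.KF.isKFlat_of_bounded_above _
    (-a') (fun i hi => GrothLib.RH.vanishesOutside_dual hout i (Or.inr hi)) fun n => by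
      haveI := (GrothLib.RH.termwiseFiniteProjective_dual hfp n).2
      exact Module.Flat.of_projective
  haveI := GrothLib.RH.isIso_dt K hfp hout
  exact GrothLib.KF.isKFlat_of_homotopyEquiv (GrothLib.RH.homCxPreEquiv K h.symm)
    (GrothLib.KF.isKFlat_of_iso (asIso (GrothLib.RH.dt P' K)) (GrothLib.RH.isKFlat_tens hD hK))

end Groth.Agent.S7088
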