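import Groth.Statements.S7089
import Mathlib.Algebra.Homology.QuasiIso
import Mathlib.Algebra.Homology.ShortComplex.ModuleCat

set_option autoImplicit false
universe u
open CategoryTheory
open LocCoh

namespace Groth.Agent.S7089

variable {R : Type u} [CommRing R] (I : Ideal R)

/-- A module in which every element is killed by a power of `I`. -/
structure TMod where
  Z : ModuleCat.{u} R
  h : IsPowerTorsion I Z

variable {I}

noncomputable def TMod.nz (T : TMod I) (z : T.Z) : ℕ := (T.h z).choose

lemma TMod.nz_spec (T : TMod I) (z : T.Z) : ∀ a ∈ I ^ T.nz z, a • z = 0 := (T.h z).choose_spec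

abbrev TMod.cov (T : TMod I) : Type u := DirectSum T.Z fun z => R ⧸ I ^ T.nz z

noncomputable def TMod.p (T : TMod I) : T.cov →ₗ[R] T.Z := by
  classical
  exact DirectSum.toModule R T.Z T.Z fun z =>
    Submodule.liftQ (I ^ T.nz z) (LinearMap.toSpanSingleton R T.Z z) fun a ha => by
      simpa using T.nz_spec z a ha

lemma TMod.p_surjective (T : TMod I) : Function.Surjective T.p := fun z => by
  classical
  refine ⟨DirectSum.lof R T.Z (fun z => R ⧸ I ^ T.nz z) z (Ideal.Quotient.mk _ 1), ?_⟩
  unfold TMod.p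
  rw [DirectSum.toModule_lof]
  show Submodule.liftQ _ _ _ (Submodule.Quotient.mk 1) = z
  rw [Submodule.liftQ_apply, LinearMap.toSpanSingleton_apply, one_smul]

lemma TMod.cov_torsion (T : TMod I) : IsPowerTorsion I T.cov := fun x => by
  classical
  induction x using DirectSum.induction_on with
  | zero => exact ⟨0, fun a _ => smul_zero a⟩
  | of i y =>
    refine ⟨T.nz i, fun a ha => ?_⟩
    rw [← DirectSum.lof_eq_of R, ← map_smul]
    obtain ⟨r, rfl⟩ := Ideal.Quotient.mk_surjective y
    have : a • Ideal.Quotient.mk (I ^ T.nz i) r = 0 :=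
      Ideal.Quotient.eq_zero_iff_mem.2 (Ideal.mul_mem_right _ _ ha)
    rw [this, map_zero]
  | add x y hx hy =>
    obtain ⟨n, hn⟩ := hx
    obtain ⟨m, hm⟩ := hy
    refine ⟨n + m, fun a ha => ?_⟩
    rw [smul_add, hn a (Ideal.pow_le_pow_right (by omega) ha), hm a (Ideal.pow_le_pow_right (by omega) ha),
      add_zero]

noncomputable def TMod.next (T : TMod I) : TMod I where
  Z := ModuleCat.of R (LinearMap.ker T.p)
  h x := by
    obtain ⟨n, hn⟩ := T.cov_torsion x.1
    exact ⟨n, fun a ha => Subtype.ext (hn a ha)⟩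

noncomputable def seq (T : TMod I) : ℕ → TMod I
  | 0 => T
  | n + 1 => (seq T n).next

noncomputable def dd (T : TMod I) (n : ℕ) :
    ModuleCat.of R (seq T (n + 1)).cov ⟶ ModuleCat.of R (seq T n).cov :=
  ModuleCat.ofHom ((LinearMap.ker (seq T n).p).subtype ∘ₗ (seq T (n + 1)).p)

lemma dd_exact (T : TMod I) (n : ℕ) :
    Function.Exact (dd T (n + 1)).hom (dd T n).hom := fun x => by
  constructor
  · intro hx
    have : (seq T (n + 1)).p x = 0 := Subtype.ext hx
    obtain ⟨y, hy⟩ := (seq T (n + 2)).p_surjective ⟨x, this⟩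
    exact ⟨y, congrArg Subtype.val hy⟩
  · rintro ⟨y, rfl⟩
    exact congrArg Subtype.val ((seq T (n + 2)).p y).2

lemma dd_zero (T : TMod I) (n : ℕ) : dd T (n + 1) ≫ dd T n = 0 :=
  ModuleCat.hom_ext (LinearMap.ext fun x => ((dd_exact T n) _).2 ⟨x, rfl⟩)

noncomputable def cx (T : TMod I) : ChainComplex (ModuleCat.{u} R) ℕ :=
  ChainComplex.of (fun n => ModuleCat.of R (seq T n).cov) (dd T) (dd_zero T)

lemma cx_d (T : TMod I) (n : ℕ) : (cx T).d (n + 1) n = dd T n :=
  ChainComplex.of_d (fun n => ModuleCat.of R (seq T n).cov) (dd T) n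

noncomputable def aug (T : TMod I) : (cx T).X 0 ⟶ ModuleCat.of R T.Z := ModuleCat.ofHom T.p

lemma d_aug (T : TMod I) : (cx T).d 1 0 ≫ aug T = 0 := by
  rw [cx_d]
  exact ModuleCat.hom_ext (LinearMap.ext fun x => ((seq T 1).p x).2)

/-- Let R be a commutative ring, I an ideal and M an R-module in which every element is killed by a power
of I. Then M has a left resolution by modules each of which is a direct sum of copies of R/I^n for
varying n: there are a chain complex K of R-modules, a quasi-isomorphism from K to M placed in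
degree 0, and, in each degree i, an index set and exponents n(j) with K_i isomorphic to ⊕_j
R/I^{n(j)}. -/
theorem result {R : Type u} [CommRing R] (I : Ideal R)
    (M : Type u) [AddCommGroup M] [Module R M] (hM : LocCoh.IsPowerTorsion I M) :
    ∃ (K : ChainComplex (ModuleCat.{u} R) ℕ) (π : K ⟶ (ChainComplex.single₀ (ModuleCat.{u} R)).obj (ModuleCat.of R M)),
      QuasiIso π ∧ ∀ i : ℕ, ∃ (ι : Type u) (n : ι → ℕ),
        Nonempty (K.X i ≅ ModuleCat.of R (DirectSum ι fun j => R ⧸ I ^ n j)) := by
  let T : TMod I := ⟨ModuleCat.of R M, hM⟩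
  refine ⟨cx T, (ChainComplex.toSingle₀Equiv _ _).symm ⟨aug T, d_aug T⟩, ⟨fun n => ?_⟩,
    fun i => ⟨(seq T i).Z, (seq T i).nz, ⟨Iso.refl _⟩⟩⟩
  cases n with
  | zero =>
    rw [ChainComplex.quasiIsoAt₀_iff, ShortComplex.quasiIso_iff_of_zeros']
    · refine (ShortComplex.exact_and_epi_g_iff_of_iso ?_).2
        (⟨(ShortComplex.ShortExact.moduleCat_exact_iff_function_exact
            (ShortComplex.mk ((cx T).d 1 0) (aug T) (d_aug T))).2 ?_,
          (ModuleCat.epi_iff_surjective _).2 T.p_surjective⟩)
      · exact ShortComplex.isoMk (Iso.refl _) (Iso.refl _) (Iso.refl _) ((Category.id_comp _).trans (Category.comp_id _).symm)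
          ((Category.id_comp _).trans (Category.comp_id _).symm)
      · show Function.Exact ((cx T).d 1 0).hom T.p
        rw [cx_d]
        intro x
        constructor
        · intro hx
          obtain ⟨y, hy⟩ := (seq T 1).p_surjective ⟨x, hx⟩
          exact ⟨y, congrArg Subtype.val hy⟩
        · rintro ⟨y, rfl⟩
          exact ((seq T 1).p y).2
    all_goals rfl
  | succ n =>
    rw [quasiIsoAt_iff_exactAt']
    · rw [HomologicalComplex.exactAt_iff' (cx T) (n + 2) (n + 1) n (by simp) (by simp),
        ShortComplex.ShortExact.moduleCat_exact_iff_function_exact]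
      show Function.Exact ((cx T).d (n + 2) (n + 1)).hom ((cx T).d (n + 1) n).hom
      rw [cx_d, cx_d]
      exact dd_exact T n
    · exact ChainComplex.exactAt_succ_single_obj _ _

end Groth.Agent.S7089
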