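import Groth.Statements.S7090
import Groth.Agent.Lib.Glue.IdealTorsion
import Mathlib.LinearAlgebra.TensorProduct.Pi
-- import your own Groth.Agent.* helpers here

set_option autoImplicit false
universe u
open TensorProduct
open EtAlg

namespace Groth.Agent.S7090

/-- Let R → S be a flat homomorphism of commutative rings and I = (f_1, …, f_t) a finitely generated
ideal such that R/I → S/IS is bijective. Then for every R-module M the glueing complex 0 → M → (S
⊗_R M) × ∏ M_{f_i} → ∏ (S ⊗_R M)_{f_i} × ∏ M_{f_i f_j} is exact. Concretely: an element of M with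
zero image in S ⊗_R M and in every M_{f_i} is zero; and given x in S ⊗_R M and elements m_1, …, m_t
of M and N ≥ 0 such that x and m_i / f_i^N have the same image in (S ⊗_R M)_{f_i} for each i, and
m_i / f_i^N, m_j / f_j^N have the same image in M_{f_i f_j} for all i, j, there is m in M with 1 ⊗ m
= x and m / 1 = m_i / f_i^N in M_{f_i} for every i. -/
theorem result {R S : Type u} [CommRing R] [CommRing S] [Algebra R S] [Module.Flat R S]
    {t : ℕ} (f : Fin t → R) (I : Ideal R) (hI : Ideal.span (Set.range f) = I)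
    (hq : Function.Bijective
      (Ideal.quotientMap (Ideal.map (algebraMap R S) I) (algebraMap R S) Ideal.le_comap_map))
    (M : Type u) [AddCommGroup M] [Module R M] :
    (∀ m : M, (1 : S) ⊗ₜ[R] m = 0 →
        (∀ i : Fin t, LocalizedModule.mkLinearMap (Submonoid.powers (f i)) M m = 0) → m = 0) ∧
    ∀ (x : S ⊗[R] M) (N : ℕ) (m : Fin t → M),
      (∀ i : Fin t, EtGlue.locOfTensor R S (f i) M x =
          EtGlue.tensorOfLoc R S (f i) M (LocalizedModule.mk (m i) ⟨f i ^ N, Submonoid.pow_mem _ (Submonoid.mem_powers (f i)) N⟩)) →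
      (∀ i j : Fin t, ∃ e : ℕ, (f i * f j) ^ e • (f j ^ N • m i - f i ^ N • m j) = 0) →
        ∃ μ : M, (1 : S) ⊗ₜ[R] μ = x ∧
          ∀ i : Fin t, LocalizedModule.mkLinearMap (Submonoid.powers (f i)) M μ =
            LocalizedModule.mk (m i) ⟨f i ^ N, Submonoid.pow_mem _ (Submonoid.mem_powers (f i)) N⟩ := by
  classical
  have hfg : I.FG := hI ▸ Submodule.fg_span (Set.finite_range f)
  have hann : ∀ {W : Type u} [AddCommGroup W] [Module R W] (w : W),
      (∀ i, ∃ k : ℕ, f i ^ k • w = 0) → ∃ n : ℕ, ∀ a ∈ I ^ n, a • w = 0 := by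
    intro W _ _ w hw
    let J := LinearMap.ker (LinearMap.toSpanSingleton R W w)
    obtain ⟨n, hn⟩ := Ideal.exists_pow_le_of_le_radical_of_fg (I := I) (J := J) (by
      rw [← hI, Ideal.span_le]
      rintro _ ⟨i, rfl⟩
      obtain ⟨k, hk⟩ := hw i
      exact ⟨k, hk⟩) hfg
    exact ⟨n, fun a ha => hn ha⟩
  let lM : ∀ i, M →ₗ[R] LocalizedModule (Submonoid.powers (f i)) M := fun i =>
    LocalizedModule.mkLinearMap (Submonoid.powers (f i)) M
  have hker0 : ∀ (i : Fin t) (m : M), lM i m = 0 → ∃ k : ℕ, f i ^ k • m = 0 := fun i m h => by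
    obtain ⟨⟨_, k, rfl⟩, hk⟩ :=
      (IsLocalizedModule.eq_zero_iff (Submonoid.powers (f i)) (lM i)).mp h
    exact ⟨k, hk⟩
  refine ⟨fun m h1 h => ?_, fun x N m hx hm => ?_⟩
  · obtain ⟨n, hn⟩ := hann m fun i => hker0 i m (h i)
    exact Glue.eq_zero_of_pow_smul_eq_zero hq hn h1
  let ψ : M →ₗ[R] ∀ i, LocalizedModule (Submonoid.powers (f i)) M := LinearMap.pi lM
  let y : ∀ i, LocalizedModule (Submonoid.powers (f i)) M := fun i =>
    LocalizedModule.mk (m i) ⟨f i ^ N, Submonoid.pow_mem _ (Submonoid.mem_powers (f i)) N⟩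
  have hy : ∀ i, f i ^ N • y i = lM i (m i) := fun i => by
    show f i ^ N • LocalizedModule.mk (m i) _ = LocalizedModule.mk (m i) 1
    rw [LocalizedModule.smul'_mk]
    exact LocalizedModule.mk_cancel (⟨f i ^ N, _⟩ : Submonoid.powers (f i)) (m i)
  have hxS : ψ.lTensor S x = (1 : S) ⊗ₜ[R] y := by
    refine (TensorProduct.piRight R R S fun i => LocalizedModule (Submonoid.powers (f i)) M).injective
      (funext fun i => ?_)
    have hu : ∀ s : Submonoid.powers (f i), IsUnit (algebraMap R
        (Module.End R (S ⊗[R] LocalizedModule (Submonoid.powers (f i)) M)) s) := fun s => by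
      have : algebraMap R (Module.End R (S ⊗[R] LocalizedModule (Submonoid.powers (f i)) M)) s =
          (algebraMap R (Module.End R (LocalizedModule (Submonoid.powers (f i)) M)) s).lTensor S := by
        ext a b; simp
      rw [this, Module.End.isUnit_iff]
      exact ((LinearEquiv.ofBijective _
        ((Module.End.isUnit_iff _).mp (IsLocalizedModule.map_units (lM i) s))).lTensor S).bijective
    let g := IsLocalizedModule.lift (Submonoid.powers (f i))
      (LocalizedModule.mkLinearMap (Submonoid.powers (f i)) (S ⊗[R] M)) ((lM i).lTensor S) hu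
    have hg1 : g ∘ₗ EtGlue.tensorOfLoc R S (f i) M =
        TensorProduct.mk R S (LocalizedModule (Submonoid.powers (f i)) M) 1 := by
      refine IsLocalizedModule.ext (Submonoid.powers (f i)) (lM i) hu (LinearMap.ext fun a => ?_)
      rw [LinearMap.comp_apply, LinearMap.comp_apply]
      show g (EtGlue.tensorOfLoc R S (f i) M (lM i a)) = _
      rw [show EtGlue.tensorOfLoc R S (f i) M (lM i a) = EtGlue.locOfTensor R S (f i) M
        ((1 : S) ⊗ₜ[R] a) from IsLocalizedModule.map_apply _ _ _ _ _]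
      exact IsLocalizedModule.lift_apply _ _ _ _ _
    have e := congrArg g (hx i)
    rw [show g (EtGlue.locOfTensor R S (f i) M x) = (lM i).lTensor S x from
      IsLocalizedModule.lift_apply _ _ _ _ _] at e
    change _ = (g ∘ₗ EtGlue.tensorOfLoc R S (f i) M) (y i) at e
    rw [hg1, TensorProduct.mk_apply] at e
    rw [TensorProduct.piRight_apply, TensorProduct.piRight_apply,
      TensorProduct.piRightHom_tmul]
    show _ = (1 : S) ⊗ₜ[R] y i
    refine Eq.trans ?_ e
    clear e hx
    induction x with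
    | zero => simp
    | tmul a b => simp [ψ, lM]
    | add a b ha hb => simp only [map_add, Pi.add_apply, ha, hb]
  obtain ⟨n, hn⟩ := hann ((LinearMap.range ψ).mkQ y) fun i => by
    choose e he using hm i
    let E := Finset.univ.sup e
    refine ⟨N + E, (Submodule.Quotient.mk_eq_zero _).mpr ⟨f i ^ E • m i, funext fun j => ?_⟩⟩
    have h0 : (f i * f j) ^ E • (f j ^ N • m i - f i ^ N • m j) = 0 := by
      obtain ⟨d, hd⟩ := Nat.exists_eq_add_of_le (Finset.le_sup (f := e) (Finset.mem_univ j))
      rw [show E = e j + d from hd, pow_add, mul_comm, mul_smul, he j, smul_zero]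
    have h1 : lM j (f i ^ E • f j ^ N • m i) = lM j (f i ^ E • f i ^ N • m j) := by
      refine IsLocalizedModule.smul_injective (lM j) (⟨f j ^ E, E, rfl⟩ : Submonoid.powers (f j)) ?_
      show f j ^ E • lM j _ = f j ^ E • lM j _
      rw [← map_smul, ← map_smul, ← mul_smul, ← mul_smul (f j ^ E), mul_comm (f j ^ E), ← mul_pow,
        ← sub_eq_zero, ← map_sub, ← smul_sub, h0, map_zero]
    refine IsLocalizedModule.smul_injective (lM j) (⟨f j ^ N, N, rfl⟩ : Submonoid.powers (f j)) ?_
    show f j ^ N • lM j (f i ^ E • m i) = f j ^ N • (f i ^ (N + E) • y j)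
    rw [← map_smul, smul_comm (f j ^ N) (f i ^ E) (m i), h1, smul_comm (f j ^ N) (f i ^ (N + E)),
      hy, ← map_smul, ← mul_smul, ← pow_add, add_comm E N]
  have hy0 : (LinearMap.range ψ).mkQ y = 0 := by
    refine Glue.eq_zero_of_pow_smul_eq_zero hq hn ?_
    rw [← LinearMap.lTensor_tmul, ← hxS, ← LinearMap.lTensor_comp_apply, LinearMap.range_mkQ_comp,
      LinearMap.lTensor_zero, LinearMap.zero_apply]
  obtain ⟨μ₀, hμ₀⟩ := (Submodule.Quotient.mk_eq_zero _).mp hy0
  obtain ⟨z, hz⟩ := (Module.Flat.lTensor_exact S (N := ↥(LinearMap.ker ψ)) (f := (LinearMap.ker ψ).subtype) (g := ψ)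
    (LinearMap.exact_subtype_ker_map ψ)
    (x - (1 : S) ⊗ₜ[R] μ₀)).mp (by rw [map_sub, hxS, LinearMap.lTensor_tmul, hμ₀, sub_self])
  obtain ⟨d, rfl⟩ := Glue.surjective_one_tmul_of_pow_smul hq (fun d : LinearMap.ker ψ => by
    obtain ⟨n, hn⟩ := hann (d : M) fun i => hker0 i _ (congrFun (LinearMap.mem_ker.mp d.2) i)
    exact ⟨n, fun a ha => Subtype.ext (hn a ha)⟩) z
  rw [TensorProduct.mk_apply, LinearMap.lTensor_tmul, Submodule.subtype_apply] at hz
  refine ⟨μ₀ + d, by rw [tmul_add, hz]; abel, fun i => ?_⟩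
  show lM i (μ₀ + d) = y i
  rw [map_add, show lM i (d : M) = 0 from congrFun (LinearMap.mem_ker.mp d.2) i, add_zero, ← hμ₀]
  rfl

end Groth.Agent.S7090
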