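import Groth.Statements.S7092
import Groth.Agent.Lib.DCxRing.DComplete.Triangle


set_option autoImplicit false
universe u
attribute [local instance] HasDerivedCategory.standard
open CategoryTheory
open DRing

namespace Groth.Agent.S7092

open CategoryTheory Pretriangulated DerivedCategory in
lemma subsingleton_cofibre {A : Type u} [CommRing A] {T : Triangle (Dual.D A)} (hT : T ∈ distTriang _) (i : ℤ)
    (h1 : Epi ((DerivedCategory.homologyFunctor (ModuleCat.{u} A) i).map T.mor₁))
    (h2 : Mono ((DerivedCategory.homologyFunctor (ModuleCat.{u} A) (i + 1)).map T.mor₁)) :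
    Subsingleton (Dual.HD A T.obj₃ i) := by
  have e1 := HomologySequence.exact₂ T hT i
  have e2 := HomologySequence.exact₃ T hT i (i + 1) rfl
  have hz : (DerivedCategory.homologyFunctor (ModuleCat.{u} A) i).map T.mor₂ = 0 :=
    (HomologySequence.epi_homologyMap_mor₁_iff T hT i).1 h1
  have hd : HomologySequence.δ T i (i + 1) rfl = 0 := by
    rw [← cancel_mono ((DerivedCategory.homologyFunctor (ModuleCat.{u} A) (i + 1)).map T.mor₁),
      HomologySequence.δ_comp T hT i (i + 1), Limits.zero_comp]
  exact ModuleCat.subsingleton_of_isZero (e2.isZero_X₂ hz hd)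

open CategoryTheory Pretriangulated DerivedCategory in
lemma epi_of_subsingleton {A : Type u} [CommRing A] {T : Triangle (Dual.D A)} (hT : T ∈ distTriang _) (i : ℤ)
    (h : Subsingleton (Dual.HD A T.obj₃ i)) :
    Epi ((DerivedCategory.homologyFunctor (ModuleCat.{u} A) i).map T.mor₁) :=
  (HomologySequence.epi_homologyMap_mor₁_iff T hT i).2 ((ModuleCat.isZero_of_subsingleton _).eq_of_tgt _ _)

open CategoryTheory Pretriangulated DerivedCategory in
lemma mono_of_subsingleton {A : Type u} [CommRing A] {T : Triangle (Dual.D A)} (hT : T ∈ distTriang _) (i : ℤ)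
    (h : Subsingleton (Dual.HD A T.obj₃ (i - 1))) :
    Mono ((DerivedCategory.homologyFunctor (ModuleCat.{u} A) i).map T.mor₁) :=
  (HomologySequence.exact₁ T hT (i - 1) i (by omega)).mono_g ((ModuleCat.isZero_of_subsingleton _).eq_of_src _ _)


/-- Let A be a commutative ring, I an ideal generated by a finite set of r elements, and assume the
derived completion functor exists. If a morphism K → L in D(A) induces isomorphisms on cohomology in
degrees ≤ -1 and an injection in degree 0, then the induced morphism of derived completions induces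
isomorphisms on cohomology in degrees ≤ -r-1 and an injection in degree -r. -/
theorem result {A : Type u} [CommRing A] (I : Ideal A) (s : Finset A)
    (hs : Ideal.span (s : Set A) = I) [DRing.HasDerivedCompletion I] {K L : Dual.D A} (φ : K ⟶ L)
    (hiso : ∀ i : ℤ, i ≤ -1 → IsIso ((DerivedCategory.homologyFunctor (ModuleCat.{u} A) i).map φ))
    (hmono : Mono ((DerivedCategory.homologyFunctor (ModuleCat.{u} A) 0).map φ)) :
    (∀ i : ℤ, i ≤ -(s.card : ℤ) - 1 → IsIso ((DerivedCategory.homologyFunctor (ModuleCat.{u} A) i).map
        ((DRing.derivedCompletion I).map φ).hom)) ∧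
      Mono ((DerivedCategory.homologyFunctor (ModuleCat.{u} A) (-(s.card : ℤ))).map
        ((DRing.derivedCompletion I).map φ).hom) := by
  obtain ⟨M, M', g, h, g', h', hT, hT', hb⟩ := GrothLib.DCpl.exists_completed_cofibre I hs φ
  have hM : ∀ i : ℤ, i ≤ -1 → Subsingleton (Dual.HD A M i) := fun i hi => by
    refine subsingleton_cofibre hT i ?_ ?_
    · haveI : IsIso ((DerivedCategory.homologyFunctor (ModuleCat.{u} A) i).map φ) := hiso i hi
      exact inferInstanceAs (Epi ((DerivedCategory.homologyFunctor (ModuleCat.{u} A) i).map φ))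
    · rcases hi.lt_or_eq with hlt | heq
      · haveI : IsIso ((DerivedCategory.homologyFunctor (ModuleCat.{u} A) (i + 1)).map φ) := hiso _ (by omega)
        exact inferInstanceAs (Mono ((DerivedCategory.homologyFunctor (ModuleCat.{u} A) (i + 1)).map φ))
      · subst heq
        exact hmono
  have hM' : ∀ i : ℤ, i ≤ -(s.card : ℤ) - 1 → Subsingleton (Dual.HD A M' i) := fun i hi =>
    hb i fun k hk => hM _ (by omega)
  refine ⟨fun i hi => ?_, mono_of_subsingleton hT' _ (hM' _ le_rfl)⟩
  haveI := epi_of_subsingleton hT' i (hM' i hi)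
  haveI := mono_of_subsingleton hT' i (hM' (i - 1) (by omega))
  exact isIso_of_mono_of_epi ((DerivedCategory.homologyFunctor (ModuleCat.{u} A) i).map
    (CategoryTheory.Pretriangulated.Triangle.mk ((DRing.derivedCompletion I).map φ).hom g' h').mor₁)

end Groth.Agent.S7092
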