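import Groth.Statements.S7093
import Groth.Agent.Lib.DCxRing.RestrictTor
import Groth.Agent.Lib.DCxRing.Devissage
-- import your own Groth.Agent.* helpers here

set_option autoImplicit false
set_option maxHeartbeats 400000
universe u
attribute [local instance] HasDerivedCategory.standard
open CategoryTheory CategoryTheory.Limits
open Dual2

namespace Groth.Agent.S7093

/-- For a flat homomorphism of finite presentation R → A of commutative rings, the R-perfect objects of
D(A) (pseudo-coherent over A, finite tor dimension over R) form a strictly full, saturated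
triangulated subcategory: the property is a triangulated object property (contains zero, stable
under shifts and under extensions in distinguished triangles), is closed under isomorphisms, and
passes to direct summands. -/
theorem result (R A : Type u) [CommRing R] [CommRing A] [Algebra R A]
    [Module.Flat R A] [Algebra.FinitePresentation R A] :
    ObjectProperty.IsTriangulated (C := Dual.D A) (fun K => Dual2.IsRelPerfect R A K) ∧
      ObjectProperty.IsClosedUnderIsomorphisms (C := Dual.D A) (fun K => Dual2.IsRelPerfect R A K) ∧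
      ∀ X Y : Dual.D A, Dual2.IsRelPerfect R A (X ⊞ Y) → Dual2.IsRelPerfect R A X ∧ Dual2.IsRelPerfect R A Y := by
  let F := DRing.restrictD (algebraMap R A)
  have iso : ∀ {X Y : Dual.D A}, (X ≅ Y) → Dual2.IsRelPerfect R A X → Dual2.IsRelPerfect R A Y :=
    fun {X Y} e ⟨h, a, b, ht⟩ => ⟨GrothLib.DR.isPseudoCoherent'_of_iso e h, a, b,
      GrothLib.DR.hasTorAmplitudeIn_of_iso (F.mapIso e) ht⟩
  refine ⟨?_, ⟨fun {X Y} e h => iso e h⟩, ?_⟩
  · refine
      { exists_zero := ⟨_, CategoryTheory.Limits.isZero_zero _, ?_⟩
        isStableUnderShiftBy := fun n => ⟨?_⟩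
        ext₂' := fun T hT h1 h3 => ⟨T.obj₂, ?_, ⟨Iso.refl _⟩⟩ }
    · exact ⟨(GrothLib.DR.isPerfect_iff.1 (GrothLib.DR.isPerfect_of_isZero (CategoryTheory.Limits.isZero_zero _))).1, 0, 0,
        GrothLib.DR.hasTorAmplitudeIn_of_isZero (F.map_isZero (CategoryTheory.Limits.isZero_zero _)) 0 0⟩
    · rintro X ⟨h, a, b, ht⟩
      exact ⟨GrothLib.DR.isPseudoCoherent'_shift h n, a - n, b - n, GrothLib.DR.hasTorAmplitudeIn_of_iso
        ((F.commShiftIso n).app X).symm (GrothLib.DR.hasTorAmplitudeIn_shift ht n _ _ (by omega) (by omega))⟩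
    · obtain ⟨k1, a, b, t1⟩ := h1
      obtain ⟨k3, c, d, t3⟩ := h3
      exact ⟨(GrothLib.DR.isPseudoCoherent'_triangle T hT).2.1 k1 k3, min a c, max b d,
        GrothLib.DR.hasTorAmplitudeIn_obj₂ _ (F.map_distinguished T hT)
          (GrothLib.DR.hasTorAmplitudeIn_mono (by omega) (by omega) t1)
          (GrothLib.DR.hasTorAmplitudeIn_mono (by omega) (by omega) t3)⟩
  · rintro X Y ⟨h, a, b, ht⟩
    have hm := fun m => GrothLib.DR.isPseudoCoherent_of_biprod X Y m (GrothLib.DR.isPseudoCoherent_of_prime h m)
    exact ⟨⟨GrothLib.DR.isPseudoCoherent'_of_forall fun m => (hm m).1, a, b,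
        GrothLib.DR.hasTorAmplitudeIn_of_retract (F.map CategoryTheory.Limits.biprod.inl)
          (F.map CategoryTheory.Limits.biprod.fst)
          (by rw [← F.map_comp, CategoryTheory.Limits.biprod.inl_fst, F.map_id]) ht⟩,
      GrothLib.DR.isPseudoCoherent'_of_forall fun m => (hm m).2, a, b,
        GrothLib.DR.hasTorAmplitudeIn_of_retract (F.map CategoryTheory.Limits.biprod.inr)
          (F.map CategoryTheory.Limits.biprod.snd)
          (by rw [← F.map_comp, CategoryTheory.Limits.biprod.inr_snd, F.map_id]) ht⟩

end Groth.Agent.S7093
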