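import Groth.Statements.S7094
import Groth.Agent.Lib.DualCx22.FibreBounded
import Groth.Agent.Lib.DCxKFlat.Balance

set_option autoImplicit false
universe u
attribute [local instance] HasDerivedCategory.standard
open CategoryTheory
open Dual2

namespace Groth.Agent.S7094

/-- Let R → A be a flat homomorphism of finite presentation of commutative rings and K a pseudo-coherent
object of D(A). Then K is R-perfect if and only if H^i(K) = 0 for all sufficiently negative i and,
for each prime p of R, H^i(K ⊗^L_R κ(p)) = 0 for all sufficiently negative i; here K is viewed in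
D(R) by restriction of scalars and the derived tensor product with the residue field κ(p) is the
total left derived functor, assumed to exist. -/
theorem result (R A : Type u) [CommRing R] [CommRing A] [Algebra R A]
    [Module.Flat R A] [Algebra.FinitePresentation R A]
    [∀ p : PrimeSpectrum R, DRing.HasLTensor R (ModuleCat.of R p.asIdeal.ResidueField)]
    (K : Dual.D A) (hK : DRing.IsPseudoCoherent' A K) :
    Dual2.IsRelPerfect R A K ↔
      (∃ a : ℤ, ∀ i : ℤ, i < a → Subsingleton (Dual.HD A K i)) ∧
        ∀ p : PrimeSpectrum R, ∃ a : ℤ, ∀ i : ℤ, i < a →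
          Subsingleton (Dual.HD R ((DRing.LTensor R (ModuleCat.of R p.asIdeal.ResidueField)).obj
            ((DRing.restrictD (algebraMap R A)).obj K)) i) := by
  constructor
  · rintro ⟨-, a, b, ht⟩
    refine ⟨⟨a, fun i hi => ?_⟩, fun p => ⟨a, fun i hi => ?_⟩⟩
    · let G := DerivedCategory.Q.objPreimage K
      let eG : DRing.toD G ≅ K := DerivedCategory.Q.objObjPreimageIso K
      exact GrothLib.DR.subsingleton_HD_of_iso eG i ((GrothLib.DR.exactAt_iff _ i).1
        ((GrothLib.KF.exactAt_restrict_iff (algebraMap R A) G i).1 ((GrothLib.DR.exactAt_iff _ i).2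
          (GrothLib.DR.subsingleton_HD_of_iso (((DRing.restrictD (algebraMap R A)).mapIso eG).symm ≪≫
            GrothLib.DR.restrictToDIso (algebraMap R A) G) i (GrothLib.DR.subsingleton_HD_of_amplitude ht i (Or.inl hi))))))
    · obtain ⟨P, hP, -, ⟨eP⟩⟩ := GrothLib.KF.exists_kflat_rep ((DRing.restrictD (algebraMap R A)).obj K)
      obtain ⟨e'⟩ := GrothLib.KF.lTensor_value (ModuleCat.of R p.asIdeal.ResidueField) hP
      exact GrothLib.DR.subsingleton_HD_of_iso (e'.symm ≪≫ (DRing.LTensor R _).mapIso eP) i
        ((GrothLib.DR.exactAt_iff _ i).1 ((GrothLib.KF.hasTorAmplitudeIn_iff_kflat hP a b).1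
          (GrothLib.DR.hasTorAmplitudeIn_of_iso eP.symm ht) _ i (Or.inl hi)))
  · rintro ⟨h0, hp⟩
    exact ⟨hK, GrothLib.DualCx22.hasFiniteTorDimCx_of_fibres K hK h0 hp⟩

end Groth.Agent.S7094
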