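import Groth.Statements.S7098
import Groth.Agent.Lib.DCxRing.DComplete.Orthogonal
import Groth.Agent.Lib.DCxRing.Restrict


set_option autoImplicit false
universe u
attribute [local instance] HasDerivedCategory.standard
open DRing

namespace Groth.Agent.S7098
open CategoryTheory

lemma isIso_smul_id {A : Type u} [CommRing A] (f : A) (P : DRing.Cx A)
    (hP : ∀ i : ℤ, Function.Bijective (fun x : P.X i => f • x)) : IsIso (f • 𝟙 (DRing.toD P)) := by
  haveI : ∀ i, IsIso ((f • 𝟙 P : P ⟶ P).f i) := fun i => by
    rw [ConcreteCategory.isIso_iff_bijective]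
    exact hP i
  haveI : IsIso (f • 𝟙 P : P ⟶ P) := HomologicalComplex.Hom.isIso_of_components _
  have : IsIso (DerivedCategory.Q.map (f • 𝟙 P)) := inferInstance
  rwa [Functor.map_smul, CategoryTheory.Functor.map_id] at this


/-- A ring over `A` as a module over `A`. -/
noncomputable def restrictSelfEquiv (A B : Type u) [CommRing A] [CommRing B] [Algebra A B] :
    ↑((ModuleCat.restrictScalars.{u} (algebraMap A B)).obj (ModuleCat.of B B)) ≃ₗ[A] B where
  toFun x := x
  map_add' _ _ := rfl
  map_smul' a x := (Algebra.smul_def a (show B from x)).symm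
  invFun x := x
  left_inv _ := rfl
  right_inv _ := rfl

/-- (1)⇔(2): let A be a commutative ring, f an element of A and K an object of D(A). Then every morphism
A_f[0] → K[n] vanishes for every integer n if and only if every morphism E → K vanishes for every
object E of D(A) obtained by restriction of scalars from D(A_f). -/
theorem result {A : Type u} [CommRing A] (f : A)
    (K : Dual.D A) :
    (∀ n : ℤ, Subsingleton (Dual.inD A (Localization.Away f) ⟶ K⟦n⟧)) ↔
      ∀ E : Dual.D (Localization.Away f),
        Subsingleton ((DRing.restrictD (algebraMap A (Localization.Away f))).obj E ⟶ K) := by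
  constructor
  · intro h E
    suffices hh : ∀ ξ : (DRing.restrictD (algebraMap A (Localization.Away f))).obj E ⟶ K, ξ = 0 from
      ⟨fun a b => (hh a).trans (hh b).symm⟩
    intro ξ
    let e := (DRing.restrictD (algebraMap A (Localization.Away f))).mapIso
        (DerivedCategory.Q.objObjPreimageIso E).symm ≪≫
      GrothLib.DR.restrictToDIso (algebraMap A (Localization.Away f)) (DerivedCategory.Q.objPreimage E)
    let R := (DRing.restrictCx (algebraMap A (Localization.Away f))).obj (DerivedCategory.Q.objPreimage E)
    haveI := isIso_smul_id f R fun i => by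
      have hu : IsUnit (algebraMap A (Localization.Away f) f) := IsLocalization.Away.algebraMap_isUnit f
      exact (Module.End.isUnit_iff _).1 (hu.map (algebraMap (Localization.Away f)
        (Module.End (Localization.Away f) ((DerivedCategory.Q.objPreimage E).X i))))
    have h0 : e.inv ≫ ξ = 0 := GrothLib.DCpl.hom_eq_zero_of_isIso_smul
      ((GrothLib.DCpl.subsingleton_hom_away_iff f K).1 h) _
    exact (cancel_epi e.inv).1 (h0.trans Limits.comp_zero.symm)
  · intro h n
    let B := Localization.Away f
    let S := (HomologicalComplex.single (ModuleCat.{u} B) (ComplexShape.up ℤ) 0).obj (ModuleCat.of B B)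
    let eB : DRing.toD S ≅ Dual.inD B B :=
      (((SingleFunctors.evaluation _ _ 0).mapIso
        (DerivedCategory.singleFunctorsPostcompQIso (ModuleCat.{u} B))).app _).symm
    let eA := (restrictSelfEquiv A B).toModuleIso
    let e₀ : (DRing.restrictD (algebraMap A B)).obj (Dual.inD B B) ≅ Dual.inD A B :=
      (DRing.restrictD (algebraMap A B)).mapIso eB.symm ≪≫ GrothLib.DR.restrictToDIso (algebraMap A B) S ≪≫
        (GrothLib.DR.nonempty_map_inD (ModuleCat.restrictScalars.{u} (algebraMap A B)) B).some ≪≫
        (DerivedCategory.singleFunctor (ModuleCat.{u} A) 0).mapIso eA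
    let e₁ : (DRing.restrictD (algebraMap A B)).obj ((Dual.inD B B)⟦-n⟧) ≅ (Dual.inD A B)⟦-n⟧ :=
      ((DRing.restrictD (algebraMap A B)).commShiftIso (-n)).app _ ≪≫ (shiftFunctor _ (-n)).mapIso e₀
    have h1 := h ((Dual.inD B B)⟦-n⟧)
    refine ⟨fun a b => ?_⟩
    let e₂ : (K⟦n⟧)⟦-n⟧ ≅ K := (shiftEquiv (Dual.D A) n).unitIso.symm.app K
    apply (shiftFunctor (Dual.D A) (-n)).map_injective
    rw [← cancel_mono e₂.hom, ← cancel_epi e₁.hom]
    exact h1.elim _ _

end Groth.Agent.S7098
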