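import Groth.Statements.S7102
import Groth.Agent.Lib.DCxKFlat.Finite
import Groth.Agent.Lib.DCxKFlat.Amplitude
import Groth.Agent.Lib.DCxRing.RestrictTor
import Groth.Agent.Lib.DCxRing.Perfect

set_option autoImplicit false
universe u
attribute [local instance] HasDerivedCategory.standard
open Dual2
open CategoryTheory

namespace Groth.Agent.S7102

/-- Let R → A be a flat homomorphism of finite presentation of commutative rings, E a bounded cochain
complex of finite projective A-modules (a perfect object of D(A)) for which the derived functor −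
⊗^L_A E exists, and M an R-perfect object of D(A). Then M ⊗^L_A E is R-perfect. -/
theorem result (R A : Type u) [CommRing R] [CommRing A] [Algebra R A]
    [Module.Flat R A] [Algebra.FinitePresentation R A] (E : DRing.Cx A) (a b : ℤ)
    (hEb : DRing.VanishesOutside E a b) (hEp : DRing.TermwiseFiniteProjective E) [DRing.HasLTensorCx A E]
    (M : Dual.D A) (hM : Dual2.IsRelPerfect R A M) :
    Dual2.IsRelPerfect R A ((DRing.LTensorCx A E).obj M) := by
  obtain ⟨L, ⟨eL⟩⟩ : ∃ L, Nonempty (DRing.toD L ≅ M) :=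
    ⟨_, ⟨DerivedCategory.Q.objObjPreimageIso M⟩⟩
  haveI := GrothLib.KF.hasLTensorCx L
  have hEK := GrothLib.KF.isKFlat_of_vanishesAbove (b := b) (fun i hi => hEb i (Or.inr hi))
    (GrothLib.DR.termwiseFlat_of_projective fun i => (hEp i).2)
  obtain ⟨i₁⟩ := GrothLib.KF.lTensorCx_value L hEK
  obtain ⟨i₂⟩ := GrothLib.KF.lTensorCx_value_of_isKFlat E hEK L
  let e : (DRing.LTensorCx A L).obj (DRing.toD E) ≅ (DRing.LTensorCx A E).obj M :=
    i₁ ≪≫ DerivedCategory.Q.mapIso (GrothLib.KF.tensorCxSymm L E) ≪≫ i₂.symm ≪≫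
      (DRing.LTensorCx A E).mapIso eL
  refine ⟨GrothLib.KF.isPseudoCoherent'_lTensorCx hM.1 (GrothLib.DR.isPseudoCoherent'_of_forall fun m =>
    GrothLib.DR.isPseudoCoherent_of_finiteProjective (b := b) (fun i hi => hEb i (Or.inr hi)) hEp m), ?_⟩
  obtain ⟨c, d, hM2⟩ := hM.2
  refine ⟨a + c, b + d, GrothLib.DR.hasTorAmplitudeIn_of_iso ((DRing.restrictD (algebraMap R A)).mapIso e)
    (GrothLib.KF.hasTorAmplitudeIn_restrict_lTensorCx _ (GrothLib.DR.hasTorAmplitudeIn_of_finiteProjective hEb hEp) L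
      (GrothLib.DR.hasTorAmplitudeIn_of_iso
        (((DRing.restrictD (algebraMap R A)).mapIso eL).symm ≪≫ GrothLib.DR.restrictToDIso _ L) hM2))⟩

end Groth.Agent.S7102
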