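import Groth.Statements.S7103
import Groth.Agent.Lib.DCxRing.DComplete.TensorFree

set_option autoImplicit false
universe u
attribute [local instance] HasDerivedCategory.standard
open CategoryTheory
open DRing

namespace Groth.Agent.S7103

/-- Let A be a Noetherian commutative ring and I an ideal; assume the derived completion functor exists.
Let F be a bounded above cochain complex of finite free A-modules (a pseudo-coherent object) for
which − ⊗^L_A F exists, and K an object of D(A) whose cohomology is bounded above. Then K^∧ ⊗^L_A F
is the derived completion of K ⊗^L_A F through the map K ⊗^L_A F → K^∧ ⊗^L_A F induced by the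
canonical morphism K → K^∧ to the derived completion K^∧ of K: the object K^∧ ⊗^L_A F is derived
complete with respect to I, and every morphism from K ⊗^L_A F to a derived complete object of D(A)
factors uniquely through that map. -/
theorem result {A : Type u} [CommRing A] [IsNoetherianRing A] (I : Ideal A)
    [DRing.HasDerivedCompletion I] (F : DRing.Cx A) (c : ℤ) (hFc : DRing.VanishesAbove F c)
    (hFf : DRing.TermwiseFiniteFree F) [DRing.HasLTensorCx A F]
    (K : Dual.D A) (b : ℤ) (hK : ∀ i : ℤ, b < i → Subsingleton (Dual.HD A K i)) :
    DRing.IsDerivedComplete I ((DRing.LTensorCx A F).obj ((DRing.derivedCompletion I).obj K).obj) ∧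
      ∀ E : Dual.D A, DRing.IsDerivedComplete I E →
        Function.Bijective (fun φ : (DRing.LTensorCx A F).obj ((DRing.derivedCompletion I).obj K).obj ⟶ E =>
          (DRing.LTensorCx A F).map (DRing.toDerivedCompletion I K) ≫ φ) :=
  GrothLib.DCpl.tensor_completion I hFc hFf (DRing.LTensorCx A F)
    (fun _ _ φ hP hT => GrothLib.DCpl.lTensorCx_map_value F φ hP hT) K b hK

end Groth.Agent.S7103
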