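import Groth.Statements.S7106
import Groth.Agent.Lib.DCxRing.TwoTermHom

set_option autoImplicit false
universe u
attribute [local instance] HasDerivedCategory.standard
open CategoryTheory
open DRing

namespace Groth.Agent.S7106

/-- Let R be a commutative ring, M a cochain complex of R-modules with M^i = 0 for i > 0 and M^0
projective, K a cochain complex with K^i = 0 for i outside [-1, 0] and K^0 projective, and a : M → K
a chain map. Then precomposition with a is the zero map Ext^1_R(K, N) → Ext^1_R(M, N) (morphisms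
into N[1] in D(R)) for every R-module N if and only if there is a map h : M^0 → K^{-1} with a^{-1} +
h ∘ d_M^{-1} = 0. (The published statement composes h^0 with the differential K^{-1} → K^0 of K,
which is not defined; this row composes it with the differential M^{-1} → M^0 of M, as the homotopy
in the published proof does.) -/
theorem result {R : Type u} [CommRing R] (M K : DRing.Cx R)
    (hM : ∀ i : ℤ, 0 < i → Limits.IsZero (M.X i)) (hM0 : Module.Projective R (M.X 0))
    (hK : ∀ i : ℤ, i ≠ -1 → i ≠ 0 → Limits.IsZero (K.X i)) (hK0 : Module.Projective R (K.X 0))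
    (a : M ⟶ K) :
    (∀ (N : Type u) [AddCommGroup N] [Module R N] (ξ : DRing.toD K ⟶ (Dual.inD R N)⟦(1 : ℤ)⟧),
        DerivedCategory.Q.map a ≫ ξ = 0) ↔
      ∃ h : M.X 0 ⟶ K.X (-1), a.f (-1) + M.d (-1) 0 ≫ h = 0 := by
  have hE : DRing.VanishesOutside K (-1) 0 := fun i hi => hK i (by omega) (by omega)
  have hC : ∀ (N : ModuleCat.{u} R), ∀ i : ℤ, i ≤ -2 →
      Limits.IsZero (((HomologicalComplex.single (ModuleCat.{u} R) (ComplexShape.up ℤ) (-1)).obj N).X i) :=
    fun N i hi => HomologicalComplex.isZero_single_obj_X _ _ _ _ (by omega)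
  have key : ∀ (N : ModuleCat.{u} R) (u : M ⟶ (HomologicalComplex.single (ModuleCat.{u} R) (ComplexShape.up ℤ) (-1)).obj N),
      DerivedCategory.Q.map u = 0 ↔ Nonempty (Homotopy u 0) := by
    intro N u
    refine ⟨fun h => ⟨HomotopyCategory.homotopyOfEq _ _
      (Eq.trans ?_ (Functor.map_zero _ _ _).symm)⟩, fun ⟨h⟩ => by
        rw [DerivedCategory.Q_map_eq_of_homotopy _ h, Functor.map_zero]⟩
    refine ((GrothLib.DR.Qh_map_bijective M _ (fun i hi => hM i hi) hM0 (hC N)).1 ?_)
    have hn := (DerivedCategory.quotientCompQhIso (ModuleCat.{u} R)).hom.naturality u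
    rw [h, Limits.comp_zero] at hn
    refine Eq.trans ?_ (DerivedCategory.Qh.map_zero _ _).symm
    exact (cancel_mono _).1 (hn.trans Limits.zero_comp.symm)
  constructor
  · intro h
    let N := K.X (-1)
    let g := GrothLib.DR.toSingleNegOne hE (𝟙 N)
    have h0 := h N (DerivedCategory.Q.map g ≫ (GrothLib.DR.shiftOneIso (ModuleCat.of R N)).hom)
    rw [← Category.assoc, ← Functor.map_comp] at h0
    obtain ⟨H⟩ := (key _ (a ≫ g)).1 ((cancel_mono (GrothLib.DR.shiftOneIso (ModuleCat.of R N)).hom).1
      (h0.trans Limits.zero_comp.symm))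
    refine ⟨-(H.hom 0 (-1) ≫ (HomologicalComplex.singleObjXSelf (ComplexShape.up ℤ) (-1) N).hom), ?_⟩
    have hc := H.comm (-1)
    rw [dNext_eq H.hom (show (ComplexShape.up ℤ).Rel (-1 : ℤ) 0 by simp),
      prevD_eq H.hom (show (ComplexShape.up ℤ).Rel (-2 : ℤ) (-1) by simp), HomologicalComplex.zero_f_apply,
      add_zero, (hC _ (-2) le_rfl).eq_of_tgt (H.hom (-1) (-2)) 0, Limits.zero_comp, add_zero] at hc
    rw [Preadditive.comp_neg, ← Category.assoc, ← hc]
    simp [g, GrothLib.DR.toSingleNegOne, N, HomologicalComplex.mkHomToSingle_f]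
  · rintro ⟨h, hh⟩ N _ _ ξ
    obtain ⟨f, hf⟩ := GrothLib.DR.exists_lift_twoTerm hE hK0 (hC (ModuleCat.of R N))
      (ξ ≫ (GrothLib.DR.shiftOneIso (ModuleCat.of R N)).inv)
    have h0 : DerivedCategory.Q.map (a ≫ f) = 0 := by
      rw [key]
      let S := (HomologicalComplex.single (ModuleCat.{u} R) (ComplexShape.up ℤ) (-1)).obj (ModuleCat.of R N)
      let hom : ∀ p q : ℤ, M.X p ⟶ S.X q := fun p q =>
        if hpq : p = 0 ∧ q = -1 then
          eqToHom (by rw [hpq.1]) ≫ (-(h ≫ f.f (-1))) ≫ eqToHom (by rw [hpq.2]) else 0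
      refine ⟨{ hom := hom, zero := fun p q hpq => ?_, comm := fun i => ?_ }⟩
      · simp only [ComplexShape.up_Rel] at hpq
        simp only [hom]
        rw [dif_neg (fun hh => hpq (by omega))]
      · rw [dNext_eq hom (show (ComplexShape.up ℤ).Rel i (i + 1) from rfl),
          prevD_eq hom (show (ComplexShape.up ℤ).Rel (i - 1) i by simp), HomologicalComplex.zero_f_apply, add_zero]
        by_cases hi : i = -1
        · subst hi
          rw [(hC (ModuleCat.of R N) _ (by omega : (-1 : ℤ) - 1 ≤ -2)).eq_of_tgt (hom (-1) (-1 - 1)) 0,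
            Limits.zero_comp, add_zero, show (-1 : ℤ) + 1 = 0 by omega,
            show hom 0 (-1) = -(h ≫ f.f (-1)) by simp [hom], HomologicalComplex.comp_f, eq_neg_of_add_eq_zero_left hh]
          simp
        · exact (HomologicalComplex.isZero_single_obj_X (ComplexShape.up ℤ) (-1) (ModuleCat.of R N) i hi).eq_of_tgt _ _
    rw [Functor.map_comp, hf, ← Category.assoc] at h0
    exact (cancel_mono (GrothLib.DR.shiftOneIso (ModuleCat.of R N)).inv).1 (h0.trans Limits.zero_comp.symm)

end Groth.Agent.S7106
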