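import Groth.Statements.S7107
import Mathlib.LinearAlgebra.Finsupp.SumProd
import Mathlib.LinearAlgebra.Finsupp.Defs
import Mathlib.LinearAlgebra.Finsupp.Pi
import Mathlib.SetTheory.Cardinal.Arithmetic

set_option autoImplicit false
universe u
open CAlg

namespace Groth.Agent.S7107

/-- Let R be a ring and P, Q modules such that P ⊕ Q is isomorphic to a free module F on an infinite
basis. Then P ⊕ F is isomorphic to F. -/
theorem result (R : Type u) [CommRing R] (P Q : Type u) [AddCommGroup P] [Module R P]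
    [AddCommGroup Q] [Module R Q] (ι : Type u) [Infinite ι] (e : (P × Q) ≃ₗ[R] (ι →₀ R)) :
    Nonempty ((P × (ι →₀ R)) ≃ₗ[R] (ι →₀ R)) := by
  obtain ⟨σ⟩ : Nonempty (ι ≃ ℕ × ι) := Cardinal.eq.1 (by
    rw [Cardinal.mk_prod, Cardinal.lift_id', Cardinal.mk_nat, Cardinal.lift_aleph0,
      Cardinal.mul_eq_right (Cardinal.aleph0_le_mk ι) (Cardinal.aleph0_le_mk ι)
        Cardinal.aleph0_ne_zero])
  let split : (ℕ →₀ P × Q) ≃ₗ[R] (ℕ →₀ P) × (ℕ →₀ Q) :=
    LinearEquiv.ofLinear
      ((Finsupp.mapRange.linearMap (LinearMap.fst R P Q)).prod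
        (Finsupp.mapRange.linearMap (LinearMap.snd R P Q)))
      ((Finsupp.mapRange.linearMap (LinearMap.inl R P Q)).coprod
        (Finsupp.mapRange.linearMap (LinearMap.inr R P Q)))
      (by refine LinearMap.prod_ext ?_ ?_ <;> ext <;> simp)
      (by refine Finsupp.lhom_ext fun n x => Finsupp.ext fun m => ?_; by_cases hm : n = m <;> simp [Finsupp.single_apply, hm])
  let F : (ι →₀ R) ≃ₗ[R] (ℕ →₀ P) × (ℕ →₀ Q) :=
    (Finsupp.domLCongr σ).trans ((Finsupp.curryLinearEquiv R).trans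
      ((Finsupp.mapRange.linearEquiv e.symm).trans split))
  let step : (P × (ℕ →₀ P)) ≃ₗ[R] (ℕ →₀ P) :=
    (((Finsupp.domLCongr (Equiv.natSumPUnitEquivNat.{0}.symm.trans (Equiv.sumComm ℕ PUnit))).trans
      (Finsupp.sumFinsuppLEquivProdFinsupp R)).trans
      ((Finsupp.LinearEquiv.finsuppUnique R P PUnit).prodCongr (LinearEquiv.refl R _))).symm
  exact ⟨((LinearEquiv.refl R P).prodCongr F).trans
    ((LinearEquiv.prodAssoc R P (ℕ →₀ P) (ℕ →₀ Q)).symm.trans
      ((step.prodCongr (LinearEquiv.refl R _)).trans F.symm))⟩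

end Groth.Agent.S7107
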