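import Groth.Statements.S7108
import Groth.Agent.S7107
import Mathlib.Algebra.Module.Projective
import Mathlib.LinearAlgebra.FreeModule.Basic

set_option autoImplicit false
universe u
open CAlg

namespace Groth.Agent.S7108

/-- Every projective module P over a ring R becomes free after adding a suitable free module: P ⊕ F is
free for some free module F (here F is the free module on some index type). -/
theorem result (R : Type u) [CommRing R] (P : Type u) [AddCommGroup P]
    [Module R P] [Module.Projective R P] : ∃ ι : Type u, Module.Free R (P × (ι →₀ R)) := by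
  obtain ⟨s, hs⟩ := Module.projective_def'.1 (inferInstance : Module.Projective R P)
  let π : (P →₀ R) →ₗ[R] P := Finsupp.linearCombination R id
  let κ : Type u := P × ULift.{u} ℕ
  -- `P ⊕ Q` is free on an infinite set
  let π' : (κ →₀ R) →ₗ[R] P := π ∘ₗ Finsupp.lmapDomain R R Prod.fst
  let s' : P →ₗ[R] (κ →₀ R) := Finsupp.lmapDomain R R (fun p => ((p, ⟨0⟩) : κ)) ∘ₗ s
  have h : π' ∘ₗ s' = LinearMap.id := by
    refine LinearMap.ext fun x => ?_
    show π (Finsupp.mapDomain Prod.fst (Finsupp.mapDomain (fun p => ((p, ⟨0⟩) : κ)) (s x))) = x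
    rw [← Finsupp.mapDomain_comp]
    show π (Finsupp.mapDomain id (s x)) = x
    rw [Finsupp.mapDomain_id]
    exact LinearMap.congr_fun hs x
  obtain ⟨e, -⟩ : ∃ e : (P × LinearMap.ker π') ≃ₗ[R] (κ →₀ R), True := by
    refine ⟨LinearEquiv.ofLinear (s'.coprod (LinearMap.ker π').subtype)
      (π'.prod (LinearMap.codRestrict _ (LinearMap.id - s' ∘ₗ π') fun x => ?_)) ?_ ?_, trivial⟩
    · have := LinearMap.congr_fun h (π' x)
      simp only [LinearMap.comp_apply, LinearMap.id_apply] at this
      simp only [LinearMap.mem_ker, LinearMap.sub_apply, map_sub, LinearMap.id_apply,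
        LinearMap.comp_apply, this, sub_self]
    · refine LinearMap.ext fun x => ?_
      simp
    · refine LinearMap.ext fun ⟨p, q⟩ => ?_
      have h1 : π' (s' p) = p := LinearMap.congr_fun h p
      have h2 : π' (q : κ →₀ R) = 0 := q.2
      ext <;> simp [h1, h2]
  obtain ⟨E⟩ := Groth.Agent.S7107.result R P (LinearMap.ker π') κ e
  exact ⟨κ, Module.Free.of_equiv E.symm⟩

end Groth.Agent.S7108
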