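import Groth.Statements.S7109
import Mathlib.Algebra.Module.Projective
import Mathlib.LinearAlgebra.FreeModule.Basic
import Mathlib.LinearAlgebra.Finsupp.Pi
import Mathlib.LinearAlgebra.StdBasis
import Mathlib.RingTheory.Finiteness.Basic

set_option autoImplicit false
universe u
open CAlg

namespace Groth.Agent.S7109

/-- Let P be a projective module over a ring R and s an element of P. Then there are a finite free
module R^n and a direct summand K of R^n ⊕ P which is finite free and contains (0, s). -/
theorem result (R : Type u) [CommRing R] (P : Type u) [AddCommGroup P]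
    [Module R P] [Module.Projective R P] (s : P) :
    ∃ (n : ℕ) (K K' : Submodule R ((Fin n → R) × P)), IsCompl K K' ∧ Module.Free R K ∧ Module.Finite R K ∧
      ((0, s) : (Fin n → R) × P) ∈ K := by
  classical
  obtain ⟨ι, hι⟩ := Module.projective_def'.1 (inferInstance : Module.Projective R P)
  let π : (P →₀ R) →ₗ[R] P := Finsupp.linearCombination R id
  have hπι : ∀ x, π (ι x) = x := LinearMap.congr_fun hι
  let T := (ι s).support
  let en : Fin T.card ≃ T := T.equivFin.symm
  let q : (P →₀ R) →ₗ[R] (Fin T.card → R) := LinearMap.pi fun i => Finsupp.lapply (en i : P)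
  let j : (Fin T.card → R) →ₗ[R] (P →₀ R) :=
    ∑ i, (Finsupp.lsingle (en i : P)) ∘ₗ LinearMap.proj i
  have hjq : j (q (ι s)) = ι s := by
    simp only [j, q, LinearMap.sum_apply, LinearMap.comp_apply, LinearMap.pi_apply,
      LinearMap.proj_apply, Finsupp.lapply_apply, Finsupp.lsingle_apply]
    rw [← Equiv.sum_comp T.equivFin (fun i => Finsupp.single (en i : P) (ι s (en i : P)))]
    simp only [en, Equiv.symm_apply_apply]
    rw [Finset.sum_coe_sort T (fun i => Finsupp.single i (ι s i))]
    exact (ι s).sum_single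
  let a : (Fin T.card → R) →ₗ[R] (Fin T.card → R) × P :=
    (LinearMap.id - q ∘ₗ ι ∘ₗ π ∘ₗ j).prod (π ∘ₗ j)
  let b : (Fin T.card → R) × P →ₗ[R] (Fin T.card → R) := LinearMap.coprod LinearMap.id (q ∘ₗ ι)
  have hba : ∀ v, b (a v) = v := fun v => by simp [a, b]
  let e := LinearEquiv.ofLeftInverse hba
  refine ⟨T.card, LinearMap.range a, LinearMap.ker b, ?_, Module.Free.of_equiv e,
    Module.Finite.equiv e, ⟨q (ι s), ?_⟩⟩
  · refine IsCompl.of_eq ?_ ?_
    · rw [eq_bot_iff]
      rintro _ ⟨⟨v, rfl⟩, h⟩
      rw [SetLike.mem_coe, LinearMap.mem_ker, hba] at h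
      simp [h]
    · rw [eq_top_iff]
      intro x _
      refine Submodule.mem_sup.2 ⟨a (b x), ⟨_, rfl⟩, x - a (b x), ?_, by abel⟩
      rw [LinearMap.mem_ker, map_sub, hba, sub_self]
  · simp [a, hjq, hπι]

end Groth.Agent.S7109
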