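import Groth.Statements.S7110
import Groth.Agent.Lib.SerreSplit.BigProj

set_option autoImplicit false
universe u
open CAlg

namespace Groth.Agent.S7110

/-- Let R be a ring whose quotient by its Jacobson radical is Noetherian, P a projective R-module such
that for every maximal ideal m the localization P_m is not finitely generated over R_m (P has
infinite rank everywhere), s an element of P and M a submodule with Rs + M = P. Then for some m in M
the element s + m spans a free direct summand of P of rank one: there is a linear form φ on P with
φ(s + m) = 1. (Rank one is meant: the zero submodule does not count.) -/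
theorem result (R : Type u) [CommRing R]
    [IsNoetherianRing (R ⧸ (⊥ : Ideal R).jacobson)]
    (P : Type u) [AddCommGroup P] [Module R P] [Module.Projective R P]
    (hP : ∀ (m : Ideal R) [m.IsMaximal],
      ¬ Module.Finite (Localization.AtPrime m) (LocalizedModule m.primeCompl P))
    (s : P) (M : Submodule R P) (hM : Submodule.span R {s} ⊔ M = ⊤) :
    ∃ m ∈ M, ∃ φ : P →ₗ[R] R, φ (s + m) = 1 := by
  exact GrothLib.SerreSplit.exists_unimodular (GrothLib.SerreSplit.nf_of_projective hP) s M hM

end Groth.Agent.S7110
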