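import Groth.Statements.S7111
import Groth.Agent.Lib.SerreSplit.BigProj

set_option autoImplicit false
universe u
open CAlg

namespace Groth.Agent.S7111

/-- Let R be a ring whose quotient by its Jacobson radical is Noetherian and P a projective R-module
such that for every maximal ideal m the localization P_m is not finitely generated over R_m (P has
infinite rank everywhere). Then every element s of P lies in a direct summand of P which is a finite
stably free module. -/
theorem result (R : Type u) [CommRing R]
    [IsNoetherianRing (R ⧸ (⊥ : Ideal R).jacobson)]
    (P : Type u) [AddCommGroup P] [Module R P] [Module.Projective R P]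
    (hP : ∀ (m : Ideal R) [m.IsMaximal],
      ¬ Module.Finite (Localization.AtPrime m) (LocalizedModule m.primeCompl P))
    (s : P) :
    ∃ (K K' : Submodule R P), IsCompl K K' ∧ Module.Finite R K ∧ Module.IsStablyFree R K ∧ s ∈ K := by
  obtain ⟨L, L', hc, _, hfin, hs⟩ :=
    GrothLib.SerreSplit.exists_free_summand_of_projective (GrothLib.SerreSplit.nf_of_projective hP) s
  exact ⟨L, L', hc, hfin, inferInstance, hs⟩

end Groth.Agent.S7111
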