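import Groth.Statements.S7112
import Groth.Agent.Lib.SerreSplit.BigProj

set_option autoImplicit false
universe u
open CAlg

namespace Groth.Agent.S7112

/-- One step of the exhaustion. -/
theorem step {R : Type u} [CommRing R] [IsNoetherianRing (R ⧸ (⊥ : Ideal R).jacobson)] {P : Type u}
    [AddCommGroup P] [Module R P] [Module.Projective R P] (hP : GrothLib.SerreSplit.NF R P)
    (KC : {KC : Submodule R P × Submodule R P // IsCompl KC.1 KC.2 ∧ Module.Finite R KC.1}) (s : P) :
    ∃ (L L' : Submodule R P) (h : IsCompl (KC.1.1 ⊔ L) L' ∧ Module.Finite R (KC.1.1 ⊔ L : Submodule R P)),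
      Module.Free R L ∧ Module.Finite R L ∧ L ≤ KC.1.2 ∧ L' ≤ KC.1.2 ∧ Disjoint L L' ∧ s ∈ KC.1.1 ⊔ L := by
  obtain ⟨⟨K, C⟩, hKC, hKfin⟩ := KC
  change IsCompl K C at hKC
  change Module.Finite R K at hKfin
  have : Module.Projective R C :=
    Module.Projective.of_split C.subtype (C.projectionOnto K hKC.symm)
      (LinearMap.ext fun c => Submodule.projectionOnto_apply_left hKC.symm c)
  obtain ⟨k, hk, c, hc, rfl⟩ := Submodule.mem_sup.1 (hKC.sup_eq_top.ge (Submodule.mem_top (x := s)))
  obtain ⟨L, L', hL, hLf, hLfin, hcL⟩ :=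
    GrothLib.SerreSplit.exists_free_summand_of_projective (hP.of_isCompl hKC) (⟨c, hc⟩ : C)
  have hdisj : Disjoint (L.map C.subtype) (L'.map C.subtype) :=
    Submodule.disjoint_map C.injective_subtype hL.disjoint
  have hsup : L.map C.subtype ⊔ L'.map C.subtype = C := by
    rw [← Submodule.map_sup, hL.sup_eq_top, Submodule.map_subtype_top]
  have hfinL : Module.Finite R (L.map C.subtype) := Module.Finite.equiv (C.equivSubtypeMap L)
  refine ⟨L.map C.subtype, L'.map C.subtype, ⟨IsCompl.of_eq ?_ ?_, ?_⟩, Module.Free.of_equiv (C.equivSubtypeMap L),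
    hfinL, Submodule.map_subtype_le C L, Submodule.map_subtype_le C L', hdisj,
    Submodule.add_mem_sup hk ⟨⟨c, hc⟩, hcL, rfl⟩⟩
  · rw [eq_bot_iff]
    rintro v ⟨hv, hv'⟩
    obtain ⟨k', hk', l, hl, rfl⟩ := Submodule.mem_sup.1 hv
    have hk0 : k' ∈ K ⊓ C := ⟨hk', by
      have := sub_mem (Submodule.map_subtype_le C L' hv') (Submodule.map_subtype_le C L hl)
      simpa using this⟩
    rw [hKC.inf_eq_bot, Submodule.mem_bot] at hk0
    subst hk0
    rw [zero_add] at hv' ⊢
    exact Submodule.disjoint_def.1 hdisj l hl hv'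
  · rw [sup_assoc, hsup]
    exact hKC.sup_eq_top
  · have := hKfin
    infer_instance

/-- Commutative case of a result of Bass: let R be a ring whose quotient by its Jacobson radical is
Noetherian and P a countably generated projective R-module such that for every maximal ideal m the
localization P_m is not finitely generated over R_m (P has infinite rank everywhere). Then P is
free. -/
theorem result (R : Type u) [CommRing R]
    [IsNoetherianRing (R ⧸ (⊥ : Ideal R).jacobson)]
    (P : Type u) [AddCommGroup P] [Module R P] [Module.Projective R P]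
    (hP : ∀ (m : Ideal R) [m.IsMaximal],
      ¬ Module.Finite (Localization.AtPrime m) (LocalizedModule m.primeCompl P))
    (hc : CAlg.IsCountablyGenerated R P) : Module.Free R P := by
  classical
  obtain ⟨S, hS, hspan⟩ := hc
  obtain ⟨f, hf⟩ : ∃ f : ℕ → P, S ⊆ Set.range f := by
    rcases S.eq_empty_or_nonempty with h | h
    · exact ⟨fun _ => 0, by simp [h]⟩
    · obtain ⟨f, rfl⟩ := hS.exists_eq_range h
      exact ⟨f, subset_rfl⟩
  have hnf := GrothLib.SerreSplit.nf_of_projective hP
  choose L L' hgood hfree hfin hle hle' hdisj hmem using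
    fun KC s => step hnf KC s
  let st : ℕ → {KC : Submodule R P × Submodule R P // IsCompl KC.1 KC.2 ∧ Module.Finite R KC.1} := fun n =>
    Nat.rec ⟨(⊥, ⊤), isCompl_bot_top, inferInstance⟩ (fun i KC => ⟨(KC.1.1 ⊔ L KC (f i), L' KC (f i)), hgood KC (f i)⟩) n
  let A : ℕ → Submodule R P := fun i => L (st i) (f i)
  have hK : ∀ n, (st n).1.1 ≤ ⨆ i, A i := by
    intro n
    induction n with
    | zero => exact bot_le
    | succ n ih => exact sup_le ih (le_iSup A n)
  have hC : ∀ n m, n ≤ m → (st m).1.2 ≤ (st n).1.2 := by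
    intro n m h
    induction h with
    | refl => exact le_rfl
    | step _ ih => exact (hle' _ _).trans ih
  have htop : ⨆ i, A i = ⊤ := by
    rw [eq_top_iff, ← hspan, Submodule.span_le]
    intro s hs
    obtain ⟨i, rfl⟩ := hf hs
    exact hK (i + 1) (hmem (st i) (f i))
  have hindep : iSupIndep A := by
    rw [iSupIndep_iff_finset_sum_eq_zero_imp_eq_zero]
    intro s v hv hsum
    by_contra hne
    push_neg at hne
    obtain ⟨i₀, hi₀, hv₀⟩ := hne
    let t := s.filter fun i => v i ≠ 0
    have ht : t.Nonempty := ⟨i₀, Finset.mem_filter.2 ⟨hi₀, hv₀⟩⟩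
    obtain ⟨n, hn, hmin⟩ : ∃ n ∈ t, ∀ m ∈ t, n ≤ m := ⟨t.min' ht, t.min'_mem ht, fun m hm => t.min'_le m hm⟩
    have hsum' : ∑ i ∈ t, (v i : P) = 0 := by rw [Finset.sum_filter_ne_zero]; exact hsum
    rw [← Finset.add_sum_erase _ _ hn] at hsum'
    have hrest : ∑ i ∈ t.erase n, (v i : P) ∈ L' (st n) (f n) := Submodule.sum_mem _ fun m hm => by
      obtain ⟨hne, hmt⟩ := Finset.mem_erase.1 hm
      have h1 : n + 1 ≤ m := by have := hmin m hmt; omega
      exact hC (n + 1) m h1 (hle (st m) (f m) (hv m (Finset.mem_filter.1 hmt).1))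
    have h2 : (v n : P) ∈ L' (st n) (f n) := by
      rw [eq_neg_of_add_eq_zero_left hsum']
      exact neg_mem hrest
    exact (Finset.mem_filter.1 hn).2 (Submodule.disjoint_def.1 (hdisj (st n) (f n)) _ (hv n (Finset.mem_filter.1 hn).1) h2)
  have hint : DirectSum.IsInternal A := DirectSum.isInternal_submodule_of_iSupIndep_of_iSup_eq_top hindep htop
  have : ∀ i, Module.Free R (A i) := fun i => hfree _ _
  exact Module.Free.of_basis (hint.collectedBasis fun i => Module.Free.chooseBasis R (A i))

end Groth.Agent.S7112
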