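import Groth.Statements.S7113
import Groth.Agent.Lib.SerreSplit.Basic
import Mathlib.Topology.KrullDimension
import Mathlib.Algebra.Module.FinitePresentation
import Mathlib.RingTheory.Localization.AtPrime.Basic

set_option autoImplicit false
universe u
open CAlg

namespace Groth.Agent.S7113

/-- Let R be a ring whose set of maximal ideals, with the Zariski topology, is a Noetherian topological
space of Krull dimension at most d, and let M be an R-module of finite presentation whose
localization M_m at each maximal ideal m contains a free direct summand of rank d + 1. Then M is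
isomorphic to R ⊕ M' for some M': there are s in M and a linear form φ on M with φ(s) = 1. (The
published statement takes the dimension equal to d; a space of smaller dimension satisfies the
hypothesis for a smaller d, so the bound form is equivalent.) -/
theorem result (R : Type u) [CommRing R] (d : ℕ)
    [TopologicalSpace.NoetherianSpace (MaximalSpectrum R)]
    (hdim : topologicalKrullDim (MaximalSpectrum R) ≤ d)
    (M : Type u) [AddCommGroup M] [Module R M] [Module.FinitePresentation R M]
    (hM : ∀ (m : Ideal R) [m.IsMaximal],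
      ∃ (f : (Fin (d + 1) → Localization.AtPrime m) →ₗ[Localization.AtPrime m] LocalizedModule m.primeCompl M)
        (g : LocalizedModule m.primeCompl M →ₗ[Localization.AtPrime m] (Fin (d + 1) → Localization.AtPrime m)),
        g ∘ₗ f = LinearMap.id) :
    ∃ (s : M) (φ : M →ₗ[R] R), φ s = 1 := by
  classical
  have hind : ∀ x : MaximalSpectrum R, ∃ a : Fin (d + 1) → M, GrothLib.SerreSplit.Indep x a := by
    intro x
    have := x.isMaximal
    obtain ⟨f, g, hgf⟩ := hM x.asIdeal
    let L := Localization.AtPrime x.asIdeal
    let ι := LocalizedModule.mkLinearMap x.asIdeal.primeCompl M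
    choose pr hpr using fun i : Fin (d + 1) => IsLocalizedModule.surj x.asIdeal.primeCompl ι (f (Pi.single i 1))
    choose ψ c hψ using fun j : Fin (d + 1) =>
      Module.FinitePresentation.exists_lift_of_isLocalizedModule x.asIdeal.primeCompl (Algebra.linearMap R L)
        (((LinearMap.proj j : (Fin (d + 1) → L) →ₗ[L] L).comp g).restrictScalars R ∘ₗ ι)
    refine ⟨fun i => (pr i).1, GrothLib.SerreSplit.indep_of_det ψ fun hdet => ?_⟩
    have he : ∀ i j, algebraMap R L (ψ j (pr i).1) =
        if j = i then algebraMap R L (c j) * algebraMap R L (pr i).2 else 0 := by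
      intro i j
      have h1 := LinearMap.congr_fun (hψ j) (pr i).1
      simp only [LinearMap.comp_apply, Algebra.linearMap_apply, LinearMap.smul_apply,
        LinearMap.coe_restrictScalars, LinearMap.proj_apply] at h1
      have h2 : ι (pr i).1 = algebraMap R L (pr i).2 • f (Pi.single i 1) := by
        rw [algebraMap_smul]; exact (hpr i).symm
      rw [h2, map_smul, ← LinearMap.comp_apply g f, hgf, LinearMap.id_apply, Pi.smul_apply,
        Submonoid.smul_def, Algebra.smul_def, smul_eq_mul, Pi.single_apply] at h1
      rw [h1]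
      split_ifs <;> simp
    have hu : IsUnit (algebraMap R L (Matrix.of fun j i => ψ j (pr i).1).det) := by
      rw [RingHom.map_det]
      have e : (algebraMap R L).mapMatrix (Matrix.of fun j i => ψ j (pr i).1) =
          Matrix.diagonal fun j => algebraMap R L (c j) * algebraMap R L (pr j).2 := by
        ext j i
        rw [RingHom.mapMatrix_apply, Matrix.map_apply, Matrix.of_apply, he, Matrix.diagonal_apply]
        split_ifs with h
        · subst h; rfl
        · rfl
      rw [e, Matrix.det_diagonal, IsUnit.prod_univ_iff]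
      exact fun j => (IsLocalization.map_units L (c j)).mul (IsLocalization.map_units L (pr j).2)
    exact (IsLocalization.AtPrime.isUnit_to_map_iff L x.asIdeal _).1 hu hdet
  have hrk : ∀ (x : MaximalSpectrum R) (h' : ℕ) (a : Fin h' → M), h' < 0 + (d + 1) →
      GrothLib.SerreSplit.Indep x a → ∃ w : M, GrothLib.SerreSplit.Indep x (Fin.snoc a w : Fin (h' + 1) → M) := by
    intro x h' a hlt ha
    have := x.isMaximal
    let _ : Field (R ⧸ x.asIdeal) := Ideal.Quotient.field _
    obtain ⟨b, hb⟩ := hind x
    let q := Ideal.Quotient.mk x.asIdeal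
    obtain ⟨φ, hφ⟩ := ha.exists_forms
    by_contra hno
    push_neg at hno
    -- every element is dependent on `a`
    have hdep : ∀ i, ∃ c : Fin (h' + 1) → R, ∑ l, c l • (Fin.snoc a (b i) : Fin (h' + 1) → M) l ∈
        GrothLib.SerreSplit.Null x ∧ c (Fin.last h') ∉ x.asIdeal := by
      intro i
      obtain ⟨c, hc, l, hl⟩ : ∃ c : Fin (h' + 1) → R, ∑ l, c l • (Fin.snoc a (b i) : Fin (h' + 1) → M) l ∈
          GrothLib.SerreSplit.Null x ∧ ∃ l, c l ∉ x.asIdeal := by
        have := hno (b i)
        simp only [GrothLib.SerreSplit.Indep, not_forall] at this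
        obtain ⟨c, hc, l, hl⟩ := this
        exact ⟨c, hc, l, hl⟩
      refine ⟨c, hc, fun hlast => hl ?_⟩
      have h3 : ∑ l : Fin h', c l.castSucc • a l ∈ GrothLib.SerreSplit.Null x := by
        have h4 := sub_mem hc (GrothLib.SerreSplit.smul_le_Null x
          (Submodule.smul_mem_smul hlast (Submodule.mem_top (x := b i))))
        simpa [Fin.sum_univ_castSucc] using h4
      induction l using Fin.lastCases with
      | last => exact hlast
      | cast l => exact ha _ h3 l
    choose c hc hclast using hdep
    -- a nontrivial relation between the `d + 1` vectors of coefficients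
    let w : Fin (d + 1) → (Fin h' → R ⧸ x.asIdeal) := fun i l => q (c i l.castSucc) / q (c i (Fin.last h'))
    obtain ⟨g, hg, i₀, hi₀⟩ : ∃ g : Fin (d + 1) → R ⧸ x.asIdeal, ∑ i, g i • w i = 0 ∧ ∃ i, g i ≠ 0 := by
      refine Fintype.not_linearIndependent_iff.1 fun hli => ?_
      have := hli.fintype_card_le_finrank
      simp at this
      omega
    choose G hG using fun i => Ideal.Quotient.mk_surjective (g i / q (c i (Fin.last h')))
    have hzero : ∑ i, (G i * c i (Fin.last h')) • b i ∈ GrothLib.SerreSplit.Null x := by
      refine GrothLib.SerreSplit.mem_Null.2 fun ψ => ?_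
      rw [← Ideal.Quotient.eq_zero_iff_mem, map_sum, map_sum]
      have hrel : ∀ i, ∑ l : Fin h', q (c i l.castSucc) * q (ψ (a l)) + q (c i (Fin.last h')) * q (ψ (b i)) = 0 := by
        intro i
        have := Ideal.Quotient.eq_zero_iff_mem.2 (GrothLib.SerreSplit.mem_Null.1 (hc i) ψ)
        simpa [q, Fin.sum_univ_castSucc, map_sum] using this
      calc ∑ i, q (ψ ((G i * c i (Fin.last h')) • b i))
          = ∑ i, q (G i) * -∑ l : Fin h', q (c i l.castSucc) * q (ψ (a l)) := Finset.sum_congr rfl fun i _ => by
            rw [map_smul, smul_eq_mul, map_mul, map_mul, mul_assoc]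
            congr 1
            linear_combination hrel i
        _ = -∑ l : Fin h', (∑ i, g i • w i) l * q (ψ (a l)) := by
            simp only [Finset.sum_apply, Pi.smul_apply, smul_eq_mul, Finset.sum_mul, mul_neg,
              Finset.sum_neg_distrib, Finset.mul_sum]
            rw [Finset.sum_comm]
            refine congrArg Neg.neg (Finset.sum_congr rfl fun l _ => Finset.sum_congr rfl fun i _ => ?_)
            simp only [w]
            rw [show q (G i) = g i / q (c i (Fin.last h')) from hG i]
            ring
        _ = 0 := by rw [hg]; simp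
    have := hb _ hzero i₀
    rw [← Ideal.Quotient.eq_zero_iff_mem, map_mul] at this
    change q (G i₀) * _ = 0 at this
    rw [show q (G i₀) = g i₀ / q (c i₀ (Fin.last h')) from hG i₀, div_mul_cancel₀ _
      (fun h => hclast i₀ (Ideal.Quotient.eq_zero_iff_mem.1 h))] at this
    exact hi₀ this
  obtain ⟨t, F', hF', -, hD, hk⟩ := GrothLib.SerreSplit.main (d + 1) 0 (fun i : Fin 0 => (0 : M)) ∅ isClosed_empty
    ∅ (fun _ => 0) (by simp) hrk (fun x hx => absurd (fun c _ i => i.elim0) hx)
  have hempty : F' = ∅ := by
    by_contra hne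
    obtain ⟨x, hx⟩ := Set.nonempty_iff_ne_empty.2 hne
    let Z : TopologicalSpace.IrreducibleCloseds (MaximalSpectrum R) :=
      ⟨closure {x}, isIrreducible_singleton.closure, isClosed_closure⟩
    have h1 := hk Z (closure_minimal (Set.singleton_subset_iff.2 hx) hF')
    have h2 := (Order.coheight_le_krullDim Z).trans hdim
    have h3 : ((d + 1 : ℕ) : ℕ∞) ≤ (d : ℕ∞) := h1.trans (by exact_mod_cast h2)
    exact absurd (ENat.coe_le_coe.1 h3) (by omega)
  have hI : ∀ x : MaximalSpectrum R, ∃ φ : M →ₗ[R] R, φ t ∉ x.asIdeal := fun x => by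
    by_contra hall
    push_neg at hall
    have hx : GrothLib.SerreSplit.Indep x (Fin.snoc (fun i : Fin 0 => (0 : M)) t : Fin 1 → M) := by
      by_contra h
      simpa [hempty] using hD x h
    exact x.isMaximal.ne_top ((Ideal.eq_top_iff_one _).2 (hx (fun _ => 1) (by
      simpa [Fin.snoc] using GrothLib.SerreSplit.mem_Null.2 hall) 0))
  let ev : (M →ₗ[R] R) →ₗ[R] R := LinearMap.applyₗ t
  obtain ⟨φ, hφ⟩ : (1 : R) ∈ LinearMap.range ev := by
    by_contra h
    obtain ⟨m, hm, hle⟩ := Ideal.exists_le_maximal (LinearMap.range ev) (fun htop => h (htop ▸ Submodule.mem_top))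
    obtain ⟨φ, hφ⟩ := hI ⟨m, hm⟩
    exact hφ (hle ⟨φ, rfl⟩)
  exact ⟨t, φ, hφ⟩

end Groth.Agent.S7113
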