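import Groth.Statements.S7114
import Mathlib
-- import your own Groth.Agent.* helpers here

set_option autoImplicit false
universe u
open CAlg

namespace Groth.Agent.S7114

/-- Let R be a Noetherian local ring of Krull dimension one and x an element of the maximal ideal lying
in no minimal prime of R. Then for every n the length of R/xⁿR is at most n times the length of
R/xR, and equality holds when x is a nonzerodivisor. -/
theorem result (R : Type u) [CommRing R] [IsNoetherianRing R] [IsLocalRing R]
    (hdim : ringKrullDim R = 1) (x : R) (hx : x ∈ IsLocalRing.maximalIdeal R)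
    (hmin : ∀ p ∈ minimalPrimes R, x ∉ p) (n : ℕ) :
    Module.length R (R ⧸ Ideal.span {x ^ n}) ≤ (n : ℕ∞) * Module.length R (R ⧸ Ideal.span {x}) ∧
      (x ∈ nonZeroDivisors R →
        Module.length R (R ⧸ Ideal.span {x ^ n}) = (n : ℕ∞) * Module.length R (R ⧸ Ideal.span {x})) := by
  refine ⟨?_, fun hx0 => ?_⟩
  · induction n with
    | zero =>
      have : Subsingleton (R ⧸ Ideal.span {x ^ 0}) := by
        rw [pow_zero, Ideal.span_singleton_one]
        infer_instance
      simp [Module.length_eq_zero_iff.2 this]
    | succ n ih =>
      let I := Ideal.span {x ^ (n + 1)}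
      have hle : I ≤ Ideal.span {x ^ n} :=
        Ideal.span_singleton_le_span_singleton.2 (pow_dvd_pow x n.le_succ)
      let g : R ⧸ I →ₗ[R] R ⧸ Ideal.span {x ^ n} := Submodule.factor hle
      let f : R ⧸ Ideal.span {x} →ₗ[R] R ⧸ I :=
        Submodule.liftQ _ (I.mkQ ∘ₗ LinearMap.toSpanSingleton R R (x ^ n)) (by
          rw [Ideal.span_singleton_le_iff_mem, LinearMap.mem_ker]
          exact (Submodule.Quotient.mk_eq_zero _).2 (Ideal.mem_span_singleton.2 (by simp [pow_succ'])))
      have hker : LinearMap.ker g ≤ LinearMap.range f := by
        intro y hy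
        obtain ⟨r, rfl⟩ := Submodule.Quotient.mk_surjective _ y
        have hr : r ∈ Ideal.span {x ^ n} := (Submodule.Quotient.mk_eq_zero _).1 hy
        obtain ⟨c, rfl⟩ := Ideal.mem_span_singleton.1 hr
        exact ⟨Submodule.Quotient.mk c, by rw [mul_comm]; rfl⟩
      rw [Module.length_eq_add_of_exact (LinearMap.ker g).subtype g (Submodule.subtype_injective _)
        (Submodule.factor_surjective hle) (LinearMap.exact_subtype_ker_map g), Nat.cast_succ, add_mul,
        one_mul, add_comm]
      exact add_le_add ih ((Module.length_le_of_injective (Submodule.inclusion hker)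
        (Submodule.inclusion_injective hker)).trans
          (Module.length_le_of_surjective f.rangeRestrict f.surjective_rangeRestrict))
  · show Ring.ord R (x ^ n) = n * Ring.ord R x
    induction n with
    | zero =>
      have : Subsingleton (R ⧸ Ideal.span {x ^ 0}) := by
        rw [pow_zero, Ideal.span_singleton_one]
        infer_instance
      simp [Ring.ord, Module.length_eq_zero_iff.2 this]
    | succ n ih => rw [pow_succ, Ring.ord_mul R hx0, ih, Nat.cast_succ, add_mul, one_mul]

end Groth.Agent.S7114
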