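import Groth.Statements.S7115
import Mathlib
-- import your own Groth.Agent.* helpers here

set_option autoImplicit false
universe u
open CAlg

namespace Groth.Agent.S7115

open scoped Pointwise

/-- Let R be a Noetherian local ring of Krull dimension d > 1 with maximal ideal m, let f be an element
of m contained in no minimal prime, and let k be a natural number. Then there are elements g_1, ...,
g_{d-1} of m lying in m^k such that f, g_1, ..., g_{d-1} form a system of parameters: these d
elements of m generate an ideal whose radical is m. -/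
theorem result (R : Type u) [CommRing R] [IsNoetherianRing R] [IsLocalRing R]
    (d : ℕ) (hd : ringKrullDim R = d) (h1 : 1 < d) (f : R) (hf : f ∈ IsLocalRing.maximalIdeal R)
    (hmin : ∀ p ∈ minimalPrimes R, f ∉ p) (k : ℕ) :
    ∃ g : Fin (d - 1) → R, (∀ i, g i ∈ IsLocalRing.maximalIdeal R ^ k) ∧ (∀ i, g i ∈ IsLocalRing.maximalIdeal R) ∧
      IsLocalRing.maximalIdeal R ≤ (Ideal.span (insert f (Set.range g))).radical := by
  classical
  let I : Ideal R := Ideal.span {f}
  have hI : I ≠ ⊤ := fun h => (IsLocalRing.maximalIdeal.isMaximal R).ne_top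
    (top_le_iff.mp (h ▸ (Ideal.span_singleton_le_iff_mem _).mpr hf))
  haveI : Nontrivial (R ⧸ I) := Ideal.Quotient.nontrivial_iff.mpr hI
  haveI : IsLocalRing (R ⧸ I) := IsLocalRing.of_surjective' (Ideal.Quotient.mk I) Ideal.Quotient.mk_surjective
  have hdim : ringKrullDim (R ⧸ I) + 1 ≤ (d : WithBot ℕ∞) := by
    rw [← hd]
    have h : Ideal.span {f} = f • (⊤ : Ideal R) := by simp [← Submodule.ideal_span_singleton_smul]
    have e : ringKrullDim (R ⧸ I) = ringKrullDim (QuotSMulTop f R) :=
      ringKrullDim_eq_of_ringEquiv (Ideal.quotientEquivAlgOfEq R h).toRingEquiv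
    rw [e, ← Module.supportDim_quotient_eq_ringKrullDim, ← Module.supportDim_self_eq_ringKrullDim]
    refine Module.supportDim_quotSMulTop_succ_le_of_notMem_minimalPrimes fun p hp => hmin p ?_
    have ha : Module.annihilator R R = ⊥ := by
      rw [eq_bot_iff]; intro r hr
      have := Module.mem_annihilator.mp hr 1
      simpa using this
    rw [ha] at hp
    exact hp
  obtain ⟨s, hs, hcard⟩ := (IsLocalRing.maximalIdeal (R ⧸ I)).exists_finset_card_eq_height_of_isNoetherianRing
  have hsc : s.card ≤ d - 1 := by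
    rw [← IsLocalRing.maximalIdeal_height_eq_ringKrullDim] at hdim
    rw [← hcard] at hdim
    have : ((s.card + 1 : ℕ) : WithBot ℕ∞) ≤ ((d : ℕ) : WithBot ℕ∞) := by push_cast; exact hdim
    have := Nat.cast_le.mp this
    omega
  let e : Fin s.card → R ⧸ I := fun i => (s.equivFin.symm i).1
  choose g₀ hg₀ using fun i : Fin (d - 1) => Ideal.Quotient.mk_surjective
    (if h : (i : ℕ) < s.card then e ⟨i, h⟩ else (0 : R ⧸ I))
  have hsm : ∀ x ∈ s, x ∈ IsLocalRing.maximalIdeal (R ⧸ I) := fun x hx => hs.1.2 (Ideal.subset_span hx)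
  have hcomap : (IsLocalRing.maximalIdeal (R ⧸ I)).comap (Ideal.Quotient.mk I) = IsLocalRing.maximalIdeal R :=
    IsLocalRing.eq_maximalIdeal (Ideal.comap_isMaximal_of_surjective _ Ideal.Quotient.mk_surjective)
  have hgm : ∀ i, g₀ i ∈ IsLocalRing.maximalIdeal R := by
    intro i
    rw [← hcomap, Ideal.mem_comap, hg₀]
    split_ifs with h
    · exact hsm _ (s.equivFin.symm _).2
    · exact Ideal.zero_mem _
  refine ⟨fun i => g₀ i ^ (k + 1), fun i => Ideal.pow_le_pow_right (Nat.le_succ k) (Ideal.pow_mem_pow (hgm i) _),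
    fun i => Ideal.pow_mem_of_mem _ (hgm i) _ (Nat.succ_pos k), ?_⟩
  set T : Ideal R := Ideal.span (insert f (Set.range fun i => g₀ i ^ (k + 1)))
  rw [Ideal.radical_eq_sInf]
  refine le_sInf fun P ⟨hTP, hP⟩ => ?_
  haveI := hP
  have hfP : I ≤ P := (Ideal.span_singleton_le_iff_mem _).mpr (hTP (Ideal.subset_span (Set.mem_insert _ _)))
  have hgP : ∀ i, g₀ i ∈ P := fun i =>
    hP.mem_of_pow_mem _ (hTP (Ideal.subset_span (Set.mem_insert_of_mem _ ⟨i, rfl⟩)))
  haveI hPq : (P.map (Ideal.Quotient.mk I)).IsPrime :=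
    Ideal.map_isPrime_of_surjective Ideal.Quotient.mk_surjective (by rwa [Ideal.mk_ker])
  have hsP : Ideal.span (s : Set (R ⧸ I)) ≤ P.map (Ideal.Quotient.mk I) := by
    rw [Ideal.span_le]
    intro x hx
    have hi : ((s.equivFin ⟨x, hx⟩ : Fin s.card) : ℕ) < d - 1 := lt_of_lt_of_le (s.equivFin ⟨x, hx⟩).2 hsc
    have := Ideal.mem_map_of_mem (Ideal.Quotient.mk I) (hgP ⟨_, hi⟩)
    rw [hg₀, dif_pos (s.equivFin ⟨x, hx⟩).2] at this
    simpa [e] using this
  have hmax := hs.2 ⟨hPq, hsP⟩ (IsLocalRing.le_maximalIdeal hPq.ne_top)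
  have := Ideal.comap_mono (f := Ideal.Quotient.mk I) hmax
  rwa [hcomap, Ideal.comap_map_of_surjective _ Ideal.Quotient.mk_surjective, ← RingHom.ker_eq_comap_bot,
    Ideal.mk_ker, sup_eq_left.mpr hfP] at this

end Groth.Agent.S7115
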