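import Groth.Statements.S7116
import Mathlib
-- import your own Groth.Agent.* helpers here

set_option autoImplicit false
universe u
open CAlg

namespace Groth.Agent.S7116

/-- Let R be a Noetherian local ring of Krull dimension d with maximal ideal m and let f be an element
of m contained in no minimal prime. Then there are g_1, ..., g_{d-1} in m and a natural number N
such that f, g_1, ..., g_{d-1} is a system of parameters (these d elements of m generate an ideal
with radical m) and, for every h in m^N, the elements f + h, g_1, ..., g_{d-1} again form a system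
of parameters and the lengths of R/(f, g_1, ..., g_{d-1}) and R/(f + h, g_1, ..., g_{d-1}) agree. -/
theorem result (R : Type u) [CommRing R] [IsNoetherianRing R] [IsLocalRing R]
    (d : ℕ) (hd : ringKrullDim R = d) (f : R) (hf : f ∈ IsLocalRing.maximalIdeal R)
    (hmin : ∀ p ∈ minimalPrimes R, f ∉ p) :
    ∃ (g : Fin (d - 1) → R) (N : ℕ), (∀ i, g i ∈ IsLocalRing.maximalIdeal R) ∧
      IsLocalRing.maximalIdeal R ≤ (Ideal.span (insert f (Set.range g))).radical ∧
      ∀ h ∈ IsLocalRing.maximalIdeal R ^ N,
        IsLocalRing.maximalIdeal R ≤ (Ideal.span (insert (f + h) (Set.range g))).radical ∧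
        Module.length R (R ⧸ Ideal.span (insert f (Set.range g))) =
          Module.length R (R ⧸ Ideal.span (insert (f + h) (Set.range g))) := by
  classical
  let m := IsLocalRing.maximalIdeal R
  let Q := R ⧸ Ideal.span {f}
  have hfne : Ideal.span {f} ≠ ⊤ := fun h =>
    (IsLocalRing.maximalIdeal.isMaximal R).ne_top (top_le_iff.1 (h.ge.trans ((Ideal.span_singleton_le_iff_mem _).2 hf)))
  haveI : Nontrivial Q := Ideal.Quotient.nontrivial_iff.2 hfne
  haveI : IsLocalRing Q := IsLocalRing.of_surjective' (Ideal.Quotient.mk _) Ideal.Quotient.mk_surjective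
  have hdimQ : ringKrullDim Q + 1 ≤ ringKrullDim R := by
    haveI : Nonempty (PrimeSpectrum.zeroLocus (R := R) (Ideal.span {f})) := by
      rwa [Set.nonempty_coe_sort, Set.nonempty_iff_ne_empty, ne_eq, PrimeSpectrum.zeroLocus_empty_iff_eq_top]
    show ringKrullDim (R ⧸ Ideal.span {f}) + 1 ≤ _
    rw [ringKrullDim_quotient, Order.krullDim_eq_iSup_length, ringKrullDim,
      Order.krullDim_eq_iSup_length, ← WithBot.coe_one, ← WithBot.coe_add, ENat.iSup_add, WithBot.coe_le_coe,
      iSup_le_iff]
    intro l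
    obtain ⟨p, hp, hp'⟩ := Ideal.exists_minimalPrimes_le (J := l.head.1.asIdeal) bot_le
    let p' : PrimeSpectrum R := ⟨p, hp.1.1⟩
    have hp'' : p' < l.head := lt_of_le_of_ne hp' fun h => hmin p hp (by
      have h1 : f ∈ (l.head.1).asIdeal := l.head.2 (Ideal.mem_span_singleton_self f)
      rw [← h] at h1
      exact h1)
    refine le_trans ?_ (le_iSup _ ((l.map Subtype.val (fun _ _ ↦ id)).cons p' hp''))
    simp
  obtain ⟨s, hs, hcard⟩ := Ideal.exists_finset_card_eq_height_of_isNoetherianRing (IsLocalRing.maximalIdeal Q)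
  have hsd : s.card ≤ d - 1 := by
    rw [hd, ← IsLocalRing.maximalIdeal_height_eq_ringKrullDim, ← hcard] at hdimQ
    have h' : s.card + 1 ≤ d := by exact_mod_cast hdimQ
    omega
  choose lift hlift using fun q : Q => Ideal.Quotient.mk_surjective q
  let g : Fin (d - 1) → R := fun i => if h : i.1 < s.card then lift (s.equivFin.symm ⟨i.1, h⟩).1 else 0
  have hsm : ∀ q ∈ s, q ∈ IsLocalRing.maximalIdeal Q := fun q hq => hs.le (Ideal.subset_span hq)
  have hgm : ∀ i, g i ∈ m := fun i => by
    simp only [g]
    split_ifs with h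
    · by_contra hn
      have hu : IsUnit (Ideal.Quotient.mk (Ideal.span {f}) (lift (s.equivFin.symm ⟨i.1, h⟩).1)) :=
        (IsLocalRing.notMem_maximalIdeal.1 hn).map _
      rw [hlift] at hu
      exact (IsLocalRing.mem_maximalIdeal _).1 (hsm _ (s.equivFin.symm ⟨i.1, h⟩).2) hu
    · exact zero_mem _
  let J := Ideal.span (insert f (Set.range g))
  have hJ : m ≤ J.radical := by
    rw [Ideal.radical_eq_sInf]
    refine le_sInf fun P ⟨hP, hPp⟩ => ?_
    have hfP : f ∈ P := hP (Ideal.subset_span (Set.mem_insert _ _))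
    let P' := P.map (Ideal.Quotient.mk (Ideal.span {f}))
    haveI : P'.IsPrime := Ideal.map_isPrime_of_surjective Ideal.Quotient.mk_surjective
      (by rw [Ideal.mk_ker]; exact (Ideal.span_singleton_le_iff_mem _).2 hfP)
    have hsP : Ideal.span (s : Set Q) ≤ P' := Ideal.span_le.2 fun q hq => by
      obtain ⟨j, hj⟩ := s.equivFin.symm.surjective ⟨q, hq⟩
      have hjd : j.1 < d - 1 := lt_of_lt_of_le j.2 hsd
      have hgq : g ⟨j.1, hjd⟩ = lift q := by
        simp only [g, dif_pos j.2]
        rw [hj]
      rw [← hlift q, ← hgq]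
      exact Ideal.mem_map_of_mem _ (hP (Ideal.subset_span (Set.mem_insert_of_mem _ ⟨_, rfl⟩)))
    have hP' : IsLocalRing.maximalIdeal Q ≤ P' :=
      hs.2 ⟨inferInstance, hsP⟩ (IsLocalRing.le_maximalIdeal (Ideal.IsPrime.ne_top inferInstance))
    intro x hx
    have hxm : Ideal.Quotient.mk (Ideal.span {f}) x ∈ IsLocalRing.maximalIdeal Q := by
      rw [← IsLocalRing.map_maximalIdeal_of_surjective (Ideal.Quotient.mk (Ideal.span {f})) Ideal.Quotient.mk_surjective]
      exact Ideal.mem_map_of_mem _ hx
    have hxP := Ideal.mem_comap.2 (hP' hxm)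
    rw [Ideal.comap_map_of_surjective _ Ideal.Quotient.mk_surjective, ← RingHom.ker_eq_comap_bot, Ideal.mk_ker,
      sup_eq_left.2 ((Ideal.span_singleton_le_iff_mem _).2 hfP)] at hxP
    exact hxP
  obtain ⟨N, hN⟩ := Ideal.exists_pow_le_of_le_radical_of_fg hJ (IsNoetherian.noetherian m)
  refine ⟨g, N + 1, hgm, hJ, fun h hh => ?_⟩
  have hmJ : h ∈ m * J := by
    rw [pow_succ'] at hh
    exact Ideal.mul_mono_right hN hh
  have hle : Ideal.span (insert (f + h) (Set.range g)) ≤ J := by
    refine Ideal.span_le.2 ?_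
    rintro x (rfl | hx)
    · exact add_mem (Ideal.subset_span (Set.mem_insert _ _)) (Ideal.mul_le_right hmJ)
    · exact Ideal.subset_span (Set.mem_insert_of_mem _ hx)
  have hge : J ≤ Ideal.span (insert (f + h) (Set.range g)) := by
    refine Submodule.le_of_le_smul_of_le_jacobson_bot (IsNoetherian.noetherian J)
      (IsLocalRing.maximalIdeal_le_jacobson _) (Ideal.span_le.2 ?_)
    rintro x (rfl | hx)
    · have key : x + h - h ∈ Ideal.span (insert (x + h) (Set.range g)) ⊔ IsLocalRing.maximalIdeal R • J :=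
        sub_mem (Submodule.mem_sup_left (Ideal.subset_span (Set.mem_insert _ _))) (Submodule.mem_sup_right hmJ)
      rwa [add_sub_cancel_right] at key
    · exact Submodule.mem_sup_left (Ideal.subset_span (Set.mem_insert_of_mem _ hx))
  rw [le_antisymm hle hge]
  exact ⟨hJ, rfl⟩

end Groth.Agent.S7116
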