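import Groth.Statements.S7119
import Groth.Agent.Lib.Bertini16.Basic

set_option autoImplicit false
universe u
open CAlg

namespace Groth.Agent.S7119

/-- Let R be a Noetherian normal local domain of Krull dimension 2 and let p_1, ..., p_r be finitely
many prime ideals of height one. Then there is a nonzero element f lying in all the p_i such that
R/fR is reduced. -/
theorem result (R : Type u) [CommRing R] [IsDomain R]
    [IsNoetherianRing R] [IsLocalRing R] [IsIntegrallyClosed R] (hdim : ringKrullDim R = 2)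
    (s : Finset (Ideal R)) (hs : ∀ p ∈ s, p.IsPrime ∧ p.height = 1) :
    ∃ f : R, f ≠ 0 ∧ (∀ p ∈ s, f ∈ p) ∧ IsReduced (R ⧸ Ideal.span {f}) := by
  classical
  obtain ⟨a, ha, ha0⟩ : ∃ a : R, (∀ p ∈ s, a ∈ p) ∧ a ≠ 0 := by
    have h : ∀ p ∈ s, ∃ a ∈ p, a ≠ (0 : R) := fun p hp => by
      haveI := (hs p hp).1
      exact Submodule.exists_mem_ne_zero_of_ne_bot (p.ne_bot_of_height_eq_one (hs p hp).2)
    choose a ha ha0 using h
    exact ⟨∏ p ∈ s.attach, a p.1 p.2, fun p hp => Ideal.mem_of_dvd _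
      (Finset.dvd_prod_of_mem _ (Finset.mem_attach s ⟨p, hp⟩)) (ha p hp),
      Finset.prod_ne_zero_iff.2 fun p _ => ha0 p.1 p.2⟩
  let J : Ideal R := ⨅ p ∈ s, p
  have hJ : J.IsRadical := by
    intro z hz
    obtain ⟨n, hn⟩ := hz
    simp only [J, Submodule.mem_iInf] at hn ⊢
    exact fun p hp => (hs p hp).1.mem_of_pow_mem n (hn p hp)
  have hJ0 : J ≠ ⊥ := fun h => ha0 (by
    have : a ∈ J := by simp only [J, Submodule.mem_iInf]; exact ha
    rwa [h] at this)
  obtain ⟨f, hfJ, hf0, hred⟩ := GrothLib.Bertini16.exists_mem_isReduced_quotient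
    (GrothLib.Bertini16.heightOneAdd_of_dim_two hdim) J hJ hJ0
  simp only [J, Submodule.mem_iInf] at hfJ
  exact ⟨f, hf0, hfJ, hred⟩

end Groth.Agent.S7119
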