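import Groth.Statements.S7120
import Mathlib.RingTheory.Bezout
import Mathlib.LinearAlgebra.FreeModule.Basic
import Mathlib.LinearAlgebra.Prod
import Mathlib.LinearAlgebra.Basis.Prod
import Mathlib.Algebra.Module.Projective
import Mathlib.RingTheory.Finiteness.Basic
import Mathlib.RingTheory.Finiteness.Prod

set_option autoImplicit false
universe u
open CAlg

namespace Groth.Agent.S7120

/-- Finitely generated submodules of `R^n` over a Bézout domain are free. -/
theorem free_of_fg {R : Type u} [CommRing R] [IsDomain R] [IsBezout R] :
    ∀ (n : ℕ) (N : Submodule R (Fin n → R)), N.FG → Module.Free R N := by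
  intro n
  induction n with
  | zero => intro N _; exact Module.Free.of_subsingleton R N
  | succ n ih =>
    intro N hN
    haveI : Module.Finite R N := Module.Finite.iff_fg.2 hN
    let p : (Fin (n + 1) → R) →ₗ[R] R := LinearMap.proj 0
    let I : Ideal R := N.map p
    obtain ⟨c, hc⟩ := (IsBezout.isPrincipal_of_FG I (hN.map p)).principal
    haveI : Module.Free R I := by
      by_cases h0 : c = 0
      · haveI : Subsingleton I := by
          rw [Submodule.subsingleton_iff_eq_bot, hc, h0, Submodule.span_zero_singleton]
        exact Module.Free.of_subsingleton R I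
      · exact Module.Free.of_equiv
          ((LinearEquiv.toSpanNonzeroSingleton R R c h0).trans (LinearEquiv.ofEq _ _ hc.symm))
    let g : N →ₗ[R] I := p.restrict (fun x hx => ⟨x, hx, rfl⟩)
    have hg : Function.Surjective g := by
      rintro ⟨_, x, hx, rfl⟩
      exact ⟨⟨x, hx⟩, rfl⟩
    obtain ⟨s, hs⟩ := Module.projective_lifting_property g LinearMap.id hg
    have hs' : ∀ y, g (s y) = y := LinearMap.congr_fun hs
    let e : N →ₗ[R] LinearMap.ker g := LinearMap.codRestrict _ (LinearMap.id - s ∘ₗ g)
      (fun x => by simp [hs'])
    have he : Function.Surjective e := fun ⟨x, hx⟩ =>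
      ⟨x, Subtype.ext (by simp [e, LinearMap.mem_ker.1 hx])⟩
    haveI : Module.Free R (LinearMap.ker g) := by
      let q : (Fin (n + 1) → R) →ₗ[R] (Fin n → R) := LinearMap.funLeft R R Fin.succ
      let j : LinearMap.ker g →ₗ[R] (Fin n → R) := q ∘ₗ N.subtype ∘ₗ (LinearMap.ker g).subtype
      have hj : Function.Injective j := by
        rw [injective_iff_map_eq_zero]
        rintro ⟨⟨x, hx⟩, hgx⟩ h
        apply Subtype.ext
        apply Subtype.ext
        funext i
        refine Fin.cases ?_ (fun i => ?_) i
        · exact congrArg Subtype.val hgx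
        · exact congrFun h i
      haveI : Module.Finite R (LinearMap.ker g) := Module.Finite.of_surjective e he
      haveI := ih (LinearMap.range j) (Module.Finite.iff_fg.1 (Module.Finite.range j))
      exact Module.Free.of_equiv (LinearEquiv.ofInjective j hj).symm
    let E : N ≃ₗ[R] LinearMap.ker g × I := LinearEquiv.ofBijective (e.prod g) (by
      constructor
      · rw [injective_iff_map_eq_zero]
        intro x hx
        have h1 : x - s (g x) = 0 := congrArg Subtype.val (congrArg Prod.fst hx)
        rwa [show g x = 0 from congrArg Prod.snd hx, map_zero, sub_zero] at h1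
      · rintro ⟨⟨x, hx⟩, y⟩
        refine ⟨x + s y, Prod.ext (Subtype.ext ?_) ?_⟩
        · simp [e, LinearMap.mem_ker.1 hx, hs']
        · simp [LinearMap.mem_ker.1 hx, hs'])
    exact Module.Free.of_equiv E.symm


/-- Over a Bézout domain, a finitely generated submodule of a free module is itself free of finite rank. -/
theorem result (R : Type u) [CommRing R] [IsDomain R] [IsBezout R]
    (F : Type u) [AddCommGroup F] [Module R F] [Module.Free R F] (N : Submodule R F) (hN : N.FG) :
    Module.Free R N ∧ Module.Finite R N := by
  classical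
  refine ⟨?_, Module.Finite.iff_fg.2 hN⟩
  obtain ⟨T, hT⟩ := hN
  let b := Module.Free.chooseBasis R F
  let U := T.biUnion fun x => (b.repr x).support
  let q : F →ₗ[R] (Fin U.card → R) :=
    LinearMap.pi fun i => (Finsupp.lapply ((U.equivFin.symm i : U) : Module.Free.ChooseBasisIndex R F)) ∘ₗ
      b.repr.toLinearMap
  have hsupp : ∀ x ∈ N, (b.repr x).support ⊆ U := by
    intro x hx
    rw [← hT] at hx
    induction hx using Submodule.span_induction with
    | mem y hy => exact fun i hi => Finset.mem_biUnion.2 ⟨y, hy, hi⟩
    | zero => simp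
    | add y z _ _ h1 h2 =>
      rw [map_add]
      exact Finsupp.support_add.trans (Finset.union_subset h1 h2)
    | smul c y _ h1 =>
      rw [map_smul]
      exact Finsupp.support_smul.trans h1
  have hinj : Function.Injective (q ∘ₗ N.subtype) := by
    rw [injective_iff_map_eq_zero]
    rintro ⟨x, hx⟩ h
    apply Subtype.ext
    apply b.repr.injective
    rw [ZeroMemClass.coe_zero, map_zero]
    ext i
    by_contra hi
    have hiU : i ∈ U := hsupp x hx (Finsupp.mem_support_iff.2 hi)
    apply hi
    have h1 := congrFun h (U.equivFin ⟨i, hiU⟩)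
    simpa [q] using h1
  haveI : Module.Finite R N := Module.Finite.iff_fg.2 ⟨T, hT⟩
  haveI := free_of_fg (R := R) _ (LinearMap.range (q ∘ₗ N.subtype))
    (Module.Finite.iff_fg.1 (Module.Finite.range _))
  exact Module.Free.of_equiv (LinearEquiv.ofInjective _ hinj).symm

end Groth.Agent.S7120
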