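import Groth.Statements.S7121
import Groth.Agent.S2016
import Groth.Agent.S7120
import Mathlib

set_option autoImplicit false
universe u
open CAlg

namespace Groth.Agent.S7121

theorem dvd_total_localization {R : Type u} [CommRing R] [IsDomain R] [IsBezout R] (m : Ideal R)
    [m.IsMaximal] (a b : Localization.AtPrime m) : a ∣ b ∨ b ∣ a := by
  obtain ⟨⟨x, s⟩, rfl⟩ := IsLocalization.mk'_surjective m.primeCompl a |>.imp (fun _ h => h)
  obtain ⟨⟨y, t⟩, rfl⟩ := IsLocalization.mk'_surjective m.primeCompl b |>.imp (fun _ h => h)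
  have key : algebraMap R (Localization.AtPrime m) x ∣ algebraMap R _ y ∨
      algebraMap R (Localization.AtPrime m) y ∣ algebraMap R _ x := by
    obtain ⟨g, hg⟩ := (IsBezout.span_pair_isPrincipal x y).principal
    have hg' : Ideal.span {x, y} = Ideal.span {g} := hg
    obtain ⟨x', hx⟩ := Ideal.mem_span_singleton'.1 (hg' ▸ Ideal.subset_span (by simp) : x ∈ Ideal.span {g})
    obtain ⟨y', hy⟩ := Ideal.mem_span_singleton'.1 (hg' ▸ Ideal.subset_span (by simp) : y ∈ Ideal.span {g})
    obtain ⟨p, q, hpq⟩ := Ideal.mem_span_pair.1 (hg'.symm ▸ Ideal.mem_span_singleton_self g : g ∈ Ideal.span {x, y})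
    rcases eq_or_ne g 0 with rfl | hg0
    · left; rw [← hy, mul_zero, map_zero]; exact dvd_zero _
    · have h1 : p * x' + q * y' = 1 :=
        mul_right_cancel₀ hg0 (by linear_combination hpq + p * hx + q * hy)
      have h2 : x' ∉ m ∨ y' ∉ m := by
        by_contra hc
        push Not at hc
        exact (inferInstance : m.IsMaximal).ne_top ((Ideal.eq_top_iff_one m).2
          (h1 ▸ add_mem (Ideal.mul_mem_left _ _ hc.1) (Ideal.mul_mem_left _ _ hc.2)))
      rcases h2 with h2 | h2
      · left
        rw [← hx, ← hy, map_mul, map_mul]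
        exact mul_dvd_mul ((IsLocalization.map_units (Localization.AtPrime m) (⟨x', h2⟩ : m.primeCompl)).dvd) dvd_rfl
      · right
        rw [← hx, ← hy, map_mul, map_mul]
        exact mul_dvd_mul ((IsLocalization.map_units (Localization.AtPrime m) (⟨y', h2⟩ : m.primeCompl)).dvd) dvd_rfl
  have hu : ∀ (z : R) (w : m.primeCompl), Associated (IsLocalization.mk' (Localization.AtPrime m) z w)
      (algebraMap R (Localization.AtPrime m) z) := fun z w =>
    ⟨(IsLocalization.map_units (Localization.AtPrime m) w).unit, IsLocalization.mk'_spec _ z w⟩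
  rcases key with h | h
  · exact Or.inl (((hu x s).dvd_iff_dvd_left).2 (((hu y t).dvd_iff_dvd_right).2 h))
  · exact Or.inr (((hu y t).dvd_iff_dvd_left).2 (((hu x s).dvd_iff_dvd_right).2 h))

/-- Over a Bézout domain R, a finitely presented module M splits as R^r ⊕ M_tors for some r, and its
torsion part M_tors is a retract (direct summand) of R/f_1R ⊕ … ⊕ R/f_nR for some nonzero f_1, …,
f_n. -/
theorem result (R : Type u) [CommRing R] [IsDomain R] [IsBezout R]
    (M : Type u) [AddCommGroup M] [Module R M] [Module.FinitePresentation R M] :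
    (∃ r : ℕ, Nonempty (M ≃ₗ[R] ((Fin r → R) × Submodule.torsion R M))) ∧
      ∃ (n : ℕ) (f : Fin n → R), (∀ j, f j ≠ 0) ∧
        ∃ (i : Submodule.torsion R M →ₗ[R] ((j : Fin n) → R ⧸ Ideal.span {f j}))
          (p : ((j : Fin n) → R ⧸ Ideal.span {f j}) →ₗ[R] Submodule.torsion R M),
          p ∘ₗ i = LinearMap.id := by
  classical
  obtain ⟨n, f, i, p, hpi⟩ :=
    Groth.Agent.S2016.summand R (fun m _ => dvd_total_localization m) M
  have hp : ∀ a, p (i a) = a := fun a => LinearMap.congr_fun hpi a
  set T := Submodule.torsion R M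
  let q : ((j : Fin n) → R ⧸ Ideal.span {f j}) →ₗ[R] ({j : Fin n // f j = 0} → R) :=
    LinearMap.pi fun j => (Submodule.quotEquivOfEqBot (Ideal.span {f j.1})
      (by rw [j.2, Ideal.span_singleton_eq_bot])).toLinearMap.comp (LinearMap.proj j.1)
  let P : R := ∏ j ∈ Finset.univ.filter (fun j => f j ≠ 0), f j
  have hP : P ≠ 0 := Finset.prod_ne_zero_iff.2 fun j hj => (Finset.mem_filter.1 hj).2
  have hPkill : ∀ (j : Fin n), f j ≠ 0 → ∀ z : R ⧸ Ideal.span {f j}, P • z = 0 := by
    intro j hj z
    obtain ⟨z, rfl⟩ := Submodule.Quotient.mk_surjective _ z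
    rw [← Submodule.Quotient.mk_smul, Submodule.Quotient.mk_eq_zero, Ideal.mem_span_singleton]
    exact Dvd.dvd.mul_right (Finset.dvd_prod_of_mem f (Finset.mem_filter.2 ⟨Finset.mem_univ j, hj⟩)) z
  have hzero : ∀ x ∈ T, ∀ j, f j = 0 → i x j = 0 := by
    intro x hx j hj
    obtain ⟨a, ha⟩ := (Submodule.mem_torsion_iff x).1 hx
    let E := Submodule.quotEquivOfEqBot (Ideal.span {f j}) (by rw [hj, Ideal.span_singleton_eq_bot])
    have h1 : (a : R) • E (i x j) = 0 := by
      rw [← map_smul, ← Pi.smul_apply, ← map_smul,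
        show (a : R) • x = 0 from ha, map_zero, Pi.zero_apply, map_zero]
    exact E.map_eq_zero_iff.1 ((smul_eq_zero.1 h1).resolve_left (nonZeroDivisors.coe_ne_zero a))
  have hker : LinearMap.ker (q.comp i) = T := by
    ext x
    constructor
    · intro hx
      refine (Submodule.mem_torsion_iff x).2 ⟨⟨P, mem_nonZeroDivisors_of_ne_zero hP⟩, ?_⟩
      show P • x = 0
      rw [← hp (P • x)]
      suffices h : i (P • x) = 0 by rw [h, map_zero]
      funext j
      rw [map_smul, Pi.smul_apply, Pi.zero_apply]
      by_cases hj : f j = 0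
      · have h := congrFun (LinearMap.mem_ker.1 hx) ⟨j, hj⟩
        simp only [q, LinearMap.comp_apply, LinearMap.pi_apply, LinearEquiv.coe_coe,
          LinearMap.proj_apply, Pi.zero_apply, LinearEquiv.map_eq_zero_iff] at h
        rw [h, smul_zero]
      · exact hPkill j hj _
    · intro hx
      rw [LinearMap.mem_ker]
      funext j
      show Submodule.quotEquivOfEqBot (Ideal.span {f j.1})
        (by rw [j.2, Ideal.span_singleton_eq_bot]) (i x j.1) = 0
      rw [hzero x hx j.1 j.2, map_zero]
  constructor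
  · let Q := LinearMap.range (q.comp i)
    haveI : Module.Finite R Q := Module.Finite.range _
    haveI : Module.Free R Q := (Groth.Agent.S7120.result R _ Q (Module.Finite.iff_fg.1 inferInstance)).1
    let b := Module.finBasis R Q
    let π : M →ₗ[R] (Fin (Module.finrank R Q) → R) :=
      b.equivFun.toLinearMap.comp (q.comp i).rangeRestrict
    have hπ : Function.Surjective π :=
      b.equivFun.surjective.comp (LinearMap.surjective_rangeRestrict _)
    obtain ⟨s, hs⟩ := Module.projective_lifting_property π LinearMap.id hπ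
    have hkπ : ∀ x, π x = 0 ↔ x ∈ T := fun x => by
      rw [← hker, LinearMap.mem_ker]
      show b.equivFun ((q.comp i).rangeRestrict x) = 0 ↔ _
      rw [LinearEquiv.map_eq_zero_iff, ← Subtype.coe_inj]
      rfl
    refine ⟨_, ⟨(LinearEquiv.ofBijective (LinearMap.coprod s T.subtype) ⟨?_, ?_⟩).symm⟩⟩
    · rw [injective_iff_map_eq_zero]
      rintro ⟨a, k, hk⟩ he
      have h0 := congrArg π he
      simp only [LinearMap.coprod_apply, Submodule.coe_subtype, map_add, (hkπ k).2 hk, add_zero,
        map_zero, ← LinearMap.comp_apply, hs, LinearMap.id_coe, id_eq] at h0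
      simp only [LinearMap.coprod_apply, Submodule.coe_subtype, h0, map_zero, zero_add] at he
      simp [h0, he]
    · intro x
      refine ⟨⟨π x, ⟨x - s (π x), (hkπ _).1 ?_⟩⟩, by simp⟩
      rw [map_sub, ← LinearMap.comp_apply, hs, LinearMap.id_apply, sub_self]
  · let J := Finset.univ.filter (fun j => f j ≠ 0)
    let emb : Fin J.card → Fin n := fun l => (J.equivFin.symm l).1
    have hemb : ∀ l, f (emb l) ≠ 0 := fun l => (Finset.mem_filter.1 (J.equivFin.symm l).2).2
    refine ⟨J.card, fun l => f (emb l), hemb, ?_⟩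
    let i' : T →ₗ[R] ((l : Fin J.card) → R ⧸ Ideal.span {f (emb l)}) :=
      LinearMap.pi fun l => (LinearMap.proj (emb l)).comp (i.comp T.subtype)
    let ext' : ((l : Fin J.card) → R ⧸ Ideal.span {f (emb l)}) →ₗ[R] ((j : Fin n) → R ⧸ Ideal.span {f j}) :=
      ∑ l, (LinearMap.single R (fun j => R ⧸ Ideal.span {f j}) (emb l)).comp (LinearMap.proj l)
    have hmem : ∀ z, p (ext' z) ∈ T := by
      intro z
      refine (Submodule.mem_torsion_iff _).2 ⟨⟨P, mem_nonZeroDivisors_of_ne_zero hP⟩, ?_⟩
      show P • p (ext' z) = 0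
      rw [← map_smul, ← map_smul]
      have : P • z = 0 := funext fun l => hPkill _ (hemb l) _
      rw [this, map_zero, map_zero]
    refine ⟨i', (p.comp ext').codRestrict T hmem, LinearMap.ext fun x => Subtype.ext ?_⟩
    show p (ext' (i' x)) = x
    have : ext' (i' x) = i x := by
      simp only [ext', i', LinearMap.sum_apply, LinearMap.comp_apply, LinearMap.proj_apply,
        LinearMap.pi_apply, LinearMap.coe_single, Submodule.coe_subtype]
      rw [Fintype.sum_equiv J.equivFin.symm
        (fun l => (Pi.single (emb l) (i (x : M) (emb l)) : (j : Fin n) → R ⧸ Ideal.span {f j}))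
        (fun j : {j // j ∈ J} => (Pi.single j.1 (i (x : M) j.1) : (j : Fin n) → R ⧸ Ideal.span {f j}))
        (fun l => rfl),
        Finset.sum_coe_sort J
          (fun j => (Pi.single j (i (x : M) j) : (j : Fin n) → R ⧸ Ideal.span {f j})),
        Finset.sum_subset (Finset.subset_univ J), Finset.univ_sum_single]
      intro j _ hj
      have hj0 : f j = 0 := not_not.1 fun h => hj (Finset.mem_filter.2 ⟨Finset.mem_univ j, h⟩)
      rw [hzero x x.2 j hj0, Pi.single_zero]
    rw [this, hp]

end Groth.Agent.S7121
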