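import Groth.Statements.S7122
import Groth.Agent.S7120
import Mathlib.LinearAlgebra.Dimension.Constructions
import Mathlib.LinearAlgebra.FreeModule.StrongRankCondition
import Mathlib.LinearAlgebra.Determinant

set_option autoImplicit false
universe u
open CAlg

namespace Groth.Agent.S7122

/-- Let R be a Bézout domain, n ≥ 1, and f_1, ..., f_n elements generating the unit ideal. Then some
invertible n × n matrix over R has (f_1, ..., f_n) as its first row. -/
theorem result (R : Type u) [CommRing R] [IsDomain R] [IsBezout R]
    (n : ℕ) (f : Fin (n + 1) → R) (hf : Ideal.span (Set.range f) = ⊤) :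
    ∃ A : Matrix (Fin (n + 1)) (Fin (n + 1)) R, IsUnit A.det ∧ A 0 = f := by
  classical
  let φ : (Fin (n + 1) → R) →ₗ[R] R := ∑ i, f i • LinearMap.proj i
  have hφ : ∀ v, φ v = ∑ i, f i * v i := fun v => by simp [φ]
  obtain ⟨v, hv⟩ := (Ideal.mem_span_range_iff_exists_fun).1 (hf ▸ Submodule.mem_top : (1 : R) ∈ _)
  have hv1 : φ v = 1 := by rw [hφ, ← hv]; exact Finset.sum_congr rfl fun i _ => mul_comm _ _
  let e : (Fin (n + 1) → R) →ₗ[R] LinearMap.ker φ :=
    LinearMap.codRestrict _ (LinearMap.id - φ.smulRight v) (fun x => by simp [hv1])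
  have he : Function.Surjective e := fun ⟨x, hx⟩ =>
    ⟨x, Subtype.ext (by simp [e, LinearMap.mem_ker.1 hx])⟩
  haveI : Module.Finite R (LinearMap.ker φ) := Module.Finite.of_surjective e he
  haveI : Module.Free R (LinearMap.ker φ) :=
    (Groth.Agent.S7120.result R (Fin (n + 1) → R) (LinearMap.ker φ) (Module.Finite.iff_fg.1 inferInstance)).1
  let E : (Fin (n + 1) → R) ≃ₗ[R] R × LinearMap.ker φ := LinearEquiv.ofBijective (φ.prod e) (by
    constructor
    · rw [injective_iff_map_eq_zero]
      intro x hx
      have h1 : x - φ x • v = 0 := congrArg Subtype.val (congrArg Prod.snd hx)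
      rwa [show φ x = 0 from congrArg Prod.fst hx, zero_smul, sub_zero] at h1
    · rintro ⟨c, ⟨x, hx⟩⟩
      refine ⟨c • v + x, Prod.ext ?_ (Subtype.ext ?_)⟩
      · simp [LinearMap.mem_ker.1 hx, hv1]
      · simp [e, LinearMap.mem_ker.1 hx, hv1])
  have hrank : Module.finrank R (LinearMap.ker φ) = n := by
    have := E.finrank_eq
    rw [Module.finrank_pi, Module.finrank_prod, Module.finrank_self, Fintype.card_fin] at this
    omega
  let b := Module.finBasisOfFinrankEq R (LinearMap.ker φ) hrank
  -- first coordinate `φ`, the others the coordinates of the kernel component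
  let P : (Fin (n + 1) → R) →ₗ[R] (Fin (n + 1) → R) :=
    LinearMap.pi (Fin.cases φ fun i => (Finsupp.lapply i) ∘ₗ b.repr.toLinearMap ∘ₗ e)
  have hP : Function.Bijective P := by
    constructor
    · rw [injective_iff_map_eq_zero]
      intro x hx
      apply E.injective
      rw [map_zero]
      refine Prod.ext ?_ ?_
      · exact congrFun hx 0
      · apply b.repr.injective
        change b.repr (e x) = b.repr 0
        rw [map_zero]
        ext i
        exact congrFun hx i.succ
    · intro y
      refine ⟨E.symm (y 0, b.repr.symm (Finsupp.equivFunOnFinite.symm fun i => y i.succ)), ?_⟩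
      have h1 := E.apply_symm_apply (y 0, b.repr.symm (Finsupp.equivFunOnFinite.symm fun i => y i.succ))
      set x := E.symm (y 0, b.repr.symm (Finsupp.equivFunOnFinite.symm fun i => y i.succ))
      have h2 : φ x = y 0 := congrArg Prod.fst h1
      have h3 : e x = b.repr.symm (Finsupp.equivFunOnFinite.symm fun i => y i.succ) := congrArg Prod.snd h1
      funext i
      refine Fin.cases ?_ (fun i => ?_) i
      · exact h2
      · change b.repr (e x) i = y i.succ
        rw [h3, LinearEquiv.apply_symm_apply]
        rfl
  refine ⟨LinearMap.toMatrix' P, ?_, ?_⟩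
  · rw [LinearMap.det_toMatrix']
    exact LinearEquiv.isUnit_det' (LinearEquiv.ofBijective P hP)
  · funext j
    rw [LinearMap.toMatrix'_apply]
    change φ _ = f j
    rw [hφ, Finset.sum_eq_single j]
    · simp
    · intro i _ hi; simp [hi]
    · simp

end Groth.Agent.S7122
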