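import Groth.Statements.S7123
import Mathlib
-- import your own Groth.Agent.* helpers here

set_option autoImplicit false
universe u
open CAlg

namespace Groth.Agent.S7123

open DirectSum in
/-- For a module P over a ring R these two conditions are equivalent: (1) P is a retract (direct
summand) of a direct sum of cyclic modules R/fR, f ranging over R; (2) for every surjection of
R-modules π : B → C whose kernel A satisfies fA = A ∩ fB for every f in R, each linear map P → C
lifts through π. -/
theorem result (R : Type u) [CommRing R] (P : Type u)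
    [AddCommGroup P] [Module R P] :
    (∃ (ι : Type u) (f : ι → R) (i : P →ₗ[R] (⨁ j, R ⧸ Ideal.span {f j}))
        (p : (⨁ j, R ⧸ Ideal.span {f j}) →ₗ[R] P), p ∘ₗ i = LinearMap.id) ↔
      ∀ (B C : Type u) [AddCommGroup B] [Module R B] [AddCommGroup C] [Module R C] (π : B →ₗ[R] C),
        Function.Surjective π →
        (∀ (f : R) (b : B), π (f • b) = 0 → ∃ a : B, π a = 0 ∧ f • a = f • b) →
        ∀ ψ : P →ₗ[R] C, ∃ φ : P →ₗ[R] B, π ∘ₗ φ = ψ := by
  classical
  constructor
  · rintro ⟨ι, f, i, p, hpi⟩ B C _ _ _ _ π hπ hkey ψ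
    have h1 : ∀ j, ∃ b : B, π b = ψ (p (DirectSum.lof R ι (fun j => R ⧸ Ideal.span {f j}) j (Submodule.Quotient.mk 1))) ∧
        f j • b = 0 := by
      intro j
      set c := DirectSum.lof R ι (fun j => R ⧸ Ideal.span {f j}) j (Submodule.Quotient.mk 1)
      obtain ⟨b, hb⟩ := hπ (ψ (p c))
      have hc : f j • c = 0 := by
        rw [← map_smul, ← Submodule.Quotient.mk_smul, (Submodule.Quotient.mk_eq_zero _).mpr
          (by rw [smul_eq_mul, mul_one]; exact Ideal.mem_span_singleton_self _), map_zero]
      obtain ⟨a, ha, hab⟩ := hkey (f j) b (by rw [map_smul, hb, ← map_smul, ← map_smul, hc, map_zero, map_zero])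
      exact ⟨b - a, by rw [map_sub, hb, ha, sub_zero], by rw [smul_sub, hab, sub_self]⟩
    choose b hb hfb using h1
    let φ0 : (⨁ j, R ⧸ Ideal.span {f j}) →ₗ[R] B :=
      DirectSum.toModule R ι B fun j => Submodule.liftQSpanSingleton (f j) (LinearMap.toSpanSingleton R B (b j))
        (by rw [LinearMap.toSpanSingleton_apply]; exact hfb j)
    refine ⟨φ0 ∘ₗ i, ?_⟩
    have h2 : π ∘ₗ φ0 = ψ ∘ₗ p := by
      apply DirectSum.linearMap_ext
      intro j
      apply Submodule.linearMap_qext
      apply LinearMap.ext_ring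
      show π (φ0 (DirectSum.lof R ι _ j (Submodule.Quotient.mk 1))) = ψ (p _)
      simp only [φ0, DirectSum.toModule_lof]
      show π (LinearMap.toSpanSingleton R B (b j) 1) = _
      rw [LinearMap.toSpanSingleton_apply, one_smul, hb]
      rfl
    rw [← LinearMap.comp_assoc, h2, LinearMap.comp_assoc, hpi, LinearMap.comp_id]
  · intro H
    let ι := {x : R × P // x.1 • x.2 = 0}
    let f : ι → R := fun x => x.1.1
    let π : (⨁ j : ι, R ⧸ Ideal.span {f j}) →ₗ[R] P :=
      DirectSum.toModule R ι P fun j => Submodule.liftQSpanSingleton (f j) (LinearMap.toSpanSingleton R P j.1.2)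
        (by rw [LinearMap.toSpanSingleton_apply]; exact j.2)
    have hπe : ∀ j : ι, π (DirectSum.lof R ι _ j (Submodule.Quotient.mk 1)) = j.1.2 := by
      intro j
      simp only [π, DirectSum.toModule_lof]
      show LinearMap.toSpanSingleton R P j.1.2 1 = _
      rw [LinearMap.toSpanSingleton_apply, one_smul]
    have hπ : Function.Surjective π := fun c => ⟨_, hπe ⟨(0, c), zero_smul _ _⟩⟩
    obtain ⟨i, hi⟩ := H _ P π hπ (fun r b hb => by
      rw [map_smul] at hb
      let j : ι := ⟨(r, π b), hb⟩
      refine ⟨b - DirectSum.lof R ι _ j (Submodule.Quotient.mk 1), by rw [map_sub, hπe, sub_self], ?_⟩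
      rw [smul_sub, ← map_smul (DirectSum.lof R ι (fun j => R ⧸ Ideal.span {f j}) j), ← Submodule.Quotient.mk_smul,
        (Submodule.Quotient.mk_eq_zero _).mpr
          (show r • (1 : R) ∈ Ideal.span {f j} by rw [smul_eq_mul, mul_one]; exact Ideal.mem_span_singleton_self _),
        map_zero, sub_zero]) LinearMap.id
    exact ⟨ι, f, i, π, hi⟩

end Groth.Agent.S7123
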