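import Groth.Statements.S7124
import Groth.Agent.Lib.FieldExtra.ValIneq
-- import your own Groth.Agent.* helpers here

set_option autoImplicit false
universe u
open CAlg

namespace Groth.Agent.S7124

/-- Let A ⊆ B be an extension of valuation rings (both valuation domains, the inclusion injective and
local) with fraction fields K ⊆ L such that L/K is finite. Then the residue field of B is finite
over that of A, the value group of A has finite index in the value group of B, and (index of value
groups) · (residue degree) ≤ [L : K]. Here the value group of B is written as Lˣ modulo the units of
B, and that of A as the image of Kˣ in it. -/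
theorem result (A B K L : Type u) [CommRing A] [IsDomain A]
    [ValuationRing A] [CommRing B] [IsDomain B] [ValuationRing B] [Field K] [Field L]
    [Algebra A K] [IsFractionRing A K] [Algebra B L] [IsFractionRing B L] [Algebra A B] [Algebra K L]
    [Algebra A L] [IsScalarTower A K L] [IsScalarTower A B L] (hinj : Function.Injective (algebraMap A B))
    [IsLocalHom (algebraMap A B)] [FiniteDimensional K L] :
    let UB : Subgroup Lˣ := (Units.map (algebraMap B L).toMonoidHom).range
    let ΓA : Subgroup (Lˣ ⧸ UB) := ((QuotientGroup.mk' UB).comp (Units.map (algebraMap K L).toMonoidHom)).range
    Module.Finite (IsLocalRing.ResidueField A) (IsLocalRing.ResidueField B) ∧ ΓA.index ≠ 0 ∧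
      ΓA.index * Module.finrank (IsLocalRing.ResidueField A) (IsLocalRing.ResidueField B) ≤
        Module.finrank K L := by
  exact GrothLib.FieldExtra.finite_and_index_mul_finrank_le hinj

end Groth.Agent.S7124
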