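import Groth.Statements.S7125
import Groth.Agent.Lib.NormalSerre.AssPrincipal
import Groth.Agent.Lib.N2.MoriNagata
import Mathlib

set_option autoImplicit false
universe u
open CAlg

namespace Groth.Agent.S7125

theorem dvd_of_forall_height_one {A : Type u} [CommRing A] [IsDomain A] [IsNoetherianRing A]
    [IsIntegrallyClosed A] {x y : A} (hy : y ≠ 0)
    (h : ∀ (p : Ideal A) [p.IsPrime], p.height = 1 → ∃ s, s ∉ p ∧ y ∣ x * s) : y ∣ x := by
  have hy' : algebraMap A (FractionRing A) y ≠ 0 := (map_ne_zero_iff _ (IsFractionRing.injective A _)).2 hy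
  obtain ⟨c, hc⟩ := GrothLib.NormalSerre.mem_range_of_forall_height_one
    (algebraMap A (FractionRing A) x / algebraMap A (FractionRing A) y) fun p _ hp => by
      obtain ⟨s, hs, r, hr⟩ := h p hp
      refine ⟨r, s, hs, ?_⟩
      rw [div_mul_eq_mul_div, eq_div_iff hy', ← map_mul, ← map_mul, hr, mul_comm]
  exact ⟨c, IsFractionRing.injective A (FractionRing A) (by rw [map_mul, hc, mul_div_cancel₀ _ hy'])⟩

theorem exists_local_data {A B : Type u} [CommRing A] [IsDomain A]
    [IsNoetherianRing A] [IsIntegrallyClosed A] [CommRing B] [IsDomain B] [IsNoetherianRing B]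
    [IsIntegrallyClosed B] [Algebra A B]
    {f : A} (hf0 : f ≠ 0) {h : B} (hh0 : h ≠ 0) {n : ℕ} (hn : n ≠ 0) (w : Bˣ)
    (hf : algebraMap A B f = (w : B) * h ^ n)
    (p : Ideal A) [p.IsPrime] (hp : p.height = 1) (q : Ideal B) [q.IsPrime] (hq : q.height = 1)
    (hqp : q.comap (algebraMap A B) = p)
    (hunr : Ideal.map (algebraMap B (Localization.AtPrime q)) (Ideal.map (algebraMap A B) p) =
          IsLocalRing.maximalIdeal (Localization.AtPrime q)) :
    ∃ (π t r : A) (k : ℕ), π ≠ 0 ∧ t ∉ p ∧ r ∉ p ∧ f * t = π ^ (n * k) * r ∧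
      ∀ a, f ∣ a ^ n → ∃ t' r', t' ∉ p ∧ a * t' = π ^ k * r' := by
  let L := Localization.AtPrime p
  let M := Localization.AtPrime q
  haveI : IsDomain L := IsLocalization.isDomain_localization p.primeCompl_le_nonZeroDivisors
  haveI : IsDomain M := IsLocalization.isDomain_localization q.primeCompl_le_nonZeroDivisors
  haveI : IsDiscreteValuationRing L := GrothLib.MoriNagata.isDiscreteValuationRing_of_height_one p hp
  haveI : IsDiscreteValuationRing M := GrothLib.MoriNagata.isDiscreteValuationRing_of_height_one q hq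
  have hL : Function.Injective (algebraMap A L) :=
    IsLocalization.injective L p.primeCompl_le_nonZeroDivisors
  have hM : Function.Injective (algebraMap B M) :=
    IsLocalization.injective M q.primeCompl_le_nonZeroDivisors
  obtain ⟨ϖ, hϖ⟩ := IsDiscreteValuationRing.exists_irreducible L
  obtain ⟨⟨π, s⟩, hπ⟩ := IsLocalization.surj p.primeCompl ϖ
  set P := algebraMap A L π with hP
  have hs : IsUnit (algebraMap A L s) := IsLocalization.map_units L s
  have hassoc : Associated ϖ P := ⟨hs.unit, hπ⟩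
  have hPirr : Irreducible P := hassoc.irreducible hϖ
  have hmax : IsLocalRing.maximalIdeal L = Ideal.span {P} :=
    (IsDiscreteValuationRing.irreducible_iff_uniformizer P).1 hPirr
  let ψ : L →+* M := Localization.localRingHom p q (algebraMap A B) hqp.symm
  have hψ : ∀ x, ψ (algebraMap A L x) = algebraMap B M (algebraMap A B x) := fun x =>
    Localization.localRingHom_to_map p q (algebraMap A B) hqp.symm x
  have hψP : Irreducible (ψ P) := by
    rw [IsDiscreteValuationRing.irreducible_iff_uniformizer, ← hunr, Ideal.map_map,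
      ← Set.image_singleton, ← Ideal.map_span, ← hmax, ← IsLocalization.AtPrime.map_eq_maximalIdeal p L,
      Ideal.map_map]
    congr 1
    exact RingHom.ext fun x => (hψ x).symm
  obtain ⟨N, hN⟩ := IsDiscreteValuationRing.associated_pow_irreducible
    ((map_ne_zero_iff _ hL).2 hf0) hPirr
  obtain ⟨m, hm⟩ := IsDiscreteValuationRing.associated_pow_irreducible
    ((map_ne_zero_iff _ hM).2 hh0) hψP
  have hNm : N = n * m := by
    have h1 : Associated (ψ P ^ N) (ψ P ^ (n * m)) := by
      have e : Associated (ψ (algebraMap A L f)) (ψ P ^ N) := by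
        rw [← map_pow]; exact hN.map ψ
      refine e.symm.trans ?_
      rw [hψ, hf, map_mul, map_pow, mul_comm n m, pow_mul]
      exact (associated_unit_mul_left _ _ ((Units.isUnit w).map _)).trans hm.pow_pow
    exact le_antisymm ((pow_dvd_pow_iff hψP.ne_zero hψP.not_isUnit).1 h1.dvd)
      ((pow_dvd_pow_iff hψP.ne_zero hψP.not_isUnit).1 h1.symm.dvd)
  subst hNm
  obtain ⟨e, he⟩ := hN.symm
  obtain ⟨⟨r, t⟩, ht⟩ := IsLocalization.surj p.primeCompl (e : L)
  have hr : r ∉ p := fun hr => by
    have h1 : IsUnit (algebraMap A L r) := ht ▸ e.isUnit.mul (IsLocalization.map_units L t)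
    exact (IsLocalization.AtPrime.isUnit_to_map_iff L p r).1 h1 hr
  refine ⟨π, t, r, m, fun h0 => hPirr.ne_zero (by rw [hP, h0, map_zero]), t.2, hr, hL ?_, fun a ha => ?_⟩
  · rw [map_mul, map_mul, map_pow, ← he]
    linear_combination P ^ (n * m) * ht
  · have h1 : (P ^ m) ^ n ∣ algebraMap A L a ^ n := by
      rw [← pow_mul, mul_comm m n, ← map_pow _ a]
      exact (Dvd.intro _ he).trans (map_dvd _ ha)
    obtain ⟨c, hc⟩ := (IsIntegrallyClosed.pow_dvd_pow_iff hn).1 h1
    obtain ⟨⟨r', t'⟩, ht'⟩ := IsLocalization.surj p.primeCompl c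
    refine ⟨t', r', t'.2, hL ?_⟩
    rw [map_mul, map_mul, map_pow, hc]
    linear_combination P ^ m * ht'

/-- Let A and B be Noetherian local normal domains and A → B a flat homomorphism that is local, and let
f in A, h in B, n > 1 and a unit w of B satisfy f = w·hⁿ in B. Assume that for every height-one
prime p of A there is a height-one prime q of B lying over p such that A_p ⊆ B_q is weakly
unramified, i.e. p generates the maximal ideal of B_q. Then f = u·gⁿ for some g in A and some unit u
of A. -/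
theorem result (A B : Type u) [CommRing A] [IsDomain A]
    [IsNoetherianRing A] [IsLocalRing A] [IsIntegrallyClosed A] [CommRing B] [IsDomain B] [IsNoetherianRing B]
    [IsLocalRing B] [IsIntegrallyClosed B] [Algebra A B] [IsLocalHom (algebraMap A B)] [Module.Flat A B]
    (f : A) (h : B) (n : ℕ) (hn : 1 < n) (w : Bˣ) (hf : algebraMap A B f = (w : B) * h ^ n)
    (hram : ∀ (p : Ideal A) [p.IsPrime], p.height = 1 →
      ∃ (q : Ideal B) (_ : q.IsPrime), q.height = 1 ∧ q.comap (algebraMap A B) = p ∧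
        Ideal.map (algebraMap B (Localization.AtPrime q)) (Ideal.map (algebraMap A B) p) =
          IsLocalRing.maximalIdeal (Localization.AtPrime q)) :
    ∃ (g : A) (u : Aˣ), f = (u : A) * g ^ n := by
  classical
  have hn0 : n ≠ 0 := by omega
  by_cases hf0 : f = 0
  · exact ⟨0, 1, by rw [hf0, zero_pow hn0, mul_zero]⟩
  haveI := Module.FaithfullyFlat.of_flat_of_isLocalHom (A := A) (B := B)
  have hdesc : ∀ x y : A, algebraMap A B x ∣ algebraMap A B y → x ∣ y := fun x y hxy => by
    rw [← Ideal.mem_span_singleton] at hxy ⊢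
    rw [← Ideal.comap_map_eq_self_of_faithfullyFlat (B := B) (Ideal.span {x}), Ideal.mem_comap,
      Ideal.map_span, Set.image_singleton]
    exact hxy
  have hfB : algebraMap A B f ≠ 0 := fun h0 => hf0 (zero_dvd_iff.1 (hdesc 0 f (by rw [map_zero, h0])))
  have hh0 : h ≠ 0 := fun h0 => hfB (by rw [hf, h0, zero_pow hn0, mul_zero])
  let I : Ideal A := (Ideal.span {h}).comap (algebraMap A B)
  have hI : ∀ a, a ∈ I ↔ f ∣ a ^ n := fun a => by
    rw [Ideal.mem_comap, Ideal.mem_span_singleton]
    constructor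
    · rintro ⟨c, hc⟩
      refine hdesc _ _ ⟨(↑w⁻¹ : B) * c ^ n, ?_⟩
      rw [map_pow, hc, hf, mul_pow]
      linear_combination (-(h ^ n * c ^ n)) * w.mul_inv
    · rintro ⟨c, hc⟩
      refine (IsIntegrallyClosed.pow_dvd_pow_iff hn0).1 ⟨(w : B) * algebraMap A B c, ?_⟩
      rw [← map_pow, hc, map_mul, hf]
      ring
  have data : ∀ (p : Ideal A) [p.IsPrime], p.height = 1 →
      ∃ (π t r : A) (k : ℕ), π ≠ 0 ∧ t ∉ p ∧ r ∉ p ∧ f * t = π ^ (n * k) * r ∧
        ∀ a, f ∣ a ^ n → ∃ t' r', t' ∉ p ∧ a * t' = π ^ k * r' := by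
    intro p _ hp
    obtain ⟨q, _, hq, hqp, hunr⟩ := hram p hp
    exact exists_local_data hf0 hh0 hn0 w hf p hp q hq hqp hunr
  let J : Ideal A := (Ideal.span {f}).colon (I : Set A)
  have hJ : ∀ b, b ∈ J ↔ ∀ a ∈ I, f ∣ b * a := fun b => by
    simp only [J, Submodule.mem_colon, SetLike.mem_coe, smul_eq_mul, Ideal.mem_span_singleton]
  -- elements of `J` times `h` are divisible by `f`
  have h3 : ∀ b ∈ J, algebraMap A B f ∣ h * algebraMap A B b := by
    intro b hb
    have hdiv : f ^ (n - 1) ∣ b ^ n := by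
      refine dvd_of_forall_height_one (pow_ne_zero _ hf0) fun p hp' hp => ?_
      obtain ⟨π, t, r, k, hπ, ht, hr, hft, -⟩ := data p hp
      have hrn : r ^ n = r * r ^ (n - 1) := by rw [← pow_succ', Nat.sub_add_cancel (by omega)]
      have hfn : f ^ n = f * f ^ (n - 1) := by rw [← pow_succ', Nat.sub_add_cancel (by omega)]
      have ha : π ^ k * r ∈ I := (hI _).2 ⟨t * r ^ (n - 1), by
        rw [mul_pow, ← pow_mul, mul_comm k n, hrn]
        linear_combination (-(r ^ (n - 1))) * hft⟩
      obtain ⟨c, hc⟩ := (hJ b).1 hb _ ha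
      refine ⟨t * r ^ (n - 1), fun hm => ?_, c ^ n, mul_left_cancel₀ hf0 ?_⟩
      · rcases hp'.mem_or_mem hm with h' | h'
        · exact ht h'
        · exact hr (hp'.mem_of_pow_mem _ h')
      · have hc' : b ^ n * ((π ^ k) ^ n * (r * r ^ (n - 1))) = f * f ^ (n - 1) * c ^ n := by
          rw [← hrn, ← hfn, ← mul_pow, ← mul_pow, ← mul_pow, hc]
        rw [← pow_mul, mul_comm k n] at hc'
        linear_combination hc' + b ^ n * r ^ (n - 1) * hft
    obtain ⟨d, hd⟩ := hdiv
    refine (IsIntegrallyClosed.pow_dvd_pow_iff hn0).1 ⟨(↑w⁻¹ : B) * algebraMap A B d, ?_⟩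
    have hfn : algebraMap A B f ^ n = algebraMap A B f * algebraMap A B f ^ (n - 1) := by
      rw [← pow_succ', Nat.sub_add_cancel (by omega)]
    rw [mul_pow, ← map_pow _ b, hd, map_mul, map_pow, hfn]
    linear_combination (-(↑w⁻¹ : B) * algebraMap A B f ^ (n - 1) * algebraMap A B d) * hf -
      h ^ n * algebraMap A B f ^ (n - 1) * algebraMap A B d * w.mul_inv
  -- reflexivity
  obtain ⟨SI, hSI⟩ := IsNoetherian.noetherian I
  have h1 : ∀ a, (∀ b ∈ J, f ∣ a * b) → a ∈ I := by
    intro a ha
    rw [hI]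
    refine dvd_of_forall_height_one hf0 fun p hp' hp => ?_
    obtain ⟨π, t, r, k, hπ, ht, hr, hft, hdata⟩ := data p hp
    choose T R hT hTR using fun x : SI => hdata x ((hI _).1 (hSI ▸ Submodule.subset_span x.2))
    have hT' : (∏ x : SI, T x) ∉ p := fun hm => by
      obtain ⟨x, -, hx⟩ := hp'.prod_mem_iff.1 hm
      exact hT x hx
    have hkn : π ^ (n * k) = π ^ ((n - 1) * k) * π ^ k := by
      rw [← pow_add, ← Nat.succ_mul, Nat.succ_eq_add_one, Nat.sub_add_cancel (by omega)]
    have hb : π ^ ((n - 1) * k) * r * ∏ x : SI, T x ∈ J := (hJ _).2 fun x hx => by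
      rw [← hSI] at hx
      induction hx using Submodule.span_induction with
      | mem x hx =>
        obtain ⟨T', hT'⟩ := Finset.dvd_prod_of_mem T (Finset.mem_univ (⟨x, hx⟩ : SI))
        refine ⟨t * R ⟨x, hx⟩ * T', ?_⟩
        rw [hT']
        have := hTR ⟨x, hx⟩
        rw [hkn] at hft
        linear_combination π ^ ((n - 1) * k) * r * T' * this - R ⟨x, hx⟩ * T' * hft
      | zero => simp
      | add x y _ _ h h' => rw [mul_add]; exact dvd_add h h'
      | smul c x _ h => rw [smul_eq_mul, mul_left_comm]; exact dvd_mul_of_dvd_right h _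
    obtain ⟨c, hc⟩ := ha _ hb
    have hcancel : a * (∏ x : SI, T x) * t = π ^ k * c := by
      refine mul_left_cancel₀ (mul_ne_zero (pow_ne_zero ((n - 1) * k) hπ) (fun e : r = 0 => hr (e.symm ▸ p.zero_mem))) ?_
      rw [hkn] at hft
      linear_combination t * hc + c * hft
    refine ⟨((∏ x : SI, T x) * t) ^ n * r, fun hm => ?_, c ^ n * t, ?_⟩
    · rcases hp'.mem_or_mem hm with h' | h'
      · exact (hp'.mem_or_mem (hp'.mem_of_pow_mem _ h')).elim hT' ht
      · exact hr h'
    · rw [← mul_assoc, ← mul_pow, ← mul_assoc, hcancel, mul_pow, ← pow_mul, mul_comm k n]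
      linear_combination (-(c ^ n)) * hft
  -- `h` lies in `I B`
  obtain ⟨SJ, hSJ⟩ := IsNoetherian.noetherian J
  choose β hβ using fun x : SJ => h3 x (hSJ ▸ Submodule.subset_span x.2)
  let X : (Option SJ → A) →ₗ[A] B := Fintype.linearCombination A (fun o => o.elim h β)
  let F : (SJ → A) →ₗ[A] (Option SJ → A) :=
    Fintype.linearCombination A (fun x => (x : A) • Pi.single none 1 - f • Pi.single (some x) 1)
  have hXF : X.comp F = 0 := by
    refine (Pi.basisFun A SJ).ext fun x => ?_
    simp only [LinearMap.comp_apply, Pi.basisFun_apply, F, Fintype.linearCombination_apply_single, one_smul,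
      map_sub, map_smul, X, Option.elim, LinearMap.zero_apply]
    rw [Algebra.smul_def, Algebra.smul_def, ← hβ x, mul_comm, sub_self]
  obtain ⟨k, α, y, hya, haF⟩ := Module.Flat.exists_factorization_of_comp_eq_zero_of_free hXF
  have hα : ∀ i, α (Pi.single none 1) i ∈ I := fun i => h1 _ fun b hb => by
    rw [← hSJ] at hb
    induction hb using Submodule.span_induction with
    | mem b hb =>
      refine ⟨α (Pi.single (some ⟨b, hb⟩) 1) i, ?_⟩
      have := DFunLike.congr_fun (LinearMap.congr_fun haF (Pi.single ⟨b, hb⟩ 1)) i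
      simp only [LinearMap.comp_apply, F, Fintype.linearCombination_apply_single, one_smul, map_sub,
        map_smul, Finsupp.coe_sub, Pi.sub_apply, Finsupp.coe_smul, Pi.smul_apply, smul_eq_mul,
        LinearMap.zero_apply, Finsupp.coe_zero, Pi.zero_apply, sub_eq_zero] at this
      rw [mul_comm, this]
    | zero => simp
    | add x y _ _ h h' => rw [mul_add]; exact dvd_add h h'
    | smul c x _ h => rw [smul_eq_mul, mul_left_comm]; exact dvd_mul_of_dvd_right h _
  have hmem : h ∈ I.map (algebraMap A B) := by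
    have e : h = y (α (Pi.single none 1)) := by
      rw [← LinearMap.comp_apply, ← hya]
      simp [X]
    rw [e, ← (α (Pi.single none 1)).sum_single, map_finsuppSum]
    refine Submodule.sum_mem _ fun i _ => ?_
    show y (Finsupp.single i (α (Pi.single none 1) i)) ∈ _
    rw [show Finsupp.single i (α (Pi.single none 1) i) = α (Pi.single none 1) i • Finsupp.single i (1 : A) by
      simp, map_smul, Algebra.smul_def]
    exact Ideal.mul_mem_right _ _ (Ideal.mem_map_of_mem _ (hα i))
  obtain ⟨g, hgI, c, hc, hcu⟩ : ∃ g ∈ I, ∃ c, algebraMap A B g = h * c ∧ IsUnit c := by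
    by_contra hcon
    push Not at hcon
    have hle : I.map (algebraMap A B) ≤ Ideal.span {h} * IsLocalRing.maximalIdeal B := by
      rw [Ideal.map_le_iff_le_comap]
      intro a ha
      obtain ⟨c, hc⟩ := Ideal.mem_span_singleton.1 (Ideal.mem_comap.1 ha)
      rw [Ideal.mem_comap, hc]
      exact Ideal.mul_mem_mul (Ideal.mem_span_singleton_self h) (hcon a ha c hc)
    obtain ⟨z, hz, he⟩ := Ideal.mem_span_singleton_mul.1 (hle hmem)
    have : z = 1 := mul_left_cancel₀ hh0 (by rw [he, mul_one])
    exact (IsLocalRing.maximalIdeal.isMaximal B).ne_top ((Ideal.eq_top_iff_one _).2 (this ▸ hz))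
  have hg1 : f ∣ g ^ n := (hI g).1 hgI
  have hg2 : g ^ n ∣ f := hdesc _ _ ⟨(w : B) * ↑(hcu.unit⁻¹ : Bˣ) ^ n, by
    rw [map_pow, hc, hf, mul_pow]
    have : c ^ n * (↑(hcu.unit⁻¹ : Bˣ) : B) ^ n = 1 := by rw [← mul_pow, IsUnit.mul_val_inv, one_pow]
    linear_combination (-(h ^ n * (w : B))) * this⟩
  obtain ⟨u, hu⟩ := (associated_of_dvd_dvd hg2 hg1)
  exact ⟨g, u, by rw [← hu, mul_comm]⟩

end Groth.Agent.S7125
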