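import Groth.Statements.S7130
import Groth.Agent.Lib.AbsFlat.Basic
import Mathlib.Tactic.TFAE
-- import your own Groth.Agent.* helpers here

set_option autoImplicit false
universe u
open EtAlg

namespace Groth.Agent.S7130

/-- (2) ⇔ (3) ⇔ (4): for a ring A the following are equivalent: every A-module is flat; A is reduced of
Krull dimension zero, in the sense that every prime ideal of A is maximal; the local ring A_p is a
field for every prime p. (The further equivalent condition 'A has weak dimension at most zero'
coincides with the first condition by definition and is not listed separately.) -/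
theorem result (A : Type u) [CommRing A] :
    List.TFAE [∀ (M : Type u) [AddCommGroup M] [Module A M], Module.Flat A M,
      IsReduced A ∧ ∀ p : Ideal A, p.IsPrime → p.IsMaximal,
      ∀ (p : Ideal A) [p.IsPrime], IsField (Localization.AtPrime p)] := by
  tfae_have 1 → 2 := fun h =>
    ⟨(AbsFlat.regular_of_forall_flat h).isReduced, fun p hp => (AbsFlat.regular_of_forall_flat h).isMaximal⟩
  tfae_have 2 → 3 := fun h p hp => by
    haveI := h.1
    exact AbsFlat.isField_atPrime_of_isReduced h.2 p
  tfae_have 3 → 1 := fun h M _ _ => (AbsFlat.regular_of_isField_atPrime h).flat M
  tfae_finish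

end Groth.Agent.S7130
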