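import Groth.Statements.S7131
import Groth.Agent.Lib.DCxRing.RestrictTor
import Groth.Agent.Lib.DCxKFlat.Balance
import Groth.Agent.Lib.AbsFlat.Basic

set_option autoImplicit false
universe u
open EtAlg

namespace Groth.Agent.S7131

open CategoryTheory CategoryTheory.Limits

attribute [local instance] HasDerivedCategory.standard

/-- A module in degree zero has no tor amplitude above degree zero. -/
theorem shrink_top {A : Type u} [CommRing A] {M : Type u} [AddCommGroup M] [Module A M] {a b : ℤ} (ha : a ≤ 0)
    (h : DRing.HasTorAmplitudeIn A a b (Dual.inD A M)) : DRing.HasTorAmplitudeIn A a 0 (Dual.inD A M) := by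
  obtain ⟨P, hP, hPp, ⟨e⟩⟩ := GrothLib.DR.exists_projective_rep (Dual.inD A M) 0 fun i hi =>
    GrothLib.DR.subsingleton_HD_inD M i (by omega)
  refine GrothLib.DR.hasTorAmplitudeIn_of_iso e
    ((GrothLib.DR.hasTorAmplitudeIn_iff hP (GrothLib.DR.termwiseFlat_of_projective hPp) _ _).2 ?_)
  intro N _ _ i hi
  rcases hi with hi | hi
  · exact (GrothLib.DR.hasTorAmplitudeIn_iff hP (GrothLib.DR.termwiseFlat_of_projective hPp) a b).1
      (GrothLib.DR.hasTorAmplitudeIn_of_iso e.symm h) N i (Or.inl hi)
  · exact GrothLib.DR.tExact_of_isZero (hP i hi) N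

/-- Tor amplitude passes to kernels of maps from flat modules. -/
theorem torAmp_ker {A : Type u} [CommRing A] {K F N : Type u} [AddCommGroup K] [Module A K] [AddCommGroup F]
    [Module A F] [AddCommGroup N] [Module A N] [Module.Flat A F] (i : K →ₗ[A] F) (π : F →ₗ[A] N)
    (hi : Function.Injective i) (hiπ : Function.Exact i π) (hπ : Function.Surjective π) {d : ℕ}
    (h : DRing.HasTorAmplitudeIn A (-((d + 1 : ℕ) : ℤ)) 0 (Dual.inD A N)) :
    DRing.HasTorAmplitudeIn A (-(d : ℤ)) 0 (Dual.inD A K) := by
  let S : ShortComplex (ModuleCat.{u} A) := ShortComplex.mk (X₁ := ModuleCat.of A K) (X₂ := ModuleCat.of A F)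
    (X₃ := ModuleCat.of A N) (ModuleCat.ofHom i) (ModuleCat.ofHom π)
    (ModuleCat.hom_ext (LinearMap.ext fun x => hiπ.apply_apply_eq_zero x))
  have hS : S.ShortExact := ShortComplex.ShortExact.mk'
    ((ShortComplex.moduleCat_exact_iff _).2 fun x hx => (hiπ x).1 hx)
    ((ModuleCat.mono_iff_injective _).2 hi) ((ModuleCat.epi_iff_surjective _).2 hπ)
  exact shrink_top (by omega) (GrothLib.DR.hasTorAmplitudeIn_obj₂ _
    (Pretriangulated.inv_rot_of_distTriang _ hS.singleTriangle_distinguished)
    (GrothLib.DR.hasTorAmplitudeIn_shift h (-1) (-(d : ℤ)) 1 (by push_cast; omega) (by omega))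
    (GrothLib.DR.hasTorAmplitudeIn_mono (by omega) (by omega) (GrothLib.DR.hasTorAmplitudeIn_flat F)))

theorem torAmp_ascends {A B : Type u} [CommRing A] [CommRing B] [Algebra A B] [Algebra.WeaklyEtale A B] (d : ℕ) :
    ∀ (N : Type u) [AddCommGroup N] [Module B N] [Module A N] [IsScalarTower A B N],
      DRing.HasTorAmplitudeIn A (-(d : ℤ)) 0 (Dual.inD A N) →
        DRing.HasTorAmplitudeIn B (-(d : ℤ)) 0 (Dual.inD B N) := by
  induction d with
  | zero =>
    intro N _ _ _ _ h
    haveI : Module.Flat A N := GrothLib.DR.flat_of_hasTorAmplitudeIn (by simpa using h)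
    haveI := Groth.Agent.AbsFlat.flat_of_flat_lmul (Algebra.WeaklyEtale.flat_lmul' A B) N
    simpa using GrothLib.DR.hasTorAmplitudeIn_flat (A := B) N
  | succ d ih =>
    intro N _ _ _ _ h
    let π := Finsupp.linearCombination B (id : N → N)
    have hπ : Function.Surjective π := fun m => ⟨Finsupp.single m 1, by simp [π]⟩
    haveI : Module.Flat A (N →₀ B) := Module.Flat.trans A B (N →₀ B)
    have hK := ih (LinearMap.ker π) (torAmp_ker ((LinearMap.ker π).subtype.restrictScalars A)
      (π.restrictScalars A) Subtype.val_injective (LinearMap.exact_subtype_ker_map π) hπ h)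
    let S : ShortComplex (ModuleCat.{u} B) := ShortComplex.mk
      (X₁ := ModuleCat.of B ↥(LinearMap.ker π)) (X₂ := ModuleCat.of B (N →₀ B)) (X₃ := ModuleCat.of B N)
      (ModuleCat.ofHom (X := ↥(LinearMap.ker π)) (LinearMap.ker π).subtype)
      (ModuleCat.ofHom π) (ModuleCat.hom_ext (LinearMap.ext fun x => x.2))
    have hS : S.ShortExact := ShortComplex.ShortExact.mk'
      ((ShortComplex.moduleCat_exact_iff _).2 fun x hx => ⟨⟨x, hx⟩, rfl⟩)
      ((ModuleCat.mono_iff_injective _).2 Subtype.val_injective) ((ModuleCat.epi_iff_surjective _).2 hπ)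
    exact GrothLib.DR.hasTorAmplitudeIn_obj₃ _ hS.singleTriangle_distinguished
      (GrothLib.DR.hasTorAmplitudeIn_mono (by push_cast; omega) (by omega) hK)
      (GrothLib.DR.hasTorAmplitudeIn_mono (by push_cast; omega) le_rfl
        (GrothLib.DR.hasTorAmplitudeIn_flat (N →₀ B)))


/-- Suppose A → B is weakly étale and every A-module has tor dimension at most d. Then every B-module
has tor dimension at most d over B (weak dimension at most d ascends along weakly étale maps). -/
theorem result (A B : Type u) [CommRing A] [CommRing B] [Algebra A B]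
    [Algebra.WeaklyEtale A B] (d : ℕ)
    (hA : ∀ (M : Type u) [AddCommGroup M] [Module A M], DRing.HasTorDimLE A d M)
    (N : Type u) [AddCommGroup N] [Module B N] : DRing.HasTorDimLE B d N := by
  letI : Module A N := Module.compHom N (algebraMap A B)
  haveI : IsScalarTower A B N := IsScalarTower.of_algebraMap_smul fun _ _ => rfl
  exact (GrothLib.KF.hasTorDimLE_iff N d).2 (torAmp_ascends d N ((GrothLib.KF.hasTorDimLE_iff N d).1 (hA N)))

end Groth.Agent.S7131
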