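import Groth.Statements.S7133
import Groth.Agent.Lib.DVRExt.Ramification
-- import your own Groth.Agent.* helpers here

set_option autoImplicit false
universe u
open EtAlg

namespace Groth.Agent.S7133

/-- For an injective local homomorphism A → B of discrete valuation rings whose fields of fractions are
K ⊆ L: if K has characteristic p > 0 and L/K is purely inseparable, then the ramification index of B
over A is a power of p. -/
theorem result (A B K L : Type u) [CommRing A] [IsDomain A]
    [IsDiscreteValuationRing A] [CommRing B] [IsDomain B] [IsDiscreteValuationRing B] [Algebra A B]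
    (hinj : Function.Injective (algebraMap A B)) [IsLocalHom (algebraMap A B)]
    [Field K] [Field L] [Algebra A K] [IsFractionRing A K] [Algebra B L] [IsFractionRing B L]
    [Algebra K L] [Algebra A L] [IsScalarTower A K L] [IsScalarTower A B L]
    (p : ℕ) (hp : p.Prime) [CharP K p] [IsPurelyInseparable K L] :
    ∃ k : ℕ, Ideal.ramificationIdx' (IsLocalRing.maximalIdeal A) (IsLocalRing.maximalIdeal B) =
      p ^ k := by
  obtain ⟨ϖA, hA⟩ := IsDiscreteValuationRing.exists_irreducible A
  obtain ⟨ϖB, hB⟩ := IsDiscreteValuationRing.exists_irreducible B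
  obtain ⟨-, he⟩ := GrothLib.DVRExt.map_maximalIdeal_eq_pow (A := A) (B := B) hinj
  generalize Ideal.ramificationIdx' (IsLocalRing.maximalIdeal A) (IsLocalRing.maximalIdeal B) = e at he ⊢
  have : ExpChar K p := ExpChar.prime hp
  obtain ⟨n, c, hc⟩ := IsPurelyInseparable.pow_mem K p (algebraMap B L ϖB)
  suffices h : e ∣ p ^ n by
    obtain ⟨k, -, hk⟩ := (Nat.dvd_prime_pow hp).mp h
    exact ⟨k, hk⟩
  rw [← map_pow] at hc
  -- `c` lies in `A`
  obtain ⟨a, rfl⟩ : ∃ a : A, algebraMap A K a = c := by
    rcases ValuationRing.isInteger_or_isInteger A c with ⟨a, ha⟩ | ⟨a, ha⟩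
    · exact ⟨a, ha⟩
    · by_cases hc0 : c = 0
      · exact ⟨0, by rw [hc0, map_zero]⟩
      have h1 : algebraMap B L (algebraMap A B a * ϖB ^ p ^ n) = algebraMap B L 1 := by
        rw [map_mul, ← hc, ← IsScalarTower.algebraMap_apply, IsScalarTower.algebraMap_apply A K L, ha,
          ← map_mul, inv_mul_cancel₀ hc0, map_one, map_one]
      have h2 := IsUnit.of_mul_eq_one _ (IsFractionRing.injective B L h1)
      obtain ⟨w, rfl⟩ := IsUnit.of_map (algebraMap A B) a h2
      exact ⟨↑w⁻¹, by rw [map_units_inv, ha, inv_inv]⟩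
  rw [← IsScalarTower.algebraMap_apply, IsScalarTower.algebraMap_apply A B L] at hc
  have hc' := IsFractionRing.injective B L hc
  have ha0 : a ≠ 0 := by
    rintro rfl
    rw [map_zero] at hc'
    exact pow_ne_zero _ hB.ne_zero hc'.symm
  obtain ⟨m, u, rfl⟩ := IsDiscreteValuationRing.eq_unit_mul_pow_irreducible ha0 hA
  refine ⟨m, GrothLib.DVRExt.maximalIdeal_pow_inj (B := B) ?_⟩
  calc IsLocalRing.maximalIdeal B ^ p ^ n = Ideal.span {ϖB ^ p ^ n} := by
        rw [hB.maximalIdeal_eq, Ideal.span_singleton_pow]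
    _ = (Ideal.span {(u : A) * ϖA ^ m}).map (algebraMap A B) := by
        rw [Ideal.map_span, Set.image_singleton, hc']
    _ = ((IsLocalRing.maximalIdeal A) ^ m).map (algebraMap A B) := by
        rw [Ideal.span_singleton_mul_left_unit u.isUnit, hA.maximalIdeal_eq, Ideal.span_singleton_pow]
    _ = IsLocalRing.maximalIdeal B ^ (e * m) := by rw [Ideal.map_pow, he, pow_mul]

end Groth.Agent.S7133
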