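import Groth.Statements.S7134
import Groth.Agent.S2451
import Groth.Agent.S18056
import Groth.Agent.Lib.Cohen.NilpotentSmooth
import Groth.Agent.Lib.DVRExt.Ramification
import Mathlib.RingTheory.Flat.Stability
import Mathlib.RingTheory.Flat.TorsionFree
-- import your own Groth.Agent.* helpers here

set_option autoImplicit false
set_option linter.unusedSectionVars false
universe u
open EtAlg

namespace Groth.Agent.S7134

section
open IsLocalRing TensorProduct

variable {A B : Type u} [CommRing A] [IsDomain A] [IsDiscreteValuationRing A] [CommRing B] [IsDomain B]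
  [IsDiscreteValuationRing B] [Algebra A B] [IsLocalHom (algebraMap A B)]

theorem flat_quotient (hinj : Function.Injective (algebraMap A B)) (I : Ideal A) :
    Module.Flat (A ⧸ I) (B ⧸ I.map (algebraMap A B)) := by
  have : Module.Flat A B := GrothLib.DVRExt.flat_of_injective hinj
  let e := (Algebra.TensorProduct.quotIdealMapEquivTensorQuot B I).toLinearEquiv
  have : Module.Flat (A ⧸ I) ((A ⧸ I) ⊗[A] B) := inferInstance
  let φ : ((A ⧸ I) ⊗[A] B) →ₐ[A ⧸ I] B ⧸ I.map (algebraMap A B) :=
    Algebra.TensorProduct.lift (Algebra.ofId _ _) (Ideal.Quotient.mkₐ A _) fun _ _ => mul_comm _ _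
  let ψ : B ⧸ I.map (algebraMap A B) →+* (A ⧸ I) ⊗[A] B :=
    Ideal.Quotient.lift _ (Algebra.TensorProduct.includeRight (R := A) (A := A ⧸ I)).toRingHom fun b hb => by
      refine (Ideal.map_le_iff_le_comap (f := algebraMap A B) (K := RingHom.ker _)).mpr (fun a ha => ?_) hb
      show (1 : A ⧸ I) ⊗ₜ[A] algebraMap A B a = 0
      rw [← Algebra.TensorProduct.tmul_one_eq_one_tmul]
      rw [show algebraMap A (A ⧸ I) a = 0 from Ideal.Quotient.eq_zero_iff_mem.mpr ha, zero_tmul]
  have hφ : ∀ x b, φ (x ⊗ₜ b) = algebraMap (A ⧸ I) _ x * Ideal.Quotient.mk _ b := fun x b =>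
    Algebra.TensorProduct.lift_tmul _ _ _ x b
  have h1 : ∀ z, ψ (φ z) = z := fun z => by
    induction z with
    | zero => rw [map_zero, map_zero]
    | tmul x b =>
      obtain ⟨a, rfl⟩ := Ideal.Quotient.mk_surjective x
      rw [hφ, show algebraMap (A ⧸ I) (B ⧸ I.map (algebraMap A B)) (Ideal.Quotient.mk I a) = Ideal.Quotient.mk _ (algebraMap A B a) from rfl, ← map_mul]
      show (1 : A ⧸ I) ⊗ₜ[A] (algebraMap A B a * b) = _
      rw [← Algebra.smul_def, ← TensorProduct.smul_tmul, Algebra.smul_def, mul_one]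
      rfl
    | add x y hx hy => rw [map_add, map_add, hx, hy]
  have h2 : Function.Surjective φ := fun x => by
    obtain ⟨b, rfl⟩ := Ideal.Quotient.mk_surjective x
    exact ⟨1 ⊗ₜ b, by rw [hφ, map_one, one_mul]⟩
  exact Module.Flat.of_linearEquiv
    (LinearEquiv.ofBijective φ.toLinearMap ⟨Function.LeftInverse.injective h1, h2⟩).symm

theorem formallySmooth_quotient_pow (hinj : Function.Injective (algebraMap A B))
    (hw : (maximalIdeal A).map (algebraMap A B) = maximalIdeal B)
    [Algebra.IsGeometricallyReduced (ResidueField A) (ResidueField B)] {n : ℕ} (hn : n ≠ 0) :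
    Algebra.FormallySmooth (A ⧸ maximalIdeal A ^ n) (B ⧸ (maximalIdeal A ^ n).map (algebraMap A B)) := by
  have := flat_quotient hinj (maximalIdeal A ^ n)
  let N := (maximalIdeal A).map (Ideal.Quotient.mk (maximalIdeal A ^ n))
  have hN : IsNilpotent N := ⟨n, by rw [← Ideal.map_pow, Ideal.map_quotient_self]; rfl⟩
  let N' := N.map (algebraMap (A ⧸ maximalIdeal A ^ n) (B ⧸ (maximalIdeal A ^ n).map (algebraMap A B)))
  have hN' : N' = (maximalIdeal B).map (Ideal.Quotient.mk ((maximalIdeal A ^ n).map (algebraMap A B))) := by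
    rw [← hw, Ideal.map_map]
    exact (Ideal.map_map _ _).trans rfl
  -- the residue field of the base maps isomorphically onto the base modulo `N`
  let a : ResidueField A →+* (A ⧸ maximalIdeal A ^ n) ⧸ N :=
    Ideal.Quotient.lift (maximalIdeal A) ((Ideal.Quotient.mk N).comp (Ideal.Quotient.mk (maximalIdeal A ^ n)))
      fun x hx => Ideal.Quotient.eq_zero_iff_mem.mpr (Ideal.mem_map_of_mem _ hx)
  have hle : (maximalIdeal A ^ n).map (algebraMap A B) ≤ maximalIdeal B :=
    hw ▸ Ideal.map_mono (Ideal.pow_le_self hn)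
  let c : (B ⧸ (maximalIdeal A ^ n).map (algebraMap A B)) ⧸ N' →+* ResidueField B :=
    Ideal.Quotient.lift N' (Ideal.Quotient.lift _ (residue B) fun x hx => (residue_eq_zero_iff x).mpr (hle hx))
      fun x hx => by
        rw [hN'] at hx
        obtain ⟨y, hy, rfl⟩ := (Ideal.mem_map_iff_of_surjective _ Ideal.Quotient.mk_surjective).mp hx
        exact (residue_eq_zero_iff y).mpr hy
  have hc : Function.Bijective c := by
    refine ⟨(injective_iff_map_eq_zero _).mpr fun x hx => ?_, fun y => ?_⟩
    · obtain ⟨x, rfl⟩ := Ideal.Quotient.mk_surjective x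
      obtain ⟨x, rfl⟩ := Ideal.Quotient.mk_surjective x
      have hx' : residue B x = 0 := hx
      rw [Ideal.Quotient.eq_zero_iff_mem, hN']
      exact Ideal.mem_map_of_mem _ ((residue_eq_zero_iff x).mp hx')
    · obtain ⟨y, rfl⟩ := residue_surjective y
      exact ⟨Ideal.Quotient.mk N' (Ideal.Quotient.mk _ y), rfl⟩
  let _ : Algebra (ResidueField A) ((A ⧸ maximalIdeal A ^ n) ⧸ N) := a.toAlgebra
  have : Algebra.FormallyUnramified (ResidueField A) ((A ⧸ maximalIdeal A ^ n) ⧸ N) := by
    refine Algebra.FormallyUnramified.of_surjective (Algebra.ofId _ _) fun y => ?_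
    obtain ⟨y, rfl⟩ := Ideal.Quotient.mk_surjective y
    obtain ⟨y, rfl⟩ := Ideal.Quotient.mk_surjective y
    exact ⟨residue A y, rfl⟩
  let _ : Algebra (ResidueField A) ((B ⧸ (maximalIdeal A ^ n).map (algebraMap A B)) ⧸ N') :=
    ((algebraMap ((A ⧸ maximalIdeal A ^ n) ⧸ N) ((B ⧸ (maximalIdeal A ^ n).map (algebraMap A B)) ⧸ N')).comp a).toAlgebra
  have : IsScalarTower (ResidueField A) ((A ⧸ maximalIdeal A ^ n) ⧸ N)
      ((B ⧸ (maximalIdeal A ^ n).map (algebraMap A B)) ⧸ N') := .of_algebraMap_eq' rfl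
  let e : ((B ⧸ (maximalIdeal A ^ n).map (algebraMap A B)) ⧸ N') ≃ₐ[ResidueField A] ResidueField B :=
    AlgEquiv.ofRingEquiv (f := RingEquiv.ofBijective c hc) fun r => by
      obtain ⟨r, rfl⟩ := residue_surjective r
      rfl
  have : Algebra.FormallySmooth (ResidueField A) (ResidueField B) := S2451.result.mpr inferInstance
  have : Algebra.FormallySmooth (ResidueField A) ((B ⧸ (maximalIdeal A ^ n).map (algebraMap A B)) ⧸ N') :=
    Algebra.FormallySmooth.of_equiv e.symm
  have : Algebra.FormallySmooth ((A ⧸ maximalIdeal A ^ n) ⧸ N) ((B ⧸ (maximalIdeal A ^ n).map (algebraMap A B)) ⧸ N') :=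
    Algebra.FormallySmooth.of_restrictScalars (R := ResidueField A) (A := (A ⧸ maximalIdeal A ^ n) ⧸ N) _
  exact GrothLib.Cohen.formallySmooth_of_flat_of_nilpotent N hN

theorem adicFS_of_unramified (hinj : Function.Injective (algebraMap A B))
    (hw : (maximalIdeal A).map (algebraMap A B) = maximalIdeal B)
    [Algebra.IsGeometricallyReduced (ResidueField A) (ResidueField B)] :
    CAlgX.IsAdicFormallySmooth A B (maximalIdeal B) := by
  intro C _ _ J hJ ψ ⟨k, hk⟩
  let n := 2 * (k + 1)
  have hn : n ≠ 0 := by omega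
  have := formallySmooth_quotient_pow (B := B) hinj hw hn
  -- `m_A ^ n` kills `C`
  have hAJ : ∀ x ∈ maximalIdeal A ^ (k + 1), algebraMap A C x ∈ J := fun x hx => by
    rw [← Ideal.Quotient.eq_zero_iff_mem, Ideal.Quotient.mk_algebraMap, ← ψ.commutes]
    refine hk _ ?_
    rw [← hw, ← Ideal.map_pow]
    exact Ideal.map_mono (Ideal.pow_le_pow_right (Nat.le_succ k)) (Ideal.mem_map_of_mem _ hx)
  have hC : ∀ x ∈ maximalIdeal A ^ n, algebraMap A C x = 0 := fun x hx => by
    rw [← Ideal.mem_bot, ← hJ]
    have h1 : algebraMap A C x ∈ (maximalIdeal A ^ (k + 1) * maximalIdeal A ^ (k + 1)).map (algebraMap A C) := by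
      rw [← pow_add, ← two_mul]; exact Ideal.mem_map_of_mem _ hx
    rw [Ideal.map_mul, ← pow_two] at h1
    exact Ideal.pow_right_mono (Ideal.map_le_iff_le_comap.mpr hAJ) 2 h1
  let _ : Algebra (A ⧸ maximalIdeal A ^ n) C := (Ideal.Quotient.lift _ (algebraMap A C) hC).toAlgebra
  have : IsScalarTower A (A ⧸ maximalIdeal A ^ n) C := .of_algebraMap_eq' rfl
  let ψ' : (B ⧸ (maximalIdeal A ^ n).map (algebraMap A B)) →ₐ[A ⧸ maximalIdeal A ^ n] C ⧸ J :=
    { Ideal.Quotient.lift _ ψ.toRingHom fun x hx => hk x (by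
        rw [Ideal.map_pow, hw] at hx
        exact Ideal.pow_le_pow_right (by omega) hx) with
      commutes' := fun r => by
        obtain ⟨r, rfl⟩ := Ideal.Quotient.mk_surjective r
        exact ψ.commutes r }
  obtain ⟨χ, hχ⟩ := Algebra.FormallySmooth.comp_surjective (A ⧸ maximalIdeal A ^ n)
    (B ⧸ (maximalIdeal A ^ n).map (algebraMap A B)) J hJ ψ'
  refine ⟨(χ.restrictScalars A).comp (Ideal.Quotient.mkₐ A _), AlgHom.ext fun b => ?_⟩
  exact AlgHom.congr_fun hχ (Ideal.Quotient.mk _ b)

theorem unramified_of_adicFS (hinj : Function.Injective (algebraMap A B))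
    (h : CAlgX.IsAdicFormallySmooth A B (maximalIdeal B)) :
    (maximalIdeal A).map (algebraMap A B) = maximalIdeal B ∧
      Algebra.IsGeometricallyReduced (ResidueField A) (ResidueField B) := by
  obtain ⟨hepos, he⟩ := GrothLib.DVRExt.map_maximalIdeal_eq_pow (A := A) (B := B) hinj
  set e := Ideal.ramificationIdx' (maximalIdeal A) (maximalIdeal B) with hedef
  let R := B ⧸ (maximalIdeal A).map (algebraMap A B)
  let f : ResidueField A →+* R := algebraMap (A ⧸ maximalIdeal A) R
  let _ : Algebra (ResidueField A) R := f.toAlgebra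
  have : Algebra.FormallySmooth (ResidueField A) R := by
    refine Algebra.FormallySmooth.iff_comp_surjective.mpr fun C _ _ J hJ ψ => ?_
    let _ : Algebra A C := ((algebraMap (ResidueField A) C).comp (residue A)).toAlgebra
    let ψA : B →ₐ[A] C ⧸ J :=
      { ψ.toRingHom.comp (Ideal.Quotient.mk _) with commutes' := fun a => ψ.commutes (residue A a) }
    obtain ⟨χ, hχ⟩ := h C J hJ ψA ⟨e, fun x hx => by
      show ψ (Ideal.Quotient.mk _ x) = 0
      rw [Ideal.Quotient.eq_zero_iff_mem.mpr (he ▸ hx), map_zero]⟩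
    refine ⟨{ Ideal.Quotient.lift _ χ.toRingHom fun x hx => ?_ with commutes' := fun r => ?_ }, ?_⟩
    · refine (Ideal.map_le_iff_le_comap (f := algebraMap A B) (K := RingHom.ker χ.toRingHom)).mpr (fun a ha => ?_) hx
      show χ (algebraMap A B a) = 0
      rw [χ.commutes]
      show algebraMap (ResidueField A) C (residue A a) = 0
      rw [(residue_eq_zero_iff a).mpr ha, map_zero]
    · obtain ⟨r, rfl⟩ := residue_surjective r
      exact χ.commutes r
    · ext x
      obtain ⟨x, rfl⟩ := Ideal.Quotient.mk_surjective x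
      exact AlgHom.congr_fun hχ x
  have hne : (maximalIdeal A).map (algebraMap A B) ≠ ⊤ :=
    ne_top_of_le_ne_top (maximalIdeal.isMaximal B).ne_top (he ▸ Ideal.pow_le_self hepos.ne')
  have : Nontrivial R := Ideal.Quotient.nontrivial_iff.mpr hne
  have : IsLocalRing R := IsLocalRing.of_surjective' _ Ideal.Quotient.mk_surjective
  have hmaxR : ∀ x : B, x ∈ maximalIdeal B → Ideal.Quotient.mk ((maximalIdeal A).map (algebraMap A B)) x ∈ maximalIdeal R := fun x hx hu => by
    obtain ⟨v, hv⟩ := isUnit_iff_exists_inv.mp hu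
    obtain ⟨v, rfl⟩ := Ideal.Quotient.mk_surjective v
    rw [← map_mul, ← map_one (Ideal.Quotient.mk ((maximalIdeal A).map (algebraMap A B))), Ideal.Quotient.eq] at hv
    have h2 : x * v - 1 ∈ maximalIdeal B := (he ▸ Ideal.pow_le_self hepos.ne' : (maximalIdeal A).map (algebraMap A B) ≤ _) hv
    have h3 := sub_mem (Ideal.mul_mem_right v _ hx) h2
    rw [sub_sub_cancel] at h3
    exact (maximalIdeal.isMaximal B).ne_top ((Ideal.eq_top_iff_one _).mpr h3)
  have hmaxR' : maximalIdeal R = (maximalIdeal B).map (Ideal.Quotient.mk _) := by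
    refine le_antisymm (fun y hy => ?_) (Ideal.map_le_iff_le_comap.mpr hmaxR)
    obtain ⟨y, rfl⟩ := Ideal.Quotient.mk_surjective y
    exact Ideal.mem_map_of_mem _ fun hu => hy (hu.map _)
  have : IsNoetherianRing R := inferInstance
  have : IsArtinianRing R := by
    refine isArtinianRing_iff_isNilpotent_maximalIdeal R |>.mpr ⟨e, ?_⟩
    rw [hmaxR', ← Ideal.map_pow, ← he, Ideal.map_quotient_self]
    rfl
  have hlen := S18056.result (ResidueField A) R ⟨⊤, (Subring.topEquiv (R := ResidueField A)).toMulEquiv.isField (Field.toIsField _)⟩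
  rw [Module.length_eq_one] at hlen
  have hR : IsSimpleModule R R := Module.length_eq_one_iff.mp hlen.symm
  have hfield : maximalIdeal R = ⊥ := by
    have := (isSimpleModule_iff R R).mp hR
    exact (eq_bot_or_eq_top (maximalIdeal R)).resolve_right (maximalIdeal.isMaximal R).ne_top
  have hw : (maximalIdeal A).map (algebraMap A B) = maximalIdeal B := by
    refine le_antisymm (he ▸ Ideal.pow_le_self hepos.ne') fun x hx => ?_
    have h2 := hmaxR x hx
    rwa [hfield, Ideal.mem_bot, Ideal.Quotient.eq_zero_iff_mem] at h2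
  refine ⟨hw, S2451.result.mp ?_⟩
  exact Algebra.FormallySmooth.of_equiv (A := R)
    (AlgEquiv.ofRingEquiv (f := Ideal.quotEquivOfEq hw) fun r => by
      obtain ⟨r, rfl⟩ := residue_surjective r
      rfl)

end

/-- For an injective local homomorphism A → B of discrete valuation rings, A → B is formally smooth for
the adic topology of the maximal ideal of B if and only if A → B is weakly unramified and the
residue field of B is a separable (possibly transcendental, i.e. geometrically reduced) extension of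
the residue field of A. -/
theorem result (A B : Type u) [CommRing A]
    [IsDomain A] [IsDiscreteValuationRing A] [CommRing B] [IsDomain B] [IsDiscreteValuationRing B] [Algebra A B]
    (hinj : Function.Injective (algebraMap A B)) [IsLocalHom (algebraMap A B)] :
    CAlgX.IsAdicFormallySmooth A B (IsLocalRing.maximalIdeal B) ↔
      EtRam.IsWeaklyUnramified A B ∧
        Algebra.IsGeometricallyReduced (IsLocalRing.ResidueField A) (IsLocalRing.ResidueField B) := by
  exact ⟨fun h => unramified_of_adicFS hinj h, fun h => by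
    obtain ⟨hw, hg⟩ := h
    exact adicFS_of_unramified hinj hw⟩

end Groth.Agent.S7134
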