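import Groth.Statements.S7136
import Mathlib.RingTheory.Filtration

set_option autoImplicit false
universe u
open CAlg

namespace Groth.Agent.S7136

theorem mem_smul_pi_iff {A : Type u} [CommRing A] {N : Type u} [AddCommGroup N] [Module A N]
    {n : ℕ} (J : Ideal A) (v : Fin n → N) :
    v ∈ (J • ⊤ : Submodule A (Fin n → N)) ↔ ∀ i, v i ∈ (J • ⊤ : Submodule A N) := by
  classical
  constructor
  · intro hv i
    have := Submodule.mem_map_of_mem (f := (LinearMap.proj i : (Fin n → N) →ₗ[A] N)) hv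
    rw [Submodule.map_smul''] at this
    exact Submodule.smul_mono le_rfl le_top this
  · intro hv
    have he : v = ∑ i, LinearMap.single A (fun _ : Fin n => N) i (v i) := by
      simp [Finset.univ_sum_single]
    rw [he]
    refine Submodule.sum_mem _ fun i _ => ?_
    have := Submodule.mem_map_of_mem (f := LinearMap.single A (fun _ : Fin n => N) i) (hv i)
    rw [Submodule.map_smul''] at this
    exact Submodule.smul_mono le_rfl le_top this

theorem artinRees_le {A : Type u} [CommRing A] [IsNoetherianRing A] (I : Ideal A) {P : Type u}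
    [AddCommGroup P] [Module A P] [Module.Finite A P] (Q : Submodule A P) :
    ∃ c, ∀ n, (I ^ n • ⊤ : Submodule A P) ⊓ Q ≤ I ^ (n - c) • Q := by
  obtain ⟨k, hk⟩ := Ideal.exists_pow_inf_eq_pow_smul I Q
  refine ⟨k, fun n => ?_⟩
  rcases le_or_gt k n with h | h
  · rw [hk n h]
    exact Submodule.smul_mono le_rfl inf_le_right
  · rw [Nat.sub_eq_zero_of_le h.le, pow_zero, one_smul_ideal]
    exact inf_le_right
where
  one_smul_ideal {Q : Submodule A P} : (1 : Ideal A) • Q = Q := by
    rw [Ideal.one_eq_top, Submodule.top_smul]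

theorem key {A : Type u} [CommRing A] [IsNoetherianRing A] (I : Ideal A) (M N : Type u)
    [AddCommGroup M] [Module A M] [Module.Finite A M] [AddCommGroup N] [Module A N]
    [Module.Finite A N] : ∃ c : ℕ,
    (∀ n : ℕ, ∀ φ : M →ₗ[A] N, (∀ x, φ x ∈ (I ^ n • ⊤ : Submodule A N)) →
      φ ∈ (I ^ (n - c) • ⊤ : Submodule A (M →ₗ[A] N))) ∧
    (∀ n : ℕ, ∀ ψ : M →ₗ[A] N ⧸ (I ^ n • ⊤ : Submodule A N), ∃ φ : M →ₗ[A] N,
      ∀ x, ∀ y : N, Submodule.Quotient.mk y = ψ x → y - φ x ∈ (I ^ (n - c) • ⊤ : Submodule A N)) := by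
  classical
  obtain ⟨b, π, hπ⟩ := Module.Finite.exists_fin' A M
  obtain ⟨a, r, hr⟩ := Submodule.fg_iff_exists_fin_generating_family.mp
    (IsNoetherian.noetherian (LinearMap.ker π))
  let D : (Fin b → N) →ₗ[A] (Fin a → N) :=
    LinearMap.pi fun j => ∑ i, r j i • (LinearMap.proj i : (Fin b → N) →ₗ[A] N)
  have hD : ∀ v j, D v j = Fintype.linearCombination A v (r j) := fun v j => by
    simp [D, Fintype.linearCombination_apply]
  let E : (M →ₗ[A] N) →ₗ[A] (Fin b → N) :=
    LinearMap.pi fun i => LinearMap.applyₗ (π (Pi.single i 1))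
  have hE : ∀ (φ : M →ₗ[A] N) (y : Fin b → A), φ (π y) = Fintype.linearCombination A (E φ) y := by
    intro φ y
    conv_lhs => rw [pi_eq_sum_univ' y]
    simp [map_sum, map_smul, Fintype.linearCombination_apply, E]
  have hEinj : Function.Injective E := by
    intro φ φ' h
    ext x
    obtain ⟨y, rfl⟩ := hπ x
    rw [hE, hE, h]
  have hker : ∀ v, D v = 0 → ∃ φ, E φ = v := by
    intro v hv
    have hle : LinearMap.ker π ≤ LinearMap.ker (Fintype.linearCombination A v) := by
      rw [← hr, Submodule.span_le]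
      rintro _ ⟨j, rfl⟩
      rw [SetLike.mem_coe, LinearMap.mem_ker, ← hD, hv, Pi.zero_apply]
    refine ⟨(Submodule.liftQ _ (Fintype.linearCombination A v) hle).comp
      (π.quotKerEquivOfSurjective hπ).symm.toLinearMap, funext fun i => ?_⟩
    have : (π.quotKerEquivOfSurjective hπ).symm (π (Pi.single i 1)) =
        Submodule.Quotient.mk (Pi.single i 1) := by
      rw [LinearEquiv.symm_apply_eq]; rfl
    simp [E, this, Fintype.linearCombination_apply_single]
  obtain ⟨c1, hc1⟩ := artinRees_le I (LinearMap.range E)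
  obtain ⟨c2, hc2⟩ := artinRees_le I (LinearMap.range D)
  refine ⟨max c1 c2, fun n φ hφ => ?_, fun n ψ => ?_⟩
  · have h : E φ ∈ (I ^ n • ⊤ : Submodule A (Fin b → N)) :=
      (mem_smul_pi_iff _ _).mpr fun i => hφ _
    have h2 := hc1 n ⟨h, LinearMap.mem_range_self E φ⟩
    rw [LinearMap.range_eq_map, ← Submodule.map_smul''] at h2
    obtain ⟨φ', hφ', he⟩ := h2
    rw [← hEinj he]
    exact Submodule.smul_mono_left (Ideal.pow_le_pow_right (by omega)) hφ'
  · choose v hv using fun i => Submodule.Quotient.mk_surjective _ (ψ (π (Pi.single i 1)))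
    have hψ : ∀ y : Fin b → A,
        Submodule.Quotient.mk (Fintype.linearCombination A v y) = ψ (π y) := by
      intro y
      conv_rhs => rw [pi_eq_sum_univ' y]
      simp [map_sum, map_smul, Fintype.linearCombination_apply, ← hv,
        ← Submodule.mkQ_apply]
    have h : D v ∈ (I ^ n • ⊤ : Submodule A (Fin a → N)) := by
      refine (mem_smul_pi_iff _ _).mpr fun j => ?_
      rw [hD, ← Submodule.Quotient.mk_eq_zero, hψ]
      have : r j ∈ LinearMap.ker π := by rw [← hr]; exact Submodule.subset_span ⟨j, rfl⟩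
      rw [LinearMap.mem_ker.mp this, map_zero]
    have h2 := hc2 n ⟨h, LinearMap.mem_range_self D v⟩
    rw [LinearMap.range_eq_map, ← Submodule.map_smul''] at h2
    obtain ⟨w, hw, he⟩ := h2
    obtain ⟨φ, hφ⟩ := hker (v - w) (by rw [map_sub, he, sub_self])
    refine ⟨φ, fun x y hy => ?_⟩
    obtain ⟨z, rfl⟩ := hπ x
    have hw' : ∀ i, w i ∈ (I ^ (n - max c1 c2) • ⊤ : Submodule A N) := fun i =>
      Submodule.smul_mono_left (Ideal.pow_le_pow_right (by omega)) ((mem_smul_pi_iff _ _).mp hw i)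
    have h3 : y - Fintype.linearCombination A v z ∈ (I ^ (n - max c1 c2) • ⊤ : Submodule A N) :=
      Submodule.smul_mono_left (Ideal.pow_le_pow_right (by omega))
        ((Submodule.Quotient.eq _).mp (hy.trans (hψ z).symm))
    have h4 : Fintype.linearCombination A w z ∈ (I ^ (n - max c1 c2) • ⊤ : Submodule A N) := by
      rw [Fintype.linearCombination_apply]
      exact Submodule.sum_mem _ fun i _ => Submodule.smul_mem _ _ (hw' i)
    have h5 : Fintype.linearCombination A (v - w) z =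
        Fintype.linearCombination A v z - Fintype.linearCombination A w z := by
      simp [Fintype.linearCombination_apply, smul_sub, Finset.sum_sub_distrib]
    rw [hE, hφ, h5, ← sub_add]
    exact add_mem h3 h4

/-- Let A be a Noetherian ring, I an ideal, and M, N finite A-modules; write N_n = N/IⁿN, so that
Hom_A(M/IⁿM, N_n) = Hom_A(M, N_n). Then (1) the inverse system (Hom_A(M, N_n))_n, with transition
maps induced by the projections N_k → N_n, is Mittag-Leffler; (2) there is c ≥ 0 such that for all n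
the kernel and the cokernel of Hom_A(M, N)/IⁿHom_A(M, N) → Hom_A(M, N_n) are annihilated by I^c. -/
theorem result (A : Type u) [CommRing A] [IsNoetherianRing A]
    (I : Ideal A) (M N : Type u) [AddCommGroup M] [Module A M] [Module.Finite A M] [AddCommGroup N] [Module A N]
    [Module.Finite A N] :
    let Nq : ℕ → Submodule A N := fun n => I ^ n • ⊤
    let pr : ∀ n k : ℕ, n ≤ k → (N ⧸ Nq k) →ₗ[A] (N ⧸ Nq n) :=
      fun n k hnk => Submodule.mapQ (Nq k) (Nq n) (LinearMap.id : N →ₗ[A] N) (Submodule.smul_mono_left (Ideal.pow_le_pow_right hnk))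
    let red : ∀ n : ℕ, (M →ₗ[A] N) → (M →ₗ[A] N ⧸ Nq n) := fun n φ => (Nq n).mkQ ∘ₗ φ
    (∀ n : ℕ, ∃ m : ℕ, n ≤ m ∧ ∀ (k : ℕ) (hmk : m ≤ k) (hnm : n ≤ m) (ψ : M →ₗ[A] N ⧸ Nq m),
        ∃ ψ' : M →ₗ[A] N ⧸ Nq k, pr n k (hnm.trans hmk) ∘ₗ ψ' = pr n m hnm ∘ₗ ψ) ∧
    ∃ c : ℕ, ∀ n : ℕ,
      (∀ φ : M →ₗ[A] N, red n φ = 0 → ∀ a ∈ I ^ c, a • φ ∈ (I ^ n • ⊤ : Submodule A (M →ₗ[A] N))) ∧
      (∀ (ψ : M →ₗ[A] N ⧸ Nq n), ∀ a ∈ I ^ c, ∃ φ : M →ₗ[A] N, red n φ = a • ψ) := by
  intro Nq pr red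
  obtain ⟨c, hc1, hc2⟩ := key I M N
  refine ⟨fun n => ⟨n + c, Nat.le_add_right n c, fun k hmk hnm ψ => ?_⟩, c, fun n => ⟨?_, ?_⟩⟩
  · obtain ⟨φ, hφ⟩ := hc2 (n + c) ψ
    refine ⟨(Nq k).mkQ ∘ₗ φ, LinearMap.ext fun x => ?_⟩
    obtain ⟨y, hy⟩ := Submodule.Quotient.mk_surjective _ (ψ x)
    have h := hφ x y hy
    rw [Nat.add_sub_cancel] at h
    simp only [pr, LinearMap.comp_apply, ← hy, Submodule.mkQ_apply, Submodule.mapQ_apply,
      LinearMap.id_coe, id_eq]
    exact ((Submodule.Quotient.eq _).mpr h).symm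
  · intro φ hφ a ha
    have h : ∀ x, φ x ∈ (I ^ n • ⊤ : Submodule A N) := fun x =>
      (Submodule.Quotient.mk_eq_zero _).mp (LinearMap.congr_fun hφ x)
    have h2 := Submodule.smul_mem_smul ha (hc1 n φ h)
    rw [← Submodule.mul_smul, ← pow_add] at h2
    exact Submodule.smul_mono_left (Ideal.pow_le_pow_right (by omega)) h2
  · intro ψ a ha
    obtain ⟨φ, hφ⟩ := hc2 n ψ
    refine ⟨a • φ, LinearMap.ext fun x => ?_⟩
    obtain ⟨y, hy⟩ := Submodule.Quotient.mk_surjective _ (ψ x)
    have h2 := Submodule.smul_mem_smul ha (hφ x y hy)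
    rw [← Submodule.mul_smul, ← pow_add] at h2
    have h3 : a • (y - φ x) ∈ (I ^ n • ⊤ : Submodule A N) :=
      Submodule.smul_mono_left (Ideal.pow_le_pow_right (by omega)) h2
    simp only [red, LinearMap.comp_apply, LinearMap.smul_apply, Submodule.mkQ_apply, ← hy]
    rw [← Submodule.Quotient.mk_smul]
    refine ((Submodule.Quotient.eq _).mpr ?_).symm
    rw [← smul_sub]
    exact h3

end Groth.Agent.S7136
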