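import Groth.Statements.S7137
import Mathlib
import Groth.Agent.Lib.AusBuch.Change
import Groth.Agent.S0604
import Groth.Agent.Lib.Faltings.Transfer
-- import your own Groth.Agent.* helpers here

set_option autoImplicit false
universe u
open CategoryTheory
open CAlg

namespace Groth.Agent.S7137

/-- Take a Noetherian local ring R, an ideal I and a finite module E ≠ 0 over R/I. Suppose that R/I, as
an R-module, and E, as an R/I-module, both have finite projective dimension. Then E, as an R-module,
has finite projective dimension too, and it equals pd_R(R/I) + pd_{R/I}(E). -/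
theorem result (R : Type u) [CommRing R] [IsNoetherianRing R] [IsLocalRing R]
    (I : Ideal R) (E : Type u) [AddCommGroup E] [Module (R ⧸ I) E] [Module R E] [IsScalarTower R (R ⧸ I) E]
    [Module.Finite (R ⧸ I) E] [Nontrivial E]
    (h1 : projectiveDimension (ModuleCat.of R (R ⧸ I)) ≠ ⊤)
    (h2 : projectiveDimension (ModuleCat.of (R ⧸ I) E) ≠ ⊤) :
    projectiveDimension (ModuleCat.of R E) ≠ ⊤ ∧
      projectiveDimension (ModuleCat.of R E) =
        projectiveDimension (ModuleCat.of R (R ⧸ I)) + projectiveDimension (ModuleCat.of (R ⧸ I) E) := by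
  haveI : Nontrivial (R ⧸ I) := (Module.nontrivial (R ⧸ I) E)
  haveI : IsLocalRing (R ⧸ I) := IsLocalRing.of_surjective' _ Ideal.Quotient.mk_surjective
  haveI : Module.Finite R E := Module.Finite.trans (R ⧸ I) E
  have fin : ∀ {S : Type u} [CommRing S] (X : ModuleCat.{u} S), projectiveDimension X ≠ ⊤ → ¬ Limits.IsZero X →
      ∃ e : ℕ, projectiveDimension X = e := by
    intro S _ X h hX
    obtain ⟨x, hx⟩ := WithBot.ne_bot_iff_exists.1 (fun hb => hX ((projectiveDimension_eq_bot_iff X).1 hb))
    have : x ≠ ⊤ := fun h' => h (by rw [← hx, h']; rfl)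
    obtain ⟨n, rfl⟩ := ENat.ne_top_iff_exists.1 this
    exact ⟨n, by rw [← hx]; rfl⟩
  have nz : ∀ {S : Type u} [CommRing S] (M : Type u) [AddCommGroup M] [Module S M] [Nontrivial M],
      ¬ Limits.IsZero (ModuleCat.of S M) := fun M _ _ _ h =>
    not_subsingleton M (ModuleCat.subsingleton_of_isZero h)
  obtain ⟨a, ha⟩ := fin _ h1 (nz (R ⧸ I))
  obtain ⟨e, he⟩ := fin _ h2 (nz E)
  have hle := GrothLib.AusBuch.hasPDLE_change R ((projectiveDimension_le_iff _ _).mp ha.le) e E
    ((projectiveDimension_le_iff _ _).mp he.le)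
  have hfin : projectiveDimension (ModuleCat.of R E) ≠ ⊤ :=
    (projectiveDimension_ne_top_iff _).2 ⟨e + a, hle⟩
  refine ⟨hfin, ?_⟩
  obtain ⟨c, hc⟩ := fin _ hfin (nz E)
  have f1 := Groth.Agent.S0604.result R (R ⧸ I) a ha
  have f2 := Groth.Agent.S0604.result (R ⧸ I) E e he
  have f3 := Groth.Agent.S0604.result R E c hc
  have g1 : LocCoh.depth R (R ⧸ I) = LocCoh.depth (R ⧸ I) (R ⧸ I) :=
    GrothLib.Faltings.depth_eq_of_surjective Ideal.Quotient.mk_surjective (R ⧸ I)
  have g2 : LocCoh.depth R E = LocCoh.depth (R ⧸ I) E :=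
    GrothLib.Faltings.depth_eq_of_surjective Ideal.Quotient.mk_surjective E
  obtain ⟨d, hd, -⟩ := GrothLib.AusBuch.isDepth_exists R (M := E)
  rw [hc, ha, he]
  rw [f1, g1, f2, ← g2, hd] at f3
  have : a + (e + d) = c + d := by exact_mod_cast f3
  have : c = a + e := by omega
  subst this
  push_cast
  rfl

end Groth.Agent.S7137
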