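import Groth.Statements.S7138
import Groth.Agent.Lib.DescExt4.Approx
import Groth.Agent.Lib.AdicExtra.Completion
import Groth.Agent.Lib.AdicFS.Completion

set_option autoImplicit false
universe u
open EtAlg

namespace Groth.Agent.S7138

open TensorProduct in
/-- Let A be a discrete valuation ring, K its field of fractions, A^ its completion and K^ the fraction
field of A^. Every finite separable extension M of K^ arises by base change: M ≅ K^ ⊗_K L as
K^-algebras for some finite separable extension L/K. -/
theorem result (A K : Type u) [CommRing A] [IsDomain A]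
    [IsDiscreteValuationRing A] [Field K] [Algebra A K] [IsFractionRing A K]
    (Kh : Type u) [Field Kh] [Algebra (AdicCompletion (IsLocalRing.maximalIdeal A) A) Kh]
    [IsFractionRing (AdicCompletion (IsLocalRing.maximalIdeal A) A) Kh] [Algebra A Kh] [Algebra K Kh]
    [IsScalarTower A (AdicCompletion (IsLocalRing.maximalIdeal A) A) Kh] [IsScalarTower A K Kh]
    (M : Type u) [Field M] [Algebra Kh M] [FiniteDimensional Kh M] [Algebra.IsSeparable Kh M] :
    ∃ (L : Type u) (_ : Field L) (_ : Algebra K L), FiniteDimensional K L ∧ Algebra.IsSeparable K L ∧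
      Nonempty ((Kh ⊗[K] L) ≃ₐ[Kh] M) := by
  classical
  obtain ⟨_, hdvr⟩ := GrothLib.AdicExtra.exists_dvr_adicCompletion_iff.mp
    (⟨inferInstance, inferInstance⟩ : ∃ _ : IsDomain A, IsDiscreteValuationRing A)
  haveI := hdvr
  letI : Algebra (AdicCompletion (IsLocalRing.maximalIdeal A) A) M :=
    ((algebraMap Kh M).comp
      (algebraMap (AdicCompletion (IsLocalRing.maximalIdeal A) A) Kh)).toAlgebra
  haveI : IsScalarTower (AdicCompletion (IsLocalRing.maximalIdeal A) A) Kh M :=
    IsScalarTower.of_algebraMap_eq fun _ => rfl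
  obtain ⟨n, N, a, hn, happ⟩ := Groth.Agent.Lib.DescExt4.exists_approx
    (R := AdicCompletion (IsLocalRing.maximalIdeal A) A) (Kh := Kh) (M := M)
  choose b hb using fun i => GrothLib.AdicFS.exists_sub_mem_map_pow
    (IsNoetherian.noetherian (IsLocalRing.maximalIdeal A)) N (a i)
  obtain ⟨β, hβ⟩ := happ (fun i => algebraMap A _ (b i)) fun i => by
    rw [AdicCompletion.maximalIdeal_eq_map, ← neg_sub]
    exact neg_mem (hb i)
  let QA : Polynomial A := Polynomial.X ^ n + ∑ i : Fin n, Polynomial.C (b i) * Polynomial.X ^ (i : ℕ)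
  let f : Polynomial K := QA.map (algebraMap A K)
  have hf : f.map (algebraMap K Kh) = minpoly Kh β := by
    rw [hβ, Polynomial.map_map, ← IsScalarTower.algebraMap_eq,
      IsScalarTower.algebraMap_eq A (AdicCompletion (IsLocalRing.maximalIdeal A) A) Kh,
      ← Polynomial.map_map]
    congr 1
    simp [QA, Polynomial.map_sum]
  have hfmon : f.Monic := (Polynomial.monic_map_iff (f := algebraMap K Kh)).mp
    (hf ▸ minpoly.monic (Algebra.IsIntegral.isIntegral β))
  have hfirr : Irreducible f := hfmon.irreducible_of_irreducible_map (algebraMap K Kh) f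
    (hf ▸ minpoly.irreducible (Algebra.IsIntegral.isIntegral β))
  have hfsep : f.Separable := (Polynomial.separable_map (algebraMap K Kh)).mp
    (hf ▸ Algebra.IsSeparable.isSeparable Kh β)
  haveI := Fact.mk hfirr
  have hroot : IsIntegral K (AdjoinRoot.root f) := AdjoinRoot.isIntegral_root hfirr.ne_zero
  haveI : FiniteDimensional K (AdjoinRoot f) := (AdjoinRoot.powerBasis hfirr.ne_zero).finite
  haveI : Algebra.IsSeparable K (AdjoinRoot f) := by
    have h1 : IntermediateField.adjoin K {AdjoinRoot.root f} = ⊤ := by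
      apply IntermediateField.toSubalgebra_injective
      rw [IntermediateField.adjoin_simple_toSubalgebra_of_isAlgebraic hroot.isAlgebraic,
        IntermediateField.top_toSubalgebra, AdjoinRoot.adjoinRoot_eq_top]
    have h2 : IsSeparable K (AdjoinRoot.root f) := by
      rw [IsSeparable, AdjoinRoot.minpoly_root hfirr.ne_zero]
      exact Polynomial.Separable.of_dvd hfsep ⟨Polynomial.C f.leadingCoeff, by
        rw [mul_assoc, ← Polynomial.C_mul, inv_mul_cancel₀
          (Polynomial.leadingCoeff_ne_zero.mpr hfirr.ne_zero), Polynomial.C_1, mul_one]⟩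
    haveI := (IntermediateField.isSeparable_adjoin_simple_iff_isSeparable K (AdjoinRoot f)).mpr h2
    rw [h1] at this
    exact Algebra.IsSeparable.of_algHom K _ (IntermediateField.topEquiv (F := K)
      (E := AdjoinRoot f)).symm.toAlgHom
  refine ⟨AdjoinRoot f, inferInstance, inferInstance, inferInstance, inferInstance, ?_⟩
  letI : Algebra K M := ((algebraMap Kh M).comp (algebraMap K Kh)).toAlgebra
  haveI : IsScalarTower K Kh M := IsScalarTower.of_algebraMap_eq fun _ => rfl
  have haev : Polynomial.aeval β f = 0 := by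
    rw [← Polynomial.aeval_map_algebraMap Kh, hf, minpoly.aeval]
  let ψ : AdjoinRoot f →ₐ[K] M := AdjoinRoot.liftAlgHom f (Algebra.ofId K M) β haev
  let φ : Kh ⊗[K] AdjoinRoot f →ₐ[Kh] M :=
    Algebra.TensorProduct.lift (Algebra.ofId Kh M) ψ fun _ _ => mul_comm _ _
  have hdim : (minpoly Kh β).natDegree = Module.finrank Kh M := by
    rw [hβ, ← hn, (Polynomial.monic_X_pow_add (Polynomial.degree_sum_fin_lt _)).natDegree_map]
    exact Polynomial.natDegree_eq_of_degree_eq_some (by
      rw [Polynomial.degree_add_eq_left_of_degree_lt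
        (by rw [Polynomial.degree_X_pow]; exact Polynomial.degree_sum_fin_lt _),
        Polynomial.degree_X_pow])
  have hsurj : Function.Surjective φ := by
    rw [← AlgHom.range_eq_top, eq_top_iff]
    have h1 : IntermediateField.adjoin Kh {β} = ⊤ :=
      (Field.primitive_element_iff_minpoly_natDegree_eq Kh β).mpr hdim
    have h2 : Algebra.adjoin Kh {β} = ⊤ := by
      rw [← IntermediateField.adjoin_simple_toSubalgebra_of_isAlgebraic
        (Algebra.IsAlgebraic.isAlgebraic β), h1, IntermediateField.top_toSubalgebra]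
    rw [← h2, Algebra.adjoin_le_iff, Set.singleton_subset_iff]
    exact ⟨1 ⊗ₜ AdjoinRoot.root f, by simp [φ, ψ]⟩
  have hrank : Module.finrank Kh (Kh ⊗[K] AdjoinRoot f) = Module.finrank Kh M := by
    rw [Module.finrank_baseChange, (AdjoinRoot.powerBasis hfirr.ne_zero).finrank,
      AdjoinRoot.powerBasis_dim, ← hdim, ← hf, Polynomial.natDegree_map (f := algebraMap K Kh)]
  exact ⟨AlgEquiv.ofBijective φ
    ⟨(LinearMap.injective_iff_surjective_of_finrank_eq_finrank (f := φ.toLinearMap) hrank).mpr hsurj,
      hsurj⟩⟩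

end Groth.Agent.S7138
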