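import Groth.Statements.S7139
import Mathlib
import Groth.Agent.Lib.InertiaEtale4.Core
import Groth.Agent.Lib.InertiaEtale4.Sep
import Groth.Agent.Lib.InertiaEtale4.Semilocal

set_option autoImplicit false
universe u
open EtAlg

namespace Groth.Agent.S7139

/-- A is a discrete valuation ring, K its field of fractions, and L/K is finite Galois with Galois group
G. Write B for the integral closure of A in L, equipped with the induced G-action, m a maximal ideal
of B and I ⊆ G its inertia group. Denote by B' the integral closure of A inside the fixed field L^I,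
with a map to B compatible with L^I ⊆ L. Then the image of B' in B is the ring of invariants B^I,
and A → B'_{m'} is étale, where m' = m ∩ B'. -/
theorem result (A K L B : Type u) [CommRing A] [IsDomain A]
    [IsDiscreteValuationRing A] [Field K] [Field L] [Algebra A K] [IsFractionRing A K] [Algebra K L]
    [Algebra A L] [IsScalarTower A K L] [FiniteDimensional K L] [IsGalois K L]
    [CommRing B] [Algebra A B] [Algebra B L] [IsScalarTower A B L] [IsIntegralClosure B A L]
    [MulSemiringAction (L ≃ₐ[K] L) B]
    (hact : ∀ (σ : L ≃ₐ[K] L) (b : B), algebraMap B L (σ • b) = σ (algebraMap B L b))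
    (m : Ideal B) [m.IsMaximal]
    (B' : Type u) [CommRing B'] [Algebra A B'] [Algebra B' B] [IsScalarTower A B' B] [Algebra B' L]
    [IsScalarTower B' B L]
    [Algebra B' (IntermediateField.fixedField (m.inertia (L ≃ₐ[K] L)))]
    [IsScalarTower B' (IntermediateField.fixedField (m.inertia (L ≃ₐ[K] L))) L]
    [IsIntegralClosure B' A (IntermediateField.fixedField (m.inertia (L ≃ₐ[K] L)))] :
    (∀ b : B, (∀ σ ∈ m.inertia (L ≃ₐ[K] L), σ • b = b) ↔ b ∈ Set.range (algebraMap B' B)) ∧
      Algebra.Etale A (Localization.AtPrime (m.comap (algebraMap B' B))) := by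
  let G := L ≃ₐ[K] L
  let I := m.inertia G
  let F := IntermediateField.fixedField I
  haveI hAFL : IsScalarTower A F L := IsScalarTower.of_algebraMap_eq fun a => by
    show algebraMap A L a = ((algebraMap A F a : F) : L)
    first | rfl | (rw [IsScalarTower.algebraMap_apply A K L]; rfl)
  have hBL : Function.Injective (algebraMap B L) := IsIntegralClosure.algebraMap_injective B A L
  haveI : IsDomain B := hBL.isDomain _
  haveI : SMulCommClass G A B := ⟨fun σ a b => hBL (by
    rw [hact, Algebra.smul_def, Algebra.smul_def, map_mul, map_mul, map_mul, hact,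
      ← IsScalarTower.algebraMap_apply A B L, IsScalarTower.algebraMap_apply A K L, σ.commutes])⟩
  have hBint : ∀ b : B, IsIntegral A (algebraMap B L b) := fun b =>
    (IsIntegralClosure.isIntegral A L b).map (IsScalarTower.toAlgHom A B L)
  haveI : Algebra.IsInvariant A B G := ⟨fun b hb => by
    obtain ⟨k, hk⟩ : algebraMap B L b ∈ Set.range (algebraMap K L) :=
      (IsGalois.mem_range_algebraMap_iff_fixed _).mpr fun σ => by rw [← hact, hb]
    have hkint : IsIntegral A k := (isIntegral_algHom_iff (IsScalarTower.toAlgHom A K L)
      (algebraMap K L).injective).mp (by simpa [hk] using hBint b)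
    obtain ⟨a, rfl⟩ := IsIntegrallyClosed.isIntegral_iff.mp hkint
    exact ⟨a, hBL (by rw [← IsScalarTower.algebraMap_apply A B L, IsScalarTower.algebraMap_apply A K L, hk])⟩⟩
  haveI : IsScalarTower A B' L := IsScalarTower.of_algebraMap_eq fun a => by
    rw [IsScalarTower.algebraMap_apply B' B L, ← IsScalarTower.algebraMap_apply A B' B,
      ← IsScalarTower.algebraMap_apply A B L]
  haveI : IsScalarTower A B' F := IsScalarTower.of_algebraMap_eq fun a => (algebraMap F L).injective (by
    rw [← IsScalarTower.algebraMap_apply A F L, ← IsScalarTower.algebraMap_apply B' F L,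
      ← IsScalarTower.algebraMap_apply A B' L])
  have hB'F : Function.Injective (algebraMap B' F) := IsIntegralClosure.algebraMap_injective B' A F
  have hB'B : Function.Injective (algebraMap B' B) := by
    refine Function.Injective.of_comp (f := algebraMap B L) ?_
    rw [← RingHom.coe_comp, ← IsScalarTower.algebraMap_eq, IsScalarTower.algebraMap_eq B' F L,
      RingHom.coe_comp]
    exact (algebraMap F L).injective.comp hB'F
  have hrange : ∀ b : B, (∀ σ ∈ I, σ • b = b) ↔ b ∈ Set.range (algebraMap B' B) := by
    intro b
    constructor
    · intro hb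
      have hmem : algebraMap B L b ∈ F := fun σ => by
        show (σ : G) (algebraMap B L b) = _
        rw [← hact, hb _ σ.2]
      have hint : IsIntegral A (⟨algebraMap B L b, hmem⟩ : F) :=
        (isIntegral_algHom_iff (IsScalarTower.toAlgHom A F L) (algebraMap F L).injective).mp (hBint b)
      obtain ⟨y, hy⟩ := (IsIntegralClosure.isIntegral_iff (A := B')).mp hint
      refine ⟨y, hBL ?_⟩
      rw [← IsScalarTower.algebraMap_apply B' B L, IsScalarTower.algebraMap_apply B' F L, hy]
      rfl
    · rintro ⟨y, rfl⟩ σ hσ
      refine hBL ?_
      rw [hact, ← IsScalarTower.algebraMap_apply B' B L, IsScalarTower.algebraMap_apply B' F L]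
      exact (algebraMap B' F y).2 ⟨σ, hσ⟩
  refine ⟨hrange, ?_⟩
  haveI : Algebra.IsIntegral A B' := IsIntegralClosure.isIntegral_algebra A F
  haveI : Module.Finite A B' := IsIntegralClosure.finite A K F B'
  haveI : IsNoetherianRing B' := IsNoetherianRing.of_finite A B'
  haveI : IsDomain B' := hB'F.isDomain _
  haveI : IsDedekindDomain B' := IsIntegralClosure.isDedekindDomain A K F B'
  haveI : Algebra.IsIntegral B' B :=
    haveI : Algebra.IsIntegral A B := IsIntegralClosure.isIntegral_algebra A L
    Algebra.IsIntegral.tower_top A
  haveI : (m.comap (algebraMap B' B)).IsMaximal := Ideal.isMaximal_comap_of_isIntegral_of_isMaximal m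
  haveI : Finite G := inferInstance
  obtain ⟨e, he, hsep⟩ := InertiaEtale4.exists_separating A (G := G) m
  obtain ⟨e', rfl⟩ := (hrange e).mp he
  have hAB : Function.Injective (algebraMap A B) := by
    refine Function.Injective.of_comp (f := algebraMap B L) ?_
    rw [← RingHom.coe_comp, ← IsScalarTower.algebraMap_eq, IsScalarTower.algebraMap_eq A K L, RingHom.coe_comp]
    exact (algebraMap K L).injective.comp (IsFractionRing.injective A K)
  obtain ⟨b, hb, hEt⟩ := InertiaEtale4.exists_etale_away hAB (IsScalarTower.toAlgHom A B' B)
    hB'B I (fun r => (hrange r).symm) m e' hsep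
  obtain ⟨c, hc, hbc, hloc⟩ := InertiaEtale4.exists_away_isLocalization_atPrime (A := A)
    (m.comap (algebraMap B' B)) b hb
  obtain ⟨z, rfl⟩ := hbc
  let T := Localization.Away (algebraMap B' (Localization.Away b) z)
  haveI : IsLocalization.Away (b * z) T := IsLocalization.Away.mul' (Localization.Away b) T b z
  haveI : Algebra.Etale A T := inferInstance
  exact Algebra.Etale.of_equiv
    (((IsLocalization.algEquiv (Submonoid.powers (b * z)) T (Localization.Away (b * z))).trans
      (IsLocalization.algEquiv (m.comap (algebraMap B' B)).primeCompl (Localization.Away (b * z))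
        (Localization.AtPrime (m.comap (algebraMap B' B))))).restrictScalars A)

end Groth.Agent.S7139
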