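import Groth.Statements.S7140
import Groth.Agent.Lib.KASPoly4

set_option autoImplicit false
universe u
open EtAlg

namespace Groth.Agent.S7140

open Polynomial in
/-- Let p be a prime and A a ring with an element ζ satisfying 1 + ζ + ... + ζ^(p-1) = 0 (so that A is
an algebra over the ring of integers of the p-th cyclotomic field); set w = 1 - ζ. Then the
polynomial ((1 + wz)^p - 1)/w^p makes sense in A[z]: there is P in A[z] with w^p·P = (1 + wz)^p - 1,
of the form z^p - z + Σ_{0<i<p} a_i z^i with all a_i in the ideal (w), and P(z₁ + z₂ + w z₁ z₂) =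
P(z₁) + P(z₂) + w^p P(z₁)P(z₂) for all z₁, z₂ in any A-algebra. (The published statement asks only
for a primitive p-th root of unity; this row asks that ζ be a root of the p-th cyclotomic
polynomial, the case its proof treats. With ζ only of multiplicative order p the published statement
fails, for example for ζ = (1, e^{2πi/p}) in ℂ × ℂ.) -/
theorem result (p : ℕ) (hp : p.Prime) (A : Type u) [CommRing A] (ζ : A)
    (hζ : aeval ζ (cyclotomic p ℤ) = 0) :
    ∃ P : A[X], C ((1 - ζ) ^ p) * P = (1 + C (1 - ζ) * X) ^ p - 1 ∧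
      (∃ a : ℕ → A, (∀ i, a i ∈ Ideal.span {1 - ζ}) ∧
        P = X ^ p - X + (Finset.Ioo 0 p).sum (fun i => C (a i) * X ^ i)) ∧
      ∀ (S : Type u) [CommRing S] [Algebra A S] (z₁ z₂ : S),
        aeval (z₁ + z₂ + algebraMap A S (1 - ζ) * z₁ * z₂) P =
          aeval z₁ P + aeval z₂ P + algebraMap A S ((1 - ζ) ^ p) * aeval z₁ P * aeval z₂ P := by
  haveI := Fact.mk hp
  haveI : IsDomain (AdjoinRoot (cyclotomic p ℤ)) :=
    AdjoinRoot.isDomain_of_prime (cyclotomic.irreducible hp.pos).prime
  let R := AdjoinRoot (cyclotomic p ℤ)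
  let ζ₀ : AdjoinRoot (cyclotomic p ℤ) := AdjoinRoot.root _
  let z : ℂ := Complex.exp (2 * Real.pi * Complex.I / p)
  have hz : IsPrimitiveRoot z p := Complex.isPrimitiveRoot_exp p hp.ne_zero
  let toC : AdjoinRoot (cyclotomic p ℤ) →+* ℂ := AdjoinRoot.lift (Int.castRingHom ℂ) z (by
    rw [← eval_map, map_cyclotomic, ← IsRoot.def]
    exact hz.isRoot_cyclotomic hp.pos)
  haveI : NeZero (p : AdjoinRoot (cyclotomic p ℤ)) := ⟨fun h => by
    have := congrArg toC h
    rw [map_natCast, map_zero] at this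
    exact hp.ne_zero (by exact_mod_cast this)⟩
  have hζ₀ : IsPrimitiveRoot ζ₀ p := by
    rw [← isRoot_cyclotomic_iff, ← map_cyclotomic p (AdjoinRoot.of (cyclotomic p ℤ))]
    exact AdjoinRoot.isRoot_root _
  let φ : AdjoinRoot (cyclotomic p ℤ) →+* A := AdjoinRoot.lift (Int.castRingHom A) ζ (by
    simpa [aeval_def] using hζ)
  have hφ : φ ζ₀ = ζ := AdjoinRoot.lift_root _
  obtain ⟨P, a, hP, ha, hform⟩ := Groth.Agent.Lib.KASPoly4.exists_poly hp hζ₀
  refine ⟨P.map φ, ?_, ⟨fun i => φ (a i), fun i => ?_, ?_⟩, fun S _ _ z₁ z₂ => ?_⟩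
  · have := congrArg (Polynomial.map φ) hP
    simpa [hφ] using this
  · have := Ideal.mem_map_of_mem φ (ha i)
    rwa [Ideal.map_span, Set.image_singleton, map_sub, map_one, hφ] at this
  · rw [hform]
    simp [Polynomial.map_sum]
  · have hw : (1 - ζ₀) ^ p ≠ 0 := pow_ne_zero _
      (sub_ne_zero.mpr (hζ₀.ne_one hp.one_lt).symm)
    have := Groth.Agent.Lib.KASPoly4.addLaw hp hw P hP ((algebraMap A S).comp φ) z₁ z₂
    simp only [RingHom.comp_apply, map_sub, map_pow, map_one, hφ] at this
    simp only [aeval_def, eval₂_map, map_sub, map_pow, map_one]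
    exact this

end Groth.Agent.S7140
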