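import Groth.Statements.S7141
import Groth.Agent.Lib.WeakEtale.OverField
import Mathlib.Dynamics.Newton

set_option autoImplicit false
universe u
open EtAlg
open Polynomial TensorProduct GrothLib.WeakEtale

namespace Groth.Agent.S7141

/-- Let K be a field and, for a K-algebra A, let B_max(A) be its largest weakly étale K-subalgebra. (2)
For a K-subalgebra A' ⊆ A one has B_max(A') = B_max(A) ∩ A'. (4) The quotient map A → A_red =
A/nilradical restricts to a bijection B_max(A) → B_max(A_red). (6) If A ≠ 0 and its only idempotents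
are 0 and 1, then B_max(A) is a field, algebraic and separable over K. (The published statement
omits A ≠ 0; this row assumes it, since for A = 0 the largest weakly étale subalgebra is the zero
ring.) -/
theorem result (K : Type u) [Field K] (A : Type u) [CommRing A] [Algebra K A] :
    (∀ A' : Subalgebra K A,
      (EtAlgD.maxWeaklyEtale K A').map A'.val = EtAlgD.maxWeaklyEtale K A ⊓ A') ∧
    (Set.BijOn (Ideal.Quotient.mkₐ K (nilradical A)) (EtAlgD.maxWeaklyEtale K A)
      (EtAlgD.maxWeaklyEtale K (A ⧸ nilradical A))) ∧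
    ((∀ e : A, IsIdempotentElem e → e = 0 ∨ e = 1) → Nontrivial A →
      IsField (EtAlgD.maxWeaklyEtale K A) ∧ Algebra.IsSeparable K (EtAlgD.maxWeaklyEtale K A)) := by
  classical
  simp only [GrothLib.WeakEtale.maxWeaklyEtale_eq]
  refine ⟨fun A' => ?_, ⟨fun x hx => IsSepElem.map hx _, fun x hx y hy hxy => ?_, fun y hy => ?_⟩,
    fun he hA => ?_⟩
  · ext x
    simp only [Subalgebra.mem_map, Algebra.mem_inf]
    exact ⟨fun ⟨a, ha, h⟩ => h ▸ ⟨IsSepElem.map ha A'.val, a.2⟩,
      fun ⟨hx, hxA⟩ => ⟨⟨x, hxA⟩, IsSepElem.of_map A'.val Subtype.val_injective hx, rfl⟩⟩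
  · haveI := weaklyEtale_sepSubalgebra K A
    haveI := (GrothLib.Olivier.regular_of_weaklyEtale_field K (sepSubalgebra K A)).isReduced
    obtain ⟨n, hn⟩ : IsNilpotent (x - y) := by
      rw [← mem_nilradical, ← Ideal.Quotient.eq_zero_iff_mem, map_sub]
      exact sub_eq_zero.mpr hxy
    have h0 : (⟨x - y, sub_mem hx hy⟩ : sepSubalgebra K A) = 0 :=
      IsReduced.eq_zero _ ⟨n, Subtype.ext hn⟩
    exact sub_eq_zero.mp (congrArg Subtype.val h0)
  · obtain ⟨x, rfl⟩ := Ideal.Quotient.mk_surjective y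
    obtain ⟨f, hf, hfx⟩ := hy
    have h1 : IsNilpotent (aeval x f) := by
      rw [← mem_nilradical, ← Ideal.Quotient.eq_zero_iff_mem, ← Ideal.Quotient.mkₐ_eq_mk K, ← aeval_algHom_apply]
      exact hfx
    have h2 : IsUnit (aeval x (derivative f)) := by
      obtain ⟨a, c, hac⟩ := hf
      have h := congrArg (aeval x) hac
      rw [map_add, map_mul, map_mul, map_one] at h
      refine isUnit_of_mul_isUnit_right (x := aeval x c) ?_
      rw [eq_sub_of_add_eq' h]
      exact (Commute.isNilpotent_mul_left (Commute.all _ _) h1).isUnit_one_sub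
    obtain ⟨r, ⟨hrn, hr⟩, -⟩ := Polynomial.existsUnique_nilpotent_sub_and_aeval_eq_zero h1 h2
    refine ⟨r, ⟨f, hf, hr⟩, ?_⟩
    rw [← Ideal.Quotient.mkₐ_eq_mk K]
    exact (Ideal.Quotient.eq.mpr (mem_nilradical.mpr hrn)).symm
  · haveI : Algebra.WeaklyEtale K (EtAlgD.maxWeaklyEtale K A) := by
      rw [GrothLib.WeakEtale.maxWeaklyEtale_eq]; exact weaklyEtale_sepSubalgebra K A
    have hreg := GrothLib.Olivier.regular_of_weaklyEtale_field K (EtAlgD.maxWeaklyEtale K A)
    refine ⟨⟨⟨0, 1, zero_ne_one⟩, mul_comm, fun {a} ha => ?_⟩, ?_⟩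
    · obtain ⟨x, hx⟩ := hreg a
      rcases he ((a * x : EtAlgD.maxWeaklyEtale K A) : A)
        (congrArg Subtype.val (show a * x * (a * x) = a * x by linear_combination x * hx) :) with h' | h'
      · have h'' : a * x = 0 := Subtype.ext h'
        exact absurd (by linear_combination -hx + a * h'') ha
      · exact ⟨x, Subtype.ext h'⟩
    · refine ⟨fun x => ?_⟩
      obtain ⟨f, hf, hfx⟩ := isSepElem_of_weaklyEtale (K := K) x
      exact hf.of_dvd (minpoly.dvd _ _ hfx)

end Groth.Agent.S7141
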