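import Groth.Statements.S7143
import Groth.Agent.Lib.WeakDim.Square
import Mathlib.Algebra.Category.Ring.Epi

set_option autoImplicit false
universe u
open CategoryTheory
open EtAlg

namespace Groth.Agent.S7143

/-- Every normal domain A with fraction field K is the fibre product V ×_L K for suitable rings V and L
with maps A → V, V → L, K → L (together with the given A → K), where every ideal of V is flat (weak
dimension at most one) and V → L is flat, injective and an epimorphism of rings. -/
theorem result (A K : Type u) [CommRing A] [IsDomain A] [Field K] [Algebra A K]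
    [IsFractionRing A K] [IsIntegrallyClosed A] :
    ∃ (V L : Type u) (_ : CommRing V) (_ : CommRing L) (f : A →+* V) (g : V →+* L) (h : K →+* L),
      g.comp f = h.comp (algebraMap A K) ∧
      (∀ I : Ideal V, Module.Flat V I) ∧ g.Flat ∧ Function.Injective g ∧ Epi (CommRingCat.ofHom g) ∧
      ∀ (v : V) (k : K), g v = h k → ∃! a : A, f a = v ∧ algebraMap A K a = k := by
  obtain ⟨hflat, hepi⟩ := GrothLib.WeakDim.prodIncl_flat_epi A K
  refine ⟨GrothLib.WeakDim.ProdVal A K, GrothLib.WeakDim.Index A K → K, inferInstance, inferInstance,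
    GrothLib.WeakDim.toProdVal A K, GrothLib.WeakDim.prodIncl A K, Pi.ringHom fun _ => RingHom.id K, rfl,
    GrothLib.WeakDim.flat_ideal_pi _, hflat, GrothLib.WeakDim.prodIncl_injective A K, ?_, fun v k hvk => ?_⟩
  · letI := (GrothLib.WeakDim.prodIncl A K).toAlgebra
    exact CommRingCat.epi_iff_epi.2 hepi
  · obtain ⟨a, h1, h2⟩ := GrothLib.WeakDim.exists_of_prodIncl_eq A K v k hvk
    exact ⟨a, ⟨h1, h2⟩, fun b hb => IsFractionRing.injective A K (hb.2.trans h2.symm)⟩

end Groth.Agent.S7143
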