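import Groth.Statements.S7144
import Mathlib.RingTheory.Valuation.ValuationRing
import Mathlib.RingTheory.Bezout
import Mathlib.Tactic.LinearCombination
-- import your own Groth.Agent.* helpers here

set_option autoImplicit false
universe u
open CAlg

namespace Groth.Agent.S7144

/-- (1) ⇔ (2): let R be a nonzero ring. Then for all a, b in R one of a, b divides the other if and only
if R is local and every finitely generated ideal of R is principal. (The further equivalence with
the total ordering of the set of ideals by inclusion is standard and not restated here.) -/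
theorem result (R : Type u) [CommRing R] [Nontrivial R] :
    PreValuationRing R ↔ IsLocalRing R ∧ IsBezout R := by
  constructor
  · intro h
    refine ⟨IsLocalRing.of_isUnit_or_isUnit_one_sub_self fun a => ?_,
      IsBezout.iff_span_pair_isPrincipal.mpr fun a b => ?_⟩
    · obtain ⟨c, hc | hc⟩ := h.cond' a (1 - a)
      · exact Or.inl ⟨⟨a, 1 + c, by linear_combination hc, by linear_combination hc⟩, rfl⟩
      · exact Or.inr ⟨⟨1 - a, 1 + c, by linear_combination hc, by linear_combination hc⟩, rfl⟩
    · obtain ⟨c, hc | hc⟩ := h.cond' a b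
      · exact ⟨⟨a, le_antisymm (Ideal.span_le.mpr (by
          rintro z (rfl | rfl)
          · exact Ideal.mem_span_singleton_self _
          · exact Ideal.mem_span_singleton.mpr ⟨c, hc.symm⟩)) (Ideal.span_mono (by simp))⟩⟩
      · exact ⟨⟨b, le_antisymm (Ideal.span_le.mpr (by
          rintro z (rfl | rfl)
          · exact Ideal.mem_span_singleton.mpr ⟨c, hc.symm⟩
          · exact Ideal.mem_span_singleton_self _)) (Ideal.span_mono (by simp))⟩⟩
  · rintro ⟨h1, h2⟩
    refine ⟨fun a b => ?_⟩
    obtain ⟨g, hg⟩ := (IsBezout.span_pair_isPrincipal a b).principal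
    rw [Ideal.submodule_span_eq] at hg
    obtain ⟨a', ha⟩ := Ideal.mem_span_singleton'.mp
      (show a ∈ Ideal.span {g} by rw [← hg]; exact Ideal.subset_span (by simp))
    obtain ⟨b', hb⟩ := Ideal.mem_span_singleton'.mp
      (show b ∈ Ideal.span {g} by rw [← hg]; exact Ideal.subset_span (by simp))
    obtain ⟨x, y, hxy⟩ := Ideal.mem_span_pair.mp (hg.symm ▸ Ideal.mem_span_singleton_self g :
      g ∈ Ideal.span {a, b})
    rcases IsLocalRing.isUnit_or_isUnit_one_sub_self (x * a') with hu | hu
    · obtain ⟨⟨u, v, huv, hvu⟩, rfl⟩ := isUnit_of_mul_isUnit_right hu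
      simp only [Units.val_mk] at ha
      exact ⟨v * b', Or.inl (by linear_combination (-(v * b')) * ha + hb + (g * b') * huv)⟩
    · obtain ⟨z, hz⟩ := hu.exists_left_inv
      have : g = z * y * b := by
        linear_combination (-g) * hz - z * hxy + (-(z * x)) * ha
      exact ⟨a' * (z * y), Or.inr (by linear_combination ha - a' * this)⟩

end Groth.Agent.S7144
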