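import Groth.Statements.S7145
import Mathlib
-- import your own Groth.Agent.* helpers here

set_option autoImplicit false
universe u
open CategoryTheory CategoryTheory.Limits
open CAlg

namespace Groth.Agent.S7145

/-- Let R be a ring and F a cochain complex of free R-modules that is zero in all sufficiently large
degrees. Given finitely many elements f_i of F, f_i lying in degree n_i, there is a subcomplex G of
F (a map of complexes G → F injective in every degree) through which every f_i passes, such that G
is zero outside a finite range of degrees and each term of G is a finitely generated free R-module. -/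
theorem result (R : Type u) [CommRing R]
    (F : CochainComplex (ModuleCat.{u} R) ℤ) (hfree : ∀ n : ℤ, Module.Free R (F.X n))
    (b : ℤ) (hb : ∀ n : ℤ, b < n → IsZero (F.X n))
    (N : ℕ) (deg : Fin N → ℤ) (f : ∀ i : Fin N, F.X (deg i)) :
    ∃ (G : CochainComplex (ModuleCat.{u} R) ℤ) (ι : G ⟶ F),
      (∀ n : ℤ, Function.Injective (ι.f n)) ∧
      (∃ a c : ℤ, ∀ n : ℤ, (n < a ∨ c < n) → IsZero (G.X n)) ∧
      (∀ n : ℤ, Module.Finite R (G.X n) ∧ Module.Free R (G.X n)) ∧
      ∀ i : Fin N, f i ∈ Set.range (ι.f (deg i)) := by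
  classical
  haveI := hfree
  let β : ∀ n, Module.Basis (Module.Free.ChooseBasisIndex R (F.X n)) R (F.X n) := fun n => Module.Free.chooseBasis R (F.X n)
  obtain ⟨a, ha⟩ : ∃ a : ℤ, ∀ i, a ≤ deg i := by
    rcases (Finset.univ.image deg).eq_empty_or_nonempty with h | h
    · exact ⟨0, fun i => absurd (Finset.mem_image_of_mem deg (Finset.mem_univ i)) (by rw [h]; exact Finset.notMem_empty _)⟩
    · exact ⟨(Finset.univ.image deg).min' h, fun i => Finset.min'_le _ _ (Finset.mem_image_of_mem deg (Finset.mem_univ i))⟩
  let B : ∀ n : ℤ, Finset (Module.Free.ChooseBasisIndex R (F.X n)) := fun n => Finset.univ.biUnion fun i =>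
    if h : deg i = n then ((β n).repr (h ▸ f i)).support else ∅
  have hstep : ∀ j : ℕ, ∀ T : Finset (Module.Free.ChooseBasisIndex R (F.X (a + j))),
      ∃ T' : Finset (Module.Free.ChooseBasisIndex R (F.X (a + (j + 1 : ℕ)))),
        B (a + (j + 1 : ℕ)) ⊆ T' ∧
        ∀ t ∈ T, ((β (a + (j + 1 : ℕ))).repr ((F.d (a + j) (a + (j + 1 : ℕ))).hom (β _ t))).support ⊆ T' := fun j T =>
    ⟨B _ ∪ T.biUnion fun t => ((β (a + (j + 1 : ℕ))).repr ((F.d (a + j) (a + (j + 1 : ℕ))).hom (β _ t))).support,
      Finset.subset_union_left, fun t ht => (Finset.subset_biUnion_of_mem (fun t => ((β _).repr ((F.d (a + j) (a + (j + 1 : ℕ))).hom (β _ t))).support) ht).trans Finset.subset_union_right⟩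
  choose nxt hnxtB hnxtd using hstep
  let T : ∀ j : ℕ, Finset (Module.Free.ChooseBasisIndex R (F.X (a + j))) := fun j =>
    Nat.rec (motive := fun j => Finset (Module.Free.ChooseBasisIndex R (F.X (a + j)))) (B _) (fun j T => nxt j T) j
  have hTB : ∀ j : ℕ, B (a + j) ⊆ T j := fun j => by
    cases j with
    | zero => exact Finset.Subset.refl _
    | succ j => exact hnxtB j (T j)
  let S : ∀ n : ℤ, Set (Module.Free.ChooseBasisIndex R (F.X n)) := fun n =>
    {t | n ≤ b ∧ ∃ j : ℕ, ∃ h : a + j = n, t ∈ h ▸ (T j)}
  have hS : ∀ j : ℕ, a + j ≤ b → S (a + j) = ↑(T j) := by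
    intro j hj
    ext t
    constructor
    · rintro ⟨-, j', h, ht⟩
      obtain rfl : j' = j := by omega
      exact ht
    · intro ht
      exact ⟨hj, j, rfl, ht⟩
  have hfin : ∀ n, (S n).Finite := by
    intro n
    by_cases h : a ≤ n ∧ n ≤ b
    · obtain ⟨j, rfl⟩ : ∃ j : ℕ, n = a + j := ⟨(n - a).toNat, by omega⟩
      rw [hS j h.2]; exact Finset.finite_toSet _
    · convert Set.finite_empty
      rw [Set.eq_empty_iff_forall_notMem]
      rintro t ⟨h1, j, rfl, -⟩
      exact h ⟨by omega, h1⟩
  let W : ∀ n : ℤ, Submodule R (F.X n) := fun n => Submodule.span R (Set.range fun t : S n => β n t)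
  have hli : ∀ n, LinearIndependent R fun t : S n => β n t := fun n =>
    (β n).linearIndependent.comp _ Subtype.val_injective
  have hmemW : ∀ n x, ↑((β n).repr x).support ⊆ S n → x ∈ W n := fun n x hx => by
    rw [← (β n).linearCombination_repr x, Finsupp.linearCombination_apply]
    exact Submodule.sum_mem _ fun t ht => Submodule.smul_mem _ _ (Submodule.subset_span ⟨⟨t, hx ht⟩, rfl⟩)
  have hsub : ∀ n, b < n → Subsingleton (F.X n) := fun n hn => ModuleCat.subsingleton_of_isZero (hb n hn)
  have hd : ∀ n m, ∀ x ∈ W n, (F.d n m).hom x ∈ W m := by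
    intro n m x hx
    induction hx using Submodule.span_induction with
    | zero => rw [map_zero]; exact Submodule.zero_mem _
    | add u v _ _ hu hv => rw [map_add]; exact Submodule.add_mem _ hu hv
    | smul r u _ hu => rw [map_smul]; exact Submodule.smul_mem _ r hu
    | mem x hx =>
      obtain ⟨⟨t, h1, j, rfl, ht⟩, rfl⟩ := hx
      by_cases hm : a + j + 1 = m
      · subst hm
        by_cases hmb : a + j + 1 ≤ b
        · have e : a + (j : ℤ) + 1 = a + ((j + 1 : ℕ) : ℤ) := by push_cast; ring
          have key : ∀ m, a + ((j + 1 : ℕ) : ℤ) = m → m ≤ b → (F.d (a + j) m).hom (β _ t) ∈ W m := by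
            intro m hm hmb
            subst hm
            refine hmemW _ _ ?_
            rw [hS (j + 1) hmb]
            exact_mod_cast hnxtd j (T j) t ht
          exact key _ e.symm hmb
        · haveI := hsub (a + j + 1) (by omega)
          rw [Subsingleton.elim ((F.d (a + j) (a + j + 1)).hom _) 0]
          exact Submodule.zero_mem _
      · rw [F.shape _ _ hm, ModuleCat.hom_zero, LinearMap.zero_apply]
        exact Submodule.zero_mem _
  let G : CochainComplex (ModuleCat.{u} R) ℤ :=
    { X := fun n => ModuleCat.of R (W n)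
      d := fun n m => ModuleCat.ofHom ((F.d n m).hom.restrict (hd n m))
      shape := fun n m h => by
        ext x
        show (F.d n m).hom x.1 = 0
        rw [F.shape n m h]; rfl
      d_comp_d' := fun i j k _ _ => by
        ext x
        show (F.d j k).hom ((F.d i j).hom x.1) = 0
        exact congrArg (fun φ => φ.hom x.1) (F.d_comp_d i j k) }
  let ι : G ⟶ F :=
    { f := fun n => ModuleCat.ofHom (W n).subtype
      comm' := fun i j _ => by ext x; rfl }
  refine ⟨G, ι, fun n => (W n).injective_subtype, ⟨a, b, fun n hn => ?_⟩, fun n => ?_, fun i => ?_⟩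
  · haveI : IsEmpty (S n) := ⟨by rintro ⟨t, h1, j, rfl, -⟩; omega⟩
    have : W n = ⊥ := by
      show Submodule.span R (Set.range fun t : S n => β n t) = ⊥
      rw [Set.range_eq_empty, Submodule.span_empty]
    haveI : Subsingleton (G.X n) := by
      show Subsingleton (W n)
      rw [this]; infer_instance
    exact ModuleCat.isZero_of_subsingleton _
  · haveI := (hfin n).fintype
    exact ⟨Module.Finite.of_basis (Module.Basis.span (hli n)), Module.Free.of_basis (Module.Basis.span (hli n))⟩
  · refine ⟨⟨f i, ?_⟩, rfl⟩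
    by_cases hib : deg i ≤ b
    · refine hmemW _ _ ?_
      have key : ∀ (n : ℤ) (j : ℕ) (h : deg i = n), n = a + j → n ≤ b →
          ↑((β n).repr (h ▸ f i)).support ⊆ S n := by
        intro n j h hn hnb
        subst hn
        rw [hS j hnb]
        refine Finset.coe_subset.mpr (Finset.Subset.trans ?_ (hTB j))
        intro t ht
        exact Finset.mem_biUnion.mpr ⟨i, Finset.mem_univ _, by rw [dif_pos h]; exact ht⟩
      exact key (deg i) ((deg i - a).toNat) rfl (by have := ha i; omega) hib
    · haveI := hsub (deg i) (by omega)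
      rw [Subsingleton.elim (f i) 0]
      exact Submodule.zero_mem _

end Groth.Agent.S7145
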