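import Groth.Statements.S7147
import Mathlib.LinearAlgebra.Matrix.NonsingularInverse
import Mathlib.LinearAlgebra.Dual.Lemmas
import Mathlib.RingTheory.Localization.Module
-- import your own Groth.Agent.* helpers here

set_option autoImplicit false
universe u
open CAlg

namespace Groth.Agent.S7147

/-- Let R be a ring, M a finitely presented R-module and x a maximal ideal of R with residue field κ(x);
write M(x) = M/xM and let B(x) ⊆ M(x) be the orthogonal of the image of Hom_R(M, R) in the dual of
M(x), i.e. the classes of those m in M with φ(m) in x for every linear form φ on M, and V(x) =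
M(x)/B(x). For s_1, ..., s_r in M the following are equivalent: (1) there is f in R, f not in x,
such that the map R_f^r → M_f given by the s_i is the inclusion of a direct summand; (2) the images
of s_1, ..., s_r in V(x) are linearly independent over κ(x). -/
theorem result (R : Type u) [CommRing R] (M : Type u)
    [AddCommGroup M] [Module R M] [Module.FinitePresentation R M] (x : Ideal R) [x.IsMaximal]
    (r : ℕ) (s : Fin r → M) :
    let Mx := M ⧸ (x • ⊤ : Submodule R M)
    let Bx : Submodule (R ⧸ x) Mx :=
      Submodule.span (R ⧸ x) ((x • ⊤ : Submodule R M).mkQ '' {m : M | ∀ φ : M →ₗ[R] R, φ m ∈ x})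
    (∃ f : R, f ∉ x ∧
      ∃ g : LocalizedModule (Submonoid.powers f) M →ₗ[Localization.Away f] (Fin r → Localization.Away f),
        g ∘ₗ Fintype.linearCombination (Localization.Away f)
            (fun i => LocalizedModule.mkLinearMap (Submonoid.powers f) M (s i)) = LinearMap.id) ↔
    LinearIndependent (R ⧸ x) (fun i => Bx.mkQ ((x • ⊤ : Submodule R M).mkQ (s i))) := by
  intro Mx Bx
  classical
  letI := Ideal.Quotient.field x
  let N : Submodule R M :=
    { carrier := {m : M | ∀ φ : M →ₗ[R] R, φ m ∈ x}
      add_mem' := fun ha hb φ => by rw [map_add]; exact x.add_mem (ha φ) (hb φ)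
      zero_mem' := fun φ => by rw [map_zero]; exact x.zero_mem
      smul_mem' := fun c m hm φ => by rw [map_smul]; exact x.mul_mem_left c (hm φ) }
  have hxN : (x • ⊤ : Submodule R M) ≤ N := Submodule.smul_le.2 fun a ha m _ φ => by
    rw [map_smul, smul_eq_mul]; exact x.mul_mem_right _ ha
  have hB : ∀ m : M, (x • ⊤ : Submodule R M).mkQ m ∈ Bx ↔ m ∈ N := by
    intro m
    constructor
    · intro hm
      have h2 : (x • ⊤ : Submodule R M).mkQ m ∈ N.map (x • ⊤ : Submodule R M).mkQ := by
        refine Submodule.span_induction (p := fun y _ => y ∈ N.map (x • ⊤ : Submodule R M).mkQ) ?_ ?_ ?_ ?_ hm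
        · rintro y ⟨z, hz, rfl⟩; exact ⟨z, hz, rfl⟩
        · exact zero_mem _
        · intros; exact add_mem ‹_› ‹_›
        · intro c y _ hy
          obtain ⟨c, rfl⟩ := Ideal.Quotient.mk_surjective c
          exact Submodule.smul_mem _ c hy
      obtain ⟨z, hz, hzm⟩ := h2
      rw [← sub_add_cancel m z]
      exact add_mem (hxN ((Submodule.Quotient.eq _).1 hzm.symm)) hz
    · exact fun hm => Submodule.subset_span ⟨m, hm, rfl⟩
  have hrel : ∀ c : Fin r → R, (∑ i, c i • s i) ∈ N ↔
      ∑ i, (Ideal.Quotient.mk x (c i)) • Bx.mkQ ((x • ⊤ : Submodule R M).mkQ (s i)) = 0 := by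
    intro c
    rw [← hB, ← Submodule.Quotient.mk_eq_zero (p := Bx), map_sum, ← Submodule.mkQ_apply, map_sum]
    refine Iff.of_eq (congrArg (· = 0) (Finset.sum_congr rfl fun i _ => ?_))
    rw [map_smul, ← map_smul Bx.mkQ]
    rfl
  constructor
  · rintro ⟨f, hf, g, hg⟩
    have hcoord : ∀ j : Fin r, ∃ (φ : M →ₗ[R] R) (K : ℕ), ∀ i, φ (s i) - (if i = j then f ^ K else 0) ∈ x := by
      intro j
      let γ : M →ₗ[R] Localization.Away f :=
        (LinearMap.proj (R := Localization.Away f) (φ := fun _ : Fin r => Localization.Away f) j).restrictScalars R ∘ₗ g.restrictScalars R ∘ₗ LocalizedModule.mkLinearMap (Submonoid.powers f) M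
      obtain ⟨φ, ⟨_, K, rfl⟩, hφ⟩ := Module.FinitePresentation.exists_lift_of_isLocalizedModule
        (Submonoid.powers f) (Algebra.linearMap R (Localization.Away f)) γ
      refine ⟨φ, K, fun i => ?_⟩
      have h1 : γ (s i) = if i = j then 1 else 0 := by
        have := congrFun (LinearMap.congr_fun hg (Pi.single i 1)) j
        simp only [LinearMap.comp_apply, Fintype.linearCombination_apply_single, one_smul, LinearMap.id_apply] at this
        change g (LocalizedModule.mkLinearMap (Submonoid.powers f) M (s i)) j = _
        rw [this, Pi.single_apply]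
        exact if_congr ⟨Eq.symm, Eq.symm⟩ rfl rfl
      have h2 : algebraMap R (Localization.Away f) (φ (s i)) =
          algebraMap R (Localization.Away f) (if i = j then f ^ K else 0) := by
        have h3 := LinearMap.congr_fun hφ (s i)
        simp only [LinearMap.comp_apply, LinearMap.smul_apply, Algebra.linearMap_apply, h1] at h3
        rw [h3]
        split_ifs with hij
        · change f ^ K • (1 : Localization.Away f) = _
          rw [Algebra.smul_def, mul_one]
        · rw [smul_zero, map_zero]
      obtain ⟨⟨_, l, rfl⟩, hl⟩ := (IsLocalization.eq_iff_exists (Submonoid.powers f) _).1 h2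
      have h4 : f ^ l * (φ (s i) - if i = j then f ^ K else 0) ∈ x := by
        rw [mul_sub, hl, sub_self]; exact x.zero_mem
      exact ((Ideal.IsMaximal.isPrime ‹_›).mem_or_mem h4).resolve_left
        fun h => hf ((Ideal.IsMaximal.isPrime ‹_›).mem_of_pow_mem _ h)
    rw [Fintype.linearIndependent_iff]
    intro cbar hc j
    choose c hcq using fun i => Ideal.Quotient.mk_surjective (cbar i)
    have hmem : ∑ i, c i • s i ∈ N := (hrel c).2 (by simpa only [hcq] using hc)
    obtain ⟨φ, K, hφ⟩ := hcoord j
    have h1 := hmem φ
    rw [← hcq j, Ideal.Quotient.eq_zero_iff_mem]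
    have h2 : (Ideal.Quotient.mk x) (c j) * (Ideal.Quotient.mk x) f ^ K = 0 := by
      rw [← Ideal.Quotient.eq_zero_iff_mem, map_sum, map_sum] at h1
      rw [← h1, Finset.sum_eq_single j]
      · rw [map_smul, smul_eq_mul, map_mul]
        have := hφ j
        rw [if_pos rfl, ← Ideal.Quotient.eq] at this
        rw [this, map_pow]
      · intro b _ hb
        have := hφ b
        rw [if_neg hb, sub_zero] at this
        rw [map_smul, smul_eq_mul, map_mul, Ideal.Quotient.eq_zero_iff_mem.2 this, mul_zero]
      · simp
    rw [← Ideal.Quotient.eq_zero_iff_mem]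
    refine (mul_eq_zero.1 h2).resolve_right fun h => ?_
    exact hf (Ideal.Quotient.eq_zero_iff_mem.1 (IsReduced.eq_zero _ ⟨K, h⟩))
  · intro hli
    let ev : (M →ₗ[R] R) →ₗ[R] (Fin r → R ⧸ x) :=
      { toFun := fun φ i => Ideal.Quotient.mk x (φ (s i))
        map_add' := fun a b => by ext; simp
        map_smul' := fun c a => by
          ext i
          simp only [LinearMap.smul_apply, smul_eq_mul, map_mul, Pi.smul_apply, RingHom.id_apply]
          rw [Algebra.smul_def]
          rfl }
    let W : Submodule (R ⧸ x) (Fin r → R ⧸ x) :=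
      { (LinearMap.range ev).toAddSubmonoid with
        smul_mem' := fun c y hy => by
          obtain ⟨c, rfl⟩ := Ideal.Quotient.mk_surjective c
          exact (LinearMap.range ev).smul_mem c hy }
    have hW : W = ⊤ := by
      by_contra hne
      obtain ⟨ψ, hψ, hψW⟩ := Submodule.exists_dual_map_eq_bot_of_lt_top (lt_top_iff_ne_top.2 hne) inferInstance
      choose c hcq using fun i => Ideal.Quotient.mk_surjective (ψ (Pi.single i 1))
      have hcN : ∑ i, c i • s i ∈ N := fun φ => by
        rw [← Ideal.Quotient.eq_zero_iff_mem, map_sum, map_sum]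
        have h2 : ψ (ev φ) = 0 := by
          have : ψ (ev φ) ∈ W.map ψ := Submodule.mem_map_of_mem ⟨φ, rfl⟩
          rwa [hψW, Submodule.mem_bot] at this
        rw [pi_eq_sum_univ (ev φ), map_sum] at h2
        rw [← h2]
        refine Finset.sum_congr rfl fun i _ => ?_
        rw [map_smul, smul_eq_mul, map_mul, map_smul, smul_eq_mul, hcq, mul_comm]
        have he : (fun j => if i = j then (1 : R ⧸ x) else 0) = Pi.single i 1 := by
          ext j; simp [Pi.single_apply, eq_comm]
        rw [he]
        rfl
      have hz := Fintype.linearIndependent_iff.1 hli _ ((hrel c).1 hcN)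
      refine hψ ((Pi.basisFun (R ⧸ x) (Fin r)).ext fun i => ?_)
      rw [Pi.basisFun_apply, ← hcq i, hz i]
      rfl
    have hex : ∀ j, ∃ φ : M →ₗ[R] R, ev φ = Pi.single j 1 := fun j =>
      (show Pi.single j (1 : R ⧸ x) ∈ W by rw [hW]; trivial)
    choose φ hφ using hex
    let B : Matrix (Fin r) (Fin r) R := Matrix.of fun j i => φ j (s i)
    have hf : B.det ∉ x := by
      rw [← Ideal.Quotient.eq_zero_iff_mem, RingHom.map_det]
      have : (Ideal.Quotient.mk x).mapMatrix B = 1 := by
        ext j i
        have := congrFun (hφ j) i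
        change Ideal.Quotient.mk x (φ j (s i)) = _ at this
        simp [B, this, Matrix.one_apply, Pi.single_apply, eq_comm]
      rw [this, Matrix.det_one]
      exact one_ne_zero
    refine ⟨B.det, hf, ?_⟩
    let u : Localization.Away B.det := IsLocalization.Away.invSelf B.det
    let χ : M →ₗ[R] (Fin r → R) := (Matrix.mulVecLin B.adjugate) ∘ₗ LinearMap.pi φ
    let ψ : M →ₗ[R] (Fin r → Localization.Away B.det) :=
      (u • (LinearMap.id : (Fin r → Localization.Away B.det) →ₗ[R] _)) ∘ₗ
        ((Algebra.linearMap R (Localization.Away B.det)).compLeft (Fin r)) ∘ₗ χ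
    let g₀ := LocalizedModule.lift (Submonoid.powers B.det) ψ (fun d => by
      obtain ⟨_, k, rfl⟩ := d
      rw [Module.End.isUnit_iff]
      have hu : IsUnit (algebraMap R (Localization.Away B.det) (B.det ^ k)) :=
        IsLocalization.map_units (M := Submonoid.powers B.det) _ ⟨_, k, rfl⟩
      refine (Function.Bijective.of_comp_iff' (Function.bijective_id) _).1 ?_
      have e : ∀ y : Fin r → Localization.Away B.det,
          algebraMap R (Module.End R (Fin r → Localization.Away B.det)) (B.det ^ k) y =
          (algebraMap R (Localization.Away B.det) (B.det ^ k)) • y := fun y => by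
        rw [Module.algebraMap_end_apply, algebraMap_smul]
      exact (Function.bijective_id.comp ((funext e : _ = _) ▸ hu.smul_bijective)))
    refine ⟨LinearMap.extendScalarsOfIsLocalization (Submonoid.powers B.det) (Localization.Away B.det) g₀, ?_⟩
    refine (Pi.basisFun (Localization.Away B.det) (Fin r)).ext fun i => ?_
    rw [Pi.basisFun_apply, LinearMap.comp_apply, Fintype.linearCombination_apply_single, one_smul,
      LinearMap.id_apply]
    change g₀ (LocalizedModule.mk (s i) 1) = _
    rw [LocalizedModule.lift_mk]
    have hχ : χ (s i) = Pi.single i B.det := by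
      change B.adjugate.mulVec (fun j => φ j (s i)) = _
      have : (fun j => φ j (s i)) = B.mulVec (Pi.single i 1) := by
        ext j; simp [B, Matrix.mulVec_single]
      rw [this, Matrix.mulVec_mulVec, Matrix.adjugate_mul, Matrix.smul_mulVec, Matrix.one_mulVec]
      ext j; simp [Pi.single_apply]
    ext j
    have h1 : (1 : Submonoid.powers B.det) = 1 := rfl
    simp only [ψ, LinearMap.comp_apply, hχ]
    rcases eq_or_ne j i with rfl | hji
    · simp [u]
      rw [mul_comm]
      exact IsLocalization.Away.mul_invSelf _
    · simp [Pi.single_eq_of_ne hji]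

end Groth.Agent.S7147
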