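import Groth.Statements.S7148
import Mathlib
-- import your own Groth.Agent.* helpers here

set_option autoImplicit false
universe u
open CategoryTheory
attribute [local instance] HasDerivedCategory.standard
open CAlg

namespace Groth.Agent.S7148

open CategoryTheory.Abelian

variable {A : Type u} [CommRing A]

/-- `Ext^q (M, N)` restricted to `IⁿM` factors through `IᵐN` once `m + c ≤ n`. -/
theorem fac [IsNoetherianRing A] (I : Ideal A) (q : ℕ) :
    ∀ (M N : Type u) [AddCommGroup M] [Module A M] [Module.Finite A M] [AddCommGroup N] [Module A N],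
      ∃ c : ℕ, ∀ n m : ℕ, m + c ≤ n → ∀ e : Ext.{u} (ModuleCat.of A M) (ModuleCat.of A N) q,
        ∃ e' : Ext.{u} (ModuleCat.of A ↥(I ^ n • ⊤ : Submodule A M))
            (ModuleCat.of A ↥(I ^ m • ⊤ : Submodule A N)) q,
          e'.comp (Ext.mk₀ (ModuleCat.ofHom (I ^ m • ⊤ : Submodule A N).subtype)) (add_zero q) =
            (Ext.mk₀ (ModuleCat.ofHom (I ^ n • ⊤ : Submodule A M).subtype)).comp e (zero_add q) := by
  induction q with
  | zero =>
    intro M N _ _ _ _ _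
    refine ⟨0, fun n m hmn e => ?_⟩
    obtain ⟨f, rfl⟩ : ∃ f, Ext.mk₀ f = e := ⟨_, Ext.mk₀_homEquiv₀_apply e⟩
    have hf : ∀ x : ↥(I ^ n • ⊤ : Submodule A M), f.hom x.1 ∈ (I ^ m • ⊤ : Submodule A N) := by
      intro x
      have h := Submodule.mem_map_of_mem (f := f.hom) x.2
      rw [Submodule.map_smul''] at h
      exact Submodule.smul_mono (Ideal.pow_le_pow_right (by omega)) le_top h
    refine ⟨Ext.mk₀ (ModuleCat.ofHom ((f.hom ∘ₗ Submodule.subtype _).codRestrict _ hf)), ?_⟩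
    rw [Ext.mk₀_comp_mk₀, Ext.mk₀_comp_mk₀]
    congr 1
  | succ q ih =>
    intro M N _ _ _ _ _
    obtain ⟨k, π, hπ⟩ := Module.Finite.exists_fin' A M
    let K := LinearMap.ker π
    obtain ⟨c₁, hc₁⟩ := Ideal.exists_pow_inf_eq_pow_smul I K
    obtain ⟨c₂, hc₂⟩ := ih ↥K N
    refine ⟨c₁ + c₂, fun n m hmn e => ?_⟩
    let S : ShortComplex (ModuleCat.{u} A) :=
      ShortComplex.mk (ModuleCat.ofHom K.subtype) (ModuleCat.ofHom π) (by ext x; exact x.2)
    have hS : S.ShortExact :=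
      { exact := by rw [ShortComplex.moduleCat_exact_iff]; intro x hx; exact ⟨⟨x, hx⟩, rfl⟩
        mono_f := (ModuleCat.mono_iff_injective _).mpr Subtype.val_injective
        epi_g := (ModuleCat.epi_iff_surjective _).mpr hπ }
    haveI : Projective S.X₂ := (IsProjective.iff_projective (R := A) (Fin k → A)).mp inferInstance
    obtain ⟨e₁, he₁⟩ := Ext.contravariant_sequence_exact₃ hS (ModuleCat.of A N) e (Ext.eq_zero_of_projective _)
      (n₀ := q) (add_comm 1 q)
    obtain ⟨e₁', he₁'⟩ := hc₂ (n - c₁) m (by omega) e₁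
    have hmap : (I ^ n • ⊤ : Submodule A (Fin k → A)).map π = I ^ n • ⊤ := by
      rw [Submodule.map_smul'', Submodule.map_top, LinearMap.range_eq_top.mpr hπ]
    let πn : ↥(I ^ n • ⊤ : Submodule A (Fin k → A)) →ₗ[A] ↥(I ^ n • ⊤ : Submodule A M) :=
      π.restrict fun x hx => hmap ▸ Submodule.mem_map_of_mem hx
    let Sn : ShortComplex (ModuleCat.{u} A) :=
      ShortComplex.mk (ModuleCat.ofHom (X := ↥(LinearMap.ker πn)) (Y := ↥(I ^ n • ⊤ : Submodule A (Fin k → A)))
          (LinearMap.ker πn).subtype) (ModuleCat.ofHom πn)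
        (ModuleCat.hom_ext (LinearMap.ext fun (x : ↥(LinearMap.ker πn)) => x.2))
    have hSn : Sn.ShortExact :=
      { exact := by rw [ShortComplex.moduleCat_exact_iff]; intro x hx; exact ⟨⟨x, hx⟩, rfl⟩
        mono_f := (ModuleCat.mono_iff_injective _).mpr Subtype.val_injective
        epi_g := (ModuleCat.epi_iff_surjective _).mpr fun y => by
          obtain ⟨x, hx, hxy⟩ : (y : M) ∈ (I ^ n • ⊤ : Submodule A (Fin k → A)).map π :=
            hmap.symm ▸ y.2
          exact ⟨⟨x, hx⟩, Subtype.ext hxy⟩ }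
    have hAR : ∀ x : Fin k → A, x ∈ (I ^ n • ⊤ : Submodule A (Fin k → A)) → x ∈ K →
        x ∈ (I ^ (n - c₁) • ⊤ : Submodule A ↥K).map K.subtype := by
      intro x h1 h2
      rw [Submodule.map_smul'', Submodule.map_subtype_top]
      have h3 : x ∈ I ^ n • ⊤ ⊓ K := ⟨h1, h2⟩
      rw [hc₁ n (by omega)] at h3
      exact Submodule.smul_mono le_rfl inf_le_right h3
    let τ₁ : ↥(LinearMap.ker πn) →ₗ[A] ↥K :=
      (Submodule.subtype _ ∘ₗ (LinearMap.ker πn).subtype).codRestrict K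
        fun x => congrArg Subtype.val x.2
    have hj : ∀ x, τ₁ x ∈ (I ^ (n - c₁) • ⊤ : Submodule A ↥K) := fun x => by
      obtain ⟨y, hy, hyx⟩ := hAR (τ₁ x : Fin k → A) x.1.2 (τ₁ x).2
      rwa [← Subtype.ext hyx]
    let j : Sn.X₁ ⟶ ModuleCat.of A ↥(I ^ (n - c₁) • ⊤ : Submodule A ↥K) :=
      ModuleCat.ofHom (τ₁.codRestrict _ hj)
    let φ : Sn ⟶ S :=
      { τ₁ := ModuleCat.ofHom τ₁
        τ₂ := ModuleCat.ofHom (Submodule.subtype _)
        τ₃ := ModuleCat.ofHom (Submodule.subtype _)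
        comm₁₂ := by ext x; rfl
        comm₂₃ := by ext x; rfl }
    have hj' : j ≫ ModuleCat.ofHom (Submodule.subtype _) = φ.τ₁ := by ext x; rfl
    refine ⟨hSn.extClass.comp ((Ext.mk₀ j).comp e₁' (zero_add q)) (add_comm 1 q), ?_⟩
    rw [Ext.comp_assoc _ _ _ _ (add_zero q) (by omega), Ext.comp_assoc _ _ _ _ (add_zero q) (by omega),
      he₁', Ext.mk₀_comp_mk₀_assoc, hj', ← Ext.comp_assoc _ _ _ (add_zero 1) (zero_add q) (by omega),
      ShortComplex.ShortExact.extClass_naturality hSn hS φ, Ext.comp_assoc _ _ _ _ (add_comm 1 q) (by omega),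
      he₁]

/-- Let A be a Noetherian ring, I an ideal, M a finite A-module and N any A-module. For every p > 0
there is c ≥ 0 such that for all n ≥ c the map Ext^p_A(M, N) → Ext^p_A(IⁿM, N) factors through
Ext^p_A(IⁿM, I^(n-c)N) → Ext^p_A(IⁿM, N). Here Ext^p(X, Y) is the group of morphisms X → Y[p] in
D(A). -/
theorem result (A : Type u) [CommRing A] [IsNoetherianRing A] (I : Ideal A)
    (M N : Type u) [AddCommGroup M] [Module A M] [Module.Finite A M] [AddCommGroup N] [Module A N]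
    (p : ℕ) (hp : 0 < p) :
    ∃ c : ℕ, ∀ n : ℕ, c ≤ n →
      ∀ e : Dual.inD A M ⟶ (Dual.inD A N)⟦(p : ℤ)⟧,
        ∃ e' : Dual.inD A ↥(I ^ n • ⊤ : Submodule A M) ⟶ (Dual.inD A ↥(I ^ (n - c) • ⊤ : Submodule A N))⟦(p : ℤ)⟧,
          e' ≫ ((DerivedCategory.singleFunctor (ModuleCat.{u} A) 0).map
                  (ModuleCat.ofHom (I ^ (n - c) • ⊤ : Submodule A N).subtype))⟦(p : ℤ)⟧' =
            (DerivedCategory.singleFunctor (ModuleCat.{u} A) 0).map
                (ModuleCat.ofHom (I ^ n • ⊤ : Submodule A M).subtype) ≫ e := by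
  obtain ⟨c, hc⟩ := fac I p M N
  refine ⟨c, fun n hn e => ?_⟩
  let e₀ : Abelian.Ext.{u} (ModuleCat.of A M) (ModuleCat.of A N) p := Abelian.Ext.homEquiv.symm e
  obtain ⟨e', he'⟩ := hc n (n - c) (by omega) e₀
  refine ⟨e'.hom, ?_⟩
  have h := congrArg Abelian.Ext.hom he'
  simp only [Abelian.Ext.comp_hom, Abelian.Ext.mk₀_hom, ShiftedHom.comp_mk₀, ShiftedHom.mk₀_comp] at h
  rw [show Abelian.Ext.hom e₀ = e from Abelian.Ext.homEquiv.apply_symm_apply e] at h
  exact h

end Groth.Agent.S7148
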