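import Groth.Statements.S7149
import Groth.Agent.Lib.ExtConst.Basic
-- import your own Groth.Agent.* helpers here

set_option autoImplicit false
universe u
open CategoryTheory
attribute [local instance] HasDerivedCategory.standard
open CAlg

namespace Groth.Agent.S7149

/-- Let A be a Noetherian ring, I an ideal, K a pseudo-coherent object of D(A) and M a finite A-module.
For each integer p there is c such that for all n ≥ c the image of Ext^p_A(K, IⁿM) → Ext^p_A(K, M)
is contained in I^(n-c)·Ext^p_A(K, M); here Ext^p(K, X) = Hom_{D(A)}(K, X[p]) with its natural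
A-module structure. -/
theorem result (A : Type u) [CommRing A] [IsNoetherianRing A] (I : Ideal A)
    (K : Dual.D A) (hK : DRing.IsPseudoCoherent' A K) (M : Type u) [AddCommGroup M] [Module A M] [Module.Finite A M]
    (p : ℤ) :
    ∃ c : ℕ, ∀ n : ℕ, c ≤ n →
      ∀ e : K ⟶ (Dual.inD A ↥(I ^ n • ⊤ : Submodule A M))⟦p⟧,
        e ≫ ((DerivedCategory.singleFunctor (ModuleCat.{u} A) 0).map
              (ModuleCat.ofHom (I ^ n • ⊤ : Submodule A M).subtype))⟦p⟧' ∈
          (I ^ (n - c) • ⊤ : Submodule A (K ⟶ (Dual.inD A M)⟦p⟧)) := by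
  obtain ⟨n, rfl⟩ : ∃ n : ℤ, p = -n := ⟨-p, (neg_neg p).symm⟩
  obtain ⟨E, b, hb, hfree, ⟨φ⟩⟩ := hK
  haveI : E.IsKProjective := GrothLib.DR.isKProjective E b hb fun j => GrothLib.DR.projective_of_finiteFree hfree j
  obtain ⟨c, hc⟩ := GrothLib.ExtConst.exists_toSingleD_mem_pow_smul I E hfree n M
  refine ⟨c, fun m hm e => ?_⟩
  let S : Submodule A M := I ^ m • ⊤
  obtain ⟨g, hg, hge⟩ := GrothLib.DR.exists_toSingleD E n (φ.hom ≫ e)
  have hmem := hc m hm (S.subtype.comp g) (fun x => by
      rw [LinearMap.comp_apply, hg, map_zero]) (fun x => (g x).2)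
  rw [← GrothLib.DR.toSingleD_comp E n S.subtype g hg, hge, Category.assoc] at hmem
  have h1 := Submodule.mem_map_of_mem (f := CategoryTheory.Linear.leftComp A _ φ.inv) hmem
  rw [Submodule.map_smul''] at h1
  have h2 := Submodule.smul_mono le_rfl le_top h1
  rw [CategoryTheory.Linear.leftComp_apply, Iso.inv_hom_id_assoc] at h2
  exact h2

end Groth.Agent.S7149
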