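import Groth.Statements.S7150
import Groth.Agent.S2451
import Mathlib.RingTheory.Smooth.Field
import Mathlib.Algebra.Algebra.ZMod
-- import your own Groth.Agent.* helpers here

set_option autoImplicit false
universe u
open EtAlg

namespace Groth.Agent.S7150

open IsLocalRing in
theorem exists_lift (R : Type*) (B : Type u) [CommRing R] [CommRing B] [IsLocalRing B] [Algebra R B]
    [Algebra.FormallySmooth R (ResidueField B)] (hnil : ∃ n : ℕ, maximalIdeal B ^ n = ⊥) :
    ∃ s : ResidueField B →+* B, (∀ x, residue B (s x) = x) ∧
      ∀ r, s (residue B (algebraMap R B r)) = algebraMap R B r := by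
  obtain ⟨n, hn⟩ := hnil
  let g : B →ₐ[R] ResidueField B := IsScalarTower.toAlgHom R B (ResidueField B)
  have hnil : IsNilpotent (RingHom.ker (g : B →+* ResidueField B)) :=
    ⟨n, by rw [show RingHom.ker (g : B →+* ResidueField B) = maximalIdeal B from IsLocalRing.ker_residue]; exact hn⟩
  refine ⟨(Algebra.FormallySmooth.liftOfSurjective (AlgHom.id R _) g residue_surjective hnil).toRingHom, fun x => ?_,
    fun r => AlgHom.commutes _ r⟩
  exact congrFun (congrArg DFunLike.coe (Algebra.FormallySmooth.comp_liftOfSurjective (AlgHom.id R _) g residue_surjective hnil)) x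

/-- Suppose p is a prime with p·1 = 0 in the local ring A and some power of the maximal ideal of A is
zero. Then the residue map A → κ_A has a section σ : κ_A → A that is a ring map. If moreover A → A'
is a local homomorphism to another local ring whose maximal ideal has a vanishing power, and the
residue field extension κ_{A'}/κ_A is separable (possibly transcendental, i.e. geometrically
reduced), then for any such σ there is a section σ' : κ_{A'} → A' compatible with σ. -/
theorem result (p : ℕ) (hp : p.Prime) (A : Type u) [CommRing A]
    [IsLocalRing A] [CharP A p] (hnil : ∃ n : ℕ, IsLocalRing.maximalIdeal A ^ n = ⊥) :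
    (∃ σ : IsLocalRing.ResidueField A →+* A, (IsLocalRing.residue A).comp σ = RingHom.id _) ∧
    ∀ (A' : Type u) [CommRing A'] [IsLocalRing A'] [Algebra A A'] [IsLocalHom (algebraMap A A')],
      (∃ n : ℕ, IsLocalRing.maximalIdeal A' ^ n = ⊥) →
      Algebra.IsGeometricallyReduced (IsLocalRing.ResidueField A) (IsLocalRing.ResidueField A') →
      ∀ σ : IsLocalRing.ResidueField A →+* A, (IsLocalRing.residue A).comp σ = RingHom.id _ →
        ∃ σ' : IsLocalRing.ResidueField A' →+* A', (IsLocalRing.residue A').comp σ' = RingHom.id _ ∧
          σ'.comp (IsLocalRing.ResidueField.map (algebraMap A A')) = (algebraMap A A').comp σ := by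
  constructor
  · have : Fact p.Prime := ⟨hp⟩
    let F := GrothLib.SepField.PrimeFld.{u} p
    let _ : Algebra F A := ((ZMod.castHom (dvd_refl p) A).comp ULift.ringEquiv.toRingHom).toAlgebra
    have : CharP F p := charP_of_injective_ringHom
      (f := (ULift.ringEquiv.symm : ZMod p ≃+* F).toRingHom) ULift.ringEquiv.symm.injective p
    have : PerfectRing F p := PerfectRing.ofFiniteOfIsReduced p _
    have : CharP (IsLocalRing.ResidueField A) p :=
      charP_of_injective_algebraMap (algebraMap F (IsLocalRing.ResidueField A)).injective p
    have : Algebra.FormallySmooth F (IsLocalRing.ResidueField A) :=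
      GrothLib.SepField.formallySmooth_perfect p
    obtain ⟨s, hs, -⟩ := exists_lift F A hnil
    exact ⟨s, RingHom.ext hs⟩
  · intro A' _ _ _ _ hnil' hgeo σ hσ
    have fs : Algebra.FormallySmooth (IsLocalRing.ResidueField A) (IsLocalRing.ResidueField A') :=
      S2451.result.mpr hgeo
    let _ : Algebra (IsLocalRing.ResidueField A) A' := ((algebraMap A A').comp σ).toAlgebra
    obtain ⟨s, hs, hc⟩ := @exists_lift.{u, u} (IsLocalRing.ResidueField A) A' _ _ _ _ (by
      convert fs using 2
      refine Algebra.algebra_ext _ _ fun r => ?_
      show IsLocalRing.residue A' (algebraMap A A' (σ r)) = _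
      conv_rhs => rw [show r = IsLocalRing.residue A (σ r) from (congrFun (congrArg DFunLike.coe hσ) r).symm]
      rfl) hnil'
    refine ⟨s, RingHom.ext hs, RingHom.ext fun r => ?_⟩
    refine Eq.trans (congrArg s ?_) (hc r)
    conv_lhs => rw [show r = IsLocalRing.residue A (σ r) from (congrFun (congrArg DFunLike.coe hσ) r).symm]
    rfl

end Groth.Agent.S7150
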