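import Groth.Statements.S7152
import Mathlib

set_option autoImplicit false
universe u
open EtAlg

namespace Groth.Agent.S7152

/-- Let A' ⊆ A be an extension of rings and f an element of A'. Assume A is finite over A', f is a
nonzerodivisor on A, and A'_f = A_f. Then there is n₀ > 0 such that for all n ≥ n₀ the following
holds: given a ring B', a nonzerodivisor g of B' and an isomorphism φ' : A'/fⁿA' → B'/gⁿB' sending
the class of f to the class of g, one can find a ring B containing B' as a subring and finite as a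
B'-module, together with a ring isomorphism φ : A/fA → B/gB that agrees with φ' (i.e. the square
formed by the maps A'/fⁿA' → A/fA and B'/gⁿB' → B/gB commutes). -/
theorem result (A' A : Type u) [CommRing A'] [CommRing A] [Algebra A' A]
    (hinj : Function.Injective (algebraMap A' A)) [Module.Finite A' A] (f : A')
    (hf : algebraMap A' A f ∈ nonZeroDivisors A)
    (hloc : Function.Bijective (IsLocalization.Away.map (Localization.Away f)
      (Localization.Away (algebraMap A' A f)) (algebraMap A' A) f)) :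
    ∃ n₀ : ℕ, 0 < n₀ ∧ ∀ n : ℕ, n₀ ≤ n →
      ∀ (B' : Type u) [CommRing B'] (g : B'), g ∈ nonZeroDivisors B' →
        ∀ φ' : (A' ⧸ Ideal.span {f ^ n}) ≃+* (B' ⧸ Ideal.span {g ^ n}),
        φ' (Ideal.Quotient.mk (Ideal.span {f ^ n}) f) = Ideal.Quotient.mk (Ideal.span {g ^ n}) g →
        ∃ (B : Type u) (_ : CommRing B) (_ : Algebra B' B),
          Function.Injective (algebraMap B' B) ∧ Module.Finite B' B ∧
          ∃ φ : (A ⧸ Ideal.span {algebraMap A' A f}) ≃+* (B ⧸ Ideal.span {algebraMap B' B g}),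
            ∀ (a' : A') (b' : B'),
              φ' (Ideal.Quotient.mk (Ideal.span {f ^ n}) a') = Ideal.Quotient.mk (Ideal.span {g ^ n}) b' →
              φ (Ideal.Quotient.mk (Ideal.span {algebraMap A' A f}) (algebraMap A' A a')) =
                Ideal.Quotient.mk (Ideal.span {algebraMap B' B g}) (algebraMap B' B b') := by
  classical
  set F := algebraMap A' A f with hFdef
  have hp : ∀ a : A, ∃ (k : ℕ) (j : A'), algebraMap A' A j = F ^ k * a := by
    intro a
    obtain ⟨y, hy⟩ := hloc.2 (algebraMap A (Localization.Away F) a)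
    obtain ⟨⟨a₀, ⟨_, m, rfl⟩⟩, rfl⟩ := IsLocalization.mk'_surjective (Submonoid.powers f) y
    rw [IsLocalization.Away.map, IsLocalization.map_mk', IsLocalization.mk'_eq_iff_eq_mul, ← map_mul,
      IsLocalization.eq_iff_exists (Submonoid.powers F)] at hy
    obtain ⟨⟨_, l, rfl⟩, hl⟩ := hy
    refine ⟨l + m, f ^ l * a₀, ?_⟩
    simp only [map_mul, map_pow] at hl ⊢
    rw [← hFdef] at hl ⊢
    rw [hl]; ring
  obtain ⟨T, hT⟩ := Module.Finite.fg_top (R := A') (M := A)
  choose k j hkj using hp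
  set c := T.sup k
  have hc : ∀ a : A, ∃ j : A', algebraMap A' A j = F ^ c * a := by
    intro a
    have ha : a ∈ Submodule.span A' (T : Set A) := hT ▸ Submodule.mem_top
    induction ha using Submodule.span_induction with
    | mem x hx =>
      obtain ⟨d, hd⟩ := Nat.exists_eq_add_of_le (Finset.le_sup (f := k) (Finset.mem_coe.1 hx))
      exact ⟨f ^ d * j x, by rw [map_mul, map_pow, hkj, ← hFdef, show c = k x + d from hd, pow_add]; ring⟩
    | zero => exact ⟨0, by simp⟩
    | add x y _ _ hx hy =>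
      obtain ⟨jx, hjx⟩ := hx; obtain ⟨jy, hjy⟩ := hy
      exact ⟨jx + jy, by rw [map_add, hjx, hjy, mul_add]⟩
    | smul r x _ hx =>
      obtain ⟨jx, hjx⟩ := hx
      exact ⟨r * jx, by rw [map_mul, hjx, Algebra.smul_def]; ring⟩
  choose h₀ hh₀ using hc
  have huniq : ∀ (a : A) (e : A'), algebraMap A' A e = F ^ c * a → h₀ a = e := fun a e he =>
    hinj ((hh₀ a).trans he.symm)
  let h : A →ₗ[A'] A' :=
    { toFun := h₀
      map_add' := fun a b => huniq _ _ (by rw [map_add, hh₀, hh₀, mul_add])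
      map_smul' := fun r a => huniq _ _ (by
        rw [RingHom.id_apply, smul_eq_mul, map_mul, hh₀, Algebra.smul_def]; ring) }
  have hh : ∀ a, algebraMap A' A (h a) = F ^ c * a := hh₀
  have hι : ∀ a' : A', h (algebraMap A' A a') = f ^ c * a' := fun a' =>
    huniq _ _ (by rw [map_mul, map_pow, ← hFdef])
  have hone : h 1 = f ^ c := huniq _ _ (by rw [map_pow, ← hFdef, mul_one])
  have hmul : ∀ a b, h a * h b = f ^ c * h (a * b) := fun a b => hinj (by
    rw [map_mul, map_mul, hh, hh, hh, map_pow, ← hFdef]; ring)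
  refine ⟨2 * c + 1, Nat.succ_pos _, fun n hn B' _ g hg φ' hfg => ?_⟩
  let qA := Ideal.Quotient.mk (Ideal.span {f ^ n})
  let qB := Ideal.Quotient.mk (Ideal.span {g ^ n})
  have hqg : ∀ (i : ℕ) (x : A'), φ' (qA (f ^ i * x)) = qB g ^ i * φ' (qA x) := fun i x => by
    rw [map_mul, map_mul, map_pow, map_pow]
    exact congrArg (fun t => t ^ i * φ' (qA x)) hfg
  have hqB : ∀ {x y : B'}, qB x = qB y → ∃ t, x = y + g ^ n * t := by
    intro x y e
    obtain ⟨t, ht⟩ := Ideal.mem_span_singleton'.1 (Ideal.Quotient.eq.1 e)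
    exact ⟨t, by linear_combination -ht⟩
  have hqA : ∀ {x y : A'}, qA x = qA y → ∃ t, x = y + f ^ n * t := by
    intro x y e
    obtain ⟨t, ht⟩ := Ideal.mem_span_singleton'.1 (Ideal.Quotient.eq.1 e)
    exact ⟨t, by linear_combination -ht⟩
  let L := Localization.Away g
  let ι := algebraMap B' L
  have hιinj : Function.Injective ι :=
    IsLocalization.injective L (Submonoid.powers_le.2 hg)
  have hu : ∀ i : ℕ, IsUnit (ι g ^ i) := fun i => (IsLocalization.Away.algebraMap_isUnit g).pow i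
  -- the correspondence
  let P : L → A → Prop := fun x a => ∃ b : B', qB b = φ' (qA (h a)) ∧ ι b = ι g ^ c * x
  have Puniq : ∀ {x a a₂}, P x a → P x a₂ → a - a₂ ∈ Ideal.span {F} := by
    rintro x a a₂ ⟨b, hb, hbx⟩ ⟨b₂, hb₂, hb₂x⟩
    obtain rfl : b = b₂ := hιinj (hbx.trans hb₂x.symm)
    obtain ⟨t, ht⟩ := hqA (φ'.injective (hb.symm.trans hb₂))
    have h1 := congrArg (algebraMap A' A) ht
    rw [map_add, map_mul, map_pow, hh, hh, ← hFdef] at h1
    have h2 : a - a₂ = F ^ (n - c) * algebraMap A' A t := by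
      refine (mem_nonZeroDivisors_iff_right.1 (Submonoid.pow_mem _ hf c) _ ?_) |> sub_eq_zero.1
      have h3 : F ^ n = F ^ c * F ^ (n - c) := by rw [← pow_add]; congr 1; omega
      rw [h3] at h1
      linear_combination h1
    rw [h2]
    exact Ideal.mem_span_singleton.2 ((dvd_pow_self F (by omega)).mul_right _)
  have Pι : ∀ (r : B') (a' : A'), φ' (qA a') = qB r → P (ι r) (algebraMap A' A a') := by
    intro r a' e
    exact ⟨g ^ c * r, by rw [hι, hqg, e, map_mul, map_pow], by rw [map_mul, map_pow]⟩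
  have Padd : ∀ {x y a b}, P x a → P y b → P (x + y) (a + b) := by
    rintro x y a b ⟨u, hu₁, hu₂⟩ ⟨v, hv₁, hv₂⟩
    exact ⟨u + v, by rw [map_add, hu₁, hv₁, map_add h, map_add, map_add], by rw [map_add, hu₂, hv₂, mul_add]⟩
  have Pmul : ∀ {x y a b}, P x a → P y b → ∃ s, P (x * y) (a * b + F * s) := by
    rintro x y a b ⟨u, hu₁, hu₂⟩ ⟨v, hv₁, hv₂⟩
    obtain ⟨w, hw⟩ := Ideal.Quotient.mk_surjective (φ' (qA (h (a * b))))
    obtain ⟨t, ht⟩ := hqB (x := u * v) (y := g ^ c * w) (by
      rw [map_mul, hu₁, hv₁, ← map_mul φ', ← map_mul qA, hmul, hqg, map_mul qB, map_pow]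
      exact congrArg _ hw.symm)
    obtain ⟨t', ht'⟩ := (φ'.surjective (qB t))
    obtain ⟨t', rfl⟩ := Ideal.Quotient.mk_surjective t'
    refine ⟨F ^ (n - 2 * c - 1) * algebraMap A' A t', w + g ^ (n - c) * t, ?_, ?_⟩
    · have h4 : F * (F ^ (n - 2 * c - 1) * algebraMap A' A t') = algebraMap A' A (f ^ (n - 2 * c) * t') := by
        rw [map_mul, map_pow, ← hFdef, ← mul_assoc, ← pow_succ']
        congr 2
        omega
      rw [h4, map_add h, hι, ← mul_assoc, ← pow_add, show c + (n - 2 * c) = n - c by omega, map_add qA,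
        map_add φ', hqg, map_add qB, map_mul qB, map_pow]
      exact congrArg₂ (fun p q => p + qB g ^ (n - c) * q) hw ht'.symm
    · apply (hu c).mul_left_cancel
      have h5 : g ^ n = g ^ c * g ^ (n - c) := by rw [← pow_add]; congr 1; omega
      have h6 := congrArg ι ht
      rw [h5] at h6
      simp only [map_mul, map_add, map_pow] at h6 ⊢
      rw [hu₂, hv₂] at h6
      linear_combination -h6
  let B : Subalgebra B' L :=
    { carrier := {x | ∃ a, P x a}
      mul_mem' := fun ⟨a, ha⟩ ⟨b, hb⟩ => ⟨_, (Pmul ha hb).choose_spec⟩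
      add_mem' := fun ⟨a, ha⟩ ⟨b, hb⟩ => ⟨_, Padd ha hb⟩
      algebraMap_mem' := fun r => by
        obtain ⟨q, hq⟩ := φ'.surjective (qB r)
        obtain ⟨a', rfl⟩ := Ideal.Quotient.mk_surjective q
        exact ⟨_, Pι r a' hq⟩ }
  have hlift : ∀ a, ∃ x, P x a := fun a => by
    obtain ⟨w, hw⟩ := Ideal.Quotient.mk_surjective (φ' (qA (h a)))
    exact ⟨((hu c).unit⁻¹ : Lˣ) * ι w, w, hw, by rw [← mul_assoc, IsUnit.mul_val_inv, one_mul]⟩
  choose lift hlift using hlift
  have hfin : Module.Finite B' B := by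
    refine ⟨⟨insert 1 (T.image fun a => (⟨lift a, a, hlift a⟩ : B)), ?_⟩⟩
    rw [eq_top_iff]
    rintro ⟨x, a, b, hb, hbx⟩ -
    set S := Submodule.span B' ((insert 1 (T.image fun a => (⟨lift a, a, hlift a⟩ : B)) : Finset B) : Set B)
    have key : ∀ a, ∃ z ∈ S, P (z : L) a := by
      intro a
      have ha : a ∈ Submodule.span A' (T : Set A) := hT ▸ Submodule.mem_top
      induction ha using Submodule.span_induction with
      | mem y hy => exact ⟨_, Submodule.subset_span (Finset.mem_coe.2 (Finset.mem_insert_of_mem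
          (Finset.mem_image_of_mem _ hy))), hlift y⟩
      | zero => exact ⟨0, S.zero_mem, 0, by simp, by simp⟩
      | add y z _ _ hy hz =>
        obtain ⟨py, hpy, hPy⟩ := hy; obtain ⟨pz, hpz, hPz⟩ := hz
        exact ⟨py + pz, S.add_mem hpy hpz, Padd hPy hPz⟩
      | smul r y _ hy =>
        obtain ⟨py, hpy, u, hu₁, hu₂⟩ := hy
        obtain ⟨s, hs⟩ := Ideal.Quotient.mk_surjective (φ' (qA r))
        refine ⟨s • py, S.smul_mem s hpy, s * u, ?_, ?_⟩
        · rw [map_mul, hu₁, show qB s = φ' (qA r) from hs, map_smul, smul_eq_mul, map_mul, map_mul]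
        · rw [Subalgebra.coe_smul, Algebra.smul_def, map_mul, hu₂]; ring
    obtain ⟨z, hz, u, hu₁, hu₂⟩ := key a
    obtain ⟨t, ht⟩ := hqB (hb.trans hu₁.symm)
    have hmem : z + (g ^ (n - c) * t) • (1 : B) ∈ S :=
      S.add_mem hz (S.smul_mem _ (Submodule.subset_span (Finset.mem_coe.2 (Finset.mem_insert_self _ _))))
    convert hmem using 1
    refine Subtype.ext ((hu c).mul_left_cancel ?_)
    have h5 : g ^ n = g ^ c * g ^ (n - c) := by rw [← pow_add]; congr 1; omega
    show ι g ^ c * x = ι g ^ c * ((z : L) + (g ^ (n - c) * t) • (1 : L))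
    rw [← hbx, ht, h5, Algebra.smul_def, mul_one, map_add, hu₂]
    simp only [map_mul, map_pow]
    ring
  let qF := Ideal.Quotient.mk (Ideal.span {F})
  let θ : B → A ⧸ Ideal.span {F} := fun x => qF x.2.choose
  have hθ : ∀ (x : B) (a : A), P (x : L) a → θ x = qF a := fun x a ha =>
    Ideal.Quotient.eq.2 (Puniq x.2.choose_spec ha)
  have P1 : P 1 1 := ⟨g ^ c, by rw [hone]; exact (by simpa using (hqg c 1).symm), by rw [map_pow, mul_one]⟩
  let Θ : B →+* A ⧸ Ideal.span {F} :=
    { toFun := θ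
      map_one' := (hθ 1 1 P1).trans (map_one _)
      map_mul' := fun x y => by
        obtain ⟨s, hs⟩ := Pmul x.2.choose_spec y.2.choose_spec
        rw [hθ (x * y) _ hs, map_add, map_mul, map_mul,
          Ideal.Quotient.eq_zero_iff_mem.2 (Ideal.mem_span_singleton_self F), zero_mul, add_zero]
      map_zero' := (hθ 0 0 ⟨0, by simp, by simp⟩).trans (map_zero _)
      map_add' := fun x y => by
        rw [hθ (x + y) _ (Padd x.2.choose_spec y.2.choose_spec), map_add] }
  have hΘsurj : Function.Surjective Θ := fun q => by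
    obtain ⟨a, rfl⟩ := Ideal.Quotient.mk_surjective q
    exact ⟨⟨lift a, a, hlift a⟩, hθ _ a (hlift a)⟩
  have hker : RingHom.ker Θ = Ideal.span {algebraMap B' B g} := by
    refine le_antisymm (fun x hx => ?_) ((Ideal.span_singleton_le_iff_mem _).2 ?_)
    · obtain ⟨a, b, hb, hbx⟩ := x.2
      have h1 : qF a = 0 := (hθ x a ⟨b, hb, hbx⟩).symm.trans hx
      obtain ⟨a₁, ha₁⟩ := Ideal.mem_span_singleton'.1 (Ideal.Quotient.eq_zero_iff_mem.1 h1)
      obtain ⟨u, hu₁, hu₂⟩ := hlift a₁
      obtain ⟨t, ht⟩ := hqB (x := b) (y := g * u) (by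
        rw [hb, ← ha₁, show a₁ * F = f • a₁ by rw [Algebra.smul_def, mul_comm], map_smul, smul_eq_mul,
          map_mul qB, hu₁, map_mul qA, map_mul φ']
        exact congrArg (· * _) hfg)
      refine Ideal.mem_span_singleton'.2 ⟨⟨lift a₁, a₁, hlift a₁⟩ + algebraMap B' B (g ^ (n - c - 1) * t), ?_⟩
      refine Subtype.ext ((hu c).mul_left_cancel ?_)
      have h5 : g ^ n = g ^ c * (g ^ (n - c - 1) * g) := by
        rw [← pow_succ, ← pow_add]; congr 1; omega
      show ι g ^ c * ((lift a₁ + ι (g ^ (n - c - 1) * t)) * ι g) = ι g ^ c * (x : L)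
      rw [← hbx, ht, h5]
      simp only [map_mul, map_add, map_pow]
      rw [hu₂]; ring
    · show θ _ = 0
      rw [hθ (algebraMap B' B g) F (Pι g f hfg)]
      exact Ideal.Quotient.eq_zero_iff_mem.2 (Ideal.mem_span_singleton_self F)
  let e := (Ideal.quotEquivOfEq hker.symm).trans (RingHom.quotientKerEquivOfSurjective hΘsurj)
  refine ⟨B, inferInstance, inferInstance, ?_, hfin, e.symm, fun a' b' hab => ?_⟩
  · exact fun r s hrs => hιinj (congrArg Subtype.val hrs)
  · rw [RingEquiv.symm_apply_eq]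
    exact (hθ (algebraMap B' B b') _ (Pι b' a' hab)).symm

end Groth.Agent.S7152
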