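import Groth.Statements.S7153
import Groth.Agent.Lib.ARCongr.Basic

set_option autoImplicit false
universe u
open CAlg

namespace Groth.Agent.S7153

/-- Let A be a Noetherian ring, I an ideal and K → L → M a complex of finite A-modules with maps α, β
and homology H = Ker β / Im α; for n ≥ 0 let H_n be the homology of the induced complex K/IⁿK →
L/IⁿL → M/IⁿM, which is β⁻¹(IⁿM)/(Im α + IⁿL). Then there is c > 0 such that for every n: (i) the
image of H_(n+c) → H_n is contained in, hence equal to, the image of H → H_n; (ii) the kernel and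
the cokernel of H/IⁿH → H_n are annihilated by I^c. Everything is phrased with representatives in L. -/
theorem result (A : Type u) [CommRing A] [IsNoetherianRing A] (I : Ideal A)
    (K L M : Type u) [AddCommGroup K] [Module A K] [Module.Finite A K] [AddCommGroup L] [Module A L]
    [Module.Finite A L] [AddCommGroup M] [Module A M] [Module.Finite A M]
    (α : K →ₗ[A] L) (β : L →ₗ[A] M) (hαβ : β ∘ₗ α = 0) :
    ∃ c : ℕ, 0 < c ∧ ∀ n : ℕ,
      (∀ y ∈ (I ^ (n + c) • ⊤ : Submodule A M).comap β,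
        ∃ z ∈ LinearMap.ker β, y - z ∈ LinearMap.range α ⊔ (I ^ n • ⊤ : Submodule A L)) ∧
      (∀ z ∈ LinearMap.ker β, z ∈ LinearMap.range α ⊔ (I ^ n • ⊤ : Submodule A L) →
        ∀ a ∈ I ^ c, a • z ∈ LinearMap.range α ⊔ I ^ n • LinearMap.ker β) ∧
      (∀ y ∈ (I ^ n • ⊤ : Submodule A M).comap β, ∀ a ∈ I ^ c,
        ∃ z ∈ LinearMap.ker β, a • y - z ∈ LinearMap.range α ⊔ (I ^ n • ⊤ : Submodule A L)) := by
  obtain ⟨k₁, hk₁⟩ := I.exists_pow_inf_eq_pow_smul (LinearMap.range β)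
  obtain ⟨k₂, hk₂⟩ := I.exists_pow_inf_eq_pow_smul (LinearMap.ker β)
  refine ⟨k₁ + k₂ + 1, Nat.succ_pos _, fun n => ?_⟩
  have part1 : ∀ y ∈ (I ^ (n + (k₁ + k₂ + 1)) • ⊤ : Submodule A M).comap β,
      ∃ z ∈ LinearMap.ker β, y - z ∈ LinearMap.range α ⊔ (I ^ n • ⊤ : Submodule A L) := by
    intro y hy
    have h : β y ∈ I ^ (n + (k₁ + k₂ + 1) - k₁) • (I ^ k₁ • ⊤ ⊓ LinearMap.range β) :=
      hk₁ (n + (k₁ + k₂ + 1)) (by omega) ▸ ⟨hy, y, rfl⟩
    have h' : β y ∈ Submodule.map β (I ^ (n + (k₁ + k₂ + 1) - k₁) • ⊤) := by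
      rw [Submodule.map_smul'', Submodule.map_top]
      exact Submodule.smul_mono le_rfl inf_le_right h
    obtain ⟨w, hw, hwy⟩ := h'
    refine ⟨y - w, by rw [LinearMap.mem_ker, map_sub, hwy, sub_self], ?_⟩
    rw [sub_sub_cancel]
    exact Submodule.mem_sup_right (GrothLib.ARCongr.pow_antitone I (by omega) hw)
  refine ⟨part1, fun z hz hz' a ha => ?_, fun y hy a ha => ?_⟩
  · by_cases hn : k₁ + k₂ + 1 ≤ n
    · obtain ⟨_, ⟨k, rfl⟩, l, hl, rfl⟩ := Submodule.mem_sup.1 hz'
      have hlk : l ∈ LinearMap.ker β := by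
        have h0 : β (α k) = 0 := LinearMap.congr_fun hαβ k
        rw [LinearMap.mem_ker, map_add, h0, zero_add] at hz
        exact hz
      have h : l ∈ I ^ (n - k₂) • (I ^ k₂ • ⊤ ⊓ LinearMap.ker β) :=
        hk₂ n (by omega) ▸ ⟨hl, hlk⟩
      rw [smul_add]
      refine Submodule.add_mem_sup ⟨a • k, map_smul _ _ _⟩ ?_
      refine Submodule.smul_mono_left (Ideal.pow_le_pow_right
        (show n ≤ (k₁ + k₂ + 1) + (n - k₂) by omega)) ?_
      rw [pow_add, mul_smul]
      exact Submodule.smul_mem_smul ha (Submodule.smul_mono le_rfl inf_le_right h)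
    · exact Submodule.mem_sup_right (Submodule.smul_mem_smul
        (Ideal.pow_le_pow_right (by omega) ha) hz)
  · refine part1 (a • y) ?_
    rw [Submodule.mem_comap, map_smul, add_comm n, pow_add, mul_smul]
    exact Submodule.smul_mem_smul ha hy

end Groth.Agent.S7153
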