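import Groth.Statements.S7155
import Groth.Agent.Lib.EtRam10.Polar
import Groth.Agent.Lib.EtRam10.ArtinSchreier
import Groth.Agent.Lib.EtRam10.Inseparable
import Groth.Agent.S1984
import Groth.Agent.S6332

set_option autoImplicit false
universe u
open EtAlg

namespace Groth.Agent.S7155

set_option maxHeartbeats 1000000
open TensorProduct Polynomial IsLocalRing GrothLib.EtRam10

/-- A totally ramified `K₁` is a weak solution as soon as, after a change of Artin–Schreier generator, each
local extension over `L K₁` is visibly weakly unramified. -/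
theorem weak_of_step (p : ℕ) [Fact p.Prime] (A B C K L M : Type u)
    [CommRing A] [IsDomain A] [IsDiscreteValuationRing A] [CommRing B] [IsDomain B] [IsDiscreteValuationRing B]
    [CommRing C] [IsDomain C] [IsDiscreteValuationRing C] [Algebra A B] [Algebra B C] [IsLocalHom (algebraMap A B)]
    [IsLocalHom (algebraMap B C)] (hAB : Function.Injective (algebraMap A B))
    [Field K] [Field L] [Field M] [Algebra A K] [IsFractionRing A K] [Algebra B L] [IsFractionRing B L]
    [Algebra C M] [Algebra K L] [Algebra L M] [Algebra K M] [IsScalarTower K L M]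
    [Algebra A L] [IsScalarTower A K L] [IsScalarTower A B L] [Algebra B M] [IsScalarTower B L M] [IsScalarTower B C M]
    [CharP L p] (hw : EtRam.IsWeaklyUnramified A B)
    (z : M) (ξ : L) (hz : algebraMap L M ξ = z ^ p - z) (hgenz : IntermediateField.adjoin L {z} = ⊤)
    (K₁ : Type u) [Field K₁] [Algebra K K₁] [FiniteDimensional K K₁] [Algebra.IsSeparable K K₁]
    (ht : EtRam.IsTotallyRamified A ((algebraMap K K₁).comp (algebraMap A K)))
    (hstep : ∀ (L₁ : Type u) [Field L₁] [Algebra K L₁] [Algebra L L₁] [Algebra K₁ L₁] [Algebra B L₁]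
      [IsScalarTower B L L₁] [IsScalarTower K L L₁] [IsScalarTower K K₁ L₁] [CharP L₁ p] [FiniteDimensional L L₁],
      Algebra.adjoin L (Set.range (algebraMap K₁ L₁)) = ⊤ →
      ∀ (W₁ : ValuationSubring L₁), EtRam.Dominates B (algebraMap B L₁) W₁ →
      ∃ u ξ' : L₁, algebraMap L L₁ ξ = u ^ p - u + ξ' ∧ (ξ' ∈ W₁ ∨ ∃ (ϖ a : W₁) (n : ℕ),
        maximalIdeal W₁ = Ideal.span {ϖ} ∧ 0 < n ∧ p ∣ n ∧ (∀ r : W₁, residue W₁ a ≠ residue W₁ r ^ p) ∧
          ξ' * (ϖ : L₁) ^ n = (a : L₁))) :
    EtRam.IsWeakSolution C K M K₁ := by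
  classical
  intro M' _ _ _ _ _ _ hgen W hW
  letI : Algebra L M' := ((algebraMap M M').comp (algebraMap L M)).toAlgebra
  haveI : IsScalarTower L M M' := .of_algebraMap_eq' rfl
  haveI : IsScalarTower K L M' := .of_algebraMap_eq fun k => by
    rw [IsScalarTower.algebraMap_apply K M M', IsScalarTower.algebraMap_apply K L M]; rfl
  let φT : L ⊗[K] K₁ →ₐ[L] M' :=
    Algebra.TensorProduct.lift (Algebra.ofId L M') (IsScalarTower.toAlgHom K K₁ M') fun _ _ => mul_comm _ _
  haveI : IsArtinianRing (L ⊗[K] K₁) := IsArtinianRing.of_finite L (L ⊗[K] K₁)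
  haveI : (RingHom.ker φT).IsPrime := RingHom.ker_isPrime φT
  haveI hPm : (RingHom.ker φT).IsMaximal := IsArtinianRing.isMaximal_of_isPrime _
  letI : Field ((L ⊗[K] K₁) ⧸ RingHom.ker φT) := Ideal.Quotient.field _
  let jA : ((L ⊗[K] K₁) ⧸ RingHom.ker φT) →ₐ[L] M' := Ideal.kerLiftAlg φT
  letI : Algebra ((L ⊗[K] K₁) ⧸ RingHom.ker φT) M' := jA.toRingHom.toAlgebra
  let f₁ : K₁ →+* ((L ⊗[K] K₁) ⧸ RingHom.ker φT) :=
    (Ideal.Quotient.mk _).comp (Algebra.TensorProduct.includeRight (R := K) (A := L)).toRingHom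
  letI : Algebra K₁ ((L ⊗[K] K₁) ⧸ RingHom.ker φT) := f₁.toAlgebra
  have hjf : ∀ k, algebraMap ((L ⊗[K] K₁) ⧸ RingHom.ker φT) M' (f₁ k) = algebraMap K₁ M' k := fun k => by
    show φT (1 ⊗ₜ k) = _
    simp [φT]
  have hjL : ∀ l, algebraMap ((L ⊗[K] K₁) ⧸ RingHom.ker φT) M' (algebraMap L _ l) = algebraMap L M' l :=
    fun l => jA.commutes l
  haveI : IsScalarTower K K₁ ((L ⊗[K] K₁) ⧸ RingHom.ker φT) := .of_algebraMap_eq fun k => by
    show Ideal.Quotient.mk _ (algebraMap L (L ⊗[K] K₁) (algebraMap K L k)) = Ideal.Quotient.mk _ (1 ⊗ₜ algebraMap K K₁ k)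
    rw [Algebra.TensorProduct.algebraMap_apply, Algebra.algebraMap_self, RingHom.id_apply,
      Algebra.TensorProduct.tmul_one_eq_one_tmul]
  haveI : CharP ((L ⊗[K] K₁) ⧸ RingHom.ker φT) p :=
    charP_of_injective_algebraMap (algebraMap L ((L ⊗[K] K₁) ⧸ RingHom.ker φT)).injective p
  haveI : FiniteDimensional L ((L ⊗[K] K₁) ⧸ RingHom.ker φT) :=
    Module.Finite.of_surjective (Ideal.Quotient.mkₐ L (RingHom.ker φT)).toLinearMap (Ideal.Quotient.mkₐ_surjective L _)
  have hgenL₁ : Algebra.adjoin L (Set.range (algebraMap K₁ ((L ⊗[K] K₁) ⧸ RingHom.ker φT))) = ⊤ := by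
    rw [eq_top_iff]
    intro w hw0
    clear hw0
    obtain ⟨t, rfl⟩ := Ideal.Quotient.mk_surjective w
    induction t using TensorProduct.induction_on with
    | zero => rw [map_zero]; exact zero_mem _
    | tmul l k =>
      have e : l ⊗ₜ[K] k = algebraMap L (L ⊗[K] K₁) l * (1 ⊗ₜ k) := by simp
      rw [e, map_mul]
      exact mul_mem (Subalgebra.algebraMap_mem _ l) (Algebra.subset_adjoin ⟨k, rfl⟩)
    | add s t hs ht => rw [map_add]; exact add_mem hs ht
  have hBM' : ∀ b : B, algebraMap ((L ⊗[K] K₁) ⧸ RingHom.ker φT) M' (algebraMap B _ b) =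
      ((algebraMap M M').comp (algebraMap C M)) (algebraMap B C b) := fun b => by
    rw [IsScalarTower.algebraMap_apply B L ((L ⊗[K] K₁) ⧸ RingHom.ker φT), hjL]
    rw [IsScalarTower.algebraMap_apply L M M', ← IsScalarTower.algebraMap_apply B L M, IsScalarTower.algebraMap_apply B C M]
    rfl
  have hd₁ : EtRam.Dominates B (algebraMap B ((L ⊗[K] K₁) ⧸ RingHom.ker φT))
      (W.comap (algebraMap ((L ⊗[K] K₁) ⧸ RingHom.ker φT) M')) := by
    refine dominates_comap_of_comp _ _ W ⟨fun b => ?_, fun b hb => ?_⟩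
    · rw [RingHom.comp_apply, hBM']; exact hW.1 _
    · rw [RingHom.comp_apply, hBM']; exact hW.2 _ fun hu => hb (IsUnit.of_map (algebraMap B C) b hu)
  haveI := GrothLib.DVRExt.isDiscreteValuationRing_of_dominates B L ((L ⊗[K] K₁) ⧸ RingHom.ker φT) _ hd₁
  have hd₁' : EtRam.Dominates B ((algebraMap L ((L ⊗[K] K₁) ⧸ RingHom.ker φT)).comp (algebraMap B L))
      (W.comap (algebraMap ((L ⊗[K] K₁) ⧸ RingHom.ker φT) M')) := by
    rw [← IsScalarTower.algebraMap_eq]; exact hd₁
  obtain ⟨-, hK₁W₁⟩ := Groth.Agent.S1984.key A B K L hAB hw K₁ ht ((L ⊗[K] K₁) ⧸ RingHom.ker φT) hgenL₁ _ hd₁'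
  obtain ⟨u, ξ', hu, hcase⟩ := hstep ((L ⊗[K] K₁) ⧸ RingHom.ker φT) hgenL₁ _ hd₁
  set z' : M' := algebraMap M M' z - algebraMap _ M' u with hz'def
  haveI : CharP M' p := charP_of_injective_algebraMap (algebraMap ((L ⊗[K] K₁) ⧸ RingHom.ker φT) M').injective p
  have hz' : z' ^ p - z' = algebraMap ((L ⊗[K] K₁) ⧸ RingHom.ker φT) M' ξ' := by
    have h1 : algebraMap M M' z ^ p - algebraMap M M' z =
        algebraMap ((L ⊗[K] K₁) ⧸ RingHom.ker φT) M' (u ^ p - u + ξ') := by
      rw [← hu, hjL, ← map_pow, ← map_sub, ← hz]; rfl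
    rw [map_add, map_sub, map_pow] at h1
    rw [hz'def, sub_pow_char]
    linear_combination h1
  have hgen' : IntermediateField.adjoin ((L ⊗[K] K₁) ⧸ RingHom.ker φT) {z'} = ⊤ := by
    rw [eq_top_iff]
    intro w hw0
    clear hw0
    have hz0 : algebraMap M M' z ∈ IntermediateField.adjoin ((L ⊗[K] K₁) ⧸ RingHom.ker φT) {z'} := by
      rw [show algebraMap M M' z = z' + algebraMap _ M' u by rw [hz'def, sub_add_cancel]]
      exact add_mem (IntermediateField.mem_adjoin_simple_self _ _) (IntermediateField.algebraMap_mem _ u)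
    have hzI : IsIntegral L z := ⟨X ^ p - (X + Polynomial.C ξ), monic_as ξ, aeval_as ξ z hz.symm⟩
    have hw : w ∈ Algebra.adjoin M (Set.range (algebraMap K₁ M')) := hgen ▸ Algebra.mem_top
    induction hw using Algebra.adjoin_induction with
    | mem w hw =>
      obtain ⟨k, rfl⟩ := hw
      rw [← hjf k]
      exact IntermediateField.algebraMap_mem _ _
    | algebraMap m =>
      obtain ⟨G, rfl⟩ := exists_aeval_of_adjoin_eq_top z hzI hgenz m
      rw [← aeval_algebraMap_apply, aeval_eq_sum_range]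
      refine sum_mem fun i _ => ?_
      rw [Algebra.smul_def, ← hjL]
      exact mul_mem (IntermediateField.algebraMap_mem _ _) (pow_mem hz0 _)
    | add a b _ _ ha hb => exact add_mem ha hb
    | mul a b _ _ ha hb => exact mul_mem ha hb
  letI : Algebra (W.comap (algebraMap ((L ⊗[K] K₁) ⧸ RingHom.ker φT) M')) M' :=
    ((algebraMap ((L ⊗[K] K₁) ⧸ RingHom.ker φT) M').comp (ValuationSubring.subtype _)).toAlgebra
  haveI : IsScalarTower (W.comap (algebraMap ((L ⊗[K] K₁) ⧸ RingHom.ker φT) M'))
      ((L ⊗[K] K₁) ⧸ RingHom.ker φT) M' := .of_algebraMap_eq' rfl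
  have hWd : EtRam.Dominates (W.comap (algebraMap ((L ⊗[K] K₁) ⧸ RingHom.ker φT) M'))
      (algebraMap (W.comap (algebraMap ((L ⊗[K] K₁) ⧸ RingHom.ker φT) M')) M') W :=
    ⟨fun b => b.2, fun b hb => lt_of_le_of_ne ((W.valuation_le_one_iff _).mpr b.2) fun h1 =>
      hb (IsUnit.of_map (EtRam.inclOfComap W (algebraMap ((L ⊗[K] K₁) ⧸ RingHom.ker φT) M')) b
        ((W.valuation_eq_one_iff _).mpr h1))⟩
  have hW₁W : (maximalIdeal (W.comap (algebraMap ((L ⊗[K] K₁) ⧸ RingHom.ker φT) M'))).map
      (EtRam.inclOfComap W (algebraMap ((L ⊗[K] K₁) ⧸ RingHom.ker φT) M')) = maximalIdeal W := by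
    letI : Algebra (W.comap (algebraMap ((L ⊗[K] K₁) ⧸ RingHom.ker φT) M')) W :=
      (RingHom.codRestrict (algebraMap (W.comap (algebraMap ((L ⊗[K] K₁) ⧸ RingHom.ker φT) M')) M') W hWd.1).toAlgebra
    haveI : IsLocalHom (algebraMap (W.comap (algebraMap ((L ⊗[K] K₁) ⧸ RingHom.ker φT) M')) W) :=
      isLocalHom_of_dominates _ W hWd
    rcases hcase with hmem | ⟨ϖ, a, n, hϖ, hn, hpn, hna, he⟩
    · obtain ⟨ϖ, hϖ⟩ := IsDiscreteValuationRing.exists_irreducible
        (W.comap (algebraMap ((L ⊗[K] K₁) ⧸ RingHom.ker φT) M'))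
      exact (as_unramified ξ' z' hz' hgen' hϖ.maximalIdeal_eq ⟨ξ', hmem⟩ rfl W hWd).1
    · exact ((as_inseparable ξ' z' hz' hgen' hϖ hn hpn hna he).2.2 W hWd).1
  letI : Algebra (W.comap (algebraMap K₁ M')) W := (EtRam.inclOfComap W (algebraMap K₁ M')).toAlgebra
  show (maximalIdeal (W.comap (algebraMap K₁ M'))).map (EtRam.inclOfComap W (algebraMap K₁ M')) = maximalIdeal W
  have e : (algebraMap ((L ⊗[K] K₁) ⧸ RingHom.ker φT) M').comp (algebraMap K₁ ((L ⊗[K] K₁) ⧸ RingHom.ker φT)) =
      algebraMap K₁ M' := RingHom.ext hjf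
  rw [← e]
  exact weaklyUnramified_comp _ _ W hK₁W₁ hW₁W


/-- Let A → B → C be injective local homomorphisms of discrete valuation rings whose fields of fractions
are K ⊆ L ⊆ M, where A → B is weakly unramified, K has characteristic p, M/L is Galois of degree p,
and κ_A, inside κ_B, is exactly the set of elements admitting a pⁿ-th root for every n. Then some
finite separable extension K₁/K that is totally ramified with respect to A is a weak solution for A
→ C. (The published statement asks for K₁/K Galois; this row asks only that K₁/K be separable, which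
is what the printed construction provides.) -/
theorem result (p : ℕ) (hp : p.Prime) (A B C K L M : Type u)
    [CommRing A] [IsDomain A] [IsDiscreteValuationRing A] [CommRing B] [IsDomain B] [IsDiscreteValuationRing B]
    [CommRing C] [IsDomain C] [IsDiscreteValuationRing C]
    [Algebra A B] [Algebra B C] [Algebra A C] [IsScalarTower A B C]
    (hAB : Function.Injective (algebraMap A B)) (hBC : Function.Injective (algebraMap B C))
    [IsLocalHom (algebraMap A B)] [IsLocalHom (algebraMap B C)]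
    [Field K] [Field L] [Field M] [Algebra A K] [IsFractionRing A K] [Algebra B L] [IsFractionRing B L]
    [Algebra C M] [IsFractionRing C M] [Algebra K L] [Algebra L M] [Algebra K M] [IsScalarTower K L M]
    [Algebra A L] [IsScalarTower A K L] [IsScalarTower A B L] [Algebra B M] [IsScalarTower B L M] [IsScalarTower B C M]
    [Algebra A M] [IsScalarTower A K M] [IsScalarTower A C M]
    (hw : EtRam.IsWeaklyUnramified A B) [CharP K p] [IsGalois L M] (hdeg : Module.finrank L M = p)
    (hk : ∀ x : IsLocalRing.ResidueField B, (∀ n : ℕ, ∃ y : IsLocalRing.ResidueField B, y ^ (p ^ n) = x) ↔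
      x ∈ Set.range (algebraMap (IsLocalRing.ResidueField A) (IsLocalRing.ResidueField B))) :
    ∃ (K₁ : Type u) (_ : Field K₁) (_ : Algebra K K₁), FiniteDimensional K K₁ ∧ Algebra.IsSeparable K K₁ ∧
      EtRam.IsTotallyRamified A ((algebraMap K K₁).comp (algebraMap A K)) ∧ EtRam.IsWeakSolution C K M K₁ := by
  classical
  haveI := Fact.mk hp
  haveI hcL : CharP L p := charP_of_injective_algebraMap (algebraMap K L).injective p
  haveI hcM : CharP M p := charP_of_injective_algebraMap (algebraMap L M).injective p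
  haveI hcB : CharP B p := (RingHom.charP_iff _ (IsFractionRing.injective B L) p).mpr hcL
  haveI hck : CharP (ResidueField B) p := (CharP.charP_iff_prime_eq_zero hp).mpr (by
    rw [← map_natCast (residue B), CharP.cast_eq_zero B p, map_zero])
  haveI : FiniteDimensional L M := Module.finite_of_finrank_pos (hdeg ▸ hp.pos)
  obtain ⟨z, ⟨ξ, hξ⟩, hgenz⟩ := Groth.Agent.S6332.result (K := L) (L := M) p hdeg
  -- uniformizers
  obtain ⟨π, hπi⟩ := IsDiscreteValuationRing.exists_irreducible A
  have hπ := hπi.maximalIdeal_eq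
  set πB : B := algebraMap A B π with hπBdef
  have hπB : maximalIdeal B = Ideal.span {πB} := by
    rw [← show (maximalIdeal A).map (algebraMap A B) = _ from hw, hπ, Ideal.map_span, Set.image_singleton]
  have hπBi : Irreducible πB := (IsDiscreteValuationRing.irreducible_iff_uniformizer πB).mpr hπB
  have hπm : π ∈ maximalIdeal A := hπ ▸ Ideal.mem_span_singleton_self π
  have hπBm : πB ∈ maximalIdeal B := hπB ▸ Ideal.mem_span_singleton_self πB
  have hπL0 : algebraMap B L πB ≠ 0 :=
    (_root_.map_ne_zero_iff _ (IsFractionRing.injective B L)).mpr hπBi.ne_zero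
  -- `ξ π^n ∈ B`
  obtain ⟨n, b, hn, hb⟩ : ∃ (n : ℕ) (b : B), 0 < n ∧ ξ * algebraMap B L πB ^ n = algebraMap B L b := by
    obtain ⟨a, c, hc, rfl⟩ := IsFractionRing.div_surjective (A := B) ξ
    obtain ⟨D, w, rfl⟩ := IsDiscreteValuationRing.eq_unit_mul_pow_irreducible (nonZeroDivisors.ne_zero hc) hπBi
    refine ⟨D + 1, a * ↑w⁻¹ * πB, D.succ_pos, ?_⟩
    simp only [map_mul, map_units_inv, map_pow]
    field_simp
    ring
  set P := n * p ^ n + 1 with hP
  obtain ⟨s, σ, hσσ⟩ := exists_section_mod B p hπB (P := P) (Nat.succ_pos _)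
  have hσ := fun x => (hσσ x).1
  have hσr := fun x => (hσσ x).2
  obtain ⟨d₀, b₀, hb₀⟩ := exists_expansion B hπB σ hσr b n
  set d : ℕ → ResidueField B := fun i => d₀ (n - i) with hd
  have hξexp : ξ = (∑ i ∈ Finset.Icc 1 n, algebraMap B L (σ (d i)) * (algebraMap B L πB)⁻¹ ^ i) + algebraMap B L b₀ := by
    have h1 : ξ = (∑ k ∈ Finset.range n, algebraMap B L (σ (d₀ k)) * algebraMap B L πB ^ k *
        (algebraMap B L πB ^ n)⁻¹) + algebraMap B L b₀ := by
      have h2 : algebraMap B L b = (∑ k ∈ Finset.range n, algebraMap B L (σ (d₀ k)) * algebraMap B L πB ^ k) +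
          algebraMap B L πB ^ n * algebraMap B L b₀ := by
        rw [sub_eq_iff_eq_add] at hb₀
        rw [hb₀]
        simp only [map_add, map_mul, map_pow, map_sum]
        ring
      rw [← Finset.sum_mul]
      field_simp
      linear_combination hb + h2
    rw [h1]
    congr 1
    refine Finset.sum_nbij' (fun k => n - k) (fun i => n - i) ?_ ?_ ?_ ?_ ?_
    · intro k hk; simp only [Finset.coe_range, Set.mem_Iio, Finset.coe_Icc, Set.mem_Icc, Finset.mem_range, Finset.mem_Icc, Finset.mem_coe] at hk ⊢; omega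
    · intro i hi; simp only [Finset.coe_range, Set.mem_Iio, Finset.coe_Icc, Set.mem_Icc, Finset.mem_range, Finset.mem_Icc, Finset.mem_coe] at hi ⊢; omega
    · intro k hk; simp only [Finset.coe_range, Set.mem_Iio, Finset.mem_range, Finset.mem_coe] at hk; show n - (n - k) = k; omega
    · intro i hi; simp only [Finset.coe_Icc, Set.mem_Icc, Finset.mem_Icc, Finset.mem_coe] at hi; show n - (n - i) = i; omega
    · intro k hk
      simp only [Finset.coe_range, Set.mem_Iio, Finset.mem_range, Finset.mem_coe] at hk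
      show _ = algebraMap B L (σ (d₀ (n - (n - k)))) * _
      rw [show n - (n - k) = k by omega, mul_assoc, inv_pow, pow_sub₀ _ hπL0 hk.le, mul_inv, inv_inv]
      ring
  set e : ℕ → ResidueField B := combined p n d with he
  set J := primeParts p n with hJ
  -- the perfect field `κ_A`
  have hroot : ∀ x ∈ Set.range (algebraMap (ResidueField A) (ResidueField B)), ∀ k : ℕ,
      ∃ y ∈ Set.range (algebraMap (ResidueField A) (ResidueField B)), y ^ p ^ k = x := by
    intro x hx k
    obtain ⟨y, hy⟩ := (hk x).mpr hx k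
    refine ⟨y, (hk y).mp fun m => ?_, hy⟩
    obtain ⟨w, hw'⟩ := (hk x).mpr hx (m + k)
    refine ⟨w, iterateFrobenius_inj (ResidueField B) p k ?_⟩
    show (w ^ p ^ m) ^ p ^ k = y ^ p ^ k
    rw [← pow_mul, ← pow_add, hw', hy]
  by_cases hall : ∀ j ∈ J, e j ∈ Set.range (algebraMap (ResidueField A) (ResidueField B))
  · -- everything comes from `K`
    have hf : ∀ j, ∃ f : ResidueField B, j ∈ J →
        f ∈ Set.range (algebraMap (ResidueField A) (ResidueField B)) ∧ f ^ p ^ n = e j := by
      intro j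
      by_cases hj : j ∈ J
      · obtain ⟨f, hf1, hf2⟩ := hroot _ (hall j hj) n
        exact ⟨f, fun _ => ⟨hf1, hf2⟩⟩
      · exact ⟨0, fun h => absurd h hj⟩
    choose f hf using hf
    -- lifts to `A`
    have hlift : ∀ x ∈ Set.range (algebraMap (ResidueField A) (ResidueField B)),
        ∃ a : A, πB ^ P ∣ σ x - algebraMap A B a := by
      intro x hx
      obtain ⟨y, ⟨y₀, rfl⟩, hy⟩ := hroot x hx P
      obtain ⟨a, rfl⟩ := residue_surjective y₀
      refine ⟨a ^ p ^ P, ?_⟩
      have h1 : πB ∣ σ (algebraMap (ResidueField A) (ResidueField B) (residue A a)) - algebraMap A B a := by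
        rw [← Ideal.mem_span_singleton, ← hπB, ← IsLocalRing.residue_eq_zero_iff, map_sub, hσr]
        exact sub_self _
      have h2 : πB ^ P ∣ σ (algebraMap (ResidueField A) (ResidueField B) (residue A a)) ^ p ^ P - algebraMap A B a ^ p ^ P := by
        rw [← sub_pow_char_pow]
        exact (pow_dvd_pow πB (Nat.lt_pow_self hp.one_lt).le).trans (pow_dvd_pow_of_dvd h1 _)
      have h3 := dvd_sigma_pow s σ hσ (algebraMap (ResidueField A) (ResidueField B) (residue A a)) (p ^ P)
      rw [hy] at h3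
      have := dvd_add h3 h2
      rw [sub_add_sub_cancel] at this
      rwa [map_pow]
    choose aA haA using fun j => fun h : j ∈ J => hlift (f j) (hf j h).1
    set J' := J.filter (fun j => f j ≠ 0) with hJ'
    let a' : ℕ → A := fun j => if h : j ∈ J then aA j h else 0
    set α : K := ∑ j ∈ J', algebraMap A K (a' j) * (algebraMap A K π)⁻¹ ^ j with hα
    have hAL : ∀ r : A, algebraMap K L (algebraMap A K r) = algebraMap B L (algebraMap A B r) := fun r => by
      rw [← IsScalarTower.algebraMap_apply, ← IsScalarTower.algebraMap_apply]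
    -- the congruence in `L`
    obtain ⟨u, hu⟩ : ∃ u : L, ∃ b' : B, ξ = u ^ p - u + algebraMap K L α + algebraMap B L b' := by
      let VB : ValuationSubring L := ⟨(algebraMap B L).range, ValuationRing.isInteger_or_isInteger B⟩
      have hVB : EtRam.Dominates B (algebraMap B L) VB := by
        refine ⟨fun b => ⟨b, rfl⟩, fun b hb => ?_⟩
        refine (VB.valuation_lt_one_iff ⟨_, b, rfl⟩).mp fun hu => ?_
        obtain ⟨⟨y, yB, hy⟩, hy'⟩ := hu.exists_right_inv
        refine hb (IsUnit.of_mul_eq_one yB ?_)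
        apply IsFractionRing.injective B L
        have h3 := congrArg Subtype.val hy'
        rw [map_mul, hy, map_one]
        exact h3
      have hred := polar_reduce (p := p) s σ hσ (W := VB) (algebraMap B L) hVB (X := algebraMap B L πB) (q := 1)
        (hVB.2 _ hπBm) hπL0 (pow_one _) (n := n) (N := 0) (pow_zero p).symm (Nat.le_succ _) d f (fun _ => n)
        (fun j hj => ⟨le_rfl, (hf j hj).2⟩) (fun i _ => by simp)
      have hb₀mem : algebraMap B L b₀ ∈ asGroup (p := p) VB :=
        mem_asGroup_of_le VB ((VB.valuation_le_one_iff _).mpr ⟨b₀, rfl⟩)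
      have hterms : (∑ j ∈ primeParts p n, polarTerm σ (algebraMap B L) (algebraMap B L πB) (f j) (j * p ^ (n + 0 - n))) -
          algebraMap K L α ∈ asGroup (p := p) VB := by
        rw [hα, map_sum, hJ', ← hJ, Finset.sum_filter, ← Finset.sum_sub_distrib]
        refine sum_mem fun j hj => mem_asGroup_of_le VB ?_
        have hjn := (of_mem_primeParts hp hj).2.2
        have hjP : j ≤ 1 * P := by
          have : 1 ≤ p ^ n := Nat.one_le_pow _ _ hp.pos
          have := Nat.mul_le_mul hjn this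
          omega
        rw [Nat.add_zero, Nat.sub_self, pow_zero, mul_one, polarTerm]
        have hX1 := hVB.2 _ hπBm
        by_cases hf0 : f j = 0
        · rw [if_neg (by simpa using hf0), sub_zero, hf0]
          exact valuation_small (algebraMap B L) hVB hX1 hπL0 (pow_one _) (dvd_sigma_zero s σ hσ) hjP
        · rw [if_pos hf0, map_mul, map_pow, map_inv₀, hAL, hAL, ← hπBdef, ← sub_mul, ← map_sub]
          refine valuation_small (algebraMap B L) hVB hX1 hπL0 (pow_one _) ?_ hjP
          simp only [a', dif_pos hj]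
          exact haA j hj
      have htot := add_mem (add_mem hred hterms) hb₀mem
      obtain ⟨u, hu⟩ := htot
      obtain ⟨b', hb'⟩ := (VB.valuation_le_one_iff _).mp hu
      refine ⟨u, b', ?_⟩
      rw [hb', hξexp]
      ring
    obtain ⟨b', hb'⟩ := hu
    -- the extension `K₁`
    obtain ⟨K₁, _, _, hfd, hsep, w, hwα, htr⟩ : ∃ (K₁ : Type u) (_ : Field K₁) (_ : Algebra K K₁)
        (_ : FiniteDimensional K K₁) (_ : Algebra.IsSeparable K K₁) (w : K₁),
        w ^ p - w = algebraMap K K₁ α ∧ EtRam.IsTotallyRamified A ((algebraMap K K₁).comp (algebraMap A K)) := by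
      rcases J'.eq_empty_or_nonempty with hemp | hne
      · obtain ⟨K₁, _, _, hfd, x, -, -, -, hsep, htr⟩ := exists_ext (K := K) hπ hp.one_lt (m := 2) one_lt_two
        exact ⟨K₁, inferInstance, inferInstance, hfd, hsep, 0,
          by rw [hα, hemp, Finset.sum_empty, map_zero, zero_pow hp.ne_zero, sub_zero], htr⟩
      · set Jm := J'.max' hne with hJm
        have hJmJ := Finset.mem_filter.mp (J'.max'_mem hne)
        obtain ⟨hpJm, hJm0, -⟩ := of_mem_primeParts hp hJmJ.1
        set a : A := ∑ j ∈ J', a' j * π ^ (Jm - j) with ha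
        have hπK : algebraMap A K π ≠ 0 :=
          (_root_.map_ne_zero_iff _ (IsFractionRing.injective A K)).mpr hπi.ne_zero
        have haeq : α * algebraMap A K π ^ Jm = algebraMap A K a := by
          rw [hα, Finset.sum_mul, ha, map_sum]
          refine Finset.sum_congr rfl fun j hj => ?_
          have hjle : j ≤ Jm := J'.le_max' j hj
          rw [map_mul, map_pow, mul_assoc, pow_sub₀ _ hπK hjle, inv_pow]
          ring
        have ham : a ∉ maximalIdeal A := by
          intro hmem
          have h1 : a' Jm ∈ maximalIdeal A := by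
            have h2 : a - a' Jm ∈ maximalIdeal A := by
              rw [ha, ← Finset.add_sum_erase _ _ (J'.max'_mem hne), ← hJm, Nat.sub_self, pow_zero, mul_one,
                add_sub_cancel_left]
              refine sum_mem fun j hj => Ideal.mul_mem_left _ _ (Ideal.pow_mem_of_mem _ hπm _ ?_)
              have hjle : j ≤ Jm := J'.le_max' j (Finset.mem_of_mem_erase hj)
              have := (Finset.mem_erase.mp hj).1
              omega
            simpa using sub_mem hmem h2
          refine hJmJ.2 ?_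
          have h3 : algebraMap A B (a' Jm) ∈ maximalIdeal B := fun hu => h1 (IsUnit.of_map (algebraMap A B) _ hu)
          have h4 : σ (f Jm) - algebraMap A B (a' Jm) ∈ maximalIdeal B := by
            rw [hπB, Ideal.mem_span_singleton]
            rw [show a' Jm = aA Jm hJmJ.1 from dif_pos hJmJ.1]
            exact (dvd_pow_self πB (show P ≠ 0 by omega)).trans (haA Jm hJmJ.1)
          have h5 := add_mem h4 h3
          rw [sub_add_cancel, ← residue_eq_zero_iff, hσr] at h5
          exact h5
        set g : K[X] := X ^ p - (X + Polynomial.C α) with hg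
        have hgn : g.natDegree = p := natDegree_as α
        obtain ⟨h, hirr, hdvd⟩ := WfDvdMonoid.exists_irreducible_factor
          (not_isUnit_of_natDegree_pos g (hgn ▸ hp.pos)) (monic_as α).ne_zero
        haveI := Fact.mk hirr
        suffices key : ∀ (K₁ : Type u) [Field K₁] [Algebra K K₁] (w : K₁), aeval w g = 0 →
            IntermediateField.adjoin K {w} = ⊤ → FiniteDimensional K K₁ ∧ Algebra.IsSeparable K K₁ ∧
            w ^ p - w = algebraMap K K₁ α ∧ EtRam.IsTotallyRamified A ((algebraMap K K₁).comp (algebraMap A K)) by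
          obtain ⟨h1, h2, h3, h4⟩ := key (AdjoinRoot h) (AdjoinRoot.root h) (by
            obtain ⟨c, hc⟩ := hdvd
            rw [hc, map_mul, AdjoinRoot.aeval_eq, AdjoinRoot.mk_self, zero_mul]) (by
            exact IntermediateField.adjoin_eq_top_of_algebra K _ AdjoinRoot.adjoinRoot_eq_top)
          exact ⟨AdjoinRoot h, inferInstance, inferInstance, h1, h2, _, h3, h4⟩
        intro K₁ _ _ w hw0 htop
        have hwα : w ^ p - w = algebraMap K K₁ α := by
          simp only [hg, map_sub, map_add, map_pow, aeval_X, aeval_C, map_zero] at hw0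
          linear_combination hw0
        haveI := (as_finite α w hwα htop).1
        haveI := as_isGalois α w hwα htop
        letI : Algebra A K₁ := ((algebraMap K K₁).comp (algebraMap A K)).toAlgebra
        haveI : IsScalarTower A K K₁ := .of_algebraMap_eq' rfl
        exact ⟨inferInstance, inferInstance, hwα,
          (as_totallyRamified α w hwα htop hπ hJm0 hpJm ham haeq).1⟩
    haveI := hfd
    haveI := hsep
    refine ⟨K₁, inferInstance, inferInstance, hfd, hsep, htr,
      weak_of_step p A B C K L M hAB hw z ξ hξ hgenz K₁ htr ?_⟩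
    intro L₁ _ _ _ _ _ _ _ _ _ _ _ W₁ hW₁
    refine ⟨algebraMap L L₁ u + algebraMap K₁ L₁ w, algebraMap B L₁ b', ?_, Or.inl (hW₁.1 b')⟩
    have h1 : algebraMap L L₁ (algebraMap K L α) = algebraMap K₁ L₁ w ^ p - algebraMap K₁ L₁ w := by
      rw [← IsScalarTower.algebraMap_apply K L L₁, IsScalarTower.algebraMap_apply K K₁ L₁, ← hwα, map_sub, map_pow]
    rw [hb', map_add, map_add, map_sub, map_pow, ← IsScalarTower.algebraMap_apply B L L₁, h1, add_pow_char]
    ring
  · -- some coefficient is not in `κ_A`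
    push Not at hall
    obtain ⟨jb, hjb, hjbbad⟩ := hall
    have hR : ∀ j, ∃ (R : ℕ) (f : ResidueField B), e j ∉ Set.range (algebraMap (ResidueField A) (ResidueField B)) →
        f ^ p ^ R = e j ∧ ∀ y, f ≠ y ^ p := by
      intro j
      by_cases hj : e j ∈ Set.range (algebraMap (ResidueField A) (ResidueField B))
      · exact ⟨0, 0, fun h => absurd hj h⟩
      have hex : ∃ k : ℕ, ¬ ∃ y : ResidueField B, y ^ p ^ k = e j := by
        by_contra hcon
        push Not at hcon
        exact hj ((hk _).mp hcon)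
      have hfind := Nat.find_spec hex
      have h0 : Nat.find hex ≠ 0 := fun h => hfind ⟨e j, by rw [h, pow_zero, pow_one]⟩
      obtain ⟨f, hf⟩ := not_not.mp (Nat.find_min hex (Nat.sub_lt (Nat.pos_of_ne_zero h0) one_pos))
      refine ⟨Nat.find hex - 1, f, fun _ => ⟨hf, fun y hy => hfind ⟨y, ?_⟩⟩⟩
      rw [show Nat.find hex = 1 + (Nat.find hex - 1) by omega, pow_add, pow_one, pow_mul, ← hy, hf]
    choose R fb hRfb using hR
    set N := J.sup R + 1 with hN
    have hchoice : ∀ j, ∃ (r : ℕ) (f : ResidueField B), j ∈ J → r ≤ n + N ∧ f ^ p ^ r = e j ∧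
        (e j ∈ Set.range (algebraMap (ResidueField A) (ResidueField B)) → r = n + N) ∧
        (e j ∉ Set.range (algebraMap (ResidueField A) (ResidueField B)) → r < N ∧ ∀ y, f ≠ y ^ p) := by
      intro j
      by_cases hj : e j ∈ Set.range (algebraMap (ResidueField A) (ResidueField B))
      · obtain ⟨f, -, hf⟩ := hroot _ hj (n + N)
        exact ⟨n + N, f, fun _ => ⟨le_rfl, hf, fun _ => rfl, fun h => absurd hj h⟩⟩
      · refine ⟨R j, fb j, fun hjJ => ?_⟩
        have h1 : R j ≤ J.sup R := Finset.le_sup hjJ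
        exact ⟨by omega, (hRfb j hj).1, fun h => absurd h hj, fun _ => ⟨by omega, (hRfb j hj).2⟩⟩
    choose r f hrf using hchoice
    -- exponents
    set E : ℕ → ℕ := fun j => j * p ^ (n + N - r j) with hE
    obtain ⟨js, hjs, hjsmax⟩ := Finset.exists_max_image J E ⟨jb, hjb⟩
    have hEbad : ∀ j ∈ J, e j ∉ Set.range (algebraMap (ResidueField A) (ResidueField B)) → p ∣ E j ∧ n < E j := by
      intro j hj hbad
      obtain ⟨-, -, -, hb'⟩ := hrf j hj
      have h1 := (hb' hbad).1
      refine ⟨(dvd_pow_self p (by omega)).mul_left j, ?_⟩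
      calc n < p ^ n := Nat.lt_pow_self hp.one_lt
        _ ≤ p ^ (n + N - r j) := Nat.pow_le_pow_right hp.pos (by omega)
        _ ≤ E j := Nat.le_mul_of_pos_left _ (of_mem_primeParts hp hj).2.1
    have hjsbad : e js ∉ Set.range (algebraMap (ResidueField A) (ResidueField B)) := by
      intro hgood
      have h1 := (hEbad jb hjb hjbbad).2.trans_le (hjsmax jb hjb)
      simp only [hE, (hrf js hjs).2.2.1 hgood, Nat.sub_self, pow_zero, mul_one] at h1
      exact absurd (of_mem_primeParts hp hjs).2.2 (not_le.mpr h1)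
    obtain ⟨hpE, hnE⟩ := hEbad js hjs hjsbad
    have hnp : ∀ y, f js ≠ y ^ p := ((hrf js hjs).2.2.2 hjsbad).2
    have hother : ∀ j ∈ J, j ≠ js → E j < E js := fun j hj hne =>
      lt_of_le_of_ne (hjsmax j hj) fun heq =>
        hne (eq_of_mul_pow_eq hp (of_mem_primeParts hp hj).1 (of_mem_primeParts hp hjs).1 heq).1
    -- the extension
    set q := p ^ N with hq
    have hq1 : 1 < q := Nat.one_lt_pow (Nat.succ_ne_zero _) hp.one_lt
    obtain ⟨K₁, _, _, hfd, x, hx, hgenx, hfin, hsep, htr⟩ := exists_ext (K := K) hπ hq1 (m := n + 2) (by omega)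
    haveI := hfd
    haveI := hsep
    refine ⟨K₁, inferInstance, inferInstance, hfd, hsep, htr,
      weak_of_step p A B C K L M hAB hw z ξ hξ hgenz K₁ htr ?_⟩
    intro L₁ _ _ _ _ _ _ _ _ _ _ hgenL₁ W₁ hW₁
    have hAL₁ : ∀ r : A, algebraMap K₁ L₁ (algebraMap K K₁ (algebraMap A K r)) = algebraMap B L₁ (algebraMap A B r) := fun r => by
      rw [← IsScalarTower.algebraMap_apply K K₁ L₁, IsScalarTower.algebraMap_apply K L L₁, ← IsScalarTower.algebraMap_apply A K L,
        IsScalarTower.algebraMap_apply A B L, ← IsScalarTower.algebraMap_apply B L L₁]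
    set X₁ : L₁ := algebraMap K₁ L₁ x with hX₁
    have hx₁ : X₁ ^ q = algebraMap B L₁ πB + algebraMap B L₁ (πB ^ (n + 2)) * X₁ := by
      rw [hX₁, ← map_pow, hx, map_add, map_mul, hAL₁, hAL₁, map_pow (algebraMap A B)]
    have hc1 : πB ^ (n + 1) ∈ maximalIdeal B := Ideal.pow_mem_of_mem _ hπBm _ (Nat.succ_pos _)
    have hc2 : πB ^ (n + 2) ∈ maximalIdeal B := Ideal.pow_mem_of_mem _ hπBm _ (Nat.succ_pos _)
    have hcc : πB ^ (n + 2) = πB * πB ^ (n + 1) := by rw [← pow_succ']
    have hxq : ∀ V : ValuationSubring L₁, EtRam.Dominates B (algebraMap B L₁) V →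
        V.valuation X₁ ^ q = V.valuation (algebraMap B L₁ πB) := fun V h =>
      valuation_x_pow hπB hc2 X₁ hx₁ hc1 hcc h (by omega)
    have hX1 : W₁.valuation X₁ < 1 := valuation_x_lt_one hπB hc2 X₁ hx₁ hW₁ (by omega)
    have hXpos : 0 < W₁.valuation X₁ := valuation_gen_pos L hπB X₁ hxq hW₁ (by omega)
    have hX0 : X₁ ≠ 0 := fun h0 => hXpos.ne' (by rw [h0, map_zero])
    have hπ10 : algebraMap B L₁ πB ≠ 0 := by
      rw [IsScalarTower.algebraMap_apply B L L₁, _root_.map_ne_zero]; exact hπL0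
    -- `π^{-i}` and `X^{-qi}`
    have hT : ∀ i ≤ n, W₁.valuation ((algebraMap B L₁ πB)⁻¹ ^ i - X₁⁻¹ ^ (q * i)) ≤ 1 := by
      intro i hi
      have hXq0 : X₁ ^ q ≠ 0 := pow_ne_zero _ hX0
      have hvπpos : 0 < W₁.valuation (algebraMap B L₁ πB) := zero_lt_iff.mpr ((Valuation.ne_zero_iff _).mpr hπ10)
      have hd1 : W₁.valuation (1 - algebraMap B L₁ πB / X₁ ^ q) ≤ W₁.valuation (algebraMap B L₁ πB) ^ (n + 1) := by
        rw [one_sub_div hXq0, hx₁, add_sub_cancel_left, ← hx₁, map_div₀, map_mul, map_pow W₁.valuation X₁, hxq W₁ hW₁,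
          map_pow (algebraMap B L₁), map_pow, pow_succ _ (n + 1), mul_right_comm, mul_div_cancel_right₀ _ hvπpos.ne']
        exact mul_le_of_le_one_right' hX1.le
      have hd1' : W₁.valuation (algebraMap B L₁ πB / X₁ ^ q) ≤ 1 := by
        rw [map_div₀, map_pow, hxq W₁ hW₁, div_self hvπpos.ne']
      have hd2 := (valuation_pow_sub_pow_le W₁ (le_of_eq W₁.valuation.map_one) hd1' i).trans hd1
      rw [one_pow] at hd2
      rw [pow_mul, inv_pow, inv_pow, inv_pow,
        show (algebraMap B L₁ πB ^ i)⁻¹ - ((X₁ ^ q) ^ i)⁻¹ =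
          (algebraMap B L₁ πB ^ i)⁻¹ * (1 - (algebraMap B L₁ πB / X₁ ^ q) ^ i) by
            rw [div_pow]; field_simp,
        map_mul, map_inv₀, map_pow]
      refine (mul_le_mul_of_nonneg_left hd2 zero_le').trans ?_
      rw [← div_eq_inv_mul, div_le_one₀ (pow_pos hvπpos i)]
      exact pow_le_pow_right_of_le_one' (hW₁.2 _ hπBm).le (by omega)
    have hred := polar_reduce (p := p) s σ hσ (W := W₁) (algebraMap B L₁) hW₁ (X := X₁) (q := q) hX1 hX0
      (hxq W₁ hW₁) (n := n) (N := N) hq (Nat.le_succ _) d f r (fun j hj => ⟨(hrf j hj).1, (hrf j hj).2.1⟩) hT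
    obtain ⟨u, hu⟩ := hred
    set η : L₁ := ∑ j ∈ primeParts p n, polarTerm σ (algebraMap B L₁) X₁ (f j) (j * p ^ (n + N - r j)) with hη
    set ξ' : L₁ := algebraMap L L₁ ξ - (u ^ p - u) with hξ'
    refine ⟨u, ξ', by rw [hξ']; ring, Or.inr ?_⟩
    have hL₁ : ∀ b : B, algebraMap L L₁ (algebraMap B L b) = algebraMap B L₁ b := fun b =>
      (IsScalarTower.algebraMap_apply B L L₁ b).symm
    have hξη : W₁.valuation (ξ' - η) ≤ 1 := by
      have e' : ξ' - η = ((∑ i ∈ Finset.Icc 1 n, algebraMap B L₁ (σ (d i)) * (algebraMap B L₁ πB)⁻¹ ^ i) - η - (u ^ p - u)) +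
          algebraMap B L₁ b₀ := by
        rw [hξ', hξexp, map_add, map_sum, hL₁]
        simp only [map_mul, map_pow, map_inv₀, hL₁]
        ring
      rw [e']
      exact W₁.valuation.map_add_le hu ((W₁.valuation_le_one_iff _).mpr (hW₁.1 _))
    have hnE0 : 0 < E js := by omega
    have hmain : W₁.valuation (ξ' * X₁ ^ E js - algebraMap B L₁ (σ (f js))) < 1 := by
      rw [show ξ' * X₁ ^ E js - algebraMap B L₁ (σ (f js)) =
        (ξ' - η) * X₁ ^ E js + (η * X₁ ^ E js - algebraMap B L₁ (σ (f js))) by ring]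
      refine W₁.valuation.map_add_lt ?_ ?_
      · rw [map_mul, map_pow]
        exact (mul_le_of_le_one_left' hξη).trans_lt (pow_lt_one₀ zero_le' hX1 hnE0.ne')
      · rw [hη, Finset.sum_mul, ← Finset.add_sum_erase _ _ hjs, polarTerm, inv_pow,
          inv_mul_cancel_right₀ (pow_ne_zero _ hX0), add_sub_cancel_left]
        refine Valuation.map_sum_lt _ one_ne_zero fun j hj => ?_
        have hjE := hother j (Finset.mem_of_mem_erase hj) (Finset.mem_erase.mp hj).1
        rw [polarTerm, inv_pow, mul_assoc]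
        rw [show (X₁ ^ (j * p ^ (n + N - r j)))⁻¹ * X₁ ^ E js = X₁ ^ (E js - E j) by
          rw [pow_sub₀ _ hX0 hjE.le]; ring]
        rw [map_mul, map_pow]
        exact (mul_le_of_le_one_left' ((W₁.valuation_le_one_iff _).mpr (hW₁.1 _))).trans_lt
          (pow_lt_one₀ zero_le' hX1 (by omega))
    have hamem : ξ' * X₁ ^ E js ∈ W₁ := by
      rw [← W₁.valuation_le_one_iff, ← sub_add_cancel (ξ' * X₁ ^ E js) (algebraMap B L₁ (σ (f js)))]
      exact W₁.valuation.map_add_le hmain.le ((W₁.valuation_le_one_iff _).mpr (hW₁.1 _))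
    have hrep : ∀ w : L₁, ∃ c : Fin q → L, w = ∑ i, algebraMap L L₁ (c i) * X₁ ^ (i : ℕ) := by
      intro w
      have hdl : (Polynomial.C (algebraMap B L (πB ^ (n + 2))) * X + Polynomial.C (algebraMap B L πB)).degree < (q : WithBot ℕ) :=
        lt_of_le_of_lt degree_linear_le (by exact_mod_cast hq1)
      refine exists_sum_pow (X ^ q - (Polynomial.C (algebraMap B L (πB ^ (n + 2))) * X + Polynomial.C (algebraMap B L πB)))
        (monic_X_pow_sub hdl) ?_ (by omega) X₁ ?_ ?_
      · apply natDegree_eq_of_degree_eq_some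
        rw [degree_sub_eq_left_of_degree_lt (by rwa [degree_X_pow]), degree_X_pow]
      · simp only [map_sub, map_add, map_mul, aeval_X_pow, aeval_X, aeval_C, hL₁, hx₁]
        ring
      · have hw : w ∈ Algebra.adjoin L (Set.range (algebraMap K₁ L₁)) := hgenL₁ ▸ Algebra.mem_top
        refine (Algebra.adjoin_le ?_) hw
        rintro _ ⟨k, rfl⟩
        have hk' : k ∈ Algebra.adjoin K ({x} : Set K₁) := hgenx ▸ Algebra.mem_top
        induction hk' using Algebra.adjoin_induction with
        | mem k hk => rw [Set.mem_singleton_iff] at hk; subst hk; exact Algebra.subset_adjoin rfl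
        | algebraMap c =>
          rw [← IsScalarTower.algebraMap_apply, IsScalarTower.algebraMap_apply K L L₁]
          exact Subalgebra.algebraMap_mem _ _
        | add a b _ _ ha hb => rw [map_add]; exact add_mem ha hb
        | mul a b _ _ ha hb => rw [map_mul]; exact mul_mem ha hb
    let ϖ : W₁ := ⟨X₁, (W₁.valuation_le_one_iff _).mp hX1.le⟩
    refine ⟨ϖ, ⟨_, hamem⟩, E js, ?_, hnE0, hpE, ?_, rfl⟩
    · refine le_antisymm (fun w hw => ?_) ((Ideal.span_singleton_le_iff_mem _).mpr ((W₁.valuation_lt_one_iff ϖ).mpr hX1))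
      have h1 := valuation_le_gen hπB X₁ hxq hrep (by omega) hW₁ ((W₁.valuation_lt_one_iff w).mp hw)
      have hmem : (w : L₁) / X₁ ∈ W₁ := by
        rw [← W₁.valuation_le_one_iff, map_div₀, div_le_one₀ hXpos]; exact h1
      exact Ideal.mem_span_singleton.mpr ⟨⟨_, hmem⟩, Subtype.ext (mul_div_cancel₀ (w : L₁) hX0).symm⟩
    · intro t ht
      have hfinL : Module.finrank L L₁ ≤ q := by
        have hs : Submodule.span L (Set.range fun i : Fin q => X₁ ^ (i : ℕ)) = ⊤ := by
          rw [eq_top_iff]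
          intro w _
          obtain ⟨c, hc⟩ := hrep w
          rw [hc]
          exact sum_mem fun i _ => by
            rw [← Algebra.smul_def]; exact Submodule.smul_mem _ _ (Submodule.subset_span ⟨i, rfl⟩)
        have h1 := finrank_range_le_card (R := L) (fun i : Fin q => X₁ ^ (i : ℕ))
        rw [Set.finrank, hs, finrank_top, Fintype.card_fin] at h1
        exact h1
      obtain ⟨-, htrL⟩ := finrank_eq_and_isTotallyRamified (K := L) hπB X₁ hxq (by omega) hfinL
      obtain ⟨b', hb'⟩ := htrL.2.2 W₁ hW₁ (residue W₁ t)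
      have hb'' : residue W₁ ⟨algebraMap B L₁ b', hW₁.1 b'⟩ = residue W₁ t := hb'
      rw [← hb'', ← map_pow (residue W₁), ← sub_eq_zero, ← map_sub, residue_eq_zero_iff] at ht
      have h2 : W₁.valuation (ξ' * X₁ ^ E js - algebraMap B L₁ b' ^ p) < 1 := (W₁.valuation_lt_one_iff _).mp ht
      have h3 : W₁.valuation (algebraMap B L₁ (σ (f js) - b' ^ p)) < 1 := by
        rw [map_sub, map_pow, show algebraMap B L₁ (σ (f js)) - algebraMap B L₁ b' ^ p =
          (ξ' * X₁ ^ E js - algebraMap B L₁ b' ^ p) - (ξ' * X₁ ^ E js - algebraMap B L₁ (σ (f js))) by ring]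
        exact W₁.valuation.map_sub_lt h2 hmain
      refine hnp (residue B b') ?_
      rw [← hσr (f js), ← map_pow, ← sub_eq_zero, ← map_sub, residue_eq_zero_iff]
      by_contra hu'
      exact h3.ne (valuation_algebraMap_eq_one hW₁ hu')


end Groth.Agent.S7155
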