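import Groth.Statements.S7156
import Groth.Agent.Lib.EtRam10.Inseparable
import Groth.Agent.S1984
import Mathlib.FieldTheory.PurelyInseparable.Tower

set_option autoImplicit false
universe u
open EtAlg

namespace Groth.Agent.S7156

open TensorProduct in
/-- Let A → B → C be injective local homomorphisms of discrete valuation rings whose fields of fractions
are K ⊆ L ⊆ M, and let π be a uniformizer of A; suppose B is a Nagata ring, A → B is weakly
unramified, and M/L is purely inseparable of prime degree p. Then one of the following holds: the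
extension A → C is itself weakly unramified; or else C = B[π^(1/p)]; or else there is a separable
degree-p extension K₁/K, totally ramified with respect to A, for which L ⊗_K K₁ and M ⊗_K K₁ are
fields and the integral closures A₁ → B₁ → C₁ are weakly unramified extensions, i.e. K₁ is a weak
solution for A ⊆ B and for A ⊆ C. -/
theorem result (p : ℕ) (hp : p.Prime) (A B C K L M : Type u)
    [CommRing A] [IsDomain A] [IsDiscreteValuationRing A] [CommRing B] [IsDomain B] [IsDiscreteValuationRing B]
    [CommRing C] [IsDomain C] [IsDiscreteValuationRing C]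
    [Algebra A B] [Algebra B C] [Algebra A C] [IsScalarTower A B C]
    (hAB : Function.Injective (algebraMap A B)) (hBC : Function.Injective (algebraMap B C))
    [IsLocalHom (algebraMap A B)] [IsLocalHom (algebraMap B C)]
    [Field K] [Field L] [Field M] [Algebra A K] [IsFractionRing A K] [Algebra B L] [IsFractionRing B L]
    [Algebra C M] [IsFractionRing C M] [Algebra K L] [Algebra L M] [Algebra K M] [IsScalarTower K L M]
    [Algebra A L] [IsScalarTower A K L] [IsScalarTower A B L] [Algebra B M] [IsScalarTower B L M] [IsScalarTower B C M]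
    [Algebra A M] [IsScalarTower A K M] [IsScalarTower A C M]
    (π : A) (hπ : IsLocalRing.maximalIdeal A = Ideal.span {π}) (hB : CAlg.IsNagata B)
    (hw : EtRam.IsWeaklyUnramified A B) [IsPurelyInseparable L M] (hdeg : Module.finrank L M = p) :
    EtRam.IsWeaklyUnramified A C ∨
      (∃ c : C, c ^ p = algebraMap A C π ∧ Algebra.adjoin B {c} = ⊤) ∨
      ∃ (K₁ : Type u) (_ : Field K₁) (_ : Algebra K K₁),
        Module.finrank K K₁ = p ∧ Algebra.IsSeparable K K₁ ∧
          EtRam.IsTotallyRamified A ((algebraMap K K₁).comp (algebraMap A K)) ∧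
          IsField (L ⊗[K] K₁) ∧ IsField (M ⊗[K] K₁) ∧
          EtRam.IsWeakSolution B K L K₁ ∧ EtRam.IsWeakSolution C K M K₁ := by
  classical
  haveI := Fact.mk hp
  haveI hfdM : FiniteDimensional L M := Module.finite_of_finrank_pos (hdeg ▸ hp.pos)
  -- characteristic `p`
  obtain ⟨q, hq⟩ := ExpChar.exists L
  haveI := hq
  obtain ⟨nq, hnq⟩ := IsPurelyInseparable.finrank_eq_pow L M q
  rw [hdeg] at hnq
  have hqp : q = p ∧ nq = 1 := by
    have h1 : nq ≠ 0 := by rintro rfl; rw [pow_zero] at hnq; exact hp.ne_one hnq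
    have hn1 : nq = 1 := Nat.Prime.eq_one_of_pow (hnq ▸ hp)
    exact ⟨by rw [hnq, hn1, pow_one], hn1⟩
  obtain ⟨rfl, -⟩ := hqp
  haveI hcL : CharP L q := by
    rcases hq with _ | ⟨hqprime, _⟩
    · exact absurd rfl hp.ne_one
    · assumption
  haveI hcM : CharP M q := charP_of_injective_algebraMap (algebraMap L M).injective q
  have hpow : ∀ y : M, ∃ l : L, algebraMap L M l = y ^ q := by
    intro y
    obtain ⟨n, l, hl⟩ := IsPurelyInseparable.minpoly_eq_X_pow_sub_C L q y
    have hy := minpoly.aeval L y
    rw [hl, map_sub, map_pow, Polynomial.aeval_X, Polynomial.aeval_C, sub_eq_zero] at hy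
    have hd : (minpoly L y).natDegree ≤ q := hdeg ▸ minpoly.natDegree_le y
    rw [hl, Polynomial.natDegree_X_pow_sub_C] at hd
    rcases n with _ | _ | n
    · rw [pow_zero, pow_one] at hy
      exact ⟨l ^ q, by rw [map_pow, hy]⟩
    · rw [pow_one] at hy
      exact ⟨l, hy.symm⟩
    · exfalso
      have := Nat.pow_lt_pow_right hp.one_lt (show 1 < n + 1 + 1 by omega)
      rw [pow_one] at this
      omega
  -- uniformizers
  set πB : B := algebraMap A B π with hπBdef
  have hπB : IsLocalRing.maximalIdeal B = Ideal.span {πB} := by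
    rw [← show (IsLocalRing.maximalIdeal A).map (algebraMap A B) = _ from hw, hπ, Ideal.map_span, Set.image_singleton]
  have hπBi : Irreducible πB := (IsDiscreteValuationRing.irreducible_iff_uniformizer πB).mpr hπB
  obtain ⟨c₀, hc₀⟩ := IsDiscreteValuationRing.exists_irreducible C
  -- `C ∩ L = B`
  have hmid : ∀ (l : L) (z : C), algebraMap C M z = algebraMap L M l → ∃ b, algebraMap B L b = l ∧ algebraMap B C b = z := by
    intro l z hlz
    have hfin : ∀ b, algebraMap B L b = l → algebraMap B C b = z := fun b hb => by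
      apply IsFractionRing.injective C M
      rw [← IsScalarTower.algebraMap_apply, IsScalarTower.algebraMap_apply B L M, hb, hlz]
    rcases ValuationRing.isInteger_or_isInteger B l with ⟨b, hb⟩ | ⟨b, hb⟩
    · exact ⟨b, hb, hfin b hb⟩
    rcases eq_or_ne l 0 with hl0 | hl0
    · exact ⟨0, by rw [map_zero, hl0], hfin 0 (by rw [map_zero, hl0])⟩
    have h1 : algebraMap B C b * z = 1 := by
      apply IsFractionRing.injective C M
      rw [map_mul, ← IsScalarTower.algebraMap_apply, IsScalarTower.algebraMap_apply B L M, hb, hlz, ← map_mul,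
        inv_mul_cancel₀ hl0, map_one, map_one]
    obtain ⟨w, rfl⟩ := isUnit_of_map_unit (algebraMap B C) b (IsUnit.of_mul_eq_one _ h1)
    have h2 : algebraMap B L ↑w⁻¹ = l := by rw [map_units_inv, hb, inv_inv]
    exact ⟨↑w⁻¹, h2, hfin _ h2⟩
  obtain ⟨l₀, hl₀⟩ := hpow (algebraMap C M c₀)
  obtain ⟨b₀, -, hb₀C⟩ := hmid l₀ (c₀ ^ q) (by rw [map_pow, hl₀])
  have hb₀0 : b₀ ≠ 0 := fun h => by
    rw [h, map_zero] at hb₀C
    exact pow_ne_zero q hc₀.ne_zero hb₀C.symm
  obtain ⟨e', v, hv⟩ := IsDiscreteValuationRing.eq_unit_mul_pow_irreducible hb₀0 hπBi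
  obtain ⟨e, vC, hvC⟩ := IsDiscreteValuationRing.eq_unit_mul_pow_irreducible
    (fun h => hπBi.ne_zero (hBC (h.trans (map_zero _).symm))) hc₀ (x := algebraMap B C πB)
  have hee : e * e' = q := by
    have h1 : ((1 : Cˣ) : C) * c₀ ^ q = ((Units.map (algebraMap B C).toMonoidHom v * vC ^ e' : Cˣ) : C) * c₀ ^ (e * e') := by
      rw [Units.val_one, one_mul, ← hb₀C, hv, map_mul, map_pow, hvC, mul_pow, ← pow_mul, Units.val_mul,
        Units.val_pow_eq_pow_val, Units.coe_map, mul_assoc]
      rfl
    exact (IsDiscreteValuationRing.unit_mul_pow_congr_pow hc₀ hc₀ _ _ _ _ h1).symm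
  rcases (Nat.dvd_prime hp).mp ⟨e', hee.symm⟩ with he | he
  · left
    show (IsLocalRing.maximalIdeal A).map (algebraMap A C) = IsLocalRing.maximalIdeal C
    rw [hπ, Ideal.map_span, Set.image_singleton, IsScalarTower.algebraMap_apply A B C, ← hπBdef, hvC, he, pow_one,
      hc₀.maximalIdeal_eq, Ideal.span_singleton_eq_span_singleton]
    exact associated_unit_mul_left _ _ vC.isUnit
  rw [he] at hee hvC
  have he' : e' = 1 := Nat.eq_of_mul_eq_mul_left hp.pos (hee.trans (mul_one q).symm)
  rw [he', pow_one] at hv
  set c : M := algebraMap C M c₀ with hc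
  set u : B := (v : B) with hu
  have hcq : c ^ q = algebraMap B M (u * πB) := by
    rw [hc, ← map_pow, ← hb₀C, hv, ← IsScalarTower.algebraMap_apply]
  have hAπ : algebraMap A C π = algebraMap B C πB := IsScalarTower.algebraMap_apply A B C π
  -- is there a `q`-th root of `π` in `M`?
  by_cases hθM : ∃ θ : M, θ ^ q = algebraMap B M πB
  · obtain ⟨θ, hθ⟩ := hθM
    right; left
    obtain ⟨θC, rfl⟩ := (IsIntegrallyClosed.isIntegral_iff (R := C) (K := M)).mp
      (IsIntegral.of_pow hp.pos (x := θ) (by rw [hθ, IsScalarTower.algebraMap_apply B C M]; exact isIntegral_algebraMap))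
    have hθC : θC ^ q = algebraMap A C π := by
      apply IsFractionRing.injective C M
      rw [map_pow, hθ, hAπ, ← IsScalarTower.algebraMap_apply B C M]
    refine ⟨θC, hθC, ?_⟩
    -- the valuation subring of `C`
    let VC : ValuationSubring M := ⟨(algebraMap C M).range, ValuationRing.isInteger_or_isInteger C⟩
    have hVC : EtRam.Dominates B (algebraMap B M) VC := by
      refine ⟨fun b => ⟨algebraMap B C b, (IsScalarTower.algebraMap_apply B C M b).symm⟩, fun b hb => ?_⟩
      refine (VC.valuation_lt_one_iff ⟨_, algebraMap B C b, (IsScalarTower.algebraMap_apply B C M b).symm⟩).mp fun hu => ?_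
      obtain ⟨⟨y, yC, hy⟩, hy'⟩ := hu.exists_right_inv
      refine hb (IsUnit.of_map (algebraMap B C) b (IsUnit.of_mul_eq_one yC ?_))
      apply IsFractionRing.injective C M
      have h3 := congrArg Subtype.val hy'
      rw [map_mul, ← IsScalarTower.algebraMap_apply, hy, map_one]
      exact h3
    set θ := algebraMap C M θC
    have hxq : ∀ V : ValuationSubring M, EtRam.Dominates B (algebraMap B M) V →
        V.valuation θ ^ q = V.valuation (algebraMap B M πB) := fun V _ => by rw [← map_pow, hθ]
    have hθint : IsIntegral L θ := IsIntegral.of_finite L θ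
    have hnot : ∀ l : L, algebraMap L M l ≠ θ := by
      intro l hl
      have h1 := GrothLib.EtRam10.valuation_ne' hπB θ hxq hVC (d := 1) one_pos hp.one_lt l
      rw [hl, pow_one] at h1
      exact h1 rfl
    have hdegθ : (minpoly L θ).natDegree = q := by
      have hdvd : (minpoly L θ).natDegree ∣ q := hdeg ▸ minpoly.degree_dvd hθint
      refine ((Nat.dvd_prime hp).mp hdvd).resolve_left fun h1 => ?_
      obtain ⟨l, hl⟩ := minpoly.natDegree_eq_one_iff.mp h1
      exact hnot l hl
    have htop : IntermediateField.adjoin L {θ} = ⊤ := by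
      apply IntermediateField.eq_of_le_of_finrank_eq le_top
      rw [IntermediateField.adjoin.finrank hθint, hdegθ, IntermediateField.finrank_top', hdeg]
    rw [eq_top_iff]
    intro z hz0
    clear hz0
    obtain ⟨g, hg⟩ := GrothLib.EtRam10.exists_aeval_of_adjoin_eq_top θ hθint htop (algebraMap C M z)
    have h4 : Polynomial.aeval θ (g %ₘ minpoly L θ) = algebraMap C M z := by
      rw [hg, Polynomial.aeval_modByMonic_eq_self_of_root (minpoly.aeval L θ)]
    have hlt : (g %ₘ minpoly L θ).natDegree < q := by
      rw [← hdegθ]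
      exact Polynomial.natDegree_modByMonic_lt _ (minpoly.monic hθint) (minpoly.ne_one L θ)
    rw [Polynomial.aeval_eq_sum_range' hlt, ← Fin.sum_univ_eq_sum_range] at h4
    simp only [Algebra.smul_def] at h4
    choose b hb using GrothLib.EtRam10.coeff_mem' hπB θ hxq hVC
      (fun i : Fin q => (g %ₘ minpoly L θ).coeff i) (h4 ▸ (⟨z, rfl⟩ : algebraMap C M z ∈ VC))
    have h5 : z = ∑ i, algebraMap B C (b i) * θC ^ (i : ℕ) := by
      apply IsFractionRing.injective C M
      rw [← h4, map_sum]
      refine Finset.sum_congr rfl fun i _ => ?_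
      rw [map_mul, map_pow, ← IsScalarTower.algebraMap_apply B C M, IsScalarTower.algebraMap_apply B L M, hb]
    rw [h5]
    exact sum_mem fun i _ => mul_mem (Subalgebra.algebraMap_mem _ _) (pow_mem (Algebra.subset_adjoin (Set.mem_singleton θC)) _)
  push Not at hθM
  -- `M = L(c)`
  have hcint : IsIntegral L c := IsIntegral.of_finite L c
  have hcnot : ∀ l : L, algebraMap L M l ≠ c := by
    intro l hl
    obtain ⟨b, -, hb⟩ := hmid l c₀ hl.symm
    have hb0 : b ≠ 0 := fun h => hc₀.ne_zero (by rw [← hb, h, map_zero])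
    obtain ⟨i, w, rfl⟩ := IsDiscreteValuationRing.eq_unit_mul_pow_irreducible hb0 hπBi
    rw [map_mul, map_pow, hvC, mul_pow, ← pow_mul, ← mul_assoc] at hb
    have h1 : ((1 : Cˣ) : C) * c₀ ^ 1 = ((Units.map (algebraMap B C).toMonoidHom w * vC ^ i : Cˣ) : C) * c₀ ^ (q * i) := by
      rw [Units.val_one, one_mul, pow_one, Units.val_mul, Units.val_pow_eq_pow_val, Units.coe_map]
      exact hb.symm
    have h2 := IsDiscreteValuationRing.unit_mul_pow_congr_pow hc₀ hc₀ _ _ _ _ h1
    exact hp.ne_one (Nat.eq_one_of_mul_eq_one_right h2.symm)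
  have hdegc : (minpoly L c).natDegree = q := by
    have hdvd : (minpoly L c).natDegree ∣ q := hdeg ▸ minpoly.degree_dvd hcint
    refine ((Nat.dvd_prime hp).mp hdvd).resolve_left fun h1 => ?_
    obtain ⟨l, hl⟩ := minpoly.natDegree_eq_one_iff.mp h1
    exact hcnot l hl
  have hMc : Algebra.adjoin L ({c} : Set M) = ⊤ := by
    have h1 : IntermediateField.adjoin L {c} = ⊤ := by
      apply IntermediateField.eq_of_le_of_finrank_eq le_top
      rw [IntermediateField.adjoin.finrank hcint, hdegc, IntermediateField.finrank_top', hdeg]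
    rw [← IntermediateField.adjoin_simple_toSubalgebra_of_isAlgebraic hcint.isAlgebraic, h1, IntermediateField.top_toSubalgebra]
  -- the expansion of `u` stops
  obtain ⟨k, r, w, huw, hnw⟩ : ∃ (k : ℕ) (r : Fin k → B) (w : B),
      u = (∑ i, r i ^ q * πB ^ (i : ℕ)) + πB ^ k * w ∧
      ∀ s : B, IsLocalRing.residue B w ≠ IsLocalRing.residue B s ^ q := by
    suffices key : ∀ (M2 : Type u) [Field M2] [Algebra M M2] [FiniteDimensional M M2] (θ : M2),
        θ ^ q = algebraMap M M2 (algebraMap B M πB) → ∃ n : ℕ, ∀ r : Fin n → B, ¬ πB ^ n ∣ u - ∑ i, r i ^ q * πB ^ (i : ℕ) by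
      haveI hfact : Fact (Irreducible (Polynomial.X ^ q - Polynomial.C (algebraMap B M πB) : Polynomial M)) :=
        ⟨X_pow_sub_C_irreducible_of_prime hp hθM⟩
      obtain ⟨n, hn⟩ := @key (AdjoinRoot (Polynomial.X ^ q - Polynomial.C (algebraMap B M πB) : Polynomial M)) _ _
        (AdjoinRoot.powerBasis hfact.out.ne_zero).finite (AdjoinRoot.root _) (by
          have := AdjoinRoot.eval₂_root (Polynomial.X ^ q - Polynomial.C (algebraMap B M πB) : Polynomial M)
          rwa [Polynomial.eval₂_sub, Polynomial.eval₂_pow, Polynomial.eval₂_X, Polynomial.eval₂_C, sub_eq_zero] at this)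
      exact GrothLib.EtRam10.exists_stop hπB u hn
    intro M2 _ _ _ θ hθ
    letI : Algebra L M2 := ((algebraMap M M2).comp (algebraMap L M)).toAlgebra
    haveI : IsScalarTower L M M2 := .of_algebraMap_eq fun _ => rfl
    letI : Algebra B M2 := ((algebraMap M M2).comp (algebraMap B M)).toAlgebra
    haveI : IsScalarTower B L M2 := .of_algebraMap_eq fun b =>
      congrArg (algebraMap M M2) (IsScalarTower.algebraMap_apply B L M b)
    haveI : FiniteDimensional L M2 := FiniteDimensional.trans L M M2
    haveI : CharP M2 q := charP_of_injective_algebraMap (algebraMap M M2).injective q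
    have hθ0 : θ ≠ 0 := by
      rintro rfl
      rw [zero_pow hp.ne_zero, eq_comm, map_eq_zero, IsScalarTower.algebraMap_apply B C M,
        map_eq_zero_iff _ (IsFractionRing.injective C M)] at hθ
      exact hπBi.ne_zero (hBC (hθ.trans (map_zero _).symm))
    refine GrothLib.EtRam10.exists_bound (L := L) hπB hp hB u θ (algebraMap M M2 c / θ) hθ ?_ ?_
    · show _ = algebraMap M M2 (algebraMap B M u)
      rw [div_pow, ← map_pow, hcq, map_mul, map_mul, ← hθ]
      exact mul_div_cancel_right₀ _ (pow_ne_zero _ hθ0)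
    intro hd
    -- then `M ⊆ L(θ)`
    have hθint : IsIntegral L θ := IsIntegral.of_finite L θ
    set E := IntermediateField.adjoin L {θ}
    have hθE : θ ∈ E := IntermediateField.mem_adjoin_simple_self L θ
    have hdE : algebraMap M M2 c / θ ∈ E := by
      suffices Submodule.span L (Set.range fun i : ℕ => θ ^ i) ≤ Subalgebra.toSubmodule E.toSubalgebra from this hd
      rw [Submodule.span_le]
      rintro _ ⟨i, rfl⟩
      exact pow_mem hθE i
    have hcE : algebraMap M M2 c ∈ E := by
      have := mul_mem hdE hθE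
      rwa [div_mul_cancel₀ _ hθ0] at this
    have hle : (IsScalarTower.toAlgHom L M M2).fieldRange ≤ E := by
      rintro _ ⟨y, rfl⟩
      have hy : y ∈ Algebra.adjoin L ({c} : Set M) := hMc ▸ Algebra.mem_top
      induction hy using Algebra.adjoin_induction with
      | mem y hy => rw [Set.mem_singleton_iff] at hy; subst hy; exact hcE
      | algebraMap l => exact E.algebraMap_mem l
      | add a b _ _ ha hb => simpa using add_mem ha hb
      | mul a b _ _ ha hb => simpa using mul_mem ha hb
    have heq : (IsScalarTower.toAlgHom L M M2).fieldRange = E := by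
      apply IntermediateField.eq_of_le_of_finrank_le hle
      rw [show Module.finrank L ↥(IsScalarTower.toAlgHom L M M2).fieldRange = Module.finrank L M from
          ((AlgEquiv.ofInjectiveField (IsScalarTower.toAlgHom L M M2)).toLinearEquiv.finrank_eq).symm, hdeg,
        IntermediateField.adjoin.finrank hθint]
      have h0 : Polynomial.aeval θ (Polynomial.X ^ q - Polynomial.C (algebraMap B L πB) : Polynomial L) = 0 := by
        rw [map_sub, map_pow, Polynomial.aeval_X, Polynomial.aeval_C, hθ, IsScalarTower.algebraMap_apply B L M,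
          ← IsScalarTower.algebraMap_apply L M M2, sub_self]
      exact (Polynomial.natDegree_le_of_dvd (minpoly.dvd L θ h0) (Polynomial.monic_X_pow_sub_C _ hp.ne_zero).ne_zero).trans
        Polynomial.natDegree_X_pow_sub_C.le
    obtain ⟨θM, hθM'⟩ := heq ▸ hθE
    refine hθM θM ((algebraMap M M2).injective ?_)
    rw [map_pow, ← hθ]
    exact congrArg (· ^ q) hθM'
  -- the extension `K₁`
  right; right
  obtain ⟨K₁, _, _, hfdK₁, x₁, hx₁, hgen₁, hfin₁, hsep₁, htr₁⟩ :=
    GrothLib.EtRam10.exists_ext (K := K) hπ hp.one_lt (m := k + 2) (by omega)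
  haveI := hfdK₁
  haveI := hsep₁
  obtain ⟨hfieldL, hsolB⟩ := Groth.Agent.S1984.result A B K L hAB hw K₁ htr₁
  refine ⟨K₁, inferInstance, inferInstance, hfin₁, hsep₁, htr₁, hfieldL, ?_, hsolB, ?_⟩
  · obtain ⟨hirrL, hsepL⟩ := GrothLib.EtRam10.irreducible_separable (F := L) hπB hp.one_lt (m := k + 2) (by omega)
    refine GrothLib.EtRam10.isField_tensor x₁ hgen₁ (Polynomial.X ^ q - (Polynomial.C (algebraMap A K (π ^ (k + 2))) *
      Polynomial.X + Polynomial.C (algebraMap A K π))) ?_ ?_
    · simp only [map_sub, map_add, map_mul, map_pow, Polynomial.aeval_X, Polynomial.aeval_C]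
      rw [hx₁, map_pow, map_pow]; ring
    · have := Polynomial.Separable.map_irreducible_of_isPurelyInseparable (E := M) hsepL hirrL
      convert this using 1
      simp [IsScalarTower.algebraMap_apply K L M, ← IsScalarTower.algebraMap_apply A K L, hπBdef,
        ← IsScalarTower.algebraMap_apply A B L]
  · intro M' _ _ _ _ _ _ hgen' W hW
    letI : Algebra L M' := ((algebraMap M M').comp (algebraMap L M)).toAlgebra
    haveI : IsScalarTower L M M' := .of_algebraMap_eq fun _ => rfl
    letI : Algebra B M' := ((algebraMap M M').comp (algebraMap B M)).toAlgebra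
    haveI : IsScalarTower B L M' := .of_algebraMap_eq fun b =>
      congrArg (algebraMap M M') (IsScalarTower.algebraMap_apply B L M b)
    haveI : CharP M' q := charP_of_injective_algebraMap (algebraMap M M').injective q
    have hWB : EtRam.Dominates B (algebraMap B M') W := by
      have e : ∀ b, algebraMap B M' b = algebraMap M M' (algebraMap C M (algebraMap B C b)) := fun b =>
        congrArg (algebraMap M M') (IsScalarTower.algebraMap_apply B C M b)
      exact ⟨fun b => e b ▸ hW.1 _, fun b hb => e b ▸ hW.2 _ fun hu => hb (IsUnit.of_map (algebraMap B C) b hu)⟩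
    have hAK : ∀ a : A, algebraMap K₁ M' (algebraMap K K₁ (algebraMap A K a)) = algebraMap B M' (algebraMap A B a) := by
      intro a
      rw [← IsScalarTower.algebraMap_apply K K₁ M', IsScalarTower.algebraMap_apply K M M']
      show algebraMap M M' _ = algebraMap M M' (algebraMap B M (algebraMap A B a))
      rw [← IsScalarTower.algebraMap_apply A K M, IsScalarTower.algebraMap_apply B C M, ← IsScalarTower.algebraMap_apply A B C, ← IsScalarTower.algebraMap_apply A C M]
    have hx' : algebraMap K₁ M' x₁ ^ q =
        algebraMap B M' πB + algebraMap B M' (πB ^ (k + 2)) * algebraMap K₁ M' x₁ := by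
      rw [← map_pow (algebraMap K₁ M'), hx₁, map_add, map_mul, hAK, hAK, map_pow (algebraMap A B)]
    have hgenL : Algebra.adjoin L ({algebraMap K₁ M' x₁, algebraMap M M' c} : Set M') = ⊤ := by
      rw [eq_top_iff]
      intro z hz0
      clear hz0
      have hMsub : ∀ y : M, algebraMap M M' y ∈ Algebra.adjoin L ({algebraMap K₁ M' x₁, algebraMap M M' c} : Set M') := by
        intro y
        have hy : y ∈ Algebra.adjoin L ({c} : Set M) := hMc ▸ Algebra.mem_top
        induction hy using Algebra.adjoin_induction with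
        | mem y hy => rw [Set.mem_singleton_iff] at hy; subst hy; exact Algebra.subset_adjoin (by simp)
        | algebraMap l => exact Subalgebra.algebraMap_mem _ l
        | add a b _ _ ha hb => rw [map_add]; exact add_mem ha hb
        | mul a b _ _ ha hb => rw [map_mul]; exact mul_mem ha hb
      have hz : z ∈ Algebra.adjoin M (Set.range (algebraMap K₁ M')) := hgen' ▸ Algebra.mem_top
      induction hz using Algebra.adjoin_induction with
      | mem z hz =>
        obtain ⟨y, rfl⟩ := hz
        have hy : y ∈ Algebra.adjoin K {x₁} := hgen₁ ▸ Algebra.mem_top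
        induction hy using Algebra.adjoin_induction with
        | mem y hy => rw [Set.mem_singleton_iff] at hy; subst hy; exact Algebra.subset_adjoin (by simp)
        | algebraMap r =>
          rw [← IsScalarTower.algebraMap_apply K K₁ M', IsScalarTower.algebraMap_apply K M M']
          exact hMsub _
        | add a b _ _ ha hb => rw [map_add]; exact add_mem ha hb
        | mul a b _ _ ha hb => rw [map_mul]; exact mul_mem ha hb
      | algebraMap y => exact hMsub y
      | add a b _ _ ha hb => exact add_mem ha hb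
      | mul a b _ _ ha hb => exact mul_mem ha hb
    have hle := GrothLib.EtRam10.maximal_eq_gen (L := L) hπB hp u w r huw hnw (algebraMap K₁ M' x₁) (algebraMap M M' c) hx'
      (by rw [← map_pow, hcq]; rfl) hgenL W hWB
    have hπm : π ∈ IsLocalRing.maximalIdeal A := hπ ▸ Ideal.mem_span_singleton_self π
    have hπBm : πB ∈ IsLocalRing.maximalIdeal B := hπB ▸ Ideal.mem_span_singleton_self πB
    have hx1 : W.valuation (algebraMap K₁ M' x₁) < 1 :=
      GrothLib.EtRam10.valuation_x_lt_one hπB (Ideal.pow_mem_of_mem _ hπBm (k + 2) (Nat.succ_pos _))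
        (algebraMap K₁ M' x₁) hx' hWB hp.pos
    letI : Algebra (W.comap (algebraMap K₁ M')) W := (EtRam.inclOfComap W (algebraMap K₁ M')).toAlgebra
    show (IsLocalRing.maximalIdeal (W.comap (algebraMap K₁ M'))).map (EtRam.inclOfComap W (algebraMap K₁ M')) =
      IsLocalRing.maximalIdeal W
    refine le_antisymm (Ideal.map_le_iff_le_comap.mpr fun a ha hu => ha (IsUnit.of_map (EtRam.inclOfComap W (algebraMap K₁ M')) a hu))
      fun z hz => ?_
    have hzv := (W.valuation_lt_one_iff z).mp hz
    have hxK : x₁ ∈ W.comap (algebraMap K₁ M') := (W.valuation_le_one_iff _).mp hx1.le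
    have hxm : (⟨x₁, hxK⟩ : W.comap (algebraMap K₁ M')) ∈ IsLocalRing.maximalIdeal (W.comap (algebraMap K₁ M')) :=
      fun hu => ((W.valuation_eq_one_iff _).mp (hu.map (EtRam.inclOfComap W (algebraMap K₁ M')))).not_lt hx1
    have hpos : 0 < W.valuation (algebraMap K₁ M' x₁) := by
      refine zero_lt_iff.mpr fun h0 => ?_
      have h1 := GrothLib.EtRam10.valuation_x_pow hπB (Ideal.pow_mem_of_mem _ hπBm (k + 2) (Nat.succ_pos _))
        (algebraMap K₁ M' x₁) hx' (Ideal.pow_mem_of_mem _ hπBm (k + 1) (Nat.succ_pos _)) (by rw [← pow_succ']) hWB hp.pos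
      rw [h0, zero_pow hp.ne_zero] at h1
      exact (GrothLib.EtRam10.valuation_pi_pos L hπB W).ne h1
    have hq : (z : M') / algebraMap K₁ M' x₁ ∈ W := by
      rw [← W.valuation_le_one_iff, map_div₀, div_le_one₀ hpos]
      exact hle _ hzv
    have hz' : z = EtRam.inclOfComap W (algebraMap K₁ M') ⟨x₁, hxK⟩ * ⟨_, hq⟩ :=
      Subtype.ext (mul_div_cancel₀ (z : M') (fun h0 => hpos.ne' (by rw [show algebraMap K₁ M' x₁ = 0 from h0, map_zero]))).symm
    rw [hz']
    exact Ideal.mul_mem_right _ _ (Ideal.mem_map_of_mem _ hxm)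

end Groth.Agent.S7156
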