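import Groth.Statements.S7157
import Groth.Agent.Lib.EtRam10.Eisenstein

set_option autoImplicit false
universe u
open EtAlg

namespace Groth.Agent.S7157

open Polynomial

/-- Let A be a discrete valuation ring, π a uniformizer, K its field of fractions, and suppose the
residue field of A has characteristic p > 0. For every n > 1 and every power q of p there is a
separable degree-q extension L/K that is totally ramified with respect to A and whose ring of
integers B (the integral closure of A in L) contains elements π_B, b, b' with π_B^q = π + πⁿ·b and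
π_B^q = π + π_B^(nq)·b' (π_B is then a uniformizer of B and the ramification index is q). -/
theorem result (p : ℕ) (hp : p.Prime) (A K : Type u)
    [CommRing A] [IsDomain A] [IsDiscreteValuationRing A] [Field K] [Algebra A K] [IsFractionRing A K]
    [CharP (IsLocalRing.ResidueField A) p] (π : A) (hπ : IsLocalRing.maximalIdeal A = Ideal.span {π})
    (n : ℕ) (hn : 1 < n) (k : ℕ) :
    ∃ (L : Type u) (_ : Field L) (_ : Algebra K L) (_ : Algebra A L) (_ : IsScalarTower A K L),
      Module.finrank K L = p ^ k ∧ Algebra.IsSeparable K L ∧ EtRam.IsTotallyRamified A (algebraMap A L) ∧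
      ∃ πB b b' : L, πB ∈ integralClosure A L ∧ b ∈ integralClosure A L ∧ b' ∈ integralClosure A L ∧
        πB ^ (p ^ k) = algebraMap A L π + algebraMap A L π ^ n * b ∧
        πB ^ (p ^ k) = algebraMap A L π + πB ^ (n * p ^ k) * b' := by
  classical
  have hirr : Irreducible π := (IsDiscreteValuationRing.irreducible_iff_uniformizer π).mpr hπ
  have hπ0 : π ≠ 0 := hirr.ne_zero
  have hπm : π ∈ IsLocalRing.maximalIdeal A := hπ ▸ Ideal.mem_span_singleton_self π
  set q := p ^ k with hqdef
  have hq : 0 < q := pow_pos hp.pos k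
  set e : A := if q = 1 then 0 else 1 with he
  set c₁ : A := π ^ (n - 1) * e with hc₁def
  set c : A := π * c₁ with hcdef
  have hc₁ : c₁ ∈ IsLocalRing.maximalIdeal A :=
    Ideal.mul_mem_right _ _ (Ideal.pow_mem_of_mem _ hπm _ (by omega))
  have hc : c ∈ IsLocalRing.maximalIdeal A := Ideal.mul_mem_right _ _ hπm
  have hcn : c = π ^ n * e := by
    rw [hcdef, hc₁def, ← mul_assoc, ← pow_succ', Nat.sub_add_cancel hn.le]
  have hdeg : (C c * X + C π : A[X]).degree < (q : WithBot ℕ) := by
    rcases (Nat.one_le_iff_ne_zero.mpr hq.ne').eq_or_lt with h1 | h1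
    · rw [show c = 0 by simp [hcdef, hc₁def, he, ← h1], map_zero, zero_mul, zero_add, ← h1,
        Nat.cast_one]
      exact degree_C_le.trans_lt (by norm_num)
    · exact lt_of_le_of_lt degree_linear_le (by exact_mod_cast h1)
  set f : A[X] := X ^ q - (C c * X + C π) with hf
  have hmon : f.Monic := monic_X_pow_sub hdeg
  have hnd : f.natDegree = q := by
    apply natDegree_eq_of_degree_eq_some
    rw [hf, degree_sub_eq_left_of_degree_lt (by rwa [degree_X_pow]), degree_X_pow]
  have hsq : π ∉ IsLocalRing.maximalIdeal A ^ 2 := by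
    rw [hπ, Ideal.span_singleton_pow, Ideal.mem_span_singleton]
    rintro ⟨d, hd⟩
    refine hirr.not_isUnit (IsUnit.of_mul_eq_one d ?_)
    apply mul_left_cancel₀ hπ0
    rw [mul_one, ← mul_assoc, ← pow_two, ← hd]
  have heis : f.IsEisensteinAt (IsLocalRing.maximalIdeal A) := by
    refine ⟨?_, ?_, ?_⟩
    · rw [hmon.leadingCoeff]; exact (IsLocalRing.maximalIdeal.isMaximal A).isPrime.one_notMem
    · intro i hi
      rw [hnd] at hi
      rw [hf, coeff_sub, coeff_X_pow, if_neg hi.ne, zero_sub, neg_mem_iff, coeff_add]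
      refine add_mem ?_ ?_
      · rw [coeff_C_mul]; exact Ideal.mul_mem_right _ _ hc
      · rw [coeff_C]; split
        · exact hπm
        · exact zero_mem _
    · rw [hf, coeff_sub, coeff_X_pow, if_neg hq.ne, zero_sub, neg_mem_iff, coeff_add]
      simpa using hsq
  have hirrA : Irreducible f :=
    heis.irreducible (IsLocalRing.maximalIdeal.isMaximal A).isPrime hmon.isPrimitive (hnd ▸ hq)
  set g : K[X] := f.map (algebraMap A K) with hg
  haveI hgirr : Fact (Irreducible g) :=
    ⟨(Monic.irreducible_iff_irreducible_map_fraction_map hmon).mp hirrA⟩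
  have hg0 : g ≠ 0 := hgirr.out.ne_zero
  have hgnd : g.natDegree = q := by rw [hg, hmon.natDegree_map, hnd]
  have hgsep : g.Separable := by
    rw [separable_iff_derivative_ne_zero hgirr.out]
    intro h0
    have h0' : (derivative g).coeff 0 = 0 := by rw [h0, coeff_zero]
    rw [coeff_derivative, hg, coeff_map, hf] at h0'
    simp only [zero_add, Nat.cast_zero, mul_one, coeff_sub, coeff_X_pow, coeff_add, coeff_C_mul,
      coeff_X_one, coeff_C, one_ne_zero, if_false, add_zero] at h0'
    rcases eq_or_ne q 1 with h1 | h1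
    · simp [h1, hcdef, hc₁def, he] at h0'
    · simp [h1, Ne.symm h1, hcn, he, hπ0, map_eq_zero_iff _ (IsFractionRing.injective A K)] at h0'
  set x : AdjoinRoot g := AdjoinRoot.root g with hxdef
  have hfx : aeval x f = 0 := by
    rw [← aeval_map_algebraMap K, ← hg]
    exact AdjoinRoot.eval₂_root g
  have hx : x ^ q = algebraMap A (AdjoinRoot g) π + algebraMap A (AdjoinRoot g) c * x := by
    rw [hf] at hfx
    simp only [map_sub, map_pow, map_add, map_mul, aeval_X, aeval_C] at hfx
    linear_combination hfx
  have hxint : IsIntegral A x := ⟨f, hmon, hfx⟩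
  let pb := AdjoinRoot.powerBasis hg0
  have hrep : ∀ z : AdjoinRoot g, ∃ k : Fin q → K,
      z = ∑ i, algebraMap K (AdjoinRoot g) (k i) * x ^ (i : ℕ) := by
    intro z
    have hdim : pb.dim = q := by simp [pb, hgnd]
    refine ⟨fun i => pb.basis.repr z (Fin.cast hdim.symm i), ?_⟩
    conv_lhs => rw [← pb.basis.sum_repr z]
    refine Fintype.sum_equiv (finCongr hdim) _ _ fun i => ?_
    rw [PowerBasis.coe_basis, Algebra.smul_def]
    rfl
  haveI : FiniteDimensional K (AdjoinRoot g) := pb.finite
  have hsepx : IsSeparable K x := by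
    rw [IsSeparable, hxdef, AdjoinRoot.minpoly_root hg0, (hmon.map _).leadingCoeff, inv_one, map_one, mul_one]
    exact hgsep
  have htop : IntermediateField.adjoin K {x} = ⊤ := by
    apply IntermediateField.toSubalgebra_injective
    rw [IntermediateField.top_toSubalgebra, eq_top_iff, ← AdjoinRoot.adjoinRoot_eq_top (f := g)]
    exact IntermediateField.algebra_adjoin_le_adjoin K _
  have hsep : Algebra.IsSeparable K (AdjoinRoot g) := by
    haveI := (IntermediateField.isSeparable_adjoin_simple_iff_isSeparable K (AdjoinRoot g)).mpr hsepx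
    exact AlgEquiv.Algebra.isSeparable ((IntermediateField.equivOfEq htop).trans IntermediateField.topEquiv)
  refine ⟨AdjoinRoot g, inferInstance, inferInstance, inferInstance, inferInstance, ?_, hsep,
    GrothLib.EtRam10.isTotallyRamified hπ hc x hx hc₁ hcdef hπ0 hq hrep, x,
    algebraMap A _ e * x,
    algebraMap A _ e * (1 + algebraMap A _ c₁ * x)⁻¹ ^ n * x, hxint,
    isIntegral_algebraMap.mul hxint, ?_, ?_, ?_⟩
  · rw [pb.finrank, ← hgnd]; simp [pb]
  · exact ((isIntegral_algebraMap.mul
      ((GrothLib.EtRam10.isIntegral_inv hπ hc x hx hc₁ hcdef hπ0 hq hrep hxint).1.pow n)).mul hxint)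
  · rw [hx, hcn, map_mul, map_pow, mul_assoc]
  · have hne := (GrothLib.EtRam10.isIntegral_inv hπ hc x hx hc₁ hcdef hπ0 hq hrep hxint).2
    have hu : x ^ q = algebraMap A (AdjoinRoot g) π * (1 + algebraMap A _ c₁ * x) := by
      rw [hx, hcdef, map_mul]; ring
    rw [mul_comm n q, pow_mul]
    conv_rhs => rw [hu, mul_pow]
    conv_lhs => rw [hx, hcn, map_mul, map_pow]
    have hh : (1 + algebraMap A (AdjoinRoot g) c₁ * x) ^ n * (1 + algebraMap A _ c₁ * x)⁻¹ ^ n = 1 := by
      rw [← mul_pow, mul_inv_cancel₀ hne, one_pow]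
    linear_combination (-(algebraMap A (AdjoinRoot g) π ^ n * algebraMap A _ e * x)) * hh

end Groth.Agent.S7157
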