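import Groth.Statements.S7158
import Groth.Agent.Lib.EtRam10.ArtinSchreier

set_option autoImplicit false
universe u
open EtAlg

namespace Groth.Agent.S7158

/-- Let A be a discrete valuation ring whose fraction field K has characteristic p > 0, let ξ be an
element of K and let L = K(z) be obtained by adjoining a root z of z^p - z = ξ. Then L/K is a Galois
extension, and it falls under one of four cases: (1) L = K; (2) L/K has degree p and is unramified
with respect to A; (3) L/K has degree p and is totally ramified with respect to A (ramification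
index p); (4) exactly one valuation ring of L dominates A (so B, the integral closure of A in L, is
itself a discrete valuation ring), the extension A → B is weakly unramified, and its residue field
extension is purely inseparable of degree p. Moreover, with π a uniformizer of A: (A) if ξ lies in
A, case (1) or (2) holds; (B) if ξ = π⁻ⁿa with n > 0 prime to p and a a unit of A, case (3) holds;
(C) if ξ = π⁻ⁿa with n > 0 divisible by p and the residue class of a not a p-th power, case (4)
holds. -/
theorem result (p : ℕ) (hp : p.Prime) (A K L : Type u) [CommRing A] [IsDomain A]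
    [IsDiscreteValuationRing A] [Field K] [Algebra A K] [IsFractionRing A K] [Field L] [Algebra K L] [Algebra A L]
    [IsScalarTower A K L] [CharP K p] (π : A) (hπ : IsLocalRing.maximalIdeal A = Ideal.span {π})
    (ξ : K) (z : L) (hz : z ^ p - z = algebraMap K L ξ) (hgen : IntermediateField.adjoin K {z} = ⊤) :
    let g : A →+* L := algebraMap A L
    let case1 : Prop := Module.finrank K L = 1
    let case2 : Prop := EtRam.IsUnramifiedExt A g ∧ Module.finrank K L = p
    let case3 : Prop := EtRam.IsTotallyRamified A g ∧ Module.finrank K L = p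
    let case4 : Prop := (∃ V : ValuationSubring L, EtRam.Dominates A g V) ∧
      (∀ V V' : ValuationSubring L, EtRam.Dominates A g V → EtRam.Dominates A g V' → V = V') ∧
      ∀ (V : ValuationSubring L) (h : EtRam.Dominates A g V),
        letI : Algebra A V := (RingHom.codRestrict g V h.1).toAlgebra
        ∀ [IsLocalHom (algebraMap A V)],
          EtRam.IsWeaklyUnramified A V ∧
            IsPurelyInseparable (IsLocalRing.ResidueField A) (IsLocalRing.ResidueField V) ∧
            Module.finrank (IsLocalRing.ResidueField A) (IsLocalRing.ResidueField V) = p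
    IsGalois K L ∧ (case1 ∨ case2 ∨ case3 ∨ case4) ∧
      ((∃ a : A, algebraMap A K a = ξ) → case1 ∨ case2) ∧
      (∀ (n : ℕ) (a : Aˣ), 0 < n → ¬ p ∣ n → ξ * algebraMap A K π ^ n = algebraMap A K a → case3) ∧
      (∀ (n : ℕ) (a : A), 0 < n → p ∣ n → (∀ r : A, IsLocalRing.residue A a ≠ IsLocalRing.residue A r ^ p) →
          ξ * algebraMap A K π ^ n = algebraMap A K a → case4) := by
  haveI : Fact p.Prime := ⟨hp⟩
  intro g case1 case2 case3 case4
  have hfr := GrothLib.EtRam10.as_finrank ξ z hz hgen
  have h12 : EtRam.IsUnramifiedExt A g → case1 ∨ case2 := fun h =>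
    hfr.elim .inl fun h' => .inr ⟨h, h'⟩
  refine ⟨GrothLib.EtRam10.as_isGalois ξ z hz hgen, ?_, fun ⟨a, ha⟩ =>
    h12 (GrothLib.EtRam10.as_unramified ξ z hz hgen hπ a ha), ?_, ?_⟩
  · obtain ⟨a, b, hb, rfl⟩ := IsFractionRing.div_surjective (A := A) ξ
    obtain ⟨n, hn⟩ := IsDiscreteValuationRing.associated_pow_irreducible
      (nonZeroDivisors.ne_zero hb) ((IsDiscreteValuationRing.irreducible_iff_uniformizer π).mpr hπ)
    obtain ⟨w, hw⟩ := hn
    have hb0 : algebraMap A K b ≠ 0 := by simpa using nonZeroDivisors.ne_zero hb
    rcases GrothLib.EtRam10.as_cases hπ n _ z hz hgen (a * w) (by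
      rw [← map_pow, ← hw, map_mul, map_mul]
      field_simp) with h | h | h
    · exact (h12 h).elim .inl (fun h' => .inr (.inl h'))
    · exact .inr (.inr (.inl h))
    · exact .inr (.inr (.inr h))
  · intro n a hn hpn he
    exact GrothLib.EtRam10.as_totallyRamified ξ z hz hgen hπ hn hpn
      (fun h => (IsLocalRing.mem_maximalIdeal _).mp h a.isUnit) he
  · intro n a hn hpn hna he
    exact GrothLib.EtRam10.as_inseparable ξ z hz hgen hπ hn hpn hna he

end Groth.Agent.S7158
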