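import Groth.Statements.S7159
import Groth.Agent.Lib.EtRam10.Kummer

set_option autoImplicit false
universe u
open EtAlg

namespace Groth.Agent.S7159

open Polynomial in
/-- Let A be a discrete valuation ring whose fraction field K has characteristic 0 and whose residue
field has characteristic p, and suppose A contains an element ζ with 1 + ζ + ... + ζ^(p-1) = 0 (a
primitive p-th root of unity); set w = 1 - ζ and let P in A[t] be the polynomial with w^p·P(t) = (1
+ wt)^p - 1. Let ξ be an element of K and let L = K(z) be obtained by adjoining a root z of P(z) =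
ξ. Then L/K is a Galois extension, and it falls under one of four cases: (1) L = K; (2) L/K has
degree p and is unramified with respect to A; (3) L/K has degree p and is totally ramified with
respect to A (ramification index p); (4) exactly one valuation ring of L dominates A (so B, the
integral closure of A in L, is itself a discrete valuation ring), the extension A → B is weakly
unramified, and its residue field extension is purely inseparable of degree p. Moreover, with π a
uniformizer of A: (A) if ξ lies in A, case (1) or (2) holds; (B) if ξ = π⁻ⁿa with n > 0 prime to p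
and a a unit of A, case (3) holds; (C) if ξ = π⁻ⁿa with n > 0 divisible by p and the residue class
of a not a p-th power, case (4) holds. -/
theorem result (p : ℕ) (hp : p.Prime) (A K L : Type u) [CommRing A] [IsDomain A]
    [IsDiscreteValuationRing A] [Field K] [Algebra A K] [IsFractionRing A K] [Field L] [Algebra K L] [Algebra A L]
    [IsScalarTower A K L] [CharZero K] [CharP (IsLocalRing.ResidueField A) p] (ζ : A)
    (hζ : aeval ζ (cyclotomic p ℤ) = 0) (P : A[X]) (hP : C ((1 - ζ) ^ p) * P = (1 + C (1 - ζ) * X) ^ p - 1) (π : A) (hπ : IsLocalRing.maximalIdeal A = Ideal.span {π})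
    (ξ : K) (z : L) (hz : aeval z P = algebraMap K L ξ) (hgen : IntermediateField.adjoin K {z} = ⊤) :
    let g : A →+* L := algebraMap A L
    let case1 : Prop := Module.finrank K L = 1
    let case2 : Prop := EtRam.IsUnramifiedExt A g ∧ Module.finrank K L = p
    let case3 : Prop := EtRam.IsTotallyRamified A g ∧ Module.finrank K L = p
    let case4 : Prop := (∃ V : ValuationSubring L, EtRam.Dominates A g V) ∧
      (∀ V V' : ValuationSubring L, EtRam.Dominates A g V → EtRam.Dominates A g V' → V = V') ∧
      ∀ (V : ValuationSubring L) (h : EtRam.Dominates A g V),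
        letI : Algebra A V := (RingHom.codRestrict g V h.1).toAlgebra
        ∀ [IsLocalHom (algebraMap A V)],
          EtRam.IsWeaklyUnramified A V ∧
            IsPurelyInseparable (IsLocalRing.ResidueField A) (IsLocalRing.ResidueField V) ∧
            Module.finrank (IsLocalRing.ResidueField A) (IsLocalRing.ResidueField V) = p
    IsGalois K L ∧ (case1 ∨ case2 ∨ case3 ∨ case4) ∧
      ((∃ a : A, algebraMap A K a = ξ) → case1 ∨ case2) ∧
      (∀ (n : ℕ) (a : Aˣ), 0 < n → ¬ p ∣ n → ξ * algebraMap A K π ^ n = algebraMap A K a → case3) ∧
      (∀ (n : ℕ) (a : A), 0 < n → p ∣ n → (∀ r : A, IsLocalRing.residue A a ≠ IsLocalRing.residue A r ^ p) →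
          ξ * algebraMap A K π ^ n = algebraMap A K a → case4) := by
  intro g case1 case2 case3 case4
  haveI : NeZero (p : A) := ⟨fun h0 => by
    have := congrArg (algebraMap A K) h0
    rw [map_natCast, map_zero, Nat.cast_eq_zero] at this
    exact hp.ne_zero this⟩
  have hprim : IsPrimitiveRoot ζ p := by
    rw [← Polynomial.isRoot_cyclotomic_iff, Polynomial.IsRoot, ← Polynomial.map_cyclotomic_int,
      Polynomial.eval_map, ← hζ]
    rfl
  obtain ⟨hmon, hd, hres⟩ := GrothLib.EtRam10.kummer_poly hp ζ hprim P hP
  obtain ⟨hgal, hfr⟩ := GrothLib.EtRam10.kummer_galois hp ζ hprim P hP ξ z hz hgen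
  have h12 : EtRam.IsUnramifiedExt A g → case1 ∨ case2 := fun h =>
    hfr.elim .inl fun h' => .inr ⟨h, h'⟩
  refine ⟨hgal, ?_, fun ⟨a, ha⟩ =>
    h12 (GrothLib.EtRam10.monic_unramified hp P hmon hd ξ z hz hgen hπ hres a ha), ?_, ?_⟩
  · rcases GrothLib.EtRam10.kummer_cases hp ζ hprim P hP ξ z hz hgen hπ with h | h | h | h
    · exact .inl h
    · exact (h12 h).elim .inl (fun h' => .inr (.inl h'))
    · exact .inr (.inr (.inl h))
    · exact .inr (.inr (.inr h))
  · intro n a hn hpn he
    exact GrothLib.EtRam10.monic_totallyRamified hp P hmon hd ξ z hz hgen hπ hn hpn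
      (fun h => (IsLocalRing.mem_maximalIdeal _).mp h a.isUnit) he
  · intro n a hn hpn hna he
    exact GrothLib.EtRam10.monic_inseparable hp P hmon hd ξ z hz hgen hπ hn hpn hna he

end Groth.Agent.S7159
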