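import Groth.Statements.S7160
import Groth.Agent.Lib.DCxRing.TwoTermHom
import Mathlib.Algebra.Homology.ShortComplex.Linear

set_option autoImplicit false
universe u
open CategoryTheory CategoryTheory.Pretriangulated
attribute [local instance] HasDerivedCategory.standard
open CAlg

namespace Groth.Agent.S7160

lemma homology_smul_id (R : Type u) [CommRing R] (r : R) (M : Dual.D R) (i : ℤ) :
    (DerivedCategory.homologyFunctor (ModuleCat.{u} R) i).map (r • 𝟙 M) = r • 𝟙 _ := by
  let H := DerivedCategory.homologyFunctor (ModuleCat.{u} R) i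
  have e : DerivedCategory.Q.obj (DerivedCategory.Q.objPreimage M) ≅ M :=
    DerivedCategory.Q.objObjPreimageIso M
  set K := DerivedCategory.Q.objPreimage M
  let F := HomologicalComplex.homologyFunctor (ModuleCat.{u} R) (ComplexShape.up ℤ) i
  have h0 : F.map (r • 𝟙 K) = r • 𝟙 (F.obj K) := by
    refine Eq.trans (ShortComplex.homologyMap_smul
      ((HomologicalComplex.shortComplexFunctor _ _ i).map (𝟙 K)) r) ?_
    exact congrArg (r • ·) (HomologicalComplex.homologyMap_id K i)
  have h1 : H.map (DerivedCategory.Q.map (r • 𝟙 K)) = r • 𝟙 _ := by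
    let n := (DerivedCategory.homologyFunctorFactors (ModuleCat.{u} R) i).app K
    have h2 := DerivedCategory.homologyFunctorFactors_hom_naturality (r • 𝟙 K) i
    rw [← cancel_mono n.hom]
    exact h2.trans (by rw [show HomologicalComplex.homologyMap (r • 𝟙 K) i = _ from h0]; simp [n]; rfl)
  have h3 : r • 𝟙 M = e.inv ≫ DerivedCategory.Q.map (r • 𝟙 K) ≫ e.hom := by
    rw [Functor.map_smul, CategoryTheory.Functor.map_id]; simp
  rw [h3, Functor.map_comp, Functor.map_comp, h1]
  simp [H, ← Functor.map_comp]


/-- Let R be a ring, f an element of R, M an object of D(R) and C the cone of f : M → M. Suppose that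
H^i(M)_f = 0 whenever i < 0 (every element of H^i(M) is killed by a power of f) and that H^i(C) = 0
whenever i < -1. Then H^i(M) vanishes for every i < 0. -/
theorem result (R : Type u) [CommRing R] (f : R) (M C : Dual.D R)
    (g : M ⟶ C) (h : C ⟶ M⟦(1 : ℤ)⟧) (hT : Triangle.mk (f • 𝟙 M) g h ∈ distinguishedTriangles)
    (hloc : ∀ i : ℤ, i < 0 → ∀ x : Dual.HD R M i, ∃ n : ℕ, f ^ n • x = 0)
    (hC : ∀ i : ℤ, i < -1 → Subsingleton (Dual.HD R C i)) :
    ∀ i : ℤ, i < 0 → Subsingleton (Dual.HD R M i) := by
  intro i hi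
  have hz : Limits.IsZero ((DerivedCategory.homologyFunctor (ModuleCat.{u} R) (i - 1)).obj C) :=
    haveI : Subsingleton (Dual.HD R C (i - 1)) := hC (i - 1) (by omega)
    ModuleCat.isZero_iff_subsingleton.2 inferInstance
  have hex := DerivedCategory.HomologySequence.exact₁ _ hT (i - 1) i (by omega)
  have hmono : Mono ((DerivedCategory.homologyFunctor (ModuleCat.{u} R) i).map (f • 𝟙 M)) :=
    hex.mono_g (hz.eq_of_src _ _)
  rw [homology_smul_id] at hmono
  have hinj : ∀ x : Dual.HD R M i, f • x = 0 → x = 0 := fun x hx => by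
    apply (ModuleCat.mono_iff_injective _).1 hmono
    simpa using hx
  refine ⟨fun a b => ?_⟩
  have key : ∀ x : Dual.HD R M i, x = 0 := fun x => by
    obtain ⟨n, hn⟩ := hloc i hi x
    induction n with
    | zero => simpa using hn
    | succ n ih => exact ih (hinj _ (by rw [← mul_smul, ← pow_succ']; exact hn))
  rw [key a, key b]

end Groth.Agent.S7160
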