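import Groth.Statements.S7162
import Groth.Agent.Lib.EtRam10.SolExt
import Mathlib.FieldTheory.SplittingField.Construction

set_option autoImplicit false
universe u
open EtAlg

namespace Groth.Agent.S7162

set_option maxHeartbeats 1000000
open IsLocalRing GrothLib.EtRam10

/-- A solution for the big square gives one for the small square. -/
theorem reflect (A B A' B' K L K' L' : Type u) [CommRing A] [IsDomain A] [IsDiscreteValuationRing A]
    [CommRing B] [IsDomain B] [IsDiscreteValuationRing B] [CommRing A'] [IsDomain A'] [IsDiscreteValuationRing A']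
    [CommRing B'] [IsDomain B'] [IsDiscreteValuationRing B']
    [Algebra A B] [IsLocalHom (algebraMap A B)] [Algebra B B'] [IsLocalHom (algebraMap B B')]
    [Algebra A' B'] [IsLocalHom (algebraMap A' B')] (hBB' : Function.Injective (algebraMap B B'))
    [Field K] [Field L] [Field K'] [Field L'] [Algebra A K] [IsFractionRing A K] [Algebra B L] [IsFractionRing B L]
    [Algebra A' K'] [IsFractionRing A' K'] [Algebra B' L'] [IsFractionRing B' L']
    [Algebra K L] [Algebra A L] [IsScalarTower A K L] [IsScalarTower A B L]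
    [Algebra K' L'] [Algebra A' L'] [IsScalarTower A' K' L'] [IsScalarTower A' B' L']
    [Algebra K K'] [Algebra A K'] [IsScalarTower A K K'] [Algebra L L'] [Algebra B L'] [IsScalarTower B L L']
    [IsScalarTower B B' L'] [Algebra.IsSeparable K K']
    (hsq : (algebraMap K' L').comp (algebraMap K K') = (algebraMap L L').comp (algebraMap K L))
    (hgenK : IsSepRedGenerated A K K')
    (K₁' : Type u) [Field K₁'] [Algebra K' K₁'] [FiniteDimensional K' K₁'] (hsol : EtRam.IsSolution B' K' L' K₁') :
    ∃ (K₁ : Type u) (_ : Field K₁) (_ : Algebra K K₁), FiniteDimensional K K₁ ∧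
      (Algebra.IsSeparable K' K₁' → Algebra.IsSeparable K K₁) ∧ EtRam.IsSolution B K L K₁ := by
  classical
  letI : Algebra K K₁' := ((algebraMap K' K₁').comp (algebraMap K K')).toAlgebra
  haveI : IsScalarTower K K' K₁' := .of_algebraMap_eq' rfl
  haveI : Algebra.IsAlgebraic K K' := Algebra.IsSeparable.isAlgebraic K K'
  haveI : Algebra.IsAlgebraic K' K₁' := Algebra.IsAlgebraic.of_finite K' K₁'
  haveI : Algebra.IsAlgebraic K K₁' := Algebra.IsAlgebraic.trans K K' K₁'
  haveI : Algebra.IsIntegral K K₁' := Algebra.isAlgebraic_iff_isIntegral.mp inferInstance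
  let γ := Module.finBasis K' K₁'
  set P : Polynomial K := ∏ i, minpoly K (γ i) with hP
  have hP0 : P ≠ 0 := Finset.prod_ne_zero_iff.mpr fun i _ => minpoly.ne_zero (Algebra.IsIntegral.isIntegral _)
  refine ⟨P.SplittingField, inferInstance, inferInstance, inferInstance, fun hsep => ?_, ?_⟩
  · haveI := hsep
    haveI : Algebra.IsSeparable K K₁' := Algebra.IsSeparable.trans K K' K₁'
    rw [← separableClosure.eq_top_iff, eq_top_iff]
    intro x _
    have hx : x ∈ Algebra.adjoin K (P.rootSet P.SplittingField) := by
      rw [Polynomial.SplittingField.adjoin_rootSet]; trivial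
    refine (Algebra.adjoin_le (S := (separableClosure K P.SplittingField).toSubalgebra) ?_) hx
    intro r hr
    show r ∈ separableClosure K P.SplittingField
    rw [mem_separableClosure_iff]
    have h0 : Polynomial.aeval r (∏ i, minpoly K (γ i)) = 0 := ((Polynomial.mem_rootSet_of_ne hP0).mp hr)
    rw [map_prod, Finset.prod_eq_zero_iff] at h0
    obtain ⟨i, -, hi⟩ := h0
    exact (Algebra.IsSeparable.isSeparable K (γ i)).of_dvd (minpoly.dvd K r hi)
  intro M _ _ _ _ _ _ hgen W hW
  obtain ⟨Ω₀, _, iM₀, i0₀, V₀, hcomm₀, hV₀, hdom₀⟩ :=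
    GrothLib.DVRExt.exists_compositum (C := B') (M₀ := L') (L := L) hBB' W hW
  let jΩ := algebraMap Ω₀ (AlgebraicClosure Ω₀)
  obtain ⟨V, hVm, hVloc⟩ := IsLocalRing.exists_factor_valuationRing (jΩ.comp V₀.subtype)
  have hlt : ∀ x : V₀, x ∈ maximalIdeal V₀ → V.valuation (jΩ (x : Ω₀)) < 1 := fun x hx =>
    (V.valuation_lt_one_iff ⟨_, hVm x⟩).mp fun hu => hx (hVloc.map_nonunit _ hu)
  have hVV₀ : V.comap jΩ = V₀ := GrothLib.DVRExt.mem_of_dominated (fun x hx => hVm ⟨x, hx⟩) fun x hx =>
    valuation_comap_lt_one jΩ V (hlt x hx)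
  let iM : M →+* AlgebraicClosure Ω₀ := jΩ.comp iM₀
  let i0 : L' →+* AlgebraicClosure Ω₀ := jΩ.comp i0₀
  have hcomm : ∀ l, iM (algebraMap L M l) = i0 (algebraMap L L' l) := fun l =>
    congrArg jΩ (RingHom.congr_fun hcomm₀ l)
  have hVW : V.comap iM = W := by rw [← hV₀, ← hVV₀]; rfl
  have hdom : EtRam.Dominates B' (i0.comp (algebraMap B' L')) V := by
    refine ⟨fun c => hVm ⟨_, hdom₀.1 c⟩, fun c hc => hlt ⟨_, hdom₀.1 c⟩ ((V₀.valuation_lt_one_iff _).mpr (hdom₀.2 c hc))⟩
  letI : Algebra L' (AlgebraicClosure Ω₀) := i0.toAlgebra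
  letI : Algebra K' (AlgebraicClosure Ω₀) := (i0.comp (algebraMap K' L')).toAlgebra
  haveI : IsScalarTower K' L' (AlgebraicClosure Ω₀) := .of_algebraMap_eq' rfl
  letI : Algebra K (AlgebraicClosure Ω₀) := ((i0.comp (algebraMap K' L')).comp (algebraMap K K')).toAlgebra
  haveI : IsScalarTower K K' (AlgebraicClosure Ω₀) := .of_algebraMap_eq' rfl
  let τ : K₁' →ₐ[K'] AlgebraicClosure Ω₀ := IsAlgClosed.lift
  letI : Algebra K₁' (AlgebraicClosure Ω₀) := τ.toRingHom.toAlgebra
  haveI : IsScalarTower K' K₁' (AlgebraicClosure Ω₀) := .of_algebraMap_eq fun x => (τ.commutes x).symm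
  haveI : IsScalarTower K K₁' (AlgebraicClosure Ω₀) := .of_algebraMap_eq fun x => (τ.commutes _).symm
  let ι : P.SplittingField →+* AlgebraicClosure Ω₀ := iM.comp (algebraMap P.SplittingField M)
  have hιK : ∀ k, ι (algebraMap K P.SplittingField k) = algebraMap K (AlgebraicClosure Ω₀) k := fun k => by
    show iM (algebraMap P.SplittingField M (algebraMap K P.SplittingField k)) = i0 (algebraMap K' L' (algebraMap K K' k))
    rw [← IsScalarTower.algebraMap_apply K P.SplittingField M, IsScalarTower.algebraMap_apply K L M, hcomm]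
    exact congrArg i0 (RingHom.congr_fun hsq k).symm
  letI : Algebra P.SplittingField (AlgebraicClosure Ω₀) := ι.toAlgebra
  haveI : IsScalarTower K P.SplittingField (AlgebraicClosure Ω₀) := .of_algebraMap_eq fun k => (hιK k).symm
  have hτγ : ∀ i, τ (γ i) ∈ ι.range := by
    intro i
    have hsp : ((minpoly K (γ i)).map (algebraMap K P.SplittingField)).Splits := by
      refine Polynomial.Splits.of_dvd (Polynomial.SplittingField.splits P) ?_
        (Polynomial.map_dvd _ (Finset.dvd_prod_of_mem (fun i => minpoly K (γ i)) (Finset.mem_univ i)))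
      exact Polynomial.map_ne_zero hP0
    refine hsp.mem_range_of_isRoot (Polynomial.map_ne_zero (minpoly.ne_zero (Algebra.IsIntegral.isIntegral _))) ?_
    rw [Polynomial.map_map, Polynomial.IsRoot, Polynomial.eval_map,
      show ι.comp (algebraMap K P.SplittingField) = algebraMap K (AlgebraicClosure Ω₀) from RingHom.ext hιK,
      ← Polynomial.aeval_def]
    show Polynomial.aeval ((τ.restrictScalars K) (γ i)) (minpoly K (γ i)) = 0
    rw [Polynomial.aeval_algHom_apply, minpoly.aeval, map_zero]
  -- `F₁`
  let bK := Module.finBasis K P.SplittingField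
  set s : Set (AlgebraicClosure Ω₀) := Set.range fun i => ι (bK i) with hs
  haveI : Algebra.IsIntegral K P.SplittingField := Algebra.IsIntegral.of_finite K _
  have hιint : ∀ x, IsIntegral K (ι x) := fun x =>
    (Algebra.IsIntegral.isIntegral (R := K) x).map (IsScalarTower.toAlgHom K P.SplittingField (AlgebraicClosure Ω₀))
  set F₁ := IntermediateField.adjoin K₁' s with hF₁
  haveI : FiniteDimensional K₁' F₁ := IntermediateField.finiteDimensional_adjoin (by
    rintro _ ⟨i, rfl⟩; exact (hιint _).tower_top)
  have hι₁ : ∀ x, ι x ∈ F₁ := by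
    intro x
    rw [← bK.sum_repr x, map_sum]
    refine sum_mem fun i _ => ?_
    rw [Algebra.smul_def, map_mul, hιK, IsScalarTower.algebraMap_apply K K₁' (AlgebraicClosure Ω₀)]
    exact mul_mem (F₁.algebraMap_mem _) (IntermediateField.subset_adjoin _ _ ⟨i, rfl⟩)
  letI : Algebra P.SplittingField F₁ := (ι.codRestrict F₁ hι₁).toAlgebra
  -- `W ∩ K₁`
  have hA1 : ∀ a : A, ι (algebraMap A P.SplittingField a) = iM ((algebraMap L M).comp (algebraMap B L) (algebraMap A B a)) := fun a => by
    show iM (algebraMap P.SplittingField M (algebraMap A P.SplittingField a)) = _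
    rw [IsScalarTower.algebraMap_apply A K P.SplittingField, ← IsScalarTower.algebraMap_apply K P.SplittingField M, IsScalarTower.algebraMap_apply K L M,
      ← IsScalarTower.algebraMap_apply A K L, IsScalarTower.algebraMap_apply A B L]
    rfl
  have hWV : ∀ m, iM m ∈ V ↔ m ∈ W := fun m => by rw [← hVW]; rfl
  have hdA1 : EtRam.Dominates A (algebraMap A P.SplittingField) (V.comap ι) := by
    have hWA : EtRam.Dominates A ((algebraMap L M).comp ((algebraMap B L).comp (algebraMap A B))) W :=
      ⟨fun a => hW.1 _, fun a ha => hW.2 _ fun hu => ha (IsUnit.of_map (algebraMap A B) a hu)⟩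
    have h2 : EtRam.Dominates A ((algebraMap P.SplittingField M).comp (algebraMap A P.SplittingField)) W := by
      have e : (algebraMap P.SplittingField M).comp (algebraMap A P.SplittingField) =
          (algebraMap L M).comp ((algebraMap B L).comp (algebraMap A B)) := RingHom.ext fun a => iM.injective (hA1 a)
      rw [e]; exact hWA
    have h3 := dominates_comap_of_comp _ (algebraMap A P.SplittingField) W h2
    rw [← hVW] at h3
    exact h3
  haveI hdvr1 : IsDiscreteValuationRing (V.comap ι) :=
    GrothLib.DVRExt.isDiscreteValuationRing_of_dominates A K P.SplittingField (V.comap ι) (IsScalarTower.algebraMap_eq A K P.SplittingField ▸ hdA1)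
  haveI : IsDiscreteValuationRing ((V.comap F₁.val.toRingHom).comap (algebraMap P.SplittingField F₁)) := hdvr1
  have good₁ : Good (algebraMap P.SplittingField F₁) (V.comap F₁.val.toRingHom) := by
    refine good_of_generated (V.comap F₁.val.toRingHom) ?_
    set A₁ := (V.comap F₁.val.toRingHom).comap (algebraMap P.SplittingField F₁) with hA₁
    letI : Algebra A₁ F₁ := ((algebraMap P.SplittingField F₁).comp A₁.subtype).toAlgebra
    let gA : A →+* A₁ := (algebraMap A P.SplittingField).codRestrict A₁ hdA1.1
    haveI : IsLocalHom gA := isLocalHom_of_dominates _ _ hdA1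
    unfold IsSepRedGenerated
    set S := IntermediateField.adjoin P.SplittingField {x : F₁ | SepRed A₁ x} with hS
    let T : IntermediateField K (AlgebraicClosure Ω₀) :=
      { carrier := {w | ∃ h : w ∈ F₁, (⟨w, h⟩ : F₁) ∈ S}
        mul_mem' := fun {a b} ⟨ha, ha'⟩ ⟨hb, hb'⟩ => ⟨mul_mem ha hb, mul_mem ha' hb'⟩
        add_mem' := fun {a b} ⟨ha, ha'⟩ ⟨hb, hb'⟩ => ⟨add_mem ha hb, add_mem ha' hb'⟩
        one_mem' := ⟨one_mem _, one_mem S⟩
        zero_mem' := ⟨zero_mem _, zero_mem S⟩
        algebraMap_mem' := fun k => ⟨(hιK k) ▸ hι₁ _, by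
          have : (⟨algebraMap K (AlgebraicClosure Ω₀) k, (hιK k) ▸ hι₁ _⟩ : F₁) =
              algebraMap P.SplittingField F₁ (algebraMap K P.SplittingField k) := Subtype.ext (hιK k).symm
          rw [this]
          exact S.algebraMap_mem _⟩
        inv_mem' := fun a ⟨ha, ha'⟩ => ⟨inv_mem ha, inv_mem ha'⟩ }
    have hιT : ∀ x, ι x ∈ T := fun x => ⟨hι₁ x, S.algebraMap_mem x⟩
    have hK'T : ∀ x : K', algebraMap K' (AlgebraicClosure Ω₀) x ∈ T := by
      intro x
      have hx : x ∈ IntermediateField.adjoin K {x : K' | SepRed A x} := by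
        rw [show IntermediateField.adjoin K {x : K' | SepRed A x} = ⊤ from hgenK]; trivial
      induction hx using IntermediateField.adjoin_induction with
      | mem x hx =>
        have hmem : algebraMap K' (AlgebraicClosure Ω₀) x ∈ F₁ := by
          rw [IsScalarTower.algebraMap_apply K' K₁' (AlgebraicClosure Ω₀)]; exact F₁.algebraMap_mem _
        refine ⟨hmem, IntermediateField.subset_adjoin _ _ ?_⟩
        let j₀ : K' →+* F₁ := (algebraMap K' (AlgebraicClosure Ω₀)).codRestrict F₁ fun y => by
          rw [IsScalarTower.algebraMap_apply K' K₁' (AlgebraicClosure Ω₀)]; exact F₁.algebraMap_mem _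
        show SepRed A₁ (j₀ x)
        refine SepRed.map_hom gA j₀ (fun a => Subtype.ext ?_) hx
        show algebraMap K' (AlgebraicClosure Ω₀) (algebraMap A K' a) = ι (algebraMap A P.SplittingField a)
        rw [IsScalarTower.algebraMap_apply A K K', ← IsScalarTower.algebraMap_apply K K' (AlgebraicClosure Ω₀),
          IsScalarTower.algebraMap_apply A K P.SplittingField]
        exact (hιK _).symm
      | algebraMap k =>
        rw [← IsScalarTower.algebraMap_apply]; exact T.algebraMap_mem k
      | add a b _ _ ha hb => rw [map_add]; exact add_mem ha hb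
      | inv a _ ha => rw [map_inv₀]; exact inv_mem ha
      | mul a b _ _ ha hb => rw [map_mul]; exact mul_mem ha hb
    have hτT : ∀ x : K₁', τ x ∈ T := by
      intro x
      rw [← γ.sum_repr x, map_sum]
      refine sum_mem fun i _ => ?_
      rw [Algebra.smul_def, map_mul, τ.commutes]
      obtain ⟨y, hy⟩ := hτγ i
      exact mul_mem (hK'T _) (hy ▸ hιT y)
    have hsub : ∀ w ∈ F₁, w ∈ T := by
      intro w hw
      induction hw using IntermediateField.adjoin_induction with
      | mem w hw => obtain ⟨i, rfl⟩ := hw; exact hιT _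
      | algebraMap k => exact hτT k
      | add a b _ _ ha hb => exact add_mem ha hb
      | inv a _ ha => exact inv_mem ha
      | mul a b _ _ ha hb => exact mul_mem ha hb
    rw [eq_top_iff]
    intro w _
    obtain ⟨_, hw⟩ := hsub w w.2
    exact hw
  -- `G₀` and the given solution
  set G₀ := IntermediateField.adjoin L' (Set.range fun i => τ (γ i)) with hG₀
  have hτint : ∀ x, IsIntegral L' (τ x) := fun x =>
    (((Algebra.IsIntegral.of_finite K' K₁').isIntegral x).map τ).tower_top
  haveI : FiniteDimensional L' G₀ := IntermediateField.finiteDimensional_adjoin (by rintro _ ⟨i, rfl⟩; exact hτint _)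
  have hτG : ∀ x, τ x ∈ G₀ := by
    intro x
    rw [← γ.sum_repr x, map_sum]
    refine sum_mem fun i _ => ?_
    rw [Algebra.smul_def, map_mul, τ.commutes, IsScalarTower.algebraMap_apply K' L' (AlgebraicClosure Ω₀)]
    exact mul_mem (G₀.algebraMap_mem _) (IntermediateField.subset_adjoin _ _ ⟨i, rfl⟩)
  letI : Algebra K₁' G₀ := (τ.toRingHom.codRestrict G₀ hτG).toAlgebra
  letI : Algebra K' G₀ := ((algebraMap L' G₀).comp (algebraMap K' L')).toAlgebra
  haveI : IsScalarTower K' L' G₀ := .of_algebraMap_eq' rfl
  haveI : IsScalarTower K' K₁' G₀ := .of_algebraMap_eq fun x => Subtype.ext (τ.commutes x).symm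
  haveI : IsScalarTower K₁' G₀ (AlgebraicClosure Ω₀) := .of_algebraMap_eq fun _ => rfl
  have hgenG₀ : Algebra.adjoin L' (Set.range (algebraMap K₁' G₀)) = ⊤ := by
    rw [eq_top_iff]
    intro w hw0
    clear hw0
    have hw : (w : AlgebraicClosure Ω₀) ∈ Algebra.adjoin L' (Set.range fun i => τ (γ i)) := by
      rw [← IntermediateField.adjoin_toSubalgebra_of_isAlgebraic (by rintro _ ⟨i, rfl⟩; exact (hτint _).isAlgebraic)]
      exact w.2
    have h2 : ∀ v ∈ Algebra.adjoin L' (Set.range fun i => τ (γ i)), ∀ h : v ∈ G₀,
        (⟨v, h⟩ : G₀) ∈ Algebra.adjoin L' (Set.range (algebraMap K₁' G₀)) := by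
      intro v hv
      induction hv using Algebra.adjoin_induction with
      | mem v hv => obtain ⟨i, rfl⟩ := hv; intro h; exact Algebra.subset_adjoin ⟨γ i, rfl⟩
      | algebraMap l => intro h; exact Subalgebra.algebraMap_mem _ l
      | add a b ha hb iha ihb =>
        intro h
        have ha' : a ∈ G₀ := IntermediateField.algebra_adjoin_le_adjoin _ _ ha
        have hb' : b ∈ G₀ := IntermediateField.algebra_adjoin_le_adjoin _ _ hb
        exact (add_mem (iha ha') (ihb hb') : (⟨a, ha'⟩ + ⟨b, hb'⟩ : G₀) ∈ _)
      | mul a b ha hb iha ihb =>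
        intro h
        have ha' : a ∈ G₀ := IntermediateField.algebra_adjoin_le_adjoin _ _ ha
        have hb' : b ∈ G₀ := IntermediateField.algebra_adjoin_le_adjoin _ _ hb
        exact (mul_mem (iha ha') (ihb hb') : (⟨a, ha'⟩ * ⟨b, hb'⟩ : G₀) ∈ _)
    exact h2 _ hw w.2
  have hdG₀ : EtRam.Dominates B' ((algebraMap L' G₀).comp (algebraMap B' L')) (V.comap G₀.val.toRingHom) :=
    dominates_comap_of_comp G₀.val.toRingHom _ V hdom
  have good₀ : Good (algebraMap K₁' G₀) (V.comap G₀.val.toRingHom) := hsol G₀ hgenG₀ _ hdG₀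
  haveI hdvrG₀ : IsDiscreteValuationRing (V.comap G₀.val.toRingHom) :=
    GrothLib.DVRExt.isDiscreteValuationRing_of_dominates B' L' G₀ _ hdG₀
  haveI : IsDiscreteValuationRing ((V.comap G₀.val.toRingHom).comap (algebraMap K₁' G₀)) := by
    refine GrothLib.DVRExt.isDiscreteValuationRing_of_dominates A' K' K₁' _ ?_
    refine dominates_comap_of_comp (algebraMap K₁' G₀) _ (V.comap G₀.val.toRingHom) ?_
    have e : (algebraMap K₁' G₀).comp ((algebraMap K' K₁').comp (algebraMap A' K')) =
        ((algebraMap L' G₀).comp (algebraMap B' L')).comp (algebraMap A' B') := by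
      ext a
      show τ (algebraMap K' K₁' (algebraMap A' K' a)) = algebraMap L' (AlgebraicClosure Ω₀) (algebraMap B' L' (algebraMap A' B' a))
      rw [τ.commutes, IsScalarTower.algebraMap_apply K' L' (AlgebraicClosure Ω₀), ← IsScalarTower.algebraMap_apply A' K' L',
        ← IsScalarTower.algebraMap_apply A' B' L']
    rw [e]
    exact ⟨fun a => hdG₀.1 _, fun a ha => hdG₀.2 _ fun hu => ha (IsUnit.of_map (algebraMap A' B') a hu)⟩
  -- `G₁`
  set G₁ := IntermediateField.adjoin G₀ s with hG₁
  have hFG : ∀ w : F₁, (w : AlgebraicClosure Ω₀) ∈ G₁ := by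
    intro w
    have : ∀ v ∈ F₁, v ∈ G₁ := by
      intro v hv
      induction hv using IntermediateField.adjoin_induction with
      | mem v hv => exact IntermediateField.subset_adjoin _ _ hv
      | algebraMap k => exact G₁.algebraMap_mem ⟨τ k, hτG k⟩
      | add a b _ _ ha hb => exact add_mem ha hb
      | inv a _ ha => exact inv_mem ha
      | mul a b _ _ ha hb => exact mul_mem ha hb
    exact this _ w.2
  letI : Algebra F₁ G₁ := (F₁.val.toRingHom.codRestrict G₁ hFG).toAlgebra
  letI : Algebra K₁' G₁ := ((algebraMap G₀ G₁).comp (algebraMap K₁' G₀)).toAlgebra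
  haveI : IsScalarTower K₁' G₀ G₁ := .of_algebraMap_eq' rfl
  haveI : IsScalarTower K₁' F₁ G₁ := .of_algebraMap_eq fun x => Subtype.ext rfl
  have hgenG₁ : Algebra.adjoin G₀ (Set.range (algebraMap F₁ G₁)) = ⊤ := by
    rw [eq_top_iff]
    intro w hw0
    clear hw0
    have hsint : ∀ v ∈ s, IsAlgebraic G₀ v := by
      rintro _ ⟨i, rfl⟩
      exact ((hιint (bK i)).tower_top (A := K₁')).tower_top (A := G₀) |>.isAlgebraic
    have hw : (w : AlgebraicClosure Ω₀) ∈ Algebra.adjoin G₀ s := by
      rw [← IntermediateField.adjoin_toSubalgebra_of_isAlgebraic hsint]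
      exact w.2
    have h2 : ∀ v ∈ Algebra.adjoin G₀ s, ∀ h : v ∈ G₁,
        (⟨v, h⟩ : G₁) ∈ Algebra.adjoin G₀ (Set.range (algebraMap F₁ G₁)) := by
      intro v hv
      induction hv using Algebra.adjoin_induction with
      | mem v hv => intro h; exact Algebra.subset_adjoin ⟨⟨v, IntermediateField.subset_adjoin _ _ hv⟩, rfl⟩
      | algebraMap l => intro h; exact Subalgebra.algebraMap_mem _ l
      | add a b ha hb iha ihb =>
        intro h
        have ha' : a ∈ G₁ := IntermediateField.algebra_adjoin_le_adjoin _ _ ha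
        have hb' : b ∈ G₁ := IntermediateField.algebra_adjoin_le_adjoin _ _ hb
        exact (add_mem (iha ha') (ihb hb') : (⟨a, ha'⟩ + ⟨b, hb'⟩ : G₁) ∈ _)
      | mul a b ha hb iha ihb =>
        intro h
        have ha' : a ∈ G₁ := IntermediateField.algebra_adjoin_le_adjoin _ _ ha
        have hb' : b ∈ G₁ := IntermediateField.algebra_adjoin_le_adjoin _ _ hb
        exact (mul_mem (iha ha') (ihb hb') : (⟨a, ha'⟩ * ⟨b, hb'⟩ : G₁) ∈ _)
    exact h2 _ hw w.2
  haveI : IsDiscreteValuationRing ((V.comap G₁.val.toRingHom).comap (algebraMap G₀ G₁)) := hdvrG₀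
  haveI : IsDiscreteValuationRing (((V.comap G₁.val.toRingHom).comap (algebraMap G₀ G₁)).comap (algebraMap K₁' G₀)) := ‹_›
  have good₂ : Good (algebraMap F₁ G₁) (V.comap G₁.val.toRingHom) :=
    Good.extend hgenG₁ (V.comap G₁.val.toRingHom) good₀
  have good₃ : Good ((algebraMap F₁ G₁).comp (algebraMap P.SplittingField F₁)) (V.comap G₁.val.toRingHom) :=
    Good.trans good₁ good₂
  -- `M → G₁`
  have hMG : ∀ m, iM m ∈ G₁ := by
    intro m
    have hm : m ∈ Algebra.adjoin L (Set.range (algebraMap P.SplittingField M)) := hgen ▸ Algebra.mem_top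
    induction hm using Algebra.adjoin_induction with
    | mem m hm => obtain ⟨x, rfl⟩ := hm; exact hFG ⟨ι x, hι₁ x⟩
    | algebraMap l => rw [hcomm]; exact G₁.algebraMap_mem (algebraMap L' G₀ (algebraMap L L' l))
    | add a b _ _ ha hb => rw [map_add]; exact add_mem ha hb
    | mul a b _ _ ha hb => rw [map_mul]; exact mul_mem ha hb
  let j : M →+* G₁ := iM.codRestrict G₁ hMG
  have e : (algebraMap F₁ G₁).comp (algebraMap P.SplittingField F₁) = j.comp (algebraMap P.SplittingField M) :=
    RingHom.ext fun x => Subtype.ext rfl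
  rw [e] at good₃
  have hres := good₃.descend
  have hcW : (V.comap G₁.val.toRingHom).comap j = W := hVW
  rw [hcW] at hres
  exact hres


/-- Let A → B be an injective local homomorphism of discrete valuation rings whose fields of fractions
are K ⊆ L. There is a commutative square of such extensions A ⊆ A', B ⊆ B', A' ⊆ B' (with fraction
fields K', L') such that (1) K'/K and L'/L are separable algebraic, (2) the residue field of A' is a
separable algebraic closure of that of A, and likewise for B' over B, and (3) whenever A' ⊆ B'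
admits a solution (respectively a separable solution), so does A ⊆ B. (The published statement
asserts (3) for weak solutions as well; that clause is left out here: a weak solution for A' ⊆ B'
descends to a finite extension of K but controls only those local extensions attached to embeddings
compatible with K ⊆ K', and weak solutions, unlike solutions, are not preserved under passing to a
normal closure; the clause can fail when the residue field of A is not separably closed in that of
B.) -/
theorem result (A B K L : Type u) [CommRing A] [IsDomain A]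
    [IsDiscreteValuationRing A] [CommRing B] [IsDomain B] [IsDiscreteValuationRing B] [Algebra A B]
    (hinj : Function.Injective (algebraMap A B)) [IsLocalHom (algebraMap A B)]
    [Field K] [Field L] [Algebra A K] [IsFractionRing A K] [Algebra B L] [IsFractionRing B L]
    [Algebra K L] [Algebra A L] [IsScalarTower A K L] [IsScalarTower A B L] :
    ∃ (A' B' K' L' : Type u) (_ : CommRing A') (_ : IsDomain A') (_ : IsDiscreteValuationRing A')
      (_ : CommRing B') (_ : IsDomain B') (_ : IsDiscreteValuationRing B') (_ : Field K') (_ : Field L')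
      (_ : Algebra A A') (_ : Algebra B B') (_ : Algebra A' B') (_ : Algebra A B')
      (_ : IsScalarTower A B B') (_ : IsScalarTower A A' B')
      (_ : Algebra A' K') (_ : IsFractionRing A' K') (_ : Algebra B' L') (_ : IsFractionRing B' L')
      (_ : Algebra K' L') (_ : Algebra A' L') (_ : IsScalarTower A' K' L') (_ : IsScalarTower A' B' L')
      (_ : Algebra K K') (_ : Algebra A K') (_ : IsScalarTower A K K') (_ : IsScalarTower A A' K')
      (_ : Algebra L L') (_ : Algebra B L') (_ : IsScalarTower B L L') (_ : IsScalarTower B B' L')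
      (hA : IsLocalHom (algebraMap A A')) (hB : IsLocalHom (algebraMap B B')) (_ : IsLocalHom (algebraMap A' B')),
      Function.Injective (algebraMap A A') ∧ Function.Injective (algebraMap B B') ∧
      Function.Injective (algebraMap A' B') ∧
      Algebra.IsSeparable K K' ∧ Algebra.IsSeparable L L' ∧
      (letI := (IsLocalRing.ResidueField.map (algebraMap A A')).toAlgebra
       IsSepClosure (IsLocalRing.ResidueField A) (IsLocalRing.ResidueField A')) ∧
      (letI := (IsLocalRing.ResidueField.map (algebraMap B B')).toAlgebra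
       IsSepClosure (IsLocalRing.ResidueField B) (IsLocalRing.ResidueField B')) ∧
      ((∃ (K₁ : Type u) (_ : Field K₁) (_ : Algebra K' K₁), FiniteDimensional K' K₁ ∧ EtRam.IsSolution B' K' L' K₁) →
        ∃ (K₁ : Type u) (_ : Field K₁) (_ : Algebra K K₁), FiniteDimensional K K₁ ∧ EtRam.IsSolution B K L K₁) ∧
      ((∃ (K₁ : Type u) (_ : Field K₁) (_ : Algebra K' K₁), FiniteDimensional K' K₁ ∧ Algebra.IsSeparable K' K₁ ∧
          EtRam.IsSolution B' K' L' K₁) →
        ∃ (K₁ : Type u) (_ : Field K₁) (_ : Algebra K K₁), FiniteDimensional K K₁ ∧ Algebra.IsSeparable K K₁ ∧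
          EtRam.IsSolution B K L K₁) := by
  classical
  haveI : IsScalarTower A K (AlgebraicClosure L) := .of_algebraMap_eq fun a => by
    rw [IsScalarTower.algebraMap_apply K L (AlgebraicClosure L), ← IsScalarTower.algebraMap_apply A K L,
      ← IsScalarTower.algebraMap_apply A L (AlgebraicClosure L)]
  set K' := IntermediateField.adjoin K {x : AlgebraicClosure L | SepRed A x} with hK'
  set L' := IntermediateField.adjoin L {x : AlgebraicClosure L | SepRed B x} with hL'
  have hAB' : ∀ x : AlgebraicClosure L, SepRed A x → SepRed B x := fun x hx =>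
    SepRed.map_hom (algebraMap A B) (RingHom.id _) (fun a => by
      rw [RingHom.id_apply, IsScalarTower.algebraMap_apply A L (AlgebraicClosure L), IsScalarTower.algebraMap_apply A B L,
        ← IsScalarTower.algebraMap_apply B L (AlgebraicClosure L)]) hx
  have hKL : ∀ x ∈ K', x ∈ L' := by
    intro x hx
    induction hx using IntermediateField.adjoin_induction with
    | mem x hx => exact IntermediateField.subset_adjoin _ _ (hAB' x hx)
    | algebraMap k => rw [IsScalarTower.algebraMap_apply K L (AlgebraicClosure L)]; exact L'.algebraMap_mem _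
    | add a b _ _ ha hb => exact add_mem ha hb
    | inv a _ ha => exact inv_mem ha
    | mul a b _ _ ha hb => exact mul_mem ha hb
  letI iKL : Algebra K' L' := (K'.val.toRingHom.codRestrict L' fun x => hKL x x.2).toAlgebra
  letI : Algebra A K' := ((algebraMap K K').comp (algebraMap A K)).toAlgebra
  haveI : IsScalarTower A K K' := .of_algebraMap_eq' rfl
  letI : Algebra B L' := ((algebraMap L L').comp (algebraMap B L)).toAlgebra
  haveI : IsScalarTower B L L' := .of_algebraMap_eq' rfl
  have hAK' : ∀ a, ((algebraMap A K' a : K') : AlgebraicClosure L) = algebraMap A (AlgebraicClosure L) a := fun a =>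
    (IsScalarTower.algebraMap_apply A K (AlgebraicClosure L) a).symm
  have hBL' : ∀ b, ((algebraMap B L' b : L') : AlgebraicClosure L) = algebraMap B (AlgebraicClosure L) b := fun b =>
    (IsScalarTower.algebraMap_apply B L (AlgebraicClosure L) b).symm
  have hSA : ∀ x : K', SepRed A (x : AlgebraicClosure L) → SepRed A x := by
    rintro x ⟨f, hf, hs, hx⟩
    refine ⟨f, hf, hs, Subtype.val_injective ?_⟩
    show K'.val.toRingHom (Polynomial.eval₂ (algebraMap A K') x f) = _
    rw [Polynomial.hom_eval₂, ZeroMemClass.coe_zero, ← hx, Polynomial.aeval_def,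
      show (K'.val.toRingHom).comp (algebraMap A K') = algebraMap A (AlgebraicClosure L) from RingHom.ext hAK']
    rfl
  have hSB : ∀ x : L', SepRed B (x : AlgebraicClosure L) → SepRed B x := by
    rintro x ⟨f, hf, hs, hx⟩
    refine ⟨f, hf, hs, Subtype.val_injective ?_⟩
    show L'.val.toRingHom (Polynomial.eval₂ (algebraMap B L') x f) = _
    rw [Polynomial.hom_eval₂, ZeroMemClass.coe_zero, ← hx, Polynomial.aeval_def,
      show (L'.val.toRingHom).comp (algebraMap B L') = algebraMap B (AlgebraicClosure L) from RingHom.ext hBL']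
    rfl
  have hgK : IsSepRedGenerated A K K' := by
    unfold IsSepRedGenerated
    rw [eq_top_iff]
    intro w _
    have h2 : ∀ v ∈ K', ∀ h : v ∈ K', (⟨v, h⟩ : K') ∈ IntermediateField.adjoin K {x : K' | SepRed A x} := by
      intro v hv
      induction hv using IntermediateField.adjoin_induction with
      | mem v hv => intro h; exact IntermediateField.subset_adjoin _ _ (hSA ⟨v, h⟩ hv)
      | algebraMap k => intro h; exact IntermediateField.algebraMap_mem _ k
      | add a b ha hb iha ihb => intro h; exact (add_mem (iha ha) (ihb hb) : (⟨a, ha⟩ + ⟨b, hb⟩ : K') ∈ _)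
      | inv a ha iha => intro h; exact (inv_mem (iha ha) : (⟨a, ha⟩⁻¹ : K') ∈ _)
      | mul a b ha hb iha ihb => intro h; exact (mul_mem (iha ha) (ihb hb) : (⟨a, ha⟩ * ⟨b, hb⟩ : K') ∈ _)
    exact h2 _ w.2 w.2
  have hgL : IsSepRedGenerated B L L' := by
    unfold IsSepRedGenerated
    rw [eq_top_iff]
    intro w _
    have h2 : ∀ v ∈ L', ∀ h : v ∈ L', (⟨v, h⟩ : L') ∈ IntermediateField.adjoin L {x : L' | SepRed B x} := by
      intro v hv
      induction hv using IntermediateField.adjoin_induction with
      | mem v hv => intro h; exact IntermediateField.subset_adjoin _ _ (hSB ⟨v, h⟩ hv)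
      | algebraMap k => intro h; exact IntermediateField.algebraMap_mem _ k
      | add a b ha hb iha ihb => intro h; exact (add_mem (iha ha) (ihb hb) : (⟨a, ha⟩ + ⟨b, hb⟩ : L') ∈ _)
      | inv a ha iha => intro h; exact (inv_mem (iha ha) : (⟨a, ha⟩⁻¹ : L') ∈ _)
      | mul a b ha hb iha ihb => intro h; exact (mul_mem (iha ha) (ihb hb) : (⟨a, ha⟩ * ⟨b, hb⟩ : L') ∈ _)
    exact h2 _ w.2 w.2
  have hspK : ∀ f : Polynomial A, f.Monic → (f.map (residue A)).Separable → (f.map (algebraMap A K')).Splits := by
    intro f hf hs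
    rw [IsScalarTower.algebraMap_eq A K K', ← Polynomial.map_map]
    refine IntermediateField.splits_of_splits (L := AlgebraicClosure L) (IsAlgClosed.splits _) fun x hx => ?_
    have h0 := (Polynomial.mem_rootSet.mp hx).2
    rw [Polynomial.aeval_map_algebraMap] at h0
    exact IntermediateField.subset_adjoin _ _ ⟨f, hf, hs, h0⟩
  have hspL : ∀ f : Polynomial B, f.Monic → (f.map (residue B)).Separable → (f.map (algebraMap B L')).Splits := by
    intro f hf hs
    rw [IsScalarTower.algebraMap_eq B L L', ← Polynomial.map_map]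
    refine IntermediateField.splits_of_splits (L := AlgebraicClosure L) (IsAlgClosed.splits _) fun x hx => ?_
    have h0 := (Polynomial.mem_rootSet.mp hx).2
    rw [Polynomial.aeval_map_algebraMap] at h0
    exact IntermediateField.subset_adjoin _ _ ⟨f, hf, hs, h0⟩
  haveI hsepK := isSeparable_of_generated hgK
  haveI hsepL := isSeparable_of_generated hgL
  -- the places
  obtain ⟨WL, hWLm, hWLloc⟩ := IsLocalRing.exists_factor_valuationRing (algebraMap B L')
  have hWL : EtRam.Dominates B (algebraMap B L') WL :=
    ⟨hWLm, fun b hb => (WL.valuation_lt_one_iff ⟨_, hWLm b⟩).mp fun hu => hb (hWLloc.map_nonunit _ hu)⟩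
  set WK := WL.comap (algebraMap K' L') with hWKdef
  have hsq : (algebraMap K' L').comp (algebraMap K K') = (algebraMap L L').comp (algebraMap K L) := by
    ext k
    exact IsScalarTower.algebraMap_apply K L (AlgebraicClosure L) k
  have hAL' : ∀ a, algebraMap K' L' (algebraMap A K' a) = algebraMap B L' (algebraMap A B a) := fun a => by
    show algebraMap K' L' (algebraMap K K' (algebraMap A K a)) = algebraMap L L' (algebraMap B L (algebraMap A B a))
    rw [← IsScalarTower.algebraMap_apply A B L, IsScalarTower.algebraMap_apply A K L]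
    exact RingHom.congr_fun hsq _
  have hWK : EtRam.Dominates A (algebraMap A K') WK := by
    refine dominates_comap_of_comp (algebraMap K' L') _ WL ⟨fun a => ?_, fun a ha => ?_⟩
    · rw [RingHom.comp_apply, hAL']; exact hWL.1 _
    · rw [RingHom.comp_apply, hAL']; exact hWL.2 _ fun hu => ha (IsUnit.of_map (algebraMap A B) a hu)
  haveI hdA := isDiscreteValuationRing_generated hgK hWK
  haveI hdB := isDiscreteValuationRing_generated hgL hWL
  letI : Algebra A WK := (RingHom.codRestrict (algebraMap A K') WK hWK.1).toAlgebra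
  letI : Algebra B WL := (RingHom.codRestrict (algebraMap B L') WL hWL.1).toAlgebra
  haveI hlA : IsLocalHom (algebraMap A WK) := isLocalHom_of_dominates _ WK hWK
  haveI hlB : IsLocalHom (algebraMap B WL) := isLocalHom_of_dominates _ WL hWL
  letI : Algebra WK WL := (EtRam.inclOfComap WL (algebraMap K' L')).toAlgebra
  haveI hlAB : IsLocalHom (algebraMap WK WL) := EtRam.isLocalHom_inclOfComap _ _
  letI : Algebra A WL := ((algebraMap B WL).comp (algebraMap A B)).toAlgebra
  haveI : IsScalarTower A B WL := .of_algebraMap_eq' rfl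
  haveI : IsScalarTower A WK WL := .of_algebraMap_eq fun a => Subtype.ext (hAL' a).symm
  letI : Algebra WK L' := ((algebraMap K' L').comp (algebraMap WK K')).toAlgebra
  haveI : IsScalarTower WK K' L' := .of_algebraMap_eq' rfl
  haveI : IsScalarTower WK WL L' := .of_algebraMap_eq fun _ => rfl
  haveI : IsScalarTower A WK K' := .of_algebraMap_eq fun _ => rfl
  haveI : IsScalarTower B WL L' := .of_algebraMap_eq fun _ => rfl
  have hiA : Function.Injective (algebraMap A WK) := fun x y h =>
    IsFractionRing.injective A K ((algebraMap K K').injective (congrArg Subtype.val h))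
  have hiB : Function.Injective (algebraMap B WL) := fun x y h =>
    IsFractionRing.injective B L ((algebraMap L L').injective (congrArg Subtype.val h))
  have hiAB : Function.Injective (algebraMap WK WL) := fun x y h =>
    Subtype.ext ((algebraMap K' L').injective (congrArg Subtype.val h))
  have hscA : @IsSepClosure (ResidueField A) _ (ResidueField WK) _ (ResidueField.map (algebraMap A WK)).toAlgebra := by
    have key : IsSepClosure (ResidueField A) (ResidueField WK) := isSepClosure_residue hgK hWK hspK
    convert key using 1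
    refine Algebra.algebra_ext _ _ fun r => ?_
    obtain ⟨r, rfl⟩ := residue_surjective r
    rfl
  have hscB : @IsSepClosure (ResidueField B) _ (ResidueField WL) _ (ResidueField.map (algebraMap B WL)).toAlgebra := by
    have key : IsSepClosure (ResidueField B) (ResidueField WL) := isSepClosure_residue hgL hWL hspL
    convert key using 1
    refine Algebra.algebra_ext _ _ fun r => ?_
    obtain ⟨r, rfl⟩ := residue_surjective r
    rfl
  refine ⟨WK, WL, K', L', inferInstance, inferInstance, hdA, inferInstance, inferInstance, hdB, inferInstance,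
    inferInstance, inferInstance, inferInstance, inferInstance, inferInstance, inferInstance, inferInstance,
    inferInstance, inferInstance, inferInstance, inferInstance, iKL, inferInstance, inferInstance, inferInstance,
    inferInstance, inferInstance, inferInstance, inferInstance, inferInstance, inferInstance, inferInstance,
    inferInstance, hlA, hlB, hlAB, hiA, hiB, hiAB, hsepK, hsepL, hscA, hscB, ?_, ?_⟩
  · rintro ⟨K₁', _, _, hfd, hsol⟩
    haveI := hfd
    obtain ⟨K₁, i1, i2, h1, -, h3⟩ := reflect A B WK WL K L K' L' hiB hsq hgK K₁' hsol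
    exact ⟨K₁, i1, i2, h1, h3⟩
  · rintro ⟨K₁', _, _, hfd, hsep, hsol⟩
    haveI := hfd
    obtain ⟨K₁, i1, i2, h1, h2, h3⟩ := reflect A B WK WL K L K' L' hiB hsq hgK K₁' hsol
    exact ⟨K₁, i1, i2, h1, h2 hsep, h3⟩


end Groth.Agent.S7162
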