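import Groth.Statements.S7163
import Groth.Agent.Lib.SerreSplit.Basic

set_option autoImplicit false
universe u
open CAlg

namespace Groth.Agent.S7163

/-- Let R be a ring whose set Ω of closed points of Spec R is a Noetherian topological space and M a
finitely presented R-module; for x in Ω write M(x) = M/xM, B(x) for the classes of elements m with
φ(m) in x for every linear form φ, and V(x) = M(x)/B(x). Let s_1, ..., s_h be elements of M, F ⊆ Ω a
closed subset containing the set Z(s_1, ..., s_h) of points where the images of the s_i in V(x) are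
linearly dependent, x_1, ..., x_n pairwise distinct points of F, v_i elements of M(x_i), and k ≥ 0
an integer with h + k ≤ dim V(x) for all x in Ω. Then there are s in M and a closed F' ⊆ Ω such that
(a) s(x_i) and v_i have the same image in V(x_i), (b) Z(s_1, ..., s_h, s) ⊆ F ∪ F', and (c) each
irreducible component of F′ is of codimension at least k in Ω (equivalently, so is each irreducible
closed subset of Ω lying in F′). -/
theorem result (R : Type u) [CommRing R] [TopologicalSpace.NoetherianSpace (MaximalSpectrum R)]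
    (M : Type u) [AddCommGroup M] [Module R M] [Module.FinitePresentation R M]
    (h : ℕ) (s : Fin h → M) (F : Set (MaximalSpectrum R)) (hF : IsClosed F)
    (n : ℕ) (xs : Fin n → MaximalSpectrum R) (hxs : Function.Injective xs) (hxF : ∀ i, xs i ∈ F)
    (v : ∀ i : Fin n, M ⧸ ((xs i).asIdeal • ⊤ : Submodule R M)) (k : ℕ) :
    let Bq : ∀ x : MaximalSpectrum R, Submodule (R ⧸ x.asIdeal) (M ⧸ (x.asIdeal • ⊤ : Submodule R M)) :=
      fun x => Submodule.span (R ⧸ x.asIdeal)
        ((x.asIdeal • ⊤ : Submodule R M).mkQ '' {m : M | ∀ φ : M →ₗ[R] R, φ m ∈ x.asIdeal})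
    let img : ∀ x : MaximalSpectrum R, M → (M ⧸ (x.asIdeal • ⊤ : Submodule R M)) ⧸ Bq x :=
      fun x m => (Bq x).mkQ ((x.asIdeal • ⊤ : Submodule R M).mkQ m)
    (∀ x : MaximalSpectrum R, h + k ≤ Module.finrank (R ⧸ x.asIdeal) ((M ⧸ (x.asIdeal • ⊤ : Submodule R M)) ⧸ Bq x)) →
    (∀ x : MaximalSpectrum R, ¬ LinearIndependent (R ⧸ x.asIdeal) (fun i => img x (s i)) → x ∈ F) →
    ∃ (t : M) (F' : Set (MaximalSpectrum R)), IsClosed F' ∧
      (∀ i : Fin n, img (xs i) t = (Bq (xs i)).mkQ (v i)) ∧
      (∀ x : MaximalSpectrum R,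
        ¬ LinearIndependent (R ⧸ x.asIdeal) (Fin.snoc (fun i => img x (s i)) (img x t)) → x ∈ F ∪ F') ∧
      ∀ Z : TopologicalSpace.IrreducibleCloseds (MaximalSpectrum R), (Z : Set (MaximalSpectrum R)) ⊆ F' →
        (k : ℕ∞) ≤ Order.coheight Z := by
  intro Bq img hrank hs
  classical
  have hfld : ∀ x : MaximalSpectrum R, Nonempty (x.asIdeal.IsMaximal) := fun x => ⟨x.isMaximal⟩
  have hker : ∀ (x : MaximalSpectrum R) (m : M), img x m = 0 ↔ m ∈ GrothLib.SerreSplit.Null x := by
    intro x m
    let q := (x.asIdeal • ⊤ : Submodule R M).mkQ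
    have hset : {m : M | ∀ φ : M →ₗ[R] R, φ m ∈ x.asIdeal} = ((GrothLib.SerreSplit.Null x : Submodule R M) : Set M) := by
      ext y; exact GrothLib.SerreSplit.mem_Null.symm
    have hBq : (Bq x).restrictScalars R = (GrothLib.SerreSplit.Null x).map q := by
      refine (Submodule.restrictScalars_span R (R ⧸ x.asIdeal) Ideal.Quotient.mk_surjective _).trans ?_
      rw [hset, Submodule.span_image, Submodule.span_eq]
    have h1 : img x m = 0 ↔ q m ∈ Bq x := Submodule.Quotient.mk_eq_zero _
    rw [h1, ← Submodule.restrictScalars_mem R (Bq x), hBq]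
    constructor
    · rintro ⟨y, hy, hym⟩
      have h2 : y - m ∈ (x.asIdeal • ⊤ : Submodule R M) := (Submodule.Quotient.eq _).1 hym
      have := sub_mem hy (GrothLib.SerreSplit.smul_le_Null x h2)
      simpa using this
    · exact fun h => ⟨m, h, rfl⟩
  have hli : ∀ (x : MaximalSpectrum R) (ι : Type) [Fintype ι] (a : ι → M),
      LinearIndependent (R ⧸ x.asIdeal) (fun i => img x (a i)) ↔ GrothLib.SerreSplit.Indep x a := by
    intro x ι _ a
    have hsum : ∀ c : ι → R, ∑ i, Ideal.Quotient.mk x.asIdeal (c i) • img x (a i) = img x (∑ i, c i • a i) := by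
      intro c
      simp only [img, map_sum, map_smul]
      refine Finset.sum_congr rfl fun i _ => ?_
      rfl
    rw [Fintype.linearIndependent_iff]
    constructor
    · intro h c hc i
      have := h (fun i => Ideal.Quotient.mk x.asIdeal (c i)) (by rw [hsum, hker]; exact hc) i
      exact Ideal.Quotient.eq_zero_iff_mem.1 this
    · intro h g hg i
      choose c hc using fun i => Ideal.Quotient.mk_surjective (g i)
      have hg' : ∑ i, Ideal.Quotient.mk x.asIdeal (c i) • img x (a i) = 0 := by simp only [hc]; exact hg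
      rw [hsum, hker] at hg'
      rw [← hc, Ideal.Quotient.eq_zero_iff_mem]
      exact h c hg' i
  have hsurj : ∀ x : MaximalSpectrum R, Function.Surjective (img x) := fun x =>
    (Submodule.mkQ_surjective _).comp (Submodule.mkQ_surjective _)
  have hrk : ∀ (x : MaximalSpectrum R) (h' : ℕ) (a : Fin h' → M), h' < h + k → GrothLib.SerreSplit.Indep x a →
      ∃ w : M, GrothLib.SerreSplit.Indep x (Fin.snoc a w : Fin (h' + 1) → M) := by
    intro x h' a hlt ha
    have := x.isMaximal
    let _ : Field (R ⧸ x.asIdeal) := Ideal.Quotient.field _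
    have hne : Submodule.span (R ⧸ x.asIdeal) (Set.range fun i => img x (a i)) ≠ ⊤ := by
      intro htop
      have h1 := finrank_range_le_card (R := R ⧸ x.asIdeal) (fun i => img x (a i))
      rw [Set.finrank, htop, finrank_top, Fintype.card_fin] at h1
      have h2 := hrank x
      omega
    obtain ⟨w, hw⟩ : ∃ w, w ∉ Submodule.span (R ⧸ x.asIdeal) (Set.range fun i => img x (a i)) := by
      by_contra hall
      push_neg at hall
      exact hne (Submodule.eq_top_iff'.2 hall)
    obtain ⟨m, rfl⟩ := hsurj x w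
    refine ⟨m, (hli x _ _).1 ?_⟩
    have e : (fun i => img x ((Fin.snoc a m : Fin (h' + 1) → M) i)) = Fin.snoc (fun i => img x (a i)) (img x m) :=
      Fin.comp_snoc (img x) a m
    rw [e, linearIndependent_finSnoc]
    exact ⟨(hli x _ a).2 ha, hw⟩
  choose mi hmi using fun i => Submodule.mkQ_surjective ((xs i).asIdeal • ⊤ : Submodule R M) (v i)
  obtain ⟨t, F', hF', ht, hD, hk⟩ := GrothLib.SerreSplit.main k h s F hF (Finset.univ.image xs)
    (Function.extend xs mi fun _ => 0)
    (by intro x hx; obtain ⟨i, -, rfl⟩ := Finset.mem_image.1 hx; exact hxF i) hrk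
    (fun x hx => hs x fun hl => hx ((hli x _ s).1 hl))
  refine ⟨t, F', hF', fun i => ?_, fun x hx => hD x fun hI => hx ?_, hk⟩
  · have h1 := ht (xs i) (Finset.mem_image_of_mem _ (Finset.mem_univ i))
    rw [hxs.extend_apply] at h1
    have h2 := (hker (xs i) _).2 h1
    simp only [img, map_sub, sub_eq_zero] at h2
    rw [← hmi i]
    exact h2
  · have h1 := (hli x _ _).2 hI
    have e : (fun i => img x ((Fin.snoc s t : Fin (h + 1) → M) i)) = Fin.snoc (fun i => img x (s i)) (img x t) :=
      Fin.comp_snoc (img x) s t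
    rwa [e] at h1

end Groth.Agent.S7163
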