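import Groth.Statements.S7164
import Groth.Agent.Lib.ExtConst.Basic
-- import your own Groth.Agent.* helpers here

set_option autoImplicit false
universe u
open CategoryTheory
attribute [local instance] HasDerivedCategory.standard
open CAlg

namespace Groth.Agent.S7164

/-- Let A be a Noetherian ring, I an ideal, K a pseudo-coherent object of D(A) and a an integer. Assume
that for every finite A-module M and every i ≥ a the module Ext^i_A(K, M) is I-power torsion. Then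
for i ≥ a and M finite the inverse system (Ext^i_A(K, M/IⁿM))_n is essentially constant with value
Ext^i_A(K, M) (so that Ext^i_A(K, M) = lim Ext^i_A(K, M/IⁿM)): concretely, some comparison map
Ext^i(K, M) → Ext^i(K, M/I^mM) is injective and for every n there is m' ≥ n such that the image of
the transition map Ext^i(K, M/I^(m')M) → Ext^i(K, M/IⁿM) is contained in the image of Ext^i(K, M).
Here Ext^i(K, X) = Hom_{D(A)}(K, X[i]). -/
theorem result (A : Type u) [CommRing A] [IsNoetherianRing A]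
    (I : Ideal A) (K : Dual.D A) (hK : DRing.IsPseudoCoherent' A K) (a : ℤ)
    (htors : ∀ (M : Type u) [AddCommGroup M] [Module A M], Module.Finite A M → ∀ i : ℤ, a ≤ i →
      ∀ e : K ⟶ (Dual.inD A M)⟦i⟧, ∃ n : ℕ, ∀ x ∈ I ^ n, x • e = 0)
    (M : Type u) [AddCommGroup M] [Module A M] [Module.Finite A M] (i : ℤ) (hi : a ≤ i) :
    let Mq : ℕ → Submodule A M := fun n => I ^ n • ⊤
    let c : ∀ n : ℕ, (K ⟶ (Dual.inD A M)⟦i⟧) → (K ⟶ (Dual.inD A (M ⧸ Mq n))⟦i⟧) :=
      fun n e => e ≫ ((DerivedCategory.singleFunctor (ModuleCat.{u} A) 0).map (ModuleCat.ofHom (Mq n).mkQ))⟦i⟧'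
    let t : ∀ n m : ℕ, n ≤ m → (K ⟶ (Dual.inD A (M ⧸ Mq m))⟦i⟧) → (K ⟶ (Dual.inD A (M ⧸ Mq n))⟦i⟧) :=
      fun n m hnm e => e ≫ ((DerivedCategory.singleFunctor (ModuleCat.{u} A) 0).map (ModuleCat.ofHom
        (Submodule.mapQ (Mq m) (Mq n) (LinearMap.id : M →ₗ[A] M) (Submodule.smul_mono_left (Ideal.pow_le_pow_right hnm)))))⟦i⟧'
    (∃ m : ℕ, Function.Injective (c m)) ∧
      ∀ n : ℕ, ∃ (m' : ℕ) (hnm : n ≤ m'), Set.range (t n m' hnm) ⊆ Set.range (c n) := by
  obtain ⟨n, rfl⟩ : ∃ n : ℤ, i = -n := ⟨-i, (neg_neg i).symm⟩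
  intro Mq c t
  obtain ⟨E, b, hb, hfree, ⟨φ⟩⟩ := hK
  haveI : E.IsKProjective := GrothLib.DR.isKProjective E b hb fun j => GrothLib.DR.projective_of_finiteFree hfree j
  have htors' : ∀ (N : Type u) [AddCommGroup N] [Module A N], Module.Finite A N → ∀ j : ℤ, a ≤ -j →
      ∀ e : DRing.toD E ⟶ (Dual.inD A N)⟦-j⟧, ∃ c : ℕ, ∀ x ∈ I ^ c, x • e = 0 := by
    intro N _ _ hN j hj e
    obtain ⟨c, hc⟩ := htors N hN (-j) hj (φ.inv ≫ e)
    refine ⟨c, fun x hx => ?_⟩
    have h1 := hc x hx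
    rw [← CategoryTheory.Linear.comp_smul] at h1
    exact (cancel_epi φ.inv).1 (h1.trans (CategoryTheory.Limits.comp_zero).symm)
  obtain ⟨⟨m, hm⟩, hB⟩ := GrothLib.ExtConst.essentially_constant I E hfree a htors' M n hi
  refine ⟨⟨m, fun e₁ e₂ h => ?_⟩, fun p => ?_⟩
  · refine sub_eq_zero.mp ((cancel_epi φ.hom).1 (?_ : φ.hom ≫ (e₁ - e₂) = φ.hom ≫ 0))
    rw [CategoryTheory.Limits.comp_zero]
    refine hm _ ?_
    rw [Category.assoc]
    have h' : (e₁ - e₂) ≫ ((DerivedCategory.singleFunctor (ModuleCat.{u} A) 0).map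
        (ModuleCat.ofHom (Mq m).mkQ))⟦-n⟧' = 0 := by
      rw [Preadditive.sub_comp]
      exact sub_eq_zero.mpr h
    rw [h', CategoryTheory.Limits.comp_zero]
  · obtain ⟨m', hpm, hm'⟩ := hB p
    refine ⟨m', hpm, ?_⟩
    rintro _ ⟨e, rfl⟩
    obtain ⟨e', he'⟩ := hm' (φ.hom ≫ e)
    refine ⟨φ.inv ≫ e', ?_⟩
    simp only [c, t, Category.assoc]
    rw [he', Category.assoc, Iso.inv_hom_id_assoc]

end Groth.Agent.S7164
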