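import Groth.Statements.S7165
import Groth.Agent.Lib.CAlgMisc.KrullAkizuki
import Mathlib.RingTheory.Artinian.Module
import Mathlib.RingTheory.EssentialFiniteness
import Mathlib.RingTheory.Localization.Submodule
import Mathlib.RingTheory.IntegralClosure.Algebra.Basic
-- import your own Groth.Agent.* helpers here

set_option autoImplicit false
universe u
open EtAlg

namespace Groth.Agent.S7165

open TensorProduct in
/-- The integral closure in a reduced artinian ring is noetherian as soon as it is in each factor. -/
theorem GrothLib.S7165Aux.isNoetherianRing_integralClosure_of_factors {B L' : Type u} [CommRing B]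
    [CommRing L'] [Algebra B L'] [IsArtinianRing L'] [IsReduced L']
    (h : ∀ m : MaximalSpectrum L', IsNoetherianRing (integralClosure B (L' ⧸ m.asIdeal))) :
    IsNoetherianRing (integralClosure B L') := by
  classical
  have := Fintype.ofFinite (MaximalSpectrum L')
  let e := IsArtinianRing.equivPi L'
  have he : ∀ (x : L') (m : MaximalSpectrum L'), e x m = Ideal.Quotient.mk m.asIdeal x := fun x m =>
    congrFun (e.commutes x) m
  let Φ : integralClosure B L' →+* ∀ m : MaximalSpectrum L', integralClosure B (L' ⧸ m.asIdeal) :=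
    Pi.ringHom fun m => ((Ideal.Quotient.mkₐ B m.asIdeal).mapIntegralClosure : _ →+* _)
  have hΦ : ∀ x m, (Φ x m : L' ⧸ m.asIdeal) = e (x : L') m := fun x m => (he _ m).symm
  have hinj : Function.Injective Φ := fun x y hxy => Subtype.ext <| e.injective <| funext fun m => by
    rw [← hΦ x m, ← hΦ y m, hxy]
  have hsurj : Function.Surjective Φ := by
    intro y
    let x : L' := e.symm fun m => (y m : L' ⧸ m.asIdeal)
    have hx : ∀ m, Ideal.Quotient.mkₐ B m.asIdeal x = (y m : L' ⧸ m.asIdeal) := fun m => by
      rw [Ideal.Quotient.mkₐ_eq_mk, ← he x m]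
      simp [x]
    have hint : IsIntegral B x := by
      have hy : ∀ m, IsIntegral B (y m : L' ⧸ m.asIdeal) := fun m => (y m).2
      choose p hp hp0 using hy
      refine ⟨∏ m, p m, Polynomial.monic_prod_of_monic _ _ fun m _ => hp m, ?_⟩
      refine e.injective (funext fun m => ?_)
      show e (Polynomial.aeval x (∏ m, p m)) m = e 0 m
      rw [he, map_zero, Pi.zero_apply, ← Ideal.Quotient.mkₐ_eq_mk B, ← Polynomial.aeval_algHom_apply,
        hx, map_prod]
      exact Finset.prod_eq_zero (Finset.mem_univ m) (hp0 m)
    exact ⟨⟨x, hint⟩, funext fun m => Subtype.ext ((hΦ _ m).trans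
      ((he x m).trans (hx m)))⟩
  exact isNoetherianRing_of_ringEquiv _ (RingEquiv.ofBijective Φ ⟨hinj, hsurj⟩).symm

open TensorProduct in
/-- The integral closure in a field generated by `L` and an algebraic extension `K'` is noetherian. -/
theorem GrothLib.S7165Aux.isNoetherianRing_integralClosure_field {A B F : Type u} [CommRing A]
    [IsDomain A] [CommRing B] [IsDomain B] [IsNoetherianRing B] [Ring.DimensionLEOne B]
    [Algebra A B] [Algebra.EssFiniteType A B] [Field F] [Algebra A F] [Algebra B F]
    [IsScalarTower A B F] (hinjB : Function.Injective (algebraMap B F))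
    (A' : Type u) [CommRing A'] [Algebra A A'] [Algebra.IsIntegral A A'] [IsNoetherianRing A']
    (φ : A' →ₐ[A] F)
    (hgen : ∀ z : F, ∃ (t : B ⊗[A] A') (b : B), b ≠ 0 ∧
      z * algebraMap B F b = Algebra.TensorProduct.lift (Algebra.ofId B F) φ (fun _ _ => .all _ _) t) :
    IsNoetherianRing (integralClosure B F) := by
  let ψ : B ⊗[A] A' →ₐ[B] F := Algebra.TensorProduct.lift (Algebra.ofId B F) φ (fun _ _ => .all _ _)
  let R : Subalgebra B F := ψ.range
  have hT : IsNoetherianRing (B ⊗[A] A') := by
    have : IsNoetherianRing (A' ⊗[A] B) := Algebra.EssFiniteType.isNoetherianRing A' _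
    exact isNoetherianRing_of_ringEquiv _ (Algebra.TensorProduct.comm A A' B).toRingEquiv
  have hRn : IsNoetherianRing R :=
    isNoetherianRing_of_surjective _ _ ψ.rangeRestrict.toRingHom ψ.rangeRestrict_surjective
  have hTint : Algebra.IsIntegral B (B ⊗[A] A') := inferInstance
  have hRint : Algebra.IsIntegral B R :=
    Algebra.IsIntegral.of_surjective ψ.rangeRestrict ψ.rangeRestrict_surjective
  have hBR : Function.Injective (algebraMap B R) := fun x y hxy =>
    hinjB (congrArg Subtype.val hxy)
  have : Ring.DimensionLEOne R := ⟨fun {P} hP0 hP => by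
    have := hP
    obtain ⟨x, hxP, hx0⟩ := Submodule.exists_mem_ne_zero_of_ne_bot hP0
    have hne : P.comap (algebraMap B R) ≠ ⊥ :=
      Ideal.comap_ne_bot_of_integral_mem hx0 hxP (Algebra.IsIntegral.isIntegral x)
    exact Ideal.isMaximal_of_isIntegral_of_isMaximal_comap P
      (Ring.DimensionLEOne.maximalOfPrime hne inferInstance)⟩
  have : IsFractionRing R F := by
    refine IsFractionRing.of_field R F fun z => ?_
    obtain ⟨t, b, hb, hz⟩ := hgen z
    refine ⟨⟨ψ t, ⟨t, rfl⟩⟩, ⟨algebraMap B F b, R.algebraMap_mem b⟩, ?_⟩
    show z = ψ t / algebraMap B F b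
    rw [eq_div_iff (fun h => hb (hinjB (h.trans (map_zero _).symm)))]
    exact hz
  have hle : R ≤ integralClosure B F := by
    rintro _ ⟨t, rfl⟩
    exact (Algebra.IsIntegral.isIntegral (R := B) t).map ψ
  let : Algebra R (integralClosure B F) := (Subalgebra.inclusion hle).toRingHom.toAlgebra
  have : IsScalarTower R (integralClosure B F) F := IsScalarTower.of_algebraMap_eq fun _ => rfl
  exact GrothLib.KrullAkizuki.isNoetherianRing_of_between R F
    (Subtype.val_injective : Function.Injective (algebraMap (integralClosure B F) F))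



open TensorProduct in
/-- Let A → B be an injective local homomorphism of discrete valuation rings whose fields of fractions
are K ⊆ L, the A-algebra B being essentially of finite type. Let K' ⊇ K be an algebraic extension
field for which A', the integral closure of A in K', is a Noetherian ring, and let L' = (L ⊗_K
K')_red. Then B', the integral closure of B in L', is a Noetherian ring. (The published statement
also asserts that Spec B' → Spec A' is surjective and that the residue field extensions are finitely
generated; this row states only that B' is Noetherian.) -/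
theorem result (A B K L : Type u) [CommRing A] [IsDomain A]
    [IsDiscreteValuationRing A] [CommRing B] [IsDomain B] [IsDiscreteValuationRing B] [Algebra A B]
    (hinj : Function.Injective (algebraMap A B)) [IsLocalHom (algebraMap A B)] [Algebra.EssFiniteType A B]
    [Field K] [Field L] [Algebra A K] [IsFractionRing A K] [Algebra B L] [IsFractionRing B L]
    [Algebra K L] [Algebra A L] [IsScalarTower A K L] [IsScalarTower A B L]
    (K' : Type u) [Field K'] [Algebra K K'] [Algebra A K'] [IsScalarTower A K K'] [Algebra.IsAlgebraic K K']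
    (hA' : IsNoetherianRing (integralClosure A K'))
    (L' : Type u) [CommRing L'] [IsReduced L'] [Algebra K L'] [Algebra L L'] [Algebra K' L'] [Algebra B L']
    [IsScalarTower K L L'] [IsScalarTower K K' L'] [IsScalarTower B L L']
    (q : L ⊗[K] K' →ₐ[K] L') (hq : Function.Surjective q) (hker : RingHom.ker q.toRingHom = nilradical (L ⊗[K] K'))
    (hqL : ∀ y : L, q (y ⊗ₜ 1) = algebraMap L L' y) (hqK : ∀ z : K', q (1 ⊗ₜ z) = algebraMap K' L' z) :
    IsNoetherianRing (integralClosure B L') := by
  classical
  let L0 := L ⊗[K] K'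
  have hLK : Algebra.EssFiniteType K L := by
    have : Algebra.EssFiniteType B L :=
      Algebra.EssFiniteType.of_isLocalization L (nonZeroDivisors B)
    have : Algebra.EssFiniteType A L := Algebra.EssFiniteType.comp A B L
    exact Algebra.EssFiniteType.of_comp A K L
  have hN : IsNoetherianRing L0 := by
    have : IsNoetherianRing (K' ⊗[K] L) := Algebra.EssFiniteType.isNoetherianRing K' _
    exact isNoetherianRing_of_ringEquiv _ (Algebra.TensorProduct.comm K K' L).toRingEquiv
  have : Algebra.IsIntegral K K' := Algebra.IsAlgebraic.isIntegral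
  have : Ring.KrullDimLE 0 L0 := Ring.KrullDimLE.mk₀ fun P hP =>
    Ideal.isMaximal_of_isIntegral_of_isMaximal_comap (R := L) P
      ((Ideal.comap (algebraMap L L0) P).eq_bot_or_top.resolve_right (Ideal.IsPrime.ne_top inferInstance)
        ▸ Ideal.bot_isMaximal)
  have : IsArtinianRing L0 := isArtinianRing_iff_isNoetherianRing_krullDimLE_zero.mpr ⟨hN, this⟩
  have : IsArtinianRing L' := hq.isArtinianRing (f := q.toRingHom)
  refine GrothLib.S7165Aux.isNoetherianRing_integralClosure_of_factors fun m => ?_
  letI : Field (L' ⧸ m.asIdeal) := Ideal.Quotient.field _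
  let π := Ideal.Quotient.mk m.asIdeal
  letI : Algebra A (L' ⧸ m.asIdeal) :=
    ((algebraMap B (L' ⧸ m.asIdeal)).comp (algebraMap A B)).toAlgebra
  have : IsScalarTower A B (L' ⧸ m.asIdeal) := IsScalarTower.of_algebraMap_eq fun _ => rfl
  have hKA : ∀ a : A, algebraMap B L' (algebraMap A B a) = algebraMap K' L' (algebraMap A K' a) :=
    fun a => by
    rw [IsScalarTower.algebraMap_apply B L L', ← IsScalarTower.algebraMap_apply A B L,
      IsScalarTower.algebraMap_apply A K L, IsScalarTower.algebraMap_apply A K K',
      ← IsScalarTower.algebraMap_apply K L L', ← IsScalarTower.algebraMap_apply K K' L']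
  let φ : integralClosure A K' →ₐ[A] L' ⧸ m.asIdeal :=
    { (π.comp (algebraMap K' L')).comp (integralClosure A K').val.toRingHom with
      commutes' := fun a => (congrArg π (hKA a)).symm }
  have hinjB : Function.Injective (algebraMap B (L' ⧸ m.asIdeal)) := by
    have h := ((π.comp (algebraMap L L')).injective.comp (IsFractionRing.injective B L))
    intro x y hxy
    refine h ?_
    show π (algebraMap L L' (algebraMap B L x)) = π (algebraMap L L' (algebraMap B L y))
    rw [← IsScalarTower.algebraMap_apply B L L', ← IsScalarTower.algebraMap_apply B L L']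
    exact hxy
  refine GrothLib.S7165Aux.isNoetherianRing_integralClosure_field hinjB (integralClosure A K') φ
    fun z => ?_
  obtain ⟨w, rfl⟩ := Ideal.Quotient.mk_surjective z
  obtain ⟨s, rfl⟩ := hq w
  induction s using TensorProduct.induction_on with
  | zero => exact ⟨0, 1, one_ne_zero, by simp⟩
  | add s₁ s₂ h₁ h₂ =>
    obtain ⟨t₁, b₁, hb₁, e₁⟩ := h₁
    obtain ⟨t₂, b₂, hb₂, e₂⟩ := h₂
    refine ⟨(b₂ ⊗ₜ[A] (1 : integralClosure A K')) * t₁ + (b₁ ⊗ₜ[A] (1 : integralClosure A K')) * t₂,
      b₁ * b₂, mul_ne_zero hb₁ hb₂, ?_⟩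
    rw [map_add, map_add, map_add, map_mul, map_mul, map_mul, Algebra.TensorProduct.lift_tmul,
      Algebra.TensorProduct.lift_tmul, ← e₁, ← e₂, map_one, Algebra.ofId_apply, Algebra.ofId_apply]
    ring
  | tmul l k' =>
    obtain ⟨⟨b, b', hb'⟩, hl⟩ := IsLocalization.surj (nonZeroDivisors B) l
    have halg : IsAlgebraic A k' :=
      (IsFractionRing.isAlgebraic_iff A K K').mpr (Algebra.IsAlgebraic.isAlgebraic k')
    obtain ⟨a, ha, hint⟩ := halg.exists_integral_multiple
    refine ⟨b ⊗ₜ[A] (⟨a • k', hint⟩ : integralClosure A K'), b' * algebraMap A B a,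
      mul_ne_zero (nonZeroDivisors.ne_zero hb') (fun h => ha (hinj (h.trans (map_zero _).symm))), ?_⟩
    rw [Algebra.TensorProduct.lift_tmul]
    show π (q (l ⊗ₜ[K] k')) * π (algebraMap B L' (b' * algebraMap A B a)) =
      π (algebraMap B L' b) * π (algebraMap K' L' (a • k'))
    rw [← map_mul π, ← map_mul π]
    refine congrArg π ?_
    have hlk : q (l ⊗ₜ[K] k') = algebraMap L L' l * algebraMap K' L' k' := by
      rw [← hqL, ← hqK, ← map_mul, Algebra.TensorProduct.tmul_mul_tmul, one_mul, mul_one]
    have hb : algebraMap L L' l * algebraMap B L' b' = algebraMap B L' b := by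
      rw [IsScalarTower.algebraMap_apply B L L', IsScalarTower.algebraMap_apply B L L', ← map_mul, hl]
    rw [hlk, map_mul, hKA, Algebra.smul_def, map_mul, ← hb]
    ring

end Groth.Agent.S7165
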