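import Groth.Statements.S7170
import Groth.Agent.Lib.PerfHom.Finite
-- import your own Groth.Agent.* helpers here

set_option autoImplicit false
universe u
attribute [local instance] HasDerivedCategory.standard
open FlatMor

namespace Groth.Agent.S7170

open AlgebraicGeometry CategoryTheory Limits in
/-- For a finite morphism f : X → S, pseudo-coherence of f is equivalent to pseudo-coherence of the
O_S-module f_* O_X; as f is affine, the latter means that O_X(f⁻¹ V) is a pseudo-coherent
O_S(V)-module for every affine open V of S, the form used here. -/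
theorem result {X S : Scheme.{u}} (f : X ⟶ S) [IsFinite f] :
    MoreMor.IsPseudoCoherentMor f ↔ ∀ (V : S.Opens), IsAffineOpen V →
      (letI := (f.app V).hom.toAlgebra
       DRing.IsPseudoCoherentModule' Γ(S, V) Γ(X, f ⁻¹ᵁ V)) := by
  constructor
  · intro h V hV
    letI := (f.app V).hom.toAlgebra
    haveI : Module.Finite Γ(S, V) Γ(X, f ⁻¹ᵁ V) := IsFinite.finite_app f V hV
    have h1 := h (f ⁻¹ᵁ V) V (hV.preimage f) hV le_rfl
    rw [Scheme.Hom.appLE_eq_app] at h1
    exact GrothLib.PHom.iff_module_of_finite.1 h1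
  · intro h
    refine (GrothLib.PHom.pcMor_iff_exists f).2 fun x => ?_
    obtain ⟨_, ⟨V, hV, rfl⟩, hxV, -⟩ := S.isBasis_affineOpens.exists_subset_of_mem_open
      (Set.mem_univ (f x)) isOpen_univ
    refine ⟨f ⁻¹ᵁ V, V, le_rfl, hV.preimage f, hV, hxV, ?_⟩
    rw [Scheme.Hom.appLE_eq_app]
    letI := (f.app V).hom.toAlgebra
    haveI : Module.Finite Γ(S, V) Γ(X, f ⁻¹ᵁ V) := IsFinite.finite_app f V hV
    exact GrothLib.PHom.iff_module_of_finite.2 (h V hV)

end Groth.Agent.S7170
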