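import Groth.Statements.S7171
import Groth.Agent.Lib.PerfHom.Scheme
-- import your own Groth.Agent.* helpers here

set_option autoImplicit false
universe u
attribute [local instance] HasDerivedCategory.standard
open FlatMor

namespace Groth.Agent.S7171

open AlgebraicGeometry CategoryTheory Limits in
/-- (1) ⇔ (2): a morphism f : X → S is perfect (for all affine opens U ⊆ f⁻¹(V) the ring map O_S(V) →
O_X(U) is perfect) if and only if every point of X lies in some affine open U, contained in the
preimage of some affine open V of S, for which O_S(V) → O_X(U) is a perfect ring map. (The third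
equivalent condition, via relative pseudo-coherence and local finite tor dimension of the structure
sheaf, is not restated.) -/
theorem result {X S : Scheme.{u}} (f : X ⟶ S) :
    MoreMor.IsPerfectMor f ↔ ∀ x : X, ∃ (U : X.Opens) (V : S.Opens) (hUV : U ≤ f ⁻¹ᵁ V),
      IsAffineOpen U ∧ IsAffineOpen V ∧ x ∈ U ∧
      (letI := (f.appLE V U hUV).hom.toAlgebra
       MoreMor.IsPerfectHom Γ(S, V) Γ(X, U)) := by
    exact GrothLib.PHom.perfMor_iff_exists f

end Groth.Agent.S7171
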