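import Groth.Statements.S7172
import Groth.Agent.Lib.PerfHom.Scheme
-- import your own Groth.Agent.* helpers here

set_option autoImplicit false
universe u
attribute [local instance] HasDerivedCategory.standard
open FlatMor

namespace Groth.Agent.S7172

open AlgebraicGeometry CategoryTheory Limits in
/-- A flat morphism locally of finite presentation is perfect. -/
theorem result {X S : Scheme.{u}} (f : X ⟶ S) [Flat f] [LocallyOfFinitePresentation f] :
    MoreMor.IsPerfectMor f := by
    exact GrothLib.PHom.perfMor_of_flat_lfp f

end Groth.Agent.S7172
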