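import Groth.Statements.S7175
import Groth.Agent.Lib.OX.AffineLocal
import Groth.Agent.Lib.OX.AffinePush
import Groth.Agent.Lib.PerfHom.Perfect
import Groth.Agent.Lib.PerfHom.PC
import Groth.Agent.S6958
import Groth.Agent.Lib.QCoh.Affine
import Groth.Agent.Lib.QCoh.Qcqs

set_option autoImplicit false
universe u
attribute [local instance] HasDerivedCategory.standard
open FlatMor

namespace Groth.Agent.S7175

attribute [local instance] HasDerivedCategory.standard
open AlgebraicGeometry CategoryTheory CategoryTheory.Limits HomologicalComplex GrothLib.OX TensorProduct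

theorem isPerfectModule_of_equiv {R : Type u} [CommRing R] {M N : Type u} [AddCommGroup M] [Module R M]
    [AddCommGroup N] [Module R N] (e : M ≃ₗ[R] N) (h : DRing.IsPerfectModule R M) : DRing.IsPerfectModule R N :=
  GrothLib.DR.isPerfect_of_iso ((DerivedCategory.singleFunctor (ModuleCat.{u} R) 0).mapIso e.toModuleIso) h

theorem isPerfectModule_of_surjective {A B : Type u} [CommRing A] [CommRing B] [Algebra A B]
    (hs : Function.Surjective (algebraMap A B)) (h : MoreMor.IsPerfectHom A B) : DRing.IsPerfectModule A B := by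
  let P := MvPolynomial (Fin 0) A
  let e : P ≃ₐ[A] A := MvPolynomial.isEmptyAlgEquiv A (Fin 0)
  let α : P →ₐ[A] B := (Algebra.ofId A B).comp e.toAlgHom
  letI : Algebra P B := α.toRingHom.toAlgebra
  letI : Algebra P A := e.toAlgHom.toRingHom.toAlgebra
  haveI : IsScalarTower P A B := IsScalarTower.of_algebraMap_eq fun p => rfl
  haveI : Module.Flat P A := RingHom.flat_algebraMap_iff.1 (RingHom.Flat.of_bijective (f := algebraMap P A) e.bijective)
  have h2 := Groth.Agent.S6958.result (A := P) (B := A) B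
    (GrothLib.PHom.isPerfectModule_pres h α (hs.comp e.surjective))
  let f : A ⊗[P] B →ₗ[A] B := TensorProduct.AlgebraTensorModule.lift
    ((LinearMap.lsmul A B).flip.restrictScalars P |>.flip)
  have hsurj : ∀ t : A ⊗[P] B, (1 : A) ⊗ₜ[P] f t = t := fun t => by
    induction t using TensorProduct.induction_on with
    | zero => simp
    | tmul a b =>
      obtain ⟨p, rfl⟩ := e.surjective a
      show (1 : A) ⊗ₜ[P] (e p • b) = e p ⊗ₜ[P] b
      rw [show (e p • b : B) = p • b from (algebraMap_smul A p b), TensorProduct.tmul_smul, TensorProduct.smul_tmul',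
        Algebra.smul_def, mul_one]
      rfl
    | add x y hx hy => rw [map_add, TensorProduct.tmul_add, hx, hy]
  refine isPerfectModule_of_equiv (LinearEquiv.ofBijective f ⟨fun x y hxy => ?_, fun b => ⟨1 ⊗ₜ b, ?_⟩⟩) h2
  · rw [← hsurj x, ← hsurj y, hxy]
  · show (1 : A) • b = b
    exact one_smul _ b

theorem nonempty_restrict_push {Z X : Scheme.{u}} (i : Z ⟶ X) [IsClosedImmersion i] {V : X.Opens} (hV : IsAffineOpen V) :
    letI := (i.app V).hom.toAlgebra
    Nonempty (((Coh.push i).obj (Coh.structureModule Z)).restrict hV.fromSpec ≅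
      (tilde.functor Γ(X, V)).obj (ModuleCat.of Γ(X, V) Γ(Z, i ⁻¹ᵁ V))) := by
  letI := (i.app V).hom.toAlgebra
  haveI : (Coh.structureModule Z).IsQuasicoherent := (GrothLib.HomSh.isCoh_structureModule Z).1
  let M := (Coh.push i).obj (Coh.structureModule Z)
  haveI : M.IsQuasicoherent := GrothLib.QCoh.isQuasicoherent_pushforward i _
  let M' := M.restrict hV.fromSpec
  haveI : IsIso M'.fromTildeΓ := inferInstance
  let e := GrothLib.QCoh.secIso hV M ⊤ (GrothLib.QCoh.image_top hV)
  let N : ModuleCat.{u} Γ(X, V) := (moduleSpecΓFunctor (R := Γ(X, V))).obj M'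
  let g : N ≃ₗ[Γ(X, V)] Γ(Z, i ⁻¹ᵁ V) :=
      { toFun := e, invFun := e.symm, left_inv := e.left_inv, right_inv := e.right_inv,
        map_add' := e.map_add, map_smul' := fun r x => GrothLib.QCoh.secIso_top_smul hV M r x }
  exact ⟨(asIso M'.fromTildeΓ).symm ≪≫ (tilde.functor Γ(X, V)).mapIso g.toModuleIso⟩

open AlgebraicGeometry CategoryTheory Limits in
/-- For a perfect closed immersion i : Z → X, the O_X-module i_* O_Z is a perfect object of D(O_X). -/
theorem result {Z X : Scheme.{u}} (i : Z ⟶ X) [IsClosedImmersion i]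
    (hi : MoreMor.IsPerfectMor i) :
    DCoh.IsPerfect (DCoh.inD X ((Coh.push i).obj (Coh.structureModule Z))) := by
  refine isPerfect_of_local fun x => ?_
  obtain ⟨V, hV, hx, -⟩ := exists_isAffineOpen_mem_and_subset (x := x) (U := ⊤) trivial
  refine ⟨Spec Γ(X, V), hV.fromSpec, inferInstance, hV.range_fromSpec.ge hx, ?_⟩
  letI := (i.app V).hom.toAlgebra
  have hs : Function.Surjective (algebraMap Γ(X, V) Γ(Z, i ⁻¹ᵁ V)) := i.app_surjective V hV
  have hB : DRing.IsPerfectModule Γ(X, V) Γ(Z, i ⁻¹ᵁ V) := by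
    refine isPerfectModule_of_surjective hs ?_
    have h := hi (i ⁻¹ᵁ V) V (hV.preimage i) hV le_rfl
    rw [Scheme.Hom.appLE_eq_app] at h
    exact h
  haveI := GrothLib.OX.preservesFiniteLimits_tildeGen Γ(X, V)
  obtain ⟨f⟩ := nonempty_restrict_push i hV
  refine isPerfect_of_iso ((isPerfect_tildeD_iff (A := Γ(X, V)) _).2 hB) ?_
  exact (DCoh.tildeD Γ(X, V)).mapIso
      ((DerivedCategory.singleFunctorIsoCompQ (ModuleCat.{u} Γ(X, V)) 0).app _) ≪≫
    (tilde.functor Γ(X, V)).mapDerivedCategoryFactors.app _ ≪≫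
    DerivedCategory.Q.mapIso (((singleMapHomologicalComplex (tilde.functor Γ(X, V)) (ComplexShape.up ℤ) 0).app _) ≪≫
      (single _ (ComplexShape.up ℤ) 0).mapIso f.symm ≪≫
      ((singleMapHomologicalComplex (Scheme.Modules.restrictFunctor hV.fromSpec) (ComplexShape.up ℤ) 0).app _).symm) ≪≫
    ((resDFac hV.fromSpec).app _).symm ≪≫
    (resD hV.fromSpec).mapIso ((DerivedCategory.singleFunctorIsoCompQ _ 0).app _).symm

end Groth.Agent.S7175
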