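import Groth.Statements.S7176
import Groth.Agent.Lib.LCI6.PerfectCancel
-- import your own Groth.Agent.* helpers here

set_option autoImplicit false
universe u
attribute [local instance] HasDerivedCategory.standard
open FlatMor

namespace Groth.Agent.S7176

open AlgebraicGeometry CategoryTheory Limits in
/-- Let i : Z → Y and j : Y → X be immersions with X locally Noetherian, j ∘ i a regular immersion and i
perfect. Then i is a regular immersion and j is a regular immersion at every point i(z), z in Z.
(The published statement concludes that j is a regular immersion outright; its proof works in the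
local rings of X at points of Z, and for Z empty the hypotheses hold for every immersion j, so the
conclusion on j is stated at the points of i(Z) only.) Over a locally Noetherian scheme the four
kinds of regular immersion agree; the kind is a parameter here. -/
theorem result {Z Y X : Scheme.{u}} (i : Z ⟶ Y) (j : Y ⟶ X) [IsImmersion i] [IsImmersion j]
    [IsLocallyNoetherian X] (k : RegImm.Kind) (h : RegImm.IsRegularImmersion k (i ≫ j)) (hi : MoreMor.IsPerfectMor i) :
    RegImm.IsRegularImmersion k i ∧ ∀ z : Z, RegImm.IsRegularImmersionAt k j (i z) := by
  have key := fun z => GrothLib.LCI6.inLocus_of_perfect_comp i j hi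
    ((GrothLib.LCI6.isRegularImmersionAt_iff_inLocus_of_noetherian (i ≫ j) z k).mp (h.2 z))
  haveI : IsLocallyNoetherian Y := LocallyOfFiniteType.isLocallyNoetherian j
  exact ⟨⟨inferInstance, fun z => (GrothLib.LCI6.isRegularImmersionAt_iff_inLocus_of_noetherian i z k).mpr (key z).1⟩,
    fun z => (GrothLib.LCI6.isRegularImmersionAt_iff_inLocus_of_noetherian j (i z) k).mpr (key z).2⟩

end Groth.Agent.S7176
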