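import Groth.Statements.S7177
import Groth.Agent.Lib.Diag6.FlatOfFlatMul
import Groth.Agent.Lib.WeakEtale.Basic
-- import your own Groth.Agent.* helpers here

set_option autoImplicit false
universe u
open FlatMor

namespace Groth.Agent.S7177
open CategoryTheory CategoryTheory.Limits AlgebraicGeometry

lemma flat_lmul'_stalk {X Y : Scheme.{u}} (f : X ⟶ Y) [Flat (pullback.diagonal f)] (x : X) :
    letI := (f.stalkMap x).hom.toAlgebra
    (Algebra.TensorProduct.lmul' (Y.presheaf.stalk (f x)) (S := X.presheaf.stalk x)).toRingHom.Flat := by
  letI := (f.stalkMap x).hom.toAlgebra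
  let g := Spec.map (CommRingCat.ofHom (algebraMap (Y.presheaf.stalk (f x)) (X.presheaf.stalk x)))
  let i := X.fromSpecStalk x
  let j := Y.fromSpecStalk (f x)
  have hg : g ≫ j = i ≫ f := Scheme.SpecMap_stalkMap_fromSpecStalk f
  have h2 : pullback.diagonal g ≫ pullback.map g g f f i i j hg hg = i ≫ pullback.diagonal f := by
    apply pullback.hom_ext <;>
      simp only [Category.assoc, pullback.lift_fst, pullback.lift_snd, pullback.diagonal_fst_assoc,
        pullback.diagonal_snd_assoc, pullback.diagonal_fst, pullback.diagonal_snd, Category.comp_id]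
  haveI : Flat i := inferInstance
  haveI : Flat (pullback.diagonal g ≫ pullback.map g g f f i i j hg hg) := h2 ▸ inferInstance
  haveI : Mono i := inferInstance
  haveI : Mono (pullback.map g g f f i i j hg hg) := ⟨fun {W} a b hab => by
    apply pullback.hom_ext
    · rw [← cancel_mono i]
      have := congr($hab ≫ pullback.fst f f)
      simp only [Category.assoc, pullback.map, pullback.lift_fst, pullback.lift_snd] at this
      simpa only [Category.assoc] using this
    · rw [← cancel_mono i]
      have := congr($hab ≫ pullback.snd f f)
      simp only [Category.assoc, pullback.map, pullback.lift_fst, pullback.lift_snd] at this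
      simpa only [Category.assoc] using this⟩
  have h3 : Flat (pullback.diagonal g) :=
    GrothLib.WeakEtale.flat_of_comp_mono (pullback.diagonal g) (pullback.map g g f f i i j hg hg)
  rw [diagonal_SpecMap, MorphismProperty.cancel_right_of_respectsIso (P := @Flat), Flat.SpecMap_iff] at h3
  exact h3

open AlgebraicGeometry CategoryTheory Limits in
/-- Let f : X → Y have flat diagonal and let F be an O_X-module flat over Y. Then F is flat as an
O_X-module. -/
theorem result {X Y : Scheme.{u}} (f : X ⟶ Y) [Flat (pullback.diagonal f)] (F : X.Modules)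
    (hF : FlatMod.IsFlatOver f F) : FlatMod.IsFlat F := by
  intro x
  letI := (f.stalkMap x).hom.toAlgebra
  letI : Module (Y.presheaf.stalk (f x)) (F.presheaf.stalk x) := FlatMod.moduleStalkOver f F x
  haveI : IsScalarTower (Y.presheaf.stalk (f x)) (X.presheaf.stalk x) (F.presheaf.stalk x) :=
    IsScalarTower.of_algebraMap_smul fun _ _ => rfl
  haveI : Module.Flat (Y.presheaf.stalk (f x)) (F.presheaf.stalk x) := hF x
  exact GrothLib.Diag6.flat_of_flat_lmul' (A := Y.presheaf.stalk (f x)) (flat_lmul'_stalk f x)

end Groth.Agent.S7177
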