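import Groth.Statements.S7180
import Groth.Agent.S1967
import Groth.Agent.Lib.Olivier.Main
import Groth.Agent.Lib.WeakEtale.Basic
-- import your own Groth.Agent.* helpers here

set_option autoImplicit false
universe u
open FlatMor

namespace Groth.Agent.S7180
open CategoryTheory CategoryTheory.Limits AlgebraicGeometry TensorProduct

/-- A local ring which is weakly étale over a normal domain is a normal domain. -/
lemma normal_of_weaklyEtale (A B : Type u) [CommRing A] [IsDomain A] [IsIntegrallyClosed A] [CommRing B]
    [IsLocalRing B] [Algebra A B] [Algebra.WeaklyEtale A B] : IsDomain B ∧ IsIntegrallyClosed B := by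
  let K := FractionRing A
  have hcl : IsIntegrallyClosedIn B (B ⊗[A] K) := Groth.Agent.S1967.result A K B
  obtain ⟨hinj, hint⟩ := isIntegrallyClosedIn_iff.1 hcl
  have hreg : Groth.Agent.AbsFlat.Regular (B ⊗[A] K) := fun a => by
    let e := Algebra.TensorProduct.comm A K B
    obtain ⟨x, hx⟩ := GrothLib.Olivier.regular_of_weaklyEtale_field K (K ⊗[A] B) (e.symm a)
    exact ⟨e x, by simpa using congr(e $hx)⟩
  have htriv : ∀ e : B ⊗[A] K, e * e = e → e = 0 ∨ e = 1 := fun e he => by
    have hi : IsIntegral B e :=
      ⟨Polynomial.X ^ 2 - Polynomial.X, Polynomial.monic_X_pow_sub (by rw [Polynomial.degree_X]; exact_mod_cast one_lt_two),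
        by simp [sq, he]⟩
    obtain ⟨b, rfl⟩ := hint hi
    have hb : IsIdempotentElem b := hinj (by rw [map_mul, he])
    rcases IsLocalRing.isUnit_or_isUnit_one_sub_self b with h | h
    · right
      rw [(h.mul_left_cancel (hb.trans (mul_one b).symm) : b = 1), map_one]
    · left
      have : b * (1 - b) = 0 := by rw [mul_sub, mul_one, hb, sub_self]
      rw [h.mul_left_eq_zero.1 this, map_zero]
  have : Nontrivial (B ⊗[A] K) := hinj.nontrivial
  have hfield : IsField (B ⊗[A] K) := by
    refine ⟨exists_pair_ne _, mul_comm, fun {a} ha => ?_⟩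
    obtain ⟨x, hx⟩ := hreg a
    rcases htriv (a * x) (by rw [← mul_assoc, mul_right_comm a x a, hx]) with h | h
    · exact absurd (by rw [← hx, mul_assoc, h, mul_zero]) ha
    · exact ⟨x, h⟩
  letI := hfield.toField
  have hdom : IsDomain B := hinj.isDomain
  refine ⟨hdom, ?_⟩
  have hflat : Module.Flat A B := inferInstance
  have hAinj : Function.Injective (algebraMap A B) := by
    intro a b hab
    apply IsFractionRing.injective A K
    apply (Algebra.TensorProduct.includeRight : K →ₐ[A] B ⊗[A] K).toRingHom.injective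
    show (Algebra.TensorProduct.includeRight : K →ₐ[A] B ⊗[A] K) _ = (Algebra.TensorProduct.includeRight : K →ₐ[A] B ⊗[A] K) _
    rw [AlgHom.commutes, AlgHom.commutes, IsScalarTower.algebraMap_apply A B (B ⊗[A] K) a, hab, ← IsScalarTower.algebraMap_apply A B (B ⊗[A] K) b]
  haveI : IsLocalization (Algebra.algebraMapSubmonoid B (nonZeroDivisors A)) (B ⊗[A] K) := inferInstance
  haveI : IsFractionRing B (B ⊗[A] K) := by
    refine IsLocalization.of_le (Algebra.algebraMapSubmonoid B (nonZeroDivisors A)) _ ?_ fun r hr => ?_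
    · rintro _ ⟨a, ha, rfl⟩
      exact mem_nonZeroDivisors_of_ne_zero fun h => nonZeroDivisors.ne_zero ha (hAinj (by rw [h, map_zero]))
    · exact isUnit_iff_ne_zero.2 fun h => nonZeroDivisors.ne_zero hr (hinj (by rw [h, map_zero]))
  exact (isIntegrallyClosed_iff_isIntegrallyClosedIn (B ⊗[A] K)).2 hcl

open AlgebraicGeometry CategoryTheory Limits in
/-- The source of a weakly étale morphism with normal target (all local rings integrally closed domains)
is normal. -/
theorem result {X Y : Scheme.{u}} (f : X ⟶ Y) [WeaklyEtale f] (hY : Pi1.IsNormalScheme Y) :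
    Pi1.IsNormalScheme X := by
  intro x
  letI := (f.stalkMap x).hom.toAlgebra
  haveI : Algebra.WeaklyEtale (Y.presheaf.stalk (f x)) (X.presheaf.stalk x) :=
    (GrothLib.WeakEtale.weaklyEtale_specMap_iff (f.stalkMap x)).1 (GrothLib.WeakEtale.weaklyEtale_stalkMap f x)
  obtain ⟨hd, hi⟩ := hY (f x)
  exact normal_of_weaklyEtale (Y.presheaf.stalk (f x)) (X.presheaf.stalk x)

end Groth.Agent.S7180
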