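import Groth.Statements.S7183
import Groth.Agent.Lib.Pushout6.ClosedPair
-- import your own Groth.Agent.* helpers here

set_option autoImplicit false
universe u
open FlatMor

namespace Groth.Agent.S7183

open AlgebraicGeometry CategoryTheory Limits in
/-- Let i : Z → X, j : Z → Y be closed immersions with pushout P, let X' → X and Y' → Y be morphisms
whose base changes to Z are identified (a scheme Z' cartesian over both), let P' be the pushout of
Z' → X' and Z' → Y' and h : P' → P the induced morphism. Then h is locally of finite type (resp.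
flat, resp. flat and locally of finite presentation, resp. smooth, resp. étale) if and only if X' →
X and Y' → Y both are. -/
theorem result {X Y Z P X' Y' Z' P' : Scheme.{u}}
    (i : Z ⟶ X) (j : Z ⟶ Y) [IsClosedImmersion i] [IsClosedImmersion j] (a : X ⟶ P) (b : Y ⟶ P) (hP : IsPushout i j a b)
    (f : X' ⟶ X) (g : Y' ⟶ Y) (i' : Z' ⟶ X') (j' : Z' ⟶ Y') (c : Z' ⟶ Z) (hX : IsPullback i' c f i) (hY : IsPullback j' c g j)
    (a' : X' ⟶ P') (b' : Y' ⟶ P') (hP' : IsPushout i' j' a' b') (h : P' ⟶ P) (ha : a' ≫ h = f ≫ a) (hb : b' ≫ h = g ≫ b) :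
    (LocallyOfFiniteType h ↔ LocallyOfFiniteType f ∧ LocallyOfFiniteType g) ∧
    (Flat h ↔ Flat f ∧ Flat g) ∧
    ((Flat h ∧ LocallyOfFinitePresentation h) ↔ (Flat f ∧ LocallyOfFinitePresentation f) ∧ (Flat g ∧ LocallyOfFinitePresentation g)) ∧
    (Smooth h ↔ Smooth f ∧ Smooth g) ∧
    (Etale h ↔ Etale f ∧ Etale g) := by
  haveI : IsClosedImmersion i' := MorphismProperty.of_isPullback hX.flip inferInstance
  haveI : IsClosedImmersion j' := MorphismProperty.of_isPullback hY.flip inferInstance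
  have hX' := hX.flip
  have hY' := hY.flip
  have hC := GrothLib.Pushout6.covered_of_isClosedImmersion i j
  have hC' := GrothLib.Pushout6.covered_of_isClosedImmersion i' j'
  have T := fun (Q : MorphismProperty Scheme.{u}) [Q.RespectsIso] =>
    GrothLib.Pushout6.prop_iff_mapObj hX' hY' hC hC' Q hP hP' h ha hb
  have D := fun (Q : MorphismProperty Scheme.{u}) [Q.IsStableUnderBaseChange] =>
    GrothLib.Pushout6.prop_of_mapObj hX' hY' hC hC' Q
  refine ⟨⟨fun hh => D @LocallyOfFiniteType ((T @LocallyOfFiniteType).mp hh), fun ⟨_, _⟩ => (T @LocallyOfFiniteType).mpr (GrothLib.Pushout6.locallyOfFiniteType_mapObj hX' hY' hC hC')⟩,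
    ⟨fun hh => D @Flat ((T @Flat).mp hh), fun ⟨_, _⟩ => (T @Flat).mpr (GrothLib.Pushout6.flat_mapObj hX' hY' hC hC')⟩,
    ⟨fun ⟨hh, hp⟩ => ⟨⟨(D @Flat ((T @Flat).mp hh)).1, (D @LocallyOfFinitePresentation ((T @LocallyOfFinitePresentation).mp hp)).1⟩,
        (D @Flat ((T @Flat).mp hh)).2, (D @LocallyOfFinitePresentation ((T @LocallyOfFinitePresentation).mp hp)).2⟩,
      fun ⟨⟨_, _⟩, ⟨_, _⟩⟩ => ⟨(T @Flat).mpr (GrothLib.Pushout6.flat_mapObj hX' hY' hC hC'),
        (T @LocallyOfFinitePresentation).mpr (GrothLib.Pushout6.locallyOfFinitePresentation_mapObj hX' hY' hC hC')⟩⟩,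
    ⟨fun hh => D @Smooth ((T @Smooth).mp hh), fun ⟨_, _⟩ => (T @Smooth).mpr (GrothLib.Pushout6.smooth_mapObj hX' hY' hC hC')⟩,
    ⟨fun hh => D @Etale ((T @Etale).mp hh), fun ⟨_, _⟩ => (T @Etale).mpr (GrothLib.Pushout6.etale_mapObj hX' hY' hC hC')⟩⟩

end Groth.Agent.S7183
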