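import Groth.Statements.S7185
import Groth.Agent.Lib.Weight.Weighting
-- import your own Groth.Agent.* helpers here

set_option autoImplicit false
universe u
open FlatMor

namespace Groth.Agent.S7185

open AlgebraicGeometry CategoryTheory Limits in
/-- The restriction of a weighting of a locally quasi-finite morphism f : X → Y (locally of finite type
with discrete fibres) to an open subscheme X' of X is a weighting of X' → Y. -/
theorem result {X Y : Scheme.{u}} (f : X ⟶ Y) [LocallyQuasiFinite f] [LocallyOfFiniteType f] (w : X → ℤ)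
    (hw : MoreMor.IsWeighting f w) (X' : X.Opens) : MoreMor.IsWeighting (X'.ι ≫ f) (fun x => w (X'.ι x)) := by
  intro V g _ U hU
  let m : Limits.pullback (X'.ι ≫ f) g ⟶ Limits.pullback f g :=
    Limits.pullback.map (X'.ι ≫ f) g f g X'.ι (𝟙 V) (𝟙 Y) ((Category.comp_id _)) (by simp)
  have hm : IsOpenImmersion m :=
    MorphismProperty.pullbackMap (P := @IsOpenImmersion) (inferInstanceAs (IsOpenImmersion X'.ι))
      (inferInstanceAs (IsOpenImmersion (𝟙 V))) rfl (Category.id_comp g).symm
  have hP : GrothLib.Weight.Piece f g (U.ι ≫ Limits.pullback.snd (X'.ι ≫ f) g)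
      (U.ι ≫ Limits.pullback.fst (X'.ι ≫ f) g ≫ X'.ι) := by
    have hw' : (U.ι ≫ Limits.pullback.fst (X'.ι ≫ f) g ≫ X'.ι) ≫ f =
        (U.ι ≫ Limits.pullback.snd (X'.ι ≫ f) g) ≫ g := by
      simp [Limits.pullback.condition]
    refine ⟨hU, hw', ?_⟩
    rw [show Limits.pullback.lift (U.ι ≫ Limits.pullback.fst (X'.ι ≫ f) g ≫ X'.ι)
        (U.ι ≫ Limits.pullback.snd (X'.ι ≫ f) g) hw' = U.ι ≫ m by
      apply Limits.pullback.hom_ext
      · rw [Category.assoc U.ι m, Limits.pullback.lift_fst]
        exact (congrArg (U.ι ≫ ·) (Limits.pullback.lift_fst _ _ _)).symm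
      · rw [Category.assoc U.ι m, Limits.pullback.lift_snd]
        exact ((congrArg (U.ι ≫ ·) (Limits.pullback.lift_snd _ _ _)).trans
          (by simp)).symm]
    infer_instance
  exact hP.isLocallyConstant hw

end Groth.Agent.S7185
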