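import Groth.Statements.S7186
import Groth.Agent.Lib.FibTriv28.Fibre
import Groth.Agent.Lib.BCCrit.Degree0
import Groth.Agent.Lib.BCCrit.Reduced
import Groth.Agent.Lib.Seesaw26.LocalGood
import Groth.Agent.Lib.LocFreeHom.Lift

set_option backward.isDefEq.respectTransparency false

set_option autoImplicit false
universe u
open FlatMor

namespace Groth.Agent.S7186

open AlgebraicGeometry CategoryTheory Limits in
/-- Let f : X → S be flat, proper and of finite presentation such that O_T → (f_T)_* O_{X_T} is an
isomorphism for every base change T → S. Suppose E is an O_X-module that is finite locally free and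
whose restriction to each fibre X_s is free, and let S be reduced. Then E is isomorphic to the
pullback of a finite locally free O_S-module. -/
theorem result {X S : Scheme.{u}} (f : X ⟶ S) [Flat f] [IsProper f] [LocallyOfFinitePresentation f]
    (hO : ∀ (T : Scheme.{u}) (g : T ⟶ S) (U : T.Opens), IsIso ((pullback.snd f g).app U))
    (E : X.Modules) (hE : FlatMod.IsFinLocFree E)
    (hfib : ∀ s : S, ∃ r : ℕ, Nonempty ((Scheme.Modules.pullback (f.fiberι s)).obj E ≅ FlatMod.freeMod (f.fiber s) r))
    [IsReduced S] :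
    ∃ N : S.Modules, FlatMod.IsFinLocFree N ∧ Nonempty ((Scheme.Modules.pullback f).obj N ≅ E) := by
  classical
  have hh : ∀ (s : S) (U : (Spec (S.residueField s)).Opens), Function.Bijective ((f.fiberToSpecResidueField s).app U) :=
    fun s U => by
      haveI := hO (Spec (S.residueField s)) (S.fromSpecResidueField s) U
      exact ConcreteCategory.bijective_of_isIso ((pullback.snd f (S.fromSpecResidueField s)).app U)
  choose r e using hfib
  have hne : ∀ s : S, Nonempty ↥(f.fiber s) := fun s => by
    by_contra h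
    haveI : IsEmpty ↥(f.fiber s) := not_nonempty_iff.1 h
    haveI : Subsingleton Γ(f.fiber s, ⊤) := by
      rw [show (⊤ : (f.fiber s).Opens) = ⊥ from TopologicalSpace.Opens.ext (Set.eq_empty_of_isEmpty _)]
      infer_instance
    haveI : Nontrivial Γ(Spec (S.residueField s), ⊤) := RingHom.domain_nontrivial (Scheme.ΓSpecIso (S.residueField s)).hom.hom
    obtain ⟨a, b, hab⟩ := exists_pair_ne Γ(Spec (S.residueField s), ⊤)
    exact hab ((hh s ⊤).1 (Subsingleton.elim (α := Γ(f.fiber s, ⊤)) _ _))
  have hrk : ∀ x : X, GrothLib.FibTriv28.rk E x = r (f x) := fun x => by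
    obtain ⟨z, hz⟩ : x ∈ Set.range (f.fiberι (f x)) := by rw [f.range_fiberι]; rfl
    rw [← hz, ← GrothLib.FibTriv28.rk_pullback (f.fiberι (f x)) hE z,
      GrothLib.FibTriv28.rk_iso (e (f x)).some z, GrothLib.FibTriv28.rk_freeMod, hz]
  have hsurj : ∀ s : S, ∃ x : X, f x = s := fun s =>
    ⟨f.fiberι s (hne s).some, (f.range_fiberι s).le ⟨_, rfl⟩⟩
  have hrconst : IsLocallyConstant r := by
    refine (IsLocallyConstant.iff_isOpen_fiber).2 fun n => ?_
    have hc := (GrothLib.FibTriv28.isLocallyConstant_rk hE).isOpen_fiber n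
    have himg : {s | r s = n} = (f.base '' {x | GrothLib.FibTriv28.rk E x = n}ᶜ)ᶜ := by
      ext s
      simp only [Set.mem_setOf_eq, Set.mem_compl_iff, Set.mem_image, hrk]
      constructor
      · rintro h ⟨x, hx, hxs⟩
        have hxs' : f x = s := hxs
        exact hx (hxs'.symm ▸ h)
      · intro h
        by_contra hs
        obtain ⟨x, hx⟩ := hsurj s
        exact h ⟨x, fun h' => hs (hx ▸ h'), hx⟩
    show IsOpen {s | r s = n}
    rw [himg]
    exact (f.isClosedMap _ hc.isClosed_compl).isOpen_compl
  haveI : E.IsQuasicoherent := GrothLib.Euler.isQuasicoherent_of_isFinLocFree hE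
  haveI : Coh.IsQCoh E := ‹E.IsQuasicoherent›
  have hFP : CohB1.IsFP E := GrothLib.LocFree8.isFP_of_isFinLocFree _ hE
  have hfl : FlatMod.IsFlatOver f E := GrothLib.LocFreeHom.isFlatOver_of_isFinLocFree f hE
  have hconst : IsLocallyConstant (CohIII.fiberRank f E 0) := by
    rw [show CohIII.fiberRank f E 0 = r from
      funext fun s => GrothLib.FibTriv28.fiberRank_of_iso f E s (r s) (hh s ⊤) (e s).some]
    exact hrconst
  have hgood : ∀ s : S, GrothLib.BCCrit.GoodAll f E ((0 : ℕ) : ℤ) s := fun s =>
    (GrothLib.BCCrit.goodAll_of_isLocallyConstant 0 hconst s).1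
  have hN : FlatMod.IsFinLocFree ((Scheme.Modules.pushforward f).obj E) := fun s => by
    obtain ⟨U, n, hs, hφ, -⟩ := GrothLib.BCCrit.exists_free_near0 hFP hfl s (hgood s)
    exact ⟨U, n, hs, hφ⟩
  refine ⟨_, hN, ?_⟩
  let c := (Scheme.Modules.pullbackPushforwardAdjunction f).counit.app E
  haveI : IsIso c := by
    refine (GrothLib.OX.isIso_iff c).2 fun x => ?_
    obtain ⟨z, hz⟩ : x ∈ Set.range (f.fiberι (f x)) := by rw [f.range_fiberι]; rfl
    haveI : IsIso (CohBC.bc0 f (S.fromSpecResidueField (f x)) (f.fiberToSpecResidueField (f x)) (f.fiberι (f x))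
        (f.fiber_fac (f x)) E) :=
      GrothLib.BCCrit.isIso_bc0_of_goodAll hFP hfl ⊤ (fun s _ => hgood s)
        (IsPullback.of_hasPullback f (S.fromSpecResidueField (f x))) fun _ => trivial
    haveI : IsIso ((Scheme.Modules.pullback (f.fiberι (f x))).map c) :=
      GrothLib.FibTriv28.isIso_pullback_counit f E (f x) (r (f x)) (hh (f x)) (e (f x)).some
    rw [← hz]
    exact GrothLib.FibTriv28.isIso_stalk_of_isIso_pullback (f.fiberι (f x))
      (GrothLib.OX.isFinLocFree_pullback f hN) hE c z
  exact ⟨asIso c⟩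

end Groth.Agent.S7186
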