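import Groth.Statements.S7187
import Groth.Agent.Lib.FibTriv29.Main
import Groth.Agent.Lib.Contract29.Descent
-- import your own Groth.Agent.* helpers here

set_option autoImplicit false
universe u
open FlatMor

namespace Groth.Agent.S7187

open AlgebraicGeometry CategoryTheory Limits in
/-- Let X and Y be Noetherian schemes and f : X → Y a proper morphism with O_Y → f_* O_X an isomorphism,
fibres of dimension at most 1, and H^1(X_y, O_{X_y}) = 0 for all y. Then f^* is injective on
isomorphism classes of invertible modules, and for every invertible O_X-module L whose restriction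
to each fibre X_y is trivial the direct image f_* L is an invertible O_Y-module. (The published
statement asserts moreover that such an L is isomorphic to f^* f_* L, so that f^* is a bijection
onto the classes of fibrewise trivial invertible modules; that last step is not stated here.) -/
theorem result {X Y : Scheme.{u}} (f : X ⟶ Y) [IsProper f] [IsNoetherian X] [IsNoetherian Y]
    (hO : ∀ U : Y.Opens, IsIso (f.app U))
    (hdim : ∀ y : Y, topologicalKrullDim ↥(f.fiber y) ≤ 1)
    (hH1 : ∀ y : Y, Subsingleton (Coh.HH (f.fiber y) (Coh.structureModule (f.fiber y)) 1)) :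
    (∀ N N' : Y.Modules, PicF.IsInvertible N → PicF.IsInvertible N' →
        Nonempty ((Scheme.Modules.pullback f).obj N ≅ (Scheme.Modules.pullback f).obj N') → Nonempty (N ≅ N')) ∧
    (∀ L : X.Modules, PicF.IsInvertible L →
        (∀ y : Y, Nonempty ((Scheme.Modules.pullback (f.fiberι y)).obj L ≅ Coh.structureModule (f.fiber y))) →
          PicF.IsInvertible ((Scheme.Modules.pushforward f).obj L)) := by
  refine ⟨fun N N' hN hN' he => (GrothLib.Cube.clsMod_eq_iff hN hN').1
    (GrothLib.Contract29.pull_injective f hO ?_), fun L hL ht => GrothLib.InvExt.isInvertible_of_gens ?_⟩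
  · rw [← GrothLib.Cube.clsMod_pullback f, ← GrothLib.Cube.clsMod_pullback f]
    exact (GrothLib.Cube.clsMod_eq_iff _ _).2 he
  let S : Set Y := {y | ∃ (W : Y.Opens) (e : Γ(L, f ⁻¹ᵁ W)), y ∈ W ∧ GrothLib.InvExt.IsGen L (f ⁻¹ᵁ W) e}
  have hS : IsOpen S := isOpen_iff_forall_mem_open.2 fun y ⟨W, e, hy, he⟩ =>
    ⟨W, fun z hz => ⟨W, e, hz, he⟩, W.2, hy⟩
  have hall : ∀ y, y ∈ S := fun y => by
    by_contra hy
    obtain ⟨z, hz, hzc⟩ := hS.isClosed_compl.exists_closed_singleton ⟨y, hy⟩
    exact hz (GrothLib.FibTriv29.exists_gen_of_closed f hdim hzc (hH1 z) hL (ht z))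
  intro y
  obtain ⟨W, e, hy, he⟩ := hall y
  exact ⟨W, e, hy, GrothLib.Contract29.isGen_push_of_isGen f hO he⟩

end Groth.Agent.S7187
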