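import Groth.Statements.S7188
import Groth.Agent.Lib.Seesaw26.Scheme
import Groth.Agent.Lib.ParaPair.Descent
-- import your own Groth.Agent.* helpers here

set_option autoImplicit false
universe u
open FlatMor

namespace Groth.Agent.S7188

open AlgebraicGeometry CategoryTheory Limits in
/-- Let f : X → S be flat, proper and of finite presentation with O_T → (f_T)_* O_{X_T} an isomorphism
for every base change, let E be an invertible O_X-module, and let j : Z → S be the immersion of
finite presentation representing the locus of those T → S over which the pullback of E comes from a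
finite locally free O_T-module. If every geometric fibre of f is an integral scheme, j is a closed
immersion (the locus is a closed subscheme of S). -/
theorem result {X S Z : Scheme.{u}} (f : X ⟶ S) [Flat f] [IsProper f] [LocallyOfFinitePresentation f]
    (hO : ∀ (T : Scheme.{u}) (g : T ⟶ S) (U : T.Opens), IsIso ((pullback.snd f g).app U))
    (E : X.Modules) (hE : PicF.IsInvertible E)
    (j : Z ⟶ S) [IsImmersion j] [LocallyOfFinitePresentation j]
    (hZ : ∀ (T : Scheme.{u}) (g : T ⟶ S), (∃ g' : T ⟶ Z, g' ≫ j = g) ↔
        ∃ N : T.Modules, FlatMod.IsFinLocFree N ∧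
          Nonempty ((Scheme.Modules.pullback (pullback.snd f g)).obj N ≅ (Scheme.Modules.pullback (pullback.fst f g)).obj E))
    (hgeo : ∀ (K : Type u) [Field K] (x : Spec (CommRingCat.of K) ⟶ S), IsIntegral (pullback f x)) :
    IsClosedImmersion j := by
    haveI : GeometricallyIntegral f := ⟨fun K _ x P a b sq => by
      haveI := hgeo K x
      haveI : IsIso sq.isoPullback.hom := inferInstance
      haveI : Nonempty P := ⟨sq.isoPullback.inv (Classical.arbitrary _)⟩
      exact isIntegral_of_isOpenImmersion sq.isoPullback.hom⟩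
    obtain ⟨Z', ι, hι, -, hZ'⟩ := GrothLib.Seesaw26.exists_seesaw_subscheme' f E hE
    have key : ∀ (T : Scheme.{u}) (g : T ⟶ S), (∃ g' : T ⟶ Z, g' ≫ j = g) ↔ ∃ g' : T ⟶ Z', g' ≫ ι = g := by
      intro T g
      rw [hZ, hZ']
      constructor
      · rintro ⟨N, hN, ⟨e⟩⟩
        haveI := GrothLib.Euler.isQuasicoherent_of_isFinLocFree hN
        exact ⟨N, GrothLib.ParaPair.isInvertible_of_pullback (pullback.snd f g) N
          (GrothLib.RelProjK.isInvertible_of_iso e (GrothLib.Ample.isInvertible_pullback (pullback.fst f g) hE)), ⟨e.symm⟩⟩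
      · rintro ⟨N, hN, ⟨e⟩⟩
        exact ⟨N, GrothLib.Euler.isFinLocFree_of_isInvertible hN, ⟨e.symm⟩⟩
    obtain ⟨a, ha⟩ := (key Z j).1 ⟨𝟙 Z, Category.id_comp j⟩
    obtain ⟨b, hb⟩ := (key Z' ι).2 ⟨𝟙 Z', Category.id_comp ι⟩
    haveI := hι
    haveI : IsIso a := ⟨b, by rw [← cancel_mono j, Category.assoc, hb, ha, Category.id_comp],
      by rw [← cancel_mono ι, Category.assoc, ha, hb, Category.id_comp]⟩
    rw [← ha]
    infer_instance

end Groth.Agent.S7188
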