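import Groth.Statements.S7189
import Groth.Agent.Lib.PicRigid6.Main
-- import your own Groth.Agent.* helpers here

set_option autoImplicit false
universe u
open FlatMor

namespace Groth.Agent.S7189

open AlgebraicGeometry CategoryTheory Limits in
/-- Let f : X → S and g : Y → S be flat, proper, of finite presentation, each with O_T → (·_T)_* O an
isomorphism after every base change, with sections σ and τ; let s be a point of S and L an
invertible module on X ×_S Y. If L pulls back to a trivial module along X → X ×_S Y, x ↦ (x,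
τ(f(x))) and along Y → X ×_S Y, y ↦ (σ(g(y)), y), and L is trivial on the fibre of X ×_S Y over s,
then there is an open neighbourhood U of s over whose preimage L is trivial. -/
theorem result {X Y S : Scheme.{u}} (f : X ⟶ S) (g : Y ⟶ S)
    [Flat f] [IsProper f] [LocallyOfFinitePresentation f] [Flat g] [IsProper g] [LocallyOfFinitePresentation g]
    (hOf : ∀ (T : Scheme.{u}) (t : T ⟶ S) (U : T.Opens), IsIso ((pullback.snd f t).app U))
    (hOg : ∀ (T : Scheme.{u}) (t : T ⟶ S) (U : T.Opens), IsIso ((pullback.snd g t).app U))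
    (σ : S ⟶ X) (hσ : σ ≫ f = 𝟙 S) (τ : S ⟶ Y) (hτ : τ ≫ g = 𝟙 S) (s : S)
    (L : (pullback f g).Modules) (hL : PicF.IsInvertible L)
    (u : X ⟶ pullback f g) (hu1 : u ≫ pullback.fst f g = 𝟙 X) (hu2 : u ≫ pullback.snd f g = f ≫ τ)
    (v : Y ⟶ pullback f g) (hv1 : v ≫ pullback.fst f g = g ≫ σ) (hv2 : v ≫ pullback.snd f g = 𝟙 Y)
    (h1 : Nonempty ((Scheme.Modules.pullback u).obj L ≅ Coh.structureModule X))
    (h2 : Nonempty ((Scheme.Modules.pullback v).obj L ≅ Coh.structureModule Y))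
    (h3 : Nonempty ((Scheme.Modules.pullback ((pullback.fst f g ≫ f).fiberι s)).obj L ≅ Coh.structureModule ((pullback.fst f g ≫ f).fiber s))) :
    ∃ U : S.Opens, s ∈ U ∧ Nonempty (L.restrict ((pullback.fst f g ≫ f) ⁻¹ᵁ U).ι ≅ Coh.structureModule ((pullback.fst f g ≫ f) ⁻¹ᵁ U).toScheme) := by
  have H : ∀ {Z : Scheme.{u}} (a : Z ⟶ pullback f g), Nonempty ((Scheme.Modules.pullback a).obj L ≅ Coh.structureModule Z) →
      GrothLib.Cube.pull a (GrothLib.Cube.clsMod hL) = 1 := fun a e => by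
    rw [← GrothLib.Cube.clsMod_pullback, GrothLib.Cube.clsMod_eq_one_iff]
    exact e
  obtain ⟨U, hs, hU⟩ := GrothLib.PicRigid6.exists_nhd_trivial_product f g hOf hOg σ hσ τ hτ s L hL u hu1 hu2 v hv1 hv2
    (H u h1) (H v h2) (H _ h3)
  rw [← GrothLib.Cube.clsMod_pullback, GrothLib.Cube.clsMod_eq_one_iff] at hU
  obtain ⟨e⟩ := hU
  exact ⟨U, hs, ⟨(Scheme.Modules.restrictFunctorIsoPullback _).app L ≪≫ e⟩⟩

end Groth.Agent.S7189
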