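import Groth.Statements.S7191
import Groth.Agent.Lib.CDLim8.Decomposed

set_option autoImplicit false
universe u
open CategoryTheory AlgebraicGeometry
open FlatMor

namespace Groth.Agent.S7191

/-- Let S = lim S_i be a cofiltered limit of schemes with affine transition morphisms, f₀ : X₀ → Y₀ a
morphism over some S_{i₀} with Y₀ quasi-compact and quasi-separated and f₀ locally of finite
presentation, and f : X → Y its base change to S. If f is completely decomposed (every point of Y is
the image of a point of X with the same residue field), then some base change f_i : X_i → Y_i of f₀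
to an S_i, i → i₀, is completely decomposed. -/
theorem result {I : Type u} [SmallCategory I] [IsCofiltered I]
    (D : I ⥤ Scheme.{u}) (c : Limits.Cone D) (hc : Limits.IsLimit c)
    [∀ (i j : I) (a : i ⟶ j), IsAffineHom (D.map a)]
    (i0 : I) {X0 Y0 X Y : Scheme.{u}} (f0 : X0 ⟶ Y0) (q0 : Y0 ⟶ D.obj i0) [CompactSpace ↥Y0] [QuasiSeparatedSpace ↥Y0]
    [LocallyOfFinitePresentation f0]
    (f : X ⟶ Y) (q : Y ⟶ c.pt) (pY : Y ⟶ Y0) (pX : X ⟶ X0)
    (hY : IsPullback pY q q0 (c.π.app i0)) (hX : IsPullback pX f f0 pY)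
    (hcd : ∀ y : Y, ∃ x : X, f x = y ∧ Function.Bijective (f.residueFieldMap x)) :
    ∃ (i : I) (a : i ⟶ i0) (Xi Yi : Scheme.{u}) (fi : Xi ⟶ Yi) (qi : Yi ⟶ D.obj i) (pYi : Yi ⟶ Y0) (pXi : Xi ⟶ X0),
      IsPullback pYi qi q0 (D.map a) ∧ IsPullback pXi fi f0 pYi ∧
      ∀ y : Yi, ∃ x : Xi, fi x = y ∧ Function.Bijective (fi.residueFieldMap x) := by
  refine GrothLib.LimDesc.exists_stage D i0 f0 q0
    (fun {A B} (fi : A ⟶ B) => ∀ y : B, ∃ x : A, fi x = y ∧ Function.Bijective (fi.residueFieldMap x)) ?_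
  obtain ⟨j, hj⟩ := GrothLib.CDLim8.exists_stage_ratLocus_eq_univ D hc f0 q0 hY hX
    (fun y => (GrothLib.CDLim8.exists_rational_iff f y).mpr (hcd y))
  exact ⟨j, fun y => (GrothLib.CDLim8.exists_rational_iff _ y).mp (hj y)⟩

end Groth.Agent.S7191
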