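import Groth.Statements.S7196
import Groth.Agent.Lib.HomAF8.Rep
import Groth.Agent.Lib.GrpdQuot.FiniteAffine

set_option autoImplicit false
universe u
open CategoryTheory AlgebraicGeometry
open FlatMor

namespace Groth.Agent.S7196

/-- For Z → S finite locally free and X → S separated, locally of finite type and with discrete fibres
(locally quasi-finite), the functor T ↦ {S-morphisms T ×_S Z → X} on S-schemes is represented by
some S-scheme. -/
theorem result {Z X S : Scheme.{u}} (g : Z ⟶ S) (f : X ⟶ S) (hg : Mor2.IsFinLocFree g)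
    [IsSeparated f] [LocallyQuasiFinite f] [LocallyOfFiniteType f] :
    (Flatn.morS g f).IsRepresentable := by
  refine GrothLib.HomAF8.morS_isRepresentable g f hg fun s d x hx => ?_
  obtain ⟨V, hV, hsV, -⟩ := exists_isAffineOpen_mem_and_subset (TopologicalSpace.Opens.mem_top s)
  haveI : IsAffine V.toScheme := hV
  obtain ⟨U, hU, hxU⟩ := GrothLib.GrpdQuot.exists_affineOpen_of_finite (f ∣_ V)
    (Set.range fun k => (⟨x k, show f (x k) ∈ V from (hx k).symm ▸ hsV⟩ : ↥(f ⁻¹ᵁ V))) (Set.finite_range _)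
  exact ⟨(f ⁻¹ᵁ V).ι ''ᵁ U, hU.image_of_isOpenImmersion _, fun k => ⟨_, hxU ⟨k, rfl⟩, rfl⟩⟩

end Groth.Agent.S7196
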