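import Groth.Statements.S7198
import Groth.Agent.Lib.FppfTower8.Main

set_option autoImplicit false
universe w u
open FlatMor

namespace Groth.Agent.S7198

open AlgebraicGeometry CategoryTheory Limits in
/-- Any fppf covering {S_i → S} is refined by a family built in four steps — cover S by Zariski opens
U_j; over each U_j take a surjective finite locally free W_j → U_j; cover each W_j by Zariski opens
W_{j,k}; over each of those take a surjective finite locally free T_{j,k} → W_{j,k} — where every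
composite T_{j,k} → S factors through some S_i. Stated pointwise: around every point of S, and then
around every point of the finite locally free cover, such data exist. -/
theorem result {S : Scheme.{u}} (E : PreZeroHypercover.{w} S)
    (hflat : ∀ i, Flat (E.f i)) (hfp : ∀ i, LocallyOfFinitePresentation (E.f i))
    (hsurj : ∀ s : S, ∃ (i : E.I₀) (x : E.X i), E.f i x = s) (s : S) :
    ∃ (U : S.Opens) (W : Scheme.{u}) (π : W ⟶ U.toScheme), s ∈ U ∧ Mor2.IsFinLocFree π ∧ Surjective π ∧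
      ∀ w : W, ∃ (W' : W.Opens) (T : Scheme.{u}) (ρ : T ⟶ W'.toScheme) (i : E.I₀) (r : T ⟶ E.X i),
        w ∈ W' ∧ Mor2.IsFinLocFree ρ ∧ Surjective ρ ∧ r ≫ E.f i = ρ ≫ W'.ι ≫ π ≫ U.ι := by
  obtain ⟨i, x, hx⟩ := hsurj s
  haveI := hflat i; haveI := hfp i
  obtain ⟨S', Q, j, u, g, h, hj, hg, hgs, hc⟩ := GrothLib.FppfTower8.exists_chart_of_mem_range (E.f i) x
  haveI := hj.etale
  obtain ⟨_, ⟨R', hR, rfl⟩, hsR, -⟩ := S.isBasis_affineOpens.exists_subset_of_mem_open (show s ∈ (⊤ : S.Opens) from trivial) isOpen_univ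
  have hu : u ∈ j ⁻¹ᵁ R' := by show j u ∈ R'; rw [hj.base_eq, hx]; exact hsR
  let jR : (j ⁻¹ᵁ R').toScheme ⟶ Spec Γ(S, R') := (j ∣_ R') ≫ hR.isoSpec.hom
  haveI : Etale (j ∣_ R') := IsZariskiLocalAtTarget.restrict ‹Etale j› _
  obtain ⟨W0, hsW, hW0, Y, π, hπ, hπs, hlift⟩ := GrothLib.FppfTower8.exists_finite_local_lift jR ⟨u, hu⟩
  let U : S.Opens := hR.fromSpec ''ᵁ W0
  let e : W0.toScheme ≅ U.toScheme := Scheme.Hom.isoImage hR.fromSpec W0
  have he : e.hom ≫ U.ι = W0.ι ≫ hR.fromSpec := Scheme.Hom.isoImage_hom_ι _ _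
  have hjR : jR ≫ hR.fromSpec = (j ⁻¹ᵁ R').ι ≫ j := by
    simp only [jR, Category.assoc, IsAffineOpen.isoSpec_hom_fromSpec, morphismRestrict_ι]
  obtain ⟨hπ1, hπ2, hπ3⟩ := hπ
  refine ⟨U, Y, π ≫ e.hom, ⟨_, hsW, ?_⟩, ⟨inferInstance, inferInstance, inferInstance⟩, inferInstance, fun w => ?_⟩
  · show hR.fromSpec (jR ⟨u, hu⟩) = s
    rw [← Scheme.Hom.comp_apply, hjR, Scheme.Hom.comp_apply]
    show j u = s
    rw [hj.base_eq, hx]
  obtain ⟨D, k, hwD, -, hk⟩ := hlift w
  let k' : D.toScheme ⟶ S' := k ≫ (j ⁻¹ᵁ R').ι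
  refine ⟨D, pullback k' g, pullback.fst k' g, i, pullback.snd k' g ≫ h, hwD,
    ⟨MorphismProperty.pullback_fst _ _ hg.1, MorphismProperty.pullback_fst _ _ hg.2.1, MorphismProperty.pullback_fst _ _ hg.2.2⟩,
    MorphismProperty.pullback_fst _ _ hgs, ?_⟩
  rw [Category.assoc, hc, ← pullback.condition_assoc]
  simp only [k', Category.assoc]
  rw [← hjR, reassoc_of% hk, he]

end Groth.Agent.S7198
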