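import Groth.Statements.S7199
import Groth.Agent.Lib.SepPencil.Basic
import Groth.Agent.Lib.AffDom.Formula
import Groth.Agent.Lib.Dim.Ring

set_option autoImplicit false
universe u
open FlatMor

namespace Groth.Agent.S7199


open GrothLib.SepPencil
set_option maxHeartbeats 1000000

open Ideal in
theorem algebraicIndependent_pair {k A : Type u} [Field k] [CommRing A] [IsDomain A] [Algebra k A]
    [Algebra.FiniteType k A] (g₀ g₁ : A) (p : Ideal A) (hp : p ∈ (Ideal.span {g₀, g₁}).minimalPrimes)
    (hdim : ringKrullDim (A ⧸ p) + 2 = ringKrullDim A) : AlgebraicIndependent k ![g₀, g₁] := by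
  have : p.IsPrime := hp.1.1
  have : IsNoetherianRing A := Algebra.FiniteType.isNoetherianRing k A
  have hformula := GrothLib.AffDom.height_add_ringKrullDim_quotient k A p
  have h2 : p.height = 2 := by
    obtain ⟨d, -, hd⟩ := GrothLib.Dim.exists_nat_trdeg_eq_and_ringKrullDim_eq k (A ⧸ p)
    obtain ⟨e, he⟩ := WithTop.ne_top_iff_exists.mp (Ideal.height_ne_top (I := p) Ideal.IsPrime.ne_top')
    rw [hd] at hformula hdim
    rw [← he] at hformula ⊢
    rw [← hdim] at hformula
    change ((((e : ℕ) : ℕ∞) : WithBot ℕ∞) + ((d : ℕ) : WithBot ℕ∞) = ((d : ℕ) : WithBot ℕ∞) + 2) at hformula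
    have h3 : ((e + d : ℕ) : WithBot ℕ∞) = ((d + 2 : ℕ) : WithBot ℕ∞) := by push_cast; exact hformula
    have h4 : e + d = d + 2 := by exact_mod_cast h3
    show ((e : ℕ) : ℕ∞) = ((2 : ℕ) : ℕ∞)
    rw [show e = 2 by omega]
  by_contra hdep
  let φ : MvPolynomial (Fin 2) k →ₐ[k] A := MvPolynomial.aeval ![g₀, g₁]
  have hker : RingHom.ker φ ≠ ⊥ := fun h => hdep ((RingHom.injective_iff_ker_eq_bot φ).2 h)
  have hg : ∀ i, φ (MvPolynomial.X i) = ![g₀, g₁] i := fun i => MvPolynomial.aeval_X _ i
  suffices h : p.height ≤ 1 by rw [h2] at h; norm_num at h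
  obtain ⟨i, hi⟩ : ∃ i, ![g₀, g₁] i ≠ 0 := by
    by_contra! h
    have h00 : g₀ = 0 := h 0
    have h01 : g₁ = 0 := h 1
    have : p = ⊥ := by
      refine le_antisymm (hp.2 ⟨Ideal.isPrime_bot, ?_⟩ bot_le) bot_le
      rw [Ideal.span_le]; rintro x (rfl | rfl) <;> simp [h00, h01]
    rw [this, Ideal.height_bot] at h2
    norm_num at h2
  have hmem : ∀ j, ![g₀, g₁] j ∈ p := fun j => by
    fin_cases j
    · exact hp.1.2 (Ideal.subset_span (Or.inl rfl))
    · exact hp.1.2 (Ideal.subset_span (Or.inr rfl))
  refine Ideal.height_le_one_of_isPrincipal_of_mem_minimalPrimes (Ideal.span {![g₀, g₁] i}) p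
    ⟨⟨inferInstance, (Ideal.span_singleton_le_iff_mem _).2 (hmem i)⟩, fun q hq hqp => ?_⟩
  haveI := hq.1
  refine hp.2 ⟨hq.1, ?_⟩ hqp
  by_contra hnot
  obtain ⟨j, hj⟩ : ∃ j, ![g₀, g₁] j ∉ q := by
    by_contra! h
    refine hnot ?_
    rw [Ideal.span_le]; rintro x (rfl | rfl)
    · exact h 0
    · exact h 1
  let P' := p.comap φ
  let Q' := q.comap φ
  haveI : P'.IsPrime := Ideal.IsPrime.comap φ
  haveI : Q'.IsPrime := Ideal.IsPrime.comap φ
  haveI : (RingHom.ker φ).IsPrime := RingHom.ker_isPrime φ
  have l1 : RingHom.ker φ < Q' := by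
    refine lt_of_le_of_ne (fun z hz => ?_) fun h => hi ?_
    · show φ z ∈ q
      rw [RingHom.mem_ker.1 hz]; exact zero_mem q
    · have : MvPolynomial.X i ∈ Q' := by
        show φ (MvPolynomial.X i) ∈ q
        rw [hg]; exact (Ideal.span_singleton_le_iff_mem _).1 hq.2
      rw [← h, RingHom.mem_ker, hg] at this
      exact this
  have l2 : Q' < P' := by
    refine lt_of_le_of_ne (Ideal.comap_mono hqp) fun h => hj ?_
    have : MvPolynomial.X j ∈ Q' := by
      rw [h]; show φ (MvPolynomial.X j) ∈ p
      rw [hg]; exact hmem j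
    rw [← hg]; exact this
  have a0 : (⊥ : Ideal (MvPolynomial (Fin 2) k)).height + 1 ≤ (RingHom.ker φ).height :=
    Ideal.height_add_one_le_of_lt_of_isPrime (bot_lt_iff_ne_bot.2 hker)
  have a1 : (RingHom.ker φ).height + 1 ≤ Q'.height := Ideal.height_add_one_le_of_lt_of_isPrime l1
  have a2 : Q'.height + 1 ≤ P'.height := Ideal.height_add_one_le_of_lt_of_isPrime l2
  have a3 : (P'.height : WithBot ℕ∞) ≤ 2 := by
    refine (Ideal.height_le_ringKrullDim_of_ne_top Ideal.IsPrime.ne_top').trans_eq ?_
    rw [MvPolynomial.ringKrullDim_of_isNoetherianRing, ringKrullDim_eq_zero_of_field]; simp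
  rw [Ideal.height_bot] at a0
  have a3' : P'.height ≤ 2 := WithBot.coe_le_coe.1 a3
  have a4 : (3 : ℕ∞) ≤ 2 := by
    calc (3 : ℕ∞) = ((0 + 1) + 1) + 1 := by norm_num
      _ ≤ ((RingHom.ker φ).height + 1) + 1 := by gcongr
      _ ≤ Q'.height + 1 := by gcongr
      _ ≤ P'.height := a2
      _ ≤ 2 := a3'
  norm_num at a4

open IntermediateField

/-- Translation of the variables of a polynomial ring. -/
noncomputable def translate {K : Type u} [Field K] {n : ℕ} (e : Fin n → K) :
    MvPolynomial (Fin n) K ≃ₐ[K] MvPolynomial (Fin n) K :=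
  AlgEquiv.ofAlgHom (MvPolynomial.aeval fun i => MvPolynomial.X i + MvPolynomial.C (e i))
    (MvPolynomial.aeval fun i => MvPolynomial.X i - MvPolynomial.C (e i))
    (MvPolynomial.algHom_ext fun i => by simp) (MvPolynomial.algHom_ext fun i => by simp)

open scoped IntermediateField.algebraAdjoinAdjoin in
theorem indep_of_pair {k A K W : Type u} [Field k] [CommRing A] [Field K] [Field W] [Algebra k A] [Algebra k K]
    [Algebra A K] [Algebra K W] [Algebra A W] [Algebra k W] [IsScalarTower k K W] [IsScalarTower A K W]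
    {n : ℕ} (e : Fin (n + 2) → K) (g : Fin (n + 2) → A) (x : Fin (n + 2) → W) (hx : AlgebraicIndependent K x)
    (hg : AlgebraicIndependent k (fun i => algebraMap A K (![g 0, g 1] i)))
    (σ : W ≃ₐ[K] W) (hσ : ∀ i, σ (x i) = x i + algebraMap K W (e i)) (he : e = Fin.cons 1 fun _ => 0) :
    AlgebraicIndependent k (Sum.elim x ![∑ i, algebraMap A W (g i) * x i, algebraMap A W (g 1)]) := by
  classical
  set a : W := algebraMap A W (g 0) with ha
  set η : W := algebraMap A W (g 1) with hη
  set ξ : W := ∑ i, algebraMap A W (g i) * x i with hξ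
  have hpair : AlgebraicIndependent k ![a, η] := by
    convert hg.map' (f := IsScalarTower.toAlgHom k K W) (algebraMap K W).injective using 1
    funext i
    fin_cases i <;> simp [ha, hη, ← IsScalarTower.algebraMap_apply]
  have hrange : Set.range ![a, η] ⊆ Set.range (algebraMap K W) := by
    rintro _ ⟨i, rfl⟩
    fin_cases i
    · exact ⟨algebraMap A K (g 0), (IsScalarTower.algebraMap_apply A K W _).symm⟩
    · exact ⟨algebraMap A K (g 1), (IsScalarTower.algebraMap_apply A K W _).symm⟩
  have hall : AlgebraicIndependent k (Sum.elim x ![a, η]) := hpair.sumElim_of_tower hrange hx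
  set L := adjoin k (Set.range x ∪ {η})
  have hout : ¬ IsAlgebraic L a := fun h => by
    have h2 := hall.transcendental_adjoin (s := {Sum.inr 0}ᶜ) (i := Sum.inr 0) (by simp)
    have hset : (Sum.elim x ![a, η]) '' ({Sum.inr 0}ᶜ : Set (Fin (n + 2) ⊕ Fin 2)) = Set.range x ∪ {η} := by
      ext z
      simp [Fin.exists_fin_two]
      constructor <;> rintro (⟨i, rfl⟩ | h') <;> simp_all
    exact h2 (hset.symm ▸ (h.restrictScalars (Algebra.adjoin k (Set.range x ∪ {η}))))
  have hσa : σ ξ = ξ + a := by
    simp only [hξ, map_sum, map_mul, hσ, mul_add, Finset.sum_add_distrib, IsScalarTower.algebraMap_apply A K W,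
      AlgEquiv.commutes]
    congr 1
    rw [Finset.sum_eq_single 0]
    · simp [he, ha, IsScalarTower.algebraMap_apply A K W]
    · intro i _ hi
      obtain ⟨j, rfl⟩ := Fin.eq_succ_of_ne_zero hi
      simp [he]
    · simp
  have hσL : ∀ z : L, (σ : W →+* W) (algebraMap L W z) ∈ Set.range (algebraMap L W) := fun z => ⟨⟨_,
    map_adjoin_le (A := k) (B := k) (σ : W →+* W) (S := Set.range x ∪ {η}) L (fun c => by
      show σ (algebraMap k W c) ∈ L
      rw [IsScalarTower.algebraMap_apply k K W, AlgEquiv.commutes, ← IsScalarTower.algebraMap_apply]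
      exact L.algebraMap_mem c) (fun w hw => by
      rcases hw with ⟨i, rfl⟩ | rfl
      · show σ (x i) ∈ L
        rw [hσ]
        refine add_mem (subset_adjoin k _ (Or.inl ⟨i, rfl⟩)) ?_
        rw [he]
        induction i using Fin.cases with
        | zero => simp only [Fin.cons_zero, map_one]; exact one_mem L
        | succ j => simp only [Fin.cons_succ, map_zero]; exact zero_mem L
      · show σ η ∈ L
        rw [hη, IsScalarTower.algebraMap_apply A K W, AlgEquiv.commutes, ← IsScalarTower.algebraMap_apply]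
        exact subset_adjoin k _ (Or.inr rfl)) z.2⟩, rfl⟩
  have htr : ¬ IsAlgebraic L ξ := fun h => hout (by
    have h' : IsAlgebraic L (σ ξ) := alg_transfer (σ : W →+* W) hσL h
    rw [hσa] at h'
    simpa using h'.sub h)
  let v : Fin (n + 2) ⊕ Unit → W := Sum.elim x fun _ => η
  have hv : AlgebraicIndependent k v := by
    convert hall.comp (Sum.map id fun _ : Unit => (1 : Fin 2)) (Function.injective_id.sumMap fun _ _ _ => rfl) using 1
    funext i
    rcases i with i | i <;> rfl
  have htr' : Transcendental (Algebra.adjoin k (Set.range v)) ξ := by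
    have hr : Set.range v = Set.range x ∪ {η} := by
      rw [Set.Sum.elim_range, Set.range_const]
    rw [hr]
    intro h
    exact htr (h.extendScalars (R := Algebra.adjoin k (Set.range x ∪ {η})) (S := L)
      (FaithfulSMul.algebraMap_injective _ _))
  have hopt := (hv.option_iff_transcendental ξ).2 htr'
  let em : Fin (n + 2) ⊕ Fin 2 → Option (Fin (n + 2) ⊕ Unit) := Sum.elim (fun i => some (Sum.inl i)) ![none, some (Sum.inr ())]
  have hem : Function.Injective em := by
    rintro (i | i) (j | j) h
    · simp [em] at h; rw [h]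
    · fin_cases j <;> simp [em] at h
    · fin_cases i <;> simp [em] at h
    · fin_cases i <;> fin_cases j <;> simp [em] at h ⊢
  convert hopt.comp em hem using 1
  funext i
  rcases i with i | i
  · rfl
  · fin_cases i <;> rfl


/-- Take a field k, an integral domain A that is a finitely generated k-algebra, n ≥ 2 and g_1, …, g_n ∈
A, and suppose some irreducible component of the common zero locus of g_1 and g_2 in Spec A has
dimension dim A − 2. Then for suitable c_1, …, c_n ∈ k the n + 2 elements x_1, …, x_n, Σ g_i x_i, Σ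
c_i g_i of the rational function field Frac(A)(x_1, …, x_n) form an algebraically independent family
over k. -/
theorem result {k A : Type u} [Field k] [CommRing A] [IsDomain A] [Algebra k A]
    [Algebra.FiniteType k A] (m : ℕ) (g : Fin (m + 2) → A)
    (p : Ideal A) (hp : p ∈ (Ideal.span {g 0, g 1}).minimalPrimes) (hdim : ringKrullDim (A ⧸ p) + 2 = ringKrullDim A) :
    ∃ c : Fin (m + 2) → k,
      AlgebraicIndependent k
        (Sum.elim
          (fun i : Fin (m + 2) => algebraMap (MvPolynomial (Fin (m + 2)) (FractionRing A)) (FractionRing (MvPolynomial (Fin (m + 2)) (FractionRing A))) (MvPolynomial.X i))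
          ![∑ i, algebraMap A (FractionRing (MvPolynomial (Fin (m + 2)) (FractionRing A))) (g i) *
              algebraMap (MvPolynomial (Fin (m + 2)) (FractionRing A)) (FractionRing (MvPolynomial (Fin (m + 2)) (FractionRing A))) (MvPolynomial.X i),
            algebraMap A (FractionRing (MvPolynomial (Fin (m + 2)) (FractionRing A))) (∑ i, c i • g i)]) := by
  classical
  let K := FractionRing A
  let P' := MvPolynomial (Fin (m + 2)) K
  let W := FractionRing P'
  let x : Fin (m + 2) → W := fun i => algebraMap P' W (MvPolynomial.X i)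
  let ξ : W := ∑ i, algebraMap A W (g i) * x i
  refine ⟨Pi.single 1 1, ?_⟩
  rw [show (∑ i, (Pi.single 1 1 : Fin (m + 2) → k) i • g i) = g 1 by simp [Pi.single_apply]]
  have hAK : Function.Injective (algebraMap A W) := by
    rw [IsScalarTower.algebraMap_eq A K W]
    exact (algebraMap K W).injective.comp (IsFractionRing.injective A K)
  have hxK : AlgebraicIndependent K x :=
    (MvPolynomial.algebraicIndependent_X (Fin (m + 2)) K).map' (f := IsScalarTower.toAlgHom K P' W)
      (IsFractionRing.injective P' W)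
  have hgg : AlgebraicIndependent k ![g 0, g 1] := algebraicIndependent_pair (g 0) (g 1) p hp hdim
  have hgK : AlgebraicIndependent k (fun i => algebraMap A K (![g 0, g 1] i)) :=
    hgg.map' (f := IsScalarTower.toAlgHom k A K) (IsFractionRing.injective A K)
  exact indep_of_pair (Fin.cons (1 : K) fun _ => 0) g x hxK hgK
    (IsFractionRing.fieldEquivOfAlgEquiv K W W (translate (K := K) (Fin.cons 1 fun _ => 0)))
    (fun i => by
      refine (IsFractionRing.fieldEquivOfAlgEquiv_algebraMap K W W (translate (K := K) (Fin.cons 1 fun _ => 0)) _).trans ?_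
      rw [translate, AlgEquiv.ofAlgHom_apply, MvPolynomial.aeval_X, map_add]
      rfl) rfl


end Groth.Agent.S7199
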