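import Groth.Statements.S7200
import Groth.Agent.Lib.SepPencil.Basic
import Groth.Agent.Lib.FBase7.Embeds
import Groth.Agent.Lib.GeomIrrAlg.FieldExt
import Groth.Agent.Lib.FieldExtra.Insep

set_option autoImplicit false
universe u
open FlatMor

namespace Groth.Agent.S7200


open CategoryTheory CategoryTheory.Limits AlgebraicGeometry IntermediateField TensorProduct
open GrothLib.SepPencil
set_option maxHeartbeats 1000000

/-- A geometrically irreducible extension has no new separable elements. -/
theorem mem_range_of_isSeparable {k K : Type u} [Field k] [Field K] [Algebra k K]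
    [GeometricallyIrreducible (Spec.map (CommRingCat.ofHom (algebraMap k K)))] {a : K} (ha : IsSeparable k a) :
    a ∈ Set.range (algebraMap k K) := by
  refine GrothLib.GeomIrrAlg.mem_range_of_irreducible (fun k' _ _ => ?_) a ha
  haveI : IrreducibleSpace ↥(pullback (Spec.map (CommRingCat.ofHom (algebraMap k K)))
      (Spec.map (CommRingCat.ofHom (algebraMap k k')))) :=
    GeometricallyIrreducible.geometrically_irreducibleSpace _ _ _ (IsPullback.of_hasPullback _ _)
  haveI : IrreducibleSpace (PrimeSpectrum (K ⊗[k] k')) :=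
    (pullbackSpecIso k K k').hom.homeomorph.surjective.irreducibleSpace (Scheme.Hom.continuous _)
  exact (PrimeSpectrum.homeomorphOfRingEquiv (Algebra.TensorProduct.comm k K k').toRingEquiv).surjective.irreducibleSpace
    (Homeomorph.continuous _)

theorem mem_perfectClosure_of_isAlgebraic {k K W : Type u} {ι : Type*} [Field k] [Field K] [Field W] [Algebra k K] [Algebra K W]
    [Algebra k W] [IsScalarTower k K W] (hk : ∀ a : K, IsSeparable k a → a ∈ Set.range (algebraMap k K))
    (x : ι → W) (hx : AlgebraicIndependent K x) (htop : adjoin K (Set.range x) = ⊤) {a : W}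
    (ha : IsAlgebraic (adjoin k (Set.range x)) a) : a ∈ perfectClosure (adjoin k (Set.range x)) W := by
  have hA := mem_adjoin_algebraicClosure (L := k) x hx (htop ▸ mem_top) ha
  obtain ⟨q, hq⟩ := ExpChar.exists k
  haveI : ExpChar (adjoin k (Set.range x)) q :=
    expChar_of_injective_algebraMap (algebraMap k (adjoin k (Set.range x))).injective q
  haveI : IsPurelyInseparable k (algebraicClosure k K) := by
    refine isPurelyInseparable_iff.2 fun z => ⟨Algebra.IsIntegral.isIntegral z, fun hz => ?_⟩
    obtain ⟨c, hc⟩ := hk _ (hz.map (IntermediateField.val (algebraicClosure k K)) Subtype.val_injective)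
    exact ⟨c, Subtype.ext hc⟩
  refine map_adjoin_le (RingHom.id W) (perfectClosure (adjoin k (Set.range x)) W)
    (fun c : k => (perfectClosure (adjoin k (Set.range x)) W).algebraMap_mem (⟨algebraMap k W c, (adjoin k (Set.range x)).algebraMap_mem c⟩ : adjoin k (Set.range x)))
    (fun z hz => ?_) hA
  rcases hz with ⟨z, hz, rfl⟩ | ⟨i, rfl⟩
  · obtain ⟨n, c, hc⟩ := IsPurelyInseparable.pow_mem k q (⟨z, hz⟩ : algebraicClosure k K)
    refine (mem_perfectClosure_iff_pow_mem q).2 ⟨n, ⟨_, (adjoin k (Set.range x)).algebraMap_mem c⟩, ?_⟩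
    show algebraMap k W c = (algebraMap K W z) ^ q ^ n
    rw [IsScalarTower.algebraMap_apply k K W, ← map_pow]
    exact congrArg (algebraMap K W) (congrArg Subtype.val hc)
  · exact (perfectClosure (adjoin k (Set.range x)) W).algebraMap_mem (⟨x i, subset_adjoin k _ ⟨i, rfl⟩⟩ : adjoin k (Set.range x))

theorem finiteDimensional_sep {k K W : Type u} {ι : Type*} [Field k] [Field K] [Field W] [Algebra k K] [Algebra K W]
    [Algebra k W] [IsScalarTower k K W] (hfg : (⊤ : IntermediateField k K).FG)
    (x : ι → W) (htop : adjoin K (Set.range x) = ⊤) (L : IntermediateField k W) (hxL : ∀ i, x i ∈ L)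
    (S : Set W) :
    FiniteDimensional (adjoin L S) (separableClosure (adjoin L S) W) := by
  classical
  obtain ⟨s, hs⟩ := hfg
  have hG : (⊤ : IntermediateField (adjoin L S) W).FG := by
    refine ⟨s.image (algebraMap K W), eq_top_iff.2 fun w _ => ?_⟩
    set T := adjoin (adjoin L S) ((s.image (algebraMap K W) : Finset W) : Set W)
    have hkT : ∀ c, algebraMap k W c ∈ T := fun c =>
      T.algebraMap_mem ⟨_, (adjoin L S).algebraMap_mem ⟨_, L.algebraMap_mem c⟩⟩
    have hK : ∀ a : K, algebraMap K W a ∈ T := fun a => by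
      have ha : a ∈ adjoin k (s : Set K) := hs ▸ mem_top
      induction ha using adjoin_induction with
      | mem z hz => exact subset_adjoin _ _ (Finset.mem_coe.2 (Finset.mem_image_of_mem _ hz))
      | algebraMap c => rw [← IsScalarTower.algebraMap_apply]; exact hkT c
      | add _ _ _ _ p q => rw [map_add]; exact add_mem p q
      | inv _ _ p => rw [map_inv₀]; exact inv_mem p
      | mul _ _ _ _ p q => rw [map_mul]; exact mul_mem p q
    exact map_adjoin_le (RingHom.id W) T hK (fun z hz => by
      obtain ⟨i, rfl⟩ := hz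
      exact T.algebraMap_mem ⟨_, (adjoin L S).algebraMap_mem ⟨_, hxL i⟩⟩) (show w ∈ adjoin K (Set.range x) from htop ▸ mem_top)
  haveI := GrothLib.FieldExtra.finiteDimensional_algebraicClosure hG
  exact FiniteDimensional.of_injective (IntermediateField.inclusion (show separableClosure (adjoin L S) W ≤ algebraicClosure (adjoin L S) W from fun z hz => mem_algebraicClosure_iff.2 (mem_separableClosure_iff.1 hz).isIntegral.isAlgebraic)).toLinearMap (RingHom.injective _)

variable {k K : Type u} [Field k] [Field K] [Algebra k K] {m : ℕ}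

local notation "PP" => MvPolynomial (Fin (m + 1)) K
local notation "WW" => FractionRing (MvPolynomial (Fin (m + 1)) K)

/-- Translation of the variables along `c` by a multiple `Q`. -/
noncomputable def shift (c : Fin (m + 1) → k) (Q : PP) : PP →ₐ[K] PP :=
  MvPolynomial.aeval fun i => MvPolynomial.X i + MvPolynomial.C (algebraMap k K (c i)) * Q

theorem shift_comp (c : Fin (m + 1) → k) (Q Q' : PP) (h : shift c Q Q' = Q') (h' : Q' = -Q) :
    (shift c Q).comp (shift c Q') = AlgHom.id K PP := by
  subst h'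
  have hQ : shift c Q Q = Q := by rwa [map_neg, neg_inj] at h
  refine MvPolynomial.algHom_ext fun i => ?_
  simp only [shift] at hQ ⊢
  simp only [AlgHom.comp_apply, MvPolynomial.aeval_X, map_add, map_mul, map_neg, MvPolynomial.aeval_C, hQ]
  simp

theorem sepClosed_general {W : Type u} [Field W] [Algebra PP W] [IsFractionRing PP W] [Algebra K W] [Algebra k W]
    [IsScalarTower k K W] [IsScalarTower K PP W] [IsScalarTower k PP W]
    (hfg : (⊤ : IntermediateField k K).FG) (hk : ∀ a : K, IsSeparable k a → a ∈ Set.range (algebraMap k K))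
    (g : Fin (m + 1) → K) (c : Fin (m + 1) → k)
    (x : Fin (m + 1) → W) (ξ η : W) (hxdef : x = fun i => algebraMap PP W (MvPolynomial.X i))
    (hξdef : ξ = ∑ i, algebraMap K W (g i) * x i) (hηdef : η = algebraMap K W (∑ i, c i • g i))
    (hind : AlgebraicIndependent k (Sum.elim x ![ξ, η]))
    (α : W) (hα : IsSeparable (adjoin k (Set.range x ∪ {ξ})) α) : α ∈ adjoin k (Set.range x ∪ {ξ}) := by
  classical
  subst hxdef
  set x : Fin (m + 1) → W := fun i => algebraMap PP W (MvPolynomial.X i) with hxd
  have hx : AlgebraicIndependent K x :=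
    (MvPolynomial.algebraicIndependent_X (Fin (m + 1)) K).map' (f := IsScalarTower.toAlgHom K PP W)
      (IsFractionRing.injective PP W)
  have hpoly : ∀ p : PP, algebraMap PP W p ∈ adjoin K (Set.range x) := fun p => by
    induction p using MvPolynomial.induction_on with
    | C a => rw [← MvPolynomial.algebraMap_eq, ← IsScalarTower.algebraMap_apply]; exact (adjoin K (Set.range x)).algebraMap_mem a
    | add p q hp hq => rw [map_add]; exact add_mem hp hq
    | mul_X p i hp => rw [map_mul]; exact mul_mem hp (subset_adjoin K _ ⟨i, rfl⟩)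
  have htop : adjoin K (Set.range x) = ⊤ := eq_top_iff.2 fun w _ => by
    obtain ⟨p, q, -, rfl⟩ := IsFractionRing.div_surjective PP w
    exact div_mem (hpoly p) (hpoly q)
  let L : IntermediateField k W := adjoin k (Set.range x)
  have hxL : ∀ i, x i ∈ L := fun i => subset_adjoin k _ ⟨i, rfl⟩
  have hT : Transcendental (adjoin L ({ξ} : Set W)) η := by
    intro h
    have h1 : IsAlgebraic (adjoin k (Set.range x ∪ {ξ})) η :=
      alg_transfer (RingHom.id W) (fun e : adjoin L ({ξ} : Set W) => (⟨⟨_, by
        have he : (e : W) ∈ (adjoin L ({ξ} : Set W)).restrictScalars k := e.2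
        rwa [adjoin_adjoin_left] at he⟩, rfl⟩ :
          _ ∈ Set.range (algebraMap (adjoin k (Set.range x ∪ {ξ})) W))) h
    have h2 := hind.transcendental_adjoin (s := {Sum.inr 1}ᶜ) (i := Sum.inr 1) (by simp)
    refine h2 ?_
    open scoped IntermediateField.algebraAdjoinAdjoin in
    have h3 : IsAlgebraic (Algebra.adjoin k (Set.range x ∪ {ξ})) η := h1.restrictScalars _
    have hset : (Sum.elim x ![ξ, η]) '' ({Sum.inr 1}ᶜ : Set (Fin (m + 1) ⊕ Fin 2)) = Set.range x ∪ {ξ} := by
      ext z
      simp [Fin.exists_fin_two]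
      constructor <;> rintro (⟨i, rfl⟩ | h') <;> simp_all
    exact hset.symm ▸ h3
  have hne : ∃ Y : PP, MvPolynomial.constantCoeff Y = 0 ∧ Y ≠ 0 ∧ algebraMap PP W Y ∈ L ∧
      ∀ n : ℕ, ∀ Q : PP, Q = Y ^ n ∨ Q = -Y ^ n → shift c Q Y = Y := by
    obtain ⟨j, hj⟩ : ∃ j, c j ≠ 0 := by
      by_contra! h
      exact hT (by
        have h0 : η = 0 := by simp [hηdef, h]
        rw [h0]; exact isAlgebraic_zero)
    obtain ⟨l, hl⟩ : ∃ l, l ≠ j := by
      by_contra! h
      refine hT ?_
      have hu : Finset.univ = ({j} : Finset (Fin (m + 1))) := Finset.eq_singleton_iff_unique_mem.2 ⟨Finset.mem_univ j, fun l _ => h l⟩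
      have hxj : x j ≠ 0 := (map_ne_zero_iff _ (IsFractionRing.injective PP W)).2 (MvPolynomial.X_ne_zero j)
      have he : η = algebraMap k W (c j) * ξ / x j := by
        simp only [hηdef, hξdef, hu, Finset.sum_singleton]
        rw [← mul_assoc, mul_div_cancel_right₀ _ hxj, Algebra.smul_def, map_mul, ← IsScalarTower.algebraMap_apply]
      rw [he]
      exact isAlgebraic_algebraMap (⟨_, div_mem (mul_mem
        ((adjoin L ({ξ} : Set W)).algebraMap_mem ⟨_, L.algebraMap_mem (c j)⟩) (mem_adjoin_simple_self L ξ))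
          ((adjoin L ({ξ} : Set W)).algebraMap_mem ⟨_, hxL j⟩)⟩ : adjoin L ({ξ} : Set W))
    refine ⟨MvPolynomial.C (algebraMap k K (c l)) * MvPolynomial.X j - MvPolynomial.C (algebraMap k K (c j)) * MvPolynomial.X l,
      by simp, fun h0 => ?_, ?_, fun n Q _ => ?_⟩
    · have := congrArg (MvPolynomial.eval (Pi.single l (1 : K))) h0
      simp [hl.symm, hj] at this
    · rw [map_sub, map_mul, map_mul]
      have hC : ∀ a : k, algebraMap PP W (MvPolynomial.C (algebraMap k K a)) ∈ L := fun a => by
        have : algebraMap PP W (MvPolynomial.C (algebraMap k K a)) = algebraMap k W a := by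
          rw [IsScalarTower.algebraMap_apply k PP W]; rfl
        rw [this]; exact L.algebraMap_mem a
      exact sub_mem (mul_mem (hC _) (hxL j)) (mul_mem (hC _) (hxL l))
    · simp [shift]
      ring
  obtain ⟨Y, hY0, hY, hYL, hYfix⟩ := hne
  have hfix : ∀ n, ∀ Q : PP, Q = Y ^ n ∨ Q = -Y ^ n → shift c Q (Y ^ n) = Y ^ n := fun n Q hQ => by
    rw [map_pow, hYfix n Q hQ]
  let e : ℕ → (PP ≃ₐ[K] PP) := fun n => AlgEquiv.ofAlgHom (shift c (Y ^ n)) (shift c (-Y ^ n))
    (shift_comp c _ _ (by rw [map_neg, hfix n _ (.inl rfl)]) rfl)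
    (shift_comp c _ _ (hfix n _ (.inr rfl)) (neg_neg _).symm)
  let τ : ℕ → (W ≃ₐ[k] W) := fun n =>
    (IsFractionRing.fieldEquivOfAlgEquiv K W W (e n)).restrictScalars k
  let s : ℕ → W := fun n => algebraMap PP W (Y ^ n)
  have hτP : ∀ n, ∀ p : PP, τ n (algebraMap PP W p) = algebraMap PP W (shift c (Y ^ n) p) := fun n p =>
    IsFractionRing.fieldEquivOfAlgEquiv_algebraMap K W W (e n) p
  have hτs : ∀ n, τ n (s n) = s n := fun n => by
    show τ n (algebraMap PP W (Y ^ n)) = _
    rw [hτP, hfix n _ (.inl rfl)]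
  have hτx : ∀ n i, τ n (x i) = x i + algebraMap k W (c i) * s n := fun n i => by
    show τ n (algebraMap PP W (MvPolynomial.X i)) = _
    rw [hτP, shift, MvPolynomial.aeval_X, map_add, map_mul, IsScalarTower.algebraMap_apply k PP W]
    rfl
  have hsL : ∀ n, s n ∈ L := fun n => by
    show algebraMap PP W (Y ^ n) ∈ L
    rw [map_pow]; exact pow_mem hYL n
  have hτK : ∀ n, ∀ a : K, τ n (algebraMap K W a) = algebraMap K W a := fun n a =>
    (IsFractionRing.fieldEquivOfAlgEquiv K W W (e n)).commutes a
  have hτsymm : ∀ n i, (τ n).symm (x i) = x i - algebraMap k W (c i) * s n := fun n i => by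
    rw [AlgEquiv.symm_apply_eq, map_sub, map_mul, (τ n).commutes, hτs, hτx]
    ring
  have hsinj : Function.Injective s := fun a b hab => by
    by_contra hne'
    wlog hlt : a < b generalizing a b
    · exact this b a hab.symm (Ne.symm hne') (lt_of_le_of_ne (not_lt.1 hlt) (Ne.symm hne'))
    have h1 : Y ^ a * (Y ^ (b - a) - 1) = 0 := by
      rw [mul_sub, ← pow_add, Nat.add_sub_cancel' hlt.le, mul_one, sub_eq_zero]
      exact (IsFractionRing.injective PP W hab).symm
    have h2 := (mul_eq_zero.1 h1).resolve_left (pow_ne_zero _ hY)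
    have h3 := congrArg MvPolynomial.constantCoeff (sub_eq_zero.1 h2)
    rw [map_pow, hY0, zero_pow (by omega), map_one] at h3
    exact zero_ne_one h3
  have hτx' : ∀ n, ∀ z ∈ Set.range x, (τ n : W →+* W) z ∈ L := fun n z hz => by
    obtain ⟨i, rfl⟩ := hz
    show τ n (x i) ∈ L
    rw [hτx]; exact add_mem (hxL i) (mul_mem (L.algebraMap_mem _) (hsL n))
  have hτy : ∀ n, ∀ z ∈ Set.range x, ((τ n).symm : W →+* W) z ∈ L := fun n z hz => by
    obtain ⟨i, rfl⟩ := hz
    show (τ n).symm (x i) ∈ L
    rw [hτsymm]; exact sub_mem (hxL i) (mul_mem (L.algebraMap_mem _) (hsL n))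
  have hk1 : ∀ n, ∀ a : k, (τ n : W →+* W) (algebraMap k W a) ∈ L := fun n a => by
    show τ n (algebraMap k W a) ∈ L
    rw [(τ n).commutes]; exact L.algebraMap_mem a
  have hk2 : ∀ n, ∀ a : k, ((τ n).symm : W →+* W) (algebraMap k W a) ∈ L := fun n a => by
    show (τ n).symm (algebraMap k W a) ∈ L
    rw [(τ n).symm.commutes]; exact L.algebraMap_mem a
  have hτL : ∀ n, ∀ a ∈ L, τ n a ∈ L ∧ (τ n).symm a ∈ L := fun n a ha =>
    ⟨map_adjoin_le (A := k) (B := k) ((τ n) : W →+* W) (S := Set.range x) L (hk1 n) (hτx' n) ha,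
      map_adjoin_le (A := k) (B := k) ((τ n).symm : W →+* W) (S := Set.range x) L (hk2 n) (hτy n) ha⟩
  have hτξ : ∀ n, τ n ξ = ξ + s n * η := fun n => by
    rw [hξdef, hηdef]
    simp only [map_sum, map_mul, hτK, hτx, Algebra.smul_def, ← IsScalarTower.algebraMap_apply]
    rw [Finset.mul_sum, ← Finset.sum_add_distrib]
    exact Finset.sum_congr rfl fun i _ => by ring
  have hτη : ∀ n, τ n η = η := fun n => by rw [hηdef]; exact hτK n _
  have hB : ∀ a, IsAlgebraic L a → a ∈ perfectClosure L W := fun a ha =>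
    mem_perfectClosure_of_isAlgebraic hk x hx htop ha
  have hfin := finiteDimensional_sep hfg x htop L hxL ({ξ, η} : Set W)
  have key : ∀ α, IsSeparable (adjoin L ({ξ} : Set W)) α → α ∈ adjoin L ({ξ} : Set W) := fun α hα =>
    core L ξ η s hsL hsinj τ hτL hτξ hτη hB hfin hT hα
  have hmem := key α (sep_transfer (RingHom.id W) (fun z : adjoin k (Set.range x ∪ {ξ}) => (⟨⟨_, by
    show (z : W) ∈ (adjoin L ({ξ} : Set W)).restrictScalars k
    rw [adjoin_adjoin_left]; exact z.2⟩, rfl⟩ : _ ∈ Set.range (algebraMap (adjoin L ({ξ} : Set W)) W))) hα)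
  have hmem' : α ∈ (adjoin L ({ξ} : Set W)).restrictScalars k := hmem
  rwa [adjoin_adjoin_left] at hmem'


open AlgebraicGeometry in
/-- Suppose K/k is a finitely generated field extension with K geometrically irreducible over k; let n ≥
1 and g_1, …, g_n ∈ K, and suppose some c ∈ kⁿ makes the n + 2 elements x_1, …, x_n, ξ = Σ g_i x_i,
Σ c_i g_i of Ω = K(x_1, …, x_n) algebraically independent over k. Then Ω remains geometrically
irreducible over its subfield generated over k by x_1, …, x_n and ξ. -/
theorem result {k K : Type u} [Field k] [Field K] [Algebra k K]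
    (hfg : (⊤ : IntermediateField k K).FG)
    [GeometricallyIrreducible (Spec.map (CommRingCat.ofHom (algebraMap k K)))]
    (m : ℕ) (g : Fin (m + 1) → K) (c : Fin (m + 1) → k)
    (hind : AlgebraicIndependent k
      (Sum.elim
        (fun i : Fin (m + 1) => algebraMap (MvPolynomial (Fin (m + 1)) K) (FractionRing (MvPolynomial (Fin (m + 1)) K)) (MvPolynomial.X i))
        ![∑ i, algebraMap K (FractionRing (MvPolynomial (Fin (m + 1)) K)) (g i) * algebraMap (MvPolynomial (Fin (m + 1)) K) (FractionRing (MvPolynomial (Fin (m + 1)) K)) (MvPolynomial.X i),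
          algebraMap K (FractionRing (MvPolynomial (Fin (m + 1)) K)) (∑ i, c i • g i)])) :
    GeometricallyIrreducible (Spec.map (CommRingCat.ofHom (algebraMap
      ↥(IntermediateField.adjoin k
        (Set.range (fun i : Fin (m + 1) => algebraMap (MvPolynomial (Fin (m + 1)) K) (FractionRing (MvPolynomial (Fin (m + 1)) K)) (MvPolynomial.X i)) ∪
          {∑ i, algebraMap K (FractionRing (MvPolynomial (Fin (m + 1)) K)) (g i) * algebraMap (MvPolynomial (Fin (m + 1)) K) (FractionRing (MvPolynomial (Fin (m + 1)) K)) (MvPolynomial.X i)}))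
      (FractionRing (MvPolynomial (Fin (m + 1)) K))))) := by
  apply GrothLib.FBase7.geometricallyIrreducible_specMap_of_sepClosedIn
  refine eq_bot_iff.2 fun α hα => mem_bot.2 ⟨⟨α, ?_⟩, rfl⟩
  exact sepClosed_general hfg (fun a => mem_range_of_isSeparable) g c _ _ _ rfl rfl rfl hind α
    (mem_separableClosure_iff.1 hα)


end Groth.Agent.S7200
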