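import Groth.Statements.S7201
import Groth.Agent.Lib.CplControl8.Basic

set_option autoImplicit false
universe u
open FlatMor

namespace Groth.Agent.S7201

open AlgebraicGeometry CategoryTheory Limits in
/-- Let h : T → S be a morphism of finite type between Noetherian schemes, t a point of T with image s,
and σ : O_{T,t} → O_{S,s}^∧ a local O_{S,s}-algebra map to the completion. For every N ≥ 1 there is
a morphism of finite type g : T' → T and a point t' over t such that σ factors through O_{T,t} →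
O_{T',t'}, and any local O_{S,s}-algebra map σ' : O_{T,t} → O_{S,s}^∧ factoring through O_{T,t} →
O_{T',t'} agrees with σ modulo m_s^N. -/
theorem result {T S : Scheme.{u}} [IsNoetherian T] [IsNoetherian S]
    (h : T ⟶ S) [LocallyOfFiniteType h] [QuasiCompact h] (t : T)
    (σ : ↑(T.presheaf.stalk t) →+* (AdicCompletion (IsLocalRing.maximalIdeal ↑(S.presheaf.stalk (h t))) ↑(S.presheaf.stalk (h t))))
    (hσ : σ.comp (h.stalkMap t).hom = algebraMap ↑(S.presheaf.stalk (h t)) (AdicCompletion (IsLocalRing.maximalIdeal ↑(S.presheaf.stalk (h t))) ↑(S.presheaf.stalk (h t))))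
    (hloc : ∀ a ∈ IsLocalRing.maximalIdeal ↑(T.presheaf.stalk t),
      σ a ∈ (IsLocalRing.maximalIdeal ↑(S.presheaf.stalk (h t))).map (algebraMap ↑(S.presheaf.stalk (h t)) (AdicCompletion (IsLocalRing.maximalIdeal ↑(S.presheaf.stalk (h t))) ↑(S.presheaf.stalk (h t)))))
    (N : ℕ) (hN : 1 ≤ N) :
    ∃ (T' : Scheme.{u}) (g : T' ⟶ T) (t' : T') (hg : g t' = t) (τ : ↑(T'.presheaf.stalk t') →+* (AdicCompletion (IsLocalRing.maximalIdeal ↑(S.presheaf.stalk (h t))) ↑(S.presheaf.stalk (h t)))),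
      LocallyOfFiniteType g ∧ QuasiCompact g ∧
      τ.comp ((g.stalkMap t').hom.comp (T.presheaf.stalkCongr (Inseparable.of_eq hg)).inv.hom) = σ ∧
      ∀ (σ' : ↑(T.presheaf.stalk t) →+* (AdicCompletion (IsLocalRing.maximalIdeal ↑(S.presheaf.stalk (h t))) ↑(S.presheaf.stalk (h t)))),
        σ'.comp (h.stalkMap t).hom = algebraMap ↑(S.presheaf.stalk (h t)) (AdicCompletion (IsLocalRing.maximalIdeal ↑(S.presheaf.stalk (h t))) ↑(S.presheaf.stalk (h t))) →
        (∀ a ∈ IsLocalRing.maximalIdeal ↑(T.presheaf.stalk t),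
          σ' a ∈ (IsLocalRing.maximalIdeal ↑(S.presheaf.stalk (h t))).map (algebraMap ↑(S.presheaf.stalk (h t)) (AdicCompletion (IsLocalRing.maximalIdeal ↑(S.presheaf.stalk (h t))) ↑(S.presheaf.stalk (h t))))) →
        (∃ τ' : ↑(T'.presheaf.stalk t') →+* (AdicCompletion (IsLocalRing.maximalIdeal ↑(S.presheaf.stalk (h t))) ↑(S.presheaf.stalk (h t))),
          τ'.comp ((g.stalkMap t').hom.comp (T.presheaf.stalkCongr (Inseparable.of_eq hg)).inv.hom) = σ') →
        ∀ a : ↑(T.presheaf.stalk t), σ a - σ' a ∈ (IsLocalRing.maximalIdeal ↑(S.presheaf.stalk (h t)) ^ N).map (algebraMap ↑(S.presheaf.stalk (h t)) (AdicCompletion (IsLocalRing.maximalIdeal ↑(S.presheaf.stalk (h t))) ↑(S.presheaf.stalk (h t)))) := by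
  set O := (↑(S.presheaf.stalk (h t)) : Type u)
  set Oh := AdicCompletion (IsLocalRing.maximalIdeal O) O
  obtain ⟨U, hU, hsU, -⟩ := exists_isAffineOpen_mem_and_subset (TopologicalSpace.Opens.mem_top (h t))
  obtain ⟨V, hV, htV, hVU⟩ := exists_isAffineOpen_mem_and_subset (x := t) (U := h ⁻¹ᵁ U) hsU
  letI : Algebra Γ(S, U) Γ(T, V) := (h.appLE U V hVU).hom.toAlgebra
  haveI : Algebra.FiniteType Γ(S, U) Γ(T, V) := h.finiteType_appLE hU hV hVU
  haveI : IsNoetherianRing Γ(S, U) := IsLocallyNoetherian.component_noetherian ⟨U, hU⟩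
  letI : Algebra Γ(S, U) O := (S.presheaf.germ U (h t) hsU).hom.toAlgebra
  haveI hO : IsLocalization.AtPrime O (hU.primeIdealOf ⟨h t, hsU⟩).asIdeal := hU.isLocalization_stalk ⟨h t, hsU⟩
  letI : Algebra Γ(T, V) (T.presheaf.stalk t) := (T.presheaf.germ V t htV).hom.toAlgebra
  haveI : IsLocalization.AtPrime (T.presheaf.stalk t) (hV.primeIdealOf ⟨t, htV⟩).asIdeal :=
    hV.isLocalization_stalk ⟨t, htV⟩
  haveI : IsNoetherianRing O :=
    IsLocalization.isNoetherianRing (hU.primeIdealOf ⟨h t, hsU⟩).asIdeal.primeCompl _ inferInstance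
  let κρ : Γ(S, U) →+* Oh := (algebraMap O Oh).comp (algebraMap Γ(S, U) O)
  let P := (hU.primeIdealOf ⟨h t, hsU⟩).asIdeal
  have hJ : (P ^ N).map κρ = (IsLocalRing.maximalIdeal O ^ N).map (algebraMap O Oh) := by
    rw [← Ideal.map_map, Ideal.map_pow, IsLocalization.AtPrime.map_eq_maximalIdeal P O]
  let σB : Γ(T, V) →+* Oh := σ.comp (algebraMap Γ(T, V) (T.presheaf.stalk t))
  have hσB : ∀ x, σB (algebraMap Γ(S, U) Γ(T, V) x) = κρ x := fun x => by
    show σ (T.presheaf.germ V t htV (h.appLE U V hVU x)) = algebraMap O Oh (S.presheaf.germ U (h t) hsU x)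
    rw [← RingHom.congr_fun hσ, RingHom.comp_apply, Scheme.Hom.germ_stalkMap_apply, Scheme.Hom.appLE]
    exact congrArg σ (TopCat.Presheaf.germ_res_apply T.presheaf (homOfLE hVU) t htV _)
  have happrox : ∀ z : Oh, ∃ x d : Γ(S, U), IsUnit (κρ d) ∧ z * κρ d - κρ x ∈ (P ^ N).map κρ := fun z => by
    obtain ⟨c, hc⟩ := GrothLib.CplControl8.exists_sub_mem_map (IsLocalRing.maximalIdeal O)
      (IsNoetherian.noetherian _) N z
    obtain ⟨x, d, rfl⟩ := IsLocalization.exists_mk'_eq P.primeCompl c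
    refine ⟨x, d, (IsLocalization.map_units O d).map (algebraMap O Oh), ?_⟩
    rw [hJ]
    have h1 := Ideal.mul_mem_right (κρ d.1) _ hc
    rw [sub_mul, show algebraMap O Oh (IsLocalization.mk' O x d) * κρ d.1 = κρ x by
      show _ * algebraMap O Oh (algebraMap Γ(S, U) O d.1) = algebraMap O Oh (algebraMap Γ(S, U) O x)
      rw [← map_mul, IsLocalization.mk'_spec]] at h1
    exact h1
  obtain ⟨B', _, ι, τB, hft, hτι, hpin⟩ :=
    GrothLib.CplControl8.exists_pinning κρ (P ^ N) σB hσB happrox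
  let g : Γ(T, V) ⟶ CommRingCat.of B' := CommRingCat.ofHom ι
  let t' : ↥(Spec (CommRingCat.of B')) := (⟨(IsLocalRing.maximalIdeal Oh).comap τB, inferInstance⟩ : PrimeSpectrum B')
  have hlocal : (IsLocalRing.maximalIdeal Oh).comap σ = IsLocalRing.maximalIdeal ↑(T.presheaf.stalk t) := by
    refine ((IsLocalRing.maximalIdeal.isMaximal _).eq_of_le (Ideal.comap_ne_top _
      (IsLocalRing.maximalIdeal.isMaximal _).ne_top) fun b hb => ?_).symm
    rw [Ideal.mem_comap, AdicCompletion.maximalIdeal_eq_map]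
    exact hloc b hb
  have hg : (Spec.map g ≫ hV.fromSpec) t' = t := by
    rw [Scheme.Hom.comp_apply]
    refine (congrArg hV.fromSpec (PrimeSpectrum.ext ?_ : (Spec.map g) t' = hV.primeIdealOf ⟨t, htV⟩)).trans
      (hV.fromSpec_primeIdealOf ⟨t, htV⟩)
    show ((IsLocalRing.maximalIdeal Oh).comap τB).comap ι = _
    rw [Ideal.comap_comap, hτι, ← Ideal.comap_comap, hlocal]
    exact IsLocalization.AtPrime.comap_maximalIdeal _ _
  letI : Algebra B' ((Spec (CommRingCat.of B')).presheaf.stalk t') :=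
    (StructureSheaf.toStalk B' t').hom.toAlgebra
  haveI : IsLocalization.AtPrime ((Spec (CommRingCat.of B')).presheaf.stalk t') t'.asIdeal :=
    StructureSheaf.IsLocalization.to_stalk B' t'
  have hu : ∀ y : t'.asIdeal.primeCompl, IsUnit (τB y) := fun y =>
    IsLocalRing.notMem_maximalIdeal.mp y.2
  let τ : ↑((Spec (CommRingCat.of B')).presheaf.stalk t') →+* Oh := IsLocalization.lift hu
  let gs : ↑(T.presheaf.stalk t) →+* ↑((Spec (CommRingCat.of B')).presheaf.stalk t') :=
    ((Spec.map g ≫ hV.fromSpec).stalkMap t').hom.comp (T.presheaf.stalkCongr (Inseparable.of_eq hg)).inv.hom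
  have hgs : ∀ b, gs (algebraMap Γ(T, V) (T.presheaf.stalk t) b) =
      algebraMap B' ((Spec (CommRingCat.of B')).presheaf.stalk t') (ι b) := fun b =>
    congr(($(Smoothing.Approx.germ_stalkMap_SpecMap_fromSpec hV g t' t hg htV)).hom b)
  refine ⟨Spec (CommRingCat.of B'), Spec.map g ≫ hV.fromSpec, t', hg, τ, ?_, ?_, ?_, ?_⟩
  · haveI : LocallyOfFiniteType (Spec.map g) := (HasRingHomProperty.Spec_iff (P := @LocallyOfFiniteType)).mpr hft
    infer_instance
  · haveI : QuasiSeparatedSpace T := inferInstance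
    infer_instance
  · refine IsLocalization.ringHom_ext (hV.primeIdealOf ⟨t, htV⟩).asIdeal.primeCompl (RingHom.ext fun b => ?_)
    show τ (gs (algebraMap Γ(T, V) (T.presheaf.stalk t) b)) = σB b
    rw [hgs]
    exact (IsLocalization.lift_eq hu _).trans (RingHom.congr_fun hτι b)
  · rintro σ' hσ' - ⟨τ', hτ'⟩ a
    rw [← hJ, ← Ideal.Quotient.eq]
    refine RingHom.congr_fun (IsLocalization.ringHom_ext (hV.primeIdealOf ⟨t, htV⟩).asIdeal.primeCompl
      (j := (Ideal.Quotient.mk ((P ^ N).map κρ)).comp σ) (k := (Ideal.Quotient.mk _).comp σ')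
      (RingHom.ext fun b => Ideal.Quotient.eq.mpr ?_)) a
    refine hpin (σ'.comp (algebraMap Γ(T, V) (T.presheaf.stalk t)))
      (τ'.comp (algebraMap B' ((Spec (CommRingCat.of B')).presheaf.stalk t'))) (fun x => ?_) (RingHom.ext fun b => ?_) b
    · show σ' (T.presheaf.germ V t htV (h.appLE U V hVU x)) = algebraMap O Oh (S.presheaf.germ U (h t) hsU x)
      rw [← RingHom.congr_fun hσ', RingHom.comp_apply, Scheme.Hom.germ_stalkMap_apply, Scheme.Hom.appLE]
      exact congrArg σ' (TopCat.Presheaf.germ_res_apply T.presheaf (homOfLE hVU) t htV _)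
    · show τ' (algebraMap B' _ (ι b)) = σ' (algebraMap Γ(T, V) (T.presheaf.stalk t) b)
      rw [← hgs]
      exact RingHom.congr_fun hτ' _

end Groth.Agent.S7201
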