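import Groth.Statements.S7203
import Groth.Agent.Lib.Smoothing.Approx.EtaleIso
import Groth.Agent.Lib.Smoothing.Approx.StalkGerm
import Mathlib.AlgebraicGeometry.Morphisms.Etale
import Mathlib.AlgebraicGeometry.Morphisms.FiniteType

set_option autoImplicit false
universe u
open FlatMor

namespace Groth.Agent.S7203

open AlgebraicGeometry CategoryTheory Limits in
/-- Let S be locally Noetherian, p : X → S and q : Y → S locally of finite type, x in X and y in Y over
the same point s with O_{S,s} a G-ring, and φ : O_{Y,y}^∧ ≅ O_{X,x}^∧ an isomorphism of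
O_{S,s}-algebras between the completed local rings. For every N ≥ 1 there are a scheme U, a point u
and morphisms e : U → X, f : U → Y over S which are both elementary étale neighbourhoods (of (X, x)
and of (Y, y)) such that O_{Y,y}^∧ → O_{U,u}^∧ and O_{Y,y}^∧ → O_{X,x}^∧ → O_{U,u}^∧ (φ followed by
the map induced by e) agree modulo m_u^N; the last condition is written on O_{U,u}/m_u^N through
lifts modulo the N-th powers of the maximal ideals. -/
theorem result {X Y S : Scheme.{u}} [IsLocallyNoetherian S]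
    (p : X ⟶ S) (q : Y ⟶ S) [LocallyOfFiniteType p] [LocallyOfFiniteType q] (x : X) (y : Y) (hxy : p x = q y)
    (hG : CAlg.IsGRing ↑(S.presheaf.stalk (p x)))
    (φ : (AdicCompletion (IsLocalRing.maximalIdeal ↑(Y.presheaf.stalk y)) ↑(Y.presheaf.stalk y)) ≃+* (AdicCompletion (IsLocalRing.maximalIdeal ↑(X.presheaf.stalk x)) ↑(X.presheaf.stalk x)))
    (hφ : φ.toRingHom.comp ((algebraMap ↑(Y.presheaf.stalk y) (AdicCompletion (IsLocalRing.maximalIdeal ↑(Y.presheaf.stalk y)) ↑(Y.presheaf.stalk y))).comp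
        ((q.stalkMap y).hom.comp (S.presheaf.stalkCongr (Inseparable.of_eq hxy)).hom.hom)) =
      (algebraMap ↑(X.presheaf.stalk x) (AdicCompletion (IsLocalRing.maximalIdeal ↑(X.presheaf.stalk x)) ↑(X.presheaf.stalk x))).comp (p.stalkMap x).hom)
    (N : ℕ) (hN : 1 ≤ N) :
    ∃ (U : Scheme.{u}) (u : U) (e : U ⟶ X) (heu : e u = x) (f : U ⟶ Y) (hfu : f u = y),
      Etale e ∧ Function.Bijective (e.residueFieldMap u) ∧ Etale f ∧ Function.Bijective (f.residueFieldMap u) ∧
      f ≫ q = e ≫ p ∧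
      ∀ (b : (AdicCompletion (IsLocalRing.maximalIdeal ↑(Y.presheaf.stalk y)) ↑(Y.presheaf.stalk y))) (cY : ↑(Y.presheaf.stalk y)) (cX : ↑(X.presheaf.stalk x)),
        AdicCompletion.evalₐ (IsLocalRing.maximalIdeal ↑(Y.presheaf.stalk y)) N b =
          Ideal.Quotient.mk (IsLocalRing.maximalIdeal ↑(Y.presheaf.stalk y) ^ N) cY →
        AdicCompletion.evalₐ (IsLocalRing.maximalIdeal ↑(X.presheaf.stalk x)) N (φ b) =
          Ideal.Quotient.mk (IsLocalRing.maximalIdeal ↑(X.presheaf.stalk x) ^ N) cX →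
        Ideal.Quotient.mk (IsLocalRing.maximalIdeal ↑(U.presheaf.stalk u) ^ N)
            ((f.stalkMap u).hom ((Y.presheaf.stalkCongr (Inseparable.of_eq hfu)).inv.hom cY)) =
          Ideal.Quotient.mk (IsLocalRing.maximalIdeal ↑(U.presheaf.stalk u) ^ N)
            ((e.stalkMap u).hom ((X.presheaf.stalkCongr (Inseparable.of_eq heu)).inv.hom cX)) := by
  haveI : IsLocallyNoetherian X := LocallyOfFiniteType.isLocallyNoetherian p
  -- affine neighbourhoods
  obtain ⟨U, hU, hsU, -⟩ := exists_isAffineOpen_mem_and_subset (TopologicalSpace.Opens.mem_top (p x))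
  obtain ⟨VX, hVX, hxV, hVXU⟩ := exists_isAffineOpen_mem_and_subset (x := x) (U := p ⁻¹ᵁ U) hsU
  obtain ⟨VY, hVY, hyV, hVYU⟩ := exists_isAffineOpen_mem_and_subset (x := y) (U := q ⁻¹ᵁ U) (show q y ∈ U from hxy ▸ hsU)
  letI : Algebra Γ(S, U) Γ(X, VX) := (p.appLE U VX hVXU).hom.toAlgebra
  letI : Algebra Γ(S, U) Γ(Y, VY) := (q.appLE U VY hVYU).hom.toAlgebra
  haveI : Algebra.FiniteType Γ(S, U) Γ(X, VX) := p.finiteType_appLE hU hVX hVXU
  haveI : Algebra.FiniteType Γ(S, U) Γ(Y, VY) := q.finiteType_appLE hU hVY hVYU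
  haveI : IsNoetherianRing Γ(S, U) := IsLocallyNoetherian.component_noetherian ⟨U, hU⟩
  haveI : IsNoetherianRing Γ(X, VX) := IsLocallyNoetherian.component_noetherian ⟨VX, hVX⟩
  letI : Algebra Γ(X, VX) (X.presheaf.stalk x) := (X.presheaf.germ VX x hxV).hom.toAlgebra
  letI : Algebra Γ(Y, VY) (Y.presheaf.stalk y) := (Y.presheaf.germ VY y hyV).hom.toAlgebra
  letI : Algebra Γ(S, U) (S.presheaf.stalk (p x)) := (S.presheaf.germ U (p x) hsU).hom.toAlgebra
  haveI hCx : IsLocalization.AtPrime (X.presheaf.stalk x) (hVX.primeIdealOf ⟨x, hxV⟩).asIdeal :=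
    hVX.isLocalization_stalk ⟨x, hxV⟩
  haveI hBy : IsLocalization.AtPrime (Y.presheaf.stalk y) (hVY.primeIdealOf ⟨y, hyV⟩).asIdeal :=
    hVY.isLocalization_stalk ⟨y, hyV⟩
  haveI : IsLocalization.AtPrime (S.presheaf.stalk (p x)) (hU.primeIdealOf ⟨p x, hsU⟩).asIdeal :=
    hU.isLocalization_stalk ⟨p x, hsU⟩
  haveI : IsNoetherianRing (X.presheaf.stalk x) :=
    IsLocalization.isNoetherianRing (hVX.primeIdealOf ⟨x, hxV⟩).asIdeal.primeCompl _ inferInstance
  have hreg := Smoothing.Approx.isRegularHom_completion_of_finiteType (A := Γ(S, U)) (C := Γ(X, VX))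
    (As := S.presheaf.stalk (p x)) (Cx := X.presheaf.stalk x) (hU.primeIdealOf ⟨p x, hsU⟩).asIdeal hG
    (hVX.primeIdealOf ⟨x, hxV⟩).asIdeal
    (congrArg PrimeSpectrum.asIdeal (IsAffineOpen.comap_primeIdealOf_appLE U hU VX hVX hVXU hxV))
  haveI : IsNoetherianRing Γ(Y, VY) := Algebra.FiniteType.isNoetherianRing Γ(S, U) _
  haveI : IsNoetherianRing (Y.presheaf.stalk y) :=
    IsLocalization.isNoetherianRing (hVY.primeIdealOf ⟨y, hyV⟩).asIdeal.primeCompl _ inferInstance
  have hgermX : ∀ a, (p.stalkMap x).hom (S.presheaf.germ U (p x) hsU a) =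
      X.presheaf.germ VX x hxV (p.appLE U VX hVXU a) := fun a => by
    rw [Scheme.Hom.germ_stalkMap_apply, Scheme.Hom.appLE]
    exact (TopCat.Presheaf.germ_res_apply X.presheaf (homOfLE hVXU) x hxV _).symm
  have hgermY : ∀ a, (q.stalkMap y).hom
      ((S.presheaf.stalkCongr (Inseparable.of_eq hxy)).hom.hom (S.presheaf.germ U (p x) hsU a)) =
      Y.presheaf.germ VY y hyV (q.appLE U VY hVYU a) := fun a => by
    rw [TopCat.Presheaf.stalkCongr_hom, TopCat.Presheaf.germ_stalkSpecializes_apply,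
      Scheme.Hom.germ_stalkMap_apply, Scheme.Hom.appLE]
    exact (TopCat.Presheaf.germ_res_apply Y.presheaf (homOfLE hVYU) y hyV _).symm
  have hφB : ∀ a, φ (algebraMap (Y.presheaf.stalk y) _ (algebraMap Γ(Y, VY) (Y.presheaf.stalk y)
      (algebraMap Γ(S, U) Γ(Y, VY) a))) = algebraMap (X.presheaf.stalk x) _
        (algebraMap Γ(X, VX) (X.presheaf.stalk x) (algebraMap Γ(S, U) Γ(X, VX) a)) := fun a => by
    show φ (algebraMap _ _ (Y.presheaf.germ VY y hyV (q.appLE U VY hVYU a))) =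
      algebraMap _ _ (X.presheaf.germ VX x hxV (p.appLE U VX hVXU a))
    rw [← hgermY, ← hgermX]
    exact RingHom.congr_fun hφ _
  obtain ⟨E, iE, iCE, χ, u, hE, hχ, hu, hucomap, huχ, hχA, hloca⟩ := Smoothing.Approx.exists_etale_iso_approx
    (hVY.primeIdealOf ⟨y, hyV⟩).asIdeal (hVX.primeIdealOf ⟨x, hxV⟩).asIdeal hreg φ hφB N
  let g : Γ(X, VX) ⟶ CommRingCat.of E := CommRingCat.ofHom (algebraMap Γ(X, VX) E)
  let h : Γ(Y, VY) ⟶ CommRingCat.of E := CommRingCat.ofHom χ
  let t : ↥(Spec (CommRingCat.of E)) := (⟨u, hu⟩ : PrimeSpectrum E)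
  have hbase : ∀ {Z : Scheme.{u}} {V : Z.Opens} (hV : IsAffineOpen V) (z : Z) (hz : z ∈ V)
      (k : Γ(Z, V) ⟶ CommRingCat.of E), u.comap k.hom = (hV.primeIdealOf ⟨z, hz⟩).asIdeal →
      (Spec.map k ≫ hV.fromSpec) t = z := fun hV z hz k hk => by
    rw [Scheme.Hom.comp_apply]
    exact (congrArg hV.fromSpec (PrimeSpectrum.ext hk : (Spec.map k) t = hV.primeIdealOf ⟨z, hz⟩)).trans
      (hV.fromSpec_primeIdealOf ⟨z, hz⟩)
  have heu := hbase hVX x hxV g hucomap
  have hfu := hbase hVY y hyV h huχ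
  refine ⟨Spec (CommRingCat.of E), t, Spec.map g ≫ hVX.fromSpec, heu, Spec.map h ≫ hVY.fromSpec, hfu,
    ?_, ?_, ?_, ?_, ?_, ?_⟩
  · haveI : AlgebraicGeometry.Etale (Spec.map g) :=
      HasRingHomProperty.Spec_iff.2 (RingHom.etale_algebraMap.2 hE)
    infer_instance
  rotate_left
  · haveI : AlgebraicGeometry.Etale (Spec.map h) := HasRingHomProperty.Spec_iff.2 hχ
    infer_instance
  rotate_left
  · rw [Category.assoc, Category.assoc, ← IsAffineOpen.SpecMap_appLE_fromSpec q hU hVY hVYU,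
      ← IsAffineOpen.SpecMap_appLE_fromSpec p hU hVX hVXU, ← Spec.map_comp_assoc, ← Spec.map_comp_assoc]
    congr 2
    exact CommRingCat.hom_ext (RingHom.ext hχA)
  rotate_left
  all_goals
    haveI := hu
    letI : Algebra E ((Spec (CommRingCat.of E)).presheaf.stalk t) :=
      (StructureSheaf.toStalk E (⟨u, hu⟩ : PrimeSpectrum E)).hom.toAlgebra
    haveI : IsLocalization.AtPrime ((Spec (CommRingCat.of E)).presheaf.stalk t) u :=
      StructureSheaf.IsLocalization.to_stalk E (⟨u, hu⟩ : PrimeSpectrum E)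
    let ι : ↑(X.presheaf.stalk x) →+* ↑((Spec (CommRingCat.of E)).presheaf.stalk t) :=
      ((X.presheaf.stalkCongr (Inseparable.of_eq heu)).inv ≫ (Spec.map g ≫ hVX.fromSpec).stalkMap t).hom
    let ι' : ↑(Y.presheaf.stalk y) →+* ↑((Spec (CommRingCat.of E)).presheaf.stalk t) :=
      ((Y.presheaf.stalkCongr (Inseparable.of_eq hfu)).inv ≫ (Spec.map h ≫ hVY.fromSpec).stalkMap t).hom
    obtain ⟨h1, h2, h3⟩ := hloca ((Spec (CommRingCat.of E)).presheaf.stalk t) ι ι'
      (fun c => congr(($(Smoothing.Approx.germ_stalkMap_SpecMap_fromSpec hVX g t x heu hxV)).hom c))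
      (fun b => congr(($(Smoothing.Approx.germ_stalkMap_SpecMap_fromSpec hVY h t y hfu hyV)).hom b))
  · refine ⟨((Spec.map g ≫ hVX.fromSpec).residueFieldMap t).hom.injective, fun z => ?_⟩
    obtain ⟨w, rfl⟩ := (Spec (CommRingCat.of E)).residue_surjective t z
    obtain ⟨c, hc⟩ := h1 w
    refine ⟨X.residue _ ((X.presheaf.stalkCongr (Inseparable.of_eq heu)).inv c), ?_⟩
    refine (congr(($(Scheme.residue_residueFieldMap (Spec.map g ≫ hVX.fromSpec) t)).hom
      ((X.presheaf.stalkCongr (Inseparable.of_eq heu)).inv c))).trans ?_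
    exact (Ideal.Quotient.eq.2 hc).symm
  · refine ⟨((Spec.map h ≫ hVY.fromSpec).residueFieldMap t).hom.injective, fun z => ?_⟩
    obtain ⟨w, rfl⟩ := (Spec (CommRingCat.of E)).residue_surjective t z
    obtain ⟨c, hc⟩ := h2 w
    refine ⟨Y.residue _ ((Y.presheaf.stalkCongr (Inseparable.of_eq hfu)).inv c), ?_⟩
    refine (congr(($(Scheme.residue_residueFieldMap (Spec.map h ≫ hVY.fromSpec) t)).hom
      ((Y.presheaf.stalkCongr (Inseparable.of_eq hfu)).inv c))).trans ?_
    exact (Ideal.Quotient.eq.2 hc).symm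
  · intro b cY cX hbY hbX
    refine Ideal.Quotient.eq.2 (h3 cY cX ?_)
    have hY := (Smoothing.Approx.evalₐ_eq_mk_iff N b cY).1 hbY
    have hX := (Smoothing.Approx.evalₐ_eq_mk_iff N (φ b) cX).1 hbX
    haveI : IsLocalHom φ.toRingHom := ⟨fun x hx => (isUnit_map_iff φ x).1 hx⟩
    have h4 := Ideal.mem_map_of_mem φ.toRingHom hY
    rw [Ideal.map_pow] at h4
    have h5 := Ideal.pow_right_mono (((IsLocalRing.local_hom_TFAE φ.toRingHom).out 0 2).mp ‹_›) N h4
    rw [map_sub] at h5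
    have h6 := sub_mem hX h5
    rw [show φ.toRingHom b = φ b from rfl, sub_sub_sub_cancel_left] at h6
    exact h6

end Groth.Agent.S7203
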