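import Groth.Statements.S7204
import Mathlib
-- import your own Groth.Agent.* helpers here

set_option autoImplicit false
universe w u
open FlatMor

namespace Groth.Agent.S7204

open AlgebraicGeometry CategoryTheory Limits in
/-- Let (X_i)_{i ∈ I} be a diagram of schemes and (W, X_i → W) a cocone under it. If there is an fpqc
covering {W_a → W} such that each W_a is the colimit (in schemes) of the base-changed diagram (X_i
×_W W_a), and each W_a ×_W W_b is the colimit of (X_i ×_W W_a ×_W W_b), then W is the colimit of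
(X_i) in the category of schemes. -/
theorem result {J : Type u} [SmallCategory J] (D : J ⥤ Scheme.{u}) (c : Cocone D)
    (F : PreZeroHypercover.{w} c.pt) (hF : F.presieve₀ ∈ Scheme.fpqcPrecoverage c.pt)
    (h1 : ∀ a : F.I₀, Nonempty (IsColimit ((Over.forgetCocone (F.X a)).whisker
      (D.toOver c.pt (fun j => c.ι.app j) (fun g => c.w g) ⋙ Over.pullback (F.f a)))))
    (h2 : ∀ a b : F.I₀, Nonempty (IsColimit ((Over.forgetCocone (pullback (F.f a) (F.f b))).whisker
      (D.toOver c.pt (fun j => c.ι.app j) (fun g => c.w g) ⋙ Over.pullback (pullback.fst (F.f a) (F.f b) ≫ F.f a))))) :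
    Nonempty (IsColimit c) := by
  have hS : ∀ Y : Scheme.{u}, Presieve.IsSheafFor (yoneda.obj Y) F.presieve₀ := fun Y =>
    (Presieve.isSheafFor_iff_generate _).2
      (GrothendieckTopology.Subcanonical.isSheaf_of_isRepresentable (J := Scheme.fpqcTopology) (yoneda.obj Y) _
        (Precoverage.generate_mem_toGrothendieck hF))
  have key : ∀ s : Cocone D, ∃! d : c.pt ⟶ s.pt, ∀ j, c.ι.app j ≫ d = s.ι.app j := by
    intro s
    let G : ∀ {T : Scheme.{u}} (t : T ⟶ c.pt), J ⥤ Scheme.{u} := fun t =>
      (D.toOver c.pt (fun j => c.ι.app j) (fun g => c.w g) ⋙ Over.pullback t) ⋙ Over.forget _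
    let st : ∀ {T : Scheme.{u}} (t : T ⟶ c.pt), Cocone (G t) := fun t =>
      { pt := s.pt
        ι :=
          { app := fun j => pullback.fst (c.ι.app j) t ≫ s.ι.app j
            naturality := fun j k φ => by
              erw [pullback.lift_fst_assoc, Category.assoc]
              exact congrArg (_ ≫ ·) (s.ι.naturality φ) } }
    let hc := fun a => (h1 a).some
    let d : ∀ a, F.X a ⟶ s.pt := fun a => (hc a).desc (st (F.f a))
    have hd : ∀ a j, pullback.snd (c.ι.app j) (F.f a) ≫ d a =
        pullback.fst (c.ι.app j) (F.f a) ≫ s.ι.app j := fun a j => (hc a).fac (st (F.f a)) j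
    have hcompat : ∀ a b, pullback.fst (F.f a) (F.f b) ≫ d a = pullback.snd (F.f a) (F.f b) ≫ d b := by
      intro a b
      refine (h2 a b).some.hom_ext fun j => ?_
      let t := pullback.fst (F.f a) (F.f b) ≫ F.f a
      show pullback.snd (c.ι.app j) t ≫ _ = pullback.snd (c.ι.app j) t ≫ _
      let ma : pullback (c.ι.app j) t ⟶ pullback (c.ι.app j) (F.f a) :=
        pullback.lift (pullback.fst _ _) (pullback.snd _ _ ≫ pullback.fst _ _)
          (by simp only [Category.assoc]; exact pullback.condition)
      let mb : pullback (c.ι.app j) t ⟶ pullback (c.ι.app j) (F.f b) :=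
        pullback.lift (pullback.fst _ _) (pullback.snd _ _ ≫ pullback.snd _ _)
          (by simp only [Category.assoc]; rw [← pullback.condition (f := F.f a) (g := F.f b)]; exact pullback.condition)
      have hma : pullback.snd (c.ι.app j) t ≫ pullback.fst (F.f a) (F.f b) = ma ≫ pullback.snd _ _ :=
        (pullback.lift_snd _ _ _).symm
      have hmb : pullback.snd (c.ι.app j) t ≫ pullback.snd (F.f a) (F.f b) = mb ≫ pullback.snd _ _ :=
        (pullback.lift_snd _ _ _).symm
      rw [reassoc_of% hma, reassoc_of% hmb, hd, hd]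
      simp only [ma, mb]
      rw [pullback.lift_fst_assoc, pullback.lift_fst_assoc]
    have hsh : ∀ Y : Scheme.{u}, ∀ x : ∀ a, (F.X a ⟶ Y),
        (∀ a b, pullback.fst (F.f a) (F.f b) ≫ x a = pullback.snd (F.f a) (F.f b) ≫ x b) →
        ∃! t : c.pt ⟶ Y, ∀ a, F.f a ≫ t = x a :=
      fun Y x hx => (Presieve.isSheafFor_arrows_iff_pullbacks (yoneda.obj Y) F.f).1 (hS Y) x hx
    obtain ⟨e, he, heu⟩ := hsh _ d hcompat
    refine ⟨e, fun j => ?_, fun e' he' => ?_⟩
    · have hSj : Presieve.IsSheafFor (yoneda.obj s.pt)
          (Presieve.ofArrows _ fun a => pullback.fst (c.ι.app j) (F.f a)) := by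
        refine (Presieve.isSheafFor_iff_generate _).2
          (GrothendieckTopology.Subcanonical.isSheaf_of_isRepresentable (J := Scheme.fpqcTopology) (yoneda.obj s.pt) _
            (Precoverage.generate_mem_toGrothendieck ?_))
        exact Precoverage.mem_coverings_of_isPullback F.f hF (c.ι.app j) _ (fun a => pullback.snd _ _) fun a => IsPullback.of_hasPullback _ _
      have h := (Presieve.isSheafFor_arrows_iff_pullbacks (yoneda.obj s.pt) _).1 hSj
        (fun a => pullback.fst (c.ι.app j) (F.f a) ≫ s.ι.app j) fun a b => by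
          change pullback.fst (pullback.fst (c.ι.app j) (F.f a)) (pullback.fst (c.ι.app j) (F.f b)) ≫ _ =
            pullback.snd (pullback.fst (c.ι.app j) (F.f a)) (pullback.fst (c.ι.app j) (F.f b)) ≫ _
          rw [reassoc_of% pullback.condition]
      refine h.unique (y₁ := c.ι.app j ≫ e) (y₂ := s.ι.app j) (fun a => ?_) (fun a => rfl)
      show pullback.fst (c.ι.app j) (F.f a) ≫ c.ι.app j ≫ e = _
      rw [← Category.assoc, pullback.condition, Category.assoc, he, hd]
    · refine heu e' fun a => ?_
      refine (hc a).hom_ext fun j => ?_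
      show pullback.snd (c.ι.app j) (F.f a) ≫ _ = pullback.snd (c.ι.app j) (F.f a) ≫ _
      rw [hd, ← Category.assoc, ← pullback.condition, Category.assoc, he']
  exact ⟨IsColimit.ofExistsUnique key⟩

end Groth.Agent.S7204
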