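import Groth.Statements.S7213
import Groth.Agent.Lib.KSix19.Chart

-- import your own Groth.Agent.* helpers here

set_option autoImplicit false
universe u
open CategoryTheory CategoryTheory.Limits AlgebraicGeometry Opposite TopologicalSpace
attribute [local instance] HasDerivedCategory.standard
open FlatMor

namespace Groth.Agent.S7213

/-- Let f : X ⟶ S be a morphism of schemes, m an integer, and E ∈ D(O_X) such that E is
m-pseudo-coherent with respect to the morphism f (chart form; in particular f is locally of finite
type). Then for every integer i > m the cohomology sheaf H^i(E) is a quasi-coherent O_X-module. -/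
theorem result {X S : Scheme.{u}} (f : X ⟶ S) (m : ℤ) (E : DCoh.D X)
    (hE : DerSch.IsPseudoCoherentRel f m E) (i : ℤ) (hi : m < i) : Coh.IsQCoh (DCoh.HD E i) := by
  let _ : HasDerivedCategory X.Modules := HasDerivedCategory.standard _
  let G := DerivedCategory.Q.objPreimage E
  let e : DCoh.toD X G ≅ E := DerivedCategory.Q.objObjPreimageIso E
  suffices h : ∀ x : X, ∃ U : X.Opens, x ∈ U ∧
      ((Scheme.Modules.restrictFunctor U.ι).obj (DCoh.HD E i)).IsQuasicoherent by
    choose U hx hU using h
    exact GrothLib.QCoh.isQuasicoherent_of_restrict (DCoh.HD E i) U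
      (eq_top_iff.2 fun x _ => TopologicalSpace.Opens.mem_iSup.2 ⟨x, hx x⟩) hU
  intro x
  obtain ⟨U, V, hle, N, φ, hxU, -, -, hcl, hpc⟩ := GrothLib.KSix19.exists_chart hE x
  refine ⟨U, hxU, ?_⟩
  exact @GrothLib.QCoh.isQuasicoherent_of_iso _ _ _
    ((G.sc i).mapHomologyIso (Scheme.Modules.restrictFunctor U.ι) ≪≫
      (Scheme.Modules.restrictFunctor U.ι).mapIso ((GrothLib.OX.hdIso G i).symm ≪≫
        (DerivedCategory.homologyFunctor _ i).mapIso e))
    (GrothLib.KSix19.isQCoh_of_chart (DerSch.chartImm U φ) (hpc G ⟨e⟩) (k := i) hi)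

end Groth.Agent.S7213
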