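import Groth.Statements.S7214
import Groth.Agent.Lib.KSix19.RelOps
-- import your own Groth.Agent.* helpers here

set_option autoImplicit false
set_option backward.isDefEq.respectTransparency false
set_option linter.style.haveILetI false
universe u
open CategoryTheory CategoryTheory.Limits AlgebraicGeometry Opposite TopologicalSpace
attribute [local instance] HasDerivedCategory.standard
open FlatMor

namespace Groth.Agent.S7214

/-- Let f : X ⟶ S be a morphism of schemes, m an integer, and E, K objects of D(O_X). If the direct sum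
E ⊕ K is m-pseudo-coherent relative to f (chart form; in particular f is locally of finite type),
then so are E and K. -/
theorem result {X S : Scheme.{u}} (f : X ⟶ S) (m : ℤ) (E K : DCoh.D X)
    [HasBinaryBiproduct E K] (h : DerSch.IsPseudoCoherentRel f m (E ⊞ K)) :
    DerSch.IsPseudoCoherentRel f m E ∧ DerSch.IsPseudoCoherentRel f m K := by
  haveI := h.1
  have key : ∀ (W : X.Opens) (hW : IsAffineOpen W) {P : Type u} [CommRing P] (φ : P →+* Γ(X, W)),
      Function.Surjective φ → GrothLib.KSix19.PCOn m (E ⊞ K) W φ →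
        GrothLib.KSix19.PCOn m E W φ ∧ GrothLib.KSix19.PCOn m K W φ := by
    intro W hW P _ φ hφ hP
    haveI := GrothLib.KSix19.isClosedImmersion_immOf hW hφ
    let F := GrothLib.OX.resD W.ι ⋙ GrothLib.KSix19.pushD (GrothLib.KSix19.immOf W φ)
    haveI : PreservesBinaryBiproduct E K F := preservesBinaryBiproduct_of_preservesBiproduct F E K
    haveI := HasBinaryBiproduct.of_hasBinaryProduct (F.obj E) (F.obj K)
    have h' := (GrothLib.KSix19.pcOn_iff_pushD hW hφ).1 hP
    have hb := GrothLib.OX.isPseudoCoherentD_biprod (m := m)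
      (GrothLib.OX.isPseudoCoherentD_of_iso h' (F.mapBiprod E K))
    exact ⟨(GrothLib.KSix19.pcOn_iff_pushD hW hφ).2 hb.1, (GrothLib.KSix19.pcOn_iff_pushD hW hφ).2 hb.2⟩
  constructor <;>
  · refine GrothLib.KSix19.isPseudoCoherentRel_of_local fun x => ?_
    obtain ⟨W, V, hW, hV, hxW, -, hle⟩ := GrothLib.KSix19.exists_affine_pair f (O := ⊤) (x := x) trivial
    obtain ⟨n, φ, hφ⟩ := GrothLib.KSix19.exists_isChart f hW hV hle
    first
    | exact ⟨W, V, hle, n, φ, hxW, hW, hV, hφ,
        (key W hW φ hφ.1 (GrothLib.KSix19.pcOn_of_isPseudoCoherentRel h hW hV hφ)).1⟩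
    | exact ⟨W, V, hle, n, φ, hxW, hW, hV, hφ,
        (key W hW φ hφ.1 (GrothLib.KSix19.pcOn_of_isPseudoCoherentRel h hW hV hφ)).2⟩

end Groth.Agent.S7214
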