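import Groth.Statements.S7216
import Groth.Agent.Lib.RelPCUnb.Devissage
-- import your own Groth.Agent.* helpers here

set_option autoImplicit false
set_option backward.isDefEq.respectTransparency false
set_option linter.style.haveILetI false
universe u
open CategoryTheory CategoryTheory.Limits AlgebraicGeometry Opposite TopologicalSpace
attribute [local instance] HasDerivedCategory.standard
open FlatMor

namespace Groth.Agent.S7216

/-- Let f : X ⟶ S be a morphism of schemes, m an integer, and E an object of D(O_X) whose cohomology
vanishes above some degree b and whose cohomology sheaf H^i(E), viewed in degree 0, is (m -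
i)-pseudo-coherent relative to f for every i (chart form; in particular f is locally of finite
type). Then E is m-pseudo-coherent relative to f. (Stated for cohomology bounded above by one degree
b on all of X; the published statement also allows a bound that varies locally on X.) -/
theorem result {X S : Scheme.{u}} (f : X ⟶ S) (m : ℤ) (E : DCoh.D X)
    (b : ℤ) [E.IsLE b] (h : ∀ i : ℤ, DerSch.IsPseudoCoherentRel f (m - i) (DCoh.inD X (DCoh.HD E i))) :
    DerSch.IsPseudoCoherentRel f m E := by
  haveI := (h 0).1
  exact GrothLib.RelPCUnb.isPseudoCoherentRel_of_homology (b := b) E h

end Groth.Agent.S7216
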