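import Groth.Statements.S7217
import Groth.Agent.Lib.KSix19.ChartIndep
-- import your own Groth.Agent.* helpers here

set_option autoImplicit false
set_option backward.isDefEq.respectTransparency false
set_option linter.style.haveILetI false
universe u
open CategoryTheory CategoryTheory.Limits AlgebraicGeometry Opposite TopologicalSpace
attribute [local instance] HasDerivedCategory.standard
open FlatMor

namespace Groth.Agent.S7217

/-- Let f : X ⟶ S be a morphism of schemes, U ⊆ X and V ⊆ S affine opens with f(U) ⊆ V such that Γ(S, V)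
→ Γ(X, U) is of finite type, E an object of D(O_X), m an integer, and g_1, …, g_k ∈ Γ(X, U) elements
generating the unit ideal, so that the basic opens D(g_j) form a standard affine open covering of U.
Then the following are equivalent: for every j there is a surjection from a polynomial ring Γ(S,
V)[x_1, …, x_n] onto Γ(X, D(g_j)), compatible with f, along whose closed immersion into affine space
over V the direct image of E restricted to D(g_j) is m-pseudo-coherent; there is such a surjection
onto Γ(X, U) along whose closed immersion the direct image of E|_U is m-pseudo-coherent. -/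
theorem result {X S : Scheme.{u}} (f : X ⟶ S) (U : X.affineOpens)
    (V : S.affineOpens) (h : (U : X.Opens) ≤ f ⁻¹ᵁ (V : S.Opens))
    (hft : (f.appLE (V : S.Opens) (U : X.Opens) h).hom.FiniteType) (m : ℤ) (E : DCoh.D X)
    {k : ℕ} (g : Fin k → Γ(X, (U : X.Opens))) (hg : Ideal.span (Set.range g) = ⊤) :
    (∀ j : Fin k, ∃ (n : ℕ) (φ : MvPolynomial (Fin n) Γ(S, (V : S.Opens)) →+* Γ(X, X.basicOpen (g j))),
        DerSch.IsChart f (X.basicOpen (g j)) (V : S.Opens) ((X.basicOpen_le (g j)).trans h) φ ∧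
          DerSch.ChartPC m E (X.basicOpen (g j)) (V : S.Opens) φ) ↔
      ∃ (n : ℕ) (φ : MvPolynomial (Fin n) Γ(S, (V : S.Opens)) →+* Γ(X, (U : X.Opens))),
        DerSch.IsChart f (U : X.Opens) (V : S.Opens) h φ ∧ DerSch.ChartPC m E (U : X.Opens) (V : S.Opens) φ := by
  constructor
  · intro hc
    letI := (f.appLE (V : S.Opens) (U : X.Opens) h).hom.toAlgebra
    haveI : Algebra.FiniteType Γ(S, (V : S.Opens)) Γ(X, (U : X.Opens)) := hft
    obtain ⟨n, α, hα⟩ := GrothLib.RelPC.exists_pres (R := Γ(S, (V : S.Opens))) (A := Γ(X, (U : X.Opens)))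
    have hchart : DerSch.IsChart f (U : X.Opens) (V : S.Opens) h α.toRingHom :=
      ⟨hα, RingHom.ext fun a => α.commutes a⟩
    refine ⟨n, α.toRingHom, hchart, GrothLib.KSix19.pcOn_of_local U.2 hα fun x hx => ?_⟩
    have hcov : ∃ j, x ∈ X.basicOpen (g j) := by
      have h2 := (U.2.iSup_basicOpen_eq_self_iff (s := Set.range g)).2 hg
      rw [← h2, Opens.mem_iSup] at hx
      obtain ⟨⟨_, j, rfl⟩, hj⟩ := hx
      exact ⟨j, hj⟩
    obtain ⟨j, hj⟩ := hcov
    obtain ⟨G, hG⟩ := hα (g j)
    obtain ⟨k', c, hc1, hc2⟩ := hc j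
    refine ⟨G, X.basicOpen (g j), X.basicOpen_le _, congrArg X.basicOpen hG.symm, hj, fun φG hs hcomp => ?_⟩
    exact (GrothLib.KSix19.exists_chart_basicOpen f U.2 h hchart G (X.basicOpen_le _)
      (congrArg X.basicOpen hG.symm) φG hs hcomp hc1).2 hc2
  · rintro ⟨n, φ, hφ, hpc⟩ j
    obtain ⟨G, hG⟩ := hφ.1 (g j)
    have hW : X.basicOpen (g j) = X.basicOpen (φ G) := congrArg X.basicOpen hG.symm
    have hWa : IsAffineOpen (X.basicOpen (g j)) := U.2.basicOpen _
    obtain ⟨φG, hs, hcomp⟩ := GrothLib.KSix19.exists_awayLift φ hφ.1 G (X.basicOpen_le _) hW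
      (Localization.Away G) U.2
    have h1 := GrothLib.KSix19.pcOn_basicOpen U.2 hφ.1 G (X.basicOpen_le _) hW _ hs hcomp hpc
    obtain ⟨k', θ, hθ, hθC, hiff⟩ := GrothLib.KSix19.pcOn_iff_away (m := m) (K := E) hWa G
      (Localization.Away G) hs
    refine ⟨k', θ, ⟨hθ, hθC.trans ?_⟩, hiff.2 h1⟩
    rw [hcomp, RingHom.comp_assoc, hφ.2]
    exact congrArg CommRingCat.Hom.hom (f.appLE_map h (homOfLE (X.basicOpen_le (g j))).op)

end Groth.Agent.S7217
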