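import Groth.Statements.S7218
import Groth.Agent.Lib.KSix19.ChartIndep
-- import your own Groth.Agent.* helpers here

set_option autoImplicit false
set_option backward.isDefEq.respectTransparency false
set_option linter.style.haveILetI false
universe u
open CategoryTheory CategoryTheory.Limits AlgebraicGeometry Opposite TopologicalSpace
attribute [local instance] HasDerivedCategory.standard
open FlatMor

namespace Groth.Agent.S7218

/-- Let f : X ⟶ S be a morphism of schemes, V ⊆ S an affine open, r ∈ Γ(S, V) with basic open D(r) ⊆ V,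
U ⊆ X an affine open with f(U) ⊆ D(r), g ∈ Γ(X, U) with basic open D(g) ⊆ U (a standard affine open
of U), E an object of D(O_X) and m an integer. Suppose there is a surjection from a polynomial ring
Γ(S, D(r))[x_1, …, x_n] onto Γ(X, U), compatible with f, along whose closed immersion into affine
space over D(r) the direct image of E|_U is m-pseudo-coherent. Then there is a surjection from a
polynomial ring Γ(S, V)[x_1, …, x_k] onto Γ(X, D(g)), compatible with f, along whose closed
immersion into affine space over V the direct image of E|_{D(g)} is m-pseudo-coherent. (The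
published statement allows any affine open of U in place of D(g); this row takes a standard open
D(g), the case its printed proof treats.) -/
theorem result {X S : Scheme.{u}} (f : X ⟶ S) (V : S.affineOpens)
    (r : Γ(S, (V : S.Opens))) (U : X.affineOpens) (hU : (U : X.Opens) ≤ f ⁻¹ᵁ S.basicOpen r)
    (g : Γ(X, (U : X.Opens))) (h' : X.basicOpen g ≤ f ⁻¹ᵁ (V : S.Opens))
    (m : ℤ) (E : DCoh.D X)
    (hE : ∃ (n : ℕ) (φ : MvPolynomial (Fin n) Γ(S, S.basicOpen r) →+* Γ(X, (U : X.Opens))),
      DerSch.IsChart f (U : X.Opens) (S.basicOpen r) hU φ ∧ DerSch.ChartPC m E (U : X.Opens) (S.basicOpen r) φ) :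
    ∃ (k : ℕ) (ψ : MvPolynomial (Fin k) Γ(S, (V : S.Opens)) →+* Γ(X, X.basicOpen g)),
      DerSch.IsChart f (X.basicOpen g) (V : S.Opens) h' ψ ∧ DerSch.ChartPC m E (X.basicOpen g) (V : S.Opens) ψ := by
  obtain ⟨n, φ, hφ, hpc⟩ := hE
  obtain ⟨G, hG⟩ := hφ.1 g
  have hW : X.basicOpen g = X.basicOpen (φ G) := congrArg X.basicOpen hG.symm
  have hWa : IsAffineOpen (X.basicOpen g) := U.2.basicOpen _
  have hWD : X.basicOpen g ≤ f ⁻¹ᵁ S.basicOpen r := (X.basicOpen_le g).trans hU
  obtain ⟨φG, hs, hcomp⟩ := GrothLib.KSix19.exists_awayLift φ hφ.1 G (X.basicOpen_le _) hW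
    (Localization.Away G) U.2
  have h1 := GrothLib.KSix19.pcOn_basicOpen U.2 hφ.1 G (X.basicOpen_le _) hW _ hs hcomp hpc
  obtain ⟨k, θ, hθ, hθC, hiff⟩ := GrothLib.KSix19.pcOn_iff_away (m := m) (K := E) hWa G
    (Localization.Away G) hs
  have hd : DerSch.IsChart f (X.basicOpen g) (S.basicOpen r) hWD θ := by
    refine ⟨hθ, hθC.trans ?_⟩
    rw [hcomp, RingHom.comp_assoc, hφ.2]
    exact congrArg CommRingCat.Hom.hom (f.appLE_map hU (homOfLE (X.basicOpen_le g)).op)
  have h3 : (f.appLE (V : S.Opens) (X.basicOpen g) h').hom.FiniteType := by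
    have hh := f.map_appLE hWD (homOfLE (S.basicOpen_le r)).op
    rw [← hh, CommRingCat.hom_comp]
    haveI := V.2.isLocalization_basicOpen r
    refine RingHom.FiniteType.comp ?_ ?_
    · rw [← hd.2]
      exact RingHom.FiniteType.comp (RingHom.FiniteType.of_surjective θ hθ)
        (RingHom.finiteType_algebraMap.2 inferInstance)
    · exact RingHom.finiteType_algebraMap.2
        (IsLocalization.finiteType_of_monoid_fg (R := Γ(S, (V : S.Opens))) (Submonoid.powers r) Γ(S, S.basicOpen r))
  letI := (f.appLE (V : S.Opens) (X.basicOpen g) h').hom.toAlgebra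
  haveI : Algebra.FiniteType Γ(S, (V : S.Opens)) Γ(X, X.basicOpen g) := h3
  obtain ⟨k', α, hα⟩ := GrothLib.RelPC.exists_pres (R := Γ(S, (V : S.Opens))) (A := Γ(X, X.basicOpen g))
  have hc : DerSch.IsChart f (X.basicOpen g) (V : S.Opens) h' α.toRingHom :=
    ⟨hα, RingHom.ext fun a => α.commutes a⟩
  exact ⟨k', α.toRingHom, hc, (GrothLib.KSix19.pcOn_base_iff f V.2 r rfl hWa hWD h' hc hd).1 (hiff.2 h1)⟩

end Groth.Agent.S7218
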