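import Groth.Statements.S7221
import Groth.Agent.Lib.NLBC6.Complex
-- import your own Groth.Agent.* helpers here

set_option autoImplicit false
set_option backward.isDefEq.respectTransparency false
set_option linter.style.haveILetI false
universe u
open CategoryTheory CategoryTheory.Limits TensorProduct
attribute [local instance] HasDerivedCategory.standard
open FlatMor

namespace Groth.Agent.S7221

/-- Let R → S and R → R' be ring homomorphisms and let S' be an algebra over R' and over S making the
square cocartesian, S' = S ⊗_R R'. Let G be a presentation of S over R by a polynomial algebra and
G' the presentation of S' over R' on the same set of variables, each variable mapping to the image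
of the corresponding generator (the base change of G). Then the canonical map H^{-1}(NL(G) ⊗_S S') →
H^{-1}(NL(G')) is surjective. The same holds for the canonical map H^{-1}(NL_{S/R} ⊗_S S') →
H^{-1}(NL_{S'/R'}) between the complexes of the presentations on all elements. (In degree 0 the
corresponding map S' ⊗_S Ω_{S/R} → Ω_{S'/R'} is bijective; that part is not restated.) -/
theorem result (R S R' S' : Type u) [CommRing R] [CommRing S] [CommRing R']
    [CommRing S'] [Algebra R S] [Algebra R' S'] [Algebra R R'] [Algebra S S'] [Algebra R S']
    [IsScalarTower R R' S'] [IsScalarTower R S S'] [Algebra.IsPushout R R' S S']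
    {ι : Type u} (G : Algebra.Generators R S ι) (G' : Algebra.Generators R' S' ι)
    (h : ∀ i, G'.val i = algebraMap S S' (G.val i)) :
    Function.Surjective (NLCx.bcH1Map (NLCx.sameVarsHom G G' h).toExtensionHom) ∧
      Function.Surjective (NLCx.bcH1Map
        ((Algebra.Generators.self R S).defaultHom (Algebra.Generators.self R' S')).toExtensionHom) := by
    exact ⟨GrothLib.NLBC6.bcH1Map_surjective _ (GrothLib.NLBC6.cotangent_surjective G G' h)
      (GrothLib.NLBC6.cotangentSpace_bijective G G' h).1, GrothLib.NLBC6.bcH1Map_self_surjective R S R' S'⟩

end Groth.Agent.S7221
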