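import Groth.Statements.S7225
import Groth.Agent.Lib.NLBC6.Complex
-- import your own Groth.Agent.* helpers here

set_option autoImplicit false
set_option backward.isDefEq.respectTransparency false
set_option linter.style.haveILetI false
universe u
open CategoryTheory CategoryTheory.Limits TensorProduct
attribute [local instance] HasDerivedCategory.standard
open FlatMor

namespace Groth.Agent.S7225

/-- Let A be a ring, M a submonoid of A, A' a localization of A at M and B an A'-algebra, viewed also as
an A-algebra. Let G be a presentation of B over A by a polynomial algebra and G' the presentation of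
B over A' with the same generators (G'(i) = G(i), written through the identity algebra map of B).
Then the canonical chain map NL(G) → NL(G') from the naive cotangent complex of the presentation
over A to that of the presentation over A' is an isomorphism of complexes (so that NL_{B/A} →
NL_{B/A'} is a homotopy equivalence). -/
theorem result (A A' B : Type u) [CommRing A] [CommRing A'] [CommRing B]
    [Algebra A A'] (M : Submonoid A) [IsLocalization M A'] [Algebra A' B] [Algebra A B] [IsScalarTower A A' B]
    {ι : Type u} (G : Algebra.Generators A B ι) (G' : Algebra.Generators A' B ι) (h : ∀ i, G'.val i = algebraMap B B (G.val i)) :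
    IsIso (NLCx.map (NLCx.sameVarsHom (S' := B) G G' h).toExtensionHom) := by
    haveI := GrothLib.NLBC6.isPushout_of_localization_base A A' B M
    haveI : Module.Flat A A' := IsLocalization.flat A' M
    let f := (NLCx.sameVarsHom (S' := B) G G' h).toExtensionHom
    have key : IsIso (NLCx.bcMap (S' := B) f) := GrothLib.NLBC6.isIso_bcMap _
      ⟨GrothLib.NLBC6.cotangent_injective_of_exact G G' h (GrothLib.NLBC6.exact_of_flat_base G),
        GrothLib.NLBC6.cotangent_surjective G G' h⟩ (GrothLib.NLBC6.cotangentSpace_bijective G G' h)
    let a : NLCx.cx G.toExtension ⟶ NLCx.bcCx G.toExtension B :=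
      GrothLib.NLAmp.twoHom _ _ (TensorProduct.lid B _).symm.toLinearMap (TensorProduct.lid B _).symm.toLinearMap
        (LinearMap.ext fun x => by simp)
    have ha : NLCx.map f = a ≫ NLCx.bcMap f := by
      refine HomologicalComplex.from_double_hom_ext ?_ ?_
      all_goals
        simp only [a, GrothLib.NLAmp.twoHom, NLCx.bcMap, NLCx.map, HomologicalComplex.comp_f,
          HomologicalComplex.mkHomFromDouble_f₀, HomologicalComplex.mkHomFromDouble_f₁, Category.assoc,
          Iso.inv_hom_id_assoc]
        congr 1
        rw [← Category.assoc, ← ModuleCat.ofHom_comp]
        congr 2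
        ext x
        simp
    haveI : ∀ n, IsIso (a.f n) := fun n => by
      by_cases h₀ : n = -1
      · subst h₀
        simp only [a, GrothLib.NLAmp.twoHom, HomologicalComplex.mkHomFromDouble_f₀]
        haveI := (ConcreteCategory.isIso_iff_bijective (ModuleCat.ofHom (TensorProduct.lid B G.toExtension.Cotangent).symm.toLinearMap)).2 (LinearEquiv.bijective _)
        infer_instance
      by_cases h₁ : n = 0
      · subst h₁
        simp only [a, GrothLib.NLAmp.twoHom, HomologicalComplex.mkHomFromDouble_f₁]
        haveI := (ConcreteCategory.isIso_iff_bijective (ModuleCat.ofHom (TensorProduct.lid B G.toExtension.CotangentSpace).symm.toLinearMap)).2 (LinearEquiv.bijective _)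
        infer_instance
      exact Limits.IsZero.isIso (HomologicalComplex.isZero_double_X _ _ n h₀ h₁)
        (HomologicalComplex.isZero_double_X _ _ n h₀ h₁) _
    haveI : IsIso a := HomologicalComplex.Hom.isIso_of_components a
    show IsIso (NLCx.map f)
    rw [ha]
    infer_instance

end Groth.Agent.S7225
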