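import Groth.Statements.S7232
import Groth.Agent.Lib.ThickDesc6.Square
-- import your own Groth.Agent.* helpers here

set_option autoImplicit false
universe u
open CategoryTheory CategoryTheory.Limits AlgebraicGeometry Opposite TopologicalSpace
attribute [local instance] HasDerivedCategory.standard
open FlatMor

namespace Groth.Agent.S7232

/-- Consider a cartesian square of schemes with sides f : X ⟶ Y, f' : X' ⟶ Y', i : X ⟶ X' and j : Y ⟶ Y'
(so i ≫ f' = f ≫ j and X = X' ×_{Y'} Y), where f' is flat and locally of finite presentation and j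
is a finite order thickening. Let E' be an object of D(O_{X'}) and assume the derived pullback Li^*
exists. Suppose Li^* E' is perfect relative to Y: it is represented by a cochain complex whose class
is pseudo-coherent and which, locally on X, has finite tor amplitude stalkwise over the local rings
of Y. Then E' is perfect relative to Y': it is pseudo-coherent and, locally on X', every cochain
complex representing it has finite tor amplitude stalkwise over the local rings of Y'. -/
theorem result {X X' Y Y' : Scheme.{u}} (f : X ⟶ Y) (f' : X' ⟶ Y')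
    (i : X ⟶ X') (j : Y ⟶ Y') (sq : IsPullback i f f' j) [Flat f'] [LocallyOfFinitePresentation f']
    (hj : MoreMor.IsFiniteOrderThickening j) [DCoh.HasLpull i] (E' : DCoh.D X')
    (hE : ∃ F : CochainComplex X.Modules ℤ, Nonempty (DCoh.toD X F ≅ (DCoh.Lpull i).obj E') ∧
      (∀ m : ℤ, DCoh.IsPseudoCoherentD m (DCoh.toD X F)) ∧ DerSch.LocFiniteTorAmplitude f F) :
    (∀ m : ℤ, DCoh.IsPseudoCoherentD m E') ∧ DerSch.LocFiniteTorAmplitudeD f' E' := by
    obtain ⟨F, ⟨e⟩, hpc, hamp⟩ := hE
    have hi := GrothLib.ThickDesc6.thick_of_isPullback sq (GrothLib.ThickDesc6.thick_of_finiteOrder hj)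
    exact ⟨fun m => GrothLib.ThickDesc6.isPseudoCoherentD_of_lpull i hi E'
        (fun k => GrothLib.OX.isPseudoCoherentD_of_iso (hpc k) e) m,
      GrothLib.ThickDesc6.locFiniteTorAmplitudeD_of_lpull sq (GrothLib.ThickDesc6.thick_of_finiteOrder hj) e hamp⟩

end Groth.Agent.S7232
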