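import Groth.Statements.S7233
import Groth.Agent.Lib.JacAmp6.Main
-- import your own Groth.Agent.* helpers here

set_option autoImplicit false
universe u
open CategoryTheory CategoryTheory.Limits AlgebraicGeometry Opposite TopologicalSpace
attribute [local instance] HasDerivedCategory.standard
open FlatMor

namespace Groth.Agent.S7233

/-- Let R be a ring and I an ideal of R contained in the Jacobson radical of R. Let f : X ⟶ Spec R be
proper, flat and of finite presentation, and let X₀ = X ×_{Spec R} Spec(R/I) with projections i : X₀
⟶ X and f₀ : X₀ ⟶ Spec(R/I). Let E be a pseudo-coherent object of D(O_X) (m-pseudo-coherent for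
every m) and assume the derived pullback Li^* exists. Suppose Li^* E is perfect relative to
Spec(R/I): it is represented by a cochain complex whose class is pseudo-coherent and which, locally
on X₀, has finite tor amplitude stalkwise over the local rings of Spec(R/I). Then E is perfect
relative to Spec R: locally on X, every cochain complex representing E has finite tor amplitude
stalkwise over the local rings of Spec R. -/
theorem result (R : Type u) [CommRing R] (I : Ideal R)
    (hI : I ≤ Ideal.jacobson ⊥) {X : Scheme.{u}} (f : X ⟶ Spec (CommRingCat.of R)) [IsProper f] [Flat f]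
    [LocallyOfFinitePresentation f]
    [DCoh.HasLpull (pullback.fst f (Spec.map (CommRingCat.ofHom (Ideal.Quotient.mk I))))]
    (E : DCoh.D X) (hpc : ∀ m : ℤ, DCoh.IsPseudoCoherentD m E)
    (h₀ : ∃ F₀ : CochainComplex (pullback f (Spec.map (CommRingCat.ofHom (Ideal.Quotient.mk I)))).Modules ℤ,
      Nonempty (DCoh.toD _ F₀ ≅ (DCoh.Lpull (pullback.fst f (Spec.map (CommRingCat.ofHom (Ideal.Quotient.mk I))))).obj E) ∧
        (∀ m : ℤ, DCoh.IsPseudoCoherentD m (DCoh.toD _ F₀)) ∧
        DerSch.LocFiniteTorAmplitude (pullback.snd f (Spec.map (CommRingCat.ofHom (Ideal.Quotient.mk I)))) F₀) :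
    DerSch.LocFiniteTorAmplitudeD f E := by
    obtain ⟨F₀, ⟨e⟩, -, hamp⟩ := h₀
    haveI : IsClosedImmersion (Spec.map (CommRingCat.ofHom (Ideal.Quotient.mk I))) :=
      IsClosedImmersion.spec_of_surjective _ Ideal.Quotient.mk_surjective
    haveI : CompactSpace X := QuasiCompact.compactSpace_of_compactSpace f
    refine GrothLib.JacAmp6.locFiniteTorAmplitudeD_of_closed f f.isClosedMap _ (fun s hs => ?_) hpc e hamp
    have hmax : s.asIdeal.IsMaximal := (PrimeSpectrum.isClosed_singleton_iff_isMaximal s).1 hs
    show s ∈ Set.range (PrimeSpectrum.comap (Ideal.Quotient.mk I))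
    rw [range_comap_of_surjective _ _ Ideal.Quotient.mk_surjective, Ideal.mk_ker]
    exact (PrimeSpectrum.mem_zeroLocus s I).2 (hI.trans (sInf_le ⟨bot_le, hmax⟩))

end Groth.Agent.S7233
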