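import Groth.Statements.S7234
import Groth.Agent.Lib.KSix19.AffineModel
import Groth.Agent.Lib.KSix19.ChartIndep
-- import your own Groth.Agent.* helpers here

set_option autoImplicit false
set_option backward.isDefEq.respectTransparency false
set_option linter.style.haveILetI false
universe u
open CategoryTheory CategoryTheory.Limits AlgebraicGeometry Opposite TopologicalSpace
attribute [local instance] HasDerivedCategory.standard
open FlatMor

namespace Groth.Agent.S7234

/-- (1) ⇔ (3): let f : X ⟶ S be locally of finite type, E an object of D(O_X) all of whose cohomology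
sheaves are quasi-coherent, and m an integer. Then E is m-pseudo-coherent relative to f (chart form)
if and only if for every affine open U of X mapping into an affine open V of S the complex RΓ(U, E),
viewed in D(Γ(X, U)), is m-pseudo-coherent relative to Γ(S, V) in the ring-level sense. Here RΓ(U,
E) is expressed through the equivalence of D(Γ(X, U)) with the quasi-coherent derived category of
the affine scheme U: the condition is asked of every object M of D(Γ(X, U)) whose associated complex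
of modules on Spec Γ(X, U) is isomorphic to E|_U carried along U ≅ Spec Γ(X, U) (the functor M ↦ M~
being assumed left exact, which it is). -/
theorem result {X S : Scheme.{u}} (f : X ⟶ S)
    [LocallyOfFiniteType f] [∀ U : X.affineOpens, PreservesFiniteLimits (tilde.functor (X.presheaf.obj (op (U : X.Opens))))]
    (E : DCoh.D X) (hE : DCoh.IsQCohD E) (m : ℤ) :
    DerSch.IsPseudoCoherentRel f m E ↔
      ∀ (U : X.affineOpens) (V : S.affineOpens) (h : (U : X.Opens) ≤ f ⁻¹ᵁ (V : S.Opens))
        (G : CochainComplex X.Modules ℤ), Nonempty (DCoh.toD X G ≅ E) →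
        ∀ M : Dual.D Γ(X, (U : X.Opens)),
          Nonempty ((DCoh.tildeD (X.presheaf.obj (op (U : X.Opens)))).obj M ≅
            DCoh.toD _ ((DerSch.pushCx U.2.isoSpec.hom).obj ((DCoh.restrictCx (U : X.Opens)).obj G))) →
          letI := (f.appLE (V : S.Opens) (U : X.Opens) h).hom.toAlgebra
          DerCA.IsRelPseudoCoherent Γ(S, (V : S.Opens)) Γ(X, (U : X.Opens)) m M := by
  rename_i _ inst
  have hq : DCoh.IsQCohD E := hE
  have key : ∀ (U : X.affineOpens) (V : S.affineOpens) (h : (U : X.Opens) ≤ f ⁻¹ᵁ (V : S.Opens)) {n : ℕ}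
      (φ : MvPolynomial (Fin n) Γ(S, (V : S.Opens)) →+* Γ(X, (U : X.Opens))), Function.Surjective φ →
      ∀ (G : CochainComplex X.Modules ℤ), Nonempty (DCoh.toD X G ≅ E) →
      ∀ M : Dual.D Γ(X, (U : X.Opens)),
        Nonempty ((DCoh.tildeD (X.presheaf.obj (op (U : X.Opens)))).obj M ≅
          DCoh.toD _ ((DerSch.pushCx U.2.isoSpec.hom).obj ((DCoh.restrictCx (U : X.Opens)).obj G))) →
        (GrothLib.KSix19.PCOn m E U φ ↔
          DRing.IsPseudoCoherent (MvPolynomial (Fin n) Γ(S, (V : S.Opens))) m ((DRing.restrictD φ).obj M)) := by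
    intro U V h n φ hφ G hG M hM
    obtain ⟨e⟩ := hG
    obtain ⟨eM⟩ := hM
    let C := DerivedCategory.Q.objPreimage M
    let eC : DRing.toD C ≅ M := DerivedCategory.Q.objObjPreimageIso M
    let b : (DerSch.pushCx U.2.isoSpec.hom).obj ((GrothLib.OX.resCx (U : X.Opens).ι).obj G) ≅
        (GrothLib.OX.resCx U.2.fromSpec).obj G :=
      (NatIso.mapHomologicalComplex
        (Functor.isoWhiskerLeft (Scheme.Modules.restrictFunctor (U : X.Opens).ι)
            (GrothLib.KSix19.restrictIsoPush U.2.isoSpec.symm).symm ≪≫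
          (Scheme.Modules.restrictFunctorComp U.2.isoSpec.inv (U : X.Opens).ι).symm) (ComplexShape.up ℤ)).app G
    have hC : GrothLib.KSix19.IsModel (B := Γ(X, (U : X.Opens))) U.2.fromSpec C E :=
      ⟨((GrothLib.OX.resD U.2.fromSpec).mapIso e).symm ≪≫ (GrothLib.OX.resDFac U.2.fromSpec).app G ≪≫
        DerivedCategory.Q.mapIso b.symm ≪≫ eM.symm ≪≫ (DCoh.tildeD _).mapIso eC.symm ≪≫
        (tilde.functor _).mapDerivedCategoryFactors.app C⟩
    rw [GrothLib.KSix19.pcOn_iff_model U.2 hφ hC]
    exact GrothLib.RelPC.pc_congr (((ModuleCat.restrictScalars φ).mapDerivedCategoryFactors.app C).symm ≪≫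
      (DRing.restrictD φ).mapIso eC) m
  constructor
  · intro hE U V h G hG M hM
    obtain ⟨n, φ, hφ⟩ := GrothLib.KSix19.exists_isChart f U.2 V.2 h
    letI := (f.appLE (V : S.Opens) (U : X.Opens) h).hom.toAlgebra
    let α : MvPolynomial (Fin n) Γ(S, (V : S.Opens)) →ₐ[Γ(S, (V : S.Opens))] Γ(X, (U : X.Opens)) :=
      { toRingHom := φ
        commutes' := fun a => DFunLike.congr_fun hφ.2 a }
    exact ⟨n, α, hφ.1, (key U V h φ hφ.1 G hG M hM).1
      (GrothLib.KSix19.pcOn_of_isPseudoCoherentRel hE U.2 V.2 hφ)⟩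
  · intro hE'
    refine GrothLib.KSix19.isPseudoCoherentRel_of_local fun x => ?_
    obtain ⟨W, V, hW, hV, hxW, -, hle⟩ := GrothLib.KSix19.exists_affine_pair f (O := ⊤) (x := x) trivial
    obtain ⟨G, ⟨e⟩⟩ := GrothLib.KSix19.exists_rep E
    haveI : PreservesFiniteLimits (tilde.functor (X.presheaf.obj (op W))) := inst ⟨W, hW⟩
    obtain ⟨M, ⟨eM⟩⟩ := GrothLib.OX.exists_tildeD_rep hq (R := X.presheaf.obj (op W)) hW.fromSpec
    let b : (DerSch.pushCx hW.isoSpec.hom).obj ((GrothLib.OX.resCx W.ι).obj G) ≅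
        (GrothLib.OX.resCx hW.fromSpec).obj G :=
      (NatIso.mapHomologicalComplex
        (Functor.isoWhiskerLeft (Scheme.Modules.restrictFunctor W.ι)
            (GrothLib.KSix19.restrictIsoPush hW.isoSpec.symm).symm ≪≫
          (Scheme.Modules.restrictFunctorComp hW.isoSpec.inv W.ι).symm) (ComplexShape.up ℤ)).app G
    have hM : Nonempty ((DCoh.tildeD (X.presheaf.obj (op W))).obj M ≅
        DCoh.toD _ ((DerSch.pushCx hW.isoSpec.hom).obj ((DCoh.restrictCx W).obj G))) :=
      ⟨eM ≪≫ ((GrothLib.OX.resD hW.fromSpec).mapIso e).symm ≪≫ (GrothLib.OX.resDFac hW.fromSpec).app G ≪≫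
        DerivedCategory.Q.mapIso b.symm⟩
    letI := (f.appLE V W hle).hom.toAlgebra
    obtain ⟨n, α, hα, hpc⟩ := hE' ⟨W, hW⟩ ⟨V, hV⟩ hle G ⟨e⟩ M hM
    exact ⟨W, V, hle, n, α.toRingHom, hxW, hW, hV, ⟨hα, RingHom.ext fun a => α.commutes a⟩,
      (key ⟨W, hW⟩ ⟨V, hV⟩ hle α.toRingHom hα G ⟨e⟩ M hM).2 hpc⟩

end Groth.Agent.S7234
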