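import Groth.Statements.S7236
import Groth.Agent.Lib.NLBC6.Quasi
import Groth.Agent.Lib.Hensel.Henselization
-- import your own Groth.Agent.* helpers here

set_option autoImplicit false
universe u
open CategoryTheory CategoryTheory.Limits TensorProduct
attribute [local instance] HasDerivedCategory.standard
open FlatMor

namespace Groth.Agent.S7236

/-- Suppose A and B are local rings and A → B is a local ring map; take a strict henselization A^{sh} of
A and a strict henselization B^{sh} of B, and give B^{sh} an A^{sh}-algebra structure compatible
with A → B → B^{sh}. Then the canonical chain map NL_{B/A} ⊗_B B^{sh} → NL_{B^{sh}/A^{sh}}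
(presentations on all elements) is a quasi-isomorphism. (The published statement is about the map
A^{sh} → B^{sh} induced by a choice of compatible maps of residue fields; the conclusion holds for
every ring map A^{sh} → B^{sh} compatible with A → B, which is what is asserted here.) -/
theorem result (A B Ash Bsh : Type u) [CommRing A] [CommRing B]
    [CommRing Ash] [CommRing Bsh] [IsLocalRing A] [IsLocalRing B] [IsLocalRing Ash] [IsLocalRing Bsh]
    [Algebra A B] [IsLocalHom (algebraMap A B)]
    [Algebra A Ash] [IsLocalHom (algebraMap A Ash)] [Hensel.IsStrictHenselization A Ash]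
    [Algebra B Bsh] [IsLocalHom (algebraMap B Bsh)] [Hensel.IsStrictHenselization B Bsh]
    [Algebra Ash Bsh] [Algebra A Bsh] [IsScalarTower A Ash Bsh] [IsScalarTower A B Bsh] :
    QuasiIso (NLCx.bcMapSelf A B Ash Bsh) := by
    exact GrothLib.NLBC6.quasiIso_bcMapSelf_of_indEtale A B Ash Bsh GrothLib.Hensel.IsStrictHenselization.formallyEtale
      GrothLib.Hensel.IsStrictHenselization.isIndEtale GrothLib.Hensel.IsStrictHenselization.formallyEtale

end Groth.Agent.S7236
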