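import Groth.Statements.S7237
import Groth.Agent.Lib.Misc6.SymKaehler
-- import your own Groth.Agent.* helpers here

set_option autoImplicit false
universe u
open TensorProduct
open FlatMor

namespace Groth.Agent.S7237

/-- Let A be a ring and M a finitely generated A-module, and let C = Sym_A(M) be the symmetric algebra
of M with its canonical A-linear map ι : M → C. Then Ω_{C/A} = M ⊗_A C: the C-linear map C ⊗_A M →
Ω_{C/A} obtained by extending scalars in the A-linear map m ↦ d(ι m), d being the universal
A-derivation of C, is bijective. (The published lemma also computes the whole naive cotangent
complex of the presentation of C attached to a surjection A^m → M with kernel K, namely as K ⊗_A C →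
⊕_j C dy_j; only its consequence for Ω is asserted here.) -/
theorem result (A : Type u) [CommRing A] (M : Type u)
    [AddCommGroup M] [Module A M] [Module.Finite A M] :
    Function.Bijective (LinearMap.liftBaseChange (SymmetricAlgebra A M)
      ((KaehlerDifferential.D A (SymmetricAlgebra A M)).toLinearMap.restrictScalars A ∘ₗ SymmetricAlgebra.ι A M)) := by
  exact GrothLib.Misc6.bijective_symToKaehler A M

end Groth.Agent.S7237
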