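import Groth.Statements.S7241
import Groth.Agent.Lib.ResProp22.Relative

set_option autoImplicit false
universe u
open CategoryTheory CategoryTheory.Limits AlgebraicGeometry
attribute [local instance] HasDerivedCategory.standard
open Perf

namespace Groth.Agent.S7241

/-- Let f : X ⟶ Y be a morphism of schemes whose target Y is quasi-compact, quasi-separated, and
satisfies the resolution property (every quasi-coherent O_Y-module of finite type is a quotient of a
finite locally free O_Y-module), and suppose there is an f-ample invertible O_X-module L (f
quasi-compact and L ample on the preimage of every affine open of Y). Then X has the resolution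
property. -/
theorem result {X Y : Scheme.{u}} (f : X ⟶ Y) [CompactSpace ↥Y] [QuasiSeparatedSpace ↥Y]
    (hY : PerfAux.HasResolutionProperty Y) (L : X.Modules) (hL : RelAmple.IsRelAmple f L) :
    PerfAux.HasResolutionProperty X := by
  exact GrothLib.ResProp22.hasResolutionProperty_of_isRelAmple hY f hL

end Groth.Agent.S7241
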