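import Groth.Statements.S7243
import Groth.Agent.Lib.RelAmp22.Affine
import Groth.Agent.Lib.RelAmp22.Triangle

set_option autoImplicit false
universe u
open CategoryTheory CategoryTheory.Limits AlgebraicGeometry
attribute [local instance] HasDerivedCategory.standard
open Perf

namespace Groth.Agent.S7243

/-- Let A be a ring, M an object of D(A) and E = M~ the associated object of D(O_X), X = Spec A (tilde
being recorded as exact). The tor amplitude of E lies in [a, b] precisely when the tor amplitude of
M lies in that same interval; both are stated here in the flat-representative form (isomorphic to a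
complex of flat modules vanishing outside [a, b]), which on either side is equivalent to the
derived-tensor form. The finite tor dimension variant follows at once. -/
theorem result (A : Type u) [CommRing A] [PreservesFiniteLimits (tilde.functor (CommRingCat.of A))]
    (M : Dual.D A) (a b : ℤ) :
    DCoh.HasFlatAmplitudeIn a b ((DCoh.tildeD (CommRingCat.of A)).obj M) ↔ DRing.HasTorAmplitudeIn A a b M := by
  let K := DerivedCategory.Q.objPreimage M
  let eK : DRing.toD K ≅ M := DerivedCategory.Q.objObjPreimageIso M
  constructor
  · rintro ⟨E, hE, hfl, ⟨e⟩⟩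
    have hf : Flat (GrothLib.RelAmp22.specMap (RingHom.id A)) := by
      exact (HasRingHomProperty.Spec_iff (P := @Flat)).2 (RingHom.Flat.id A)
    have h := GrothLib.RelAmp22.amp_of_ampAt_tilde (RingHom.id A) M fun x =>
      GrothLib.RelAmp22.ampAt_of_relFlat _ ⟨E, hE, fun i => GrothLib.RelAmp22.flatOver_of_flat _ (hfl i), ⟨e⟩⟩ x
    exact GrothLib.KSix19.amp_of_iso ((DRing.restrictD (RingHom.id A)).mapIso eK.symm ≪≫
      (ModuleCat.restrictScalars (RingHom.id A)).mapDerivedCategoryFactors.app K ≪≫
      DerivedCategory.Q.mapIso ((NatIso.mapHomologicalComplex (ModuleCat.restrictScalarsId A) (ComplexShape.up ℤ)).app K ≪≫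
        (Functor.mapHomologicalComplexIdIso (ModuleCat.{u} A) (ComplexShape.up ℤ)).app K) ≪≫ eK) h
  · rintro ⟨E, hE, hfl, ⟨e⟩⟩
    refine ⟨((tilde.functor (CommRingCat.of A)).mapHomologicalComplex (ComplexShape.up ℤ)).obj E,
      fun i hi => (tilde.functor (CommRingCat.of A)).map_isZero (hE i hi), fun i => (GrothLib.OX.flat_iff _).2 fun x => ?_,
      ⟨((tilde.functor (CommRingCat.of A)).mapDerivedCategoryFactors.app E).symm ≪≫
        (DCoh.tildeD (CommRingCat.of A)).mapIso e⟩⟩
    exact GrothLib.OX.flat_of_modIso ((GrothLib.OX.tildeStalkIso (CommRingCat.of A) x).app (E.X i)).symm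
      (GrothLib.OX.flat_extendScalars _ _ (hfl i))

end Groth.Agent.S7243
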