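import Groth.Statements.S7244
import Groth.Agent.Lib.RelAmp22.Affine
import Groth.Agent.Lib.OX.LTensorCx
import Groth.Agent.Lib.KSix19.StalkAmp
import Groth.Agent.S6950
import Groth.Agent.Lib.OX.PerfectLemmas

set_option autoImplicit false
universe u
open CategoryTheory CategoryTheory.Limits AlgebraicGeometry
attribute [local instance] HasDerivedCategory.standard
open Perf

namespace Groth.Agent.S7244

/-- Let f : X ⟶ Y be a flat and surjective morphism of schemes, E ∈ D(O_Y) and a, b ∈ ℤ. Assuming the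
derived pullback Lf^* exists, if Lf^*E has tor amplitude in [a, b] then so does E; tor amplitude is
stated in the flat-representative form (isomorphic to a complex of flat modules vanishing outside
[a, b]), equivalent to the derived-tensor form. (The converse, that derived pullback preserves tor
amplitude, holds for any f.) -/
theorem result {X Y : Scheme.{u}} (f : X ⟶ Y) [Flat f] [Surjective f]
    [DCoh.HasLpull f] (E : DCoh.D Y) (a b : ℤ) (h : DCoh.HasFlatAmplitudeIn a b ((DCoh.Lpull f).obj E)) :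
    DCoh.HasFlatAmplitudeIn a b E := by
  obtain ⟨P, hP, ⟨e⟩⟩ := GrothLib.OX.exists_kflat_rep E
  obtain ⟨v⟩ := GrothLib.OX.lpull_value f P hP
  obtain ⟨E', hv, hf, ⟨e'⟩⟩ := h
  have hst : DerSch.HasTorAmplitude (𝟙 Y) a b P := fun y => by
    obtain ⟨x, rfl⟩ := f.surjective y
    have hx := GrothLib.KSix19.stalks_of_flatAmplitude
      (F := ((Scheme.Modules.pullback f).mapHomologicalComplex (ComplexShape.up ℤ)).obj P)
      ⟨E', hv, hf, ⟨e' ≪≫ (DCoh.Lpull f).mapIso e.symm ≪≫ v⟩⟩ x
    have hx' := (GrothLib.KSix19.hasTorAmplitudeAt_id_iff x a b _).1 hx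
    let c : (GrothLib.KSix19.stalkCx x).obj (((Scheme.Modules.pullback f).mapHomologicalComplex (ComplexShape.up ℤ)).obj P) ≅
        (GrothLib.DR.bc (f.stalkMap x).hom).obj ((GrothLib.KSix19.stalkCx (f x)).obj P) :=
      HomologicalComplex.Hom.isoOfComponents (fun i => (GrothLib.OX.pullStalkIso f x).app (P.X i))
        (fun i j _ => ((GrothLib.OX.pullStalkIso f x).hom.naturality (P.d i j)).symm)
    letI := (f.stalkMap x).hom.toAlgebra
    haveI : Module.Flat (Y.presheaf.stalk (f x)) (X.presheaf.stalk x) := Flat.stalkMap f x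
    haveI : IsLocalHom (algebraMap (Y.presheaf.stalk (f x)) (X.presheaf.stalk x)) :=
      inferInstanceAs (IsLocalHom (f.stalkMap x).hom)
    haveI : Module.FaithfullyFlat (Y.presheaf.stalk (f x)) (X.presheaf.stalk x) :=
      Module.FaithfullyFlat.of_flat_of_isLocalHom
    have h6 := Groth.Agent.S6950.result (R := Y.presheaf.stalk (f x)) (R' := X.presheaf.stalk x)
      ((GrothLib.KSix19.stalkCx (f x)).obj P) a b (GrothLib.KSix19.amp_of_iso (DerivedCategory.Q.mapIso c) hx')
    exact (GrothLib.KSix19.hasTorAmplitudeAt_id_iff (f x) a b P).2 h6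
  haveI : (DerivedCategory.Q.objPreimage (DerivedCategory.Q.obj P)).IsLE b := GrothLib.RelAmp22.isLE_of_amp (𝟙 Y) ((GrothLib.RelAmp22.hasTorAmplitude_iff (𝟙 Y) a b P).1 hst)
  haveI : (DCoh.toD Y P).IsLE b := DerivedCategory.TStructure.t.isLE_of_iso
    (DerivedCategory.Q.objObjPreimageIso (DerivedCategory.Q.obj P)) b
  obtain ⟨G, h1, h2, ⟨eG⟩⟩ := (GrothLib.KSix19.flatAmplitude_iff_stalks (F := P) b a b).2 hst
  exact ⟨G, h1, h2, ⟨eG ≪≫ e⟩⟩

end Groth.Agent.S7244
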