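import Groth.Statements.S7248
import Groth.Agent.Lib.RelAmp22.Triangle

set_option autoImplicit false
universe u
open CategoryTheory CategoryTheory.Limits AlgebraicGeometry
attribute [local instance] HasDerivedCategory.standard
open Perf

namespace Groth.Agent.S7248

/-- Let f : X ⟶ S be flat and locally of finite presentation. Then a perfect object E of D(O_X) is
S-perfect, that is, E is pseudo-coherent (m-pseudo-coherent for every m) and, locally on X, the tor
dimension of E over the sheaf of rings f⁻¹O_S is finite (locally represented by a bounded complex of
O_X-modules flat over S). -/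
theorem result {X S : Scheme.{u}} (f : X ⟶ S) [Flat f] [LocallyOfFinitePresentation f]
    (E : DCoh.D X) (hE : DCoh.IsPerfect E) :
    (∀ m : ℤ, DCoh.IsPseudoCoherentD m E) ∧ DCoh.LocHasFiniteRelTorDim f E := by
  exact GrothLib.RelAmp22.relPerf_of_isPerfect f hE

end Groth.Agent.S7248
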