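import Groth.Statements.S7249
import Groth.Agent.Lib.RelPerfTensor20.Basic

set_option autoImplicit false
set_option maxHeartbeats 1000000
set_option linter.style.haveILetI false
set_option backward.isDefEq.respectTransparency false
universe u
open CategoryTheory CategoryTheory.Limits AlgebraicGeometry
attribute [local instance] HasDerivedCategory.standard
open Perf

namespace Groth.Agent.S7249

/-- Let f : X ⟶ S be flat and locally of finite presentation, K a perfect object of D(O_X), and M a
cochain complex of O_X-modules whose image in D(O_X) is S-perfect (pseudo-coherent, and locally on X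
represented by a bounded complex of O_X-modules flat over S). Assuming the derived functor - ⊗^L M
exists, K ⊗^L_{O_X} M is S-perfect. -/
theorem result {X S : Scheme.{u}} (f : X ⟶ S) [Flat f] [LocallyOfFinitePresentation f]
    (K : DCoh.D X) (hK : DCoh.IsPerfect K) (M : CochainComplex X.Modules ℤ)
    (hMpc : ∀ m : ℤ, DCoh.IsPseudoCoherentD m (DCoh.toD X M)) (hMtor : DCoh.LocHasFiniteRelTorDim f (DCoh.toD X M))
    [DCoh.HasLTensorCx M] :
    (∀ m : ℤ, DCoh.IsPseudoCoherentD m ((DCoh.LTensorCx M).obj K)) ∧
      DCoh.LocHasFiniteRelTorDim f ((DCoh.LTensorCx M).obj K) := by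
  exact GrothLib.RelPerfTensor20.relPerf_ltensor f M ⟨hMpc, hMtor⟩ hK

end Groth.Agent.S7249
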