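import Groth.Statements.S7251
import Groth.Agent.S1054
-- import your own Groth.Agent.* helpers here

set_option autoImplicit false
universe u
open CategoryTheory CategoryTheory.Limits AlgebraicGeometry
attribute [local instance] HasDerivedCategory.standard
open Perf

namespace Groth.Agent.S7251

/-- Let f : X ⟶ Y be a quasi-compact and quasi-separated morphism of schemes. Assume Rf_* exists and
sends D_QCoh(O_X) into D_QCoh(O_Y), let an adjunction Lf^* ⊣ Rf_* be given as data, and assume the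
inclusion functors D_QCoh ⥤ D have (chosen) right adjoints DQ_X and DQ_Y. Then Rf_* ∘ DQ_X = DQ_Y ∘
Rf_*: for every K ∈ D(O_X) the comparison map Rf_*(DQ_X K) ⟶ DQ_Y(Rf_* K) in D_QCoh(O_Y),
corresponding under the adjunction to Rf_* applied to the counit DQ_X K ⟶ K, is an isomorphism. -/
theorem result {X Y : Scheme.{u}} (f : X ⟶ Y) [QuasiCompact f] [QuasiSeparated f]
    [DCoh.HasRpush f] (h : DCoh.RpushPreservesQCoh f) [DCoh.HasLpull f] (adj : DCoh.Lpull f ⊣ DCoh.Rpush f)
    [(ObjectProperty.ι (DCoh.IsQCohD (X := X))).IsLeftAdjoint] [(ObjectProperty.ι (DCoh.IsQCohD (X := Y))).IsLeftAdjoint]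
    (K : DCoh.D X) :
    IsIso ((Adjunction.ofIsLeftAdjoint (ObjectProperty.ι (DCoh.IsQCohD (X := Y)))).homEquiv
      (⟨(DCoh.Rpush f).obj (((ObjectProperty.ι (DCoh.IsQCohD (X := X))).rightAdjoint.obj K).obj),
        h _ (((ObjectProperty.ι (DCoh.IsQCohD (X := X))).rightAdjoint.obj K).property)⟩ : DCoh.DQCoh Y)
      ((DCoh.Rpush f).obj K)
      ((DCoh.Rpush f).map ((Adjunction.ofIsLeftAdjoint (ObjectProperty.ι (DCoh.IsQCohD (X := X)))).counit.app K))) := by
  let iX := ObjectProperty.ι (DCoh.IsQCohD (X := X))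
  let iY := ObjectProperty.ι (DCoh.IsQCohD (X := Y))
  let aX := Adjunction.ofIsLeftAdjoint iX
  let aY := Adjunction.ofIsLeftAdjoint iY
  let A : DCoh.DQCoh Y := ⟨(DCoh.Rpush f).obj ((iX.rightAdjoint.obj K).obj),
    h _ (iX.rightAdjoint.obj K).property⟩
  let c := aY.homEquiv A ((DCoh.Rpush f).obj K) ((DCoh.Rpush f).map (aX.counit.app K))
  show IsIso c
  have key : ∀ M : DCoh.DQCoh Y, Function.Bijective (fun φ : M ⟶ A => φ ≫ c) := fun M => by
    let LM : DCoh.DQCoh X := ⟨(DCoh.Lpull f).obj M.obj, Groth.Agent.S1054.result f M.obj M.property⟩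
    let E : (M ⟶ A) ≃ (M ⟶ iY.rightAdjoint.obj ((DCoh.Rpush f).obj K)) :=
      ((DCoh.IsQCohD (X := Y)).fullyFaithfulι.homEquiv).trans <|
        ((adj.homEquiv M.obj (iX.rightAdjoint.obj K).obj).symm).trans <|
        (((DCoh.IsQCohD (X := X)).fullyFaithfulι.homEquiv (X := LM) (Y := iX.rightAdjoint.obj K)).symm).trans <|
        ((aX.homEquiv LM K).symm).trans <| (adj.homEquiv M.obj K).trans (aY.homEquiv M ((DCoh.Rpush f).obj K))
    refine (funext fun φ => ?_ : (fun φ : M ⟶ A => φ ≫ c) = E) ▸ E.bijective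
    show φ ≫ aY.homEquiv A _ _ = _
    rw [← Adjunction.homEquiv_naturality_left]
    show _ = aY.homEquiv M _ (adj.homEquiv M.obj K ((aX.homEquiv LM K).symm
      ((DCoh.IsQCohD (X := X)).fullyFaithfulι.preimage ((adj.homEquiv M.obj _).symm (iY.map φ)))))
    congr 1
    rw [Adjunction.homEquiv_counit (adj := aX), Functor.FullyFaithful.map_preimage]
    exact (((adj.homEquiv_naturality_right _ _).trans (congrArg (· ≫ _) (Equiv.apply_symm_apply _ _)))).symm
  obtain ⟨s, hs⟩ := (key _).2 (𝟙 _)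
  refine ⟨s, (key A).1 ?_, hs⟩
  show (c ≫ s) ≫ c = 𝟙 A ≫ c
  rw [Category.assoc]
  exact ((congrArg (c ≫ ·) hs).trans (Category.comp_id _)).trans (Category.id_comp _).symm

end Groth.Agent.S7251
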