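import Groth.Statements.S7253
import Groth.Agent.Lib.KReg3.Main
-- import your own Groth.Agent.* helpers here

set_option autoImplicit false
set_option linter.style.haveILetI false
set_option backward.isDefEq.respectTransparency false
universe u
open CategoryTheory CategoryTheory.Limits AlgebraicGeometry
attribute [local instance] HasDerivedCategory.standard
open Perf

namespace Groth.Agent.S7253

/-- Let X be a scheme, U ⊆ X an open subscheme and Z = X ∖ U. Assume that, locally on X, Z is the
vanishing set of a Koszul-regular sequence having c elements: every point of X has an affine open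
neighbourhood V and a sequence f₁, …, f_c in O_X(V), Koszul-regular in the ring O_X(V), whose common
zero locus meets V exactly in Z ∩ V. Then the local cohomology sheaves ℋ^i_Z(F) (right derived
functors, computed with injective resolutions, of F ↦ ker(F → j_*(F|_U))) vanish for every i ≠ c and
every flat quasi-coherent O_X-module F. -/
theorem result {X : Scheme.{u}} (U : X.Opens) [HasInjectiveResolutions X.Modules]
    (c : ℕ) (hZ : ∀ x : X, ∃ (V : X.Opens) (fs : List Γ(X, V)), x ∈ V ∧ IsAffineOpen V ∧ fs.length = c ∧
      LCI.IsKoszulRegularSeq Γ(X, V) fs ∧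
      X.zeroLocus (U := V) {a | a ∈ fs} ∩ (V : Set ↥X) = (U : Set ↥X)ᶜ ∩ (V : Set ↥X))
    (F : X.Modules) (hF : Coh.IsQCoh F) (hFl : FlatMod.IsFlat F) (i : ℕ) (hi : i ≠ c) :
    IsZero (((DCoh.gammaZ U.ι).rightDerived i).obj F) := by
  haveI : F.IsQuasicoherent := hF
  classical
  rcases lt_or_gt_of_ne hi with h | h
  · exact GrothLib.KReg3.isZero_rightDerived_gammaZ_of_lt U c hZ F hFl i h
  · refine GrothLib.LocVanish20.isZero_rightDerived_gammaZ U c (fun x => ?_) F i h
    obtain ⟨V, fs, hx, -, hlen, -, hfs⟩ := hZ x
    refine ⟨V, fs.toFinset, hx, hlen ▸ fs.toFinset_card_le, ?_⟩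
    rw [List.coe_toFinset]
    exact hfs

end Groth.Agent.S7253
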