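import Groth.Statements.S7254
import Groth.Agent.Lib.RDerBound20.Main

set_option autoImplicit false
set_option maxHeartbeats 1000000
set_option linter.style.haveILetI false
set_option backward.isDefEq.respectTransparency false
universe u
open CategoryTheory CategoryTheory.Limits AlgebraicGeometry
attribute [local instance] HasDerivedCategory.standard
open Perf

namespace Groth.Agent.S7254

/-- Let X be a scheme, F an additive functor from O_X-modules to abelian groups and N ≥ 0 an integer
such that F commutes with countable direct products and RᵖF(G) = 0 (right derived functors computed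
with injective resolutions) for every p ≥ N and every quasi-coherent O_X-module G. Assume the total
right derived functor RF : D(O_X) ⥤ D(Ab) exists. If E ∈ D(O_X) has quasi-coherent cohomology
sheaves and Hⁱ(E) = 0 for i ∉ [a, b], then Hⁱ(RF(E)) = 0 for i ∉ [a, b + N - 1]. -/
theorem result {X : Scheme.{u}} (F : X.Modules ⥤ AddCommGrpCat.{u}) [F.Additive]
    [PreservesLimitsOfShape (Discrete ℕ) F] [HasInjectiveResolutions X.Modules] (N : ℕ)
    (hF : ∀ G : X.Modules, Coh.IsQCoh G → ∀ p : ℕ, N ≤ p → IsZero ((F.rightDerived p).obj G))
    [(F.mapHomotopyCategory (ComplexShape.up ℤ) ⋙ DerivedCategory.Qh).HasRightDerivedFunctor (HomotopyCategory.quasiIso X.Modules (ComplexShape.up ℤ))]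
    (E : DCoh.D X) (hE : DCoh.IsQCohD E) (a b : ℤ) (hab : ∀ i : ℤ, i < a ∨ b < i → IsZero (DCoh.HD E i))
    (i : ℤ) (hi : i < a ∨ b + N - 1 < i) :
    IsZero ((DerivedCategory.homologyFunctor AddCommGrpCat.{u} i).obj
      (((F.mapHomotopyCategory (ComplexShape.up ℤ) ⋙ DerivedCategory.Qh).totalRightDerived DerivedCategory.Qh
        (HomotopyCategory.quasiIso X.Modules (ComplexShape.up ℤ))).obj E)) := by
  exact GrothLib.RDerBound20.isZero_homology_totalRightDerived F N hF E hE a b hab i hi

end Groth.Agent.S7254
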