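import Groth.Statements.S7255
import Groth.Agent.Lib.DQBound20.Main

set_option autoImplicit false
set_option maxHeartbeats 1000000
set_option linter.style.haveILetI false
set_option backward.isDefEq.respectTransparency false
universe u
open CategoryTheory CategoryTheory.Limits AlgebraicGeometry
attribute [local instance] HasDerivedCategory.standard
open Perf GrothLib

namespace Groth.Agent.S7255

/-- Let X be a quasi-compact and quasi-separated scheme and let DQ_X be the (chosen) right adjoint of
the inclusion D_QCoh(O_X) ⥤ D(O_X). Assuming the derived global sections functors RΓ(U, -) exist on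
D(O_U) for the opens U of X, there is an integer N = N(X) ≥ 0 with the following property: if K ∈
D(O_X) satisfies Hⁱ(U, K|_U) = 0 for every affine open U ⊆ X and every i ∉ [a, b], then the
cohomology sheaves Hⁱ(DQ_X(K)) are zero for i ∉ [a, b + N]. -/
theorem result (X : Scheme.{u}) [CompactSpace ↥X] [QuasiSeparatedSpace ↥X]
    [(ObjectProperty.ι (DCoh.IsQCohD (X := X))).IsLeftAdjoint] [∀ U : X.Opens, DCoh.HasRΓ (U : Scheme.{u})] :
    ∃ N : ℕ, ∀ (K : DCoh.D X) (a b : ℤ),
      (∀ U : X.Opens, IsAffineOpen U → ∀ i : ℤ, (i < a ∨ b < i) →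
        IsZero ((DerivedCategory.homologyFunctor AddCommGrpCat.{u} i).obj
          ((DCoh.RΓ (U : Scheme.{u})).obj ((DCoh.restrictD U.ι).obj K)))) →
      ∀ i : ℤ, (i < a ∨ b + (N : ℤ) < i) →
        IsZero (DCoh.HD (((ObjectProperty.ι (DCoh.IsQCohD (X := X))).rightAdjoint.obj K).obj) i) := by
  obtain ⟨N, hN⟩ := GrothLib.DQBound20.exists_bound X
  refine ⟨N, fun K a b h i hi => hN K a b (fun k hk U hU => ?_) i hi⟩
  let K0 := ((KInj.res X.Modules).obj K).as
  let L := ((DCoh.gammaAb (U : Scheme.{u})).mapHomologicalComplex (ComplexShape.up ℤ)).obj ((DCoh.restrictCx U).obj K0)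
  let e : (DCoh.RΓ (U : Scheme.{u})).obj ((DCoh.restrictD U.ι).obj K) ≅ DerivedCategory.Q.obj L :=
    (KInj.totalRightDerivedIso (DCoh.gammaKh (U : Scheme.{u}))).app _ ≪≫
      (DCoh.gammaKh (U : Scheme.{u})).mapIso ((GrothLib.OX.resRestrictIso U.ι).app K).symm ≪≫
      (DerivedCategory.quotientCompQhIso _).app L
  have h2 : L.ExactAt k := (HomologicalComplex.exactAt_iff_isZero_homology _ _).2
    ((h U hU k hk).of_iso (((DerivedCategory.homologyFunctor _ k).mapIso e ≪≫
      (DerivedCategory.homologyFunctorFactors _ k).app L)).symm)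
  rw [HomologicalComplex.exactAt_iff' _ (k - 1) k (k + 1) (by simp) (by simp),
    ShortComplex.ab_exact_iff] at h2
  intro x hx
  revert x
  rw [← U.ι_image_top]
  exact fun x hx => h2 x hx

end Groth.Agent.S7255
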