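import Groth.Statements.S7261
import Groth.Agent.Lib.OX.Approx

set_option autoImplicit false
universe u
open CategoryTheory CategoryTheory.Limits AlgebraicGeometry
attribute [local instance] HasDerivedCategory.standard
open Perf

namespace Groth.Agent.S7261

/-- Let X be an affine scheme, T = V(f_1, …, f_r) the common zero locus of r global functions, m ∈ ℤ,
and E an m-pseudo-coherent object of D(O_X) with quasi-coherent cohomology sheaves such that Hⁱ(E)
is supported on T for i ≥ m - r + 1. Then approximation holds for (T, E, m): there are a perfect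
object P of D(O_X) supported on T and a morphism α : P ⟶ E inducing isomorphisms Hⁱ(P) ⟶ Hⁱ(E) for i
> m and an epimorphism Hᵐ(P) ⟶ Hᵐ(E). (The published hypothesis asks that X ∖ T be a union of r
affine opens; the published proof begins by writing T as the zero locus of r functions, and this row
takes that as the hypothesis.) -/
theorem result (X : Scheme.{u}) [IsAffine X] (fs : Finset Γ(X, ⊤))
    (m : ℤ) (E : DCoh.D X) (hq : DCoh.IsQCohD E) (hpc : DCoh.IsPseudoCoherentD m E)
    (hsupp : ∀ i : ℤ, m - (fs.card : ℤ) + 1 ≤ i → CohB1.support (DCoh.HD E i) ⊆ X.zeroLocus (U := ⊤) (↑fs : Set Γ(X, ⊤))) :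
    ∃ (P : DCoh.D X) (α : P ⟶ E), DCoh.IsPerfect P ∧
      (∀ i : ℤ, CohB1.support (DCoh.HD P i) ⊆ X.zeroLocus (U := ⊤) (↑fs : Set Γ(X, ⊤))) ∧
      (∀ i : ℤ, m < i → IsIso ((DerivedCategory.homologyFunctor X.Modules i).map α)) ∧
      Epi ((DerivedCategory.homologyFunctor X.Modules m).map α) := by
  have hTcl : IsClosed (X.zeroLocus (U := ⊤) (↑fs : Set Γ(X, ⊤))) := by
    rw [AlgebraicGeometry.Scheme.zeroLocus_def]
    exact isClosed_biInter fun f _ => (X.basicOpen f).2.isClosed_compl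
  let W : X.Opens := ⟨_, hTcl.isOpen_compl⟩
  have hW : ∀ {E : DCoh.D X} {i : ℤ}, GrothLib.OX.VanishAt W E i ↔
      CohB1.support (DCoh.HD E i) ⊆ X.zeroLocus (U := ⊤) (↑fs : Set Γ(X, ⊤)) := fun {E i} => by
    rw [GrothLib.OX.vanishAt_iff_support, show ((W : Set X))ᶜ = _ from compl_compl _]
  have hfs : (W.ι ≫ X.isoSpec.hom).opensRange =
      ⨆ k : {f // f ∈ fs.toList}, PrimeSpectrum.basicOpen k.1 := by
    have key : ∀ (f : Γ(X, ⊤)) (x : X), X.isoSpec.hom x ∈ PrimeSpectrum.basicOpen f ↔ x ∈ X.basicOpen f :=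
      fun f x => by
        rw [← AlgebraicGeometry.Scheme.toSpecΓ_preimage_basicOpen X f]
        rfl
    ext p
    simp only [AlgebraicGeometry.Scheme.Hom.coe_opensRange, TopologicalSpace.Opens.coe_iSup, Set.mem_range,
      Set.mem_iUnion, SetLike.mem_coe]
    constructor
    · rintro ⟨⟨x, hx⟩, rfl⟩
      refine TopologicalSpace.Opens.mem_iSup.2 ?_
      change ∃ k : {f // f ∈ fs.toList}, X.isoSpec.hom x ∈ PrimeSpectrum.basicOpen k.1
      simp only [key]
      by_contra hne
      exact hx ((AlgebraicGeometry.Scheme.mem_zeroLocus_iff X _ x).2 fun f hf hxf =>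
        hne ⟨⟨f, Finset.mem_toList.2 hf⟩, hxf⟩)
    · intro hp
      obtain ⟨⟨f, hf⟩, hp⟩ := TopologicalSpace.Opens.mem_iSup.1 hp
      obtain ⟨x, rfl⟩ : ∃ x, X.isoSpec.hom x = p := ⟨X.isoSpec.inv p, by
        rw [← AlgebraicGeometry.Scheme.Hom.comp_apply, Iso.inv_hom_id]; rfl⟩
      refine ⟨⟨x, fun hx => ?_⟩, rfl⟩
      exact (AlgebraicGeometry.Scheme.mem_zeroLocus_iff X _ x).1 hx f (Finset.mem_toList.1 hf) ((key f x).1 hp)
  obtain ⟨P, α, hP, hPW, hiso, hepi⟩ := (GrothLib.OX.approxOn_affine X.isoSpec.hom fs.toList hfs hq hpc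
    fun q hlt => hW.2 (hsupp q (by rw [Finset.length_toList] at hlt; omega))).exists_map
  exact ⟨P, α, hP, fun i => hW.1 (GrothLib.OX.isZero_resD_iff_vanishAt.1 hPW i), hiso, hepi⟩

end Groth.Agent.S7261
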