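import Groth.Statements.S7264
import Groth.Agent.Lib.RelAmp22.Affine
import Groth.Agent.Lib.OX.TildePerfect
import Groth.Agent.Lib.DCxRing.PC

set_option autoImplicit false
universe u
open CategoryTheory CategoryTheory.Limits AlgebraicGeometry
attribute [local instance] HasDerivedCategory.standard
open Perf

namespace Groth.Agent.S7264

/-- (1) ⇔ (2) in the affine case to which the proof reduces: let R → A be flat and of finite
presentation, f : X = Spec A ⟶ S = Spec R, M ∈ D(A) and E = M~ ∈ D(O_X) (tilde recorded as exact),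
so that RΓ(X, E) = M. Then E is S-perfect (pseudo-coherent, and locally on X represented by a
bounded complex of O_X-modules flat over S) if and only if M is R-perfect (pseudo-coherent as a
complex of A-modules and of finite tor dimension as a complex of R-modules). -/
theorem result (R A : Type u) [CommRing R] [CommRing A] [Algebra R A]
    [Module.Flat R A] [Algebra.FinitePresentation R A]
    [PreservesFiniteLimits (tilde.functor (CommRingCat.of A))] (M : Dual.D A) :
    ((∀ m : ℤ, DCoh.IsPseudoCoherentD m ((DCoh.tildeD (CommRingCat.of A)).obj M)) ∧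
      DCoh.LocHasFiniteRelTorDim (Spec.map (CommRingCat.ofHom (algebraMap R A))) ((DCoh.tildeD (CommRingCat.of A)).obj M)) ↔
    Dual2.IsRelPerfect R A M := by
  let φ := algebraMap R A
  have hφ : φ.Flat := RingHom.flat_algebraMap_iff.2 inferInstance
  haveI : Flat (Spec.map (CommRingCat.ofHom (algebraMap R A))) :=
    (HasRingHomProperty.Spec_iff (P := @Flat)).2 hφ
  rw [GrothLib.RelAmp22.locHasFiniteRelTorDim_iff]
  constructor
  · rintro ⟨hpc, htor⟩
    refine ⟨GrothLib.DR.isPseudoCoherent'_of_forall fun m =>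
      (GrothLib.OX.isPseudoCoherentD_tildeD_iff M m).1 (hpc m), ?_⟩
    choose V a b hx hV using htor
    obtain ⟨t, ht⟩ := isCompact_univ.elim_finite_subcover (fun x => ((V x : (Spec (CommRingCat.of A)).Opens) : Set (Spec (CommRingCat.of A))))
      (fun x => (V x).isOpen) fun x _ => Set.mem_iUnion.2 ⟨x, hx x⟩
    obtain ⟨lo, hlo⟩ := (t.image a).bddBelow
    obtain ⟨hi, hhi⟩ := (t.image b).bddAbove
    refine ⟨lo, hi, GrothLib.RelAmp22.amp_of_ampAt_tilde φ M fun x => ?_⟩
    obtain ⟨y, hy, hxy⟩ := Set.mem_iUnion₂.1 (ht (Set.mem_univ x))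
    exact GrothLib.RelAmp22.ampAt_mono _ (hlo (Finset.mem_image_of_mem a hy)) (hhi (Finset.mem_image_of_mem b hy))
      (hV y x hxy)
  · rintro ⟨hpc, a, b, hab⟩
    exact ⟨fun m => (GrothLib.OX.isPseudoCoherentD_tildeD_iff M m).2 (GrothLib.DR.isPseudoCoherent_of_prime hpc m),
      fun x => ⟨⊤, a, b, trivial, fun y _ => GrothLib.RelAmp22.ampAt_tilde_of_amp φ M hab y⟩⟩

end Groth.Agent.S7264
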