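import Groth.Statements.S7265
import Groth.Agent.Lib.OX.Approx

set_option autoImplicit false
universe u
open CategoryTheory CategoryTheory.Limits AlgebraicGeometry
attribute [local instance] HasDerivedCategory.standard
open Perf

namespace Groth.Agent.S7265

/-- Let X be a scheme, U ⊆ X an open subscheme, T ⊆ U a subset closed in X, E ∈ D(O_X) with
quasi-coherent cohomology sheaves and m ∈ ℤ. If approximation holds for (T, E|_U, m) on U (there are
a perfect P ∈ D(O_U) supported on T and P ⟶ E|_U inducing isomorphisms on Hⁱ for i > m and a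
surjection on Hᵐ) and the sheaves Hⁱ(E), i ≥ m, are supported on T, then approximation holds for (T,
E, m) on X. -/
theorem result {X : Scheme.{u}} (U : X.Opens) (T : Set ↥X) (hT : IsClosed T)
    (hTU : T ⊆ (U : Set ↥X)) (E : DCoh.D X) (hE : DCoh.IsQCohD E) (m : ℤ)
    (happ : ∃ (P : DCoh.D (U : Scheme.{u})) (α : P ⟶ (DCoh.restrictD U.ι).obj E), DCoh.IsPerfect P ∧
      (∀ i : ℤ, CohB1.support (DCoh.HD P i) ⊆ {v : ↥(U : Scheme.{u}) | U.ι.base v ∈ T}) ∧
      (∀ i : ℤ, m < i → IsIso ((DerivedCategory.homologyFunctor _ i).map α)) ∧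
      Epi ((DerivedCategory.homologyFunctor _ m).map α))
    (hsupp : ∀ i : ℤ, m ≤ i → CohB1.support (DCoh.HD E i) ⊆ T) :
    ∃ (P : DCoh.D X) (α : P ⟶ E), DCoh.IsPerfect P ∧ (∀ i : ℤ, CohB1.support (DCoh.HD P i) ⊆ T) ∧
      (∀ i : ℤ, m < i → IsIso ((DerivedCategory.homologyFunctor X.Modules i).map α)) ∧
      Epi ((DerivedCategory.homologyFunctor X.Modules m).map α) := by
  let W : X.Opens := ⟨Tᶜ, hT.isOpen_compl⟩
  have hW : ∀ {E : DCoh.D X} {i : ℤ}, GrothLib.OX.VanishAt W E i ↔ CohB1.support (DCoh.HD E i) ⊆ T := fun {E i} => by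
    rw [GrothLib.OX.vanishAt_iff_support, show ((W : Set X))ᶜ = T from compl_compl T]
  obtain ⟨P₀, α₀, hP₀, hsP, hiso₀, hepi₀⟩ := happ
  have hU : GrothLib.OX.ApproxOn (U.ι ⁻¹ᵁ W) m ((GrothLib.OX.resD U.ι).obj E) :=
    GrothLib.OX.approxOn_of_map α₀ hP₀ (GrothLib.OX.isZero_resD_iff_vanishAt.2 fun i =>
      GrothLib.OX.vanishAt_iff_support.2 fun x hx hxW => hxW (hsP i hx)) hiso₀ hepi₀
  obtain ⟨P, α, hP, hPW, hiso, hepi⟩ := (GrothLib.OX.approxOn_of_open U.ι (W := W) (fun x => by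
    rw [AlgebraicGeometry.Scheme.Opens.range_ι]
    by_cases hx : x ∈ T
    · exact Or.inl (hTU hx)
    · exact Or.inr hx) hU (fun i hi => hW.2 (hsupp i hi))).exists_map
  exact ⟨P, α, hP, fun i => hW.1 (GrothLib.OX.isZero_resD_iff_vanishAt.1 hPW i), hiso, hepi⟩

end Groth.Agent.S7265
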