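import Groth.Statements.S7266
import Groth.Agent.Lib.OX.Approx

set_option autoImplicit false
universe u
open CategoryTheory CategoryTheory.Limits AlgebraicGeometry
attribute [local instance] HasDerivedCategory.standard
open Perf

namespace Groth.Agent.S7266

/-- Let X be a scheme written as X = U ∪ V with U, V open, where V is affine and both U and the
intersection U ∩ V are quasi-compact. Suppose approximation by perfect complexes is valid on U; it
is then also valid on X. Here 'approximation by perfect complexes holds on Y' means: for every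
closed T ⊆ Y with retrocompact complement there is an integer r such that for every m ∈ ℤ and every
(m - r)-pseudo-coherent E ∈ D(O_Y) with quasi-coherent cohomology sheaves and Hⁱ(E) supported on T
for i ≥ m - r, there are a perfect P ∈ D(O_Y) supported on T and P ⟶ E inducing isomorphisms on Hⁱ
for i > m and a surjection on Hᵐ. -/
theorem result {X : Scheme.{u}} (U V : X.Opens)
    (hU : IsCompact (U : Set ↥X)) (hV : IsAffineOpen V) (hUV : IsCompact ((U ⊓ V : X.Opens) : Set ↥X)) (hcov : U ⊔ V = ⊤)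
    (hAU : (∀ (T : Set ↥(U : Scheme.{u})), IsClosed T → IsRetrocompact Tᶜ → ∃ r : ℤ, ∀ (m : ℤ) (E : DCoh.D (U : Scheme.{u})), DCoh.IsQCohD E →
        DCoh.IsPseudoCoherentD (m - r) E → (∀ i : ℤ, m - r ≤ i → CohB1.support (DCoh.HD E i) ⊆ T) →
        ∃ (P : DCoh.D (U : Scheme.{u})) (α : P ⟶ E), DCoh.IsPerfect P ∧ (∀ i : ℤ, CohB1.support (DCoh.HD P i) ⊆ T) ∧
          (∀ i : ℤ, m < i → IsIso ((DerivedCategory.homologyFunctor _ i).map α)) ∧
          Epi ((DerivedCategory.homologyFunctor _ m).map α))) :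
    (∀ (T : Set ↥X), IsClosed T → IsRetrocompact Tᶜ → ∃ r : ℤ, ∀ (m : ℤ) (E : DCoh.D X), DCoh.IsQCohD E →
        DCoh.IsPseudoCoherentD (m - r) E → (∀ i : ℤ, m - r ≤ i → CohB1.support (DCoh.HD E i) ⊆ T) →
        ∃ (P : DCoh.D X) (α : P ⟶ E), DCoh.IsPerfect P ∧ (∀ i : ℤ, CohB1.support (DCoh.HD P i) ⊆ T) ∧
          (∀ i : ℤ, m < i → IsIso ((DerivedCategory.homologyFunctor _ i).map α)) ∧
          Epi ((DerivedCategory.homologyFunctor _ m).map α)) := by
  have hcov' : ∀ x : X, x ∈ (U : Set X) ∪ (V : Set X) := fun x => by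
    rw [← TopologicalSpace.Opens.coe_sup, hcov]; trivial
  have hVU : IsCompact ((V ⊓ U : X.Opens) : Set X) := by rwa [inf_comm]
  have : CompactSpace (U : AlgebraicGeometry.Scheme.{u}) := isCompact_iff_compactSpace.1 hU
  have hA : GrothLib.OX.HasApprox (U : AlgebraicGeometry.Scheme.{u}) := fun W hW => by
    have hW' : ∀ {E : DCoh.D (U : AlgebraicGeometry.Scheme.{u})} {i : ℤ},
        GrothLib.OX.VanishAt W E i ↔ CohB1.support (DCoh.HD E i) ⊆ (W : Set _)ᶜ :=
      fun {E i} => GrothLib.OX.vanishAt_iff_support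
    obtain ⟨r, hr⟩ := hAU ((W : Set _)ᶜ) W.2.isClosed_compl (fun O hOc hOo => by
      rw [compl_compl, Set.inter_comm]; exact hW ⟨O, hOo⟩ hOc)
    refine ⟨r, fun m E hE hpc hs => ?_⟩
    obtain ⟨P, α, hP, hsP, hiso, hepi⟩ := hr m E hE hpc fun i hi => hW'.1 (hs i hi)
    exact GrothLib.OX.approxOn_of_map α hP
      (GrothLib.OX.isZero_resD_iff_vanishAt.2 fun i => hW'.2 (hsP i)) hiso hepi
  intro T hT hTc
  let W : X.Opens := ⟨Tᶜ, hT.isOpen_compl⟩
  have hW : ∀ {E : DCoh.D X} {i : ℤ}, GrothLib.OX.VanishAt W E i ↔ CohB1.support (DCoh.HD E i) ⊆ T := fun {E i} => by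
    rw [GrothLib.OX.vanishAt_iff_support, show ((W : Set X))ᶜ = T from compl_compl T]
  obtain ⟨r, hr⟩ := GrothLib.OX.hasApprox_union hcov' hV hVU hA W fun O hO => by
    have h := hTc hO O.2
    rwa [Set.inter_comm] at h
  refine ⟨r, fun m E hE hpc hs => ?_⟩
  obtain ⟨P, α, hP, hPW, hiso, hepi⟩ := (hr m E hE hpc fun i hi => hW.2 (hs i hi)).exists_map
  exact ⟨P, α, hP, fun i => hW.1 (GrothLib.OX.isZero_resD_iff_vanishAt.1 hPW i), hiso, hepi⟩

end Groth.Agent.S7266
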