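import Groth.Statements.S7278
import Groth.Agent.Lib.RelAmp22.Charts

set_option autoImplicit false
universe u
open CategoryTheory CategoryTheory.Limits AlgebraicGeometry Opposite
attribute [local instance] HasDerivedCategory.standard
open Perf

namespace Groth.Agent.S7278

/-- Let f : X ⟶ S be flat and locally of finite presentation and E an object of D(O_X) with
quasi-coherent cohomology sheaves (tilde recorded as exact). For affine opens U ⊆ X and V ⊆ S with
f(U) ⊆ V, say that E is algebraically perfect on U over V when every M ∈ D(Γ(U, O_X)) whose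
associated object M~ on Spec Γ(U, O_X) is isomorphic to the restriction E|_U (transported along U ≅
Spec Γ(U, O_X)) is Γ(V, O_S)-perfect: pseudo-coherent as a complex of Γ(U, O_X)-modules and of
finite tor dimension over Γ(V, O_S) through f^♯ (such M exist and are unique up to isomorphism,
namely RΓ(U, E)). Then: E is S-perfect (pseudo-coherent, and locally on X represented by a bounded
complex of O_X-modules flat over S) if and only if E is algebraically perfect on every affine open U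
over every affine open V with U ⊆ f⁻¹V; and E is S-perfect as soon as this holds for the members
U_ij of affine open coverings f⁻¹V_i = ⋃ U_ij attached to an affine open covering S = ⋃ V_i. -/
theorem result {X S : Scheme.{u}} (f : X ⟶ S) [Flat f] [LocallyOfFinitePresentation f]
    [∀ R : CommRingCat.{u}, PreservesFiniteLimits (tilde.functor R)]
    (E : DCoh.D X) (hE : DCoh.IsQCohD E) :
    (((∀ m : ℤ, DCoh.IsPseudoCoherentD m E) ∧ DCoh.LocHasFiniteRelTorDim f E) ↔
      ∀ (U : X.Opens) (hU : IsAffineOpen U) (V : S.Opens) (hV : IsAffineOpen V) (hUV : U ≤ f ⁻¹ᵁ V)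
        (M : DerivedCategory (ModuleCat.{u} Γ(X, U))),
        Nonempty ((DCoh.restrictD hU.isoSpec.inv).obj ((DCoh.restrictD U.ι).obj E) ≅ (DCoh.tildeD Γ(X, U)).obj M) →
          @Dual2.IsRelPerfect Γ(S, V) Γ(X, U) _ _ (f.appLE V U hUV).hom.toAlgebra M) ∧
    (∀ (ι : Type u) (V : ι → S.Opens) (hV : ∀ i, IsAffineOpen (V i)) (hVcov : ⨆ i, V i = ⊤)
        (κ : ι → Type u) (U : ∀ i, κ i → X.Opens) (hU : ∀ i j, IsAffineOpen (U i j))
        (hUV : ∀ i j, U i j ≤ f ⁻¹ᵁ V i) (hUcov : ∀ i, ⨆ j, U i j = f ⁻¹ᵁ V i),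
        (∀ (i : ι) (j : κ i) (M : DerivedCategory (ModuleCat.{u} Γ(X, U i j))),
          Nonempty ((DCoh.restrictD (hU i j).isoSpec.inv).obj ((DCoh.restrictD (U i j).ι).obj E) ≅
              (DCoh.tildeD Γ(X, U i j)).obj M) →
            @Dual2.IsRelPerfect Γ(S, V i) Γ(X, U i j) _ _ (f.appLE (V i) (U i j) (hUV i j)).hom.toAlgebra M) →
        (∀ m : ℤ, DCoh.IsPseudoCoherentD m E) ∧ DCoh.LocHasFiniteRelTorDim f E) := by
  have key : ∀ (U : X.Opens) (hU : IsAffineOpen U) (M : DerivedCategory (ModuleCat.{u} Γ(X, U))),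
      ((DCoh.restrictD hU.isoSpec.inv).obj ((DCoh.restrictD U.ι).obj E) ≅ (DCoh.tildeD Γ(X, U)).obj M) →
        ((GrothLib.OX.resD hU.fromSpec).obj E ≅ (DCoh.tildeD Γ(X, U)).obj M) := fun U hU M e =>
    (GrothLib.OX.resDCompIso hU.isoSpec.inv U.ι).symm.app E ≪≫ e
  have cover : ∀ (ι : Type u) (V : ι → S.Opens) (hV : ∀ i, IsAffineOpen (V i)) (_ : ⨆ i, V i = ⊤)
      (κ : ι → Type u) (U : ∀ i, κ i → X.Opens) (hU : ∀ i j, IsAffineOpen (U i j))
      (hUV : ∀ i j, U i j ≤ f ⁻¹ᵁ V i) (_ : ∀ i, ⨆ j, U i j = f ⁻¹ᵁ V i),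
      (∀ (i : ι) (j : κ i) (M : DerivedCategory (ModuleCat.{u} Γ(X, U i j))),
        Nonempty ((DCoh.restrictD (hU i j).isoSpec.inv).obj ((DCoh.restrictD (U i j).ι).obj E) ≅
            (DCoh.tildeD Γ(X, U i j)).obj M) →
          @Dual2.IsRelPerfect Γ(S, V i) Γ(X, U i j) _ _ (f.appLE (V i) (U i j) (hUV i j)).hom.toAlgebra M) →
      GrothLib.RelAmp22.RelPerf f E := by
    intro ι V hV hVcov κ U hU hUV hUcov h
    refine GrothLib.RelAmp22.relPerf_of_charts fun x => ?_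
    obtain ⟨i, hi⟩ := TopologicalSpace.Opens.mem_iSup.1 (hVcov ▸ trivial : f x ∈ ⨆ i, V i)
    obtain ⟨j, hj⟩ := TopologicalSpace.Opens.mem_iSup.1 ((hUcov i).symm ▸ hi : x ∈ ⨆ j, U i j)
    obtain ⟨M, ⟨e⟩⟩ := GrothLib.OX.exists_tildeD_rep hE (hU i j).fromSpec
    refine ⟨U i j, hU i j, hj, GrothLib.RelAmp22.amp_of_chart (hU i j) (hV i) (hUV i j) M e.symm (h i j M
      ⟨((GrothLib.OX.resDCompIso (hU i j).isoSpec.inv (U i j).ι).app E) ≪≫ e.symm⟩)⟩
  refine ⟨⟨fun h U hU V hV hUV M ⟨e⟩ => GrothLib.RelAmp22.isRelPerfect_chart h hU hV hUV M (key U hU M e), fun h => ?_⟩,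
    cover⟩
  refine cover {V : S.Opens // IsAffineOpen V} (fun V => V.1) (fun V => V.2) ?_
    (fun V => {U : X.Opens // IsAffineOpen U ∧ U ≤ f ⁻¹ᵁ V.1}) (fun V U => U.1) (fun V U => U.2.1)
    (fun V U => U.2.2) (fun V => ?_) (fun V U M hM => h U.1 U.2.1 V.1 V.2 U.2.2 M hM)
  · refine top_le_iff.1 fun y _ => ?_
    obtain ⟨W, hW, hy, -⟩ := exists_isAffineOpen_mem_and_subset (x := y) (U := ⊤) trivial
    exact TopologicalSpace.Opens.mem_iSup.2 ⟨⟨W, hW⟩, hy⟩
  · refine le_antisymm (iSup_le fun U => U.2.2) fun y hy => ?_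
    obtain ⟨W, hW, hy', hWU⟩ := exists_isAffineOpen_mem_and_subset (x := y) (U := f ⁻¹ᵁ V.1) hy
    exact TopologicalSpace.Opens.mem_iSup.2 ⟨⟨W, hW, hWU⟩, hy'⟩

end Groth.Agent.S7278
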