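import Groth.Statements.S7287
-- import your own Groth.Agent.* helpers here
import Mathlib.RingTheory.AlgebraicIndependent.AlgebraicClosure
import Mathlib.RingTheory.AlgebraicIndependent.Adjoin
import Mathlib.FieldTheory.IsAlgClosed.AlgebraicClosure
import Mathlib.AlgebraicGeometry.ResidueField

set_option autoImplicit false
open CategoryTheory CategoryTheory.Limits AlgebraicGeometry Opposite
universe u
set_option linter.all false
open RelCyc

open CategoryTheory CategoryTheory.Limits AlgebraicGeometry IsLocalRing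

namespace GrothAux.S7287

theorem fac {K : Type u} [Field K] {X : Scheme.{u}} (v : Spec (CommRingCat.of K) ⟶ X) (x : X)
    (h : v (closedPoint K) = x) :
    ∃ φ : X.residueField x ⟶ CommRingCat.of K, Spec.map φ ≫ X.fromSpecResidueField x = v := by
  subst h
  exact ⟨_, Scheme.descResidueField_stalkClosedPointTo_fromSpecResidueField K X v⟩

theorem hom_ext_res {K : CommRingCat.{u}} {X : Scheme.{u}} {x : X} (φ ψ : X.residueField x ⟶ K)
    (h : Spec.map φ ≫ X.fromSpecResidueField x = Spec.map ψ ≫ X.fromSpecResidueField x) : φ = ψ :=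
  Spec.map_injective ((cancel_mono _).1 h)

theorem fac_res {X Y : Scheme.{u}} (f : X ⟶ Y) (x : X) (y : Y) (h : f x = y) :
    ∃ φ : Y.residueField y ⟶ X.residueField x,
      Spec.map φ ≫ Y.fromSpecResidueField y = X.fromSpecResidueField x ≫ f := by
  subst h
  exact ⟨_, f.SpecMap_residueFieldMap_fromSpecResidueField x⟩

theorem eq_of_comp_specMap {K M : Type u} [Field K] [Field M] (ι : K →+* M) {X : Scheme.{u}}
    {a b : Spec (CommRingCat.of K) ⟶ X} (h : Spec.map (CommRingCat.ofHom ι) ≫ a = Spec.map (CommRingCat.ofHom ι) ≫ b) :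
    a = b := by
  have hpt : a (closedPoint K) = b (closedPoint K) := by
    have h1 := congrArg (fun m : Spec (CommRingCat.of M) ⟶ X => m (closedPoint M)) h
    simp only [Scheme.Hom.comp_apply] at h1
    haveI : Subsingleton ↥(Spec (CommRingCat.of K)) := inferInstanceAs (Subsingleton (PrimeSpectrum K))
    rwa [Subsingleton.elim (Spec.map (CommRingCat.ofHom ι) (closedPoint M)) (closedPoint K)] at h1
  obtain ⟨φ, hφ⟩ := fac a _ rfl
  obtain ⟨ψ, hψ⟩ := fac b _ hpt.symm
  rw [← hφ, ← hψ, ← Category.assoc, ← Category.assoc, ← Spec.map_comp, ← Spec.map_comp] at h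
  have h2 := hom_ext_res _ _ h
  have h3 : φ = ψ := by
    ext w
    exact ι.injective (congrArg (fun m : X.residueField (a (closedPoint K)) ⟶ CommRingCat.of M => m.hom w) h2)
  rw [← hφ, ← hψ, h3]

/-- The residue field of a point of a fibre product is generated by those of its projections. -/
theorem gen {A B C Z : Scheme.{u}} {a : Z ⟶ A} {b : Z ⟶ B} {c : A ⟶ C} {d : B ⟶ C} (hP : IsPullback a b c d)
    (z : Z) {xa : A} {xb : B} (φa : A.residueField xa ⟶ Z.residueField z)
    (φb : B.residueField xb ⟶ Z.residueField z)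
    (ha : Spec.map φa ≫ A.fromSpecResidueField xa = Z.fromSpecResidueField z ≫ a)
    (hb : Spec.map φb ≫ B.fromSpecResidueField xb = Z.fromSpecResidueField z ≫ b) :
    Subfield.closure (Set.range φa.hom ∪ Set.range φb.hom) = ⊤ := by
  let F := Subfield.closure (Set.range φa.hom ∪ Set.range φb.hom)
  let φa' : A.residueField xa →+* F := φa.hom.codRestrict F fun w => Subfield.subset_closure (Or.inl ⟨w, rfl⟩)
  let φb' : B.residueField xb →+* F := φb.hom.codRestrict F fun w => Subfield.subset_closure (Or.inr ⟨w, rfl⟩)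
  let ι : CommRingCat.of F ⟶ CommRingCat.of (Z.residueField z) := CommRingCat.ofHom F.subtype
  let ua := Spec.map (CommRingCat.ofHom φa') ≫ A.fromSpecResidueField xa
  let ub := Spec.map (CommRingCat.ofHom φb') ≫ B.fromSpecResidueField xb
  have hua : Spec.map ι ≫ ua = Z.fromSpecResidueField z ≫ a := by
    rw [← ha, ← Category.assoc, ← Spec.map_comp]; rfl
  have hub : Spec.map ι ≫ ub = Z.fromSpecResidueField z ≫ b := by
    rw [← hb, ← Category.assoc, ← Spec.map_comp]; rfl
  have hcd : ua ≫ c = ub ≫ d := eq_of_comp_specMap F.subtype (by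
    show Spec.map ι ≫ ua ≫ c = Spec.map ι ≫ ub ≫ d
    rw [← Category.assoc, hua, ← Category.assoc, hub, Category.assoc, Category.assoc, hP.w])
  let v := hP.lift ua ub hcd
  have hv : Spec.map ι ≫ v = Z.fromSpecResidueField z := hP.hom_ext
    (by rw [Category.assoc, hP.lift_fst, hua]) (by rw [Category.assoc, hP.lift_snd, hub])
  have hpt : v (closedPoint F) = z := by
    haveI : Subsingleton ↥(Spec (CommRingCat.of F)) := inferInstanceAs (Subsingleton (PrimeSpectrum F))
    rw [Subsingleton.elim (closedPoint F) (Spec.map ι (closedPoint (Z.residueField z))), ← Scheme.Hom.comp_apply, hv]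
    exact Z.fromSpecResidueField_apply z _
  obtain ⟨ψ, hψ⟩ := fac v z hpt
  have h1 : ψ ≫ ι = 𝟙 _ := hom_ext_res _ _ (by rw [Spec.map_comp, Category.assoc, hψ, hv, Spec.map_id]; exact (Category.id_comp _).symm)
  refine eq_top_iff.2 fun w _ => ?_
  have h2 : ((ψ.hom w : F) : Z.residueField z) = w := congrArg (fun m : Z.residueField z ⟶ Z.residueField z => m.hom w) h1
  rw [← h2]
  exact (ψ.hom w).2

/-- An extension generated by the base and an algebraic extension of a field generated by `t` is algebraic over `t`. -/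
theorem isAlgebraic_of_gen {K L K1 M : Type u} [Field K] [Field L] [Field K1] [Field M]
    [Algebra K L] [Algebra K K1] [Algebra K M] [Algebra K1 M] [Algebra L M] [IsScalarTower K L M] [IsScalarTower K K1 M]
    {ι : Type u} (t : ι → L) (ht : IsTranscendenceBasis K t)
    (hgen : Subfield.closure (Set.range (algebraMap L M) ∪ Set.range (algebraMap K1 M)) = ⊤) :
    Algebra.IsAlgebraic (Algebra.adjoin K1 (Set.range (algebraMap L M ∘ t))) M := by
  rw [← IntermediateField.isAlgebraic_adjoin_iff_top]
  let P := IntermediateField.adjoin K1 (Set.range (algebraMap L M ∘ t))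
  have hL : ∀ l : L, IsAlgebraic P (algebraMap L M l) := by
    intro l
    haveI := ht.isAlgebraic
    have h0 : IsAlgebraic (Algebra.adjoin K (Set.range t)) l := Algebra.IsAlgebraic.isAlgebraic l
    let f : Algebra.adjoin K (Set.range t) →+* P :=
      ((algebraMap L M).comp (Subalgebra.val _).toRingHom).codRestrict P fun w => by
        refine Algebra.adjoin_induction (p := fun z _ => algebraMap L M z ∈ P) ?_ ?_ ?_ ?_ w.2
        · rintro _ ⟨i, rfl⟩
          exact IntermediateField.subset_adjoin _ _ ⟨i, rfl⟩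
        · intro c
          rw [← IsScalarTower.algebraMap_apply K L M, IsScalarTower.algebraMap_apply K K1 M]
          exact P.algebraMap_mem _
        · intro x y _ _ hx hy; rw [map_add]; exact add_mem hx hy
        · intro x y _ _ hx hy; rw [map_mul]; exact mul_mem hx hy
    exact h0.ringHom_of_comp_eq f (algebraMap L M) (fun a b hab => Subtype.ext ((algebraMap L M).injective (congrArg Subtype.val hab))) (RingHom.ext fun _ => rfl)
  have hle : Subfield.closure (Set.range (algebraMap L M) ∪ Set.range (algebraMap K1 M)) ≤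
      (algebraicClosure P M).toSubfield := by
    rw [Subfield.closure_le]
    rintro _ (⟨l, rfl⟩ | ⟨w, rfl⟩)
    · exact mem_algebraicClosure_iff.2 (hL l).isIntegral.isAlgebraic
    · exact mem_algebraicClosure_iff.2 (isAlgebraic_algebraMap (R := P) (A := M) ⟨_, P.algebraMap_mem w⟩)
  exact ⟨fun w => mem_algebraicClosure_iff.1 (hle (by rw [hgen]; trivial))⟩

/-- The amalgamation of two free extensions. -/
theorem amalgam (K L K1 M1 K2 M2 : Type u) [Field K] [Field L] [Field K1] [Field M1] [Field K2] [Field M2]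
    [Algebra K L] [Algebra K K1] [Algebra K M1] [Algebra K1 M1] [Algebra L M1] [IsScalarTower K L M1] [IsScalarTower K K1 M1]
    [Algebra K K2] [Algebra K M2] [Algebra K2 M2] [Algebra L M2] [IsScalarTower K L M2] [IsScalarTower K K2 M2]
    {ι : Type u} (t : ι → L) (ht : IsTranscendenceBasis K t)
    (ht1 : AlgebraicIndependent K1 (algebraMap L M1 ∘ t)) (ht2 : AlgebraicIndependent K2 (algebraMap L M2 ∘ t))
    (hgen : Subfield.closure (Set.range (algebraMap L M2) ∪ Set.range (algebraMap K2 M2)) = ⊤) :
    ∃ (E : Type u) (_ : Field E) (e1 : M1 →+* E) (e2 : M2 →+* E) (F : Subfield E),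
      (∀ l, e1 (algebraMap L M1 l) = e2 (algebraMap L M2 l)) ∧ (∀ w, e1 (algebraMap K1 M1 w) ∈ F) ∧
      (∀ w, e2 (algebraMap K2 M2 w) ∈ F) ∧ AlgebraicIndependent F (fun i => e1 (algebraMap L M1 (t i))) := by
  classical
  obtain ⟨s, hs⟩ := exists_isTranscendenceBasis K K2
  let b : s → M2 := fun i => algebraMap K2 M2 i.1
  have hbt : AlgebraicIndependent K (Sum.elim (algebraMap L M2 ∘ t) b) :=
    AlgebraicIndependent.sumElim_comp hs.1 ht2
  have hbt' : AlgebraicIndependent K (Sum.elim b (algebraMap L M2 ∘ t)) := by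
    convert hbt.comp _ (Equiv.sumComm _ _).injective using 1
    ext (_ | _) <;> rfl
  obtain ⟨-, hb0⟩ := AlgebraicIndependent.sumElim_iff.1 hbt'
  have hbL : AlgebraicIndependent L b := by
    let A0 := Algebra.adjoin K (Set.range t)
    let A0' := Algebra.adjoin K (Set.range (algebraMap L M2 ∘ t))
    have hmap : A0.map (IsScalarTower.toAlgHom K L M2) = A0' := by
      rw [AlgHom.map_adjoin, ← Set.range_comp]; rfl
    let f : A0 →+* A0' := ((algebraMap L M2).comp (Subalgebra.val A0).toRingHom).codRestrict A0' fun w => by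
      rw [← hmap]; exact ⟨w.1, w.2, rfl⟩
    letI := f.toAlgebra
    haveI : IsScalarTower A0 A0' M2 := .of_algebraMap_eq fun _ => rfl
    have h1 : AlgebraicIndependent A0 b := AlgebraicIndependent.restrictScalars (R := A0) (K := A0') (fun a c hac =>
      Subtype.ext ((algebraMap L M2).injective (congrArg Subtype.val hac))) hb0
    haveI : Algebra.IsAlgebraic A0 L := ht.isAlgebraic
    exact h1.extendScalars L
  obtain ⟨E, _, _, i0, hi0⟩ : ∃ (E : Type u) (_ : Field E) (_ : IsAlgClosed E) (i0 : MvPolynomial s M1 →+* E),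
      Function.Injective i0 :=
    ⟨AlgebraicClosure (FractionRing (MvPolynomial s M1)), inferInstance, inferInstance,
      (algebraMap (FractionRing (MvPolynomial s M1)) _).comp (algebraMap (MvPolynomial s M1) _),
      (RingHom.injective (algebraMap (FractionRing (MvPolynomial s M1)) (AlgebraicClosure (FractionRing (MvPolynomial s M1))))).comp (IsFractionRing.injective (MvPolynomial s M1) (FractionRing (MvPolynomial s M1)))⟩
  letI : Algebra (MvPolynomial s M1) E := i0.toAlgebra
  letI : Algebra M1 E := (i0.comp MvPolynomial.C).toAlgebra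
  haveI : IsScalarTower M1 (MvPolynomial s M1) E := .of_algebraMap_eq fun _ => rfl
  let e1 : M1 →+* E := algebraMap M1 E
  letI : Algebra L E := (e1.comp (algebraMap L M1)).toAlgebra
  let X' : s → E := fun i => algebraMap (MvPolynomial s M1) E (MvPolynomial.X i)
  have hX1 : AlgebraicIndependent M1 X' :=
    (MvPolynomial.algebraicIndependent_X s M1).map' (f := IsScalarTower.toAlgHom M1 (MvPolynomial s M1) E)
      hi0
  haveI : IsScalarTower L M1 E := .of_algebraMap_eq fun _ => rfl
  have hXL : AlgebraicIndependent L X' := hX1.restrictScalars (algebraMap L M1).injective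
  let R0 := Algebra.adjoin L (Set.range b)
  let φ : R0 →ₐ[L] E := (MvPolynomial.aeval X').comp hbL.aevalEquiv.symm.toAlgHom
  have hφinj : Function.Injective φ := Function.Injective.comp (g := MvPolynomial.aeval X') hXL hbL.aevalEquiv.symm.injective
  letI : Algebra R0 E := φ.toRingHom.toAlgebra
  haveI : FaithfulSMul R0 E := (faithfulSMul_iff_algebraMap_injective R0 E).2 hφinj
  haveI : Algebra.IsAlgebraic R0 M2 := by
    refine isAlgebraic_of_gen (K := K) (L := K2) (K1 := L) (M := M2) (fun i : s => (i : K2)) hs ?_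
    rw [Set.union_comm]; exact hgen
  let e2 : M2 →ₐ[R0] E := IsAlgClosed.lift
  have he : ∀ l, e1 (algebraMap L M1 l) = e2 (algebraMap L M2 l) := fun l => by
    have h1 := e2.commutes (algebraMap L R0 l)
    rw [show algebraMap R0 M2 (algebraMap L R0 l) = algebraMap L M2 l from rfl] at h1
    rw [h1]
    exact (φ.commutes l).symm
  have heb : ∀ i, e2 (b i) = X' i := fun i => by
    have h1 := e2.commutes ⟨b i, Algebra.subset_adjoin ⟨i, rfl⟩⟩
    refine Eq.trans h1 ?_
    show MvPolynomial.aeval X' (hbL.aevalEquiv.symm _) = _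
    rw [show hbL.aevalEquiv.symm ⟨b i, Algebra.subset_adjoin ⟨i, rfl⟩⟩ = MvPolynomial.X i from
      hbL.aevalEquiv.symm_apply_eq.2 (Subtype.ext (by simp)), MvPolynomial.aeval_X]
  letI : Algebra K1 E := (e1.comp (algebraMap K1 M1)).toAlgebra
  haveI : IsScalarTower K1 M1 E := .of_algebraMap_eq fun _ => rfl
  have hXt : AlgebraicIndependent K1 (Sum.elim X' (algebraMap M1 E ∘ (algebraMap L M1 ∘ t))) :=
    AlgebraicIndependent.sumElim_comp ht1 hX1
  have htX : AlgebraicIndependent K1 (Sum.elim (algebraMap M1 E ∘ (algebraMap L M1 ∘ t)) X') := by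
    convert hXt.comp _ (Equiv.sumComm _ _).injective using 1
    ext (_ | _) <;> rfl
  obtain ⟨-, ht0⟩ := AlgebraicIndependent.sumElim_iff.1 htX
  let P := IntermediateField.adjoin K1 (Set.range X')
  let A1 := Algebra.adjoin K1 (Set.range X')
  letI : Algebra A1 P := (Subalgebra.inclusion (IntermediateField.algebra_adjoin_le_adjoin K1 (Set.range X'))).toRingHom.toAlgebra
  haveI : IsScalarTower A1 P E := .of_algebraMap_eq fun _ => rfl
  haveI : Algebra.IsAlgebraic A1 P := ⟨fun w => (isAlgebraic_algebraMap_iff (A := E) (algebraMap P E).injective).1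
    (IntermediateField.isAlgebraic_adjoin_iff.1 (isAlgebraic_algebraMap (R := P) (A := E) w))⟩
  have htP : AlgebraicIndependent P (algebraMap M1 E ∘ (algebraMap L M1 ∘ t)) := ht0.extendScalars P
  let Fc := algebraicClosure P E
  have htF : AlgebraicIndependent Fc (algebraMap M1 E ∘ (algebraMap L M1 ∘ t)) := htP.extendScalars Fc
  refine ⟨E, inferInstance, e1, e2.toRingHom, Fc.toSubfield, he, fun w => ?_, fun w => ?_, htF⟩
  · exact mem_algebraicClosure_iff.2 (isAlgebraic_algebraMap (R := P) (A := E) ⟨_, P.algebraMap_mem w⟩)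
  · haveI := hs.isAlgebraic
    have h0 : IsAlgebraic (Algebra.adjoin K (Set.range ((↑) : s → K2))) w := Algebra.IsAlgebraic.isAlgebraic w
    let e : K2 →+* E := e2.toRingHom.comp (algebraMap K2 M2)
    have hK : ∀ c : K, e (algebraMap K K2 c) = algebraMap K1 E (algebraMap K K1 c) := fun c => by
      show e2 (algebraMap K2 M2 (algebraMap K K2 c)) = e1 (algebraMap K1 M1 (algebraMap K K1 c))
      rw [← IsScalarTower.algebraMap_apply K K2 M2, ← IsScalarTower.algebraMap_apply K K1 M1,
        IsScalarTower.algebraMap_apply K L M1, IsScalarTower.algebraMap_apply K L M2, he]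
    let f : Algebra.adjoin K (Set.range ((↑) : s → K2)) →+* P :=
      (e.comp (Subalgebra.val _).toRingHom).codRestrict P fun z => by
        refine Algebra.adjoin_induction (p := fun z _ => e z ∈ P) ?_ ?_ ?_ ?_ z.2
        · rintro _ ⟨i, rfl⟩
          rw [show e (i : K2) = X' i from heb i]
          exact IntermediateField.subset_adjoin _ _ ⟨i, rfl⟩
        · intro c; rw [hK]; exact P.algebraMap_mem _
        · intro x y _ _ hx hy; rw [map_add]; exact add_mem hx hy
        · intro x y _ _ hx hy; rw [map_mul]; exact mul_mem hx hy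
    exact mem_algebraicClosure_iff.2 ((h0.ringHom_of_comp_eq f e
      (fun a c hac => Subtype.ext (e.injective (congrArg Subtype.val hac))) (RingHom.ext fun _ => rfl)).isIntegral.isAlgebraic)

end GrothAux.S7287

namespace Groth.Agent.S7287

/-- Let f from X to S be locally of finite type, r a natural number and g from S' to S a surjective
morphism. Let S'' be the fibre product of S' with itself over S (projections p, q), X' the base
change of X along g (structure map f', projection g' to X), and X'' the base change of X along S''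
with structure map f'' and the two projections p', q' to X' lying over p and q and compatible with
the projections to X. Let x be a point of X whose residue field has transcendence degree r over that
of f(x). If x1 and x2 are points of X' mapping to x whose residue fields have transcendence degree r
over those of their images in S', then there is a point of X'' whose residue field has transcendence
degree r over that of its image in S'' and whose two projections are x1 and x2. -/
theorem result {X S S' S'' X' X'' : Scheme.{u}}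
    (f : X ⟶ S) [LocallyOfFiniteType f] (r : ℕ) (g : S' ⟶ S) [Surjective g]
    (p q : S'' ⟶ S') (hS : IsPullback p q g g)
    (f' : X' ⟶ S') (g' : X' ⟶ X) (hX : IsPullback g' f' f g)
    (f'' : X'' ⟶ S'') (p' q' : X'' ⟶ X') (hp : IsPullback p' f'' f' p) (hq : IsPullback q' f'' f' q)
    (hpq : p' ≫ g' = q' ≫ g')
    (x : ↥X) (hx : Dual3.resTrdeg f x = r)
    (x₁ x₂ : ↥X') (h₁ : g'.base x₁ = x) (h₂ : g'.base x₂ = x)
    (hx₁ : Dual3.resTrdeg f' x₁ = r) (hx₂ : Dual3.resTrdeg f' x₂ = r) :
    ∃ x'' : ↥X'', Dual3.resTrdeg f'' x'' = r ∧ p'.base x'' = x₁ ∧ q'.base x'' = x₂ := by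
  open GrothAux.S7287 in
  classical
  let s := f x
  let K := S.residueField s
  let L := X.residueField x
  let K1 := S'.residueField (f' x₁)
  let M1 := X'.residueField x₁
  let K2 := S'.residueField (f' x₂)
  let M2 := X'.residueField x₂
  have hgf : ∀ z, g (f' z) = f (g' z) := fun z => by rw [← Scheme.Hom.comp_apply, ← hX.w, Scheme.Hom.comp_apply]
  obtain ⟨α1, hα1⟩ := fac_res g (f' x₁) s ((hgf x₁).trans (congrArg f h₁))
  obtain ⟨α2, hα2⟩ := fac_res g (f' x₂) s ((hgf x₂).trans (congrArg f h₂))
  obtain ⟨β1, hβ1⟩ := fac_res g' x₁ x h₁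
  obtain ⟨β2, hβ2⟩ := fac_res g' x₂ x h₂
  have sq1 : α1 ≫ f'.residueFieldMap x₁ = f.residueFieldMap x ≫ β1 := hom_ext_res _ _ (by
    rw [Spec.map_comp, Spec.map_comp, Category.assoc, Category.assoc, hα1,
      Scheme.Hom.SpecMap_residueFieldMap_fromSpecResidueField_assoc, Scheme.Hom.SpecMap_residueFieldMap_fromSpecResidueField,
      ← Category.assoc (Spec.map β1), hβ1, Category.assoc, hX.w])
  have sq2 : α2 ≫ f'.residueFieldMap x₂ = f.residueFieldMap x ≫ β2 := hom_ext_res _ _ (by
    rw [Spec.map_comp, Spec.map_comp, Category.assoc, Category.assoc, hα2,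
      Scheme.Hom.SpecMap_residueFieldMap_fromSpecResidueField_assoc, Scheme.Hom.SpecMap_residueFieldMap_fromSpecResidueField,
      ← Category.assoc (Spec.map β2), hβ2, Category.assoc, hX.w])
  letI : Algebra K L := (f.residueFieldMap x).hom.toAlgebra
  letI : Algebra K1 M1 := (f'.residueFieldMap x₁).hom.toAlgebra
  letI : Algebra K2 M2 := (f'.residueFieldMap x₂).hom.toAlgebra
  letI : Algebra L M1 := β1.hom.toAlgebra
  letI : Algebra L M2 := β2.hom.toAlgebra
  letI : Algebra K K1 := α1.hom.toAlgebra
  letI : Algebra K K2 := α2.hom.toAlgebra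
  letI : Algebra K M1 := (f.residueFieldMap x ≫ β1).hom.toAlgebra
  letI : Algebra K M2 := (f.residueFieldMap x ≫ β2).hom.toAlgebra
  haveI : IsScalarTower K L M1 := .of_algebraMap_eq fun _ => rfl
  haveI : IsScalarTower K L M2 := .of_algebraMap_eq fun _ => rfl
  haveI : IsScalarTower K K1 M1 := .of_algebraMap_eq fun c =>
    (congrArg (fun m : K ⟶ M1 => m.hom c) sq1).symm
  haveI : IsScalarTower K K2 M2 := .of_algebraMap_eq fun c =>
    (congrArg (fun m : K ⟶ M2 => m.hom c) sq2).symm
  obtain ⟨T, hT⟩ := exists_isTranscendenceBasis K L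
  have hcard : Cardinal.mk T = r := (hT.cardinalMk_eq_trdeg).trans hx
  haveI : Finite T := Cardinal.mk_lt_aleph0_iff.1 (by rw [hcard]; exact Cardinal.natCast_lt_aleph0)
  let t : T → L := (↑)
  have hgen1 : Subfield.closure (Set.range (algebraMap L M1) ∪ Set.range (algebraMap K1 M1)) = ⊤ :=
    gen hX x₁ β1 (f'.residueFieldMap x₁) hβ1 (Scheme.Hom.SpecMap_residueFieldMap_fromSpecResidueField f' x₁)
  have hgen2 : Subfield.closure (Set.range (algebraMap L M2) ∪ Set.range (algebraMap K2 M2)) = ⊤ :=
    gen hX x₂ β2 (f'.residueFieldMap x₂) hβ2 (Scheme.Hom.SpecMap_residueFieldMap_fromSpecResidueField f' x₂)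
  haveI := isAlgebraic_of_gen (K1 := K1) (M := M1) t hT hgen1
  haveI := isAlgebraic_of_gen (K1 := K2) (M := M2) t hT hgen2
  have ht1 : AlgebraicIndependent K1 (algebraMap L M1 ∘ t) :=
    (Algebra.IsAlgebraic.isTranscendenceBasis_of_le_trdeg_of_finite K1 _ (le_of_eq (hcard.trans hx₁.symm))).1
  have ht2 : AlgebraicIndependent K2 (algebraMap L M2 ∘ t) :=
    (Algebra.IsAlgebraic.isTranscendenceBasis_of_le_trdeg_of_finite K2 _ (le_of_eq (hcard.trans hx₂.symm))).1
  obtain ⟨E, _, e1, e2, F, he, hF1, hF2, hind⟩ := amalgam K L K1 M1 K2 M2 t hT ht1 ht2 hgen2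
  let u1 := Spec.map (CommRingCat.ofHom e1) ≫ X'.fromSpecResidueField x₁
  let u2 := Spec.map (CommRingCat.ofHom e2) ≫ X'.fromSpecResidueField x₂
  have hu : u1 ≫ g' = u2 ≫ g' := by
    simp only [u1, u2, Category.assoc, ← hβ1, ← hβ2]
    rw [← Category.assoc, ← Category.assoc, ← Spec.map_comp, ← Spec.map_comp]
    congr 2
    ext l
    exact he l
  have hw : (u1 ≫ f') ≫ g = (u2 ≫ f') ≫ g := by
    rw [Category.assoc u1, Category.assoc u2, ← hX.w, ← Category.assoc, ← Category.assoc u2, hu]
  let w := hS.lift (u1 ≫ f') (u2 ≫ f') hw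
  let v := hp.lift u1 w (hS.lift_fst _ _ _).symm
  have hv1 : v ≫ p' = u1 := hp.lift_fst _ _ _
  have hv2 : v ≫ q' = u2 := hX.hom_ext (by rw [Category.assoc, ← hpq, ← Category.assoc, hv1, hu])
    (by rw [Category.assoc, hq.w, ← Category.assoc, hp.lift_snd, hS.lift_snd])
  let z := v (closedPoint E)
  have hp1 : p' z = x₁ := by
    show p' (v (closedPoint E)) = _
    rw [← Scheme.Hom.comp_apply, hv1, Scheme.Hom.comp_apply]
    exact X'.fromSpecResidueField_apply x₁ _
  have hq2 : q' z = x₂ := by
    show q' (v (closedPoint E)) = _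
    rw [← Scheme.Hom.comp_apply, hv2, Scheme.Hom.comp_apply]
    exact X'.fromSpecResidueField_apply x₂ _
  refine ⟨z, ?_, hp1, hq2⟩
  let K'' := S''.residueField (f'' z)
  let M := X''.residueField z
  obtain ⟨ε, hε⟩ := fac v z rfl
  obtain ⟨μ1, hμ1⟩ := fac_res p' z x₁ hp1
  have hpf : p (f'' z) = f' x₁ := by
    rw [← hp1, ← Scheme.Hom.comp_apply, ← hp.w, Scheme.Hom.comp_apply]
  have hqf : q (f'' z) = f' x₂ := by
    rw [← hq2, ← Scheme.Hom.comp_apply, ← hq.w, Scheme.Hom.comp_apply]
  obtain ⟨ν1, hν1⟩ := fac_res p (f'' z) (f' x₁) hpf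
  obtain ⟨ν2, hν2⟩ := fac_res q (f'' z) (f' x₂) hqf
  have hgenM : Subfield.closure (Set.range μ1.hom ∪ Set.range (f''.residueFieldMap z).hom) = ⊤ :=
    gen hp z μ1 (f''.residueFieldMap z) hμ1 (Scheme.Hom.SpecMap_residueFieldMap_fromSpecResidueField f'' z)
  have hgenK : Subfield.closure (Set.range ν1.hom ∪ Set.range ν2.hom) = ⊤ := gen hS (f'' z) ν1 ν2 hν1 hν2
  have hμe : μ1 ≫ ε = CommRingCat.ofHom e1 := hom_ext_res _ _ (by
    rw [Spec.map_comp, Category.assoc, hμ1, ← Category.assoc, hε, hv1])
  have hν1e : ν1 ≫ f''.residueFieldMap z ≫ ε = f'.residueFieldMap x₁ ≫ CommRingCat.ofHom e1 := hom_ext_res _ _ (by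
    simp only [Spec.map_comp, Category.assoc]
    rw [hν1, Scheme.Hom.SpecMap_residueFieldMap_fromSpecResidueField_assoc, ← hp.w, ← Category.assoc (Spec.map ε), hε,
      ← Category.assoc, hv1, Scheme.Hom.SpecMap_residueFieldMap_fromSpecResidueField]
    exact Category.assoc _ _ _)
  have hν2e : ν2 ≫ f''.residueFieldMap z ≫ ε = f'.residueFieldMap x₂ ≫ CommRingCat.ofHom e2 := hom_ext_res _ _ (by
    simp only [Spec.map_comp, Category.assoc]
    rw [hν2, Scheme.Hom.SpecMap_residueFieldMap_fromSpecResidueField_assoc, ← hq.w, ← Category.assoc (Spec.map ε), hε,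
      ← Category.assoc, hv2, Scheme.Hom.SpecMap_residueFieldMap_fromSpecResidueField]
    exact Category.assoc _ _ _)
  letI : Algebra K'' M := (f''.residueFieldMap z).hom.toAlgebra
  letI : Algebra M1 M := μ1.hom.toAlgebra
  letI : Algebra K1 K'' := ν1.hom.toAlgebra
  letI : Algebra K1 M := (μ1.hom.comp (algebraMap K1 M1)).toAlgebra
  haveI : IsScalarTower K1 M1 M := .of_algebraMap_eq fun _ => rfl
  haveI : IsScalarTower K1 K'' M := .of_algebraMap_eq fun c => by
    apply ε.hom.injective
    have h2 := congrArg (fun m : K1 ⟶ CommRingCat.of E => m.hom c) hν1e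
    have h3 := congrArg (fun m : M1 ⟶ CommRingCat.of E => m.hom (algebraMap K1 M1 c)) hμe
    exact h3.trans h2.symm
  haveI : Algebra.IsAlgebraic (Algebra.adjoin K'' (Set.range (algebraMap M1 M ∘ (algebraMap L M1 ∘ t)))) M :=
    isAlgebraic_of_gen (K := K1) (L := M1) (K1 := K'') (M := M) _
      (Algebra.IsAlgebraic.isTranscendenceBasis_of_le_trdeg_of_finite K1 _ (le_of_eq (hcard.trans hx₁.symm))) hgenM
  have hK''F : ∀ c : K'', ε.hom ((f''.residueFieldMap z).hom c) ∈ F := by
    intro c
    have hle : Subfield.closure (Set.range ν1.hom ∪ Set.range ν2.hom) ≤ F.comap ((f''.residueFieldMap z ≫ ε).hom) := by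
      rw [Subfield.closure_le]
      rintro _ (⟨w, rfl⟩ | ⟨w, rfl⟩)
      · have h2 := congrArg (fun m : K1 ⟶ CommRingCat.of E => m.hom w) hν1e
        show ε.hom ((f''.residueFieldMap z).hom (ν1.hom w)) ∈ F
        exact (show ε.hom ((f''.residueFieldMap z).hom (ν1.hom w)) = _ from h2) ▸ hF1 w
      · have h2 := congrArg (fun m : K2 ⟶ CommRingCat.of E => m.hom w) hν2e
        show ε.hom ((f''.residueFieldMap z).hom (ν2.hom w)) ∈ F
        exact (show ε.hom ((f''.residueFieldMap z).hom (ν2.hom w)) = _ from h2) ▸ hF2 w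
    exact hle (by rw [hgenK]; trivial)
  let ηK : K'' →+* F := (ε.hom.comp (f''.residueFieldMap z).hom).codRestrict F hK''F
  letI : Algebra K'' F := ηK.toAlgebra
  letI : Algebra K'' E := (ε.hom.comp (f''.residueFieldMap z).hom).toAlgebra
  letI : Algebra M E := ε.hom.toAlgebra
  haveI : IsScalarTower K'' F E := .of_algebraMap_eq fun _ => rfl
  haveI : IsScalarTower K'' M E := .of_algebraMap_eq fun _ => rfl
  have hind' : AlgebraicIndependent K'' (fun i => e1 (algebraMap L M1 (t i))) :=
    hind.restrictScalars ηK.injective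
  have htM : AlgebraicIndependent K'' (algebraMap M1 M ∘ (algebraMap L M1 ∘ t)) := by
    refine AlgebraicIndependent.of_comp (IsScalarTower.toAlgHom K'' M E) ?_
    convert hind' using 1
    funext i
    exact congrArg (fun m : M1 ⟶ CommRingCat.of E => m.hom (algebraMap L M1 (t i))) hμe
  have hb : IsTranscendenceBasis K'' (algebraMap M1 M ∘ (algebraMap L M1 ∘ t)) :=
    isTranscendenceBasis_iff_algebraicIndependent_isAlgebraic.2 ⟨htM, inferInstance⟩
  show Algebra.trdeg K'' M = r
  rw [← hb.cardinalMk_eq_trdeg, hcard]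

end Groth.Agent.S7287
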