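import Groth.Statements.S7288
import Groth.Agent.Lib.ProEtS.EpsModSerre

set_option autoImplicit false
set_option linter.style.haveILetI false
set_option backward.isDefEq.respectTransparency.types false
open CategoryTheory CategoryTheory.Limits AlgebraicGeometry Opposite
universe u
open EtModW

namespace Groth.Agent.S7288

/-- Let X be a scheme and Λ a ring. The essential image of the pullback functor from sheaves of
Λ-modules on the small etale site of X to sheaves of Λ-modules on the small pro-etale site is a weak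
Serre subcategory: the kernel and the cokernel of a morphism between objects of the essential image
lie in it, and an extension of two objects of the essential image lies in it. (Continuity of the
inclusion of the etale site into the pro-etale site is carried as a binder.) -/
theorem result (Λ : Type (u + 1)) [CommRing Λ] (X : Scheme.{u})
    [ProEtS.EpsCont X] :
    (∀ (F G : EtModW.ModP Λ X) (φ : F ⟶ G), (EtModW.epsPullMod Λ X).essImage F →
      (EtModW.epsPullMod Λ X).essImage G →
        (EtModW.epsPullMod Λ X).essImage (kernel φ) ∧ (EtModW.epsPullMod Λ X).essImage (cokernel φ)) ∧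
    ∀ (T : ShortComplex (EtModW.ModP Λ X)), T.ShortExact →
      (EtModW.epsPullMod Λ X).essImage T.X₁ → (EtModW.epsPullMod Λ X).essImage T.X₃ →
        (EtModW.epsPullMod Λ X).essImage T.X₂ := by
  refine ⟨fun F G φ hF hG => ?_, fun T hT h₁ h₃ => ?_⟩
  · obtain ⟨A, ⟨a⟩⟩ := hF
    obtain ⟨B, ⟨b⟩⟩ := hG
    obtain ⟨g, ⟨i⟩, ⟨j⟩⟩ := GrothLib.ProEtS.exists_kernel_cokernel_iso φ a b
    exact ⟨⟨_, ⟨i⟩⟩, ⟨_, ⟨j⟩⟩⟩
  · obtain ⟨A, ⟨a⟩⟩ := h₁
    obtain ⟨B, ⟨b⟩⟩ := h₃
    obtain ⟨-, -, -, h⟩ := GrothLib.ProEtS.extension_epsPullMod hT a b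
    exact ⟨_, h⟩

end Groth.Agent.S7288
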