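import Groth.Statements.S7290
import Groth.Agent.Lib.Strat20.Basic
import Mathlib.RingTheory.Spectrum.Prime.Topology

set_option autoImplicit false
open CategoryTheory CategoryTheory.Limits AlgebraicGeometry Opposite
universe u
open ProEtW

namespace Groth.Agent.S7290

/-- Let A be a ring and let Spec A be the disjoint union of finitely many constructible subsets T_i.
Then there is a finite subset E of A such that the stratification of Spec A according to which
elements of E vanish at a point refines the given one: each nonempty stratum, consisting of the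
primes whose intersection with E is a prescribed subset, is contained in one of the T_i. -/
theorem result (A : Type u) [CommRing A] {ι : Type u} [Finite ι]
    (T : ι → Set (PrimeSpectrum A)) (hT : ∀ i, Topology.IsConstructible (T i))
    (hcov : ⋃ i, T i = Set.univ) (hdisj : Pairwise fun i j => Disjoint (T i) (T j)) :
    ∃ E : Finset A, ∀ E'' : Finset A, E'' ⊆ E →
      ∀ x : PrimeSpectrum A, (∀ f ∈ E, f ∈ x.asIdeal ↔ f ∈ E'') →
        ∃ i, {y : PrimeSpectrum A | ∀ f ∈ E, f ∈ y.asIdeal ↔ f ∈ E''} ⊆ T i := by
  classical
  let P : Set (PrimeSpectrum A) → Prop := fun U => ∃ f : A, U = PrimeSpectrum.basicOpen f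
  have hcut : ∀ i, GrothLib.Strat20.Cut P (T i) := fun i => by
    suffices ∀ W : Set (PrimeSpectrum A), Topology.IsConstructible W → GrothLib.Strat20.Cut P W from this _ (hT i)
    intro W hW
    induction hW using Topology.IsConstructible.empty_union_induction with
    | open_retrocompact U hU hU' =>
      obtain ⟨t, rfl⟩ := PrimeSpectrum.isCompact_isOpen_iff.1 ⟨hU'.isCompact, hU⟩
      suffices ∀ t : Finset A, GrothLib.Strat20.Cut P (PrimeSpectrum.zeroLocus (t : Set A))ᶜ from this t
      clear hU hU'
      intro t
      induction t using Finset.induction_on with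
      | empty =>
        refine ⟨0, Fin.elim0, fun j => j.elim0, fun x y _ => ?_⟩
        simp
      | @insert a s _ ih =>
        have h' := GrothLib.Strat20.Cut.of_mem (P := P) (U := PrimeSpectrum.basicOpen a) ⟨a, rfl⟩
        have hs : GrothLib.Strat20.Cut P (PrimeSpectrum.zeroLocus (s : Set A))ᶜ := ih
        convert h'.union hs using 1
        rw [PrimeSpectrum.basicOpen_eq_zeroLocus_compl, Finset.coe_insert, Set.insert_eq, PrimeSpectrum.zeroLocus_union,
          Set.compl_inter]
    | union s _ t _ hs ht => exact hs.union ht
    | compl s _ hs => exact hs.compl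
  obtain ⟨n, ⟨e⟩⟩ := Finite.exists_equiv_fin ι
  obtain ⟨N, U, hU, hd⟩ := GrothLib.Strat20.Cut.exists_common (T := fun k => T (e.symm k)) fun k => hcut _
  choose f hf using hU
  refine ⟨Finset.univ.image f, fun E'' _ x hx => ?_⟩
  obtain ⟨i, hi⟩ := Set.mem_iUnion.1 (hcov.symm ▸ Set.mem_univ x : x ∈ ⋃ i, T i)
  refine ⟨i, fun y hy => ?_⟩
  have := hd (e i) x y fun j => by
    rw [hf j]
    exact not_congr ((hx _ (Finset.mem_image_of_mem f (Finset.mem_univ j))).trans
      (hy _ (Finset.mem_image_of_mem f (Finset.mem_univ j))).symm)
  simp only [Equiv.symm_apply_apply] at this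
  exact this.1 hi

end Groth.Agent.S7290
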