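import Groth.Statements.S7296
import Mathlib.CategoryTheory.Sites.CoverLifting
import Mathlib.CategoryTheory.Adjunction.Triple
import Mathlib.CategoryTheory.Abelian.RightDerived
import Mathlib.CategoryTheory.Adjunction.Limits

set_option autoImplicit false
set_option linter.style.haveILetI false
open CategoryTheory CategoryTheory.Limits AlgebraicGeometry Opposite
universe u
open ProEtS

namespace Groth.Agent.S7296

/-- For an abelian sheaf F on the small pro-etale site of a scheme S: write u for the inclusion of the
small pro-etale site into the big pro-etale site of S (schemes over S with the pro-etale topology),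
u_s for pullback of abelian sheaves along u (left adjoint to the restriction u^s). Then the unit F →
u^s u_s F is an isomorphism and R^q u^s (u_s F) = 0 for every q > 0; together these say that F → R
u^s (u_s F) is an isomorphism. (Additivity of the restriction functor and the existence of injective
resolutions for abelian sheaves on the big pro-etale site, both of which hold, are recorded as
instance hypotheses.) -/
theorem result (S : Scheme.{u})
    [((Scheme.ProEt.forget S).sheafPushforwardContinuous AddCommGrpCat.{u + 1} (Scheme.ProEt.topology S)
      (Scheme.proetaleTopology.over S)).Additive]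
    [HasInjectiveResolutions (Sheaf (Scheme.proetaleTopology.over S) AddCommGrpCat.{u + 1})]
    (F : ProEtS.AbP S) :
    IsIso (((Scheme.ProEt.forget S).sheafAdjunctionContinuous AddCommGrpCat.{u + 1}
      (Scheme.ProEt.topology S) (Scheme.proetaleTopology.over S)).unit.app F) ∧
    ∀ q : ℕ, 0 < q →
      IsZero ((((Scheme.ProEt.forget S).sheafPushforwardContinuous AddCommGrpCat.{u + 1}
        (Scheme.ProEt.topology S) (Scheme.proetaleTopology.over S)).rightDerived q).obj
        (((Scheme.ProEt.forget S).sheafPullback AddCommGrpCat.{u + 1} (Scheme.ProEt.topology S)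
          (Scheme.proetaleTopology.over S)).obj F)) := by
  let Gf := Scheme.ProEt.forget S
  let J := Scheme.ProEt.topology S
  let K := Scheme.proetaleTopology.over S
  haveI : Gf.IsCocontinuous J K := by
    rw [show J = (Scheme.ProEt.forget S).inducedTopology K from Scheme.ProEt.topology_eq_inducedTopology S,
      ← @Functor.restrictedTopology_eq_inducedTopology _ _ _ _ (Scheme.ProEt.forget S) K (by
        rw [Functor.isContinuous_iff_coverPreserving]
        exact (Scheme.ProEt.forget S).coverPreserving_restrictedTopology K)]
    infer_instance
  let t : CategoryTheory.Adjunction.Triple (Gf.sheafPullback AddCommGrpCat.{u + 1} J K)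
      (Gf.sheafPushforwardContinuous AddCommGrpCat.{u + 1} J K)
      (Gf.sheafPushforwardCocontinuous AddCommGrpCat.{u + 1} J K) :=
    ⟨Gf.sheafAdjunctionContinuous AddCommGrpCat.{u + 1} J K, Gf.sheafAdjunctionCocontinuous AddCommGrpCat.{u + 1} J K⟩
  haveI : IsIso t.adj₂.counit := by
    haveI : ∀ Y, IsIso (t.adj₂.counit.app Y) := fun Y => by
      haveI : IsIso ((sheafToPresheaf J AddCommGrpCat.{u + 1}).map (t.adj₂.counit.app Y)) := by
        change IsIso ((Gf.sheafAdjunctionCocontinuous AddCommGrpCat.{u + 1} J K).counit.app Y).hom
        rw [Functor.sheafAdjunctionCocontinuous_counit_app_hom]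
        simp only [Functor.ranAdjunction_counit]
        haveI : Gf.op.Full := inferInstanceAs (Scheme.ProEt.forget S).op.Full
        haveI : Gf.op.Faithful := inferInstanceAs (Scheme.ProEt.forget S).op.Faithful
        haveI : ∀ X, IsIso ((Gf.op.ranCounit.app Y.obj).app X) := fun X =>
          (Gf.op.isPointwiseRightKanExtensionRanCounit Y.obj (Gf.op.obj X)).isIso_hom_app
        exact @NatIso.isIso_of_isIso_app _ _ _ _ _ _ _ this
      exact isIso_of_reflects_iso _ (sheafToPresheaf J AddCommGrpCat.{u + 1})
    exact NatIso.isIso_of_isIso_app _
  haveI : IsIso t.adj₁.unit := t.isIso_unit_iff_isIso_counit.2 inferInstance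
  refine ⟨inferInstanceAs (IsIso (t.adj₁.unit.app F)), fun q hq => ?_⟩
  obtain ⟨n, rfl⟩ := Nat.exists_eq_succ_of_ne_zero hq.ne'
  let G := Gf.sheafPushforwardContinuous AddCommGrpCat.{u + 1} J K
  haveI : PreservesColimitsOfSize.{0, 0} G := t.adj₂.leftAdjoint_preservesColimits
  haveI : PreservesLimitsOfSize.{0, 0} G := t.adj₁.rightAdjoint_preservesLimits
  haveI : G.PreservesHomology := Functor.preservesHomologyOfExact G
  let I : InjectiveResolution ((Gf.sheafPullback AddCommGrpCat.{u + 1} J K).obj F) :=
    HasInjectiveResolution.out.some
  refine IsZero.of_iso ?_ (I.isoRightDerivedObj G (n + 1))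
  refine (HomologicalComplex.exactAt_iff_isZero_homology _ _).1 ?_
  rw [HomologicalComplex.exactAt_iff' _ n (n + 1) (n + 2) (by simp) (by simp)]
  exact (I.exact_succ n).map G

end Groth.Agent.S7296
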