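import Groth.Statements.S7299
import Groth.Agent.Lib.RatSing29.PowIdeal
import Groth.Agent.Lib.RatSing29.SeqH1
import Groth.Agent.Lib.ArSurf29.Fibre

set_option autoImplicit false
universe u
open CategoryTheory CategoryTheory.Limits AlgebraicGeometry
open Resolve

namespace Groth.Agent.S7299

/-- Let (A, m) be a local normal Nagata domain of dimension two defining a rational singularity, f : X →
Spec A a proper morphism from an integral normal scheme which is an isomorphism over some nonempty
open, and suppose the closed fibre, with ideal sheaf I = m O_X, is an effective Cartier divisor.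
Then for every n ≥ 0, H^1(X, I^n) = 0 and H^0(X, I^n) = m^n: an element of A, viewed as a global
function on X, lies in I^n on every affine open if and only if it belongs to m^n. -/
theorem result (A : Type u) [CommRing A] [IsDomain A] [IsLocalRing A] [IsNoetherianRing A]
    [IsIntegrallyClosed A] (hN : CAlg.IsNagata A) (hdim : ringKrullDim A = 2) (hA : Curv2.IsRationalSing A)
    (X : Scheme.{u}) (f : X ⟶ Spec (CommRingCat.of A)) [IsProper f] [IsIntegral X] (hXn : Pi1.IsNormalScheme X)
    (hbir : ∃ U : (Spec (CommRingCat.of A)).Opens, (U : Set (Spec (CommRingCat.of A))).Nonempty ∧ IsIso (f ∣_ U))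
    (hE : BlowUp.IsEffCartierIdeal ((Curv2.idealSheaf A (IsLocalRing.maximalIdeal A)).comap f)) (n : ℕ) :
    Subsingleton (Coh.HH X (ClSub.idealMod (((Curv2.idealSheaf A (IsLocalRing.maximalIdeal A)).comap f) ^ n)) 1) ∧
      ∀ a : A, (∀ U : X.affineOpens,
          Coh.resTop X (Opposite.op U.1) (Coh.toGlobal f a) ∈ (((Curv2.idealSheaf A (IsLocalRing.maximalIdeal A)).comap f) ^ n).ideal U) ↔
        a ∈ IsLocalRing.maximalIdeal A ^ n := by
  letI : X.Over (Spec (CommRingCat.of A)) := ⟨f⟩
  haveI : CompactSpace X := QuasiCompact.compactSpace_of_compactSpace f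
  haveI : QuasiSeparatedSpace X := quasiSeparatedSpace_of_quasiSeparated f
  set I := (Curv2.idealSheaf A (IsLocalRing.maximalIdeal A)).comap f with hIdef
  obtain ⟨r, a, ha⟩ := Submodule.fg_iff_exists_fin_generating_family.1 (IsNoetherian.noetherian (IsLocalRing.maximalIdeal A))
  have ha' : IsLocalRing.maximalIdeal A = Ideal.span (Set.range a) := ha.symm
  have hI : GrothLib.RatSing29.GenBy I a := fun U => by
    refine (GrothLib.BlowUp.ideal_comap_eq_map (X := X) (Curv2.idealSheaf A (IsLocalRing.maximalIdeal A))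
      f ⟨⊤, isAffineOpen_top _⟩ U le_top).trans ?_
    rw [Curv2.idealSheaf, Scheme.IdealSheafData.ofIdealTop_ideal, ha']
    simp only [Ideal.map_span, ← Set.range_comp]
    rfl
  have h2 := fun (K : X.Modules) (hK : K.IsQuasicoherent) =>
    @GrothLib.RatSing29.subsingleton_HH_two_le A _ _ _ _ X f _ _ hdim hbir K hK 2 one_lt_two
  have h1 := hA X f inferInstance inferInstance hXn hbir
  refine ⟨GrothLib.RatSing29.subsingleton_H1_pow hI hE h2 h1 n, ?_⟩
  obtain ⟨O, hO, hOi⟩ := hbir
  have hnS : ∀ z, IsIntegrallyClosed ((Spec (CommRingCat.of A)).presheaf.stalk z) := fun z => by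
    haveI : IsIntegrallyClosed (Localization.AtPrime z.asIdeal) :=
      isIntegrallyClosed_of_isLocalization _ z.asIdeal.primeCompl z.asIdeal.primeCompl_le_nonZeroDivisors
    exact IsIntegrallyClosed.of_equiv (AlgebraicGeometry.Spec.stalkIso (CommRingCat.of A) z).symm.commRingCatIsoToRingEquiv
  haveI happ := GrothLib.RatSing29.isIso_app_of_birational f hnS O hO hOi ⊤
  have hsur : ∀ y : Γ(X, ⊤), ∃ b : A, Coh.toGlobal f b = y := fun y => by
    obtain ⟨z, hz⟩ := (ConcreteCategory.bijective_of_isIso (f.app ⊤)).2 y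
    obtain ⟨b, rfl⟩ := (ConcreteCategory.bijective_of_isIso (Scheme.ΓSpecIso (CommRingCat.of A)).inv).2 z
    exact ⟨b, hz⟩
  have hinj : Function.Injective (Coh.toGlobal f) := fun b b' h =>
    (ConcreteCategory.bijective_of_isIso (Scheme.ΓSpecIso (CommRingCat.of A)).inv).1
      ((ConcreteCategory.bijective_of_isIso (f.app ⊤)).1 h)
  have hmem : ∀ (b : A) (U : X.affineOpens), b ∈ IsLocalRing.maximalIdeal A →
      GrothLib.RatSing29.gOn X b U.1 ∈ I.ideal U := fun b U hb => by
    rw [hI U]
    rw [ha'] at hb
    obtain ⟨c, rfl⟩ := Ideal.mem_span_range_iff_exists_fun.1 hb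
    refine Ideal.mem_span_range_iff_exists_fun.2 ⟨fun i => GrothLib.RatSing29.gOn X (c i) U.1, ?_⟩
    simp only [GrothLib.RatSing29.gOn, map_sum, map_mul]
    exact ((map_sum (X.presheaf.map (homOfLE (le_top : U.1 ≤ ⊤)).op).hom _ _).trans
      (Finset.sum_congr rfl fun i _ => map_mul _ _ _)).symm
  have key : ∀ (k : ℕ) (b : A), (∀ U : X.affineOpens, GrothLib.RatSing29.gOn X b U.1 ∈ (I ^ k).ideal U) →
      b ∈ IsLocalRing.maximalIdeal A ^ k := by
    intro k
    induction k with
    | zero => intro b _; simp
    | succ k ih =>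
      intro b hb
      rcases k with - | k
      · by_contra hbm
        rw [zero_add, pow_one] at hbm
        have hu : IsUnit b := by
          by_contra h
          exact hbm h
        have hη := GrothLib.RatSing29.apply_genericPoint f O hO hOi
        obtain ⟨x, -, hx⟩ := f.isClosedMap.specializingMap (show f (genericPoint X) ⤳ IsLocalRing.closedPoint A from
          IsLocalRing.specializes_closedPoint _)
        obtain ⟨U, hxU, -⟩ := GrothLib.BlowUp.exists_affine_mem_le (W := (⊤ : X.Opens)) (x := x) trivial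
        have hxs : x ∈ (I.support : Set X) := by
          rw [hIdef, Scheme.IdealSheafData.support_comap]
          show f x ∈ ((Curv2.idealSheaf A (IsLocalRing.maximalIdeal A)).support : Set (Spec (CommRingCat.of A)))
          rw [Curv2.idealSheaf, Scheme.IdealSheafData.coe_support_ofIdealTop, Spec_zeroLocus, ← Ideal.coe_comap,
            Ideal.comap_map_of_bijective _ (ConcreteCategory.bijective_of_isIso (Scheme.ΓSpecIso (CommRingCat.of A)).inv),
            hx]
          exact (PrimeSpectrum.zeroLocus_eq_singleton _).ge rfl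
        have htop : I.ideal U = ⊤ := Ideal.eq_top_of_isUnit_mem (x := GrothLib.RatSing29.gOn X b U.1) _ (by simpa using hb U)
          ((hu.map (Coh.toGlobal f)).map (X.presheaf.map (homOfLE (le_top : U.1 ≤ ⊤)).op).hom)
        have := (Scheme.IdealSheafData.mem_support_iff_of_mem hxU).1 hxs
        rw [htop] at this
        simp at this
        exact this hxU
      · obtain ⟨s, hs⟩ : ∃ s : Γ(GrothLib.RatSing29.P I (k + 1 + 1), ⊤),
            GrothLib.IdealModSec.val (I ^ (k + 1 + 1)) ⊤ s = Coh.toGlobal f b := by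
          refine (GrothLib.IdealModSec.app_kernel (ClSub.toSubscheme (I ^ (k + 1 + 1))) ⊤).2 _ ?_
          refine (I ^ (k + 1 + 1)).subscheme.sheaf.eq_of_locally_eq'
            (fun U : X.affineOpens => (I ^ (k + 1 + 1)).subschemeι ⁻¹ᵁ U.1) _ (fun U => homOfLE le_top)
            (fun z _ => ?_) _ _ fun U => ?_
          · obtain ⟨U, hxU, -⟩ := GrothLib.BlowUp.exists_affine_mem_le (W := (⊤ : X.Opens))
              (x := (I ^ (k + 1 + 1)).subschemeι z) trivial
            exact TopologicalSpace.Opens.mem_iSup.2 ⟨U, hxU⟩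
          · have h3 := hb U
            rw [← Scheme.IdealSheafData.ker_subschemeι_app, RingHom.mem_ker] at h3
            refine Eq.trans ?_ (map_zero _).symm
            exact (ConcreteCategory.congr_hom ((I ^ (k + 1 + 1)).subschemeι.naturality
              (homOfLE (le_top : U.1 ≤ ⊤)).op) (Coh.toGlobal f b)).symm.trans h3
        obtain ⟨v, hv⟩ := GrothLib.RatSing29.exists_combination hI hE h2 h1 k s
        choose c hc using fun i => hsur (GrothLib.IdealModSec.val (I ^ (k + 1)) ⊤ (v i))
        have hcm : ∀ i, c i ∈ IsLocalRing.maximalIdeal A ^ (k + 1) := fun i => ih (c i) fun U => by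
          show X.presheaf.map (homOfLE (le_top : U.1 ≤ ⊤)).op (Coh.toGlobal f (c i)) ∈ _
          rw [hc i]
          have h4 := GrothLib.IdealModSec.val_mem (I ^ (k + 1)) U
            (GrothLib.InvExt.mres _ (le_top : U.1 ≤ ⊤) (v i))
          rw [GrothLib.IdealModSec.val_mres] at h4
          exact h4
        have hb' : b = ∑ i, a i * c i := by
          refine hinj ?_
          rw [map_sum, ← hs, ← hv]
          refine Finset.sum_congr rfl fun i _ => ?_
          rw [map_mul, hc i]
          refine congrArg (· * _) ?_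
          show X.presheaf.map (homOfLE (le_top : (⊤ : X.Opens) ≤ ⊤)).op (Coh.toGlobal f (a i)) = _
          simp
        rw [hb', pow_succ']
        exact Ideal.sum_mem _ fun i _ => Ideal.mul_mem_mul (ha' ▸ Ideal.subset_span ⟨i, rfl⟩) (hcm i)
  refine fun b => ⟨key n b, fun hb U => ?_⟩
  show GrothLib.RatSing29.gOn X b U.1 ∈ _
  rw [GrothLib.RatSing29.ideal_pow_eq]
  have hmap : (IsLocalRing.maximalIdeal A).map ((X.presheaf.map (homOfLE (le_top : U.1 ≤ ⊤)).op).hom.comp
      (Coh.toGlobal f)) ≤ I.ideal U := Ideal.map_le_iff_le_comap.2 fun b hb => hmem b U hb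
  have h5 := Ideal.mem_map_of_mem ((X.presheaf.map (homOfLE (le_top : U.1 ≤ ⊤)).op).hom.comp (Coh.toGlobal f)) hb
  rw [Ideal.map_pow] at h5
  exact Ideal.pow_right_mono hmap n h5

end Groth.Agent.S7299
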