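import Groth.Statements.S7304
import Groth.Agent.Lib.BlowUp.Universal
import Groth.Agent.Lib.BlowUp.Exists
import Groth.Agent.Lib.CTensor.Ext

set_option autoImplicit false
universe u
open CategoryTheory CategoryTheory.Limits AlgebraicGeometry
open Resolve

namespace Groth.Agent.S7304

/-- Let (A, m) be a Noetherian local ring with m-adic completion A^, and U ⊂ Spec A, U^ ⊂ Spec A^ the
punctured spectra. If c : Y → Spec A^ is a U^-admissible blowing up (a blowing up in a
quasi-coherent ideal of finite type whose support misses U^), then there is a U-admissible blowing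
up b : X → Spec A such that Y is isomorphic, over Spec A^, to the base change of X to Spec A^. -/
theorem result (A : Type u) [CommRing A] [IsLocalRing A] [IsNoetherianRing A]
    (Y : Scheme.{u}) (c : Y ⟶ Spec (CommRingCat.of (Curv2.cpl A)))
    (J : (Spec (CommRingCat.of (Curv2.cpl A))).IdealSheafData)
    (hJ : BlowUp.IsAdmissibleFor (FEt.puncturedSpec (Curv2.cpl A)) J) (hc : BlowUp.IsBlowUp c J) :
    ∃ (I : (Spec (CommRingCat.of A)).IdealSheafData) (X : Scheme.{u}) (b : X ⟶ Spec (CommRingCat.of A)),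
      BlowUp.IsAdmissibleFor (FEt.puncturedSpec A) I ∧ BlowUp.IsBlowUp b I ∧
      ∃ e : Y ≅ Curv2.bcCpl A b, e.hom ≫ Curv2.bcCplSnd A b = c := by
  have hsupI : ∀ (B : Type u) [CommRing B] (I : Ideal B), ((Curv2.idealSheaf B I).support : Set (Spec (CommRingCat.of B))) = PrimeSpectrum.zeroLocus I := by
    intro B _ I
    rw [Curv2.idealSheaf, Scheme.IdealSheafData.coe_support_ofIdealTop, Spec_zeroLocus, ← Ideal.coe_comap,
      Ideal.comap_map_of_bijective _ (ConcreteCategory.bijective_of_isIso (Scheme.ΓSpecIso (CommRingCat.of B)).inv)]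
  let m := IsLocalRing.maximalIdeal A
  let C := Curv2.cpl A
  let al := algebraMap A C
  let g : Spec (CommRingCat.of C) ⟶ Spec (CommRingCat.of A) := Spec.map (CommRingCat.ofHom al)
  haveI : Flat g := by
    rw [HasRingHomProperty.Spec_iff (P := @Flat), CommRingCat.hom_ofHom]
    exact RingHom.flat_algebraMap_iff.2 (AdicCompletion.flat_of_isNoetherian m)
  let Jt : Ideal C := (J.ideal ⟨⊤, isAffineOpen_top _⟩).map (Scheme.ΓSpecIso (CommRingCat.of C)).hom.hom
  have hJt : Curv2.idealSheaf C Jt = J := by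
    refine Scheme.IdealSheafData.ext_of_isAffine ?_
    simp [Curv2.idealSheaf, Jt, Ideal.map_map]
    rw [← CommRingCat.hom_comp, Iso.hom_inv_id]
    exact Ideal.map_id _
  have hmC : m.map al = IsLocalRing.maximalIdeal C := (AdicCompletion.maximalIdeal_eq_map).symm
  have hsupp : ∀ q : PrimeSpectrum C, Jt ≤ q.asIdeal → q = IsLocalRing.closedPoint C := by
    intro q hq
    by_contra hne
    have h1 : q ∈ ((Curv2.idealSheaf C Jt).support : Set (Spec (CommRingCat.of C))) := by
      rw [hsupI]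
      exact hq
    rw [hJt] at h1
    exact Set.disjoint_left.1 hJ.2 h1 hne
  obtain ⟨N, hN⟩ : ∃ N, IsLocalRing.maximalIdeal C ^ N ≤ Jt := by
    refine Ideal.exists_pow_le_of_le_radical_of_fg ?_ (IsNoetherian.noetherian _)
    rw [Ideal.radical_eq_sInf]
    refine le_sInf fun q hq => ?_
    have := hsupp ⟨q, hq.2⟩ hq.1
    exact (congrArg PrimeSpectrum.asIdeal this).ge
  let I₀ : Ideal A := Jt.comap al
  have hI₀ : m ^ N ≤ I₀ := by
    refine Ideal.map_le_iff_le_comap.1 ?_
    rw [Ideal.map_pow, hmC]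
    exact hN
  have hmap : I₀.map al = Jt := by
    refine le_antisymm Ideal.map_comap_le fun t ht => ?_
    obtain ⟨s, hs⟩ := GrothLib.CTensor.exists_sub_mem_pow m (IsNoetherian.noetherian _) t N
    have h1 : t - al s ∈ Jt := hN (hmC ▸ hs)
    have h2 : s ∈ I₀ := by
      show al s ∈ Jt
      simpa using sub_mem ht h1
    rw [show t = al s + (t - al s) by ring]
    refine add_mem (Ideal.mem_map_of_mem al h2) ?_
    have h3 : t - al s ∈ (m ^ N).map al := by
      rw [Ideal.map_pow]
      exact hs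
    exact Ideal.map_mono hI₀ h3
  let I := Curv2.idealSheaf A I₀
  have hIg : I.comap g = J := by
    rw [← hJt]
    refine Scheme.IdealSheafData.ext_of_isAffine ?_
    rw [GrothLib.BlowUp.ideal_comap_eq_map I g ⟨⊤, isAffineOpen_top _⟩ ⟨⊤, isAffineOpen_top _⟩ le_top]
    rw [← hmap]
    simp only [I, Curv2.idealSheaf, Scheme.IdealSheafData.ofIdealTop_ideal, Ideal.map_map, ← CommRingCat.hom_comp]
    refine congrArg (fun φ => Ideal.map φ I₀) ?_
    have h1 := Scheme.ΓSpecIso_inv_naturality (CommRingCat.ofHom al)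
    rw [Scheme.Hom.appTop, Scheme.Hom.app_eq_appLE] at h1
    exact congrArg CommRingCat.Hom.hom h1.symm
  obtain ⟨X, b, hb⟩ := GrothLib.BlowUp.exists_isBlowUp (Spec (CommRingCat.of A)) I
  have hP := GrothLib.BlowUp.isBlowUp_flat_baseChange g hb
  rw [hIg] at hP
  refine ⟨I, X, b, ⟨fun V => ?_, ?_⟩, hb, ?_⟩
  · haveI : IsNoetherianRing Γ(Spec (CommRingCat.of A), V.1) := IsLocallyNoetherian.component_noetherian V
    exact IsNoetherian.noetherian _
  · rw [Set.disjoint_left]
    intro q hq hq'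
    refine hq' ?_
    simp only [I] at hq
    rw [hsupI] at hq
    refine PrimeSpectrum.ext ?_
    refine (((IsLocalRing.maximalIdeal.isMaximal A).eq_of_le q.isPrime.ne_top ?_)).symm
    intro a ha
    exact q.isPrime.mem_of_pow_mem N (hq (hI₀ (Ideal.pow_mem_pow ha N)))
  obtain ⟨k, hk, -⟩ := hP.2 Y c hc.1
  obtain ⟨l, hl, -⟩ := hc.2 _ _ hP.1
  have hkl : k ≫ l = 𝟙 Y := (hc.2 Y c hc.1).unique (by simp only [Category.assoc, hl, hk]) (Category.id_comp _)
  have hlk : l ≫ k = 𝟙 _ := (hP.2 _ _ hP.1).unique (by simp only [Category.assoc, hk, hl]) (Category.id_comp _)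
  refine ⟨⟨k, l, hkl, hlk⟩ ≪≫ pullbackSymmetry g b, ?_⟩
  simp only [Iso.trans_hom, Category.assoc, Curv2.bcCplSnd]
  rw [pullbackSymmetry_hom_comp_snd]
  exact hk

end Groth.Agent.S7304
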