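import Groth.Statements.S7301
import Groth.Agent.Lib.RatSing29.Completion
import Groth.Agent.Lib.AdicExtra.Completion
import Groth.Agent.Lib.BCCoh.FlatBC
import Groth.Agent.Lib.RatSing29.SeqH1
import Groth.Agent.S1274
import Groth.Agent.S7304

set_option autoImplicit false
universe u
open CategoryTheory CategoryTheory.Limits AlgebraicGeometry
open Resolve TopologicalSpace

namespace Groth.Agent.S7301

/-- Let (A, m) be a Nagata local normal domain of dimension two which defines a rational singularity,
and assume the m-adic completion of A is a normal domain. Then the completion defines a rational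
singularity as well. -/
theorem result (A : Type u) [CommRing A] [IsDomain A] [IsLocalRing A] [IsNoetherianRing A]
    [IsIntegrallyClosed A] (hN : CAlg.IsNagata A) (hdim : ringKrullDim A = 2) (hA : Curv2.IsRationalSing A)
    [IsDomain (Curv2.cpl A)] [IsIntegrallyClosed (Curv2.cpl A)] : Curv2.IsRationalSing (Curv2.cpl A) := by
  let m := IsLocalRing.maximalIdeal A
  let C := Curv2.cpl A
  let S := Spec (CommRingCat.of A)
  let T := Spec (CommRingCat.of C)
  let al : A →+* C := algebraMap A C
  let gh : T ⟶ S := Spec.map (CommRingCat.ofHom al)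
  have half : al.Flat := RingHom.flat_algebraMap_iff.2 (AdicCompletion.flat_of_isNoetherian m)
  haveI : Flat gh := by
    rw [HasRingHomProperty.Spec_iff (P := @Flat), CommRingCat.hom_ofHom]
    exact half
  have hdimC : ringKrullDim C = 2 := GrothLib.AdicExtra.ringKrullDim_adicCompletion.trans hdim
  have hsupI : ∀ (B : Type u) [CommRing B] (I : Ideal B), ((Curv2.idealSheaf B I).support : Set (Spec (CommRingCat.of B))) = PrimeSpectrum.zeroLocus I := by
    intro B _ I
    rw [Curv2.idealSheaf, Scheme.IdealSheafData.coe_support_ofIdealTop, Spec_zeroLocus, ← Ideal.coe_comap,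
      Ideal.comap_map_of_bijective _ (ConcreteCategory.bijective_of_isIso (Scheme.ΓSpecIso (CommRingCat.of B)).inv)]
  intro Y h hh hY hYn hYb
  haveI := hh; haveI := hY
  have hUne : ((FEt.puncturedSpec C : T.Opens) : Set T).Nonempty := by
    refine ⟨genericPoint T, fun hc => ?_⟩
    have hsub : Subsingleton (PrimeSpectrum C) := ⟨fun a b => by
      have : ∀ a : T, a = IsLocalRing.closedPoint C := fun a =>
        ((IsLocalRing.specializes_closedPoint a).antisymm
          (show IsLocalRing.closedPoint C ⤳ a from (show genericPoint T = IsLocalRing.closedPoint C from hc) ▸ genericPoint_specializes a)).eq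
      rw [this a, this b]⟩
    have h0 := topologicalKrullDim_zero_of_discreteTopology (PrimeSpectrum C)
    rw [PrimeSpectrum.topologicalKrullDim_eq_ringKrullDim, hdimC] at h0
    norm_num at h0
  haveI hUi : IsIso (h ∣_ FEt.puncturedSpec C) :=
    GrothLib.RatSing29.isIso_restrict_punctured hdimC h hYb (FEt.puncturedSpec C) (fun hc => hc rfl)
  haveI : IsNoetherian T := inferInstance
  obtain ⟨J, Sb, b₀, hb₀, hadm, k, hk⟩ := Groth.Agent.S1274.result h (FEt.puncturedSpec C) (NoetherianSpace.isCompact _)
  obtain ⟨I, X, b, hIadm, hb, e, he⟩ := Groth.Agent.S7304.result A Sb b₀ J hadm hb₀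
  let M : S.IdealSheafData := Curv2.idealSheaf A m
  let E := I * M
  have hEsupp : (E.support : Set S) = {IsLocalRing.closedPoint A} := by
    rw [Scheme.IdealSheafData.support_mul, TopologicalSpace.Closeds.coe_sup, hsupI A m,
      PrimeSpectrum.zeroLocus_eq_singleton]
    refine Set.union_eq_right.2 fun q hq => ?_
    by_contra hne
    exact Set.disjoint_left.1 hIadm.2 hq hne
  have hEne : E ≠ ⊥ := by
    intro hE
    have : (genericPoint S) ∈ (E.support : Set S) := by rw [hE, Scheme.IdealSheafData.support_bot]; trivial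
    rw [hEsupp] at this
    have hsub : Subsingleton (PrimeSpectrum A) := ⟨fun a b => by
      have : ∀ a : S, a = IsLocalRing.closedPoint A := fun a =>
        ((IsLocalRing.specializes_closedPoint a).antisymm
          (show IsLocalRing.closedPoint A ⤳ a from (Set.mem_singleton_iff.1 this) ▸ genericPoint_specializes a)).eq
      rw [this a, this b]⟩
    have h0 := topologicalKrullDim_zero_of_discreteTopology (PrimeSpectrum A)
    rw [PrimeSpectrum.topologicalKrullDim_eq_ringKrullDim, hdim] at h0
    norm_num at h0
  obtain ⟨W, g, hg, hW, hWn, hgb, hgE⟩ := GrothLib.RatSing29.exists_normal_blowUp S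
    (GrothLib.RatSing29.isNagata_spec hN) E hEne
  haveI := hg; haveI := hW
  have hgI : _root_.BlowUp.IsEffCartierIdeal (I.comap g) := by
    rw [GrothLib.BlowUp.comap_mul] at hgE
    exact (GrothLib.BlowUp.isEffCartierIdeal_factors_of_mul hgE).1
  obtain ⟨v, hv, -⟩ := hb.2 W g hgI
  let P := pullback g gh
  let sP : P ⟶ T := pullback.snd g gh
  let pP : P ⟶ W := pullback.fst g gh
  haveI : Flat pP := MorphismProperty.pullback_fst g gh inferInstance
  haveI : IsProper sP := MorphismProperty.pullback_snd g gh hg
  let v' : P ⟶ Curv2.bcCpl A b := pullback.lift (pP ≫ v) sP (by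
    rw [Category.assoc, hv]; exact pullback.condition)
  let q : P ⟶ Y := v' ≫ e.inv ≫ k
  have hq : q ≫ h = sP := by
    have h1 : e.inv ≫ b₀ = Curv2.bcCplSnd A b := by rw [← he, Iso.inv_hom_id_assoc]
    simp only [q, Category.assoc, hk, h1]
    exact pullback.lift_snd _ _ _
  haveI : IsProper q := by
    haveI : IsProper (q ≫ h) := by rw [hq]; infer_instance
    exact IsProper.of_comp q h
  haveI : IsLocallyNoetherian P := LocallyOfFiniteType.isLocallyNoetherian sP
  have hcl : ∀ t : T, gh t = IsLocalRing.closedPoint A → t = IsLocalRing.closedPoint C := by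
    intro t ht
    refine PrimeSpectrum.ext ?_
    refine (((IsLocalRing.maximalIdeal.isMaximal C).eq_of_le t.isPrime.ne_top ?_)).symm
    rw [AdicCompletion.maximalIdeal_eq_map, Ideal.map_le_iff_le_comap]
    exact (congrArg PrimeSpectrum.asIdeal ht).ge
  let O : T.Opens := gh ⁻¹ᵁ E.support.compl
  have hOcp : IsLocalRing.closedPoint C ∉ O := by
    intro hc
    refine hc (show gh (IsLocalRing.closedPoint C) ∈ (E.support : Set S) from ?_)
    rw [hEsupp]
    refine PrimeSpectrum.ext ?_
    exact IsLocalRing.maximalIdeal_comap al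
  haveI hgO : IsIso (g ∣_ E.support.compl) := GrothLib.RatSing29.isIso_restrict_punctured hdim g hgb _
    (fun hc => hc (show IsLocalRing.closedPoint A ∈ (E.support : Set S) by rw [hEsupp]; rfl))
  haveI hsO : IsIso (sP ∣_ O) :=
    GrothLib.Nagata6.isIso_restrict_of_pullback (IsPullback.of_hasPullback g gh) E.support.compl O le_rfl
  have hOne : (O : Set T).Nonempty := by
    obtain ⟨t, ht⟩ := hUne
    exact ⟨t, fun hc => ht (hcl t (by
      have h1 : gh t ∈ (E.support : Set S) := hc
      rw [hEsupp] at h1
      exact h1))⟩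
  haveI : IsIntegral (O : Scheme.{u}) := by
    haveI : Nonempty (O : Scheme.{u}) := ⟨⟨_, hOne.some_mem⟩⟩
    exact isIntegral_of_isOpenImmersion O.ι
  haveI : IsIntegral P := by
    refine GrothLib.RatSing29.isIntegral_of_effCartier_compl (D := E.comap (pP ≫ g))
      (by rw [Scheme.IdealSheafData.comap_comp]; exact GrothLib.BlowUp.isEffCartierIdeal_comap_of_flat _ hgE) ?_
    have hsub : ((E.comap (pP ≫ g)).support.compl : P.Opens) = sP ⁻¹ᵁ O := by
      ext t
      show t ∉ (E.comap (pP ≫ g)).support ↔ gh (sP t) ∉ E.support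
      rw [Scheme.IdealSheafData.support_comap, ← Scheme.Hom.comp_apply, ← pullback.condition]
      rfl
    rw [hsub]
    haveI : Nonempty (sP ⁻¹ᵁ O : P.Opens).toScheme := ⟨(sP ∣_ O).homeomorph.symm ⟨_, hOne.some_mem⟩⟩
    exact isIntegral_of_isOpenImmersion (sP ∣_ O)
  have hP1 : Subsingleton (Coh.HH P (Coh.structureModule P) 1) := by
    haveI : CompactSpace W := QuasiCompact.compactSpace_of_compactSpace g
    haveI : W.IsSeparated := ⟨by rw [← terminal.comp_from g]; infer_instance⟩
    obtain ⟨e1⟩ := GrothLib.BCCoh.exists_flatBC al half g sP pP (IsPullback.of_hasPullback g gh) (Coh.structureModule W) 1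
    haveI : Subsingleton (Coh.HH W (Coh.structureModule W) 1) := hA W g hg hW hWn hgb
    letI : Algebra A C := al.toAlgebra
    letI := GrothLib.BCCoh.modHH g (Coh.structureModule W) 1
    have h1 : Subsingleton (TensorProduct A C (Coh.HH W (Coh.structureModule W) 1)) :=
      ⟨fun a b => by
        have : ∀ a : TensorProduct A C (Coh.HH W (Coh.structureModule W) 1), a = 0 := fun a => by
          induction a using TensorProduct.induction_on with
          | zero => rfl
          | tmul c x => rw [Subsingleton.elim x 0, TensorProduct.tmul_zero]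
          | add x y hx hy => rw [hx, hy, add_zero]
        rw [this a, this b]⟩
    letI : P.Over (Spec (CommRingCat.of C)) := ⟨sP⟩
    obtain ⟨e2, -⟩ := GrothLib.FormalFn.exists_hh_equiv (A := C) (PicLoc.pullbackStructureIso pP) 1
    haveI := e1.toEquiv.symm.subsingleton
    exact e2.toEquiv.symm.subsingleton
  have hqO : IsIso (q ∣_ (h ⁻¹ᵁ O)) := by
    haveI : IsIso (h ∣_ O) := GrothLib.RatSing29.isIso_restrict_punctured hdimC h hYb O hOcp
    have h1 := hsO
    rw [← hq, morphismRestrict_comp] at h1
    exact @IsIso.of_isIso_comp_right _ _ _ _ _ (q ∣_ (h ⁻¹ᵁ O)) (h ∣_ O) this h1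
  haveI : IsIso (h ∣_ O) := GrothLib.RatSing29.isIso_restrict_punctured hdimC h hYb O hOcp
  obtain ⟨y₀, -⟩ := (h ∣_ O).homeomorph.surjective ⟨_, hOne.some_mem⟩
  exact GrothLib.RatSing29.subsingleton_of_source q
    (GrothLib.RatSing29.isIso_app_of_birational q (fun y => (hYn y).2) (h ⁻¹ᵁ O) ⟨_, y₀.2⟩ hqO) hP1

end Groth.Agent.S7301
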