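import Groth.Statements.S7321
import Groth.Agent.Lib.CurveResol29.Basic
-- import your own Groth.Agent.* helpers here

set_option autoImplicit false
universe u
open CategoryTheory CategoryTheory.Limits AlgebraicGeometry
open Resolve

namespace Groth.Agent.S7321

/-- Let Y be an integral Noetherian scheme of dimension one. Then (1) there is an alteration X → Y with
X regular, if and only if (2) Y has a resolution of singularities, i.e. a proper morphism X → Y from
an integral regular scheme which is an isomorphism over a nonempty open of Y; and (2) holds if and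
only if (4) the normalization morphism of Y is finite. (A further equivalent condition, a finite
sequence of blowings up in closed points ending in a regular scheme, is stated separately. The
quasi-compactness and quasi-separatedness binders on Spec K(Y) → Y always hold; they are needed only
to form the normalization.) -/
theorem result (Y : Scheme.{u}) [IsIntegral Y] [IsNoetherian Y]
    (hdim : topologicalKrullDim Y = 1)
    [QuasiCompact (Y.fromSpecStalk (genericPoint Y))] [QuasiSeparated (Y.fromSpecStalk (genericPoint Y))] :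
    ((∃ (X : Scheme.{u}) (g : X ⟶ Y), Curv2.IsAlteration g ∧ ∀ x : X, IsRegularLocalRing (X.presheaf.stalk x)) ↔
      (∃ (X : Scheme.{u}) (g : X ⟶ Y), IsProper g ∧ IsIntegral X ∧
        (∃ V : Y.Opens, (V : Set Y).Nonempty ∧ IsIso (g ∣_ V)) ∧ ∀ x : X, IsRegularLocalRing (X.presheaf.stalk x))) ∧
    ((∃ (X : Scheme.{u}) (g : X ⟶ Y), IsProper g ∧ IsIntegral X ∧
        (∃ V : Y.Opens, (V : Set Y).Nonempty ∧ IsIso (g ∣_ V)) ∧ ∀ x : X, IsRegularLocalRing (X.presheaf.stalk x)) ↔
      IsFinite (Curv2.normalizationι Y)) := by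
  have h31 : IsFinite (Curv2.normalizationι Y) →
      ∃ (X : Scheme.{u}) (g : X ⟶ Y), IsProper g ∧ IsIntegral X ∧
        (∃ V : Y.Opens, (V : Set Y).Nonempty ∧ IsIso (g ∣_ V)) ∧ ∀ x : X, IsRegularLocalRing (X.presheaf.stalk x) :=
    fun hfin => ⟨Curv2.normalization Y, Curv2.normalizationι Y, by haveI := hfin; infer_instance, inferInstance,
      GrothLib.NormFib.exists_isIso_of_finite hfin, GrothLib.CurveResol29.isRegular_normalization hdim.le hfin⟩
  have h21 : (∃ (X : Scheme.{u}) (g : X ⟶ Y), IsProper g ∧ IsIntegral X ∧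
        (∃ V : Y.Opens, (V : Set Y).Nonempty ∧ IsIso (g ∣_ V)) ∧ ∀ x : X, IsRegularLocalRing (X.presheaf.stalk x)) →
      ∃ (X : Scheme.{u}) (g : X ⟶ Y), Curv2.IsAlteration g ∧ ∀ x : X, IsRegularLocalRing (X.presheaf.stalk x) := by
    rintro ⟨X, g, hg, hX, ⟨V, hV, hiso⟩, hreg⟩
    haveI := hiso
    refine ⟨X, g, ⟨hg, hX, inferInstance, ?_, V, hV, inferInstance⟩, hreg⟩
    refine ⟨Dense.mono ?_ (V.isOpen.dense hV)⟩
    intro y hy
    obtain ⟨x, hx⟩ := (g ∣_ V).surjective ⟨y, hy⟩
    refine ⟨(g ⁻¹ᵁ V).ι x, ?_⟩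
    have := congrArg (fun φ => φ x) (morphismRestrict_ι g V)
    exact this.symm.trans (congrArg Subtype.val hx)
  have h13 : (∃ (X : Scheme.{u}) (g : X ⟶ Y), Curv2.IsAlteration g ∧ ∀ x : X, IsRegularLocalRing (X.presheaf.stalk x)) →
      IsFinite (Curv2.normalizationι Y) := by
    rintro ⟨X, g, ⟨hg, hX, -, hd, -⟩, hreg⟩
    haveI := hg; haveI := hX; haveI := hd
    exact GrothLib.CurveResol29.isFinite_normalizationι_of_alteration g hreg
  exact ⟨⟨fun h => h31 (h13 h), h21⟩, ⟨fun h => h13 (h21 h), h31⟩⟩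

end Groth.Agent.S7321
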