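import Groth.Statements.S7322
import Groth.Agent.Lib.ExcP1.ElimApp

set_option autoImplicit false
universe u
open CategoryTheory CategoryTheory.Limits AlgebraicGeometry
open Resolve

namespace Groth.Agent.S7322

/-- Let X be an integral Noetherian scheme which is regular of dimension two and Z ⊂ X a closed
subscheme, with ideal sheaf I, different from X. Then there is a sequence of blowings up in closed
points g : X' → X (a finite composite of blowings up at closed points with regular two-dimensional
local rings, i.e. of contractions of exceptional curves of the first kind) such that the inverse
image of Z in X' is an effective Cartier divisor. (The published statement takes X any regular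
scheme of dimension two; for X the disjoint union of a regular surface and a regular curve C and Z =
C no blowing up in closed points makes the inverse image of Z Cartier, so X is taken integral here,
as the proof's largest-Cartier-divisor step requires.) -/
theorem result (X : Scheme.{u}) [IsIntegral X] [IsNoetherian X]
    (hreg : ∀ x : X, IsRegularLocalRing (X.presheaf.stalk x)) (hdim : topologicalKrullDim X = 2)
    (I : X.IdealSheafData) (hI : I ≠ ⊥) :
    ∃ (X' : Scheme.{u}) (g : X' ⟶ X), Models.IsContractionSeq g ∧ BlowUp.IsEffCartierIdeal (I.comap g) := by
  exact GrothLib.ExcP1.exists_seq_surface hI hreg hdim.le

end Groth.Agent.S7322
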