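import Groth.Statements.S7323
import Groth.Agent.Lib.ExcP1.Regular


set_option autoImplicit false
universe u
open CategoryTheory CategoryTheory.Limits AlgebraicGeometry
open Resolve

namespace Groth.Agent.S7323

/-- Let (A, m, κ) be a regular local ring of dimension two and b : X → Spec A the blowing up in m, with
exceptional divisor E ⊂ X and its ideal sheaf I_E = O_X(-E). Then there is a closed immersion r : X
→ P^1_A over Spec A such that O_X(E) = r^* O(-1), i.e. r^* O(1) ≅ I_E; and E is an exceptional curve
of the first kind: an effective Cartier divisor isomorphic to a projective line over a field, with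
conormal sheaf pulling back to O(1). (The published statement identifies E with P^1_κ through r
itself; this row only asserts that some field and some isomorphism with a projective line exist.) -/
theorem result (A : Type u) [CommRing A] [IsRegularLocalRing A] (hA : ringKrullDim A = 2)
    (X : Scheme.{u}) (b : X ⟶ Spec (CommRingCat.of A)) (hb : BlowUp.IsBlowUp b (Curv2.idealSheaf A (IsLocalRing.maximalIdeal A))) :
    (∃ r : X ⟶ CohB1.ProjSpace 1 A, IsClosedImmersion r ∧ r ≫ CohB1.ProjSpace.toSpec 1 A = b ∧
      Nonempty ((Scheme.Modules.pullback r).obj (Twist.twistProjSpace 1 A 1) ≅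
        ClSub.idealMod (BlowUp.exceptional b (Curv2.idealSheaf A (IsLocalRing.maximalIdeal A))))) ∧
    Models.IsExcCurve (BlowUp.exceptional b (Curv2.idealSheaf A (IsLocalRing.maximalIdeal A))).subschemeι := by
  obtain ⟨a, ha, hw⟩ := GrothLib.ExcP1.exists_regular_params A hA
  have hb' : BlowUp.IsBlowUp b (GrothLib.BlowUp.idealSheaf (GrothLib.BlowUp17.ctr a)) := by rw [ha]; exact hb
  obtain ⟨r, h1, h2, ⟨t⟩⟩ := GrothLib.ExcP1.exists_closedImmersion a hb'
  have hI : GrothLib.BlowUp.idealSheaf (GrothLib.BlowUp17.ctr a) = Curv2.idealSheaf A (IsLocalRing.maximalIdeal A) := by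
    rw [ha]; rfl
  rw [← hI]
  refine ⟨⟨r, h1, h2, ⟨t⟩⟩, GrothLib.ExcP1.isExcCurve_exceptional a hb' rfl hw ?_⟩
  rw [ha]; exact IsLocalRing.maximalIdeal.isMaximal A

end Groth.Agent.S7323
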