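import Groth.Statements.S7324
import Groth.Agent.Lib.Contract29.PicBlowUp
import Groth.Agent.Lib.Contract29.Degree
import Groth.Agent.Lib.SemiTriv10.Main
import Groth.Agent.Lib.ArSurf29.Inter

set_option autoImplicit false
universe u
open CategoryTheory CategoryTheory.Limits AlgebraicGeometry
open Resolve

namespace Groth.Agent.S7324

/-- Let (A, m) be a regular local ring of dimension two and b : X → Spec A the blowing up in m, with
exceptional divisor E, ideal sheaf I = O_X(-E), and M = O_X(E) an inverse of I for the tensor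
product. Then Pic(X) = Z generated by O_X(E): every invertible O_X-module is isomorphic to I^{⊗ n}
or to M^{⊗ n} for some n ≥ 0, and I^{⊗ n} is not isomorphic to O_X for n ≥ 1. -/
theorem result (A : Type u) [CommRing A] [IsRegularLocalRing A] (hA : ringKrullDim A = 2)
    (X : Scheme.{u}) (b : X ⟶ Spec (CommRingCat.of A)) (hb : BlowUp.IsBlowUp b (Curv2.idealSheaf A (IsLocalRing.maximalIdeal A)))
    (M : X.Modules) (hM : ClSub.IsInverseOf M (ClSub.idealMod (BlowUp.exceptional b (Curv2.idealSheaf A (IsLocalRing.maximalIdeal A))))) :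
    (∀ L : X.Modules, PicF.IsInvertible L → ∃ n : ℕ,
      Nonempty (L ≅ CohB1.tensorPow (ClSub.idealMod (BlowUp.exceptional b (Curv2.idealSheaf A (IsLocalRing.maximalIdeal A)))) n) ∨
        Nonempty (L ≅ CohB1.tensorPow M n)) ∧
    ∀ n : ℕ, 1 ≤ n →
      IsEmpty (CohB1.tensorPow (ClSub.idealMod (BlowUp.exceptional b (Curv2.idealSheaf A (IsLocalRing.maximalIdeal A)))) n ≅
        Coh.structureModule X) := by
  obtain ⟨a, ha, hreg⟩ := GrothLib.ExcP1.exists_regular_params A hA
  have hm : (GrothLib.BlowUp17.ctr a).IsMaximal := ha ▸ IsLocalRing.maximalIdeal.isMaximal A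
  have hsh : GrothLib.BlowUp.idealSheaf (GrothLib.BlowUp17.ctr a) = Curv2.idealSheaf A (IsLocalRing.maximalIdeal A) := by
    rw [ha]
    rfl
  rw [← hsh] at hb hM ⊢
  haveI : IsProper b := GrothLib.BlowUpProper.isProper_of_isBlowUp hb
  obtain ⟨k, _, j, hjc, ⟨hI, hT⟩, hsurj, hj, hgen⟩ := GrothLib.Contract29.exists_gen_near_line a hreg hm b hb
  haveI := hjc
  haveI : IsLocallyNoetherian X := LocallyOfFiniteType.isLocallyNoetherian b
  have hMi := GrothLib.ArSurf29.isInvertible_of_isInverseOf hb.1 hM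
  let T := GrothLib.Cube.clsMod (GrothLib.CMReg.isInvertible_twist (n := 1) (k := k) 1)
  have hMI : GrothLib.Cube.clsMod hMi * GrothLib.Cube.clsMod hI = 1 := by
    rw [← GrothLib.Cube.clsMod_tensorMod hMi hI]
    exact (GrothLib.Cube.clsMod_eq_one_iff _).2 hM
  have hT0 : ∀ n : ℤ, T ^ n = 1 → n = 0 := fun n hn => by
    rw [← GrothLib.Contract29.cls_twist_zpow k n, ← zpow_zero T, ← GrothLib.Contract29.cls_twist_zpow k 0] at hn
    obtain ⟨φ⟩ := (GrothLib.Cube.clsMod_eq_iff _ _).1 hn
    exact GrothLib.ProjPic26.eq_of_twist_iso (R := k) (n := 1) le_rfl φ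
  have htriv : ∀ (N : X.Modules) (hN : PicF.IsInvertible N), GrothLib.Cube.pull j (GrothLib.Cube.clsMod hN) = 1 →
      GrothLib.Cube.clsMod hN = 1 := fun N hN h => by
    obtain ⟨x₀, hx₀⟩ := hgen N hN h
    choose U hpU hU using hx₀
    have hO : GrothLib.InvExt.IsGen N (⨆ p, U p) (GrothLib.InvExt.mres N le_top x₀) :=
      GrothLib.InvExt.isGen_of_cover U (le_iSup U) le_rfl fun p => by rw [GrothLib.InvExt.mres_mres]; exact hU p
    let c := IsLocalRing.closedPoint A
    have hsub : b ⁻¹' {c} ⊆ ((⨆ p, U p : X.Opens) : Set X) := fun x hx => by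
      obtain ⟨p, hp⟩ := hsurj x (by
        rw [show b x = c from hx]
        obtain ⟨p₀⟩ : Nonempty (CohB1.ProjSpace 1 k) := by
          haveI : IsIntegral (CohB1.ProjSpace 1 k) := GrothLib.ProjDim.isIntegral_proj _ 1
          infer_instance
        have hz := hj p₀
        exact IsClosed.stableUnderSpecialization (Scheme.IdealSheafData.support _).isClosed (IsLocalRing.specializes_closedPoint _) hz)
      exact TopologicalSpace.Opens.mem_iSup.2 ⟨p, hp ▸ hpU p⟩
    obtain ⟨W, hcW, hW⟩ := GrothLib.Contract29.exists_nhd_of_fibre_subset b hsub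
    have hWtop : W = ⊤ := eq_top_iff.2 fun q _ => (IsLocalRing.specializes_closedPoint q).mem_open W.2 hcW
    have htop : (⊤ : X.Opens) ≤ ⨆ p, U p := fun x _ => hW (by
      show b x ∈ W
      rw [hWtop]
      trivial)
    exact (GrothLib.Cube.clsMod_eq_one_iff hN).2 (GrothLib.SemiTriv10.nonempty_iso_of_isGen_top _ (hO.restrict htop))
  have hpow : ∀ (n : ℕ), GrothLib.Cube.pull j (GrothLib.Cube.clsMod hI ^ n) = T ^ (n : ℤ) := fun n => by
    rw [map_pow, hT, zpow_natCast]
  refine ⟨fun L hL => ?_, fun n hn => ⟨fun φ => ?_⟩⟩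
  · obtain ⟨d, hd⟩ := GrothLib.Contract29.exists_cls_eq_zpow k (GrothLib.Ample.isInvertible_pullback j hL)
    rw [GrothLib.Cube.clsMod_pullback j hL] at hd
    have key : ∀ (P : X.Modules) (hP : PicF.IsInvertible P), GrothLib.Cube.pull j (GrothLib.Cube.clsMod hP) = T ^ d →
        Nonempty (L ≅ P) := fun P hP h => (GrothLib.Cube.clsMod_eq_iff hL hP).1 (by
      obtain ⟨Q, hQ, hQc⟩ := GrothLib.Contract29.exists_mod (GrothLib.Cube.clsMod hL * (GrothLib.Cube.clsMod hP)⁻¹)
      have := htriv Q hQ (by rw [hQc, map_mul, map_inv, hd, h, mul_inv_cancel])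
      rw [hQc] at this
      exact mul_inv_eq_one.1 this)
    obtain ⟨n, rfl | rfl⟩ := d.eq_nat_or_neg
    · exact ⟨n, Or.inl (key _ (GrothLib.Ample.isInvertible_tensorPow hI n) (by
        rw [GrothLib.Cube.clsMod_tensorPow hI, hpow]))⟩
    · exact ⟨n, Or.inr (key _ (GrothLib.Ample.isInvertible_tensorPow hMi n) (by
        rw [GrothLib.Cube.clsMod_tensorPow hMi, eq_inv_of_mul_eq_one_left hMI, map_pow, map_inv, hT, inv_pow,
          zpow_neg, zpow_natCast]))⟩
  · have h := (GrothLib.Cube.clsMod_eq_one_iff (GrothLib.Ample.isInvertible_tensorPow hI n)).2 ⟨φ⟩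
    have h2 := congrArg (GrothLib.Cube.pull j) h
    rw [GrothLib.Cube.clsMod_tensorPow hI, hpow, map_one] at h2
    have := hT0 _ h2
    omega

end Groth.Agent.S7324
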