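import Groth.Statements.S7325
import Groth.Agent.Lib.Contract29.PicBlowUp
import Groth.Agent.S7308
import Groth.Agent.Lib.SemiTriv10.Main

set_option autoImplicit false
universe u
open CategoryTheory CategoryTheory.Limits AlgebraicGeometry
open Resolve

namespace Groth.Agent.S7325

/-- Let X be a Noetherian scheme, ι : E → X a closed immersion which is an exceptional curve of the
first kind, and b : X → X' a contraction of E. Then pullback along b is injective on isomorphism
classes of invertible modules, and an invertible O_X-module L is the pullback of some invertible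
O_{X'}-module if and only if ι^* L ≅ O_E. (The published statement is a split short exact sequence 0
→ Pic(X') → Pic(X) → Z → 0 whose second map is the degree on E; this row states the injectivity of
the first map and the description of its image, and does not restate the degree map or the
splitting.) -/
theorem result {E X X' : Scheme.{u}} [IsNoetherian X] (ι : E ⟶ X) [IsClosedImmersion ι]
    (hE : Models.IsExcCurve ι) (b : X ⟶ X') (hb : Models.IsContractionOf ι b) :
    (∀ L₁ L₂ : X'.Modules, PicF.IsInvertible L₁ → PicF.IsInvertible L₂ →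
      Nonempty ((Scheme.Modules.pullback b).obj L₁ ≅ (Scheme.Modules.pullback b).obj L₂) → Nonempty (L₁ ≅ L₂)) ∧
    ∀ L : X.Modules, PicF.IsInvertible L →
      ((∃ L' : X'.Modules, PicF.IsInvertible L' ∧ Nonempty ((Scheme.Modules.pullback b).obj L' ≅ L)) ↔
        Nonempty ((Scheme.Modules.pullback ι).obj L ≅ Coh.structureModule E)) := by
  obtain ⟨hN, hbp, y, hy, hr, hreg, hd, hblow⟩ := id hb
  haveI := hN; haveI := hbp; haveI := hreg
  obtain ⟨-, k, _, e, -⟩ := id hE
  haveI : IsIntegral (CohB1.ProjSpace 1 k) := GrothLib.ProjDim.isIntegral_proj _ 1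
  haveI : IsReduced E := isReduced_of_isOpenImmersion e.inv
  have hfib := GrothLib.ExcP1.range_eq_fibre hy hd hblow ι k e hr
  have hoff := GrothLib.BlowUp.isIso_off_center hblow
  have hqf : LocallyQuasiFinite (Scheme.Opens.ι (X := X) ι.ker.support.compl ≫ b) := by
    let O := (Scheme.IdealSheafData.vanishingIdeal (⟨{y}, hy⟩ : TopologicalSpace.Closeds X')).support.compl
    haveI : IsIso (b ∣_ O) := hoff
    have hle : ι.ker.support.compl ≤ b ⁻¹ᵁ O := fun x hx hxO => hx (by
      have h1 : b x ∈ ((Scheme.IdealSheafData.vanishingIdeal (⟨{y}, hy⟩ : TopologicalSpace.Closeds X')).support : Set X') := hxO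
      rw [Scheme.IdealSheafData.coe_support_vanishingIdeal] at h1
      exact (Scheme.Hom.support_ker ι).ge (subset_closure (hfib.ge h1)))
    rw [← X.homOfLE_ι hle, Category.assoc, ← morphismRestrict_ι]
    infer_instance
  obtain ⟨hb', -, happ', -⟩ := GrothLib.Contract29.contraction_of_stein ι hE b y hr hqf
  obtain ⟨ε, hε, -⟩ := Groth.Agent.S7308.result ι hE _ hb' b hb
  have happ : ∀ V, IsIso (b.app V) := fun V => by
    rw [← hε, Scheme.Hom.comp_app]
    haveI := happ' (ε.hom ⁻¹ᵁ V)
    haveI : IsIso (ε.hom.app V) := inferInstance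
    exact @IsIso.comp_isIso _ _ _ _ _ _ _ inferInstance (happ' _)
  have hpull : ∀ L' : X'.Modules, ∀ hL' : PicF.IsInvertible L',
      GrothLib.Cube.pull b (GrothLib.Cube.clsMod hL') =
        GrothLib.Cube.clsMod (GrothLib.Ample.isInvertible_pullback b hL') :=
    fun L' hL' => (GrothLib.Cube.clsMod_pullback b hL').symm
  refine ⟨fun L₁ L₂ h₁ h₂ hi => (GrothLib.Cube.clsMod_eq_iff h₁ h₂).1 (GrothLib.Contract29.pull_injective b happ (by
    rw [hpull L₁ h₁, hpull L₂ h₂]
    exact (GrothLib.Cube.clsMod_eq_iff _ _).2 hi)), fun L hL => ⟨?_, fun ⟨t⟩ => ?_⟩⟩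
  · rintro ⟨L', hL', ⟨i⟩⟩
    refine ⟨(Scheme.Modules.pullback ι).mapIso i.symm ≪≫ (Scheme.Modules.pullbackComp ι b).app L' ≪≫ ?_⟩
    refine Classical.choice ?_
    obtain ⟨W, γ, hyW, hγ⟩ := GrothLib.InvExt.exists_gen_nhd hL' y
    have htop : (ι ≫ b) ⁻¹ᵁ W = ⊤ := eq_top_iff.2 fun a _ => by
      show (ι ≫ b) a ∈ W
      rw [show (ι ≫ b) a = y from hr.le ⟨a, rfl⟩]
      exact hyW
    have := GrothLib.PicAff28.isGen_pullRes (ι ≫ b) hL' hγ ⊤ htop.ge
    exact GrothLib.SemiTriv10.nonempty_iso_of_isGen_top _ this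
  · obtain ⟨P, hP⟩ := GrothLib.Contract29.exists_descent_of_trivial ι b happ hy hd hblow hfib hL (by
      rw [← GrothLib.Cube.clsMod_pullback ι hL]
      exact (GrothLib.Cube.clsMod_eq_one_iff _).2 ⟨t⟩)
    obtain ⟨L', hL', hc⟩ := GrothLib.Contract29.exists_mod P
    exact ⟨L', hL', (GrothLib.Cube.clsMod_eq_iff (GrothLib.Ample.isInvertible_pullback b hL') hL).1 (by
      rw [← hpull L' hL', hc, hP])⟩

end Groth.Agent.S7325
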