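import Groth.Statements.S7326
import Groth.Agent.Lib.ArSurf29.Torsion

set_option autoImplicit false
universe u
open CategoryTheory CategoryTheory.Limits AlgebraicGeometry
open Models

namespace Groth.Agent.S7326

/-- Let R be a discrete valuation ring with fraction field K, C a smooth proper curve over K with H^0(C,
O_C) = K, X a regular proper model of C, Γ_1, …, Γ_n the irreducible components of the closed fibre
with multiplicities m_i, d = gcd(m_i), and D = Σ (m_i/d) Γ_i the effective Cartier divisor with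
ideal sheaf I_D = Π I(Γ_i)^{m_i/d}. Then O_X(D) (any L with L ⊗ I_D ≅ O_X) has order dividing d in
Pic(X), i.e. L^{⊗ d} ≅ O_X, and the conormal sheaf I_D|_D, an invertible O_D-module, has order
dividing d in Pic(D). -/
theorem result (R : Type u) [CommRing R] [IsDomain R] [IsDiscreteValuationRing R]
    (C X : Scheme.{u}) (f : C ⟶ Spec (CommRingCat.of (FractionRing R))) (p : X ⟶ Spec (CommRingCat.of R))
    (hC : Curve.IsSmoothProperCurve (FractionRing R) C f) (hH0 : IsIso f.appTop)
    (hX : Models.IsRegularProperModel R X p C f)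
    {n : ℕ} (Γ : Fin n → ArSurf.VertComp R (Over.mk p)) (hΓ : Models.IsComponentList R (Over.mk p) Γ)
    (L : X.Modules)
    (hL : ClSub.IsInverseOf L (ClSub.idealMod (∏ i, (Γ i).ι.ker ^ (Models.mult R (Over.mk p) (Γ i) / Models.multGcd R (Over.mk p) Γ)))) :
    Nonempty (CohB1.tensorPow L (Models.multGcd R (Over.mk p) Γ) ≅ Coh.structureModule X) ∧
      Nonempty (CohB1.tensorPow ((Scheme.Modules.pullback
          (∏ i, (Γ i).ι.ker ^ (Models.mult R (Over.mk p) (Γ i) / Models.multGcd R (Over.mk p) Γ)).subschemeι).obj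
          (ClSub.idealMod (∏ i, (Γ i).ι.ker ^ (Models.mult R (Over.mk p) (Γ i) / Models.multGcd R (Over.mk p) Γ))))
          (Models.multGcd R (Over.mk p) Γ) ≅
        Coh.structureModule (∏ i, (Γ i).ι.ker ^ (Models.mult R (Over.mk p) (Γ i) / Models.multGcd R (Over.mk p) Γ)).subscheme) := by
  haveI : Flat (Over.mk p).hom := hX.1.1
  haveI : IsProper (Over.mk p).hom := hX.2.1
  haveI : IsLocallyNoetherian (Over.mk p).left :=
    LocallyOfFiniteType.isLocallyNoetherian (Over.mk p).hom
  obtain ⟨g, hg⟩ := hX.1.2.2.2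
  obtain ⟨LD, hLD⟩ := GrothLib.ArSurf29.exists_inverses (X := Over.mk p) hX.2.2 hΓ
  set d := Models.multGcd R (Over.mk p) Γ with hd
  set w : Fin n → ℕ := fun i => Models.mult R (Over.mk p) (Γ i) / d with hw
  have hD := GrothLib.ArSurf29.isEffCartier_prod hΓ hX.2.2 w
  have hI := GrothLib.IdealModSec.isInvertible_of_isEffCartier hD
  have hLi := GrothLib.ArSurf29.isInvertible_of_isInverseOf hD hL
  have hId : GrothLib.Cube.clsMod hI ^ d = 1 := by
    rw [GrothLib.ArSurf29.cls_idealMod_prod_pow hX.2.2 hΓ hLD w hI, inv_pow, inv_eq_one, ← Finset.prod_pow]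
    refine Eq.trans (Finset.prod_congr rfl fun j _ => ?_) (GrothLib.ArSurf29.cls_prod_inverse_pow hX.2.2 hΓ hLD)
    rw [← pow_mul, hw]
    exact congrArg _ (Nat.div_mul_cancel (Finset.gcd_dvd (Finset.mem_univ j)))
  constructor
  · refine (GrothLib.Cube.clsMod_eq_one_iff (GrothLib.Ample.isInvertible_tensorPow hLi d)).1 ?_
    rw [GrothLib.Cube.clsMod_tensorPow hLi, GrothLib.ArSurf29.cls_of_isInverseOf hLi hI hL, inv_pow, hId, inv_one]
  · have hP := GrothLib.Kleiman.isInv_pullback (∏ i, (Γ i).ι.ker ^ w i).subschemeι hI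
    refine (GrothLib.Cube.clsMod_eq_one_iff (GrothLib.Ample.isInvertible_tensorPow hP d)).1 ?_
    rw [GrothLib.Cube.clsMod_tensorPow hP, GrothLib.Cube.clsMod_pullback _ hI, ← map_pow, hId, map_one]

end Groth.Agent.S7326
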