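import Groth.Statements.S7328
import Groth.Agent.Lib.RightAdj20.SepBound
import Groth.Agent.Lib.RatSing29.TraceH1

set_option autoImplicit false
set_option maxHeartbeats 1000000
set_option linter.style.haveILetI false
set_option backward.isDefEq.respectTransparency false
universe u
open CategoryTheory CategoryTheory.Limits AlgebraicGeometry
open Resolve

namespace Groth.Agent.S7328

/-- Suppose A and B are two-dimensional local normal Nagata domains and A → B is an injective, finite,
local ring map for which the fraction field of B is separable over that of A. If A admits reduction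
to rational singularities (the lengths of the A-modules H^1(X, O_X), over all proper morphisms X →
Spec A from an integral normal scheme which are an isomorphism over a nonempty open, are bounded),
then B admits it as well (the same lengths for B are bounded). The fraction field of B is given an
algebra structure over that of A compatible with A → B. -/
theorem result (A B : Type u) [CommRing A] [CommRing B] [IsDomain A] [IsDomain B]
    [IsLocalRing A] [IsLocalRing B] [IsNoetherianRing A] [IsNoetherianRing B] [IsIntegrallyClosed A] [IsIntegrallyClosed B]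
    (hNA : CAlg.IsNagata A) (hNB : CAlg.IsNagata B) (hdA : ringKrullDim A = 2) (hdB : ringKrullDim B = 2)
    [Algebra A B] [Module.Finite A B] (hinj : Function.Injective (algebraMap A B)) [IsLocalHom (algebraMap A B)]
    [Algebra (FractionRing A) (FractionRing B)]
    (hcompat : ∀ a : A, algebraMap (FractionRing A) (FractionRing B) (algebraMap A (FractionRing A) a) =
      algebraMap B (FractionRing B) (algebraMap A B a))
    [Algebra.IsSeparable (FractionRing A) (FractionRing B)]
    (hA : (∃ N : ℕ, ∀ (X : Scheme.{u}) [X.Over (Spec (CommRingCat.of A))], IsProper (X ↘ Spec (CommRingCat.of A)) →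
        IsIntegral X → Pi1.IsNormalScheme X →
        (∃ U : (Spec (CommRingCat.of A)).Opens, (U : Set (Spec (CommRingCat.of A))).Nonempty ∧ IsIso ((X ↘ Spec (CommRingCat.of A)) ∣_ U)) →
        Module.length A (Coh.HH X (Coh.structureModule X) 1) ≤ (N : ℕ∞))) :
    (∃ N : ℕ, ∀ (X : Scheme.{u}) [X.Over (Spec (CommRingCat.of B))], IsProper (X ↘ Spec (CommRingCat.of B)) →
        IsIntegral X → Pi1.IsNormalScheme X →
        (∃ U : (Spec (CommRingCat.of B)).Opens, (U : Set (Spec (CommRingCat.of B))).Nonempty ∧ IsIso ((X ↘ Spec (CommRingCat.of B)) ∣_ U)) →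
        Module.length B (Coh.HH X (Coh.structureModule X) 1) ≤ (N : ℕ∞)) := by
  let K := FractionRing A
  let L := FractionRing B
  haveI : IsScalarTower A K L := IsScalarTower.of_algebraMap_eq fun a =>
    (IsScalarTower.algebraMap_apply A B L a).trans (hcompat a).symm
  haveI : FiniteDimensional K L := GrothLib.RatSing29.finiteDimensional_fractionRing hinj K L
  obtain ⟨d, hd, n, e, c₁, hdec⟩ := GrothLib.RightAdj20.Dom.exists_trace_decomposition hinj K L
  have hdB0 : algebraMap A B d ≠ 0 := fun h => hd (hinj (by rw [h, map_zero]))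
  obtain ⟨NA, hNA'⟩ := hA
  obtain ⟨T, hT⟩ := GrothLib.RightAdj20.TorsionBound.exists_bound_torsionBy hNB hdB hdB0
  refine ⟨n * NA + T, fun X _ hp hi hXn hbX => ?_⟩
  haveI := hp
  haveI := hi
  obtain ⟨c, hc0, hdom⟩ := GrothLib.RightAdj20.Dom.exists_dominating hinj (X ↘ Spec (CommRingCat.of B)) hbX
  obtain ⟨Bl, b, hb⟩ := GrothLib.BlowUp.exists_isBlowUp (Spec (CommRingCat.of A)) (GrothLib.BlowUp.idealSheaf c)
  haveI : IsProper b := GrothLib.BlowUpProper.isProper_of_isBlowUp hb
  have hbb : ∃ U : (Spec (CommRingCat.of A)).Opens, (U : Set ↥(Spec (CommRingCat.of A))).Nonempty ∧ IsIso (b ∣_ U) := by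
    refine ⟨_, ⟨(⊥ : PrimeSpectrum A), ?_⟩, GrothLib.BlowUp.isIso_off_center hb⟩
    show (⊥ : PrimeSpectrum A) ∉ (GrothLib.BlowUp.idealSheaf c).support
    intro hmem
    obtain ⟨a, ha, ha0⟩ := Submodule.exists_mem_ne_zero_of_ne_bot hc0
    rw [GrothLib.BlowUp.idealSheaf, ← SetLike.mem_coe, Scheme.IdealSheafData.coe_support_ofIdealTop,
      Spec_zeroLocus] at hmem
    exact ha0 (Ideal.mem_bot.1 (hmem (Ideal.mem_map_of_mem _ ha)))
  obtain ⟨Y, fY, π₁, π₂, hYp, hYi, hYn, hbY, hπ₁, hπ₂⟩ := GrothLib.RatSing29.exists_normal_join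
    (GrothLib.RatSing29.isNagata_spec hNA) b (𝟙 (Spec (CommRingCat.of A))) hbb ⟨⊤, ⟨(⊥ : PrimeSpectrum A), trivial⟩, inferInstance⟩
  haveI := hYp
  haveI := hYi
  obtain ⟨Y', hY'i, π, hπs, hπf, h, hY'n, hhq, hhp, hbY'⟩ :=
    GrothLib.RightAdj20.Dom.exists_normal_cover_over hinj K L hYn fY hbY
  haveI := hY'i; haveI := hπs; haveI := hπf; haveI := hhp
  letI : Y.Over (Spec (CommRingCat.of A)) := ⟨fY⟩
  letI : Y'.Over (Spec (CommRingCat.of B)) := ⟨h⟩
  have hprin : ∀ z : Y', (c.map ((GrothLib.RightAdj20.Dom.toStk h z).comp (algebraMap A B))).IsPrincipal := by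
    intro z
    let g := π ≫ π₁
    obtain ⟨V, hV, γ, -, hγ⟩ := hb.1 (g z)
    let φ : A →+* Γ(Bl, V.1) := (Bl.presheaf.map (homOfLE le_top).op).hom.comp (Coh.toGlobal b)
    have hφ : V.2.fromSpec ≫ b = Spec.map (CommRingCat.ofHom φ) := by
      have hf : b = Bl.toSpecΓ ≫ Spec.map ((Scheme.ΓSpecIso (CommRingCat.of A)).inv ≫ b.appTop) := by
        rw [Spec.map_comp, ← Scheme.toSpecΓ_naturality_assoc, toSpecΓ_SpecMap_ΓSpecIso_inv, Category.comp_id]
      conv_lhs => rw [hf]
      rw [IsAffineOpen.fromSpec_toSpecΓ_assoc, ← Spec.map_comp]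
      rfl
    rw [GrothLib.DetRank12.ideal_comap_idealSheaf c b V φ hφ] at hγ
    let ψ : Γ(Bl, V.1) →+* Y'.presheaf.stalk z :=
      (g.stalkMap z).hom.comp (Bl.presheaf.germ V.1 (g z) hV).hom
    have hψ : (GrothLib.RightAdj20.Dom.toStk h z).comp (algebraMap A B) = ψ.comp φ := by
      refine RingHom.ext fun a => ?_
      show Y'.presheaf.germ ⊤ z trivial (Coh.toGlobal h (algebraMap A B a)) =
        g.stalkMap z (Bl.presheaf.germ V.1 (g z) hV (Bl.presheaf.map (homOfLE le_top).op (Coh.toGlobal b a)))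
      rw [TopCat.Presheaf.germ_res_apply, Scheme.Hom.germ_stalkMap_apply,
        ← GrothLib.RightAdj20.Dom.toGlobal_spec_map h a]
      refine congrArg (Y'.presheaf.germ ⊤ z trivial) ?_
      rw [hhq, ← hπ₁, ← Category.assoc]
      rfl
    rw [hψ, ← Ideal.map_map, hγ, Ideal.map_span, Set.image_singleton]
    exact ⟨⟨_, rfl⟩⟩
  obtain ⟨g, hg⟩ := hdom Y' h hY'n hbY' hprin
  haveI : HasInjectiveResolutions Y'.Modules := by
    haveI : IsGrothendieckAbelian.{u} Y'.Modules :=
      GrothLib.SheafCoh.isGrothendieckAbelian_sheafOfModules (R := Y'.ringCatSheaf)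
    infer_instance
  haveI : IsProper (Y' ↘ Spec (CommRingCat.of B)) := hhp
  have h38 := (Groth.Agent.S7338.result B hdB X Y' hbX hbY' hXn g hg).2.2.2
  refine le_trans ?_ (GrothLib.RightAdj20.Dom.length_le K L hdec π hYn hhq hbY hbY' NA T (hNA' Y hYp hYi hYn hbY)
    (hT Y' hhp hY'i hY'n hbY'))
  rw [h38]
  exact le_self_add

end Groth.Agent.S7328
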