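import Groth.Statements.S7330
import Groth.Agent.Lib.RatSing29.MaxModif
import Groth.Agent.Lib.ProperFib19.DVR
import Groth.Agent.Lib.RpushSupp20.Main

set_option autoImplicit false
universe u
open CategoryTheory CategoryTheory.Limits AlgebraicGeometry
open Resolve TopologicalSpace

namespace Groth.Agent.S7330

/-- Let (A, m) be a local normal Nagata domain of dimension two for which reduction to rational
singularities is possible (the lengths of H^1(X, O_X) over all proper morphisms X → Spec A from an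
integral normal scheme which are an isomorphism over a nonempty open are bounded). Then there is
such a normal modification f : X → Spec A, with f projective, such that at each closed point x of X
the stalk O_{X,x} is a rational singularity. (The published statement obtains X by a finite sequence
of normalized blowings up in closed points; this row asserts only the resulting modification.) -/
theorem result (A : Type u) [CommRing A] [IsDomain A] [IsLocalRing A] [IsNoetherianRing A]
    [IsIntegrallyClosed A] (hN : CAlg.IsNagata A) (hdim : ringKrullDim A = 2)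
    (hA : (∃ N : ℕ, ∀ (X : Scheme.{u}) [X.Over (Spec (CommRingCat.of A))], IsProper (X ↘ Spec (CommRingCat.of A)) →
        IsIntegral X → Pi1.IsNormalScheme X →
        (∃ U : (Spec (CommRingCat.of A)).Opens, (U : Set (Spec (CommRingCat.of A))).Nonempty ∧ IsIso ((X ↘ Spec (CommRingCat.of A)) ∣_ U)) →
        Module.length A (Coh.HH X (Coh.structureModule X) 1) ≤ (N : ℕ∞))) :
    ∃ (X : Scheme.{u}) (f : X ⟶ Spec (CommRingCat.of A)), IsProper f ∧ IsIntegral X ∧ Pi1.IsNormalScheme X ∧
      (∃ U : (Spec (CommRingCat.of A)).Opens, (U : Set (Spec (CommRingCat.of A))).Nonempty ∧ IsIso (f ∣_ U)) ∧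
      RelProj.IsProjective f ∧
      ∀ x : X, IsClosed ({x} : Set X) → Curv2.IsRationalSing (X.presheaf.stalk x) := by
  classical
  obtain ⟨N, hN'⟩ := hA
  let P : ℕ∞ → Prop := fun l => ∃ (X : Scheme.{u}) (_ : X.Over (Spec (CommRingCat.of A))),
    IsProper (X ↘ Spec (CommRingCat.of A)) ∧ IsIntegral X ∧ Pi1.IsNormalScheme X ∧
    (∃ U : (Spec (CommRingCat.of A)).Opens, (U : Set (Spec (CommRingCat.of A))).Nonempty ∧
      IsIso ((X ↘ Spec (CommRingCat.of A)) ∣_ U)) ∧
    l ≤ Module.length A (Coh.HH X (Coh.structureModule X) 1)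
  have hP0 : P 0 := by
    refine ⟨Spec (CommRingCat.of A), ⟨𝟙 _⟩, ?_, inferInstance, GrothLib.ProperFib19.isNormalScheme_spec A,
      ⟨⊤, ⟨IsLocalRing.closedPoint A, trivial⟩, ?_⟩, zero_le⟩
    · exact inferInstanceAs (IsProper (𝟙 (Spec (CommRingCat.of A))))
    · show IsIso ((𝟙 (Spec (CommRingCat.of A))) ∣_ ⊤)
      infer_instance
  obtain ⟨k, hk, hk'⟩ : ∃ k : ℕ, P k ∧ ∀ j : ℕ, k < j → ¬ P j := by
    by_contra hc
    push_neg at hc
    have : ∀ j : ℕ, ∃ i : ℕ, j ≤ i ∧ P i := by
      intro j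
      induction j with
      | zero => exact ⟨0, le_rfl, hP0⟩
      | succ j ih =>
        obtain ⟨i, hji, hi⟩ := ih
        obtain ⟨m, hm, hm'⟩ := hc i hi
        exact ⟨m, by omega, hm'⟩
    obtain ⟨i, hi, X, hX, hXp, hXi, hXn, hXb, hl⟩ := this (N + 1)
    letI := hX
    have h1 := hl.trans (hN' X hXp hXi hXn hXb)
    have h2 : i ≤ N := by exact_mod_cast h1
    omega
  obtain ⟨X₀, hX₀, hp₀, hi₀, hn₀, ⟨U, hU, hUi⟩, hl₀⟩ := hk
  letI := hX₀; haveI := hp₀; haveI := hi₀
  let f₀ := X₀ ↘ Spec (CommRingCat.of A)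
  haveI : IsProper f₀ := hp₀
  haveI : IsIso (f₀ ∣_ U) := hUi
  obtain ⟨J, Sb, b, hbJ, hadm, l, hl⟩ := Groth.Agent.S1274.result f₀ U (NoetherianSpace.isCompact _)
  have hJ : J ≠ ⊥ := by
    rintro rfl
    obtain ⟨u, hu⟩ := hU
    exact Set.disjoint_left.1 hadm.2 (show u ∈ ((⊥ : (Spec (CommRingCat.of A)).IdealSheafData).support : Set _) by
      rw [Scheme.IdealSheafData.support_bot]; trivial) hu
  obtain ⟨W, g, hg, hW, hWn, hWb, hgJ, hgp⟩ := GrothLib.RatSing29.exists_projective_normal_blowUp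
    (Spec (CommRingCat.of A)) (GrothLib.RatSing29.isNagata_spec hN) J hJ
  haveI := hg; haveI := hW
  obtain ⟨v, hv, -⟩ := hbJ.2 W g hgJ
  letI : W.Over (Spec (CommRingCat.of A)) := ⟨g⟩
  haveI : IsProper (W ↘ Spec (CommRingCat.of A)) := hg
  letI := GrothLib.RpushSupp20.hasInjectiveResolutions W
  obtain ⟨-, -, -, hlen⟩ := Groth.Agent.S7338.result A hdim X₀ W ⟨U, hU, hUi⟩ hWb hn₀ (v ≫ l)
    (by simp only [Category.assoc]; exact (congrArg (v ≫ ·) hl).trans hv)
  have hge : (k : ℕ∞) ≤ Module.length A (Coh.HH W (Coh.structureModule W) 1) :=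
    hl₀.trans (hlen ▸ le_self_add)
  have hfin : Module.length A (Coh.HH W (Coh.structureModule W) 1) ≠ ⊤ :=
    ne_top_of_le_ne_top (ENat.coe_ne_top N) (hN' W hg hW hWn hWb)
  refine ⟨W, g, hg, hW, hWn, hWb, hgp, fun x _ => ?_⟩
  refine GrothLib.RatSing29.isRationalSing_stalk_of_max hN hdim hWn hWb hfin ?_ x
  intro W' hW' hW'p hW'i hW'n hW'b
  obtain ⟨m, hm⟩ := ENat.ne_top_iff_exists.1
    (ne_top_of_le_ne_top (ENat.coe_ne_top N) (hN' W' hW'p hW'i hW'n hW'b))
  refine le_trans ?_ hge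
  by_contra hc
  rw [← hm] at hc
  exact hk' m (by exact_mod_cast not_le.1 hc) ⟨W', hW', hW'p, hW'i, hW'n, hW'b, hm.le⟩

end Groth.Agent.S7330
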