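import Groth.Statements.S7331
import Groth.Agent.Lib.CplNormal29.Models
-- import your own Groth.Agent.* helpers here

set_option autoImplicit false
universe u
open CategoryTheory CategoryTheory.Limits AlgebraicGeometry
open Models

namespace Groth.Agent.S7331

/-- Let R be a discrete valuation ring with fraction field K, f : V → Spec K a geometrically normal
variety (separated, of finite type, integral, and V_{K'} normal for every field extension K'/K), and
X an (integral) model of V over R. Then the normalization morphism X' → X is finite, and for every
point x of X' the completion of O_{X',x} is a normal domain. (The published statement also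
identifies the base change of X' to the completion of R with the normalization of the base change of
X; this row does not restate that part. The quasi-compactness and quasi-separatedness binders on
Spec K(X) → X always hold.) -/
theorem result (R : Type u) [CommRing R] [IsDomain R] [IsDiscreteValuationRing R]
    (V X : Scheme.{u}) (f : V ⟶ Spec (CommRingCat.of (FractionRing R))) (p : X ⟶ Spec (CommRingCat.of R))
    [IsIntegral V] [IsSeparated f] [LocallyOfFiniteType f] [QuasiCompact f]
    (hgn : ∀ (K' : Type u) [Field K'] [Algebra (FractionRing R) K'],
      Pi1.IsNormalScheme (pullback f (Spec.map (CommRingCat.ofHom (algebraMap (FractionRing R) K')))))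
    (hX : Models.IsModel R X p V f) [IsIntegral X]
    [QuasiCompact (X.fromSpecStalk (genericPoint X))] [QuasiSeparated (X.fromSpecStalk (genericPoint X))] :
    IsFinite (Curv2.normalizationι X) ∧
      ∀ x : ↥(Curv2.normalization X), IsDomain (Curv2.cpl ((Curv2.normalization X).presheaf.stalk x)) ∧
        IsIntegrallyClosed (Curv2.cpl ((Curv2.normalization X).presheaf.stalk x)) := by
  exact GrothLib.CplNormal29.normalization_of_model f p hgn hX

end Groth.Agent.S7331
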