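import Groth.Statements.S7335
import Groth.Agent.Lib.RightAdj20.RatTrace
import Groth.Agent.S1650
import Groth.Agent.S2348
import Groth.Agent.Lib.BlowUpProper.Basic

set_option autoImplicit false
set_option maxHeartbeats 1000000
set_option linter.style.haveILetI false
set_option backward.isDefEq.respectTransparency false
universe u
open CategoryTheory CategoryTheory.Limits AlgebraicGeometry
attribute [local instance] HasDerivedCategory.standard
open Resolve

namespace Groth.Agent.S7335

/-- Let (A, m) be a local normal Nagata domain of dimension two which defines a rational singularity, is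
not regular, and has a dualizing module ω_A; let b : X → Spec A be the blowing up in m, with
exceptional ideal sheaf I = O_X(1), and let ω_X be the dualizing module of X normalized relative to
ω_A (the degree-zero cohomology sheaf of b^!(ω_A~), with b^! the right adjoint of Rb_* on D_QCoh;
these existence statements are carried as hypotheses). Then H^1(X, ω_X(n)) = 0 for all n ≥ 0, where
ω_X(n) = ω_X ⊗ I^{⊗ n}. -/
theorem result (A : Type u) [CommRing A] [IsDomain A] [IsLocalRing A] [IsNoetherianRing A]
    [IsIntegrallyClosed A] (hN : CAlg.IsNagata A) (hdim : ringKrullDim A = 2) (hA : Curv2.IsRationalSing A)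
    (hnr : ¬ IsRegularLocalRing A)
    (X : Scheme.{u}) (f : X ⟶ Spec (CommRingCat.of A)) (hb : BlowUp.IsBlowUp f (Curv2.idealSheaf A (IsLocalRing.maximalIdeal A)))
    (ωA : Type u) [AddCommGroup ωA] [Module A ωA] (hω : Dual.IsDualizing A (Dual.inD A ωA))
    [PreservesFiniteLimits (tilde.functor (CommRingCat.of A))]
    [DCoh.HasRpush f] (h : DCoh.RpushPreservesQCoh f) [DCoh.HasShriek f h]
    (WA : DCoh.DQCoh (Spec (CommRingCat.of A))) (hWA : Nonempty (WA.obj ≅ (DCoh.tildeD (CommRingCat.of A)).obj (Dual.inD A ωA))) (n : ℕ) :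
    Subsingleton (Coh.HH X (CohB1.tensorMod (DCoh.dualizingMod f h WA 0)
      (CohB1.tensorPow (ClSub.idealMod (BlowUp.exceptional f (Curv2.idealSheaf A (IsLocalRing.maximalIdeal A)))) n)) 1) := by
  obtain ⟨e⟩ := hWA
  have hne : IsLocalRing.maximalIdeal A ≠ ⊥ := fun h0 => by
    rw [ringKrullDim_eq_zero_of_isField (IsLocalRing.isField_iff_maximalIdeal_eq.2 h0)] at hdim
    norm_num at hdim
  let J := Curv2.idealSheaf A (IsLocalRing.maximalIdeal A)
  haveI hp : IsProper f := GrothLib.BlowUpProper.isProper_of_isBlowUp hb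
  obtain ⟨t, ht, ht0⟩ := Submodule.exists_mem_ne_zero_of_ne_bot hne
  have hJ : J ≠ ⊥ := fun h0 => ht0 (by
    have h1 : (Scheme.ΓSpecIso (CommRingCat.of A)).inv t ∈ J.ideal ⟨⊤, isAffineOpen_top _⟩ := by
      rw [show J.ideal ⟨⊤, isAffineOpen_top _⟩ = _ from GrothLib.BlowUp.ideal_idealSheaf_top _]
      exact Ideal.mem_map_of_mem _ ht
    rw [h0, Scheme.IdealSheafData.ideal_bot] at h1
    exact (ConcreteCategory.bijective_of_isIso (Scheme.ΓSpecIso (CommRingCat.of A)).inv).1
      ((show (Scheme.ΓSpecIso (CommRingCat.of A)).inv t = 0 by simpa using h1).trans (map_zero _).symm))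
  haveI : IsIntegral X := (Groth.Agent.S2348.result J hJ f hb).choose
  have hXn : Pi1.IsNormalScheme X := Groth.Agent.S1650.result A hN hdim hA X f hb
  have hbir : ∃ U : (Spec (CommRingCat.of A)).Opens, (U : Set (Spec (CommRingCat.of A))).Nonempty ∧ IsIso (f ∣_ U) := by
    refine ⟨J.support.compl, Set.nonempty_compl.2 fun h0 => hJ ?_, GrothLib.BlowUp.isIso_off_center hb⟩
    exact Scheme.IdealSheafData.support_eq_top_iff.1 (SetLike.coe_injective h0)
  letI : X.Over (Spec (CommRingCat.of A)) := ⟨f⟩
  haveI : CompactSpace X := QuasiCompact.compactSpace_of_compactSpace f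
  haveI : QuasiSeparatedSpace X := quasiSeparatedSpace_of_quasiSeparated f
  obtain ⟨r, a, ha⟩ := Submodule.fg_iff_exists_fin_generating_family.1 (IsNoetherian.noetherian (IsLocalRing.maximalIdeal A))
  have hω0 : ∀ i : ℤ, i ≠ 0 → IsZero (DCoh.HD WA.obj i) := fun i hi => by
    let M := Dual.inD A ωA
    have hM : IsZero ((DerivedCategory.homologyFunctor (ModuleCat.{u} A) i).obj M) := by
      haveI : M.IsGE 0 := inferInstanceAs (((DerivedCategory.singleFunctor (ModuleCat.{u} A) 0).obj _).IsGE 0)
      haveI : M.IsLE 0 := inferInstanceAs (((DerivedCategory.singleFunctor (ModuleCat.{u} A) 0).obj _).IsLE 0)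
      rcases lt_or_gt_of_ne hi with h' | h'
      · exact DerivedCategory.isZero_of_isGE M 0 i h'
      · exact DerivedCategory.isZero_of_isLE M 0 i h'
    exact ((tilde.functor (CommRingCat.of A)).map_isZero hM).of_iso
      ((DerivedCategory.homologyFunctor _ i).mapIso e ≪≫ GrothLib.OX.HDTildeIso (R := CommRingCat.of A) M i)
  have h1 := GrothLib.RightAdj20.subsingleton_H1_dualizing A hN hdim hA f hXn hbir h _ hω WA e hω0
  haveI : (DCoh.HD ((DCoh.shriek f h).obj WA).obj 0).IsQuasicoherent := ((DCoh.shriek f h).obj WA).property 0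
  exact (GrothLib.RightAdj20.subsingleton_H1_twist (GrothLib.RatSing29.genBy_comap a ha.symm) hb.1
    (fun K hK => GrothLib.RatSing29.subsingleton_HH_two_le f hdim hbir K 2 one_lt_two) _ h1 n).2

end Groth.Agent.S7335
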