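import Groth.Statements.S7336
import Groth.Agent.Lib.RatSing29.FactorFun

set_option autoImplicit false
universe u
open CategoryTheory CategoryTheory.Limits AlgebraicGeometry
open Resolve TopologicalSpace

namespace Groth.Agent.S7336

/-- Let (A, m) be a local Noetherian normal domain of dimension two and f : X → Spec A a proper morphism
from an integral scheme which is an isomorphism over some nonempty open and is not an isomorphism
(so that every irreducible component of the closed fibre is a curve). Then there is a nonzero a ∈ m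
such that for every irreducible component C of the closed fibre, with generic point ξ, there are a
closed point x ∈ C lying on no other component and a factorization a = g · q in O_{X,x} with g in
the maximal ideal of O_{X,x} and g not vanishing identically on C near x, i.e. the image of g in
O_{X,ξ} is a unit. -/
theorem result (A : Type u) [CommRing A] [IsDomain A] [IsLocalRing A] [IsNoetherianRing A]
    [IsIntegrallyClosed A] (hdim : ringKrullDim A = 2)
    (X : Scheme.{u}) (f : X ⟶ Spec (CommRingCat.of A)) [IsProper f] [IsIntegral X]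
    (hbir : ∃ U : (Spec (CommRingCat.of A)).Opens, (U : Set (Spec (CommRingCat.of A))).Nonempty ∧ IsIso (f ∣_ U)) (hf : ¬ IsIso f) :
    ∃ a : A, a ≠ 0 ∧ a ∈ IsLocalRing.maximalIdeal A ∧
      ∀ C ∈ irreducibleComponents ↥(f.base ⁻¹' {IsLocalRing.closedPoint A}),
        ∃ (x ξ : ↥(f.base ⁻¹' {IsLocalRing.closedPoint A})) (hξx : (ξ : X) ⤳ (x : X)),
          x ∈ C ∧ IsGenericPoint ξ C ∧ IsClosed ({(x : X)} : Set X) ∧
          (∀ C' ∈ irreducibleComponents ↥(f.base ⁻¹' {IsLocalRing.closedPoint A}), C' ≠ C → x ∉ C') ∧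
          ∃ g q : X.presheaf.stalk (x : X), g ∈ IsLocalRing.maximalIdeal (X.presheaf.stalk (x : X)) ∧
            (X.presheaf.germ ⊤ (x : X) trivial).hom (Coh.toGlobal f a) = g * q ∧
            IsUnit ((X.presheaf.stalkSpecializes hξx).hom g) := by
  classical
  haveI : IsLocallyNoetherian X := LocallyOfFiniteType.isLocallyNoetherian f
  haveI : CompactSpace X := QuasiCompact.compactSpace_of_compactSpace f
  haveI : IsNoetherian X := {}
  obtain ⟨U, hU, hUi⟩ := hbir
  haveI := hUi
  obtain ⟨e, hb⟩ := GrothLib.ExcP1.birational_of_iso_over (f := f) U hU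
  haveI : NoetherianSpace ↥(f.base ⁻¹' {IsLocalRing.closedPoint A}) := Topology.IsInducing.subtypeVal.noetherianSpace
  have hFc : IsClosed (f.base ⁻¹' {IsLocalRing.closedPoint A}) :=
    ((PrimeSpectrum.isClosed_singleton_iff_isMaximal _).2 (IsLocalRing.maximalIdeal.isMaximal A)).preimage f.continuous
  haveI : QuasiSober ↥(f.base ⁻¹' {IsLocalRing.closedPoint A}) := hFc.isClosedEmbedding_subtypeVal.quasiSober
  have key : ∀ C : irreducibleComponents ↥(f.base ⁻¹' {IsLocalRing.closedPoint A}),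
      ∃ (x ξ : ↥(f.base ⁻¹' {IsLocalRing.closedPoint A})) (hξx : (ξ : X) ⤳ (x : X)) (g : X.presheaf.stalk (x : X)) (b : A),
        x ∈ C.1 ∧ IsGenericPoint ξ C.1 ∧ IsClosed ({(x : X)} : Set X) ∧
        (∀ C' ∈ irreducibleComponents ↥(f.base ⁻¹' {IsLocalRing.closedPoint A}), C' ≠ C.1 → x ∉ C') ∧
        g ∈ IsLocalRing.maximalIdeal (X.presheaf.stalk (x : X)) ∧ IsUnit ((X.presheaf.stalkSpecializes hξx).hom g) ∧
        b ≠ 0 ∧ g ∣ (X.presheaf.germ ⊤ (x : X) trivial).hom (Coh.toGlobal f b) := by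
    rintro ⟨C, hC⟩
    obtain ⟨ξ, hξ⟩ := QuasiSober.sober hC.1 (isClosed_of_mem_irreducibleComponents C hC)
    obtain ⟨x, hxC, hxc, hxo⟩ := GrothLib.RatSing29.exists_closedPoint_component f C hC
    have hξx : (ξ : X) ⤳ (x : X) := (hξ.specializes hxC).map continuous_subtype_val
    have hne : (x : X) ≠ (ξ : X) := fun h =>
      GrothLib.RatSing29.not_isClosed_of_component f hdim ⟨U, hU, hUi⟩ hf C hC ξ hξ (h ▸ hxc)
    obtain ⟨g, hg, hgu⟩ : ∃ g : X.presheaf.stalk (x : X), g ∈ IsLocalRing.maximalIdeal (X.presheaf.stalk (x : X)) ∧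
        IsUnit ((X.presheaf.stalkSpecializes hξx).hom g) := by
      by_contra hc
      push_neg at hc
      have : IsLocalHom (X.presheaf.stalkSpecializes hξx).hom := ⟨fun g hg => by
        by_contra hn
        exact hc g ((IsLocalRing.mem_maximalIdeal _).2 hn) hg⟩
      refine hne ?_
      have h1 := congrArg (fun m => m (IsLocalRing.closedPoint _)) (Scheme.SpecMap_stalkSpecializes_fromSpecStalk (X := X) hξx)
      simp only [Scheme.Hom.comp_apply, Scheme.fromSpecStalk_closedPoint] at h1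
      refine Eq.trans ?_ h1
      rw [show (Spec.map (X.presheaf.stalkSpecializes hξx)) (IsLocalRing.closedPoint _) = IsLocalRing.closedPoint _ from
        IsLocalRing.comap_closedPoint (X.presheaf.stalkSpecializes hξx).hom, Scheme.fromSpecStalk_closedPoint]
    have hg0 : g ≠ 0 := fun h => by
      rw [h, map_zero] at hgu
      exact not_isUnit_zero hgu
    obtain ⟨b, hb0, q, hq⟩ := GrothLib.RatSing29.exists_mul_eq_germ f e hb x g hg0
    exact ⟨x, ξ, hξx, g, b, hxC, hξ, hxc, hxo, hg, hgu, hb0, q, hq⟩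
  choose x ξ hξx g b hxC hξ hxc hxo hg hgu hb0 hdvd using key
  haveI : Fintype (irreducibleComponents ↥(f.base ⁻¹' {IsLocalRing.closedPoint A})) :=
    NoetherianSpace.finite_irreducibleComponents.fintype
  obtain ⟨t, ht, ht0⟩ : ∃ t ∈ IsLocalRing.maximalIdeal A, t ≠ 0 := by
    refine Submodule.exists_mem_ne_zero_of_ne_bot fun h => ?_
    have h1 := (IsLocalRing.isField_iff_maximalIdeal_eq.2 h)
    rw [ringKrullDim_eq_zero_of_isField h1] at hdim
    norm_num at hdim
  refine ⟨t * ∏ C, b C, mul_ne_zero ht0 (Finset.prod_ne_zero_iff.2 fun C _ => hb0 C),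
    Ideal.mul_mem_right _ _ ht, fun C hC => ?_⟩
  obtain ⟨q, hq⟩ := ((hdvd ⟨C, hC⟩).trans (map_dvd _ (map_dvd (Coh.toGlobal f)
    ((Finset.dvd_prod_of_mem b (Finset.mem_univ ⟨C, hC⟩)).trans (dvd_mul_left _ t)))))
  exact ⟨x ⟨C, hC⟩, ξ ⟨C, hC⟩, hξx ⟨C, hC⟩, hxC ⟨C, hC⟩, hξ ⟨C, hC⟩, hxc ⟨C, hC⟩, hxo ⟨C, hC⟩, g ⟨C, hC⟩, q, hg ⟨C, hC⟩, hq, hgu ⟨C, hC⟩⟩

end Groth.Agent.S7336
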