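import Groth.Statements.S7339
import Groth.Agent.Lib.Contract29.Degree
import Groth.Agent.Lib.ArSurf29.Inter

set_option autoImplicit false
universe u
open CategoryTheory CategoryTheory.Limits AlgebraicGeometry
open Resolve

namespace Groth.Agent.S7339

/-- Let X be a Noetherian scheme, ι : E → X a closed immersion which is an exceptional curve of the
first kind, with ideal sheaf I and M = O_X(E) an inverse of I for the tensor product, and L an
invertible O_X-module whose pullback to E ≅ P^1_k (for some field k and isomorphism e : P^1_k ≅ E)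
is isomorphic to O(n). If H^1(X, L) = 0 and n ≥ 0, then H^1(X, L(iE)) = 0 for 0 ≤ i ≤ n + 1, where
L(iE) = L ⊗ M^{⊗ i}. (The published statement also asserts, for n ≤ 0, that H^1(X, L) → H^1(X, L(E))
is injective; this row states only the vanishing for n ≥ 0.) -/
theorem result {E X : Scheme.{u}} [IsNoetherian X] (ι : E ⟶ X) [IsClosedImmersion ι]
    (hE : Models.IsExcCurve ι) (M : X.Modules) (hM : ClSub.IsInverseOf M (ClSub.idealMod ι.ker))
    (L : X.Modules) (hL : PicF.IsInvertible L)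
    (k : Type u) [Field k] (e : CohB1.ProjSpace 1 k ≅ E) (n : ℕ)
    (hn : Nonempty ((Scheme.Modules.pullback (e.hom ≫ ι)).obj L ≅ Twist.twistProjSpace 1 k (n : ℤ)))
    (h1 : Subsingleton (Coh.HH X L 1)) (i : ℕ) (hi : i ≤ n + 1) :
    Subsingleton (Coh.HH X (CohB1.tensorMod L (CohB1.tensorPow M i)) 1) := by
  obtain ⟨hcart, k', _, e', ⟨t'⟩⟩ := id hE
  let j : CohB1.ProjSpace 1 k ⟶ X := e.hom ≫ ι
  have hker : j.ker = ι.ker := Scheme.Hom.ker_comp_of_isIso _ _
  have hj : BlowUp.IsEffCartierIdeal j.ker := hker.symm ▸ hcart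
  let T := GrothLib.Cube.clsMod (GrothLib.CMReg.isInvertible_twist (n := 1) (k := k) 1)
  let T' := GrothLib.Cube.clsMod (GrothLib.CMReg.isInvertible_twist (n := 1) (k := k') 1)
  let φ : CohB1.ProjSpace 1 k ≅ CohB1.ProjSpace 1 k' := e ≪≫ e'.symm
  have hcomp : φ.hom ≫ e'.hom ≫ ι = j := by simp [φ, j]
  have hI := GrothLib.IdealModSec.isInvertible_of_isEffCartier hcart
  obtain ⟨d, hd, hdφ⟩ := GrothLib.Contract29.exists_degree_pos (k := k) φ.hom
    (GrothLib.Ample.isAmple_twistProjSpace_one 1 k')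
  obtain ⟨d', hd', hdφ'⟩ := GrothLib.Contract29.exists_degree_pos (k := k') φ.inv
    (GrothLib.Ample.isAmple_twistProjSpace_one 1 k)
  have hT1 : GrothLib.Cube.pull φ.hom T' = T := by
    have h1 : GrothLib.Cube.pull φ.hom (GrothLib.Cube.pull φ.inv T) = T := by
      rw [GrothLib.Cube.pull_comp, φ.hom_inv_id, GrothLib.Cube.pull_id]
    rw [show GrothLib.Cube.pull φ.inv T = T' ^ (d' : ℤ) from hdφ', map_zpow,
      show GrothLib.Cube.pull φ.hom T' = T ^ (d : ℤ) from hdφ, ← zpow_mul] at h1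
    have h2 : T ^ ((d : ℤ) * d' - 1) = 1 := by
      rw [zpow_sub, zpow_one, h1, mul_inv_cancel]
    rw [← GrothLib.Contract29.cls_twist_zpow k _, ← zpow_zero T, ← GrothLib.Contract29.cls_twist_zpow k 0] at h2
    obtain ⟨ψ⟩ := (GrothLib.Cube.clsMod_eq_iff _ _).1 h2
    have h3 := GrothLib.ProjPic26.eq_of_twist_iso (R := k) (n := 1) le_rfl ψ
    have h4 : (d : ℤ) * d' = 1 := by omega
    have h5 : d = 1 := Nat.eq_one_of_mul_eq_one_right (by exact_mod_cast h4)
    rw [show GrothLib.Cube.pull φ.hom T' = T ^ (d : ℤ) from hdφ, h5]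
    exact zpow_one _
  have ht : GrothLib.Cube.pull j (GrothLib.Cube.clsMod (GrothLib.IdealModSec.isInvertible_of_isEffCartier hj)) = T := by
    rw [show GrothLib.Cube.clsMod (GrothLib.IdealModSec.isInvertible_of_isEffCartier hj) = GrothLib.Cube.clsMod hI from
      (GrothLib.Cube.clsMod_eq_iff _ _).2 ⟨eqToIso (by rw [hker])⟩]
    rw [← hcomp, ← GrothLib.Cube.pull_comp, show GrothLib.Cube.pull (e'.hom ≫ ι) (GrothLib.Cube.clsMod hI) = T' from ?_]
    · exact hT1
    rw [← GrothLib.Cube.clsMod_pullback (e'.hom ≫ ι)]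
    exact (GrothLib.Cube.clsMod_eq_iff _ _).2 ⟨t'⟩
  have hLn : GrothLib.Cube.pull j (GrothLib.Cube.clsMod hL) = T ^ (n : ℤ) := by
    rw [← GrothLib.Contract29.cls_twist_zpow k _, ← GrothLib.Cube.clsMod_pullback j]
    exact (GrothLib.Cube.clsMod_eq_iff _ _).2 hn
  have hMi := GrothLib.ArSurf29.isInvertible_of_isInverseOf hcart hM
  have hMI : GrothLib.Cube.clsMod hMi * GrothLib.Cube.clsMod hI = 1 := by
    rw [← GrothLib.Cube.clsMod_tensorMod hMi hI]
    exact (GrothLib.Cube.clsMod_eq_one_iff _).2 hM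
  letI : X.Over (Spec (CommRingCat.of Γ(X, ⊤))) := ⟨X.toSpecΓ⟩
  have hP := GrothLib.Ample.isInvertible_tensorPow hMi i
  refine GrothLib.Contract29.subsingleton_H1_twists (A := Γ(X, ⊤)) j hj ht L hL n hLn h1 i (by omega) _
    (GrothLib.Ample.isInvertible_tensorMod hL hP) ?_
  rw [GrothLib.Cube.clsMod_tensorMod hL hP, GrothLib.Cube.clsMod_tensorPow hMi, eq_inv_of_mul_eq_one_left hMI,
    show GrothLib.Cube.clsMod (GrothLib.IdealModSec.isInvertible_of_isEffCartier hj) = GrothLib.Cube.clsMod hI from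
      (GrothLib.Cube.clsMod_eq_iff _ _).2 ⟨eqToIso (by rw [hker])⟩]

end Groth.Agent.S7339
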