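import Groth.Statements.S7340
import Mathlib.RingTheory.Derivation.Basic
import Mathlib.RingTheory.AdjoinRoot
import Mathlib.Data.Nat.Choose.Sum
import Mathlib.Data.Nat.Prime.Basic
import Mathlib.Algebra.CharP.Lemmas
import Mathlib.Algebra.CharP.Algebra
import Mathlib.Algebra.CharP.Invertible
import Mathlib.Data.Nat.Choose.Dvd

set_option autoImplicit false
universe u
open Polynomial
open Resolve

namespace Groth.Agent.S7340

/-- Let p be a prime number and R an F_p-algebra, a, b ∈ R, S_a = R[x]/(x^p - a) and S_b = R[y]/(y^p -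
b). The trace Tr_x : Ω_{S_a/R} → Ω_R is the R-linear map with x^i dx ↦ 0 for 0 ≤ i ≤ p - 2 and
x^{p-1} dx ↦ da (these determine it, Ω_{S_a/R} being free over R on the x^i dx), and similarly Tr_y.
Then for every R-algebra homomorphism φ : S_a → S_b one has Tr_x = Tr_y ∘ φ_*: for all s, t ∈ S_a,
Tr_x(s dt) = Tr_y(φ(s) dφ(t)). Here Ω_R is the module of absolute differentials Ω_{R/Z}. -/
theorem result (p : ℕ) [Fact p.Prime] (R : Type u) [CommRing R] [CharP R p] (a b : R)
    (φ : AdjoinRoot (X ^ p - C a : R[X]) →ₐ[R] AdjoinRoot (X ^ p - C b : R[X]))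
    (Tx : Ω[AdjoinRoot (X ^ p - C a : R[X])⁄R] →ₗ[R] Ω[R⁄ℤ])
    (Ty : Ω[AdjoinRoot (X ^ p - C b : R[X])⁄R] →ₗ[R] Ω[R⁄ℤ])
    (hTx : ∀ i : ℕ, i + 2 ≤ p →
      Tx (AdjoinRoot.root (X ^ p - C a) ^ i • KaehlerDifferential.D R _ (AdjoinRoot.root (X ^ p - C a))) = 0)
    (hTx' : Tx (AdjoinRoot.root (X ^ p - C a) ^ (p - 1) • KaehlerDifferential.D R _ (AdjoinRoot.root (X ^ p - C a))) =
      KaehlerDifferential.D ℤ R a)
    (hTy : ∀ i : ℕ, i + 2 ≤ p →
      Ty (AdjoinRoot.root (X ^ p - C b) ^ i • KaehlerDifferential.D R _ (AdjoinRoot.root (X ^ p - C b))) = 0)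
    (hTy' : Ty (AdjoinRoot.root (X ^ p - C b) ^ (p - 1) • KaehlerDifferential.D R _ (AdjoinRoot.root (X ^ p - C b))) =
      KaehlerDifferential.D ℤ R b)
    (s t : AdjoinRoot (X ^ p - C a : R[X])) :
    Tx (s • KaehlerDifferential.D R _ t) = Ty (φ s • KaehlerDifferential.D R _ (φ t)) := by
  have hp : p.Prime := Fact.out
  obtain ⟨n, rfl⟩ : ∃ n, p = n + 1 := ⟨p - 1, (Nat.succ_pred_eq_of_pos hp.pos).symm⟩
  have hn : 1 ≤ n := by have := hp.two_le; omega
  rcases subsingleton_or_nontrivial R with hR | hR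
  · have : Subsingleton Ω[R⁄ℤ] := Module.subsingleton R _
    exact Subsingleton.elim _ _
  -- expansions
  have hrep : ∀ (c : R) (u : AdjoinRoot (X ^ (n + 1) - C c : R[X])), ∃ r : ℕ → R,
      u = ∑ i ∈ Finset.range (n + 1), r i • AdjoinRoot.root (X ^ (n + 1) - C c) ^ i := by
    intro c u
    obtain ⟨P, rfl⟩ := AdjoinRoot.mk_surjective u
    have hmon : (X ^ (n + 1) - C c : R[X]).Monic := monic_X_pow_sub_C c (by omega)
    have hdeg : (P %ₘ (X ^ (n + 1) - C c)).natDegree < n + 1 := by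
      have hd : (X ^ (n + 1) - C c : R[X]).natDegree = n + 1 := natDegree_X_pow_sub_C
      refine lt_of_lt_of_eq (natDegree_modByMonic_lt P hmon fun h1 => ?_) hd
      rw [h1, natDegree_one] at hd; omega
    refine ⟨(P %ₘ (X ^ (n + 1) - C c)).coeff, ?_⟩
    have h1 : AdjoinRoot.mk (X ^ (n + 1) - C c) P = AdjoinRoot.mk _ (P %ₘ (X ^ (n + 1) - C c)) := by
      rw [AdjoinRoot.mk_eq_mk]
      exact ⟨P /ₘ (X ^ (n + 1) - C c), sub_eq_of_eq_add' (modByMonic_add_div P _).symm⟩
    rw [h1, ← AdjoinRoot.aeval_eq, aeval_eq_sum_range' hdeg]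
  -- exact forms are killed
  have hexact : ∀ u, Ty ((KaehlerDifferential.D R (AdjoinRoot (X ^ (n + 1) - C b : R[X]))) u) = 0 := by
    intro u
    obtain ⟨r, rfl⟩ := hrep b u
    rw [map_sum, map_sum]
    refine Finset.sum_eq_zero fun i hi => ?_
    rw [Derivation.map_smul, Derivation.leibniz_pow, map_smul, map_nsmul]
    rcases Nat.eq_zero_or_pos i with rfl | hi0
    · rw [zero_nsmul, smul_zero]
    · rw [hTy (i - 1) (by have := Finset.mem_range.1 hi; omega), nsmul_zero, smul_zero]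
  -- the additive map
  let θ : AdjoinRoot (X ^ (n + 1) - C b : R[X]) → Ω[R⁄ℤ] := fun u => Ty (u ^ n • (KaehlerDifferential.D R (AdjoinRoot (X ^ (n + 1) - C b : R[X]))) u)
  have hθadd : ∀ u v, θ (u + v) = θ u + θ v := by
    intro u v
    have hc : ∀ j < n, ∃ c : ℕ, Nat.choose (n + 1) (j + 1) = (n + 1) * c := fun j hj =>
      Nat.Prime.dvd_choose_self hp (by omega) (by omega)
    choose! c hc using hc
    have hc1 : ∀ j < n, c j * (j + 1) = Nat.choose n j := fun j hj => by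
      have h1 := Nat.add_one_mul_choose_eq n j
      rw [hc j hj, mul_assoc] at h1
      exact (Nat.eq_of_mul_eq_mul_left (Nat.succ_pos n) h1).symm
    have hc2 : ∀ j < n, c j * (n - j) = Nat.choose n (j + 1) := fun j hj => by
      have h1 := Nat.choose_succ_right_eq n j
      refine Nat.eq_of_mul_eq_mul_right (show 0 < j + 1 by omega) ?_
      rw [h1, ← hc1 j hj]; ring
    have key : (u + v) ^ n • (KaehlerDifferential.D R (AdjoinRoot (X ^ (n + 1) - C b : R[X]))) (u + v) - u ^ n • (KaehlerDifferential.D R (AdjoinRoot (X ^ (n + 1) - C b : R[X]))) u - v ^ n • (KaehlerDifferential.D R (AdjoinRoot (X ^ (n + 1) - C b : R[X]))) v =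
        (KaehlerDifferential.D R (AdjoinRoot (X ^ (n + 1) - C b : R[X]))) (∑ j ∈ Finset.range n, c j • (u ^ (j + 1) * v ^ (n - j))) := by
      have hterm : ∀ j ∈ Finset.range n, (KaehlerDifferential.D R (AdjoinRoot (X ^ (n + 1) - C b : R[X]))) (c j • (u ^ (j + 1) * v ^ (n - j))) =
          (u ^ j * v ^ (n - j) * (Nat.choose n j : AdjoinRoot (X ^ (n + 1) - C b : R[X]))) • (KaehlerDifferential.D R (AdjoinRoot (X ^ (n + 1) - C b : R[X]))) u +
            (u ^ (j + 1) * v ^ (n - (j + 1)) * (Nat.choose n (j + 1) : AdjoinRoot (X ^ (n + 1) - C b : R[X]))) • (KaehlerDifferential.D R (AdjoinRoot (X ^ (n + 1) - C b : R[X]))) v := by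
        intro j hj
        have hj' := Finset.mem_range.1 hj
        rw [map_nsmul, Derivation.leibniz, Derivation.leibniz_pow, Derivation.leibniz_pow, ← hc1 j hj', ← hc2 j hj']
        simp only [← Nat.cast_smul_eq_nsmul (AdjoinRoot (X ^ (n + 1) - C b : R[X])), smul_smul, smul_add, Nat.add_sub_cancel, Nat.sub_sub]
        refine (add_comm _ _).trans ?_
        push_cast
        congr 1 <;> congr 1 <;> ring
      rw [map_sum, Finset.sum_congr rfl hterm, Finset.sum_add_distrib, ← Finset.sum_smul, ← Finset.sum_smul, map_add, smul_add]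
      have h1 : (u + v) ^ n = (∑ j ∈ Finset.range n, u ^ j * v ^ (n - j) * (Nat.choose n j : AdjoinRoot (X ^ (n + 1) - C b : R[X]))) + u ^ n := by
        rw [add_pow, Finset.sum_range_succ]; simp
      have h2 : (u + v) ^ n = (∑ j ∈ Finset.range n, u ^ (j + 1) * v ^ (n - (j + 1)) * (Nat.choose n (j + 1) : AdjoinRoot (X ^ (n + 1) - C b : R[X]))) + v ^ n := by
        rw [add_pow, Finset.sum_range_succ']; simp
      conv_lhs => rw [show (u + v) ^ n • (KaehlerDifferential.D R (AdjoinRoot (X ^ (n + 1) - C b : R[X]))) u = ((∑ j ∈ Finset.range n, u ^ j * v ^ (n - j) * (Nat.choose n j : AdjoinRoot (X ^ (n + 1) - C b : R[X]))) + u ^ n) • (KaehlerDifferential.D R (AdjoinRoot (X ^ (n + 1) - C b : R[X]))) u by rw [← h1],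
        show (u + v) ^ n • (KaehlerDifferential.D R (AdjoinRoot (X ^ (n + 1) - C b : R[X]))) v = ((∑ j ∈ Finset.range n, u ^ (j + 1) * v ^ (n - (j + 1)) * (Nat.choose n (j + 1) : AdjoinRoot (X ^ (n + 1) - C b : R[X]))) + v ^ n) • (KaehlerDifferential.D R (AdjoinRoot (X ^ (n + 1) - C b : R[X]))) v by rw [← h2]]
      rw [add_smul, add_smul]; abel
    have h := congrArg Ty key
    rw [hexact, map_sub, map_sub, sub_eq_zero, sub_eq_iff_eq_add'] at h
    exact h
  have hypow : (AdjoinRoot.root (X ^ (n + 1) - C b : R[X])) ^ (n + 1) = algebraMap R _ b := by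
    have := AdjoinRoot.eval₂_root (X ^ (n + 1) - C b : R[X])
    simp only [eval₂_sub, eval₂_pow, eval₂_X, eval₂_C, sub_eq_zero] at this
    exact this
  have hθmon : ∀ (r : R) (i : ℕ), i < n + 1 → θ (r • (AdjoinRoot.root (X ^ (n + 1) - C b : R[X])) ^ i) = KaehlerDifferential.D ℤ R (r ^ (n + 1) * b ^ i) := by
    intro r i hi
    have hD : KaehlerDifferential.D ℤ R (r ^ (n + 1)) = 0 := by
      rw [Derivation.leibniz_pow, ← Nat.cast_smul_eq_nsmul R, CharP.cast_eq_zero, zero_smul]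
    rw [Derivation.leibniz, hD, smul_zero, add_zero, Derivation.leibniz_pow]
    change Ty ((r • (AdjoinRoot.root (X ^ (n + 1) - C b : R[X])) ^ i) ^ n • (KaehlerDifferential.D R (AdjoinRoot (X ^ (n + 1) - C b : R[X]))) (r • (AdjoinRoot.root (X ^ (n + 1) - C b : R[X])) ^ i)) = _
    rw [Derivation.map_smul, Derivation.leibniz_pow]
    rcases Nat.eq_zero_or_pos i with rfl | hi0
    · simp
    · obtain ⟨k, rfl⟩ : ∃ k, i = k + 1 := ⟨i - 1, by omega⟩
      have he : (r • (AdjoinRoot.root (X ^ (n + 1) - C b : R[X])) ^ (k + 1)) ^ n • r • (k + 1) • (AdjoinRoot.root (X ^ (n + 1) - C b : R[X])) ^ (k + 1 - 1) • (KaehlerDifferential.D R (AdjoinRoot (X ^ (n + 1) - C b : R[X]))) (AdjoinRoot.root (X ^ (n + 1) - C b : R[X])) =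
          (r ^ (n + 1) * b ^ k) • (k + 1) • ((AdjoinRoot.root (X ^ (n + 1) - C b : R[X])) ^ n • (KaehlerDifferential.D R (AdjoinRoot (X ^ (n + 1) - C b : R[X]))) (AdjoinRoot.root (X ^ (n + 1) - C b : R[X]))) := by
        have hal : (r • (AdjoinRoot.root (X ^ (n + 1) - C b : R[X])) ^ (k + 1)) ^ n * (algebraMap R _ r) * (AdjoinRoot.root (X ^ (n + 1) - C b : R[X])) ^ (k + 1 - 1) = algebraMap R _ (r ^ (n + 1) * b ^ k) * (AdjoinRoot.root (X ^ (n + 1) - C b : R[X])) ^ n := by
          rw [Algebra.smul_def, mul_pow, map_mul, map_pow, map_pow, ← hypow, Nat.add_sub_cancel, ← pow_mul, ← pow_mul]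
          have : (AdjoinRoot.root (X ^ (n + 1) - C b : R[X])) ^ ((k + 1) * n) * (AdjoinRoot.root (X ^ (n + 1) - C b : R[X])) ^ k = (AdjoinRoot.root (X ^ (n + 1) - C b : R[X])) ^ ((n + 1) * k) * (AdjoinRoot.root (X ^ (n + 1) - C b : R[X])) ^ n := by rw [← pow_add, ← pow_add]; congr 1; ring
          linear_combination (algebraMap R (AdjoinRoot (X ^ (n + 1) - C b : R[X])) r) ^ (n + 1) * this
        simp only [← Nat.cast_smul_eq_nsmul (AdjoinRoot (X ^ (n + 1) - C b : R[X])), ← algebraMap_smul (AdjoinRoot (X ^ (n + 1) - C b : R[X])) r, ← algebraMap_smul (AdjoinRoot (X ^ (n + 1) - C b : R[X])) (r ^ (n + 1) * b ^ k), smul_smul]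
        congr 1
        simp only [Algebra.smul_def, smul_eq_mul, Algebra.algebraMap_self, RingHom.id_apply] at hal ⊢
        linear_combination ((k + 1 : ℕ) : AdjoinRoot (X ^ (n + 1) - C b : R[X])) * hal
      refine (congrArg Ty he).trans ?_
      rw [map_smul, map_nsmul]
      change _ • _ • Ty ((AdjoinRoot.root (X ^ (n + 1) - C b : R[X])) ^ (n + 1 - 1) • (KaehlerDifferential.D R (AdjoinRoot (X ^ (n + 1) - C b : R[X]))) (AdjoinRoot.root (X ^ (n + 1) - C b : R[X]))) = _
      rw [hTy']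
      simp only [Nat.add_sub_cancel, ← Nat.cast_smul_eq_nsmul R, smul_smul]
      congr 1
      ring
  have hinj : Function.Injective (algebraMap R (AdjoinRoot (X ^ (n + 1) - C b : R[X]))) := by
    rw [injective_iff_map_eq_zero]
    intro r hr
    rw [AdjoinRoot.algebraMap_eq, ← AdjoinRoot.mk_C, AdjoinRoot.mk_eq_zero] at hr
    by_contra hr0
    exact (monic_X_pow_sub_C b (by omega : n + 1 ≠ 0)).not_dvd_of_natDegree_lt (C_ne_zero.2 hr0)
      (by rw [natDegree_C, natDegree_X_pow_sub_C]; omega) hr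
  have hxpow : (AdjoinRoot.root (X ^ (n + 1) - C a : R[X])) ^ (n + 1) = algebraMap R _ a := by
    have := AdjoinRoot.eval₂_root (X ^ (n + 1) - C a : R[X])
    simp only [eval₂_sub, eval₂_pow, eval₂_X, eval₂_C, sub_eq_zero] at this
    exact this
  have hlast : Ty (φ (AdjoinRoot.root (X ^ (n + 1) - C a : R[X])) ^ n • (KaehlerDifferential.D R (AdjoinRoot (X ^ (n + 1) - C b : R[X]))) (φ (AdjoinRoot.root (X ^ (n + 1) - C a : R[X])))) = KaehlerDifferential.D ℤ R a := by
    obtain ⟨r, hr⟩ := hrep b (φ (AdjoinRoot.root (X ^ (n + 1) - C a : R[X])))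
    have ha : a = ∑ i ∈ Finset.range (n + 1), r i ^ (n + 1) * b ^ i := by
      apply hinj
      haveI : CharP (AdjoinRoot (X ^ (n + 1) - C b : R[X])) (n + 1) := charP_of_injective_ringHom hinj (n + 1)
      rw [← φ.commutes a, ← hxpow, map_pow, hr, sum_pow_char (n + 1), map_sum]
      refine Finset.sum_congr rfl fun i _ => ?_
      rw [Algebra.smul_def, mul_pow, map_mul, map_pow, map_pow, ← hypow, ← pow_mul, ← pow_mul, mul_comm i]
    let θh : AdjoinRoot (X ^ (n + 1) - C b : R[X]) →+ Ω[R⁄ℤ] := AddMonoidHom.mk' θ hθadd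
    change θh (φ (AdjoinRoot.root (X ^ (n + 1) - C a : R[X]))) = _
    rw [hr, map_sum, ha, map_sum]
    exact Finset.sum_congr rfl fun i hi => hθmon _ i (Finset.mem_range.1 hi)
  have hbase : ∀ i < n + 1, Tx ((AdjoinRoot.root (X ^ (n + 1) - C a : R[X])) ^ i • (KaehlerDifferential.D R (AdjoinRoot (X ^ (n + 1) - C a : R[X]))) (AdjoinRoot.root (X ^ (n + 1) - C a : R[X]))) = Ty (φ (AdjoinRoot.root (X ^ (n + 1) - C a : R[X])) ^ i • (KaehlerDifferential.D R (AdjoinRoot (X ^ (n + 1) - C b : R[X]))) (φ (AdjoinRoot.root (X ^ (n + 1) - C a : R[X])))) := by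
    intro i hi
    rcases eq_or_lt_of_le (Nat.le_of_lt_succ hi) with rfl | hlt
    · rw [hlast]
      simpa using hTx'
    · rw [hTx i (by omega)]
      have hu : IsUnit ((i + 1 : ℕ) : R) := by
        exact ((CharP.isUnit_natCast_iff hp).2 fun h => by have := Nat.le_of_dvd (by omega) h; omega)
      obtain ⟨w, hw⟩ := hu
      have h2 := hexact (φ (AdjoinRoot.root (X ^ (n + 1) - C a : R[X])) ^ (i + 1))
      rw [Derivation.leibniz_pow, map_nsmul, Nat.add_sub_cancel, ← Nat.cast_smul_eq_nsmul R, ← hw] at h2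
      exact (smul_eq_zero_iff_eq w).1 h2 |>.symm
  -- reduction to `s • (KaehlerDifferential.D R (AdjoinRoot (X ^ (n + 1) - C a : R[X])))`
  obtain ⟨P, rfl⟩ := AdjoinRoot.mk_surjective t
  rw [← AdjoinRoot.aeval_eq, ← Polynomial.aeval_algHom_apply φ (AdjoinRoot.root (X ^ (n + 1) - C a : R[X])) P, Derivation.map_aeval, Derivation.map_aeval,
    smul_smul, smul_smul, Polynomial.aeval_algHom_apply φ (AdjoinRoot.root (X ^ (n + 1) - C a : R[X])), ← map_mul]
  obtain ⟨r, hr⟩ := hrep a (s * aeval (AdjoinRoot.root (X ^ (n + 1) - C a : R[X])) (derivative P))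
  rw [hr, map_sum, Finset.sum_smul, Finset.sum_smul, map_sum, map_sum]
  refine Finset.sum_congr rfl fun i hi => ?_
  rw [map_smul φ, smul_assoc, smul_assoc, map_smul Tx, map_smul Ty, map_pow]
  exact congrArg (r i • ·) (hbase i (Finset.mem_range.1 hi))

end Groth.Agent.S7340
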