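import Groth.Statements.S7341
import Groth.Agent.Lib.NumType.Sub


set_option autoImplicit false
open Finset
open Models Models.NumericalType

namespace Groth.Agent.S7341

/-- Classification of proper subgraphs which are chains of three vertices: let T be a numerical type on
n > 3 indices and i, j, k distinct (-2)-indices with a_ij > 0 and a_jk > 0. Then a_ik = 0 and, up to
reversing the order of i, j, k, one of the following holds for some integer w: (A3) w_i = w_j = w_k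
= w, a_ij = a_jk = w, with 2 m_i ≥ m_j, 2 m_j ≥ m_i + m_k, 2 m_k ≥ m_j; (C3) w_i = w_j = w, w_k =
2w, a_ij = w, a_jk = 2w, with 2 m_i ≥ m_j, 2 m_j ≥ m_i + 2 m_k, 2 m_k ≥ m_j; (B3) w_i = w_j = 2w,
w_k = w, a_ij = a_jk = 2w, with 2 m_i ≥ m_j, 2 m_j ≥ m_i + m_k, m_k ≥ m_j. -/
theorem result {n : ℕ} (T : Models.NumericalType n) (hn : 3 < n) (i j k : Fin n)
    (hij : i ≠ j) (hjk : j ≠ k) (hik : i ≠ k) (hi : T.IsMinusTwo i) (hj : T.IsMinusTwo j) (hk : T.IsMinusTwo k)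
    (h1 : 0 < T.a i j) (h2 : 0 < T.a j k) :
    T.a i k = 0 ∧ ∃ (i' k' : Fin n) (w : ℤ), ((i' = i ∧ k' = k) ∨ (i' = k ∧ k' = i)) ∧
      ((T.w i' = w ∧ T.w j = w ∧ T.w k' = w ∧ T.a i' j = w ∧ T.a j k' = w ∧
          T.m j ≤ 2 * T.m i' ∧ T.m i' + T.m k' ≤ 2 * T.m j ∧ T.m j ≤ 2 * T.m k') ∨
        (T.w i' = w ∧ T.w j = w ∧ T.w k' = 2 * w ∧ T.a i' j = w ∧ T.a j k' = 2 * w ∧
          T.m j ≤ 2 * T.m i' ∧ T.m i' + 2 * T.m k' ≤ 2 * T.m j ∧ T.m j ≤ 2 * T.m k') ∨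
        (T.w i' = 2 * w ∧ T.w j = 2 * w ∧ T.w k' = w ∧ T.a i' j = 2 * w ∧ T.a j k' = 2 * w ∧
          T.m j ≤ 2 * T.m i' ∧ T.m i' + T.m k' ≤ 2 * T.m j ∧ T.m j ≤ T.m k')) := by
  let g : ℕ → Fin n := fun l => match l with
    | 0 => i
    | 1 => j
    | _ => k
  have hp : GrothLib.NumType.IsPath T g 3 := by
    refine ⟨fun a ha b hb he => ?_, fun l hl => ?_⟩
    · simp only [Set.mem_ofPred_eq] at ha hb
      interval_cases a <;> interval_cases b <;> simp_all [g]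
    · have : l < 2 := by omega
      interval_cases l
      · exact ⟨hij, (h1).ne'⟩
      · exact ⟨hjk, (h2).ne'⟩
  have h2 : GrothLib.NumType.M2 T g 3 := fun l hl => by
    interval_cases l
    exacts [hi.2, hj.2, hk.2]
  have e0 := GrothLib.NumType.edge_of_proper_path hp h2 hn (by omega) (i := 0) (by omega)
  have hne0 : i ≠ j := (hp.adj 0 (by omega)).ne
  have e1 := GrothLib.NumType.edge_of_proper_path hp h2 hn (by omega) (i := 1) (by omega)
  have hne1 : j ≠ k := (hp.adj 1 (by omega)).ne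
  have z02 : T.a i k = 0 := GrothLib.NumType.zero_of_proper_path hp h2 hn (a := 0) (b := 2) (by omega) (by omega)
  have hne02 : i ≠ k := hp.ne (by omega : 0 < 3) (by omega : 2 < 3) (by omega)
  have d0 : T.a j i = T.a i j := GrothLib.NumType.a_comm T _ _
  have u01 : GrothLib.NumType.NS T (g 0) (g (0 + 1)) → GrothLib.NumType.NS T (g 1) (g (1 + 1)) → False := fun p q => by
    have := GrothLib.NumType.ns_unique_of_proper_path hp h2 hn (i := 0) (j := 1) (by omega) (by omega) p q; omega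
  have d1 : T.a k j = T.a j k := GrothLib.NumType.a_comm T _ _
  simp only [g, Nat.reduceAdd] at e0 e1
  refine ⟨z02, ?_⟩
  rcases e0 with ⟨p0, q0⟩ | ⟨p0, q0⟩ | ⟨p0, q0⟩
  ·
    rcases e1 with ⟨p1, q1⟩ | ⟨p1, q1⟩ | ⟨p1, q1⟩
    ·
      have r0 := GrothLib.NumType.row1_le hi.2 hne0 1 (by omega)
      have r1 := GrothLib.NumType.row2_le hj.2 hne0.symm hne1 hne02 1 1 (by omega) (by omega)
      have r2 := GrothLib.NumType.row1_le hk.2 hne1.symm 1 (by omega)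
      refine ⟨i, k, T.w i, .inl ⟨rfl, rfl⟩, .inl ⟨?_, ?_, ?_, ?_, ?_, ?_, ?_, ?_⟩⟩ <;>
        first | omega | (simp only [Fin.reduceRev] <;> omega)
    ·
      have r0 := GrothLib.NumType.row1_le hi.2 hne0 1 (by omega)
      have r1 := GrothLib.NumType.row2_le hj.2 hne0.symm hne1 hne02 1 2 (by omega) (by omega)
      have r2 := GrothLib.NumType.row1_le hk.2 hne1.symm 1 (by omega)
      refine ⟨i, k, T.w i, .inl ⟨rfl, rfl⟩, .inr (.inl ⟨?_, ?_, ?_, ?_, ?_, ?_, ?_, ?_⟩)⟩ <;>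
        first | omega | (simp only [Fin.reduceRev] <;> omega)
    ·
      have r0 := GrothLib.NumType.row1_le hi.2 hne0 1 (by omega)
      have r1 := GrothLib.NumType.row2_le hj.2 hne0.symm hne1 hne02 1 1 (by omega) (by omega)
      have r2 := GrothLib.NumType.row1_le hk.2 hne1.symm 2 (by omega)
      refine ⟨i, k, T.w k, .inl ⟨rfl, rfl⟩, .inr (.inr (⟨?_, ?_, ?_, ?_, ?_, ?_, ?_, ?_⟩))⟩ <;>
        first | omega | (simp only [Fin.reduceRev] <;> omega)
  ·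
    rcases e1 with ⟨p1, q1⟩ | ⟨p1, q1⟩ | ⟨p1, q1⟩
    ·
      have r0 := GrothLib.NumType.row1_le hk.2 hne1.symm 1 (by omega)
      have r1 := GrothLib.NumType.row2_le hj.2 hne1 hne0.symm hne02.symm 1 1 (by omega) (by omega)
      have r2 := GrothLib.NumType.row1_le hi.2 hne0 2 (by omega)
      refine ⟨k, i, T.w i, .inr ⟨rfl, rfl⟩, .inr (.inr (⟨?_, ?_, ?_, ?_, ?_, ?_, ?_, ?_⟩))⟩ <;>
        first | omega | (simp only [Fin.reduceRev] <;> omega)
    · exact (u01 (.inl ⟨hp.adj 0 (by omega), p0.ge⟩) (.inl ⟨hp.adj 1 (by omega), p1.ge⟩)).elim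
    · exact (u01 (.inl ⟨hp.adj 0 (by omega), p0.ge⟩) (.inr ⟨(hp.adj 1 (by omega)).symm, by simp only [g, Nat.reduceAdd]; rw [d1]; exact p1.ge⟩)).elim
  ·
    rcases e1 with ⟨p1, q1⟩ | ⟨p1, q1⟩ | ⟨p1, q1⟩
    ·
      have r0 := GrothLib.NumType.row1_le hk.2 hne1.symm 1 (by omega)
      have r1 := GrothLib.NumType.row2_le hj.2 hne1 hne0.symm hne02.symm 1 2 (by omega) (by omega)
      have r2 := GrothLib.NumType.row1_le hi.2 hne0 1 (by omega)
      refine ⟨k, i, T.w k, .inr ⟨rfl, rfl⟩, .inr (.inl ⟨?_, ?_, ?_, ?_, ?_, ?_, ?_, ?_⟩)⟩ <;>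
        first | omega | (simp only [Fin.reduceRev] <;> omega)
    · exact (u01 (.inr ⟨(hp.adj 0 (by omega)).symm, by simp only [g, Nat.reduceAdd]; rw [d0]; exact p0.ge⟩) (.inl ⟨hp.adj 1 (by omega), p1.ge⟩)).elim
    · exact (u01 (.inr ⟨(hp.adj 0 (by omega)).symm, by simp only [g, Nat.reduceAdd]; rw [d0]; exact p0.ge⟩) (.inr ⟨(hp.adj 1 (by omega)).symm, by simp only [g, Nat.reduceAdd]; rw [d1]; exact p1.ge⟩)).elim

end Groth.Agent.S7341
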