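import Groth.Statements.S7342
import Groth.Agent.Lib.NumType.Sub


set_option autoImplicit false
open Finset
open Models Models.NumericalType

namespace Groth.Agent.S7342

/-- Let T be a numerical type on n indices, t ≥ 4 and n > t + 2. Then no t + 2 (-2)-indices of T,
pairwise distinct and numbered i_0, …, i_{t+1}, satisfy: a_{i_j i_{j+1}} > 0 for 1 ≤ j ≤ t - 1,
a_{i_0 i_2} > 0 and a_{i_{t-1} i_{t+1}} > 0. -/
theorem result {n : ℕ} (T : Models.NumericalType n) (t : ℕ) (ht : 4 ≤ t) (hn : t + 2 < n)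
    (v : Fin (t + 2) ↪ Fin n) (hv : ∀ j, T.IsMinusTwo (v j))
    (hchain : ∀ j j' : Fin (t + 2), 1 ≤ j.val → j.val + 1 ≤ t → j'.val = j.val + 1 → 0 < T.a (v j) (v j'))
    (h02 : ∀ j j' : Fin (t + 2), j.val = 0 → j'.val = 2 → 0 < T.a (v j) (v j'))
    (hlast : ∀ j j' : Fin (t + 2), j.val = t - 1 → j'.val = t + 1 → 0 < T.a (v j) (v j')) : False := by
  have h2 := GrothLib.NumType.seq_m2 v (by omega : 0 < t + 2) hv
  have A : ∀ (a b : Fin (t + 2)), a ≠ b → 0 < T.a (v a) (v b) → GrothLib.NumType.Adj T (v a) (v b) :=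
    fun a b hab h => ⟨v.injective.ne hab, h.ne'⟩
  have S : ∀ k (hk : k < t + 2), GrothLib.NumType.seq v (by omega) k = v ⟨k, hk⟩ :=
    fun k hk => by simp [GrothLib.NumType.seq, hk]
  have := (GrothLib.NumType.cfg_D (N := t + 2) (by omega) (GrothLib.NumType.seq_inj v (by omega)) h2
    (by
      rw [S 0 (by omega), S 2 (by omega)]
      exact A _ _ (Fin.ne_of_val_ne (by simp)) (h02 _ _ rfl rfl))
    (fun k h1 h3 => by
      rw [S k (by omega), S (k + 1) (by omega)]
      exact A _ _ (Fin.ne_of_val_ne (by simp)) (hchain _ _ h1 (by simp; omega) rfl))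
    (by
      rw [S (t + 2 - 3) (by omega), S (t + 2 - 1) (by omega)]
      exact A _ _ (Fin.ne_of_val_ne (by simp)) (hlast _ _ (by simp) (by simp)))).1
  omega

end Groth.Agent.S7342
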