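import Groth.Statements.S7343
import Groth.Agent.Lib.NumType.Sub


set_option autoImplicit false
open Finset
open Models Models.NumericalType

namespace Groth.Agent.S7343

/-- Let T be a numerical type on n > 7 indices. Then no seven (-2)-indices of T, pairwise distinct and
named f, g, h, i, j, k, l, have a_fg, a_gh, a_ij, a_jh, a_kl and a_lh all nonzero (three chains of
length two attached to h). -/
theorem result {n : ℕ} (T : Models.NumericalType n) (hn : 7 < n)
    (v : Fin 7 ↪ Fin n) (hv : ∀ j, T.IsMinusTwo (v j))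
    (h01 : T.a (v 0) (v 1) ≠ 0) (h12 : T.a (v 1) (v 2) ≠ 0) (h34 : T.a (v 3) (v 4) ≠ 0)
    (h42 : T.a (v 4) (v 2) ≠ 0) (h56 : T.a (v 5) (v 6) ≠ 0) (h62 : T.a (v 6) (v 2) ≠ 0) : False := by
  have h2 := GrothLib.NumType.seq_m2 v (by omega : 0 < 7) hv
  have A : ∀ (a b : Fin 7), a ≠ b → T.a (v a) (v b) ≠ 0 → GrothLib.NumType.Adj T (v a) (v b) :=
    fun a b hab h => ⟨v.injective.ne hab, h⟩
  have := (GrothLib.NumType.cfg_E6 (GrothLib.NumType.seq_inj v (by omega)) h2 (A 0 1 (by decide) h01) (A 1 2 (by decide) h12)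
    (A 4 2 (by decide) h42).symm (A 6 2 (by decide) h62).symm (A 3 4 (by decide) h34)
    (A 5 6 (by decide) h56)).1
  omega

end Groth.Agent.S7343
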