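import Groth.Statements.S7344
import Groth.Agent.Lib.NumType.Sub


set_option autoImplicit false
open Finset
open Models Models.NumericalType

namespace Groth.Agent.S7344

/-- Let T be a numerical type on n > 8 indices. Then no eight (-2)-indices of T, pairwise distinct and
named e, f, g, h, i, j, k, l, have a_ef, a_fg, a_gh, a_hi, a_ij, a_jk and a_lh all nonzero (a chain
of seven, e to k, with l joined to its fourth vertex h). -/
theorem result {n : ℕ} (T : Models.NumericalType n) (hn : 8 < n)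
    (v : Fin 8 ↪ Fin n) (hv : ∀ j, T.IsMinusTwo (v j))
    (h01 : T.a (v 0) (v 1) ≠ 0) (h12 : T.a (v 1) (v 2) ≠ 0) (h23 : T.a (v 2) (v 3) ≠ 0)
    (h34 : T.a (v 3) (v 4) ≠ 0) (h45 : T.a (v 4) (v 5) ≠ 0) (h56 : T.a (v 5) (v 6) ≠ 0)
    (h73 : T.a (v 7) (v 3) ≠ 0) : False := by
  have h2 := GrothLib.NumType.seq_m2 v (by omega : 0 < 8) hv
  have A : ∀ (a b : Fin 8), a ≠ b → T.a (v a) (v b) ≠ 0 → GrothLib.NumType.Adj T (v a) (v b) :=
    fun a b hab h => ⟨v.injective.ne hab, h⟩
  have hp : ∀ k, k + 1 < 7 → GrothLib.NumType.Adj T (GrothLib.NumType.seq v (by omega) k) (GrothLib.NumType.seq v (by omega) (k + 1)) := by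
    intro k hk
    have : k < 6 := by omega
    interval_cases k
    exacts [A 0 1 (by decide) h01, A 1 2 (by decide) h12, A 2 3 (by decide) h23, A 3 4 (by decide) h34,
      A 4 5 (by decide) h45, A 5 6 (by decide) h56]
  have := (GrothLib.NumType.cfg_E7 (GrothLib.NumType.seq_inj v (by omega)) h2 hp (A 7 3 (by decide) h73).symm).1
  omega

end Groth.Agent.S7344
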