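import Groth.Statements.S7345
import Groth.Agent.Lib.NumType.Sub


set_option autoImplicit false
open Finset
open Models Models.NumericalType

namespace Groth.Agent.S7345

/-- Let T be a numerical type on n > 9 indices. Then no nine (-2)-indices of T, pairwise distinct and
named d, e, f, g, h, i, j, k, l, have a_de, a_ef, a_fg, a_gh, a_hi, a_ij, a_jk and a_li all nonzero
(a chain of eight, d to k, with l joined to its sixth vertex i). (The published list of nonzero
entries ends with a_lh, joining l to the fifth vertex h; that configuration already contains the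
completed E7 configuration on eight of the indices and is impossible for that reason alone. The
pictured graph and the argument for it join l to the sixth vertex i, and this row states that case.) -/
theorem result {n : ℕ} (T : Models.NumericalType n) (hn : 9 < n)
    (v : Fin 9 ↪ Fin n) (hv : ∀ j, T.IsMinusTwo (v j))
    (h01 : T.a (v 0) (v 1) ≠ 0) (h12 : T.a (v 1) (v 2) ≠ 0) (h23 : T.a (v 2) (v 3) ≠ 0)
    (h34 : T.a (v 3) (v 4) ≠ 0) (h45 : T.a (v 4) (v 5) ≠ 0) (h56 : T.a (v 5) (v 6) ≠ 0)
    (h67 : T.a (v 6) (v 7) ≠ 0) (h85 : T.a (v 8) (v 5) ≠ 0) : False := by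
  have h2 := GrothLib.NumType.seq_m2 v (by omega : 0 < 9) hv
  have A : ∀ (a b : Fin 9), a ≠ b → T.a (v a) (v b) ≠ 0 → GrothLib.NumType.Adj T (v a) (v b) :=
    fun a b hab h => ⟨v.injective.ne hab, h⟩
  have hp : ∀ k, k + 1 < 8 → GrothLib.NumType.Adj T (GrothLib.NumType.seq v (by omega) k) (GrothLib.NumType.seq v (by omega) (k + 1)) := by
    intro k hk
    have : k < 7 := by omega
    interval_cases k
    exacts [A 0 1 (by decide) h01, A 1 2 (by decide) h12, A 2 3 (by decide) h23, A 3 4 (by decide) h34,
      A 4 5 (by decide) h45, A 5 6 (by decide) h56, A 6 7 (by decide) h67]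
  have := (GrothLib.NumType.cfg_E8 (GrothLib.NumType.seq_inj v (by omega)) h2 hp (A 8 5 (by decide) h85).symm).1
  omega

end Groth.Agent.S7345
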