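import Groth.Statements.S7346
import Groth.Agent.Lib.NumType.Sub


set_option autoImplicit false
open Finset
open Models Models.NumericalType

namespace Groth.Agent.S7346

/-- Classification of proper subgraphs of type D4 (one vertex joined to three others): let T be a
numerical type on n > 4 indices and i_1, …, i_4 distinct (-2)-indices with a_{12}, a_{13}, a_{14}
nonzero. Then for some integer w all w_{i_j} equal w, these intersection numbers equal w, all other
a_{i_j i_k} (j ≠ k) vanish, and 2 m_1 ≥ m_2 + m_3 + m_4, 2 m_2 ≥ m_1, 2 m_3 ≥ m_1, 2 m_4 ≥ m_1. -/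
theorem result {n : ℕ} (T : Models.NumericalType n) (hn : 4 < n)
    (v : Fin 4 ↪ Fin n) (hv : ∀ j, T.IsMinusTwo (v j)) (h01 : T.a (v 0) (v 1) ≠ 0) (h02 : T.a (v 0) (v 2) ≠ 0) (h03 : T.a (v 0) (v 3) ≠ 0) :
    ∃ w : ℤ, (∀ j : Fin 4, T.w (v j) = w) ∧
      T.a (v 0) (v 1) = w ∧
      T.a (v 0) (v 2) = w ∧
      T.a (v 0) (v 3) = w ∧
      T.a (v 1) (v 2) = 0 ∧
      T.a (v 1) (v 3) = 0 ∧
      T.a (v 2) (v 3) = 0 ∧
      T.m (v 1) + T.m (v 2) + T.m (v 3) ≤ 2 * T.m (v 0) ∧
      T.m (v 0) ≤ 2 * T.m (v 1) ∧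
      T.m (v 0) ≤ 2 * T.m (v 2) ∧
      T.m (v 0) ≤ 2 * T.m (v 3) := by
  let g : ℕ → Fin n := fun l => match l with
    | 0 => v 1
    | 1 => v 0
    | _ => v 2
  have hp : GrothLib.NumType.IsPath T g 3 := by
    refine ⟨fun a ha b hb he => ?_, fun l hl => ?_⟩
    · simp only [Set.mem_ofPred_eq] at ha hb
      interval_cases a <;> interval_cases b <;> simp_all [g]
    · have : l < 2 := by omega
      interval_cases l
      · exact (GrothLib.NumType.Adj.symm (⟨(v.injective.ne (by decide : (0 : Fin _) ≠ 1)), h01⟩ : GrothLib.NumType.Adj T (v 0) (v 1)))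
      · exact (⟨(v.injective.ne (by decide : (0 : Fin _) ≠ 2)), h02⟩ : GrothLib.NumType.Adj T (v 0) (v 2))
  have h2 : GrothLib.NumType.M2 T g 3 := fun l hl => by
    interval_cases l <;> exact (hv _).2
  have hu : ∀ l < 3, g l ≠ v 3 := fun l hl => by
    interval_cases l <;> exact v.injective.ne (by decide)
  obtain ⟨hw, hwu, ha, hbu, hz, hzu⟩ := GrothLib.NumType.fork_structure hp h2 (k := 1) hu (hv 3).2
    (by omega) (by omega) (⟨(v.injective.ne (by decide : (0 : Fin _) ≠ 3)), h03⟩ : GrothLib.NumType.Adj T (v 0) (v 3)) (by omega)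
  have w1 : T.w (v 1) = T.w (g 0) := hw 0 (by omega)
  have w0 : T.w (v 0) = T.w (g 0) := hw 1 (by omega)
  have w2 : T.w (v 2) = T.w (g 0) := hw 2 (by omega)
  have w3 : T.w (v 3) = T.w (g 0) := hwu
  have a01 : T.a (v 0) (v 1) = _ := ((GrothLib.NumType.a_comm T _ _).trans (ha 0 (by omega)))
  have a02 : T.a (v 0) (v 2) = _ := ha 1 (by omega)
  have a03 : T.a (v 0) (v 3) = _ := hbu
  have a12 : T.a (v 1) (v 2) = _ := hz 0 2 (by omega) (by omega)
  have a13 : T.a (v 1) (v 3) = _ := hzu 0 (by omega) (by omega)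
  have a23 : T.a (v 2) (v 3) = _ := hzu 2 (by omega) (by omega)
  have m0 := GrothLib.NumType.m3_le (hv 0).2 (v.injective.ne (by decide : (1 : Fin _) ≠ 2)) (v.injective.ne (by decide : (1 : Fin _) ≠ 3)) (v.injective.ne (by decide : (2 : Fin _) ≠ 3))
    (a01.trans w0.symm) (a02.trans w0.symm) (a03.trans w0.symm)
  have m1 := GrothLib.NumType.row1_le (hv 1).2 (v.injective.ne (by decide : (1 : Fin _) ≠ 0)) 1 ((((GrothLib.NumType.a_comm T _ _).trans a01).trans w1.symm).trans (one_mul _).symm)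
  have m2 := GrothLib.NumType.row1_le (hv 2).2 (v.injective.ne (by decide : (2 : Fin _) ≠ 0)) 1 ((((GrothLib.NumType.a_comm T _ _).trans a02).trans w2.symm).trans (one_mul _).symm)
  have m3 := GrothLib.NumType.row1_le (hv 3).2 (v.injective.ne (by decide : (3 : Fin _) ≠ 0)) 1 ((((GrothLib.NumType.a_comm T _ _).trans a03).trans w3.symm).trans (one_mul _).symm)
  refine ⟨T.w (g 0), fun j => by fin_cases j <;> first | exact w0 | exact w1 | exact w2 | exact w3, ?_⟩
  refine ⟨?_, ?_, ?_, ?_, ?_, ?_, ?_, ?_, ?_, ?_⟩ <;> first | omega | exact a01 | exact a02 | exact a03 | exact a12 | exact a13 | exact a23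

end Groth.Agent.S7346
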