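import Groth.Statements.S7347
import Groth.Agent.Lib.NumType.Sub


set_option autoImplicit false
open Finset
open Models Models.NumericalType

namespace Groth.Agent.S7347

/-- Classification of proper subgraphs of type D5 (a chain i_1 i_2 i_3 with i_4 and i_5 both joined to
i_3): let T be a numerical type on n > 5 indices and i_1, …, i_5 distinct (-2)-indices with a_{12},
a_{23}, a_{34}, a_{35} nonzero. Then for some integer w all w_{i_j} equal w, these intersection
numbers equal w, all other a_{i_j i_k} (j ≠ k) vanish, and 2 m_1 ≥ m_2, 2 m_2 ≥ m_1 + m_3, 2 m_3 ≥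
m_2 + m_4 + m_5, 2 m_4 ≥ m_3, 2 m_5 ≥ m_3. -/
theorem result {n : ℕ} (T : Models.NumericalType n) (hn : 5 < n)
    (v : Fin 5 ↪ Fin n) (hv : ∀ j, T.IsMinusTwo (v j)) (h01 : T.a (v 0) (v 1) ≠ 0) (h12 : T.a (v 1) (v 2) ≠ 0) (h23 : T.a (v 2) (v 3) ≠ 0) (h24 : T.a (v 2) (v 4) ≠ 0) :
    ∃ w : ℤ, (∀ j : Fin 5, T.w (v j) = w) ∧
      T.a (v 0) (v 1) = w ∧
      T.a (v 1) (v 2) = w ∧
      T.a (v 2) (v 3) = w ∧
      T.a (v 2) (v 4) = w ∧
      T.a (v 0) (v 2) = 0 ∧
      T.a (v 0) (v 3) = 0 ∧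
      T.a (v 0) (v 4) = 0 ∧
      T.a (v 1) (v 3) = 0 ∧
      T.a (v 1) (v 4) = 0 ∧
      T.a (v 3) (v 4) = 0 ∧
      T.m (v 1) ≤ 2 * T.m (v 0) ∧
      T.m (v 0) + T.m (v 2) ≤ 2 * T.m (v 1) ∧
      T.m (v 1) + T.m (v 3) + T.m (v 4) ≤ 2 * T.m (v 2) ∧
      T.m (v 2) ≤ 2 * T.m (v 3) ∧
      T.m (v 2) ≤ 2 * T.m (v 4) := by
  let g : ℕ → Fin n := fun l => match l with
    | 0 => v 0
    | 1 => v 1
    | 2 => v 2
    | _ => v 3
  have hp : GrothLib.NumType.IsPath T g 4 := by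
    refine ⟨fun a ha b hb he => ?_, fun l hl => ?_⟩
    · simp only [Set.mem_ofPred_eq] at ha hb
      interval_cases a <;> interval_cases b <;> simp_all [g]
    · have : l < 3 := by omega
      interval_cases l
      · exact (⟨(v.injective.ne (by decide : (0 : Fin _) ≠ 1)), h01⟩ : GrothLib.NumType.Adj T (v 0) (v 1))
      · exact (⟨(v.injective.ne (by decide : (1 : Fin _) ≠ 2)), h12⟩ : GrothLib.NumType.Adj T (v 1) (v 2))
      · exact (⟨(v.injective.ne (by decide : (2 : Fin _) ≠ 3)), h23⟩ : GrothLib.NumType.Adj T (v 2) (v 3))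
  have h2 : GrothLib.NumType.M2 T g 4 := fun l hl => by
    interval_cases l <;> exact (hv _).2
  have hu : ∀ l < 4, g l ≠ v 4 := fun l hl => by
    interval_cases l <;> exact v.injective.ne (by decide)
  obtain ⟨hw, hwu, ha, hbu, hz, hzu⟩ := GrothLib.NumType.fork_structure hp h2 (k := 2) hu (hv 4).2
    (by omega) (by omega) (⟨(v.injective.ne (by decide : (2 : Fin _) ≠ 4)), h24⟩ : GrothLib.NumType.Adj T (v 2) (v 4)) (by omega)
  have w0 : T.w (v 0) = T.w (g 0) := hw 0 (by omega)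
  have w1 : T.w (v 1) = T.w (g 0) := hw 1 (by omega)
  have w2 : T.w (v 2) = T.w (g 0) := hw 2 (by omega)
  have w3 : T.w (v 3) = T.w (g 0) := hw 3 (by omega)
  have w4 : T.w (v 4) = T.w (g 0) := hwu
  have a01 : T.a (v 0) (v 1) = _ := ha 0 (by omega)
  have a02 : T.a (v 0) (v 2) = _ := hz 0 2 (by omega) (by omega)
  have a03 : T.a (v 0) (v 3) = _ := hz 0 3 (by omega) (by omega)
  have a04 : T.a (v 0) (v 4) = _ := hzu 0 (by omega) (by omega)
  have a12 : T.a (v 1) (v 2) = _ := ha 1 (by omega)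
  have a13 : T.a (v 1) (v 3) = _ := hz 1 3 (by omega) (by omega)
  have a14 : T.a (v 1) (v 4) = _ := hzu 1 (by omega) (by omega)
  have a23 : T.a (v 2) (v 3) = _ := ha 2 (by omega)
  have a24 : T.a (v 2) (v 4) = _ := hbu
  have a34 : T.a (v 3) (v 4) = _ := hzu 3 (by omega) (by omega)
  have m0 := GrothLib.NumType.row1_le (hv 0).2 (v.injective.ne (by decide : (0 : Fin _) ≠ 1)) 1 ((a01.trans w0.symm).trans (one_mul _).symm)
  have m1 := GrothLib.NumType.row2_le (hv 1).2 (v.injective.ne (by decide : (1 : Fin _) ≠ 0)) (v.injective.ne (by decide : (1 : Fin _) ≠ 2)) (v.injective.ne (by decide : (0 : Fin _) ≠ 2)) 1 1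
    ((((GrothLib.NumType.a_comm T _ _).trans a01).trans w1.symm).trans (one_mul _).symm) ((a12.trans w1.symm).trans (one_mul _).symm)
  have m2 := GrothLib.NumType.m3_le (hv 2).2 (v.injective.ne (by decide : (1 : Fin _) ≠ 3)) (v.injective.ne (by decide : (1 : Fin _) ≠ 4)) (v.injective.ne (by decide : (3 : Fin _) ≠ 4))
    (((GrothLib.NumType.a_comm T _ _).trans a12).trans w2.symm) (a23.trans w2.symm) (a24.trans w2.symm)
  have m3 := GrothLib.NumType.row1_le (hv 3).2 (v.injective.ne (by decide : (3 : Fin _) ≠ 2)) 1 ((((GrothLib.NumType.a_comm T _ _).trans a23).trans w3.symm).trans (one_mul _).symm)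
  have m4 := GrothLib.NumType.row1_le (hv 4).2 (v.injective.ne (by decide : (4 : Fin _) ≠ 2)) 1 ((((GrothLib.NumType.a_comm T _ _).trans a24).trans w4.symm).trans (one_mul _).symm)
  refine ⟨T.w (g 0), fun j => by fin_cases j <;> first | exact w0 | exact w1 | exact w2 | exact w3 | exact w4, ?_⟩
  refine ⟨?_, ?_, ?_, ?_, ?_, ?_, ?_, ?_, ?_, ?_, ?_, ?_, ?_, ?_, ?_⟩ <;> first | omega | exact a01 | exact a02 | exact a03 | exact a04 | exact a12 | exact a13 | exact a14 | exact a23 | exact a24 | exact a34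

end Groth.Agent.S7347
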