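import Groth.Statements.S7349
import Groth.Agent.Lib.NumType.Sub


set_option autoImplicit false
open Finset
open Models Models.NumericalType

namespace Groth.Agent.S7349

/-- Classification of proper subgraphs of type E7 (a chain i_1 … i_6 with i_7 joined to i_4): let T be a
numerical type on n > 7 indices and i_1, …, i_7 distinct (-2)-indices with a_{12}, a_{23}, a_{34},
a_{45}, a_{56}, a_{47} nonzero. Then for some integer w all w_{i_j} equal w, these intersection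
numbers equal w, all other a_{i_j i_k} (j ≠ k) vanish, and 2 m_1 ≥ m_2, 2 m_2 ≥ m_1 + m_3, 2 m_3 ≥
m_2 + m_4, 2 m_4 ≥ m_3 + m_5 + m_7, 2 m_5 ≥ m_4 + m_6, 2 m_6 ≥ m_5, 2 m_7 ≥ m_4. -/
theorem result {n : ℕ} (T : Models.NumericalType n) (hn : 7 < n)
    (v : Fin 7 ↪ Fin n) (hv : ∀ j, T.IsMinusTwo (v j)) (h01 : T.a (v 0) (v 1) ≠ 0) (h12 : T.a (v 1) (v 2) ≠ 0) (h23 : T.a (v 2) (v 3) ≠ 0) (h34 : T.a (v 3) (v 4) ≠ 0) (h45 : T.a (v 4) (v 5) ≠ 0) (h36 : T.a (v 3) (v 6) ≠ 0) :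
    ∃ w : ℤ, (∀ j : Fin 7, T.w (v j) = w) ∧
      T.a (v 0) (v 1) = w ∧
      T.a (v 1) (v 2) = w ∧
      T.a (v 2) (v 3) = w ∧
      T.a (v 3) (v 4) = w ∧
      T.a (v 4) (v 5) = w ∧
      T.a (v 3) (v 6) = w ∧
      T.a (v 0) (v 2) = 0 ∧
      T.a (v 0) (v 3) = 0 ∧
      T.a (v 0) (v 4) = 0 ∧
      T.a (v 0) (v 5) = 0 ∧
      T.a (v 0) (v 6) = 0 ∧
      T.a (v 1) (v 3) = 0 ∧
      T.a (v 1) (v 4) = 0 ∧
      T.a (v 1) (v 5) = 0 ∧
      T.a (v 1) (v 6) = 0 ∧
      T.a (v 2) (v 4) = 0 ∧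
      T.a (v 2) (v 5) = 0 ∧
      T.a (v 2) (v 6) = 0 ∧
      T.a (v 3) (v 5) = 0 ∧
      T.a (v 4) (v 6) = 0 ∧
      T.a (v 5) (v 6) = 0 ∧
      T.m (v 1) ≤ 2 * T.m (v 0) ∧
      T.m (v 0) + T.m (v 2) ≤ 2 * T.m (v 1) ∧
      T.m (v 1) + T.m (v 3) ≤ 2 * T.m (v 2) ∧
      T.m (v 2) + T.m (v 4) + T.m (v 6) ≤ 2 * T.m (v 3) ∧
      T.m (v 3) + T.m (v 5) ≤ 2 * T.m (v 4) ∧
      T.m (v 4) ≤ 2 * T.m (v 5) ∧
      T.m (v 3) ≤ 2 * T.m (v 6) := by
  let g : ℕ → Fin n := fun l => match l with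
    | 0 => v 0
    | 1 => v 1
    | 2 => v 2
    | 3 => v 3
    | 4 => v 4
    | _ => v 5
  have hp : GrothLib.NumType.IsPath T g 6 := by
    refine ⟨fun a ha b hb he => ?_, fun l hl => ?_⟩
    · simp only [Set.mem_ofPred_eq] at ha hb
      interval_cases a <;> interval_cases b <;> simp_all [g]
    · have : l < 5 := by omega
      interval_cases l
      · exact (⟨(v.injective.ne (by decide : (0 : Fin _) ≠ 1)), h01⟩ : GrothLib.NumType.Adj T (v 0) (v 1))
      · exact (⟨(v.injective.ne (by decide : (1 : Fin _) ≠ 2)), h12⟩ : GrothLib.NumType.Adj T (v 1) (v 2))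
      · exact (⟨(v.injective.ne (by decide : (2 : Fin _) ≠ 3)), h23⟩ : GrothLib.NumType.Adj T (v 2) (v 3))
      · exact (⟨(v.injective.ne (by decide : (3 : Fin _) ≠ 4)), h34⟩ : GrothLib.NumType.Adj T (v 3) (v 4))
      · exact (⟨(v.injective.ne (by decide : (4 : Fin _) ≠ 5)), h45⟩ : GrothLib.NumType.Adj T (v 4) (v 5))
  have h2 : GrothLib.NumType.M2 T g 6 := fun l hl => by
    interval_cases l <;> exact (hv _).2
  have hu : ∀ l < 6, g l ≠ v 6 := fun l hl => by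
    interval_cases l <;> exact v.injective.ne (by decide)
  obtain ⟨hw, hwu, ha, hbu, hz, hzu⟩ := GrothLib.NumType.fork_structure hp h2 (k := 3) hu (hv 6).2
    (by omega) (by omega) (⟨(v.injective.ne (by decide : (3 : Fin _) ≠ 6)), h36⟩ : GrothLib.NumType.Adj T (v 3) (v 6)) (by omega)
  have w0 : T.w (v 0) = T.w (g 0) := hw 0 (by omega)
  have w1 : T.w (v 1) = T.w (g 0) := hw 1 (by omega)
  have w2 : T.w (v 2) = T.w (g 0) := hw 2 (by omega)
  have w3 : T.w (v 3) = T.w (g 0) := hw 3 (by omega)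
  have w4 : T.w (v 4) = T.w (g 0) := hw 4 (by omega)
  have w5 : T.w (v 5) = T.w (g 0) := hw 5 (by omega)
  have w6 : T.w (v 6) = T.w (g 0) := hwu
  have a01 : T.a (v 0) (v 1) = _ := ha 0 (by omega)
  have a02 : T.a (v 0) (v 2) = _ := hz 0 2 (by omega) (by omega)
  have a03 : T.a (v 0) (v 3) = _ := hz 0 3 (by omega) (by omega)
  have a04 : T.a (v 0) (v 4) = _ := hz 0 4 (by omega) (by omega)
  have a05 : T.a (v 0) (v 5) = _ := hz 0 5 (by omega) (by omega)
  have a06 : T.a (v 0) (v 6) = _ := hzu 0 (by omega) (by omega)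
  have a12 : T.a (v 1) (v 2) = _ := ha 1 (by omega)
  have a13 : T.a (v 1) (v 3) = _ := hz 1 3 (by omega) (by omega)
  have a14 : T.a (v 1) (v 4) = _ := hz 1 4 (by omega) (by omega)
  have a15 : T.a (v 1) (v 5) = _ := hz 1 5 (by omega) (by omega)
  have a16 : T.a (v 1) (v 6) = _ := hzu 1 (by omega) (by omega)
  have a23 : T.a (v 2) (v 3) = _ := ha 2 (by omega)
  have a24 : T.a (v 2) (v 4) = _ := hz 2 4 (by omega) (by omega)
  have a25 : T.a (v 2) (v 5) = _ := hz 2 5 (by omega) (by omega)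
  have a26 : T.a (v 2) (v 6) = _ := hzu 2 (by omega) (by omega)
  have a34 : T.a (v 3) (v 4) = _ := ha 3 (by omega)
  have a35 : T.a (v 3) (v 5) = _ := hz 3 5 (by omega) (by omega)
  have a36 : T.a (v 3) (v 6) = _ := hbu
  have a45 : T.a (v 4) (v 5) = _ := ha 4 (by omega)
  have a46 : T.a (v 4) (v 6) = _ := hzu 4 (by omega) (by omega)
  have a56 : T.a (v 5) (v 6) = _ := hzu 5 (by omega) (by omega)
  have m0 := GrothLib.NumType.row1_le (hv 0).2 (v.injective.ne (by decide : (0 : Fin _) ≠ 1)) 1 ((a01.trans w0.symm).trans (one_mul _).symm)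
  have m1 := GrothLib.NumType.row2_le (hv 1).2 (v.injective.ne (by decide : (1 : Fin _) ≠ 0)) (v.injective.ne (by decide : (1 : Fin _) ≠ 2)) (v.injective.ne (by decide : (0 : Fin _) ≠ 2)) 1 1
    ((((GrothLib.NumType.a_comm T _ _).trans a01).trans w1.symm).trans (one_mul _).symm) ((a12.trans w1.symm).trans (one_mul _).symm)
  have m2 := GrothLib.NumType.row2_le (hv 2).2 (v.injective.ne (by decide : (2 : Fin _) ≠ 1)) (v.injective.ne (by decide : (2 : Fin _) ≠ 3)) (v.injective.ne (by decide : (1 : Fin _) ≠ 3)) 1 1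
    ((((GrothLib.NumType.a_comm T _ _).trans a12).trans w2.symm).trans (one_mul _).symm) ((a23.trans w2.symm).trans (one_mul _).symm)
  have m3 := GrothLib.NumType.m3_le (hv 3).2 (v.injective.ne (by decide : (2 : Fin _) ≠ 4)) (v.injective.ne (by decide : (2 : Fin _) ≠ 6)) (v.injective.ne (by decide : (4 : Fin _) ≠ 6))
    (((GrothLib.NumType.a_comm T _ _).trans a23).trans w3.symm) (a34.trans w3.symm) (a36.trans w3.symm)
  have m4 := GrothLib.NumType.row2_le (hv 4).2 (v.injective.ne (by decide : (4 : Fin _) ≠ 3)) (v.injective.ne (by decide : (4 : Fin _) ≠ 5)) (v.injective.ne (by decide : (3 : Fin _) ≠ 5)) 1 1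
    ((((GrothLib.NumType.a_comm T _ _).trans a34).trans w4.symm).trans (one_mul _).symm) ((a45.trans w4.symm).trans (one_mul _).symm)
  have m5 := GrothLib.NumType.row1_le (hv 5).2 (v.injective.ne (by decide : (5 : Fin _) ≠ 4)) 1 ((((GrothLib.NumType.a_comm T _ _).trans a45).trans w5.symm).trans (one_mul _).symm)
  have m6 := GrothLib.NumType.row1_le (hv 6).2 (v.injective.ne (by decide : (6 : Fin _) ≠ 3)) 1 ((((GrothLib.NumType.a_comm T _ _).trans a36).trans w6.symm).trans (one_mul _).symm)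
  refine ⟨T.w (g 0), fun j => by fin_cases j <;> first | exact w0 | exact w1 | exact w2 | exact w3 | exact w4 | exact w5 | exact w6, ?_⟩
  refine ⟨?_, ?_, ?_, ?_, ?_, ?_, ?_, ?_, ?_, ?_, ?_, ?_, ?_, ?_, ?_, ?_, ?_, ?_, ?_, ?_, ?_, ?_, ?_, ?_, ?_, ?_, ?_, ?_⟩ <;> first | omega | exact a01 | exact a02 | exact a03 | exact a04 | exact a05 | exact a06 | exact a12 | exact a13 | exact a14 | exact a15 | exact a16 | exact a23 | exact a24 | exact a25 | exact a26 | exact a34 | exact a35 | exact a36 | exact a45 | exact a46 | exact a56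

end Groth.Agent.S7349
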