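import Groth.Statements.S7351
import Groth.Agent.Lib.NumType.Sub


set_option autoImplicit false
open Finset
open Models Models.NumericalType

namespace Groth.Agent.S7351

/-- Let T be a numerical type on n > 5 indices. There do not exist five distinct (-2)-indices h, i, j,
k, l with a_hi > 0, a_hj > 0, a_hk > 0 and a_hl > 0. -/
theorem result {n : ℕ} (T : Models.NumericalType n) (hn : 5 < n)
    (v : Fin 5 ↪ Fin n) (hv : ∀ j, T.IsMinusTwo (v j))
    (h01 : 0 < T.a (v 0) (v 1)) (h02 : 0 < T.a (v 0) (v 2)) (h03 : 0 < T.a (v 0) (v 3)) (h04 : 0 < T.a (v 0) (v 4)) : False := by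
  let σ : Fin 5 → Fin 5 := ![1, 2, 0, 3, 4]
  have hσ : Function.Injective σ := by decide
  let v' : Fin 5 ↪ Fin n := ⟨fun i => v (σ i), v.injective.comp hσ⟩
  have A : ∀ (a b : Fin 5), a ≠ b → 0 < T.a (v a) (v b) → GrothLib.NumType.Adj T (v a) (v b) :=
    fun a b hab h => ⟨v.injective.ne hab, h.ne'⟩
  have h2 := GrothLib.NumType.seq_m2 (T := T) v' (by omega : 0 < 5) (fun j => hv (σ j))
  have := (GrothLib.NumType.cfg_D (N := 5) le_rfl (GrothLib.NumType.seq_inj v' (by omega)) h2 (A 0 1 (by decide) h01).symm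
    (fun k h1 h3 => by
      have : k < 3 := by omega
      interval_cases k
      exacts [(A 0 2 (by decide) h02).symm, A 0 3 (by decide) h03])
    (A 0 4 (by decide) h04)).1
  omega

end Groth.Agent.S7351
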