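import Groth.Statements.S7352
import Groth.Agent.Lib.NumType.Sub


set_option autoImplicit false
open Finset
open Models Models.NumericalType

namespace Groth.Agent.S7352

/-- Classification of proper subgraphs which are chains of four vertices: let T be a numerical type on n
> 4 indices and i_1, …, i_4 distinct (-2)-indices with a_{i_j i_{j+1}} nonzero for j < 4. Then
a_{i_j i_l} = 0 for |j - l| ≥ 2 and, after possibly reversing the order of the indices, for some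
integer w one of the following holds: (A4) w = (w, w, w, w), consecutive a = (w, w, w), with 2m_1 ≥
m_2, 2m_2 ≥ m_1 + m_3, 2m_3 ≥ m_2 + m_4, 2m_4 ≥ m_3; (C4) w = (w, w, w, 2w), consecutive a = (w, w,
2w), with 2m_1 ≥ m_2, 2m_2 ≥ m_1 + m_3, 2m_3 ≥ m_2 + 2m_4, 2m_4 ≥ m_3; (B4) w = (2w, 2w, 2w, w),
consecutive a = (2w, 2w, 2w), with 2m_1 ≥ m_2, 2m_2 ≥ m_1 + m_3, 2m_3 ≥ m_2 + m_4, m_4 ≥ m_3; (F4) w
= (w, w, 2w, 2w), consecutive a = (w, 2w, 2w), with 2m_1 ≥ m_2, 2m_2 ≥ m_1 + 2m_3, 2m_3 ≥ m_2 + m_4,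
2m_4 ≥ m_3. -/
theorem result {n : ℕ} (T : Models.NumericalType n) (hn : 4 < n)
    (v : Fin 4 ↪ Fin n) (hv : ∀ j, T.IsMinusTwo (v j)) (h01 : T.a (v 0) (v 1) ≠ 0) (h12 : T.a (v 1) (v 2) ≠ 0) (h23 : T.a (v 2) (v 3) ≠ 0) :
    (T.a (v 0) (v 2) = 0 ∧ T.a (v 0) (v 3) = 0 ∧ T.a (v 1) (v 3) = 0) ∧
    ∃ (u : Fin 4 → Fin n) (w : ℤ), ((∀ j, u j = v j) ∨ (∀ j, u j = v (Fin.rev j))) ∧
      ((T.w (u 0) = w ∧ T.w (u 1) = w ∧ T.w (u 2) = w ∧ T.w (u 3) = w ∧ T.a (u 0) (u 1) = w ∧ T.a (u 1) (u 2) = w ∧ T.a (u 2) (u 3) = w ∧ T.m (u 1) ≤ 2 * T.m (u 0) ∧ T.m (u 0) + T.m (u 2) ≤ 2 * T.m (u 1) ∧ T.m (u 1) + T.m (u 3) ≤ 2 * T.m (u 2) ∧ T.m (u 2) ≤ 2 * T.m (u 3)) ∨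
      (T.w (u 0) = w ∧ T.w (u 1) = w ∧ T.w (u 2) = w ∧ T.w (u 3) = 2 * w ∧ T.a (u 0) (u 1) = w ∧ T.a (u 1) (u 2) = w ∧ T.a (u 2) (u 3) = 2 * w ∧ T.m (u 1) ≤ 2 * T.m (u 0) ∧ T.m (u 0) + T.m (u 2) ≤ 2 * T.m (u 1) ∧ T.m (u 1) + 2 * T.m (u 3) ≤ 2 * T.m (u 2) ∧ T.m (u 2) ≤ 2 * T.m (u 3)) ∨
      (T.w (u 0) = 2 * w ∧ T.w (u 1) = 2 * w ∧ T.w (u 2) = 2 * w ∧ T.w (u 3) = w ∧ T.a (u 0) (u 1) = 2 * w ∧ T.a (u 1) (u 2) = 2 * w ∧ T.a (u 2) (u 3) = 2 * w ∧ T.m (u 1) ≤ 2 * T.m (u 0) ∧ T.m (u 0) + T.m (u 2) ≤ 2 * T.m (u 1) ∧ T.m (u 1) + T.m (u 3) ≤ 2 * T.m (u 2) ∧ T.m (u 2) ≤ T.m (u 3)) ∨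
      (T.w (u 0) = w ∧ T.w (u 1) = w ∧ T.w (u 2) = 2 * w ∧ T.w (u 3) = 2 * w ∧ T.a (u 0) (u 1) = w ∧ T.a (u 1) (u 2) = 2 * w ∧ T.a (u 2) (u 3) = 2 * w ∧ T.m (u 1) ≤ 2 * T.m (u 0) ∧ T.m (u 0) + 2 * T.m (u 2) ≤ 2 * T.m (u 1) ∧ T.m (u 1) + T.m (u 3) ≤ 2 * T.m (u 2) ∧ T.m (u 2) ≤ 2 * T.m (u 3))) := by
  let g : ℕ → Fin n := fun l => match l with
    | 0 => (v 0)
    | 1 => (v 1)
    | 2 => (v 2)
    | _ => (v 3)
  have hp : GrothLib.NumType.IsPath T g 4 := by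
    refine ⟨fun a ha b hb he => ?_, fun l hl => ?_⟩
    · simp only [Set.mem_ofPred_eq] at ha hb
      interval_cases a <;> interval_cases b <;> simp_all [g]
    · have : l < 3 := by omega
      interval_cases l
      · exact ⟨v.injective.ne (by decide), h01⟩
      · exact ⟨v.injective.ne (by decide), h12⟩
      · exact ⟨v.injective.ne (by decide), h23⟩
  have h2 : GrothLib.NumType.M2 T g 4 := fun l hl => by
    interval_cases l <;> exact (hv _).2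
  have e0 := GrothLib.NumType.edge_of_proper_path hp h2 hn (by omega) (i := 0) (by omega)
  have hne0 : (v 0) ≠ (v 1) := (hp.adj 0 (by omega)).ne
  have e1 := GrothLib.NumType.edge_of_proper_path hp h2 hn (by omega) (i := 1) (by omega)
  have hne1 : (v 1) ≠ (v 2) := (hp.adj 1 (by omega)).ne
  have e2 := GrothLib.NumType.edge_of_proper_path hp h2 hn (by omega) (i := 2) (by omega)
  have hne2 : (v 2) ≠ (v 3) := (hp.adj 2 (by omega)).ne
  have z02 : T.a (v 0) (v 2) = 0 := GrothLib.NumType.zero_of_proper_path hp h2 hn (a := 0) (b := 2) (by omega) (by omega)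
  have hne02 : (v 0) ≠ (v 2) := hp.ne (by omega : 0 < 4) (by omega : 2 < 4) (by omega)
  have z03 : T.a (v 0) (v 3) = 0 := GrothLib.NumType.zero_of_proper_path hp h2 hn (a := 0) (b := 3) (by omega) (by omega)
  have hne03 : (v 0) ≠ (v 3) := hp.ne (by omega : 0 < 4) (by omega : 3 < 4) (by omega)
  have z13 : T.a (v 1) (v 3) = 0 := GrothLib.NumType.zero_of_proper_path hp h2 hn (a := 1) (b := 3) (by omega) (by omega)
  have hne13 : (v 1) ≠ (v 3) := hp.ne (by omega : 1 < 4) (by omega : 3 < 4) (by omega)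
  have d0 : T.a (v 1) (v 0) = T.a (v 0) (v 1) := GrothLib.NumType.a_comm T _ _
  have u01 : GrothLib.NumType.NS T (g 0) (g (0 + 1)) → GrothLib.NumType.NS T (g 1) (g (1 + 1)) → False := fun p q => by
    have := GrothLib.NumType.ns_unique_of_proper_path hp h2 hn (i := 0) (j := 1) (by omega) (by omega) p q; omega
  have u02 : GrothLib.NumType.NS T (g 0) (g (0 + 1)) → GrothLib.NumType.NS T (g 2) (g (2 + 1)) → False := fun p q => by
    have := GrothLib.NumType.ns_unique_of_proper_path hp h2 hn (i := 0) (j := 2) (by omega) (by omega) p q; omega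
  have d1 : T.a (v 2) (v 1) = T.a (v 1) (v 2) := GrothLib.NumType.a_comm T _ _
  have u12 : GrothLib.NumType.NS T (g 1) (g (1 + 1)) → GrothLib.NumType.NS T (g 2) (g (2 + 1)) → False := fun p q => by
    have := GrothLib.NumType.ns_unique_of_proper_path hp h2 hn (i := 1) (j := 2) (by omega) (by omega) p q; omega
  have d2 : T.a (v 3) (v 2) = T.a (v 2) (v 3) := GrothLib.NumType.a_comm T _ _
  simp only [g, Nat.reduceAdd] at e0 e1 e2
  refine ⟨⟨z02, z03, z13⟩, ?_⟩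
  rcases e0 with ⟨p0, q0⟩ | ⟨p0, q0⟩ | ⟨p0, q0⟩
  ·
    rcases e1 with ⟨p1, q1⟩ | ⟨p1, q1⟩ | ⟨p1, q1⟩
    ·
      rcases e2 with ⟨p2, q2⟩ | ⟨p2, q2⟩ | ⟨p2, q2⟩
      ·
        have r0 := GrothLib.NumType.row1_le (hv 0).2 hne0 1 (by omega)
        have r1 := GrothLib.NumType.row2_le (hv 1).2 hne0.symm hne1 hne02 1 1 (by omega) (by omega)
        have r2 := GrothLib.NumType.row2_le (hv 2).2 hne1.symm hne2 hne13 1 1 (by omega) (by omega)
        have r3 := GrothLib.NumType.row1_le (hv 3).2 hne2.symm 1 (by omega)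
        refine ⟨fun j => v j, T.w (v 0), .inl fun j => rfl, .inl ⟨?_, ?_, ?_, ?_, ?_, ?_, ?_, ?_, ?_, ?_, ?_⟩⟩ <;>
          first | omega | (simp only [Fin.reduceRev] <;> omega)
      ·
        have r0 := GrothLib.NumType.row1_le (hv 0).2 hne0 1 (by omega)
        have r1 := GrothLib.NumType.row2_le (hv 1).2 hne0.symm hne1 hne02 1 1 (by omega) (by omega)
        have r2 := GrothLib.NumType.row2_le (hv 2).2 hne1.symm hne2 hne13 1 2 (by omega) (by omega)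
        have r3 := GrothLib.NumType.row1_le (hv 3).2 hne2.symm 1 (by omega)
        refine ⟨fun j => v j, T.w (v 0), .inl fun j => rfl, .inr (.inl ⟨?_, ?_, ?_, ?_, ?_, ?_, ?_, ?_, ?_, ?_, ?_⟩)⟩ <;>
          first | omega | (simp only [Fin.reduceRev] <;> omega)
      ·
        have r0 := GrothLib.NumType.row1_le (hv 0).2 hne0 1 (by omega)
        have r1 := GrothLib.NumType.row2_le (hv 1).2 hne0.symm hne1 hne02 1 1 (by omega) (by omega)
        have r2 := GrothLib.NumType.row2_le (hv 2).2 hne1.symm hne2 hne13 1 1 (by omega) (by omega)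
        have r3 := GrothLib.NumType.row1_le (hv 3).2 hne2.symm 2 (by omega)
        refine ⟨fun j => v j, T.w (v 3), .inl fun j => rfl, .inr (.inr (.inl ⟨?_, ?_, ?_, ?_, ?_, ?_, ?_, ?_, ?_, ?_, ?_⟩))⟩ <;>
          first | omega | (simp only [Fin.reduceRev] <;> omega)
    ·
      rcases e2 with ⟨p2, q2⟩ | ⟨p2, q2⟩ | ⟨p2, q2⟩
      ·
        have r0 := GrothLib.NumType.row1_le (hv 0).2 hne0 1 (by omega)
        have r1 := GrothLib.NumType.row2_le (hv 1).2 hne0.symm hne1 hne02 1 2 (by omega) (by omega)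
        have r2 := GrothLib.NumType.row2_le (hv 2).2 hne1.symm hne2 hne13 1 1 (by omega) (by omega)
        have r3 := GrothLib.NumType.row1_le (hv 3).2 hne2.symm 1 (by omega)
        refine ⟨fun j => v j, T.w (v 0), .inl fun j => rfl, .inr (.inr (.inr (⟨?_, ?_, ?_, ?_, ?_, ?_, ?_, ?_, ?_, ?_, ?_⟩)))⟩ <;>
          first | omega | (simp only [Fin.reduceRev] <;> omega)
      · exact (u12 (.inl ⟨hp.adj 1 (by omega), p1.ge⟩) (.inl ⟨hp.adj 2 (by omega), p2.ge⟩)).elim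
      · exact (u12 (.inl ⟨hp.adj 1 (by omega), p1.ge⟩) (.inr ⟨(hp.adj 2 (by omega)).symm, by simp only [g, Nat.reduceAdd]; rw [d2]; exact p2.ge⟩)).elim
    ·
      rcases e2 with ⟨p2, q2⟩ | ⟨p2, q2⟩ | ⟨p2, q2⟩
      ·
        have r0 := GrothLib.NumType.row1_le (hv 3).2 hne2.symm 1 (by omega)
        have r1 := GrothLib.NumType.row2_le (hv 2).2 hne2 hne1.symm hne13.symm 1 2 (by omega) (by omega)
        have r2 := GrothLib.NumType.row2_le (hv 1).2 hne1 hne0.symm hne02.symm 1 1 (by omega) (by omega)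
        have r3 := GrothLib.NumType.row1_le (hv 0).2 hne0 1 (by omega)
        refine ⟨fun j => v (Fin.rev j), T.w (v 3), .inr fun j => rfl, .inr (.inr (.inr (⟨?_, ?_, ?_, ?_, ?_, ?_, ?_, ?_, ?_, ?_, ?_⟩)))⟩ <;>
          first | omega | (simp only [Fin.reduceRev] <;> omega)
      · exact (u12 (.inr ⟨(hp.adj 1 (by omega)).symm, by simp only [g, Nat.reduceAdd]; rw [d1]; exact p1.ge⟩) (.inl ⟨hp.adj 2 (by omega), p2.ge⟩)).elim
      · exact (u12 (.inr ⟨(hp.adj 1 (by omega)).symm, by simp only [g, Nat.reduceAdd]; rw [d1]; exact p1.ge⟩) (.inr ⟨(hp.adj 2 (by omega)).symm, by simp only [g, Nat.reduceAdd]; rw [d2]; exact p2.ge⟩)).elim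
  ·
    rcases e1 with ⟨p1, q1⟩ | ⟨p1, q1⟩ | ⟨p1, q1⟩
    ·
      rcases e2 with ⟨p2, q2⟩ | ⟨p2, q2⟩ | ⟨p2, q2⟩
      ·
        have r0 := GrothLib.NumType.row1_le (hv 3).2 hne2.symm 1 (by omega)
        have r1 := GrothLib.NumType.row2_le (hv 2).2 hne2 hne1.symm hne13.symm 1 1 (by omega) (by omega)
        have r2 := GrothLib.NumType.row2_le (hv 1).2 hne1 hne0.symm hne02.symm 1 1 (by omega) (by omega)
        have r3 := GrothLib.NumType.row1_le (hv 0).2 hne0 2 (by omega)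
        refine ⟨fun j => v (Fin.rev j), T.w (v 0), .inr fun j => rfl, .inr (.inr (.inl ⟨?_, ?_, ?_, ?_, ?_, ?_, ?_, ?_, ?_, ?_, ?_⟩))⟩ <;>
          first | omega | (simp only [Fin.reduceRev] <;> omega)
      · exact (u02 (.inl ⟨hp.adj 0 (by omega), p0.ge⟩) (.inl ⟨hp.adj 2 (by omega), p2.ge⟩)).elim
      · exact (u02 (.inl ⟨hp.adj 0 (by omega), p0.ge⟩) (.inr ⟨(hp.adj 2 (by omega)).symm, by simp only [g, Nat.reduceAdd]; rw [d2]; exact p2.ge⟩)).elim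
    · exact (u01 (.inl ⟨hp.adj 0 (by omega), p0.ge⟩) (.inl ⟨hp.adj 1 (by omega), p1.ge⟩)).elim
    · exact (u01 (.inl ⟨hp.adj 0 (by omega), p0.ge⟩) (.inr ⟨(hp.adj 1 (by omega)).symm, by simp only [g, Nat.reduceAdd]; rw [d1]; exact p1.ge⟩)).elim
  ·
    rcases e1 with ⟨p1, q1⟩ | ⟨p1, q1⟩ | ⟨p1, q1⟩
    ·
      rcases e2 with ⟨p2, q2⟩ | ⟨p2, q2⟩ | ⟨p2, q2⟩
      ·
        have r0 := GrothLib.NumType.row1_le (hv 3).2 hne2.symm 1 (by omega)
        have r1 := GrothLib.NumType.row2_le (hv 2).2 hne2 hne1.symm hne13.symm 1 1 (by omega) (by omega)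
        have r2 := GrothLib.NumType.row2_le (hv 1).2 hne1 hne0.symm hne02.symm 1 2 (by omega) (by omega)
        have r3 := GrothLib.NumType.row1_le (hv 0).2 hne0 1 (by omega)
        refine ⟨fun j => v (Fin.rev j), T.w (v 3), .inr fun j => rfl, .inr (.inl ⟨?_, ?_, ?_, ?_, ?_, ?_, ?_, ?_, ?_, ?_, ?_⟩)⟩ <;>
          first | omega | (simp only [Fin.reduceRev] <;> omega)
      · exact (u02 (.inr ⟨(hp.adj 0 (by omega)).symm, by simp only [g, Nat.reduceAdd]; rw [d0]; exact p0.ge⟩) (.inl ⟨hp.adj 2 (by omega), p2.ge⟩)).elim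
      · exact (u02 (.inr ⟨(hp.adj 0 (by omega)).symm, by simp only [g, Nat.reduceAdd]; rw [d0]; exact p0.ge⟩) (.inr ⟨(hp.adj 2 (by omega)).symm, by simp only [g, Nat.reduceAdd]; rw [d2]; exact p2.ge⟩)).elim
    · exact (u01 (.inr ⟨(hp.adj 0 (by omega)).symm, by simp only [g, Nat.reduceAdd]; rw [d0]; exact p0.ge⟩) (.inl ⟨hp.adj 1 (by omega), p1.ge⟩)).elim
    · exact (u01 (.inr ⟨(hp.adj 0 (by omega)).symm, by simp only [g, Nat.reduceAdd]; rw [d0]; exact p0.ge⟩) (.inr ⟨(hp.adj 1 (by omega)).symm, by simp only [g, Nat.reduceAdd]; rw [d1]; exact p1.ge⟩)).elim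

end Groth.Agent.S7352
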