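import Groth.Statements.S7353
import Groth.Agent.Lib.NumType.Sub


set_option autoImplicit false
open Finset
open Models Models.NumericalType

namespace Groth.Agent.S7353

/-- Classification of proper subgraphs which are chains of five vertices: let T be a numerical type on n
> 5 indices and i_1, …, i_5 distinct (-2)-indices with a_{i_j i_{j+1}} nonzero for j < 5. Then
a_{i_j i_l} = 0 for |j - l| ≥ 2 and, after possibly reversing the order of the indices, for some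
integer w one of the following holds: (A5) w = (w, w, w, w, w), consecutive a = (w, w, w, w), with
2m_1 ≥ m_2, 2m_2 ≥ m_1 + m_3, 2m_3 ≥ m_2 + m_4, 2m_4 ≥ m_3 + m_5, 2m_5 ≥ m_4; (C5) w = (w, w, w, w,
2w), consecutive a = (w, w, w, 2w), with 2m_1 ≥ m_2, 2m_2 ≥ m_1 + m_3, 2m_3 ≥ m_2 + m_4, 2m_4 ≥ m_3
+ 2m_5, 2m_5 ≥ m_4; (B5) w = (2w, 2w, 2w, 2w, w), consecutive a = (2w, 2w, 2w, 2w), with 2m_1 ≥ m_2,
2m_2 ≥ m_1 + m_3, 2m_3 ≥ m_2 + m_4, 2m_4 ≥ m_3 + m_5, m_5 ≥ m_4. (The inequalities are those given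
by the rows Σ_l a_{kl} m_l = 0 of the displayed matrices; the published text has 2m_3 ≥ m_2 + 2m_4
and 2m_4 ≥ m_3 + m_5 in case C5 and m_4 ≥ m_3 in case B5, of which the first does not follow — for
the numerical type with six indices, weights (1,1,1,1,2,1), chain intersection numbers (1,1,1,2)
plus a_{16} = 1, a_{66} = -1 and multiplicities (2,2,2,2,1,2) one has 2m_3 = 4 < m_2 + 2m_4 = 6 — so
the matrix inequalities are stated.) -/
theorem result {n : ℕ} (T : Models.NumericalType n) (hn : 5 < n)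
    (v : Fin 5 ↪ Fin n) (hv : ∀ j, T.IsMinusTwo (v j)) (h01 : T.a (v 0) (v 1) ≠ 0) (h12 : T.a (v 1) (v 2) ≠ 0) (h23 : T.a (v 2) (v 3) ≠ 0) (h34 : T.a (v 3) (v 4) ≠ 0) :
    (T.a (v 0) (v 2) = 0 ∧ T.a (v 0) (v 3) = 0 ∧ T.a (v 0) (v 4) = 0 ∧ T.a (v 1) (v 3) = 0 ∧ T.a (v 1) (v 4) = 0 ∧ T.a (v 2) (v 4) = 0) ∧
    ∃ (u : Fin 5 → Fin n) (w : ℤ), ((∀ j, u j = v j) ∨ (∀ j, u j = v (Fin.rev j))) ∧
      ((T.w (u 0) = w ∧ T.w (u 1) = w ∧ T.w (u 2) = w ∧ T.w (u 3) = w ∧ T.w (u 4) = w ∧ T.a (u 0) (u 1) = w ∧ T.a (u 1) (u 2) = w ∧ T.a (u 2) (u 3) = w ∧ T.a (u 3) (u 4) = w ∧ T.m (u 1) ≤ 2 * T.m (u 0) ∧ T.m (u 0) + T.m (u 2) ≤ 2 * T.m (u 1) ∧ T.m (u 1) + T.m (u 3) ≤ 2 * T.m (u 2) ∧ T.m (u 2) + T.m (u 4) ≤ 2 * T.m (u 3) ∧ T.m (u 3) ≤ 2 * T.m (u 4)) ∨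
      (T.w (u 0) = w ∧ T.w (u 1) = w ∧ T.w (u 2) = w ∧ T.w (u 3) = w ∧ T.w (u 4) = 2 * w ∧ T.a (u 0) (u 1) = w ∧ T.a (u 1) (u 2) = w ∧ T.a (u 2) (u 3) = w ∧ T.a (u 3) (u 4) = 2 * w ∧ T.m (u 1) ≤ 2 * T.m (u 0) ∧ T.m (u 0) + T.m (u 2) ≤ 2 * T.m (u 1) ∧ T.m (u 1) + T.m (u 3) ≤ 2 * T.m (u 2) ∧ T.m (u 2) + 2 * T.m (u 4) ≤ 2 * T.m (u 3) ∧ T.m (u 3) ≤ 2 * T.m (u 4)) ∨
      (T.w (u 0) = 2 * w ∧ T.w (u 1) = 2 * w ∧ T.w (u 2) = 2 * w ∧ T.w (u 3) = 2 * w ∧ T.w (u 4) = w ∧ T.a (u 0) (u 1) = 2 * w ∧ T.a (u 1) (u 2) = 2 * w ∧ T.a (u 2) (u 3) = 2 * w ∧ T.a (u 3) (u 4) = 2 * w ∧ T.m (u 1) ≤ 2 * T.m (u 0) ∧ T.m (u 0) + T.m (u 2) ≤ 2 * T.m (u 1) ∧ T.m (u 1) + T.m (u 3) ≤ 2 * T.m (u 2) ∧ T.m (u 2) + T.m (u 4) ≤ 2 * T.m (u 3) ∧ T.m (u 3) ≤ T.m (u 4))) := by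
  let g : ℕ → Fin n := fun l => match l with
    | 0 => (v 0)
    | 1 => (v 1)
    | 2 => (v 2)
    | 3 => (v 3)
    | _ => (v 4)
  have hp : GrothLib.NumType.IsPath T g 5 := by
    refine ⟨fun a ha b hb he => ?_, fun l hl => ?_⟩
    · simp only [Set.mem_ofPred_eq] at ha hb
      interval_cases a <;> interval_cases b <;> simp_all [g]
    · have : l < 4 := by omega
      interval_cases l
      · exact ⟨v.injective.ne (by decide), h01⟩
      · exact ⟨v.injective.ne (by decide), h12⟩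
      · exact ⟨v.injective.ne (by decide), h23⟩
      · exact ⟨v.injective.ne (by decide), h34⟩
  have h2 : GrothLib.NumType.M2 T g 5 := fun l hl => by
    interval_cases l <;> exact (hv _).2
  have e0 := GrothLib.NumType.edge_of_proper_path hp h2 hn (by omega) (i := 0) (by omega)
  have hne0 : (v 0) ≠ (v 1) := (hp.adj 0 (by omega)).ne
  have e1 := GrothLib.NumType.edge_of_proper_path hp h2 hn (by omega) (i := 1) (by omega)
  have hne1 : (v 1) ≠ (v 2) := (hp.adj 1 (by omega)).ne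
  have e2 := GrothLib.NumType.edge_of_proper_path hp h2 hn (by omega) (i := 2) (by omega)
  have hne2 : (v 2) ≠ (v 3) := (hp.adj 2 (by omega)).ne
  have e3 := GrothLib.NumType.edge_of_proper_path hp h2 hn (by omega) (i := 3) (by omega)
  have hne3 : (v 3) ≠ (v 4) := (hp.adj 3 (by omega)).ne
  have z02 : T.a (v 0) (v 2) = 0 := GrothLib.NumType.zero_of_proper_path hp h2 hn (a := 0) (b := 2) (by omega) (by omega)
  have hne02 : (v 0) ≠ (v 2) := hp.ne (by omega : 0 < 5) (by omega : 2 < 5) (by omega)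
  have z03 : T.a (v 0) (v 3) = 0 := GrothLib.NumType.zero_of_proper_path hp h2 hn (a := 0) (b := 3) (by omega) (by omega)
  have hne03 : (v 0) ≠ (v 3) := hp.ne (by omega : 0 < 5) (by omega : 3 < 5) (by omega)
  have z04 : T.a (v 0) (v 4) = 0 := GrothLib.NumType.zero_of_proper_path hp h2 hn (a := 0) (b := 4) (by omega) (by omega)
  have hne04 : (v 0) ≠ (v 4) := hp.ne (by omega : 0 < 5) (by omega : 4 < 5) (by omega)
  have z13 : T.a (v 1) (v 3) = 0 := GrothLib.NumType.zero_of_proper_path hp h2 hn (a := 1) (b := 3) (by omega) (by omega)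
  have hne13 : (v 1) ≠ (v 3) := hp.ne (by omega : 1 < 5) (by omega : 3 < 5) (by omega)
  have z14 : T.a (v 1) (v 4) = 0 := GrothLib.NumType.zero_of_proper_path hp h2 hn (a := 1) (b := 4) (by omega) (by omega)
  have hne14 : (v 1) ≠ (v 4) := hp.ne (by omega : 1 < 5) (by omega : 4 < 5) (by omega)
  have z24 : T.a (v 2) (v 4) = 0 := GrothLib.NumType.zero_of_proper_path hp h2 hn (a := 2) (b := 4) (by omega) (by omega)
  have hne24 : (v 2) ≠ (v 4) := hp.ne (by omega : 2 < 5) (by omega : 4 < 5) (by omega)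
  have d0 : T.a (v 1) (v 0) = T.a (v 0) (v 1) := GrothLib.NumType.a_comm T _ _
  have u01 : GrothLib.NumType.NS T (g 0) (g (0 + 1)) → GrothLib.NumType.NS T (g 1) (g (1 + 1)) → False := fun p q => by
    have := GrothLib.NumType.ns_unique_of_proper_path hp h2 hn (i := 0) (j := 1) (by omega) (by omega) p q; omega
  have u02 : GrothLib.NumType.NS T (g 0) (g (0 + 1)) → GrothLib.NumType.NS T (g 2) (g (2 + 1)) → False := fun p q => by
    have := GrothLib.NumType.ns_unique_of_proper_path hp h2 hn (i := 0) (j := 2) (by omega) (by omega) p q; omega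
  have u03 : GrothLib.NumType.NS T (g 0) (g (0 + 1)) → GrothLib.NumType.NS T (g 3) (g (3 + 1)) → False := fun p q => by
    have := GrothLib.NumType.ns_unique_of_proper_path hp h2 hn (i := 0) (j := 3) (by omega) (by omega) p q; omega
  have d1 : T.a (v 2) (v 1) = T.a (v 1) (v 2) := GrothLib.NumType.a_comm T _ _
  have u12 : GrothLib.NumType.NS T (g 1) (g (1 + 1)) → GrothLib.NumType.NS T (g 2) (g (2 + 1)) → False := fun p q => by
    have := GrothLib.NumType.ns_unique_of_proper_path hp h2 hn (i := 1) (j := 2) (by omega) (by omega) p q; omega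
  have u13 : GrothLib.NumType.NS T (g 1) (g (1 + 1)) → GrothLib.NumType.NS T (g 3) (g (3 + 1)) → False := fun p q => by
    have := GrothLib.NumType.ns_unique_of_proper_path hp h2 hn (i := 1) (j := 3) (by omega) (by omega) p q; omega
  have d2 : T.a (v 3) (v 2) = T.a (v 2) (v 3) := GrothLib.NumType.a_comm T _ _
  have u23 : GrothLib.NumType.NS T (g 2) (g (2 + 1)) → GrothLib.NumType.NS T (g 3) (g (3 + 1)) → False := fun p q => by
    have := GrothLib.NumType.ns_unique_of_proper_path hp h2 hn (i := 2) (j := 3) (by omega) (by omega) p q; omega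
  have d3 : T.a (v 4) (v 3) = T.a (v 3) (v 4) := GrothLib.NumType.a_comm T _ _
  simp only [g, Nat.reduceAdd] at e0 e1 e2 e3
  refine ⟨⟨z02, z03, z04, z13, z14, z24⟩, ?_⟩
  rcases e0 with ⟨p0, q0⟩ | ⟨p0, q0⟩ | ⟨p0, q0⟩
  ·
    rcases e1 with ⟨p1, q1⟩ | ⟨p1, q1⟩ | ⟨p1, q1⟩
    ·
      rcases e2 with ⟨p2, q2⟩ | ⟨p2, q2⟩ | ⟨p2, q2⟩
      ·
        rcases e3 with ⟨p3, q3⟩ | ⟨p3, q3⟩ | ⟨p3, q3⟩
        ·
          have r0 := GrothLib.NumType.row1_le (hv 0).2 hne0 1 (by omega)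
          have r1 := GrothLib.NumType.row2_le (hv 1).2 hne0.symm hne1 hne02 1 1 (by omega) (by omega)
          have r2 := GrothLib.NumType.row2_le (hv 2).2 hne1.symm hne2 hne13 1 1 (by omega) (by omega)
          have r3 := GrothLib.NumType.row2_le (hv 3).2 hne2.symm hne3 hne24 1 1 (by omega) (by omega)
          have r4 := GrothLib.NumType.row1_le (hv 4).2 hne3.symm 1 (by omega)
          refine ⟨fun j => v j, T.w (v 0), .inl fun j => rfl, .inl ⟨?_, ?_, ?_, ?_, ?_, ?_, ?_, ?_, ?_, ?_, ?_, ?_, ?_, ?_⟩⟩ <;>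
            first | omega | (simp only [Fin.reduceRev] <;> omega)
        ·
          have r0 := GrothLib.NumType.row1_le (hv 0).2 hne0 1 (by omega)
          have r1 := GrothLib.NumType.row2_le (hv 1).2 hne0.symm hne1 hne02 1 1 (by omega) (by omega)
          have r2 := GrothLib.NumType.row2_le (hv 2).2 hne1.symm hne2 hne13 1 1 (by omega) (by omega)
          have r3 := GrothLib.NumType.row2_le (hv 3).2 hne2.symm hne3 hne24 1 2 (by omega) (by omega)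
          have r4 := GrothLib.NumType.row1_le (hv 4).2 hne3.symm 1 (by omega)
          refine ⟨fun j => v j, T.w (v 0), .inl fun j => rfl, .inr (.inl ⟨?_, ?_, ?_, ?_, ?_, ?_, ?_, ?_, ?_, ?_, ?_, ?_, ?_, ?_⟩)⟩ <;>
            first | omega | (simp only [Fin.reduceRev] <;> omega)
        ·
          have r0 := GrothLib.NumType.row1_le (hv 0).2 hne0 1 (by omega)
          have r1 := GrothLib.NumType.row2_le (hv 1).2 hne0.symm hne1 hne02 1 1 (by omega) (by omega)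
          have r2 := GrothLib.NumType.row2_le (hv 2).2 hne1.symm hne2 hne13 1 1 (by omega) (by omega)
          have r3 := GrothLib.NumType.row2_le (hv 3).2 hne2.symm hne3 hne24 1 1 (by omega) (by omega)
          have r4 := GrothLib.NumType.row1_le (hv 4).2 hne3.symm 2 (by omega)
          refine ⟨fun j => v j, T.w (v 4), .inl fun j => rfl, .inr (.inr (⟨?_, ?_, ?_, ?_, ?_, ?_, ?_, ?_, ?_, ?_, ?_, ?_, ?_, ?_⟩))⟩ <;>
            first | omega | (simp only [Fin.reduceRev] <;> omega)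
      ·
        rcases e3 with ⟨p3, q3⟩ | ⟨p3, q3⟩ | ⟨p3, q3⟩
        ·
          exact absurd (GrothLib.NumType.affine_of_interior_ns hp h2 (i := 2) (by omega) (by omega) (by omega) (.inl ⟨hp.adj 2 (by omega), p2.ge⟩)).1 (by omega)
        · exact (u23 (.inl ⟨hp.adj 2 (by omega), p2.ge⟩) (.inl ⟨hp.adj 3 (by omega), p3.ge⟩)).elim
        · exact (u23 (.inl ⟨hp.adj 2 (by omega), p2.ge⟩) (.inr ⟨(hp.adj 3 (by omega)).symm, by simp only [g, Nat.reduceAdd]; rw [d3]; exact p3.ge⟩)).elim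
      ·
        rcases e3 with ⟨p3, q3⟩ | ⟨p3, q3⟩ | ⟨p3, q3⟩
        ·
          exact absurd (GrothLib.NumType.affine_of_interior_ns hp h2 (i := 2) (by omega) (by omega) (by omega) (.inr ⟨(hp.adj 2 (by omega)).symm, by simp only [g, Nat.reduceAdd]; rw [d2]; exact p2.ge⟩)).1 (by omega)
        · exact (u23 (.inr ⟨(hp.adj 2 (by omega)).symm, by simp only [g, Nat.reduceAdd]; rw [d2]; exact p2.ge⟩) (.inl ⟨hp.adj 3 (by omega), p3.ge⟩)).elim
        · exact (u23 (.inr ⟨(hp.adj 2 (by omega)).symm, by simp only [g, Nat.reduceAdd]; rw [d2]; exact p2.ge⟩) (.inr ⟨(hp.adj 3 (by omega)).symm, by simp only [g, Nat.reduceAdd]; rw [d3]; exact p3.ge⟩)).elim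
    ·
      rcases e2 with ⟨p2, q2⟩ | ⟨p2, q2⟩ | ⟨p2, q2⟩
      ·
        rcases e3 with ⟨p3, q3⟩ | ⟨p3, q3⟩ | ⟨p3, q3⟩
        ·
          exact absurd (GrothLib.NumType.affine_of_interior_ns hp h2 (i := 1) (by omega) (by omega) (by omega) (.inl ⟨hp.adj 1 (by omega), p1.ge⟩)).1 (by omega)
        · exact (u13 (.inl ⟨hp.adj 1 (by omega), p1.ge⟩) (.inl ⟨hp.adj 3 (by omega), p3.ge⟩)).elim
        · exact (u13 (.inl ⟨hp.adj 1 (by omega), p1.ge⟩) (.inr ⟨(hp.adj 3 (by omega)).symm, by simp only [g, Nat.reduceAdd]; rw [d3]; exact p3.ge⟩)).elim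
      · exact (u12 (.inl ⟨hp.adj 1 (by omega), p1.ge⟩) (.inl ⟨hp.adj 2 (by omega), p2.ge⟩)).elim
      · exact (u12 (.inl ⟨hp.adj 1 (by omega), p1.ge⟩) (.inr ⟨(hp.adj 2 (by omega)).symm, by simp only [g, Nat.reduceAdd]; rw [d2]; exact p2.ge⟩)).elim
    ·
      rcases e2 with ⟨p2, q2⟩ | ⟨p2, q2⟩ | ⟨p2, q2⟩
      ·
        rcases e3 with ⟨p3, q3⟩ | ⟨p3, q3⟩ | ⟨p3, q3⟩
        ·
          exact absurd (GrothLib.NumType.affine_of_interior_ns hp h2 (i := 1) (by omega) (by omega) (by omega) (.inr ⟨(hp.adj 1 (by omega)).symm, by simp only [g, Nat.reduceAdd]; rw [d1]; exact p1.ge⟩)).1 (by omega)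
        · exact (u13 (.inr ⟨(hp.adj 1 (by omega)).symm, by simp only [g, Nat.reduceAdd]; rw [d1]; exact p1.ge⟩) (.inl ⟨hp.adj 3 (by omega), p3.ge⟩)).elim
        · exact (u13 (.inr ⟨(hp.adj 1 (by omega)).symm, by simp only [g, Nat.reduceAdd]; rw [d1]; exact p1.ge⟩) (.inr ⟨(hp.adj 3 (by omega)).symm, by simp only [g, Nat.reduceAdd]; rw [d3]; exact p3.ge⟩)).elim
      · exact (u12 (.inr ⟨(hp.adj 1 (by omega)).symm, by simp only [g, Nat.reduceAdd]; rw [d1]; exact p1.ge⟩) (.inl ⟨hp.adj 2 (by omega), p2.ge⟩)).elim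
      · exact (u12 (.inr ⟨(hp.adj 1 (by omega)).symm, by simp only [g, Nat.reduceAdd]; rw [d1]; exact p1.ge⟩) (.inr ⟨(hp.adj 2 (by omega)).symm, by simp only [g, Nat.reduceAdd]; rw [d2]; exact p2.ge⟩)).elim
  ·
    rcases e1 with ⟨p1, q1⟩ | ⟨p1, q1⟩ | ⟨p1, q1⟩
    ·
      rcases e2 with ⟨p2, q2⟩ | ⟨p2, q2⟩ | ⟨p2, q2⟩
      ·
        rcases e3 with ⟨p3, q3⟩ | ⟨p3, q3⟩ | ⟨p3, q3⟩
        ·
          have r0 := GrothLib.NumType.row1_le (hv 4).2 hne3.symm 1 (by omega)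
          have r1 := GrothLib.NumType.row2_le (hv 3).2 hne3 hne2.symm hne24.symm 1 1 (by omega) (by omega)
          have r2 := GrothLib.NumType.row2_le (hv 2).2 hne2 hne1.symm hne13.symm 1 1 (by omega) (by omega)
          have r3 := GrothLib.NumType.row2_le (hv 1).2 hne1 hne0.symm hne02.symm 1 1 (by omega) (by omega)
          have r4 := GrothLib.NumType.row1_le (hv 0).2 hne0 2 (by omega)
          refine ⟨fun j => v (Fin.rev j), T.w (v 0), .inr fun j => rfl, .inr (.inr (⟨?_, ?_, ?_, ?_, ?_, ?_, ?_, ?_, ?_, ?_, ?_, ?_, ?_, ?_⟩))⟩ <;>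
            first | omega | (simp only [Fin.reduceRev] <;> omega)
        · exact (u03 (.inl ⟨hp.adj 0 (by omega), p0.ge⟩) (.inl ⟨hp.adj 3 (by omega), p3.ge⟩)).elim
        · exact (u03 (.inl ⟨hp.adj 0 (by omega), p0.ge⟩) (.inr ⟨(hp.adj 3 (by omega)).symm, by simp only [g, Nat.reduceAdd]; rw [d3]; exact p3.ge⟩)).elim
      · exact (u02 (.inl ⟨hp.adj 0 (by omega), p0.ge⟩) (.inl ⟨hp.adj 2 (by omega), p2.ge⟩)).elim
      · exact (u02 (.inl ⟨hp.adj 0 (by omega), p0.ge⟩) (.inr ⟨(hp.adj 2 (by omega)).symm, by simp only [g, Nat.reduceAdd]; rw [d2]; exact p2.ge⟩)).elim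
    · exact (u01 (.inl ⟨hp.adj 0 (by omega), p0.ge⟩) (.inl ⟨hp.adj 1 (by omega), p1.ge⟩)).elim
    · exact (u01 (.inl ⟨hp.adj 0 (by omega), p0.ge⟩) (.inr ⟨(hp.adj 1 (by omega)).symm, by simp only [g, Nat.reduceAdd]; rw [d1]; exact p1.ge⟩)).elim
  ·
    rcases e1 with ⟨p1, q1⟩ | ⟨p1, q1⟩ | ⟨p1, q1⟩
    ·
      rcases e2 with ⟨p2, q2⟩ | ⟨p2, q2⟩ | ⟨p2, q2⟩
      ·
        rcases e3 with ⟨p3, q3⟩ | ⟨p3, q3⟩ | ⟨p3, q3⟩
        ·
          have r0 := GrothLib.NumType.row1_le (hv 4).2 hne3.symm 1 (by omega)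
          have r1 := GrothLib.NumType.row2_le (hv 3).2 hne3 hne2.symm hne24.symm 1 1 (by omega) (by omega)
          have r2 := GrothLib.NumType.row2_le (hv 2).2 hne2 hne1.symm hne13.symm 1 1 (by omega) (by omega)
          have r3 := GrothLib.NumType.row2_le (hv 1).2 hne1 hne0.symm hne02.symm 1 2 (by omega) (by omega)
          have r4 := GrothLib.NumType.row1_le (hv 0).2 hne0 1 (by omega)
          refine ⟨fun j => v (Fin.rev j), T.w (v 4), .inr fun j => rfl, .inr (.inl ⟨?_, ?_, ?_, ?_, ?_, ?_, ?_, ?_, ?_, ?_, ?_, ?_, ?_, ?_⟩)⟩ <;>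
            first | omega | (simp only [Fin.reduceRev] <;> omega)
        · exact (u03 (.inr ⟨(hp.adj 0 (by omega)).symm, by simp only [g, Nat.reduceAdd]; rw [d0]; exact p0.ge⟩) (.inl ⟨hp.adj 3 (by omega), p3.ge⟩)).elim
        · exact (u03 (.inr ⟨(hp.adj 0 (by omega)).symm, by simp only [g, Nat.reduceAdd]; rw [d0]; exact p0.ge⟩) (.inr ⟨(hp.adj 3 (by omega)).symm, by simp only [g, Nat.reduceAdd]; rw [d3]; exact p3.ge⟩)).elim
      · exact (u02 (.inr ⟨(hp.adj 0 (by omega)).symm, by simp only [g, Nat.reduceAdd]; rw [d0]; exact p0.ge⟩) (.inl ⟨hp.adj 2 (by omega), p2.ge⟩)).elim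
      · exact (u02 (.inr ⟨(hp.adj 0 (by omega)).symm, by simp only [g, Nat.reduceAdd]; rw [d0]; exact p0.ge⟩) (.inr ⟨(hp.adj 2 (by omega)).symm, by simp only [g, Nat.reduceAdd]; rw [d2]; exact p2.ge⟩)).elim
    · exact (u01 (.inr ⟨(hp.adj 0 (by omega)).symm, by simp only [g, Nat.reduceAdd]; rw [d0]; exact p0.ge⟩) (.inl ⟨hp.adj 1 (by omega), p1.ge⟩)).elim
    · exact (u01 (.inr ⟨(hp.adj 0 (by omega)).symm, by simp only [g, Nat.reduceAdd]; rw [d0]; exact p0.ge⟩) (.inr ⟨(hp.adj 1 (by omega)).symm, by simp only [g, Nat.reduceAdd]; rw [d1]; exact p1.ge⟩)).elim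

end Groth.Agent.S7353
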