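import Groth.Statements.S7354
import Groth.Agent.Lib.NumType.Sub


set_option autoImplicit false
open Finset
open Models Models.NumericalType

namespace Groth.Agent.S7354

open GrothLib.NumType in
theorem last_edge {n : ℕ} {T : Models.NumericalType n} {g : ℕ → Fin n} {t : ℕ} (hp : IsPath T g t)
    (h2 : M2 T g t) (hn : t < n) (ht : 3 ≤ t)
    (hs : ∀ j, j + 2 < t → ¬ NS T (g j) (g (j + 1))) :
    ∃ w : ℤ, ((∀ l < t, T.w (g l) = w) ∧ (∀ l, l + 1 < t → T.a (g l) (g (l + 1)) = w)) ∨
      ((∀ l, l + 1 < t → T.w (g l) = w) ∧ (∀ l, l + 1 = t → T.w (g l) = 2 * w) ∧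
        (∀ l, l + 2 < t → T.a (g l) (g (l + 1)) = w) ∧ (∀ l, l + 2 = t → T.a (g l) (g (l + 1)) = 2 * w)) ∨
      ((∀ l, l + 1 < t → T.w (g l) = 2 * w) ∧ (∀ l, l + 1 = t → T.w (g l) = w) ∧
        (∀ l, l + 1 < t → T.a (g l) (g (l + 1)) = 2 * w)) := by
  have hc := w_const_of_simple (T := T) (v := g) (N := t - 1) fun i hi =>
    ((hp.adj i (by omega)).simple (hs i (by omega))).2
  have ha : ∀ l, l + 2 < t → T.a (g l) (g (l + 1)) = T.w (g 0) := fun l hl => by
    rw [((hp.adj l (by omega)).simple (hs l hl)).1, hc l (by omega)]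
  have hw2 := hc (t - 2) (by omega)
  have hlast := edge_of_proper_path hp h2 hn ht (i := t - 2) (by omega)
  rw [show t - 2 + 1 = t - 1 by omega] at hlast
  rcases hlast with ⟨e1, e2⟩ | ⟨e1, e2⟩ | ⟨e1, e2⟩
  · refine ⟨T.w (g 0), .inl ⟨fun l hl => ?_, fun l hl => ?_⟩⟩
    · rcases (show l + 1 < t ∨ l = t - 1 by omega) with h | rfl
      · exact hc l (by omega)
      · omega
    · rcases (show l + 2 < t ∨ l = t - 2 by omega) with h | rfl
      · exact ha l h
      · rw [show t - 2 + 1 = t - 1 by omega]; omega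
  · refine ⟨T.w (g 0), .inr (.inl ⟨fun l hl => hc l (by omega), fun l hl => ?_, ha, fun l hl => ?_⟩)⟩
    · obtain rfl : l = t - 1 := by omega
      omega
    · obtain rfl : l = t - 2 := by omega
      rw [show t - 2 + 1 = t - 1 by omega]; omega
  · refine ⟨T.w (g (t - 1)), .inr (.inr ⟨fun l hl => ?_, fun l hl => ?_, fun l hl => ?_⟩)⟩
    · have := hc l (by omega); omega
    · rw [show l = t - 1 by omega]
    · rcases (show l + 2 < t ∨ l = t - 2 by omega) with h | rfl
      · have := ha l h; omega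
      · rw [show t - 2 + 1 = t - 1 by omega]; omega

/-- Let T be a numerical type on n indices, t > 5 with n > t, and i_1, …, i_t distinct (-2)-indices with
a_{i_j i_{j+1}} nonzero for j = 1, …, t - 1. Then, after possibly reversing the order of the
indices, for some integer w either (A) w_{i_1} = … = w_{i_t} = w and a_{i_j i_{j+1}} = w for all j;
or (C) w_{i_1} = … = w_{i_{t-1}} = w, w_{i_t} = 2w, a_{i_j i_{j+1}} = w for j < t - 1 and a_{i_{t-1}
i_t} = 2w; or (B) w_{i_1} = … = w_{i_{t-1}} = 2w, w_{i_t} = w and a_{i_j i_{j+1}} = 2w for all j;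
and in every case a_{i_j i_k} = 0 whenever k > j + 1. -/
theorem result {n : ℕ} (T : Models.NumericalType n) (t : ℕ) (ht : 5 < t) (hn : t < n)
    (v : Fin t ↪ Fin n) (hv : ∀ j, T.IsMinusTwo (v j))
    (hchain : ∀ j j' : Fin t, j'.val = j.val + 1 → T.a (v j) (v j') ≠ 0) :
    ∃ (u : Fin t → Fin n) (w : ℤ), ((∀ j, u j = v j) ∨ (∀ j, u j = v (Fin.rev j))) ∧
      (∀ j k : Fin t, j.val + 1 < k.val → T.a (u j) (u k) = 0) ∧
      ((∀ j : Fin t, T.w (u j) = w) ∧ (∀ j j' : Fin t, j'.val = j.val + 1 → T.a (u j) (u j') = w) ∨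
        ((∀ j : Fin t, j.val + 1 < t → T.w (u j) = w) ∧ (∀ j : Fin t, j.val + 1 = t → T.w (u j) = 2 * w) ∧
          (∀ j j' : Fin t, j'.val = j.val + 1 → j'.val + 1 < t → T.a (u j) (u j') = w) ∧
          (∀ j j' : Fin t, j'.val = j.val + 1 → j'.val + 1 = t → T.a (u j) (u j') = 2 * w)) ∨
        ((∀ j : Fin t, j.val + 1 < t → T.w (u j) = 2 * w) ∧ (∀ j : Fin t, j.val + 1 = t → T.w (u j) = w) ∧
          (∀ j j' : Fin t, j'.val = j.val + 1 → T.a (u j) (u j') = 2 * w))) := by
  set g := GrothLib.NumType.seq v (by omega : 0 < t) with hg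
  have S : ∀ j : Fin t, g j.val = v j := GrothLib.NumType.seq_val v _
  have h2 : GrothLib.NumType.M2 T g t := GrothLib.NumType.seq_m2 v _ hv
  have hp : GrothLib.NumType.IsPath T g t := ⟨GrothLib.NumType.seq_inj v _, fun k hk => by
    have h := hchain ⟨k, by omega⟩ ⟨k + 1, hk⟩ rfl
    rw [← S ⟨k, by omega⟩, ← S ⟨k + 1, hk⟩] at h
    exact ⟨fun he => by
      have := GrothLib.NumType.seq_inj v _ (show k < t by omega) (show k + 1 < t by omega) he
      omega, h⟩⟩
  have hz : ∀ j k : Fin t, j.val + 1 < k.val → T.a (v j) (v k) = 0 := fun j k hjk => by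
    rw [← S j, ← S k]; exact GrothLib.NumType.zero_of_proper_path hp h2 hn hjk k.isLt
  by_cases hex : ∃ i, i + 1 < t ∧ GrothLib.NumType.NS T (g i) (g (i + 1))
  · obtain ⟨i, hi, hns⟩ := hex
    have huniq : ∀ j, j + 1 < t → j ≠ i → ¬ GrothLib.NumType.NS T (g j) (g (j + 1)) :=
      fun j hj hne h => hne (GrothLib.NumType.ns_unique_of_proper_path hp h2 hn hj hi h hns)
    rcases (show i + 2 = t ∨ i = 0 ∨ (1 ≤ i ∧ i + 2 < t) by omega) with h | h | h
    · have hform := last_edge hp h2 hn (by omega) (fun j hj => huniq j (by omega) (by omega))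
      obtain ⟨w, hw⟩ := hform
      refine ⟨fun j => v j, w, .inl fun j => rfl, hz, ?_⟩
      rcases hw with ⟨h1, h2⟩ | ⟨h1, h2, h3, h4⟩ | ⟨h1, h2, h3⟩
      · refine .inl ⟨fun j => ?_, fun j j' hjj' => ?_⟩
        · show T.w (v j) = w; rw [← S j]; exact h1 _ j.isLt
        · show T.a (v j) (v j') = w; rw [← S j, ← S j', hjj']; exact h2 _ (by omega)
      · refine .inr (.inl ⟨fun j hj => ?_, fun j hj => ?_, fun j j' hjj' hj' => ?_, fun j j' hjj' hj' => ?_⟩)
        · show T.w (v j) = w; rw [← S j]; exact h1 _ hj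
        · show T.w (v j) = 2 * w; rw [← S j]; exact h2 _ hj
        · show T.a (v j) (v j') = w; rw [← S j, ← S j', hjj']; exact h3 _ (by omega)
        · show T.a (v j) (v j') = 2 * w; rw [← S j, ← S j', hjj']; exact h4 _ (by omega)
      · refine .inr (.inr ⟨fun j hj => ?_, fun j hj => ?_, fun j j' hjj' => ?_⟩)
        · show T.w (v j) = 2 * w; rw [← S j]; exact h1 _ hj
        · show T.w (v j) = w; rw [← S j]; exact h2 _ hj
        · show T.a (v j) (v j') = 2 * w; rw [← S j, ← S j', hjj']; exact h3 _ (by omega)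
    · have hform := last_edge hp.rev (fun l hl => h2 _ (by omega)) hn (by omega) (fun j hj => by
        intro hj'
        refine huniq (t - 1 - (j + 1)) (by omega) (by omega) ?_
        rw [show t - 1 - (j + 1) + 1 = t - 1 - j by omega]
        exact hj'.symm)
      obtain ⟨w, hw⟩ := hform
      have S' : ∀ j : Fin t, g (t - 1 - j.val) = v (Fin.rev j) := fun j => by
        rw [← S (Fin.rev j), Fin.val_rev]; congr 1; omega
      refine ⟨fun j => v (Fin.rev j), w, .inr fun j => rfl, fun j k hjk => ?_, ?_⟩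
      · show T.a (v _) (v _) = 0
        rw [GrothLib.NumType.a_comm]; exact hz _ _ (by simp only [Fin.val_rev]; omega)
      rcases hw with ⟨h1, h2⟩ | ⟨h1, h2, h3, h4⟩ | ⟨h1, h2, h3⟩
      · refine .inl ⟨fun j => ?_, fun j j' hjj' => ?_⟩
        · show T.w (v j.rev) = w; rw [← S' j]; exact h1 _ j.isLt
        · show T.a (v j.rev) (v j'.rev) = w; rw [← S' j, ← S' j', hjj']; exact h2 _ (by omega)
      · refine .inr (.inl ⟨fun j hj => ?_, fun j hj => ?_, fun j j' hjj' hj' => ?_, fun j j' hjj' hj' => ?_⟩)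
        · show T.w (v j.rev) = w; rw [← S' j]; exact h1 _ hj
        · show T.w (v j.rev) = 2 * w; rw [← S' j]; exact h2 _ hj
        · show T.a (v j.rev) (v j'.rev) = w; rw [← S' j, ← S' j', hjj']; exact h3 _ (by omega)
        · show T.a (v j.rev) (v j'.rev) = 2 * w; rw [← S' j, ← S' j', hjj']; exact h4 _ (by omega)
      · refine .inr (.inr ⟨fun j hj => ?_, fun j hj => ?_, fun j j' hjj' => ?_⟩)
        · show T.w (v j.rev) = 2 * w; rw [← S' j]; exact h1 _ hj
        · show T.w (v j.rev) = w; rw [← S' j]; exact h2 _ hj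
        · show T.a (v j.rev) (v j'.rev) = 2 * w; rw [← S' j, ← S' j', hjj']; exact h3 _ (by omega)
    · have := (GrothLib.NumType.affine_of_interior_ns hp h2 h.1 h.2 (by omega) hns).1
      omega
  · have hs : ∀ i, i + 1 < t → ¬ GrothLib.NumType.NS T (g i) (g (i + 1)) :=
      fun i hi h => hex ⟨i, hi, h⟩
    have hw := GrothLib.NumType.w_const_of_simple fun i hi => ((hp.adj i hi).simple (hs i hi)).2
    refine ⟨fun j => v j, T.w (g 0), .inl fun j => rfl, hz, .inl ⟨fun j => ?_, fun j j' hjj' => ?_⟩⟩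
    · show T.w (v j) = _; rw [← S j]; exact hw _ j.isLt
    · show T.a (v j) (v j') = _
      rw [← S j, ← S j', hjj', ((hp.adj j.val (by omega)).simple (hs j.val (by omega))).1]
      exact hw _ (by omega)

end Groth.Agent.S7354
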