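import Groth.Statements.S7355
import Groth.Agent.Lib.NumType.Sub


set_option autoImplicit false
open Finset
open Models Models.NumericalType

namespace Groth.Agent.S7355

/-- Classification of proper subgraphs of type D: let T be a numerical type on n indices, t > 4 with n >
t + 1, and i_1, …, i_{t+1} distinct (-2)-indices such that a_{i_j i_{j+1}} is nonzero for j = 1, …,
t - 1 and a_{i_{t-1} i_{t+1}} is nonzero. Then for some integer w one has w_{i_1} = … = w_{i_{t+1}}
= w, a_{i_j i_{j+1}} = w for j < t, a_{i_{t-1} i_{t+1}} = w, and a_{i_j i_k} = 0 for all other pairs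
j ≠ k. -/
theorem result {n : ℕ} (T : Models.NumericalType n) (t : ℕ) (ht : 4 < t) (hn : t + 1 < n)
    (v : Fin (t + 1) ↪ Fin n) (hv : ∀ j, T.IsMinusTwo (v j))
    (hchain : ∀ j j' : Fin (t + 1), j'.val = j.val + 1 → j'.val < t → T.a (v j) (v j') ≠ 0)
    (hbranch : ∀ j j' : Fin (t + 1), j.val + 2 = t → j'.val = t → T.a (v j) (v j') ≠ 0) :
    ∃ w : ℤ, (∀ j : Fin (t + 1), T.w (v j) = w) ∧
      (∀ j j' : Fin (t + 1), j'.val = j.val + 1 → j'.val < t → T.a (v j) (v j') = w) ∧
      (∀ j j' : Fin (t + 1), j.val + 2 = t → j'.val = t → T.a (v j) (v j') = w) ∧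
      (∀ j k : Fin (t + 1), j.val < k.val → ¬ (k.val = j.val + 1 ∧ k.val < t) → ¬ (j.val + 2 = t ∧ k.val = t) →
        T.a (v j) (v k) = 0) := by
  have h2 := GrothLib.NumType.seq_m2 v (by omega : 0 < t + 1) hv
  set g := GrothLib.NumType.seq v (by omega : 0 < t + 1) with hg
  have S : ∀ j : Fin (t + 1), g j.val = v j := GrothLib.NumType.seq_val v _
  have hp : GrothLib.NumType.IsPath T g t := by
    refine ⟨fun a ha b hb he => ?_, fun k hk => ?_⟩
    · simp only [Set.mem_ofPred_eq] at ha hb
      exact GrothLib.NumType.seq_inj v _ (show a < t + 1 by omega) (show b < t + 1 by omega) he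
    · have h := hchain ⟨k, by omega⟩ ⟨k + 1, by omega⟩ rfl hk
      rw [← S ⟨k, by omega⟩, ← S ⟨k + 1, by omega⟩] at h
      exact ⟨fun he => by
        have := GrothLib.NumType.seq_inj v _ (show k < t + 1 by omega) (show k + 1 < t + 1 by omega) he
        omega, h⟩
  have hu : ∀ l < t, g l ≠ g t := fun l hl he => by
    have := GrothLib.NumType.seq_inj v _ (show l < t + 1 by omega) (show t < t + 1 by omega) he
    omega
  have hb : GrothLib.NumType.Adj T (g (t - 2)) (g t) := by
    have h := hbranch ⟨t - 2, by omega⟩ ⟨t, by omega⟩ (by simp; omega) rfl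
    rw [← S ⟨t - 2, by omega⟩, ← S ⟨t, by omega⟩] at h
    exact ⟨hu _ (by omega), h⟩
  obtain ⟨hw, hwu, ha, hbu, hz, hzu⟩ := GrothLib.NumType.fork_structure hp (fun l hl => h2 l (by omega)) hu
    (h2 t (by omega)) (by omega) (by omega) hb hn
  refine ⟨T.w (g 0), fun j => ?_, fun j j' hjj' hj' => ?_, fun j j' hj hj' => ?_, fun j k hjk n1 n2 => ?_⟩
  · rw [← S j]
    rcases (show j.val < t ∨ j.val = t by omega) with h | h
    · exact hw _ h
    · rw [h]; exact hwu
  · rw [← S j, ← S j', hjj']; exact ha _ (by omega)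
  · rw [← S j, ← S j', hj', show j.val = t - 2 by omega]; exact hbu
  · rw [← S j, ← S k]
    rcases (show k.val < t ∨ k.val = t by omega) with h | h
    · exact hz _ _ (by omega) h
    · rw [h]; exact hzu _ (by omega) (by omega)

end Groth.Agent.S7355
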