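import Groth.Statements.S7362
import Groth.Agent.Lib.NumType.Classify
import Groth.Agent.Lib.NumType.Genus


set_option autoImplicit false
open Finset
open Models Models.NumericalType

namespace Groth.Agent.S7362

/-- Genus one classification: case n = 2: let T be a minimal numerical type of genus 1 on two indices.
Then for some ordering i, j of the indices and some integers m, w, either m_i = m_j = m, a_ii = a_jj
= -2w, a_ij = 2w, w_i = w_j = w, g_i = g_j = 0; or m_i = 2m, m_j = m, a_ii = -2w, a_ij = 4w, a_jj =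
-8w, w_i = w, w_j = 4w, g_i = g_j = 0. Only the classification direction is stated. -/
theorem result (T : Models.NumericalType 2) (hmin : T.IsMinimal) (hg : T.genus = 1) :
    ∃ (i j : Fin 2) (m w : ℤ), i ≠ j ∧ T.g i = 0 ∧ T.g j = 0 ∧
      ((T.m i = m ∧ T.m j = m ∧ T.a i i = -2 * w ∧ T.a i j = 2 * w ∧ T.a j j = -2 * w ∧ T.w i = w ∧ T.w j = w) ∨
        (T.m i = 2 * m ∧ T.m j = m ∧ T.a i i = -2 * w ∧ T.a i j = 4 * w ∧ T.a j j = -8 * w ∧ T.w i = w ∧ T.w j = 4 * w)) := by
  have hM : ∀ i, T.IsMinusTwo i := GrothLib.NumType.isMinusTwo_of_genus_one T hmin (by omega) hg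
  have hA : GrothLib.NumType.Affine T := GrothLib.NumType.affine_of_forall_minusTwo (by omega) fun i => (hM i).2
  cases hA
  case a1a hn hT =>
    obtain ⟨σ, m, W, h⟩ := hT
    have hm := fun i => (h i).1; have hw := fun i => (h i).2.1; have ha := fun i j => (h i).2.2 j
    refine ⟨σ 0, σ 1, m, W, σ.injective.ne (by decide), (hM _).1, (hM _).1, .inl (?_)⟩
    simp [hm, hw, ha, GrothLib.NumType.tbl, GrothLib.NumType.ofEdges, GrothLib.NumType.ofList, GrothLib.NumType.one, GrothLib.NumType.eA1a]
  case a1b hn hT =>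
    obtain ⟨σ, m, W, h⟩ := hT
    have hm := fun i => (h i).1; have hw := fun i => (h i).2.1; have ha := fun i j => (h i).2.2 j
    refine ⟨σ 0, σ 1, m, W, σ.injective.ne (by decide), (hM _).1, (hM _).1, .inr (?_)⟩
    simp [hm, hw, ha, GrothLib.NumType.tbl, GrothLib.NumType.ofEdges, GrothLib.NumType.ofList, GrothLib.NumType.cA1b, GrothLib.NumType.wA1b, GrothLib.NumType.eA1b]
  case cyc hn hT =>
    omega
  case c2 hn hT =>
    omega
  case c3 hn hT =>
    omega
  case c4 hn hT =>
    omega
  case b5 hn hT =>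
    omega
  case b6 hn hT =>
    omega
  case d hn hT =>
    omega
  case e6 hn hT =>
    omega
  case e7 hn hT =>
    omega
  case e8 hn hT =>
    omega
  case f4a hn hT =>
    omega
  case f4b hn hT =>
    omega
  case g2a hn hT =>
    omega
  case g2b hn hT =>
    omega

end Groth.Agent.S7362
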