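import Groth.Statements.S7364
import Groth.Agent.Lib.NumType.Classify
import Groth.Agent.Lib.NumType.Genus


set_option autoImplicit false
open Finset
open Models Models.NumericalType

namespace Groth.Agent.S7364

/-- Genus one classification: case n = 4: let T be a minimal numerical type of genus 1 on 4 indices.
Then all g_i = 0 and, for some permutation σ of the indices and some integers m, w, the
multiplicities, weights and intersection matrix (m_{σ(i)}, w_{σ(i)}, a_{σ(i)σ(j)}) are those of one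
of the following 6 types: [four cycle] m = (m, m, m, m), w = (w, w, w, w), a = (-2 * w w 0 w / w -2
* w w 0 / 0 w -2 * w w / w 0 w -2 * w); [up equal up] m = (2 * m, 2 * m, 2 * m, m), w = (w, 2 * w, 2
* w, 4 * w), a = (-2 * w 2 * w 0 0 / 2 * w -4 * w 2 * w 0 / 0 2 * w -4 * w 4 * w / 0 0 4 * w -8 *
w); [up equal down] m = (m, m, m, m), w = (w, 2 * w, 2 * w, w), a = (-2 * w 2 * w 0 0 / 2 * w -4 * w
2 * w 0 / 0 2 * w -4 * w 2 * w / 0 0 2 * w -2 * w); [down equal up] m = (m, 2 * m, 2 * m, m), w = (2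
* w, w, w, 2 * w), a = (-4 * w 2 * w 0 0 / 2 * w -2 * w w 0 / 0 w -2 * w 2 * w / 0 0 2 * w -4 * w);
[triple with up] m = (2 * m, m, m, m), w = (w, w, w, 2 * w), a = (-2 * w w w 2 * w / w -2 * w 0 0 /
w 0 -2 * w 0 / 2 * w 0 0 -4 * w); [triple with down] m = (2 * m, m, m, 2 * m), w = (2 * w, 2 * w, 2
* w, w), a = (-4 * w 2 * w 2 * w 2 * w / 2 * w -4 * w 0 0 / 2 * w 0 -4 * w 0 / 2 * w 0 0 -2 * w).
Only the classification direction is stated. -/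
theorem result (T : Models.NumericalType 4) (hmin : T.IsMinimal) (hg : T.genus = 1) :
    (∀ i, T.g i = 0) ∧ ∃ (σ : Equiv.Perm (Fin 4)) (m w : ℤ),
      ((T.m (σ 0) = m ∧ T.m (σ 1) = m ∧ T.m (σ 2) = m ∧ T.m (σ 3) = m ∧ T.w (σ 0) = w ∧ T.w (σ 1) = w ∧ T.w (σ 2) = w ∧ T.w (σ 3) = w ∧ T.a (σ 0) (σ 0) = -2 * w ∧ T.a (σ 0) (σ 1) = w ∧ T.a (σ 0) (σ 2) = 0 ∧ T.a (σ 0) (σ 3) = w ∧ T.a (σ 1) (σ 1) = -2 * w ∧ T.a (σ 1) (σ 2) = w ∧ T.a (σ 1) (σ 3) = 0 ∧ T.a (σ 2) (σ 2) = -2 * w ∧ T.a (σ 2) (σ 3) = w ∧ T.a (σ 3) (σ 3) = -2 * w) ∨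
      (T.m (σ 0) = 2 * m ∧ T.m (σ 1) = 2 * m ∧ T.m (σ 2) = 2 * m ∧ T.m (σ 3) = m ∧ T.w (σ 0) = w ∧ T.w (σ 1) = 2 * w ∧ T.w (σ 2) = 2 * w ∧ T.w (σ 3) = 4 * w ∧ T.a (σ 0) (σ 0) = -2 * w ∧ T.a (σ 0) (σ 1) = 2 * w ∧ T.a (σ 0) (σ 2) = 0 ∧ T.a (σ 0) (σ 3) = 0 ∧ T.a (σ 1) (σ 1) = -4 * w ∧ T.a (σ 1) (σ 2) = 2 * w ∧ T.a (σ 1) (σ 3) = 0 ∧ T.a (σ 2) (σ 2) = -4 * w ∧ T.a (σ 2) (σ 3) = 4 * w ∧ T.a (σ 3) (σ 3) = -8 * w) ∨
      (T.m (σ 0) = m ∧ T.m (σ 1) = m ∧ T.m (σ 2) = m ∧ T.m (σ 3) = m ∧ T.w (σ 0) = w ∧ T.w (σ 1) = 2 * w ∧ T.w (σ 2) = 2 * w ∧ T.w (σ 3) = w ∧ T.a (σ 0) (σ 0) = -2 * w ∧ T.a (σ 0) (σ 1) = 2 * w ∧ T.a (σ 0) (σ 2) = 0 ∧ T.a (σ 0) (σ 3) = 0 ∧ T.a (σ 1) (σ 1) = -4 * w ∧ T.a (σ 1) (σ 2) = 2 * w ∧ T.a (σ 1) (σ 3) = 0 ∧ T.a (σ 2) (σ 2) = -4 * w ∧ T.a (σ 2) (σ 3) = 2 * w ∧ T.a (σ 3) (σ 3) = -2 * w) ∨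
      (T.m (σ 0) = m ∧ T.m (σ 1) = 2 * m ∧ T.m (σ 2) = 2 * m ∧ T.m (σ 3) = m ∧ T.w (σ 0) = 2 * w ∧ T.w (σ 1) = w ∧ T.w (σ 2) = w ∧ T.w (σ 3) = 2 * w ∧ T.a (σ 0) (σ 0) = -4 * w ∧ T.a (σ 0) (σ 1) = 2 * w ∧ T.a (σ 0) (σ 2) = 0 ∧ T.a (σ 0) (σ 3) = 0 ∧ T.a (σ 1) (σ 1) = -2 * w ∧ T.a (σ 1) (σ 2) = w ∧ T.a (σ 1) (σ 3) = 0 ∧ T.a (σ 2) (σ 2) = -2 * w ∧ T.a (σ 2) (σ 3) = 2 * w ∧ T.a (σ 3) (σ 3) = -4 * w) ∨
      (T.m (σ 0) = 2 * m ∧ T.m (σ 1) = m ∧ T.m (σ 2) = m ∧ T.m (σ 3) = m ∧ T.w (σ 0) = w ∧ T.w (σ 1) = w ∧ T.w (σ 2) = w ∧ T.w (σ 3) = 2 * w ∧ T.a (σ 0) (σ 0) = -2 * w ∧ T.a (σ 0) (σ 1) = w ∧ T.a (σ 0) (σ 2) = w ∧ T.a (σ 0) (σ 3) = 2 * w ∧ T.a (σ 1) (σ 1) = -2 * w ∧ T.a (σ 1) (σ 2) = 0 ∧ T.a (σ 1) (σ 3) = 0 ∧ T.a (σ 2) (σ 2) = -2 * w ∧ T.a (σ 2) (σ 3) = 0 ∧ T.a (σ 3) (σ 3) = -4 * w) ∨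
      (T.m (σ 0) = 2 * m ∧ T.m (σ 1) = m ∧ T.m (σ 2) = m ∧ T.m (σ 3) = 2 * m ∧ T.w (σ 0) = 2 * w ∧ T.w (σ 1) = 2 * w ∧ T.w (σ 2) = 2 * w ∧ T.w (σ 3) = w ∧ T.a (σ 0) (σ 0) = -4 * w ∧ T.a (σ 0) (σ 1) = 2 * w ∧ T.a (σ 0) (σ 2) = 2 * w ∧ T.a (σ 0) (σ 3) = 2 * w ∧ T.a (σ 1) (σ 1) = -4 * w ∧ T.a (σ 1) (σ 2) = 0 ∧ T.a (σ 1) (σ 3) = 0 ∧ T.a (σ 2) (σ 2) = -4 * w ∧ T.a (σ 2) (σ 3) = 0 ∧ T.a (σ 3) (σ 3) = -2 * w)) := by
  have hM : ∀ i, T.IsMinusTwo i := GrothLib.NumType.isMinusTwo_of_genus_one T hmin (by omega) hg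
  have hA : GrothLib.NumType.Affine T := GrothLib.NumType.affine_of_forall_minusTwo (by omega) fun i => (hM i).2
  refine ⟨fun i => (hM i).1, ?_⟩
  cases hA
  case a1a hn hT =>
    omega
  case a1b hn hT =>
    omega
  case cyc hn hT =>
    obtain ⟨σ, m, W, h⟩ := hT
    have hm := fun i => (h i).1; have hw := fun i => (h i).2.1; have ha := fun i j => (h i).2.2 j
    refine ⟨σ, m, W, .inl (?_)⟩
    simp [hm, hw, ha, GrothLib.NumType.tbl, GrothLib.NumType.ofEdges, GrothLib.NumType.ofList, GrothLib.NumType.one, GrothLib.NumType.eCyc]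
  case c2 hn hT =>
    obtain ⟨σ, m, W, h⟩ := hT
    have hm := fun i => (h i).1; have hw := fun i => (h i).2.1; have ha := fun i j => (h i).2.2 j
    refine ⟨σ, m, W, .inr (.inl (?_))⟩
    simp [hm, hw, ha, GrothLib.NumType.tbl, GrothLib.NumType.ofEdges, GrothLib.NumType.ofList, GrothLib.NumType.cC2, GrothLib.NumType.wC2, GrothLib.NumType.eC2]
  case c3 hn hT =>
    obtain ⟨σ, m, W, h⟩ := hT
    have hm := fun i => (h i).1; have hw := fun i => (h i).2.1; have ha := fun i j => (h i).2.2 j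
    refine ⟨σ, m, W, .inr (.inr (.inl (?_)))⟩
    simp [hm, hw, ha, GrothLib.NumType.tbl, GrothLib.NumType.ofEdges, GrothLib.NumType.ofList, GrothLib.NumType.one, GrothLib.NumType.wC3, GrothLib.NumType.eC3]
  case c4 hn hT =>
    obtain ⟨σ, m, W, h⟩ := hT
    have hm := fun i => (h i).1; have hw := fun i => (h i).2.1; have ha := fun i j => (h i).2.2 j
    refine ⟨σ, m, W, .inr (.inr (.inr (.inl (?_))))⟩
    simp [hm, hw, ha, GrothLib.NumType.tbl, GrothLib.NumType.ofEdges, GrothLib.NumType.ofList, GrothLib.NumType.cC4, GrothLib.NumType.wC4, GrothLib.NumType.eC4]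
  case b5 hn hT =>
    obtain ⟨σ, m, W, h⟩ := hT
    have hm := fun i => (h i).1; have hw := fun i => (h i).2.1; have ha := fun i j => (h i).2.2 j
    refine ⟨(finRotate 4).trans σ, m, W, .inr (.inr (.inr (.inr (.inl (?_)))))⟩
    simp [hm, hw, ha, GrothLib.NumType.tbl, GrothLib.NumType.ofEdges, GrothLib.NumType.ofList, GrothLib.NumType.cB5, GrothLib.NumType.wB5, GrothLib.NumType.eB5, Equiv.trans_apply]
  case b6 hn hT =>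
    obtain ⟨σ, m, W, h⟩ := hT
    have hm := fun i => (h i).1; have hw := fun i => (h i).2.1; have ha := fun i j => (h i).2.2 j
    refine ⟨(finRotate 4).trans σ, m, W, .inr (.inr (.inr (.inr (.inr (?_)))))⟩
    simp [hm, hw, ha, GrothLib.NumType.tbl, GrothLib.NumType.ofEdges, GrothLib.NumType.ofList, GrothLib.NumType.cB6, GrothLib.NumType.wB6, GrothLib.NumType.eB6, Equiv.trans_apply]
  case d hn hT =>
    omega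
  case e6 hn hT =>
    omega
  case e7 hn hT =>
    omega
  case e8 hn hT =>
    omega
  case f4a hn hT =>
    omega
  case f4b hn hT =>
    omega
  case g2a hn hT =>
    omega
  case g2b hn hT =>
    omega

end Groth.Agent.S7364
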