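import Groth.Statements.S7371
import Groth.Agent.Lib.NumType.Classify
import Groth.Agent.Lib.NumType.Genus


set_option autoImplicit false
open Finset
open Models Models.NumericalType

namespace Groth.Agent.S7371

/-- Genus one classification: cases n ≥ 10: let T be a minimal numerical type of genus 1 on n ≥ 10
indices. Then all g_i = 0, a_{ii} = -2 w_i, and for some permutation σ of the indices and integers
m, w the type is one of: the n-cycle (all m_i = m, all w_i = w, a_{i,i+1} = a_{1n} = w); the chain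
with m = (2m,…,2m,m), w = (w,2w,…,2w,4w), a_{i,i+1} = 2w except a_{n-1,n} = 4w; the chain with all
m_i = m, w = (w,2w,…,2w,w), a_{i,i+1} = 2w; the chain with m = (m,2m,…,2m,m), w = (2w,w,…,w,2w),
a_{12} = a_{n-1,n} = 2w and a_{i,i+1} = w otherwise; the D-type graph (chain 1 … n-1 with n attached
to n-2) with m = (m,2m,…,2m,m,m), w = (2w,w,…,w), a_{12} = 2w, other edges w; the same D-type graph
with m = (2m,…,2m,m,m), w = (w,2w,…,2w), all edges 2w; the double fork (1, 2 attached to 3; chain 3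
… n-2; n-1, n attached to n-2) with m = (m,m,2m,…,2m,m,m), all w_i = w, all edges w; all
intersection numbers not listed are zero. (Indices are written 0, …, n-1 in the formal statement.
For n ≥ 10 the exceptional completed E6, E7, E8 types do not occur, so only the infinite families
remain. In the family with weights (w,2w,…,2w,w) the consecutive intersection numbers are 2w, as
divisibility by the weights forces; the published list prints w there, and omits m_{n-2} = 2m in the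
two D-type families.) Only the classification direction is stated. -/
theorem result {n : ℕ} (T : Models.NumericalType n) (hn : 10 ≤ n) (hmin : T.IsMinimal) (hg : T.genus = 1) :
    (∀ i, T.g i = 0) ∧ (∀ i, T.a i i = -2 * T.w i) ∧ ∃ (σ : Equiv.Perm (Fin n)) (m w : ℤ),
      (((∀ i : Fin n, T.m (σ i) = m) ∧
        (∀ i : Fin n, T.w (σ i) = w) ∧
        (∀ i j : Fin n, i.val < j.val → j.val = i.val + 1 → T.a (σ i) (σ j) = w) ∧
        (∀ i j : Fin n, i.val < j.val → i.val = 0 ∧ j.val + 1 = n → T.a (σ i) (σ j) = w) ∧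
        (∀ i j : Fin n, i.val < j.val → ¬ (j.val = i.val + 1) → ¬ (i.val = 0 ∧ j.val + 1 = n) → T.a (σ i) (σ j) = 0)) ∨
      ((∀ i : Fin n, i.val + 1 < n → T.m (σ i) = 2 * m) ∧
        (∀ i : Fin n, i.val + 1 = n → T.m (σ i) = m) ∧
        (∀ i : Fin n, i.val = 0 → T.w (σ i) = w) ∧
        (∀ i : Fin n, 0 < i.val ∧ i.val + 1 < n → T.w (σ i) = 2 * w) ∧
        (∀ i : Fin n, i.val + 1 = n → T.w (σ i) = 4 * w) ∧
        (∀ i j : Fin n, i.val < j.val → j.val = i.val + 1 ∧ j.val + 1 < n → T.a (σ i) (σ j) = 2 * w) ∧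
        (∀ i j : Fin n, i.val < j.val → j.val = i.val + 1 ∧ j.val + 1 = n → T.a (σ i) (σ j) = 4 * w) ∧
        (∀ i j : Fin n, i.val < j.val → ¬ (j.val = i.val + 1 ∧ j.val + 1 < n) → ¬ (j.val = i.val + 1 ∧ j.val + 1 = n) → T.a (σ i) (σ j) = 0)) ∨
      ((∀ i : Fin n, T.m (σ i) = m) ∧
        (∀ i : Fin n, i.val = 0 → T.w (σ i) = w) ∧
        (∀ i : Fin n, 0 < i.val ∧ i.val + 1 < n → T.w (σ i) = 2 * w) ∧
        (∀ i : Fin n, i.val + 1 = n → T.w (σ i) = w) ∧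
        (∀ i j : Fin n, i.val < j.val → j.val = i.val + 1 → T.a (σ i) (σ j) = 2 * w) ∧
        (∀ i j : Fin n, i.val < j.val → ¬ (j.val = i.val + 1) → T.a (σ i) (σ j) = 0)) ∨
      ((∀ i : Fin n, i.val = 0 → T.m (σ i) = m) ∧
        (∀ i : Fin n, 0 < i.val ∧ i.val + 1 < n → T.m (σ i) = 2 * m) ∧
        (∀ i : Fin n, i.val + 1 = n → T.m (σ i) = m) ∧
        (∀ i : Fin n, i.val = 0 → T.w (σ i) = 2 * w) ∧
        (∀ i : Fin n, 0 < i.val ∧ i.val + 1 < n → T.w (σ i) = w) ∧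
        (∀ i : Fin n, i.val + 1 = n → T.w (σ i) = 2 * w) ∧
        (∀ i j : Fin n, i.val < j.val → i.val = 0 ∧ j.val = 1 → T.a (σ i) (σ j) = 2 * w) ∧
        (∀ i j : Fin n, i.val < j.val → j.val = i.val + 1 ∧ 1 ≤ i.val ∧ j.val + 2 ≤ n → T.a (σ i) (σ j) = w) ∧
        (∀ i j : Fin n, i.val < j.val → j.val = i.val + 1 ∧ j.val + 1 = n → T.a (σ i) (σ j) = 2 * w) ∧
        (∀ i j : Fin n, i.val < j.val → ¬ (i.val = 0 ∧ j.val = 1) → ¬ (j.val = i.val + 1 ∧ 1 ≤ i.val ∧ j.val + 2 ≤ n) → ¬ (j.val = i.val + 1 ∧ j.val + 1 = n) → T.a (σ i) (σ j) = 0)) ∨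
      ((∀ i : Fin n, i.val = 0 → T.m (σ i) = m) ∧
        (∀ i : Fin n, 1 ≤ i.val ∧ i.val + 2 < n → T.m (σ i) = 2 * m) ∧
        (∀ i : Fin n, n ≤ i.val + 2 → T.m (σ i) = m) ∧
        (∀ i : Fin n, i.val = 0 → T.w (σ i) = 2 * w) ∧
        (∀ i : Fin n, 0 < i.val → T.w (σ i) = w) ∧
        (∀ i j : Fin n, i.val < j.val → i.val = 0 ∧ j.val = 1 → T.a (σ i) (σ j) = 2 * w) ∧
        (∀ i j : Fin n, i.val < j.val → j.val = i.val + 1 ∧ 1 ≤ i.val ∧ j.val + 2 ≤ n → T.a (σ i) (σ j) = w) ∧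
        (∀ i j : Fin n, i.val < j.val → i.val + 3 = n ∧ j.val + 1 = n → T.a (σ i) (σ j) = w) ∧
        (∀ i j : Fin n, i.val < j.val → ¬ (i.val = 0 ∧ j.val = 1) → ¬ (j.val = i.val + 1 ∧ 1 ≤ i.val ∧ j.val + 2 ≤ n) → ¬ (i.val + 3 = n ∧ j.val + 1 = n) → T.a (σ i) (σ j) = 0)) ∨
      ((∀ i : Fin n, i.val + 2 < n → T.m (σ i) = 2 * m) ∧
        (∀ i : Fin n, n ≤ i.val + 2 → T.m (σ i) = m) ∧
        (∀ i : Fin n, i.val = 0 → T.w (σ i) = w) ∧
        (∀ i : Fin n, 0 < i.val → T.w (σ i) = 2 * w) ∧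
        (∀ i j : Fin n, i.val < j.val → j.val = i.val + 1 ∧ j.val + 2 ≤ n → T.a (σ i) (σ j) = 2 * w) ∧
        (∀ i j : Fin n, i.val < j.val → i.val + 3 = n ∧ j.val + 1 = n → T.a (σ i) (σ j) = 2 * w) ∧
        (∀ i j : Fin n, i.val < j.val → ¬ (j.val = i.val + 1 ∧ j.val + 2 ≤ n) → ¬ (i.val + 3 = n ∧ j.val + 1 = n) → T.a (σ i) (σ j) = 0)) ∨
      ((∀ i : Fin n, i.val ≤ 1 → T.m (σ i) = m) ∧
        (∀ i : Fin n, 2 ≤ i.val ∧ i.val + 2 < n → T.m (σ i) = 2 * m) ∧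
        (∀ i : Fin n, n ≤ i.val + 2 → T.m (σ i) = m) ∧
        (∀ i : Fin n, T.w (σ i) = w) ∧
        (∀ i j : Fin n, i.val < j.val → i.val = 0 ∧ j.val = 2 → T.a (σ i) (σ j) = w) ∧
        (∀ i j : Fin n, i.val < j.val → i.val = 1 ∧ j.val = 2 → T.a (σ i) (σ j) = w) ∧
        (∀ i j : Fin n, i.val < j.val → j.val = i.val + 1 ∧ 2 ≤ i.val ∧ j.val + 2 ≤ n → T.a (σ i) (σ j) = w) ∧
        (∀ i j : Fin n, i.val < j.val → i.val + 3 = n ∧ j.val + 1 = n → T.a (σ i) (σ j) = w) ∧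
        (∀ i j : Fin n, i.val < j.val → ¬ (i.val = 0 ∧ j.val = 2) → ¬ (i.val = 1 ∧ j.val = 2) → ¬ (j.val = i.val + 1 ∧ 2 ≤ i.val ∧ j.val + 2 ≤ n) → ¬ (i.val + 3 = n ∧ j.val + 1 = n) → T.a (σ i) (σ j) = 0))) := by
  have hM : ∀ i, T.IsMinusTwo i := GrothLib.NumType.isMinusTwo_of_genus_one T hmin (by omega) hg
  have hA : GrothLib.NumType.Affine T := GrothLib.NumType.affine_of_forall_minusTwo (by omega) fun i => (hM i).2
  refine ⟨fun i => (hM i).1, fun i => (hM i).2, ?_⟩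
  cases hA
  case a1a hn hT =>
    omega
  case a1b hn hT =>
    omega
  case cyc hn hT =>
    obtain ⟨σ, m, W, h⟩ := hT
    have hm := fun i => (h i).1; have hw := fun i => (h i).2.1; have ha := fun i j => (h i).2.2 j
    refine ⟨σ, m, W, .inl (⟨?_, ?_, ?_, ?_, ?_⟩)⟩ <;> intros <;>
      simp only [hm, hw, ha, GrothLib.NumType.tbl, GrothLib.NumType.one, GrothLib.NumType.eCyc] <;> (try split_ifs) <;> omega
  case c2 hn hT =>
    obtain ⟨σ, m, W, h⟩ := hT
    have hm := fun i => (h i).1; have hw := fun i => (h i).2.1; have ha := fun i j => (h i).2.2 j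
    refine ⟨σ, m, W, .inr (.inl (⟨?_, ?_, ?_, ?_, ?_, ?_, ?_, ?_⟩))⟩ <;> intros <;>
      simp only [hm, hw, ha, GrothLib.NumType.tbl, GrothLib.NumType.cC2, GrothLib.NumType.wC2, GrothLib.NumType.eC2] <;> (try split_ifs) <;> omega
  case c3 hn hT =>
    obtain ⟨σ, m, W, h⟩ := hT
    have hm := fun i => (h i).1; have hw := fun i => (h i).2.1; have ha := fun i j => (h i).2.2 j
    refine ⟨σ, m, W, .inr (.inr (.inl (⟨?_, ?_, ?_, ?_, ?_, ?_⟩)))⟩ <;> intros <;>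
      simp only [hm, hw, ha, GrothLib.NumType.tbl, GrothLib.NumType.one, GrothLib.NumType.wC3, GrothLib.NumType.eC3] <;> (try split_ifs) <;> omega
  case c4 hn hT =>
    obtain ⟨σ, m, W, h⟩ := hT
    have hm := fun i => (h i).1; have hw := fun i => (h i).2.1; have ha := fun i j => (h i).2.2 j
    refine ⟨σ, m, W, .inr (.inr (.inr (.inl (⟨?_, ?_, ?_, ?_, ?_, ?_, ?_, ?_, ?_, ?_⟩))))⟩ <;> intros <;>
      simp only [hm, hw, ha, GrothLib.NumType.tbl, GrothLib.NumType.cC4, GrothLib.NumType.wC4, GrothLib.NumType.eC4] <;> (try split_ifs) <;> omega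
  case b5 hn hT =>
    obtain ⟨σ, m, W, h⟩ := hT
    have hm := fun i => (h i).1; have hw := fun i => (h i).2.1; have ha := fun i j => (h i).2.2 j
    refine ⟨σ, m, W, .inr (.inr (.inr (.inr (.inl (⟨?_, ?_, ?_, ?_, ?_, ?_, ?_, ?_, ?_⟩)))))⟩ <;> intros <;>
      simp only [hm, hw, ha, GrothLib.NumType.tbl, GrothLib.NumType.cB5, GrothLib.NumType.wB5, GrothLib.NumType.eB5] <;> (try split_ifs) <;> omega
  case b6 hn hT =>
    obtain ⟨σ, m, W, h⟩ := hT
    have hm := fun i => (h i).1; have hw := fun i => (h i).2.1; have ha := fun i j => (h i).2.2 j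
    refine ⟨σ, m, W, .inr (.inr (.inr (.inr (.inr (.inl (⟨?_, ?_, ?_, ?_, ?_, ?_, ?_⟩))))))⟩ <;> intros <;>
      simp only [hm, hw, ha, GrothLib.NumType.tbl, GrothLib.NumType.cB6, GrothLib.NumType.wB6, GrothLib.NumType.eB6] <;> (try split_ifs) <;> omega
  case d hn hT =>
    obtain ⟨σ, m, W, h⟩ := hT
    have hm := fun i => (h i).1; have hw := fun i => (h i).2.1; have ha := fun i j => (h i).2.2 j
    refine ⟨σ, m, W, .inr (.inr (.inr (.inr (.inr (.inr (⟨?_, ?_, ?_, ?_, ?_, ?_, ?_, ?_, ?_⟩))))))⟩ <;> intros <;>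
      simp only [hm, hw, ha, GrothLib.NumType.tbl, GrothLib.NumType.cD, GrothLib.NumType.one, GrothLib.NumType.eD] <;> (try split_ifs) <;> omega
  case e6 hn hT =>
    omega
  case e7 hn hT =>
    omega
  case e8 hn hT =>
    omega
  case f4a hn hT =>
    omega
  case f4b hn hT =>
    omega
  case g2a hn hT =>
    omega
  case g2b hn hT =>
    omega

end Groth.Agent.S7371
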