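import Groth.Statements.S7376
import Groth.Agent.Lib.NormBlow29.Milestones
-- import your own Groth.Agent.* helpers here

set_option autoImplicit false
universe u
open CategoryTheory CategoryTheory.Limits AlgebraicGeometry
open Resolve

namespace Groth.Agent.S7376

/-- Let (A, m, κ) be a Noetherian local normal domain of dimension two and assume Spec A has a
resolution of singularities (a proper morphism X → Spec A from an integral scheme with regular local
rings which is an isomorphism over a nonempty open). Then Spec A has a resolution by normalized
blowups: there is a finite sequence of normalized blowings up in closed points X_n → X_{n-1} → … →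
X_1 → Spec A with X_n proper over Spec A and regular. (A is normal, so Spec A is its own
normalization and the sequence starts at Spec A itself; the published definition of such a
resolution asks every X_i to be proper over Spec A, and this row records properness of X_n → Spec
A.) -/
theorem result (A : Type u) [CommRing A] [IsDomain A] [IsLocalRing A]
    [IsNoetherianRing A] [IsIntegrallyClosed A] (hdim : ringKrullDim A = 2)
    (hres : ∃ (X : Scheme.{u}) (f : X ⟶ Spec (CommRingCat.of A)), IsProper f ∧ IsIntegral X ∧
      (∃ U : (Spec (CommRingCat.of A)).Opens, (U : Set (Spec (CommRingCat.of A))).Nonempty ∧ IsIso (f ∣_ U)) ∧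
      ∀ x : X, IsRegularLocalRing (X.presheaf.stalk x)) :
    ∃ (Xn : Scheme.{u}) (g : Xn ⟶ Spec (CommRingCat.of A)), Resolve.IsNormPtBlowupSeq g ∧ IsProper g ∧
      ∀ x : Xn, IsRegularLocalRing (Xn.presheaf.stalk x) := by
  obtain ⟨X, f, hf, hX, hb, hreg⟩ := hres
  haveI := hf; haveI := hX
  haveI : IsNoetherianRing ↑(CommRingCat.of A) := inferInstanceAs (IsNoetherianRing A)
  haveI : IsDomain ↑(CommRingCat.of A) := inferInstanceAs (IsDomain A)
  let S := Spec (CommRingCat.of A)
  haveI : IsNoetherian S := inferInstance
  haveI : QuasiCompact (S.fromSpecStalk (genericPoint S)) := inferInstance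
  haveI : QuasiSeparated (S.fromSpecStalk (genericPoint S)) := inferInstance
  have hS : topologicalKrullDim S = 2 := (PrimeSpectrum.topologicalKrullDim_eq_ringKrullDim A).trans hdim
  obtain ⟨W, g, r, hst, hW⟩ := GrothLib.NormBlow29.exists_stage_regular hS f hb hreg
  have hF := GrothLib.NormBlow29.hasFiniteNorm_of_resolution hS.le f hb hreg
  haveI := hF S (𝟙 S) inferInstance ⟨⊤, ⟨genericPoint S, trivial⟩, inferInstance⟩
  obtain ⟨e, hbj⟩ := GrothLib.NormBlow29.genBij_normalizationι S
  have hn : ∀ z : S, IsIntegrallyClosed (S.presheaf.stalk z) := fun z => by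
    haveI : IsIntegrallyClosed (Localization.AtPrime z.asIdeal) :=
      isIntegrallyClosed_of_isLocalization _ z.asIdeal.primeCompl z.asIdeal.primeCompl_le_nonZeroDivisors
    exact IsIntegrallyClosed.of_equiv (AlgebraicGeometry.Spec.stalkIso (CommRingCat.of A) z).symm.commRingCatIsoToRingEquiv
  haveI : IsIso (Curv2.normalizationι S) := GrothLib.Birat.isIso_of_finite_birational _ e hbj hn
  refine ⟨W, g, ?_, hst.proper, hW⟩
  rw [← hst.comm]
  exact GrothLib.NormBlow29.seq_comp_iso hst.seq (asIso (Curv2.normalizationι S))

end Groth.Agent.S7376
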