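import Groth.Statements.S7378
import Groth.Agent.Lib.NormDom29.Rational
-- import your own Groth.Agent.* helpers here

set_option autoImplicit false
universe u
open CategoryTheory CategoryTheory.Limits AlgebraicGeometry
open Resolve

namespace Groth.Agent.S7378

/-- Let S be a scheme, p : X → S with X an integral Noetherian Nagata scheme of dimension two, q : Y → S
proper, and f : U → Y an S-morphism defined on a dense open U ⊂ X (an S-rational map from X to Y).
Then there exist a finite sequence of normalized blowings up in closed points g : X_n → … → X_1 →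
X_0 = X^ν, X^ν → X the normalization, and an S-morphism f_n : X_n → Y which agrees with f on the
inverse image of U. (The quasi-compactness and quasi-separatedness binders on Spec K(X) → X always
hold.) -/
theorem result {S : Scheme.{u}} (X Y : Scheme.{u}) (p : X ⟶ S) (q : Y ⟶ S) [IsProper q]
    [IsIntegral X] [IsNoetherian X] (hN : ∀ V : X.affineOpens, CAlg.IsNagata Γ(X, V.1)) (hdim : topologicalKrullDim X = 2)
    [QuasiCompact (X.fromSpecStalk (genericPoint X))] [QuasiSeparated (X.fromSpecStalk (genericPoint X))]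
    (U : X.Opens) (hU : Dense (U : Set X)) (f : (U : Scheme.{u}) ⟶ Y) (hf : f ≫ q = U.ι ≫ p) :
    ∃ (Xn : Scheme.{u}) (g : Xn ⟶ Curv2.normalization X) (fn : Xn ⟶ Y), Resolve.IsNormPtBlowupSeq g ∧
      fn ≫ q = (g ≫ Curv2.normalizationι X) ≫ p ∧
      ((g ≫ Curv2.normalizationι X) ⁻¹ᵁ U).ι ≫ fn = ((g ≫ Curv2.normalizationι X) ∣_ U) ≫ f := by
  obtain ⟨W, g, r, hst, fn, h1, h2⟩ :=
    GrothLib.NormDom29.exists_stage_extend hN hdim p q U hU.nonempty f hf
  obtain ⟨hc, hseq, -⟩ := hst
  subst hc
  exact ⟨W, r, fn, hseq, h1, h2⟩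

end Groth.Agent.S7378
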