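import Groth.Statements.S7379
import Groth.Agent.Lib.AbsApprox.ClosedApprox

set_option autoImplicit false
universe u
open CategoryTheory AlgebraicGeometry
open Lim

namespace Groth.Agent.S7379

/-- Let `ι : X → Y` be a closed immersion with `Y` quasi-compact and quasi-separated. Then, in the
category of schemes over `Y`, `X` is the limit of a nonempty directed inverse system whose objects
`X_i → Y` are closed immersions of finite presentation. -/
theorem result {X Y : Scheme.{u}} (ι : X ⟶ Y)
    [IsClosedImmersion ι] [CompactSpace Y] [QuasiSeparatedSpace Y] :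
    ∃ (I : Type u) (_ : Preorder I) (_ : IsDirected I (fun a b => a ≤ b)) (_ : Nonempty I)
      (D : Iᵒᵖ ⥤ Over Y) (c : Limits.Cone D) (_ : Limits.IsLimit c),
      (∀ i, IsClosedImmersion (D.obj i).hom ∧ LocallyOfFinitePresentation (D.obj i).hom) ∧
      Nonempty (c.pt ≅ Over.mk ι) := by
    exact ⟨GrothLib.AbsApprox.FgSub ι, inferInstance, inferInstance, inferInstance, GrothLib.AbsApprox.closedSys ι,
      GrothLib.AbsApprox.closedCone ι, GrothLib.AbsApprox.isLimitClosedCone ι,
      fun i => ⟨inferInstanceAs (IsClosedImmersion i.unop.1.subschemeι),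
        GrothLib.AbsApprox.lfp_subschemeι i.unop.1 i.unop.2.2⟩, ⟨Iso.refl _⟩⟩

end Groth.Agent.S7379
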