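import Groth.Statements.S7385
import Groth.Agent.Lib.MorQ9.Generic

set_option autoImplicit false
universe u
open CategoryTheory AlgebraicGeometry
open Mor

namespace Groth.Agent.S7385

/-- Let `X` be a quasi-separated scheme and `η_1, …, η_n` pairwise distinct points, each the generic
point of an irreducible component of `X`. Then there are affine open neighbourhoods `U_i ∋ η_i`
which are pairwise disjoint, and their union is an affine open containing all the `η_i`. -/
theorem result (X : Scheme.{u}) [QuasiSeparatedSpace X] {n : ℕ}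
    (η : Fin n → X) (hη : ∀ i, closure ({η i} : Set X) ∈ irreducibleComponents (X : Type u))
    (hinj : Function.Injective η) :
    ∃ U : Fin n → X.Opens, (∀ i, IsAffineOpen (U i) ∧ η i ∈ U i) ∧
      (∀ i j, i ≠ j → Disjoint (U i) (U j)) ∧ IsAffineOpen (⨆ i, U i) := by
  obtain ⟨U, hU, hd⟩ := GrothLib.MorQ9.exists_disjoint_affine_nhds η hη hinj (fun _ => ⊤) fun _ => trivial
  exact ⟨U, fun i => ⟨(hU i).1, (hU i).2.1⟩, fun i j h => hd h, IsAffineOpen.iSup_of_disjoint (fun i => (hU i).1) hd⟩

end Groth.Agent.S7385
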