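import Groth.Statements.S7387
import Groth.Agent.Lib.MorQ9.Generic

set_option autoImplicit false
universe u
open CategoryTheory AlgebraicGeometry
open Mor

namespace Groth.Agent.S7387

/-- A quasi-compact scheme has a dense open subscheme which is separated. -/
theorem result (X : Scheme.{u}) [CompactSpace X] :
    ∃ V : X.Opens, Dense (V : Set X) ∧ (V : Scheme.{u}).IsSeparated := by
  exact GrothLib.MorQ9.exists_dense_separated

end Groth.Agent.S7387
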