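import Groth.Statements.S7388
import Groth.Agent.Lib.MorQ9.Avoid

set_option autoImplicit false
universe u
open CategoryTheory AlgebraicGeometry
open Mor

namespace Groth.Agent.S7388

/-- Let `X` be a scheme admitting an immersion into `Proj S` for some graded ring `S`. Then any finite
set of points of `X` is contained in an affine open of `X`. -/
theorem result {R A : Type u} [CommRing R] [CommRing A] [Algebra R A]
    (𝒜 : ℕ → Submodule R A) [GradedAlgebra 𝒜] {X : Scheme.{u}} (ι : X ⟶ Proj 𝒜) [IsImmersion ι]
    (E : Set X) (hE : E.Finite) :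
    ∃ U : X.Opens, IsAffineOpen U ∧ E ⊆ U := by
  exact GrothLib.MorQ9.exists_affine_of_finite_proj 𝒜 ι E hE

end Groth.Agent.S7388
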