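import Groth.Statements.S7389
import Groth.Agent.Lib.MorQ9.Avoid

set_option autoImplicit false
universe u
open CategoryTheory AlgebraicGeometry
open Mor

namespace Groth.Agent.S7389

/-- Let `X` be a scheme admitting an immersion into an affine scheme. Then any finite set of points of
`X` is contained in an affine open of `X`. -/
theorem result {X Y : Scheme.{u}} [IsAffine Y] (ι : X ⟶ Y)
    [IsImmersion ι] (E : Set X) (hE : E.Finite) :
    ∃ U : X.Opens, IsAffineOpen U ∧ E ⊆ U := by
  exact GrothLib.MorQ9.exists_affine_of_finite_affine ι E hE

end Groth.Agent.S7389
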