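import Groth.Statements.S7393
import Groth.Agent.S2047
import Groth.Agent.Lib.GRingFT.Scheme
import Groth.Agent.Lib.Smoothing.Approx.EtaleMor
import Groth.Agent.Lib.ArtinTate.Space

set_option autoImplicit false
universe u
open CategoryTheory AlgebraicGeometry
open Mor

namespace Groth.Agent.S7393

/-- A scheme `X` is a G-scheme (every point has an affine open neighbourhood whose coordinate ring is a
G-ring) if and only if `X` is locally Noetherian and, for every closed point `x`, the completion map
of the local ring `O_{X,x} → O_{X,x}^∧` is a regular ring map. -/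
theorem result (X : Scheme.{u}) :
    (∀ x : X, ∃ U : X.Opens, x ∈ U ∧ IsAffineOpen U ∧ CAlg.IsGRing Γ(X, U)) ↔
      IsLocallyNoetherian X ∧ ∀ x : X, IsClosed ({x} : Set X) →
        CAlg.IsRegularHom (X.presheaf.stalk x)
          (AdicCompletion (IsLocalRing.maximalIdeal (X.presheaf.stalk x)) (X.presheaf.stalk x)) := by
  constructor
  · intro h
    haveI hX : IsLocallyNoetherian X := by
      choose U hxU hU hG using h
      exact isLocallyNoetherian_of_affine_cover (S := fun x => (⟨U x, hU x⟩ : X.affineOpens))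
        (top_le_iff.1 fun x _ => TopologicalSpace.Opens.mem_iSup.2 ⟨x, hxU x⟩) fun x => (hG x).1
    refine ⟨hX, fun x _ => ?_⟩
    obtain ⟨U, hx, hU, hG⟩ := h x
    haveI := hG.1
    letI : Algebra Γ(X, U) (X.presheaf.stalk x) := (X.presheaf.germ U x hx).hom.toAlgebra
    haveI : IsLocalization.AtPrime (X.presheaf.stalk x) (hU.primeIdealOf ⟨x, hx⟩).asIdeal :=
      hU.isLocalization_stalk ⟨x, hx⟩
    exact GrothLib.Excellent.isRegularHom_completion_congr
      (IsLocalization.algEquiv (hU.primeIdealOf ⟨x, hx⟩).asIdeal.primeCompl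
        (Localization.AtPrime (hU.primeIdealOf ⟨x, hx⟩).asIdeal) (X.presheaf.stalk x)).toRingEquiv
      (hG.2 _)
  rintro ⟨hX, h⟩ x
  obtain ⟨U, hU, hxU, -⟩ := exists_isAffineOpen_mem_and_subset (U := (⊤ : X.Opens)) (x := x) trivial
  haveI : IsNoetherianRing Γ(X, U) := IsLocallyNoetherian.component_noetherian ⟨U, hU⟩
  refine ⟨U, hxU, hU, ⟨inferInstance, fun P _ => ?_⟩⟩
  let z := hU.fromSpec (⟨P, ‹_›⟩ : PrimeSpectrum Γ(X, U))
  have hzU : z ∈ U := hU.range_fromSpec.subset (Set.mem_range_self _)
  obtain ⟨w, hw, hwc⟩ := GrothLib.ArtinTate.exists_isClosed_singleton_of_isClosed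
    (isClosed_closure (s := ({z} : Set X))) ⟨z, subset_closure rfl⟩
  have hzw : z ⤳ w := specializes_iff_mem_closure.2 hw
  obtain ⟨V, hV, hwV, -⟩ := exists_isAffineOpen_mem_and_subset (U := (⊤ : X.Opens)) (x := w) trivial
  have hzV : z ∈ V := hzw.mem_open V.2 hwV
  haveI : IsNoetherianRing Γ(X, V) := IsLocallyNoetherian.component_noetherian ⟨V, hV⟩
  letI : Algebra Γ(X, V) (X.presheaf.stalk z) := (X.presheaf.germ V z hzV).hom.toAlgebra
  letI : Algebra Γ(X, V) (X.presheaf.stalk w) := (X.presheaf.germ V w hwV).hom.toAlgebra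
  let q := (hV.primeIdealOf ⟨z, hzV⟩).asIdeal
  let n := (hV.primeIdealOf ⟨w, hwV⟩).asIdeal
  haveI : IsLocalization.AtPrime (X.presheaf.stalk z) q := hV.isLocalization_stalk ⟨z, hzV⟩
  haveI : IsLocalization.AtPrime (X.presheaf.stalk w) n := hV.isLocalization_stalk ⟨w, hwV⟩
  haveI : IsNoetherianRing (X.presheaf.stalk z) := IsLocalization.isNoetherianRing q.primeCompl _ inferInstance
  haveI : IsNoetherianRing (X.presheaf.stalk w) := IsLocalization.isNoetherianRing n.primeCompl _ inferInstance
  have hD : CAlg.IsGRing (X.presheaf.stalk w) := Groth.Agent.S2047.result.2 fun m hm => by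
    have hms : m.primeCompl ≤ IsUnit.submonoid (X.presheaf.stalk w) := fun y hy =>
      IsLocalRing.notMem_maximalIdeal.1 ((IsLocalRing.eq_maximalIdeal hm) ▸ hy)
    exact GrothLib.Excellent.isRegularHom_completion_congr
      (IsLocalization.atUnits _ m.primeCompl (S := Localization.AtPrime m) hms).toRingEquiv (h w hwc)
  have hqn : q ≤ n := (PrimeSpectrum.le_iff_specializes _ _).2
    ((hV.fromSpec.isOpenEmbedding.isInducing.specializes_iff).1
      (by rwa [hV.fromSpec_primeIdealOf, hV.fromSpec_primeIdealOf]))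
  have hz := Smoothing.Approx.isRegularHom_completion_of_localization (Cx := X.presheaf.stalk z) n.primeCompl hD q
    (Set.disjoint_left.2 fun a ha hq => ha (hqn hq))
  letI : Algebra Γ(X, U) (X.presheaf.stalk z) := (X.presheaf.germ U z hzU).hom.toAlgebra
  haveI h1 : IsLocalization.AtPrime (X.presheaf.stalk z) (hU.primeIdealOf ⟨z, hzU⟩).asIdeal :=
    hU.isLocalization_stalk ⟨z, hzU⟩
  haveI : IsLocalization.AtPrime (X.presheaf.stalk z) P := by
    have : (hU.primeIdealOf ⟨z, hzU⟩).asIdeal = P := congrArg PrimeSpectrum.asIdeal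
      (hU.fromSpec.isOpenEmbedding.injective (hU.fromSpec_primeIdealOf ⟨z, hzU⟩))
    simp only [this] at h1
    exact h1
  exact GrothLib.Excellent.isRegularHom_completion_congr
    (IsLocalization.algEquiv P.primeCompl (X.presheaf.stalk z) (Localization.AtPrime P)).toRingEquiv hz

end Groth.Agent.S7393
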