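import Groth.Statements.S7394
import Mathlib.RingTheory.AlgebraicIndependent.Adjoin
import Mathlib.RingTheory.AlgebraicIndependent.TranscendenceBasis
import Mathlib.FieldTheory.IsAlgClosed.AlgebraicClosure

set_option autoImplicit false
set_option backward.isDefEq.respectTransparency false
universe u
open CategoryTheory AlgebraicGeometry
open Lim

namespace Groth.Agent.S7394

/-- Let `S` be a scheme and `T_i → S`, `i ∈ I`, surjective affine morphisms. Then any product of the
`T_i` in the category of schemes over `S` maps surjectively onto `S`. -/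
theorem result {S : Scheme.{u}} {I : Type u} (T : I → Over S)
    (hT : ∀ i, IsAffineHom (T i).hom ∧ Surjective (T i).hom) (c : Limits.Fan T) (hc : Limits.IsLimit c) :
    Surjective c.pt.hom := by
  classical
  refine ⟨fun s => ?_⟩
  let k := S.residueField s
  choose t ht using fun i => (hT i).2.surj s
  let K : I → Type u := fun i => (T i).left.residueField (t i)
  let φ : ∀ i, k ⟶ (T i).left.residueField (t i) := fun i =>
    (S.residueFieldCongr (ht i).symm).hom ≫ (T i).hom.residueFieldMap (t i)
  letI : ∀ i, Algebra k (K i) := fun i => (φ i).hom.toAlgebra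
  choose B hB using fun i => exists_isTranscendenceBasis k (K i)
  let σ := Σ i, {x : K i // x ∈ B i}
  let Ω := AlgebraicClosure (FractionRing (MvPolynomial σ k))
  have emb : ∀ i, Nonempty (K i →ₐ[k] Ω) := by
    intro i
    let L := IntermediateField.adjoin k (Set.range ((↑) : B i → K i))
    haveI : Algebra.IsAlgebraic L (K i) := (hB i).isAlgebraic_field
    let r : MvPolynomial (B i) k →ₐ[k] Ω :=
      (IsScalarTower.toAlgHom k (MvPolynomial σ k) Ω).comp (MvPolynomial.rename fun x => (⟨i, x⟩ : σ))
    have hr : Function.Injective r := by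
      have hι : Function.Injective (fun x : B i => (⟨i, x⟩ : σ)) := fun a b h => by simpa using h
      refine Function.Injective.comp (g := algebraMap (MvPolynomial σ k) Ω) ?_
        (MvPolynomial.rename_injective _ hι)
      · show Function.Injective (algebraMap (MvPolynomial σ k) Ω)
        rw [IsScalarTower.algebraMap_eq (MvPolynomial σ k) (FractionRing (MvPolynomial σ k)) Ω]
        exact (algebraMap (FractionRing (MvPolynomial σ k)) Ω).injective.comp
          (IsFractionRing.injective (MvPolynomial σ k) (FractionRing (MvPolynomial σ k)))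
    let ψ : L →ₐ[k] Ω := (IsFractionRing.liftAlgHom (K := FractionRing (MvPolynomial (B i) k)) hr).comp
      (hB i).1.aevalEquivField.symm.toAlgHom
    letI : Algebra L Ω := ψ.toRingHom.toAlgebra
    haveI : IsScalarTower k L Ω := IsScalarTower.of_algebraMap_eq fun a => (ψ.commutes a).symm
    exact ⟨(IsAlgClosed.lift : K i →ₐ[L] Ω).restrictScalars k⟩
  let e := fun i => (emb i).some
  let p : Spec (CommRingCat.of Ω) ⟶ S := Spec.map (CommRingCat.ofHom (algebraMap k Ω)) ≫ S.fromSpecResidueField s
  let g : ∀ i, Over.mk p ⟶ T i := fun i => Over.homMk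
    (Spec.map (CommRingCat.ofHom (e i).toRingHom) ≫ (T i).left.fromSpecResidueField (t i)) (by
      show (Spec.map (CommRingCat.ofHom (e i).toRingHom) ≫ (T i).left.fromSpecResidueField (t i)) ≫ (T i).hom = p
      rw [Category.assoc, ← Scheme.Hom.SpecMap_residueFieldMap_fromSpecResidueField]
      have h2 : CommRingCat.ofHom (algebraMap k Ω) = φ i ≫ CommRingCat.ofHom (e i).toRingHom := by
        ext a
        exact ((e i).commutes a).symm
      show _ = Spec.map (CommRingCat.ofHom (algebraMap k Ω)) ≫ S.fromSpecResidueField s
      rw [h2, Spec.map_comp, Spec.map_comp, Category.assoc, Category.assoc]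
      congr 2
      exact (Scheme.residueFieldCongr_fromSpecResidueField (X := S) (ht i).symm).symm)
  let m := hc.lift (Limits.Fan.mk (Over.mk p) g)
  let z : Spec (CommRingCat.of Ω) := IsLocalRing.closedPoint Ω
  refine ⟨m.left z, ?_⟩
  rw [← Scheme.Hom.comp_apply, Over.w m]
  show (Spec.map (CommRingCat.ofHom (algebraMap k Ω)) ≫ S.fromSpecResidueField s) z = s
  rw [Scheme.Hom.comp_apply]
  exact Scheme.fromSpecResidueField_apply s _

end Groth.Agent.S7394
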