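import Groth.Statements.S7396
import Groth.Agent.Lib.AbsApprox.ClosedProps

set_option autoImplicit false
universe u
open CategoryTheory AlgebraicGeometry
open Lim

namespace Groth.Agent.S7396

/-- Let `f : X → S` be finite with `S` quasi-compact and quasi-separated. Then there are a morphism `f'
: X' → S` which is finite and of finite presentation and a closed immersion `X → X'` over `S`. -/
theorem result {X S : Scheme.{u}} (f : X ⟶ S) [IsFinite f]
    [CompactSpace S] [QuasiSeparatedSpace S] :
    ∃ (X' : Scheme.{u}) (f' : X' ⟶ S) (j : X ⟶ X'), IsFinite f' ∧ LocallyOfFinitePresentation f' ∧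
      IsClosedImmersion j ∧ j ≫ f' = f := by
    obtain ⟨I, _, _, _, D, c, hl, h1, h2, h3, ⟨e⟩⟩ := GrothLib.AbsApprox.exists_finite_system f
    obtain ⟨i⟩ : Nonempty Iᵒᵖ := inferInstance
    haveI := h3 i
    haveI : IsIso e.inv.left := inferInstanceAs (IsIso ((Over.forget S).map e.inv))
    refine ⟨_, (D.obj i).hom, e.inv.left ≫ (c.π.app i).left, (h1 i).1, (h1 i).2, inferInstance, ?_⟩
    rw [Category.assoc, Over.w (c.π.app i)]
    exact Over.w e.inv

end Groth.Agent.S7396
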