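import Groth.Statements.S7398
import Groth.Agent.Lib.UHTower.Tower

set_option autoImplicit false
universe u
open CategoryTheory AlgebraicGeometry
open Mor

namespace Groth.Agent.S7398

/-- Let `A ⊆ B` be a ring extension with `A ≠ B` such that `Spec B → Spec A` is a universal
homeomorphism whose residue field extensions are all trivial. Then some `b ∈ B` with `b ∉ A` has
`b^2 ∈ A` and `b^3 ∈ A`. (Here `A → B` is an injective, non-surjective ring map and membership in
`A` means membership in its image.) -/
theorem result {A B : Type u} [CommRing A] [CommRing B]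
    (φ : A →+* B) (hinj : Function.Injective φ) (hns : ¬ Function.Surjective φ)
    (hU : FlatMor.IsUnivHomeo (Spec.map (CommRingCat.ofHom φ)))
    (hres : ∀ x : Spec (CommRingCat.of B), Function.Surjective ((Spec.map (CommRingCat.ofHom φ)).residueFieldMap x)) :
    ∃ b : B, b ∉ φ.range ∧ b ^ 2 ∈ φ.range ∧ b ^ 3 ∈ φ.range := by
  let _ : Algebra A B := φ.toAlgebra
  have hU' := GrothLib.UHTower.isUnivHomeo_iff_uh.1 hU
  have hT := GrothLib.UHTower.surjective_residueFieldMap_iff.1 hres
  obtain ⟨c, hc⟩ : ∃ c, c ∉ φ.range := by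
    by_contra h
    push Not at h
    exact hns fun c => RingHom.mem_range.1 (h c)
  have hbot : ∀ x : B, x ∈ (⊥ : Subalgebra A B) ↔ x ∈ φ.range := fun x =>
    Algebra.mem_bot.trans RingHom.mem_range.symm
  obtain ⟨b, hb, h2, h3⟩ := (GrothLib.UHTower.exists_step (A := A) hU'.1 hU'.2.2.injComap hT.pires ⊥ c
    (fun h => hc ((hbot c).1 h))).1 hT
  exact ⟨b, fun h => hb ((hbot b).2 h), (hbot _).1 h2, (hbot _).1 h3⟩

end Groth.Agent.S7398
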