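import Groth.Statements.S7399
import Groth.Agent.Lib.UHTower.Tower

set_option autoImplicit false
universe u
open CategoryTheory AlgebraicGeometry
open Mor

namespace Groth.Agent.S7399

/-- Let `A ⊆ B` be a proper ring extension inducing a universal homeomorphism `Spec B → Spec A`. Then
either there is `b ∈ B`, `b ∉ A`, with `b^2, b^3 ∈ A`, or there are a prime number `p` and `b ∈ B`,
`b ∉ A`, with `p b, b^p ∈ A`. (Here `A → B` is an injective, non-surjective ring map and membership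
in `A` means membership in its image.) -/
theorem result {A B : Type u} [CommRing A] [CommRing B]
    (φ : A →+* B) (hinj : Function.Injective φ) (hns : ¬ Function.Surjective φ)
    (hU : FlatMor.IsUnivHomeo (Spec.map (CommRingCat.ofHom φ))) :
    (∃ b : B, b ∉ φ.range ∧ b ^ 2 ∈ φ.range ∧ b ^ 3 ∈ φ.range) ∨
      ∃ (p : ℕ) (b : B), p.Prime ∧ b ∉ φ.range ∧ (p : B) * b ∈ φ.range ∧ b ^ p ∈ φ.range := by
  let _ : Algebra A B := φ.toAlgebra
  have hU' := GrothLib.UHTower.isUnivHomeo_iff_uh.1 hU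
  obtain ⟨c, hc⟩ : ∃ c, c ∉ φ.range := by
    by_contra h
    push Not at h
    exact hns fun c => RingHom.mem_range.1 (h c)
  have hbot : ∀ x : B, x ∈ (⊥ : Subalgebra A B) ↔ x ∈ φ.range := fun x =>
    Algebra.mem_bot.trans RingHom.mem_range.symm
  obtain ⟨b, hb, ⟨h2, h3⟩ | ⟨p, hp, h1, h2⟩⟩ := (GrothLib.UHTower.exists_step (A := A) hU'.1
    hU'.2.2.injComap hU'.2.2.pires ⊥ c (fun h => hc ((hbot c).1 h))).2
  · exact Or.inl ⟨b, fun h => hb ((hbot b).2 h), (hbot _).1 h2, (hbot _).1 h3⟩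
  · exact Or.inr ⟨p, b, hp, fun h => hb ((hbot b).2 h), (hbot _).1 h1, (hbot _).1 h2⟩

end Groth.Agent.S7399
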