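import Groth.Statements.S7406
import Groth.Agent.Lib.EtFibre.Basic

set_option autoImplicit false
universe u
open CategoryTheory AlgebraicGeometry
open Desc

namespace Groth.Agent.S7406

/-- Consider a commutative square of schemes with horizontal maps `h' : U' → V'`, `h : U → V` and étale
vertical maps `a : U' → U`, `b : V' → V`, and let `v' ∈ V'` with image `v = b(v')`. Then the induced
morphism of fibres `U'_{v'} → U_v` is étale. (The morphism of fibres is characterised by its
compatibility with `a` and with `Spec κ(v') → Spec κ(v)`.) -/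
theorem result {U U' V V' : Scheme.{u}} (h : U ⟶ V) (h' : U' ⟶ V') (a : U' ⟶ U)
    (b : V' ⟶ V) [Etale a] [Etale b] (comm : h' ≫ b = a ≫ h) (v' : V')
    (φ : h'.fiber v' ⟶ h.fiber (b v')) (hφ1 : φ ≫ h.fiberι (b v') = h'.fiberι v' ≫ a)
    (hφ2 : φ ≫ h.fiberToSpecResidueField (b v') = h'.fiberToSpecResidueField v' ≫ Spec.map (b.residueFieldMap v')) :
    Etale φ := by
  exact GrothLib.EtFibre.etale_fiberMap h h' a b comm v' φ hφ1 hφ2

end Groth.Agent.S7406
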