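import Groth.Statements.S7410
import Groth.Agent.Lib.Chow.Main

set_option autoImplicit false
universe u
open CategoryTheory AlgebraicGeometry
open Lim

namespace Groth.Agent.S7410

/-- Chow's lemma, version with a dense open: let `S` be quasi-compact and quasi-separated and `f : X →
S` separated of finite type, with `X` having finitely many irreducible components. Then for some `n`
there are a scheme `X'`, a proper surjective `π : X' → X`, an immersion `X' → P^n_S` compatible with
the maps to `S`, and a dense open `U ⊆ X` such that `π⁻¹(U) → U` is an isomorphism. -/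
theorem result {X S : Scheme.{u}} (f : X ⟶ S) [CompactSpace S]
    [QuasiSeparatedSpace S] [IsSeparated f] [LocallyOfFiniteType f] [QuasiCompact f]
    (hirr : (irreducibleComponents (X : Type u)).Finite) :
    ∃ (n : ℕ) (X' : Scheme.{u}) (π : X' ⟶ X) (j : X' ⟶ CohB1.ProjSpaceOver n S),
      IsImmersion j ∧ j ≫ CohB1.ProjSpaceOver.toBase n S = π ≫ f ∧ IsProper π ∧ Surjective π ∧
      ∃ U : X.Opens, Dense (U : Set X) ∧ IsIso (π ∣_ U) := by
  obtain ⟨n, X', π, j, hj, hjb, hπ, hs, -, -, U, hUd, hiso, -⟩ := GrothLib.Chow.chow_of_finite_components f hirr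
  exact ⟨n, X', π, j, hj, hjb, hπ, hs, U, hUd, hiso⟩

end Groth.Agent.S7410
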