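import Groth.Statements.S7412
import Mathlib.Algebra.Module.CharacterModule

set_option autoImplicit false
universe u
open Desc

namespace Groth.Agent.S7412

/-- Let `R` be a ring and `f : M → N` a map of `R`-modules. Then `f` is universally injective (`f ⊗ 1_P`
is injective for every `R`-module `P`; here `P` ranges over modules in the same universe, which
suffices) if and only if the map of character modules `C(N) → C(M)`, `C(-) = Hom_ℤ(-, ℚ/ℤ)`, is a
split surjection of `R`-modules. -/
theorem result {R : Type u} [CommRing R] {M N : Type u}
    [AddCommGroup M] [Module R M] [AddCommGroup N] [Module R N] (f : M →ₗ[R] N) :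
    (∀ (P : Type u) [AddCommGroup P] [Module R P], Function.Injective (f.lTensor P)) ↔
      ∃ g : CharacterModule M →ₗ[R] CharacterModule N, (CharacterModule.dual f).comp g = LinearMap.id := by
  have key : ∀ (P : Type u) [AddCommGroup P] [Module R P],
      Function.Injective (f.lTensor P) ↔ Function.Surjective (f.lcomp R (CharacterModule P)) := by
    intro P _ _
    rw [LinearMap.lTensor_inj_iff_rTensor_inj, rTensor_injective_iff_lcomp_surjective]
  constructor
  · intro h
    let ev : M →ₗ[R] CharacterModule (CharacterModule M) :=
      { toFun := fun m => AddMonoidHom.mk' (fun c => c m) (fun _ _ => rfl)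
        map_add' := fun m m' => DFunLike.ext _ _ fun c => map_add c m m'
        map_smul' := fun r m => DFunLike.ext _ _ fun c => rfl }
    obtain ⟨H, hH⟩ := (key _).mp (h (CharacterModule M)) ev
    refine ⟨{ toFun := fun c => AddMonoidHom.mk' (fun n => H n c) (fun n n' => by rw [map_add]; rfl)
              map_add' := fun c c' => DFunLike.ext _ _ fun n => map_add (H n) c c'
              map_smul' := fun r c => DFunLike.ext _ _ fun n => ?_ }, ?_⟩
    · exact (DFunLike.congr_fun (map_smul H r n) c).symm
    · exact LinearMap.ext fun c => DFunLike.ext _ _ fun m =>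
        DFunLike.congr_fun (LinearMap.congr_fun hH m) c
  · rintro ⟨g, hg⟩ P _ _
    rw [key]
    intro ψ
    refine ⟨{ toFun := fun n => AddMonoidHom.mk'
                (fun p => g (AddMonoidHom.mk' (fun m => ψ m p) (fun a b => by rw [map_add]; rfl)) n)
                (fun p p' => ?_)
              map_add' := fun n n' => DFunLike.ext _ _ fun p => map_add (g _) n n'
              map_smul' := fun r n => DFunLike.ext _ _ fun p => ?_ }, ?_⟩
    · refine (DFunLike.congr_fun (congrArg g ?_) n).trans (DFunLike.congr_fun (map_add g _ _) n)
      exact DFunLike.ext _ _ fun m => map_add (ψ m) p p'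
    · refine (DFunLike.congr_fun (map_smul g r (show CharacterModule M from AddMonoidHom.mk' (fun m => ψ m p)
          (fun a b => by rw [map_add]; rfl))) n).symm.trans (DFunLike.congr_fun (congrArg g ?_) n)
      exact DFunLike.ext _ _ fun m => DFunLike.congr_fun (map_smul ψ r m) p
    · refine LinearMap.ext fun m => DFunLike.ext _ _ fun p => ?_
      exact DFunLike.congr_fun (LinearMap.congr_fun hg
        (AddMonoidHom.mk' (fun m => ψ m p) (fun a b => by rw [map_add]; rfl))) m

end Groth.Agent.S7412
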