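import Groth.Statements.S7413
import Groth.Agent.Lib.LocProj.Pullback

set_option autoImplicit false
universe u
open CategoryTheory AlgebraicGeometry
open Opposite
open Mor

namespace Groth.Agent.S7413

/-- Let `f : X → Y` be a morphism of schemes and `G` a quasi-coherent, locally projective `O_Y`-module
(projective sections over every affine open). Then `f^* G` is locally projective on `X`. -/
theorem result {X Y : Scheme.{u}} (f : X ⟶ Y) (G : Y.Modules) [Coh.IsQCoh G]
    (hG : ∀ V : Y.Opens, IsAffineOpen V → Module.Projective (Y.ringCatSheaf.obj.obj (op V)) (G.val.obj (op V)))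
    (U : X.Opens) (hU : IsAffineOpen U) :
    Module.Projective (X.ringCatSheaf.obj.obj (op U)) (((Scheme.Modules.pullback f).obj G).val.obj (op U)) := by
  exact GrothLib.LocProj.isLP_pullback f G hG U hU

end Groth.Agent.S7413
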