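import Groth.Statements.S7416


set_option autoImplicit false
universe u
open CategoryTheory AlgebraicGeometry
open Mor

namespace Groth.Agent.S7416

/-- Let `U`, `V` be affine schemes and `W → U`, `W → V` open immersions. Then every `w ∈ W` has an open
neighbourhood `W' ⊆ W` whose images in `U` and in `V` are standard opens `D(f) ⊆ U`, `D(g) ⊆ V` (in
particular `W'` is affine). -/
theorem result {U V W : Scheme.{u}} [IsAffine U]
    [IsAffine V] (i : W ⟶ U) (j : W ⟶ V) [IsOpenImmersion i] [IsOpenImmersion j] (w : W) :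
    ∃ (W' : W.Opens) (f : Γ(U, ⊤)) (g : Γ(V, ⊤)), w ∈ W' ∧ i ''ᵁ W' = U.basicOpen f ∧ j ''ᵁ W' = V.basicOpen g := by
  obtain ⟨O, hO, hwO, -⟩ := exists_isAffineOpen_mem_and_subset (TopologicalSpace.Opens.mem_top w)
  obtain ⟨f, hfle, hwf⟩ := (isAffineOpen_top U).exists_basicOpen_le
    (⟨i w, ⟨w, hwO, rfl⟩⟩ : (i ''ᵁ O : U.Opens)) trivial
  let P : W.Opens := i ⁻¹ᵁ U.basicOpen f
  have hP : i ''ᵁ P = U.basicOpen f := by
    rw [Scheme.Hom.image_preimage_eq_opensRange_inf]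
    exact inf_eq_right.mpr (hfle.trans (i.image_le_opensRange O))
  have hPaff : IsAffineOpen P := by
    rw [← i.isAffineOpen_iff_of_isOpenImmersion, hP]; exact (isAffineOpen_top U).basicOpen _
  have hjP : IsAffineOpen (j ''ᵁ P) := (j.isAffineOpen_iff_of_isOpenImmersion).mpr hPaff
  obtain ⟨g, hgle, hwg⟩ := (isAffineOpen_top V).exists_basicOpen_le
    (⟨j w, ⟨w, hwf, rfl⟩⟩ : (j ''ᵁ P : V.Opens)) trivial
  let W' : W.Opens := j ⁻¹ᵁ V.basicOpen g
  have hjW : j ''ᵁ W' = V.basicOpen g := by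
    rw [Scheme.Hom.image_preimage_eq_opensRange_inf]
    exact inf_eq_right.mpr (hgle.trans (j.image_le_opensRange P))
  have hW'P : W' ≤ P := fun z hz => by
    obtain ⟨z', hz', he⟩ := hgle hz
    rwa [← j.isOpenEmbedding.injective he]
  let iP : Γ(U, U.basicOpen f) → Γ(W, P) := (i.appLE _ P le_rfl).hom
  let gP : Γ(W, P) := (j.appLE ⊤ P le_top).hom g
  have hgP : W.basicOpen gP = W' := by
    show W.basicOpen ((j.appLE ⊤ P le_top).hom g) = _
    rw [Scheme.Hom.appLE, CommRingCat.comp_apply, Scheme.basicOpen_res, ← Scheme.preimage_basicOpen]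
    exact inf_eq_right.mpr hW'P
  obtain ⟨a, ha⟩ : ∃ a : Γ(U, ⊤), U.basicOpen a = i ''ᵁ W' := by
    have e : i ''ᵁ W' = U.basicOpen ((i.appIso P).inv gP) := by
      rw [← hgP, Scheme.image_basicOpen]
    obtain ⟨a, ha⟩ : ∃ a : Γ(U, ⊤), U.basicOpen a =
        U.basicOpen (U.presheaf.map (eqToHom hP.symm).op ((i.appIso P).inv gP)) := by
      haveI := (isAffineOpen_top U).isLocalization_basicOpen f
      exact (isAffineOpen_top U).basicOpen_basicOpen_is_basicOpen f _
    exact ⟨a, ha.trans ((Scheme.basicOpen_res_eq _ _ _).trans e.symm)⟩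
  exact ⟨W', a, g, hwg, ha.symm, hjW⟩

end Groth.Agent.S7416
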