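import Groth.Statements.S7417
import Groth.Agent.Lib.QCohCat20.General

set_option autoImplicit false
set_option linter.style.haveILetI false
universe u
open CategoryTheory AlgebraicGeometry
open QCohCat

namespace Groth.Agent.S7417

/-- For a scheme `X`, the inclusion functor `QCoh(O_X) → Mod(O_X)` has a right adjoint `Q` (the
coherator). (The published statement adds that the counit `Q(F) → F` is an isomorphism for
quasi-coherent `F`; this row states only the existence of the right adjoint, the counit clause being
formal for a fully faithful inclusion.) -/
theorem result (X : Scheme.{u}) : ((QCohCat.isQCoh X).ι).IsLeftAdjoint := by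
  exact GrothLib.QCohCat20.isLeftAdjoint_ι X

end Groth.Agent.S7417
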