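import Groth.Statements.S7431
import Mathlib.AlgebraicGeometry.Morphisms.IsIso
import Mathlib.AlgebraicGeometry.Morphisms.Affine

set_option autoImplicit false
universe u
open CategoryTheory AlgebraicGeometry
open Lim

namespace Groth.Agent.S7431

open CategoryTheory AlgebraicGeometry in
theorem exists_unique_elt {B B' R R' : Type u} [CommRing B] [CommRing B'] [CommRing R] [CommRing R']
    {s : B →+* R} {t : R' →+* R} {p : B' →+* B} {q : B' →+* R'}
    (hsq : IsPullback (CommRingCat.ofHom p) (CommRingCat.ofHom q) (CommRingCat.ofHom s) (CommRingCat.ofHom t))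
    (b : B) (r : R') (h : s b = t r) :
    (∃ x : B', p x = b ∧ q x = r) ∧ ∀ x y : B', p x = p y → q x = q y → x = y := by
  let Z := CommRingCat.of (ULift.{u} (Polynomial ℤ))
  have mk : ∀ (T : Type u) [CommRing T] (a : T), ∃ φ : Z ⟶ CommRingCat.of T, φ.hom ⟨Polynomial.X⟩ = a := fun T _ a =>
    ⟨CommRingCat.ofHom ((Polynomial.eval₂RingHom (Int.castRingHom T) a).comp (ULift.ringEquiv : ULift.{u} (Polynomial ℤ) ≃+* Polynomial ℤ).toRingHom),
      Polynomial.eval₂_X _ _⟩
  have ext' : ∀ (T : Type u) [CommRing T] (f g : Z ⟶ CommRingCat.of T), f.hom ⟨Polynomial.X⟩ = g.hom ⟨Polynomial.X⟩ → f = g := by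
    intro T _ f g hfg
    have : f.hom.comp (ULift.ringEquiv : ULift.{u} (Polynomial ℤ) ≃+* Polynomial ℤ).symm.toRingHom = g.hom.comp (ULift.ringEquiv : ULift.{u} (Polynomial ℤ) ≃+* Polynomial ℤ).symm.toRingHom :=
      Polynomial.ringHom_ext (fun n => by simp) hfg
    ext ⟨x⟩
    exact RingHom.congr_fun this x
  constructor
  · obtain ⟨β, hβ⟩ := mk B b
    obtain ⟨ρ, hρ⟩ := mk R' r
    have w : β ≫ CommRingCat.ofHom s = ρ ≫ CommRingCat.ofHom t := ext' R _ _ (by simp [hβ, hρ, h])
    refine ⟨(hsq.lift β ρ w).hom ⟨Polynomial.X⟩, ?_, ?_⟩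
    · exact (congrArg (fun g => g.hom ⟨Polynomial.X⟩) (hsq.lift_fst β ρ w)).trans hβ
    · exact (congrArg (fun g => g.hom ⟨Polynomial.X⟩) (hsq.lift_snd β ρ w)).trans hρ
  · intro x y hp hq
    obtain ⟨φx, hx⟩ := mk B' x
    obtain ⟨φy, hy⟩ := mk B' y
    have : φx = φy := hsq.hom_ext (ext' B _ _ (by simp [hx, hy, hp])) (ext' R' _ _ (by simp [hx, hy, hq]))
    rw [← hx, ← hy, this]

/-- Let `B' = B ×_R R'` be a cartesian square of rings with maps `s : B → R`, `t : R' → R`, and let `W'
= D(f_1) ∪ … ∪ D(f_n) ⊆ Spec R'` with `t(f_i) = s(g_i)` for elements `g_i ∈ B` such that `B_{g_i} →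
R_{s(g_i)}` is an isomorphism for each `i`. Then the composite `W' → Spec R' → Spec B'`, the second
map coming from `B' → R'`, is an open immersion. -/
theorem result {B B' R R' : Type u} [CommRing B] [CommRing B']
    [CommRing R] [CommRing R'] (s : B →+* R) (t : R' →+* R) (p : B' →+* B) (q : B' →+* R')
    (hsq : IsPullback (CommRingCat.ofHom p) (CommRingCat.ofHom q) (CommRingCat.ofHom s) (CommRingCat.ofHom t))
    {n : ℕ} (f : Fin n → R') (g : Fin n → B) (hfg : ∀ i, t (f i) = s (g i))
    (hiso : ∀ i, Function.Bijective (Localization.awayMap s (g i))) :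
    IsOpenImmersion (Scheme.Opens.ι (X := Spec (CommRingCat.of R')) (⨆ i, PrimeSpectrum.basicOpen (f i)) ≫
      Spec.map (CommRingCat.ofHom q)) := by
  classical
  have ex := fun i => (exists_unique_elt hsq (g i) (f i) (hfg i).symm).1
  choose h hph hqh using ex
  have uniq := fun (x y : B') => (exists_unique_elt hsq 0 0 (by simp)).2 x y
  let ψ := Spec.map (CommRingCat.ofHom q)
  let V : (Spec (CommRingCat.of B')).Opens := ⨆ i, PrimeSpectrum.basicOpen (h i)
  have hpre : ψ ⁻¹ᵁ V = ⨆ i, PrimeSpectrum.basicOpen (f i) := by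
    rw [Scheme.Hom.preimage_iSup]
    exact iSup_congr fun i => by rw [← hqh i]; rfl
  have hbij : ∀ i, Function.Bijective (Localization.awayMap q (h i)) := by
    intro i
    let K := Localization.Away (g i)
    let M := Localization.Away (s (g i))
    constructor
    · rw [injective_iff_map_eq_zero]
      intro x hx
      obtain ⟨⟨x0, _, n, rfl⟩, hx0⟩ := IsLocalization.surj (Submonoid.powers (h i)) x
      have e1 : algebraMap R' (Localization.Away (q (h i))) (q x0) = 0 := by
        have := congrArg (Localization.awayMap q (h i)) hx0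
        rw [map_mul, hx, zero_mul] at this
        rw [this]
        exact (IsLocalization.map_eq _ x0).symm
      obtain ⟨⟨_, k, rfl⟩, hk⟩ := (IsLocalization.map_eq_zero_iff (Submonoid.powers (q (h i))) _ _).mp e1
      dsimp only at hk
      have e2 : algebraMap B K (p (h i ^ k * x0)) = 0 := by
        apply (hiso i).1
        rw [map_zero]
        refine (IsLocalization.map_eq _ _).trans ?_
        have hc := congrArg (fun φ => φ.hom (h i ^ k * x0)) hsq.w
        simp only [CommRingCat.hom_comp, CommRingCat.hom_ofHom, RingHom.comp_apply] at hc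
        rw [hc, map_mul q, map_pow, hk]
        simp
      obtain ⟨⟨_, l, rfl⟩, hl⟩ := (IsLocalization.map_eq_zero_iff (Submonoid.powers (g i)) _ _).mp e2
      dsimp only at hl
      have e3 : h i ^ (l + k) * x0 = 0 := by
        apply uniq
        · rw [pow_add, mul_assoc, map_mul, map_pow, hph, hl, map_zero]
        · rw [pow_add, mul_assoc, map_mul, map_mul q (h i ^ k), map_pow q (h i) k, hk, mul_zero, map_zero]
      have e4 : algebraMap B' (Localization.Away (h i)) x0 = 0 :=
        (IsLocalization.map_eq_zero_iff (Submonoid.powers (h i)) _ _).mpr ⟨⟨_, l + k, rfl⟩, e3⟩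
      rw [e4] at hx0
      exact (IsLocalization.map_units _ (⟨h i ^ n, n, rfl⟩ : Submonoid.powers (h i))).mul_left_eq_zero.mp hx0
    · intro y
      obtain ⟨⟨r, _, n, rfl⟩, hr⟩ := IsLocalization.surj (Submonoid.powers (q (h i))) y
      obtain ⟨z, hz⟩ := (hiso i).2 (algebraMap R M (t r))
      obtain ⟨⟨b, _, m, rfl⟩, hb⟩ := IsLocalization.surj (Submonoid.powers (g i)) z
      have e1 : algebraMap R M (s (g i) ^ m * t r) = algebraMap R M (s b) := by
        have := congrArg (Localization.awayMap s (g i)) hb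
        have em : ∀ b : B, Localization.awayMap s (g i) (algebraMap B K b) = algebraMap R M (s b) := fun b => IsLocalization.map_eq _ _
        rw [map_mul, hz, em, em, map_pow] at this
        rw [map_mul, mul_comm]
        exact this
      obtain ⟨⟨_, l, rfl⟩, hl⟩ := (IsLocalization.eq_iff_exists (Submonoid.powers (s (g i))) M).mp e1
      dsimp only at hl
      obtain ⟨⟨x, hpx, hqx⟩, -⟩ := exists_unique_elt hsq (g i ^ l * b) (f i ^ (l + m) * r) (by
        rw [map_mul, map_mul, map_pow, map_pow, hfg, pow_add, mul_assoc, ← hl])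
      refine ⟨IsLocalization.mk' (Localization.Away (h i)) x (⟨h i ^ (l + m + n), _, rfl⟩ : Submonoid.powers (h i)), ?_⟩
      show IsLocalization.map (Localization.Away (q (h i))) q _ _ = y
      rw [IsLocalization.map_mk', IsLocalization.mk'_eq_iff_eq_mul]
      show algebraMap R' _ (q x) = y * algebraMap R' _ (q (h i ^ (l + m + n)))
      rw [hqx, map_pow q, pow_add (q (h i)), map_mul, map_mul, ← hqh i]
      rw [show algebraMap R' (Localization.Away (q (h i))) r = y * algebraMap R' _ (q (h i) ^ n) from hr.symm]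
      ring
  have hres : IsIso (ψ ∣_ V) := by
    refine IsZariskiLocalAtTarget.of_iSup_eq_top (P := MorphismProperty.isomorphisms Scheme)
      (fun i => V.ι ⁻¹ᵁ (PrimeSpectrum.basicOpen (h i))) ?_ fun i => ?_
    · rw [← Scheme.Hom.preimage_iSup]
      exact V.ι_preimage_self
    · refine ((MorphismProperty.isomorphisms Scheme).arrow_mk_iso_iff (morphismRestrictRestrict ψ V _)).mpr ?_
      have e : V.ι ''ᵁ (V.ι ⁻¹ᵁ (PrimeSpectrum.basicOpen (h i) : (Spec (CommRingCat.of B')).Opens)) = PrimeSpectrum.basicOpen (h i) := by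
        rw [Scheme.Hom.image_preimage_eq_opensRange_inf, Scheme.Opens.opensRange_ι]
        exact inf_eq_right.mpr (le_iSup (fun i => (PrimeSpectrum.basicOpen (h i) : (Spec (CommRingCat.of B')).Opens)) i)
      rw [e]
      refine ((MorphismProperty.isomorphisms Scheme).arrow_mk_iso_iff (SpecMapRestrictBasicOpenIso (CommRingCat.ofHom q) (h i))).mpr ?_
      show IsIso _
      have : IsIso (CommRingCat.ofHom (Localization.awayMap q (h i))) := (ConcreteCategory.isIso_iff_bijective _).mpr (hbij i)
      infer_instance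
  suffices ∀ W : (Spec (CommRingCat.of R')).Opens, W = ψ ⁻¹ᵁ V → IsOpenImmersion (W.ι ≫ ψ) from this _ hpre.symm
  rintro W rfl
  rw [← morphismRestrict_ι]
  infer_instance

end Groth.Agent.S7431
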