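import Groth.Statements.S7435
import Groth.Agent.Lib.BddFibre.Basic
-- import your own Groth.Agent.* helpers here

set_option autoImplicit false
universe u
open CategoryTheory AlgebraicGeometry
open BddFib

namespace Groth.Agent.S7435

open CategoryTheory.Limits in
set_option backward.isDefEq.respectTransparency.types false in
/-- If `f` is finite locally free of degree `d`, then `d` bounds the degrees of the fibres of `f`. -/
theorem result {X Y : Scheme.{u}} (f : X ⟶ Y) (d : ℕ) (hf : Mor2.IsFinLocFreeOfDeg d f) :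
    BddFib.FibreDegLE f d := by
  obtain ⟨⟨hfin, hflat, -⟩, hd⟩ := hf
  rw [GrothLib.BddFibre.fibreDegLE_iff]
  intro k _ g
  rw [GrothLib.BddFibre.finiteOfDegLE_iff]
  let q : pullback f g ⟶ Spec (CommRingCat.of k) := pullback.snd f g
  have : IsFinite q := MorphismProperty.pullback_snd _ _ hfin
  have : Flat q := MorphismProperty.pullback_snd _ _ hflat
  refine ⟨‹IsFinite q›, ?_⟩
  have : IsAffine (pullback f g) := isAffine_of_isAffineHom q
  obtain ⟨φ, hφ⟩ := Spec.map_surjective ((pullback f g).isoSpec.inv ≫ q)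
  have hq : (pullback f g).isoSpec.hom ≫ Spec.map φ = q := by rw [hφ, Iso.hom_inv_id_assoc]
  have : Flat (Spec.map φ) := by rw [hφ]; infer_instance
  have : IsFinite (Spec.map φ) := by rw [hφ]; infer_instance
  rw [GrothLib.BddFibre.deg_eq q φ (pullback f g).isoSpec hq]
  let y : ↥(Spec (CommRingCat.of k)) := IsLocalRing.closedPoint k
  have h1 : Scheme.Hom.finrank (Spec.map φ) y = d := by
    rw [← Scheme.Hom.finrank_comp_left_of_isIso (pullback f g).isoSpec.hom (Spec.map φ), hq,
      Scheme.Hom.finrank_pullback_snd]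
    exact hd _
  let := φ.hom.toAlgebra
  have : Module.Finite k Γ(pullback f g, ⊤) := (IsFinite.SpecMap_iff φ).mp ‹IsFinite (Spec.map φ)›
  have h2 : Scheme.Hom.finrank (Spec.map φ) y = Module.finrank k Γ(pullback f g, ⊤) := by
    refine (Scheme.Hom.finrank_SpecMap_algebraMap k Γ(pullback f g, ⊤) y).trans ?_
    rw [Module.rankAtStalk_eq_finrank_of_free]
    rfl
  exact le_of_eq (h2.symm.trans h1)

end Groth.Agent.S7435
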