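import Groth.Statements.S7439
import Groth.Agent.Lib.BddFibre.Basic
-- import your own Groth.Agent.* helpers here

set_option autoImplicit false
universe u
open CategoryTheory AlgebraicGeometry
open BddFib

namespace Groth.Agent.S7439

/-- Every immersion has universally bounded fibres, with `1` as a bound for the degrees of its fibres. -/
theorem result {X Y : Scheme.{u}} (f : X ⟶ Y) [IsImmersion f] :
    BddFib.FibreDegLE f 1 := by
  exact GrothLib.BddFibre.fibreDegLE_of_isImmersion f

end Groth.Agent.S7439
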