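import Groth.Statements.S7440
import Groth.Agent.Lib.BddFibre.Basic
import Mathlib.RingTheory.Etale.Field
import Mathlib.AlgebraicGeometry.Morphisms.QuasiFinite
import Mathlib.FieldTheory.IsAlgClosed.AlgebraicClosure
-- import your own Groth.Agent.* helpers here

set_option autoImplicit false
universe u
open CategoryTheory AlgebraicGeometry
open BddFib

namespace Groth.Agent.S7440

open CategoryTheory.Limits in
set_option backward.isDefEq.respectTransparency.types false in
/-- Let `f : X → Y` be étale and `n ≥ 0`. If for every field `k` and every `Spec k → Y` the base change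
`X_k = Spec k ×_Y X` has finitely many, and at most `n`, points, then `n` bounds the degrees of the
fibres of `f`. (The converse implication holds for every morphism of schemes, étale or not, and is
not restated here.) -/
theorem result {X Y : Scheme.{u}} (f : X ⟶ Y) [Etale f] (n : ℕ)
    (h : ∀ (k : Type u) [Field k] (g : Spec (CommRingCat.of k) ⟶ Y),
      Finite ↥(Limits.pullback f g) ∧ Nat.card ↥(Limits.pullback f g) ≤ n) :
    BddFib.FibreDegLE f n := by
  intro y
  let L := AlgebraicClosure (Y.residueField y)
  let σ : Y.residueField y ⟶ CommRingCat.of L := CommRingCat.ofHom (algebraMap (Y.residueField y) L)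
  refine (GrothLib.BddFibre.finiteOfDegLE_snd_comp_iff (Field.toIsField _) (Field.toIsField L) σ f
    (Y.fromSpecResidueField y) n).mp ?_
  let a := Spec.map σ ≫ Y.fromSpecResidueField y
  obtain ⟨hfin, hcard⟩ := h L a
  let q : pullback f a ⟶ Spec (CommRingCat.of L) := pullback.snd f a
  have : Etale q := MorphismProperty.pullback_snd _ _ ‹Etale f›
  have : JacobsonSpace ↥(pullback f a) := LocallyOfFiniteType.jacobsonSpace q
  have : T1Space ↥(pullback f a) := ⟨fun x => by
    by_contra hx
    obtain ⟨z, hz, hzc⟩ := nonempty_inter_closedPoints (Z := (closedPoints ↥(pullback f a))ᶜ)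
      ⟨x, hx⟩ ((Set.toFinite _).isClosed_biUnion (fun z (hz : z ∈ closedPoints ↥(pullback f a)) => hz) |>
        fun h => (show IsClosed (closedPoints ↥(pullback f a)) by simpa using h).isOpen_compl.isLocallyClosed)
    exact hz hzc⟩
  have : LocallyQuasiFinite q :=
    locallyQuasiFinite_iff_isDiscrete_preimage_singleton.mpr fun _ => isDiscrete_univ_iff.mpr inferInstance |>.mono (Set.subset_univ _)
  have : CompactSpace ↥(pullback f a) := Finite.compactSpace
  have : QuasiCompact q := quasiCompact_of_compactSpace q
  have hq : IsFinite q := IsFinite.of_locallyQuasiFinite q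
  have : IsAffine (pullback f a) := isAffine_of_isAffineHom q
  rw [GrothLib.BddFibre.finiteOfDegLE_iff]
  refine ⟨hq, ?_⟩
  obtain ⟨φ, hφ⟩ := Spec.map_surjective ((pullback f a).isoSpec.inv ≫ q)
  rw [GrothLib.BddFibre.deg_eq q φ (pullback f a).isoSpec (by rw [hφ, Iso.hom_inv_id_assoc])]
  have : Etale (Spec.map φ) := by rw [hφ]; infer_instance
  let := φ.hom.toAlgebra
  have hφe : Algebra.Etale L Γ(pullback f a, ⊤) := ((HasRingHomProperty.Spec_iff (P := @Etale) (φ := φ)).mp ‹_› : φ.hom.Etale)
  rw [(Algebra.FormallyEtale.equivPiOfIsSepClosed (K := L) (A := Γ(pullback f a, ⊤))).toLinearEquiv.finrank_eq]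
  have hA : IsFinite (Spec.map φ) := by rw [hφ]; infer_instance
  have : Module.Finite L Γ(pullback f a, ⊤) := (IsFinite.SpecMap_iff φ).mp hA
  have : IsArtinianRing Γ(pullback f a, ⊤) := isArtinian_of_tower L inferInstance
  let := Fintype.ofFinite (PrimeSpectrum Γ(pullback f a, ⊤))
  rw [Module.finrank_fintype_fun_eq_card, ← Nat.card_eq_fintype_card]
  exact (Nat.card_congr (pullback f a).isoSpec.hom.homeomorph.toEquiv).symm.le.trans hcard

end Groth.Agent.S7440
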