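import Groth.Statements.S7441
import Groth.Agent.Lib.BddFibre.Universal
-- import your own Groth.Agent.* helpers here

set_option autoImplicit false
universe u
open CategoryTheory AlgebraicGeometry
open BddFib

namespace Groth.Agent.S7441

/-- Let `f : X → Y` be locally quasi-finite (locally of finite type with discrete fibres) with `X`
quasi-compact. Then the fibres of `f` are universally bounded. -/
theorem result {X Y : Scheme.{u}} (f : X ⟶ Y) [LocallyQuasiFinite f]
    [LocallyOfFiniteType f] [CompactSpace X] : BddFib.UnivBounded f := by
  exact GrothLib.BddFibre.univBounded_of_locallyQuasiFinite f

end Groth.Agent.S7441
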