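import Groth.Statements.S7442
import Groth.Agent.Lib.BddFibre.Comp
-- import your own Groth.Agent.* helpers here

set_option autoImplicit false
universe u
open CategoryTheory AlgebraicGeometry
open BddFib

namespace Groth.Agent.S7442

set_option backward.isDefEq.respectTransparency.types false in
/-- Let `f : X → Y` and `h : Y → Z` with `g = h ∘ f`. If `f` is flat and surjective and `n` bounds the
degrees of the fibres of `g`, then `n` bounds the degrees of the fibres of `h`. -/
theorem result {X Y Z : Scheme.{u}} (f : X ⟶ Y) (h : Y ⟶ Z) [Flat f] [Surjective f]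
    (n : ℕ) (hg : BddFib.FibreDegLE (f ≫ h) n) : BddFib.FibreDegLE h n := by
  rw [GrothLib.BddFibre.fibreDegLE_iff] at hg ⊢
  intro k _ a
  let r := Limits.pullback.snd f (Limits.pullback.fst h a)
  have : Flat r := MorphismProperty.pullback_snd _ _ ‹Flat f›
  have : Surjective r := MorphismProperty.pullback_snd _ _ ‹Surjective f›
  refine GrothLib.BddFibre.finiteOfDegLE_of_flat_surjective (Field.toIsField k) r _ ?_
  refine (GrothLib.BddFibre.finiteOfDegLE_of_iso (r ≫ Limits.pullback.snd h a)
    (Limits.pullbackRightPullbackFstIso h a f).symm ?_).mp (hg k a)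
  simp only [r, Iso.symm_hom, Iso.inv_comp_eq, Limits.pullbackRightPullbackFstIso_hom_snd]

end Groth.Agent.S7442
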