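import Groth.Statements.S7444
import Groth.Agent.Lib.UHTower.Lift

set_option autoImplicit false
universe u
open CategoryTheory AlgebraicGeometry
open Mor

namespace Groth.Agent.S7444

/-- Let `φ : A → B` be a ring map such that `Spec B → Spec A` is a universal homeomorphism and all
residue field extensions are trivial (every residue field map is surjective). Then `B`, as an
`A`-algebra, is the colimit of a filtered diagram of finitely presented `A`-algebras `B_i`, each of
which has the same two properties over `A`. (The colimit is taken in the category of rings under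
`A`, over a small filtered index category.) -/
theorem result {A B : Type u} [CommRing A] [CommRing B]
    (φ : A →+* B) (hφ : FlatMor.IsUnivHomeo (Spec.map (CommRingCat.ofHom φ)))
    (hres : ∀ x : Spec (CommRingCat.of B), Function.Surjective ((Spec.map (CommRingCat.ofHom φ)).residueFieldMap x)) :
    ∃ (J : Type u) (_ : SmallCategory J) (_ : IsFiltered J) (F : J ⥤ Under (CommRingCat.of A))
      (c : Limits.Cocone F) (_ : Limits.IsColimit c),
      (∀ j, (F.obj j).hom.hom.FinitePresentation ∧ FlatMor.IsUnivHomeo (Spec.map (F.obj j).hom) ∧
        ∀ x : Spec (F.obj j).right, Function.Surjective ((Spec.map (F.obj j).hom).residueFieldMap x)) ∧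
      Nonempty (c.pt ≅ Under.mk (CommRingCat.ofHom φ)) := by
  algebraize_only [φ]
  have h := GrothLib.UHTower.isUnivHomeo_iff_uh.1 hφ
  have hT := GrothLib.UHTower.surjective_residueFieldMap_iff.1 hres
  refine GrothLib.UHTower.exists_colimit GrothLib.UHTower.liftable_gsq (GrothLib.UHTower.hasTowers_gsq h hT) h.2.1
    (fun D f => FlatMor.IsUnivHomeo (Spec.map f) ∧
      ∀ x : Spec D, Function.Surjective ((Spec.map f).residueFieldMap x)) ?_
  intro D _ _ hs hG
  exact ⟨GrothLib.UHTower.isUnivHomeo_iff_uh.2
    ⟨GrothLib.UHTower.isIntegral_of_hasTowers hG.gp, hs, GrothLib.UHTower.radic_of_hasTowers hG.gp⟩,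
    GrothLib.UHTower.surjective_residueFieldMap_iff.2 (GrothLib.UHTower.trivRes_of_hasTowers hG)⟩

end Groth.Agent.S7444
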