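import Groth.Statements.S7446
import Groth.Agent.Lib.BddFibre.Count
-- import your own Groth.Agent.* helpers here

set_option autoImplicit false
universe u
open CategoryTheory AlgebraicGeometry
open BddFib

namespace Groth.Agent.S7446

/-- When every fibre of `f : X → Y` has degree at most `n`, then for every field `k` and every `Spec k →
Y`, writing `X_k = {x_1, …, x_t}`, one has `Σ_i [κ(x_i) : k] ≤ n`. (Residue degrees are taken along
`X_k → Spec k`; `X_k` is finite, so the sum is a finite sum.) -/
theorem result {X Y : Scheme.{u}} (f : X ⟶ Y) (n : ℕ) (hf : BddFib.FibreDegLE f n)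
    (k : Type u) [Field k] (g : Spec (CommRingCat.of k) ⟶ Y) :
    Finite ↥(Limits.pullback f g) ∧
      ∑ᶠ x : ↥(Limits.pullback f g), (Limits.pullback.snd f g).residueDegree x ≤ n := by
  have h := (GrothLib.BddFibre.fibreDegLE_iff f n).mp hf k g
  exact ⟨(GrothLib.BddFibre.finite_discrete_of_finiteOfDegLE _ (Field.toIsField k) h).1,
    GrothLib.BddFibre.sum_residueDegree_le _ (Field.toIsField k) h⟩

end Groth.Agent.S7446
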