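import Groth.Statements.S7447
import Groth.Agent.Lib.RelOpenApprox8.Finish
import Groth.Agent.Lib.AbsApprox.System
import Groth.Agent.Lib.AbsApprox.Rel
import Groth.Agent.Lib.LimDesc.Eventual

-- import your own Groth.Agent.* helpers here

set_option autoImplicit false
set_option backward.isDefEq.respectTransparency false
set_option linter.style.haveILetI false
universe u
open CategoryTheory AlgebraicGeometry
open Opposite
open Lim

namespace Groth.Agent.S7447


open GrothLib.RelOpenApprox8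

/-- The tail of a directed preorder. -/
abbrev tail {K : Type u} [Preorder K] (i : K) : Type u := {k : K // i ≤ k}

instance {K : Type u} [Preorder K] [IsDirected K (fun a b => a ≤ b)] (i : K) :
    IsDirected (tail i) (fun a b => a ≤ b) :=
  ⟨fun a b => by
    obtain ⟨c, h₁, h₂⟩ := exists_ge_ge a.1 b.1
    exact ⟨⟨c, a.2.trans h₁⟩, h₁, h₂⟩⟩

instance {K : Type u} [Preorder K] (i : K) : Nonempty (tail i) := ⟨⟨i, le_rfl⟩⟩

/-- Its inclusion. -/
def tailF {K : Type u} [Preorder K] (i : K) : tail i ⥤ K :=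
  (show Monotone (fun k : tail i => k.1) from fun _ _ h => h).functor

theorem final_tailF {K : Type u} [Preorder K] [IsDirected K (fun a b => a ≤ b)] (i : K) : (tailF i).Final :=
  Functor.final_of_exists_of_isFiltered _ (fun k => by
    obtain ⟨c, h₁, h₂⟩ := exists_ge_ge i k
    exact ⟨⟨c, h₁⟩, ⟨homOfLE h₂⟩⟩) (fun {_ c} _ _ => ⟨c, 𝟙 _, Subsingleton.elim _ _⟩)

theorem isLocallyNoetherian_specULiftZ : IsLocallyNoetherian (Spec <| .of <| ULift.{u} ℤ) := by
  haveI : IsNoetherianRing (CommRingCat.of (ULift.{u} ℤ)) := GrothLib.AbsApprox.Cov.isNoetherianRing_ulift_int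
  infer_instance

theorem isLocallyNoetherian_of_lft (X : Scheme.{u})
    [LocallyOfFiniteType (Limits.IsTerminal.from specULiftZIsTerminal X)] : IsLocallyNoetherian X := by
  haveI := isLocallyNoetherian_specULiftZ.{u}
  exact LocallyOfFiniteType.isLocallyNoetherian (Limits.IsTerminal.from specULiftZIsTerminal X)

/-- Noetherian approximation relative to a quasi-compact open: let `S` be quasi-compact and
quasi-separated, `V ⊆ S` a quasi-compact open, and `V = lim V_i` the limit of an inverse system,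
over a nonempty directed set `I`, of schemes of finite type over `ℤ` with affine transition
morphisms. Then there are a nonempty directed set `J`, an inverse system `(S_j)` of schemes of
finite type over `ℤ` with affine transition morphisms and `S = lim S_j`, an order preserving map `α
: J → I`, opens `V'_j ⊆ S_j` and isomorphisms `V'_j ≅ V_{α(j)}` such that: the transition maps
satisfy `g_{jj'}⁻¹(V'_{j'}) = V'_j`; `V` is the inverse image of each `V'_j` under `S → S_j` (which
identifies `V` with `lim V'_j`); the composite `V → V'_j → V_{α(j)}` is the projection; and the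
squares `V'_j → V_{α(j)} → V_{α(j')}`, `V'_j → V'_{j'} → V_{α(j')}` commute. -/
theorem result (S : Scheme.{u}) [CompactSpace S] [QuasiSeparatedSpace S]
    (V : S.Opens) (hV : IsCompact (V : Set S)) (I : Type u) [Preorder I] [IsDirected I (fun a b => a ≤ b)] [Nonempty I]
    (DV : Iᵒᵖ ⥤ Scheme.{u}) (haff : ∀ (i i' : Iᵒᵖ) (a : i ⟶ i'), IsAffineHom (DV.map a))
    (hft : ∀ i, CompactSpace (DV.obj i) ∧ LocallyOfFiniteType (Limits.IsTerminal.from specULiftZIsTerminal (DV.obj i)))
    (cV : Limits.Cone DV) (hcV : Limits.IsLimit cV) (eV : cV.pt ≅ (V : Scheme.{u})) :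
    ∃ (J : Type u) (_ : Preorder J) (_ : IsDirected J (fun a b => a ≤ b)) (_ : Nonempty J)
      (DS : Jᵒᵖ ⥤ Scheme.{u}) (cS : Limits.Cone DS) (_ : Limits.IsLimit cS) (eS : cS.pt ≅ S)
      (α : J →o I) (V' : ∀ j : J, (DS.obj (op j)).Opens)
      (φ : ∀ j : J, (V' j : Scheme.{u}) ≅ DV.obj (op (α j))),
      (∀ (j j' : Jᵒᵖ) (a : j ⟶ j'), IsAffineHom (DS.map a)) ∧
      (∀ j, CompactSpace (DS.obj j) ∧ LocallyOfFiniteType (Limits.IsTerminal.from specULiftZIsTerminal (DS.obj j))) ∧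
      (∀ (j j' : J) (h : j' ≤ j), (DS.map (homOfLE h).op) ⁻¹ᵁ (V' j') = V' j) ∧
      (∀ j : J, (eS.inv ≫ cS.π.app (op j)) ⁻¹ᵁ (V' j) = V) ∧
      (∀ j : J, ∃ ρ : (V : Scheme.{u}) ⟶ (V' j : Scheme.{u}),
        ρ ≫ (V' j).ι = V.ι ≫ eS.inv ≫ cS.π.app (op j) ∧ ρ ≫ (φ j).hom = eV.inv ≫ cV.π.app (op (α j))) ∧
      (∀ (j j' : J) (h : j' ≤ j), ∃ τ : (V' j : Scheme.{u}) ⟶ (V' j' : Scheme.{u}),
        τ ≫ (V' j').ι = (V' j).ι ≫ DS.map (homOfLE h).op ∧
        (φ j).hom ≫ DV.map (homOfLE (α.mono h)).op = τ ≫ (φ j').hom) := by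
  haveI hmapV : ∀ {i i' : Iᵒᵖ} (a : i ⟶ i'), IsAffineHom (DV.map a) := fun a => haff _ _ a
  obtain ⟨𝒲⟩ := GrothLib.AbsApprox.nonempty_cov (S := S)
  let D0 := GrothLib.AbsApprox.Cov.system 𝒲
  let c0 : Limits.Cone D0 := GrothLib.AbsApprox.Cov.cone 𝒲
  have hc0 : Limits.IsLimit c0 := GrothLib.AbsApprox.Cov.isLimitCone 𝒲
  haveI hD0 : ∀ {i j : 𝒲.Idxᵒᵖ} (f : i ⟶ j), IsAffineHom (D0.map f) := fun f =>
    GrothLib.AbsApprox.Cov.isAffineHom_system f
  obtain ⟨j0, V0, hV0, hpre⟩ := exists_preimage_eq D0 c0 hc0 V hV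
  let X : Scheme.{u} := D0.obj j0
  let p : S ⟶ X := c0.π.app j0
  haveI : IsAffineHom p := isAffineHom_π_app D0 c0 hc0 j0
  haveI : CompactSpace X := GrothLib.AbsApprox.Cov.compactSpace_model j0.unop.2
  haveI hXlft : LocallyOfFiniteType (Limits.IsTerminal.from specULiftZIsTerminal X) :=
    GrothLib.AbsApprox.Cov.locallyOfFiniteType_model j0.unop.2
  haveI : IsLocallyNoetherian X := isLocallyNoetherian_of_lft X
  haveI : QuasiSeparatedSpace X := inferInstance
  have hV' : V = p ⁻¹ᵁ V0 := hpre.symm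
  subst hV'
  haveI : CompactSpace V0.toScheme := isCompact_iff_compactSpace.mp hV0
  haveI : CompactSpace (p ⁻¹ᵁ V0 : S.Opens).toScheme := isCompact_iff_compactSpace.mp hV
  haveI : QuasiCompact V0.ι := inferInstance
  haveI : QuasiCompact (wmap p V0) := inferInstance
  haveI := fun i => (hft i).1
  haveI hDlft := fun i => (hft i).2
  haveI : ∀ i, IsLocallyNoetherian (DV.obj i) := fun i => isLocallyNoetherian_of_lft _
  haveI hqs : ∀ i, QuasiSeparatedSpace (DV.obj i) := fun i => inferInstance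
  haveI := isLocallyNoetherian_specULiftZ.{u}
  haveI hV0lft : LocallyOfFiniteType (Limits.IsTerminal.from specULiftZIsTerminal V0.toScheme) := by
    rw [specULiftZIsTerminal.hom_ext (Limits.IsTerminal.from specULiftZIsTerminal V0.toScheme)
      (V0.ι ≫ Limits.IsTerminal.from specULiftZIsTerminal X)]
    infer_instance
  haveI : LocallyOfFinitePresentation (Limits.IsTerminal.from specULiftZIsTerminal V0.toScheme) :=
    LocallyOfFinitePresentation.iff_locallyOfFiniteType.2 hV0lft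
  let cW : Limits.Cone DV := cV.extend eV.inv
  have hcW : Limits.IsLimit cW := Limits.IsLimit.extendIso eV.inv hcV
  obtain ⟨i₀, h0, hh0, -⟩ := Scheme.exists_π_app_comp_eq_of_locallyOfFinitePresentation DV
    ⟨fun i => Limits.IsTerminal.from specULiftZIsTerminal (DV.obj i),
      fun _ _ _ => specULiftZIsTerminal.hom_ext _ _⟩
    (Limits.IsTerminal.from specULiftZIsTerminal V0.toScheme) cW hcW (p ∣_ V0)
    (NatTrans.ext (funext fun i => specULiftZIsTerminal.hom_ext _ _))
  obtain ⟨i₀⟩ := i₀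
  -- the tail over `i₀`
  let t0 : (tailF i₀).op ⋙ DV ⟶ (Functor.const (tail i₀)ᵒᵖ).obj V0.toScheme :=
    ⟨fun k => DV.map (homOfLE k.unop.2).op ≫ h0, fun k l f => by
      show DV.map _ ≫ DV.map _ ≫ h0 = (DV.map _ ≫ h0) ≫ 𝟙 _
      rw [Category.comp_id, ← Category.assoc, ← DV.map_comp]
      rfl⟩
  haveI := final_tailF i₀
  have hc1 : Limits.IsLimit (cW.whisker (tailF i₀).op) :=
    (Functor.Initial.isLimitWhiskerEquiv (tailF i₀).op cW).symm hcW
  haveI : ∀ (i j : (tail i₀)ᵒᵖ) (f : i ⟶ j), IsAffineHom (((tailF i₀).op ⋙ DV).map f) := fun i j f => haff _ _ _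
  haveI : ∀ i, CompactSpace ↥(((tailF i₀).op ⋙ DV).obj i) := fun i => (hft _).1
  haveI : ∀ i, QuasiSeparatedSpace ↥(((tailF i₀).op ⋙ DV).obj i) := fun i => hqs _
  have hπt : ∀ k : (tail i₀)ᵒᵖ, (cW.whisker (tailF i₀).op).π.app k ≫ t0.app k = p ∣_ V0 := by
    intro k
    show cW.π.app _ ≫ DV.map _ ≫ h0 = _
    rw [← Category.assoc, cW.w]
    exact hh0
  haveI : IsAffineHom ((cW.whisker (tailF i₀).op).π.app (op ⟨i₀, le_rfl⟩) ≫ t0.app (op ⟨i₀, le_rfl⟩)) := by
    rw [hπt]; exact IsZariskiLocalAtTarget.restrict (P := @IsAffineHom) ‹IsAffineHom p› V0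
  obtain ⟨k, -, hk⟩ := GrothLib.LimDesc.eventually_isAffineHom ((tailF i₀).op ⋙ DV) (cW.whisker (tailF i₀).op) hc1 t0
    (op ⟨i₀, le_rfl⟩)
  obtain ⟨⟨i₁, hi₁⟩⟩ := k
  haveI := final_tailF i₁
  let ht : (tailF i₁).op ⋙ DV ⟶ (Functor.const (tail i₁)ᵒᵖ).obj V0.toScheme :=
    ⟨fun k => DV.map (homOfLE (hi₁.trans k.unop.2)).op ≫ h0, fun k l f => by
      show DV.map _ ≫ DV.map _ ≫ h0 = (DV.map _ ≫ h0) ≫ 𝟙 _
      rw [Category.comp_id, ← Category.assoc, ← DV.map_comp]
      rfl⟩
  let qn : (Functor.const (tail i₁)ᵒᵖ).obj (Wop p V0) ⟶ (tailF i₁).op ⋙ DV := (cW.whisker (tailF i₁).op).π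
  let d : Dat p V0 (tail i₁) :=
    { D := (tailF i₁).op ⋙ DV
      q := qn
      hq := (Functor.Initial.isLimitWhiskerEquiv (tailF i₁).op cW).symm hcW
      h := ht
      hmap := fun f => haff _ _ _
      hcpt := fun i => (hft _).1
      hqs := fun i => hqs _
      haff := fun i => by
        haveI : IsAffineHom (DV.map (homOfLE i.unop.2).op) := haff _ _ _
        haveI : IsAffineHom (DV.map (homOfLE hi₁).op ≫ h0) := hk
        have e : ht.app i = DV.map (homOfLE i.unop.2).op ≫ DV.map (homOfLE hi₁).op ≫ h0 := by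
          rw [← Category.assoc, ← DV.map_comp]; rfl
        rw [e]
        infer_instance
      hlft := fun i => by
        haveI : LocallyOfFiniteType (ht.app i ≫ Limits.IsTerminal.from specULiftZIsTerminal V0.toScheme) := by
          rw [specULiftZIsTerminal.hom_ext (ht.app i ≫ Limits.IsTerminal.from specULiftZIsTerminal V0.toScheme)
            (Limits.IsTerminal.from specULiftZIsTerminal _)]
          exact (hft _).2
        exact locallyOfFiniteType_of_comp (ht.app i) (Limits.IsTerminal.from specULiftZIsTerminal V0.toScheme)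
      hh := fun i => by
        show cW.π.app _ ≫ (DV.map _ ≫ h0) ≫ V0.ι = (p ⁻¹ᵁ V0).ι ≫ p
        rw [Category.assoc, ← Category.assoc, cW.w, ← Category.assoc, hh0, morphismRestrict_ι] }
  haveI : LocallyOfFiniteType (Limits.IsTerminal.from specULiftZIsTerminal X) := hXlft
  obtain ⟨J, iJ, dJ, nJ, DS, cS, hcS, eS, α, V', φ, h1, h2, h3, h4, h5, h6⟩ := exists_system d
  exact ⟨J, iJ, dJ, nJ, DS, cS, hcS, eS, ⟨fun j => (α j).1, fun _ _ h => α.mono h⟩, V', φ, h1, h2, h3, h4, h5, h6⟩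

end Groth.Agent.S7447
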