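import Groth.Statements.S7451
import Mathlib.RingTheory.Nullstellensatz
import Mathlib.FieldTheory.Finite.Basic
import Mathlib.RingTheory.Jacobson.Ring
import Mathlib.AlgebraicGeometry.Noetherian
import Mathlib.Topology.NoetherianSpace
import Mathlib.Algebra.MvPolynomial.Funext
import Mathlib.RingTheory.Spectrum.Prime.Noetherian
import Mathlib.RingTheory.Polynomial.Basic

set_option autoImplicit false
universe u
open CategoryTheory AlgebraicGeometry
open Desc

namespace Groth.Agent.S7451

/-- Let `k` be a field and `n ≥ 2`. For `i ≠ j` and `d ≥ 0` let `T_{i,j,d}` be the automorphism of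
`𝔸^n_k` given by `x_i ↦ x_i + x_j^d` and fixing the other coordinates. Let `W ⊆ 𝔸^n_k` be a nonempty
open subscheme with `T_{i,j,d}⁻¹(W) = W` for all `i, j, d`. Then either `W = 𝔸^n_k`, or `k` has
prime characteristic `p` and the complement `𝔸^n_k ∖ W` consists of finitely many closed points,
each of whose coordinates `a` in the residue field satisfies `a^(p^m) = a` for some `m ≥ 1`
(equivalently, is algebraic over `𝔽_p`). -/
theorem result (k : Type u) [Field k] (n : ℕ) (hn : 2 ≤ n)
    (W : (Spec (CommRingCat.of (MvPolynomial (Fin n) k))).Opens)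
    (hW : (W : Set ↥(Spec (CommRingCat.of (MvPolynomial (Fin n) k)))).Nonempty)
    (hinv : ∀ (i j : Fin n), i ≠ j → ∀ d : ℕ,
      (Spec.map (CommRingCat.ofHom (MvPolynomial.aeval (R := k)
        (Function.update MvPolynomial.X i (MvPolynomial.X i + MvPolynomial.X j ^ d) :
          Fin n → MvPolynomial (Fin n) k)).toRingHom)) ⁻¹ᵁ W = W) :
    W = ⊤ ∨ ∃ p : ℕ, p.Prime ∧ CharP k p ∧ ((W : Set ↥(Spec (CommRingCat.of (MvPolynomial (Fin n) k))))ᶜ).Finite ∧
      ∀ x : ↥(Spec (CommRingCat.of (MvPolynomial (Fin n) k))),
        x ∉ (W : Set ↥(Spec (CommRingCat.of (MvPolynomial (Fin n) k)))) →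
        IsClosed ({x} : Set ↥(Spec (CommRingCat.of (MvPolynomial (Fin n) k)))) ∧ ∀ i : Fin n, ∃ m : ℕ, 0 < m ∧
          (algebraMap (MvPolynomial (Fin n) k) x.asIdeal.ResidueField (MvPolynomial.X i)) ^ (p ^ m) =
            algebraMap (MvPolynomial (Fin n) k) x.asIdeal.ResidueField (MvPolynomial.X i) := by
  classical
  let A := MvPolynomial (Fin n) k
  let inV : ∀ (K : Type u) [Field K] [Algebra k K], (Fin n → K) → Prop := fun K _ _ a =>
    (⟨RingHom.ker (MvPolynomial.aeval (R := k) a), RingHom.ker_isPrime _⟩ : PrimeSpectrum A) ∉
      (W : Set ↥(Spec (CommRingCat.of (MvPolynomial (Fin n) k))))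
  -- invariance, pointwise
  have hstep : ∀ (K : Type u) [Field K] [Algebra k K] (a : Fin n → K) (i j : Fin n), i ≠ j → ∀ d : ℕ,
      inV K a → inV K (Function.update a i (a i + a j ^ d)) := by
    intro K _ _ a i j hij d ha hb
    apply ha
    rw [← hinv i j hij d]
    show (PrimeSpectrum.comap _ _) ∈ (W : Set ↥(Spec (CommRingCat.of (MvPolynomial (Fin n) k))))
    convert hb using 1
    refine PrimeSpectrum.ext ?_
    rw [PrimeSpectrum.comap_asIdeal]
    have hc : (MvPolynomial.aeval (R := k) a).comp (MvPolynomial.aeval (R := k)
        (Function.update MvPolynomial.X i (MvPolynomial.X i + MvPolynomial.X j ^ d) :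
          Fin n → MvPolynomial (Fin n) k)) = MvPolynomial.aeval (R := k) (Function.update a i (a i + a j ^ d)) := by
      refine MvPolynomial.algHom_ext fun l => ?_
      rcases eq_or_ne l i with rfl | hl <;> simp [Function.update_of_ne, *]
    rw [← hc]
    rfl
  -- the complement is cut out by polynomials
  obtain ⟨I, hI⟩ : ∃ I : Ideal A, ((W : Set ↥(Spec (CommRingCat.of (MvPolynomial (Fin n) k))))ᶜ : Set (PrimeSpectrum A)) =
      PrimeSpectrum.zeroLocus (I : Set A) :=
    (PrimeSpectrum.isClosed_iff_zeroLocus_ideal _).1 W.2.isClosed_compl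
  have hV : ∀ (K : Type u) [Field K] [Algebra k K] (a : Fin n → K),
      inV K a ↔ ∀ f ∈ I, MvPolynomial.aeval (R := k) a f = 0 := fun K _ _ a => by
    have h := Set.ext_iff.1 hI ⟨RingHom.ker (MvPolynomial.aeval (R := k) a), RingHom.ker_isPrime _⟩
    rw [Set.mem_compl_iff, PrimeSpectrum.mem_zeroLocus] at h
    exact h.trans ⟨fun h f hf => h hf, fun h f hf => h f hf⟩
  -- an infinite family on a line parallel to an axis fills it
  have hfill : ∀ (K : Type u) [Field K] [Algebra k K] (a : Fin n → K) (i : Fin n) (s : Set K),
      s.Infinite → (∀ c ∈ s, inV K (Function.update a i c)) → ∀ c, inV K (Function.update a i c) := by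
    intro K _ _ a i s hs hsV c
    rw [hV]
    intro f hf
    let g : Polynomial K := MvPolynomial.aeval (R := k) (Function.update (fun l => Polynomial.C (a l)) i Polynomial.X) f
    have hg : ∀ c, g.eval c = MvPolynomial.aeval (R := k) (Function.update a i c) f := fun c => by
      show ((Polynomial.aeval c).restrictScalars k) (MvPolynomial.aeval (R := k) _ f) = _
      rw [← AlgHom.comp_apply, MvPolynomial.comp_aeval]
      congr 2
      funext l
      rcases eq_or_ne l i with rfl | hl <;> simp [Function.update_of_ne, *]
    have : g = 0 := Polynomial.eq_zero_of_infinite_isRoot g (hs.mono fun c hc => by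
      show g.eval c = 0
      rw [hg]; exact (hV K _).1 (hsV c hc) f hf)
    rw [← hg, this, Polynomial.eval_zero]
  -- everything being in the complement is absurd
  have hall : ∀ (K : Type u) [Field K] [Algebra k K] [Infinite K], (∀ a : Fin n → K, inV K a) → False := by
    intro K _ _ _ h
    obtain ⟨q, hq⟩ := hW
    have hbot : I = ⊥ := by
      refine eq_bot_iff.2 fun f hf => ?_
      have h0 : MvPolynomial.map (algebraMap k K) f = 0 := MvPolynomial.funext fun a => by
        rw [map_zero, MvPolynomial.eval_map, ← MvPolynomial.aeval_def]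
        exact (hV K a).1 (h a) f hf
      exact MvPolynomial.map_injective _ (algebraMap k K).injective (h0.trans (map_zero _).symm)
    let q' : PrimeSpectrum A := q
    have : q' ∈ PrimeSpectrum.zeroLocus (I : Set A) := by
      rw [PrimeSpectrum.mem_zeroLocus, hbot]; exact fun z hz => by simp_all
    exact (hI ▸ this : q ∈ (W : Set ↥(Spec (CommRingCat.of (MvPolynomial (Fin n) k))))ᶜ) hq
  -- a coordinate with infinitely many powers, or infinitely many translates, is absurd
  have hne : ∀ i : Fin n, ∃ j, i ≠ j := fun i => by
    haveI : Nontrivial (Fin n) := Fin.nontrivial_iff_two_le.2 hn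
    obtain ⟨j, hj⟩ := exists_ne i
    exact ⟨j, hj.symm⟩
  have hspread : ∀ (K : Type u) [Field K] [Algebra k K] (a : Fin n → K) (j : Fin n),
      (Set.range fun d : ℕ => a j ^ d).Infinite → inV K a → False := by
    intro K _ _ a j hinf ha
    haveI : Infinite K := Set.infinite_univ_iff.1 (hinf.mono (Set.subset_univ _))
    have hline : ∀ (b : Fin n → K) (i l : Fin n), i ≠ l → (Set.range fun d : ℕ => b l ^ d).Infinite →
        inV K b → ∀ c, inV K (Function.update b i c) := by
      intro b i l hil hb hbV
      refine hfill K b i ((fun x => b i + x) '' Set.range fun d : ℕ => b l ^ d)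
        (hb.image ((add_right_injective (b i)).injOn)) ?_
      rintro _ ⟨_, ⟨d, rfl⟩, rfl⟩
      exact hstep K b i l hil d hbV
    have hoff : ∀ (s : Finset (Fin n)), j ∉ s → ∀ v : Fin n → K, inV K (fun l => if l ∈ s then v l else a l) := by
      intro s
      induction s using Finset.induction with
      | empty => intro _ v; simpa using ha
      | insert i s his ih =>
        intro hj v
        rw [Finset.mem_insert, not_or] at hj
        have := hline (fun l => if l ∈ s then v l else a l) i j (Ne.symm hj.1)
          (by simpa [hj.2] using hinf) (ih hj.2 v) (v i)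
        convert this using 1
        funext l
        rcases eq_or_ne l i with rfl | hl <;> simp [Function.update_of_ne, *]
    obtain ⟨i, hi⟩ := hne j
    have hpow : ∀ x : K, (Set.range fun d : ℕ => x ^ d).Infinite → Function.Injective fun d : ℕ => x ^ d := by
      intro x hx d e hde
      by_contra hne'
      wlog hlt : d < e generalizing d e
      · exact this hde.symm (Ne.symm hne') (lt_of_le_of_ne (not_lt.1 hlt) (Ne.symm hne'))
      refine hx (((Finset.range e).finite_toSet.image fun d : ℕ => x ^ d).subset ?_)
      rintro _ ⟨m, rfl⟩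
      induction m using Nat.strong_induction_on with
      | _ m ih =>
        rcases lt_or_ge m e with hm | hm
        · exact ⟨m, Finset.mem_range.2 hm, rfl⟩
        · obtain ⟨l, hl, hle⟩ := ih (m - e + d) (by omega)
          refine ⟨l, hl, hle.trans ?_⟩
          show x ^ (m - e + d) = x ^ m
          rw [pow_add, show x ^ d = x ^ e from hde, ← pow_add, Nat.sub_add_cancel hm]
    -- points whose `i`-th coordinate is `a j`
    have hS1 : ∀ v : Fin n → K, inV K (Function.update v i (a j)) := by
      intro v
      have h1 := hoff (Finset.univ.erase j) (Finset.notMem_erase j _) (Function.update v i (a j))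
      have h2 := hline _ j i hi (by simpa [Ne.symm hi] using hinf) h1 (v j)
      convert h2 using 1
      funext l
      rcases eq_or_ne l j with rfl | hl
      · simp [Function.update_of_ne hi]
      · simp [Function.update_of_ne hl, hl]
    refine hall K fun v => ?_
    have := hfill K v j (Set.range fun d : ℕ => a j ^ (d + 1))
      (Set.infinite_range_of_injective fun d e h => by
        have := hpow _ hinf h
        omega) ?_ (v j)
    · rwa [Function.update_eq_self] at this
    · rintro _ ⟨d, rfl⟩
      have hd : (Set.range fun e : ℕ => (a j ^ (d + 1)) ^ e).Infinite :=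
        Set.infinite_range_of_injective fun e e' h => by
          simp only [← pow_mul] at h
          exact Nat.eq_of_mul_eq_mul_left (Nat.succ_pos d) (hpow _ hinf h)
      have := hline _ i j (Ne.symm hi) (by simpa [Function.update_of_ne hi] using hd)
        (hS1 (Function.update v j (a j ^ (d + 1)))) (v i)
      convert this using 1
      funext l
      rcases eq_or_ne l i with rfl | hl
      · simp [Function.update_of_ne (Ne.symm hi)]
      · simp [Function.update_of_ne hl]
  by_cases hZ : ((W : Set ↥(Spec (CommRingCat.of (MvPolynomial (Fin n) k))))ᶜ : Set _) = ∅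
  · exact Or.inl (TopologicalSpace.Opens.ext (Set.compl_empty_iff.1 hZ))
  obtain ⟨p, hp⟩ := CharP.exists k
  rcases CharP.char_is_prime_or_zero k p with hpp | rfl
  · haveI := Fact.mk hpp
    have hcoord : ∀ x : PrimeSpectrum A, x ∉ (W : Set ↥(Spec (CommRingCat.of (MvPolynomial (Fin n) k)))) →
        x.asIdeal.IsMaximal ∧ ∀ i : Fin n, ∃ m : ℕ, 0 < m ∧
          (algebraMap A x.asIdeal.ResidueField (MvPolynomial.X i)) ^ (p ^ m) =
            algebraMap A x.asIdeal.ResidueField (MvPolynomial.X i) := by
      intro x hx
      let K := x.asIdeal.ResidueField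
      haveI : CharP K p := charP_of_injective_algebraMap (algebraMap k K).injective p
      haveI : ExpChar K p := ExpChar.prime hpp
      let a : Fin n → K := fun i => algebraMap A K (MvPolynomial.X i)
      have hker : (MvPolynomial.aeval (R := k) a) = IsScalarTower.toAlgHom k A K :=
        MvPolynomial.algHom_ext fun i => by simp [a]; rfl
      have ha : inV K a := by
        show (⟨_, _⟩ : PrimeSpectrum A) ∉ _
        convert hx using 2
        refine PrimeSpectrum.ext ?_
        ext f
        show MvPolynomial.aeval (R := k) a f = 0 ↔ _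
        rw [hker]
        exact Ideal.algebraMap_residueField_eq_zero
      have hm : ∀ i : Fin n, ∃ m : ℕ, 0 < m ∧ a i ^ (p ^ m) = a i := by
        intro i
        rcases eq_or_ne (a i) 0 with h0 | h0
        · exact ⟨1, one_pos, by rw [h0, zero_pow (pow_ne_zero _ hpp.ne_zero)]⟩
        have hfin : ¬ Function.Injective fun d : ℕ => a i ^ d := fun h =>
          hspread K a i (Set.infinite_range_of_injective h) ha
        simp only [Function.Injective, not_forall] at hfin
        obtain ⟨d, e, hde, hne'⟩ := hfin
        obtain ⟨N, hN, hN1⟩ : ∃ N, 0 < N ∧ a i ^ N = 1 := by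
          rcases lt_or_gt_of_ne hne' with h | h
          · exact ⟨e - d, by omega, by
              rw [pow_sub₀ _ h0 h.le, ← hde, mul_inv_cancel₀ (pow_ne_zero _ h0)]⟩
          · exact ⟨d - e, by omega, by
              rw [pow_sub₀ _ h0 h.le, hde, mul_inv_cancel₀ (pow_ne_zero _ h0)]⟩
        obtain ⟨v, N', hN', rfl⟩ := Nat.exists_eq_pow_mul_and_not_dvd hN.ne' p hpp.ne_one
        have h1 : a i ^ N' = 1 := iterateFrobenius_inj K p v (by
          rw [iterateFrobenius_def, iterateFrobenius_def, ← pow_mul, mul_comm, hN1, one_pow])
        refine ⟨N'.totient, Nat.totient_pos.2 (Nat.pos_of_ne_zero fun h => hN' (h ▸ dvd_zero p)), ?_⟩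
        have hmod := Nat.ModEq.pow_totient ((hpp.coprime_iff_not_dvd).2 hN')
        rw [pow_eq_pow_mod _ h1, show p ^ N'.totient % N' = 1 % N' from hmod, ← pow_eq_pow_mod _ h1, pow_one]
      refine ⟨?_, hm⟩
      haveI : Algebra.IsIntegral k (A ⧸ x.asIdeal) := ⟨fun z => by
        obtain ⟨f, rfl⟩ := Ideal.Quotient.mk_surjective z
        induction f using MvPolynomial.induction_on with
        | C r => exact isIntegral_algebraMap
        | add f g hf hg => rw [map_add]; exact hf.add hg
        | mul_X f i hf =>
          rw [map_mul]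
          refine hf.mul ?_
          obtain ⟨m, hm0, hm⟩ := hm i
          refine ⟨Polynomial.X ^ (p ^ m) - Polynomial.X, Polynomial.monic_X_pow_sub ?_, ?_⟩
          · rw [Polynomial.degree_X]; exact_mod_cast Nat.one_lt_pow hm0.ne' hpp.one_lt
          · rw [← Polynomial.aeval_def, map_sub, map_pow, Polynomial.aeval_X, ← map_pow, ← map_sub,
              Ideal.Quotient.eq_zero_iff_mem, ← Ideal.algebraMap_residueField_eq_zero, map_sub, map_pow]
            exact sub_eq_zero.2 hm⟩
      exact Ideal.Quotient.maximal_of_isField _
        (isField_of_isIntegral_of_isField' (R := k) (Field.toIsField k))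
    haveI : TopologicalSpace.NoetherianSpace (PrimeSpectrum A) :=
      inferInstanceAs (TopologicalSpace.NoetherianSpace (PrimeSpectrum (MvPolynomial (Fin n) k)))
    refine Or.inr ⟨p, hpp, hp, ?_, fun x hx =>
      ⟨(PrimeSpectrum.isClosed_singleton_iff_isMaximal _).2 (hcoord x hx).1, (hcoord x hx).2⟩⟩
    show ((W : Set ↥(Spec (CommRingCat.of (MvPolynomial (Fin n) k))))ᶜ : Set (PrimeSpectrum A)).Finite
    obtain ⟨F, hF, hFc, hFi, hcov⟩ :=
      TopologicalSpace.NoetherianSpace.exists_finite_set_isClosed_irreducible
        (PrimeSpectrum.isClosed_zeroLocus (I : Set A))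
    rw [← hI] at hcov
    rw [hcov]
    refine hF.sUnion fun C hC => ?_
    obtain ⟨η, hη⟩ := QuasiSober.sober (hFi C hC) (hFc C hC)
    have hηW : η ∉ (W : Set ↥(Spec (CommRingCat.of (MvPolynomial (Fin n) k)))) :=
      (hcov.symm ▸ Set.subset_sUnion_of_mem hC : C ⊆ _) hη.mem
    rw [← hη.def, ((PrimeSpectrum.isClosed_singleton_iff_isMaximal η).2 (hcoord η hηW).1).closure_eq]
    exact Set.finite_singleton η
  · haveI := CharP.charP_to_charZero k
    exfalso
    obtain ⟨x, hx⟩ := Set.nonempty_iff_ne_empty.2 hZ
    let x' : PrimeSpectrum A := x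
    let K := x'.asIdeal.ResidueField
    haveI : CharZero K := (RingHom.charZero_iff (algebraMap k K).injective).1 inferInstance
    haveI : Infinite K := Infinite.of_injective (Nat.cast : ℕ → K) Nat.cast_injective
    have hx' : x' ∉ (W : Set ↥(Spec (CommRingCat.of (MvPolynomial (Fin n) k)))) := hx
    let a : Fin n → K := fun i => algebraMap A K (MvPolynomial.X i)
    have hker : (MvPolynomial.aeval (R := k) a) = IsScalarTower.toAlgHom k A K :=
      MvPolynomial.algHom_ext fun i => by simp [a]; rfl
    have ha : inV K a := by
      show (⟨_, _⟩ : PrimeSpectrum A) ∉ _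
      convert hx' using 2
      refine PrimeSpectrum.ext ?_
      ext f
      show MvPolynomial.aeval (R := k) a f = 0 ↔ _
      rw [hker]
      exact Ideal.algebraMap_residueField_eq_zero
    have hline : ∀ (b : Fin n → K) (i : Fin n), inV K b → ∀ c, inV K (Function.update b i c) := by
      intro b i hb
      obtain ⟨j, hij⟩ := hne i
      refine hfill K b i (Set.range fun m : ℕ => b i + m)
        (Set.infinite_range_of_injective fun m m' h => Nat.cast_injective (add_left_cancel h)) ?_
      rintro _ ⟨m, rfl⟩
      induction m with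
      | zero => simpa using hb
      | succ m ih =>
        have := hstep K _ i j hij 0 ih
        simpa [add_assoc] using this
    refine hall K fun v => ?_
    have : ∀ s : Finset (Fin n), inV K (fun l => if l ∈ s then v l else a l) := by
      intro s
      induction s using Finset.induction with
      | empty => simpa using ha
      | insert i s his ih =>
        convert hline _ i ih (v i) using 1
        funext l
        rcases eq_or_ne l i with rfl | hl <;> simp [Function.update_of_ne, *]
    simpa using this Finset.univ

end Groth.Agent.S7451
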