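import Groth.Statements.S7454
import Groth.Agent.Lib.GrpSchField.GrpdCartier
-- import your own Groth.Agent.* helpers here

set_option autoImplicit false
universe u
open CategoryTheory CategoryTheory.Limits AlgebraicGeometry
open Grpd

namespace Groth.Agent.S7454

/-- Let (U, R, s, t, c) be a groupoid scheme over S with U the spectrum of a field of characteristic
zero and s, t locally of finite type. Then s and t are smooth. (A groupoid scheme carries U, R, s,
t, c, e, i over S with the groupoid axioms on T-points; c is defined on the fibre product of s and t
and sends a pair (a, b) with s(a) = t(b) to a composed with b.) -/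
theorem result (S : Scheme.{u}) (G : Grpd.GroupoidScheme S) (k : Type u) [Field k] [CharZero k] (eU : G.U ≅ Spec (CommRingCat.of k)) [LocallyOfFiniteType G.s] [LocallyOfFiniteType G.t] : Smooth G.s ∧ Smooth G.t := by
  haveI := GrothLib.GrpSchField.smooth_s_of_charZero G eU
  haveI : IsIso G.i := ⟨G.i, GrothLib.GrpSchField.i_i G, GrothLib.GrpSchField.i_i G⟩
  refine ⟨inferInstance, ?_⟩
  rw [← G.i_s]
  infer_instance

end Groth.Agent.S7454
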