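import Groth.Statements.S7455
import Groth.Agent.Lib.GrpSchField.GrpdTranslate
-- import your own Groth.Agent.* helpers here

set_option autoImplicit false
universe u
open CategoryTheory CategoryTheory.Limits AlgebraicGeometry
open Grpd

namespace Groth.Agent.S7455

/-- Let (U, R, s, t, c) be a groupoid scheme over S with U the spectrum of a perfect field, s and t
locally of finite type, and R reduced. Then s and t are smooth. (A groupoid scheme carries U, R, s,
t, c, e, i over S with the groupoid axioms on T-points; c is defined on the fibre product of s and t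
and sends a pair (a, b) with s(a) = t(b) to a composed with b.) -/
theorem result (S : Scheme.{u}) (G : Grpd.GroupoidScheme S) (k : Type u) [Field k] [PerfectField k] (eU : G.U ≅ Spec (CommRingCat.of k)) [LocallyOfFiniteType G.s] [LocallyOfFiniteType G.t] [IsReduced G.R] : Smooth G.s ∧ Smooth G.t := by
  let f := G.s ≫ eU.hom
  haveI : LocallyOfFiniteType f := inferInstance
  haveI : LocallyOfFinitePresentation f := inferInstance
  have hne : (f.smoothLocus : Set G.R).Nonempty := by
    haveI : Nonempty G.R := ⟨G.e (eU.inv (IsLocalRing.closedPoint k))⟩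
    exact (Scheme.Hom.dense_smoothLocus_of_perfectField f).nonempty
  haveI : Smooth (f.smoothLocus.ι ≫ 𝟙 G.R ≫ G.s ≫ eU.hom) := by
    rw [Category.id_comp]
    show Smooth (f.smoothLocus.ι ≫ f)
    rw [← Scheme.Hom.smoothLocus_eq_top_iff, ← Scheme.Hom.preimage_smoothLocus_eq f.smoothLocus.ι f,
      Scheme.Opens.ι_preimage_self]
  have h := GrothLib.GrpSchField.smooth_of_open_smooth_grpd G eU (𝟙 G.R)
    (fun g h _ _ => GrothLib.GrpSchField.pullback_id_translates g h) f.smoothLocus hne
  rw [Category.id_comp] at h
  haveI := h
  have hs : Smooth G.s := by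
    rw [show G.s = (G.s ≫ eU.hom) ≫ eU.inv by simp]; infer_instance
  haveI : IsIso G.i := ⟨G.i, GrothLib.GrpSchField.i_i G, GrothLib.GrpSchField.i_i G⟩
  refine ⟨hs, ?_⟩
  rw [← G.i_s]
  infer_instance

end Groth.Agent.S7455
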