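import Groth.Statements.S7457
import Groth.Agent.Lib.GrpdQuot.Points
-- import your own Groth.Agent.* helpers here

set_option autoImplicit false
universe u
open CategoryTheory CategoryTheory.Limits AlgebraicGeometry
open Grpd

namespace Groth.Agent.S7457

/-- Let (U, R, s, t, c) be a groupoid scheme over S. Let φ : R x_(t,U,t) R -> R x_(s,U,t) R be the
morphism sending a pair (a, b) with the same target to (a, a^{-1} composed with b), that is, the
morphism whose first component is the first projection and whose second component is c applied to (i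
composed after the first projection, second projection). Then φ is an isomorphism and composed with
c it gives the second projection. Moreover the square with sides c, the second projection R
x_(s,U,t) R -> R, s and s is cartesian. (A groupoid scheme carries U, R, s, t, c, e, i over S with
the groupoid axioms on T-points; c is defined on the fibre product of s and t and sends a pair (a,
b) with s(a) = t(b) to a composed with b.) -/
theorem result (S : Scheme.{u}) (G : Grpd.GroupoidScheme S) : (∀ φ : pullback G.t G.t ⟶ pullback G.s G.t, φ ≫ pullback.fst G.s G.t = pullback.fst G.t G.t → φ ≫ pullback.snd G.s G.t = pullback.lift (pullback.fst G.t G.t ≫ G.i) (pullback.snd G.t G.t) ((Category.assoc _ _ _).trans ((congrArg (fun x => pullback.fst G.t G.t ≫ x) G.i_s).trans pullback.condition)) ≫ G.c → IsIso φ ∧ φ ≫ G.c = pullback.snd G.t G.t) ∧ IsPullback G.c (pullback.snd G.s G.t) G.s G.s := by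
  have hi : (pullback.fst G.t G.t ≫ G.i) ≫ G.s = pullback.snd G.t G.t ≫ G.t := by
    rw [Category.assoc, G.i_s, pullback.condition]
  refine ⟨fun φ h₁ h₂ => ?_, ?_⟩
  · let ψ : pullback G.s G.t ⟶ pullback G.t G.t :=
      pullback.lift (pullback.fst G.s G.t) G.c (by
        have := G.comp_t (pullback.fst G.s G.t) (pullback.snd G.s G.t) pullback.condition
        rw [show pullback.lift (pullback.fst G.s G.t) (pullback.snd G.s G.t) pullback.condition = 𝟙 _ from
          pullback.hom_ext (by simp) (by simp), Category.id_comp] at this
        exact this.symm)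
    have hφ : φ = pullback.lift (pullback.fst G.t G.t)
        (GrothLib.GrpSchField.cmp G (pullback.fst G.t G.t ≫ G.i) (pullback.snd G.t G.t) hi)
        ((by rw [Category.assoc, G.i_t] : pullback.fst G.t G.t ≫ G.s = (pullback.fst G.t G.t ≫ G.i) ≫ G.t).trans
          (GrothLib.GrpdQuot.cmp_t G _ _ hi).symm) :=
      pullback.hom_ext (by rw [h₁, pullback.lift_fst]) (by rw [h₂, pullback.lift_snd])
    have hc : φ ≫ G.c = pullback.snd G.t G.t := by
      rw [hφ]
      exact GrothLib.GrpdQuot.cmp_inv_left G _ _ _ _
    refine ⟨⟨⟨ψ, ?_, ?_⟩⟩, hc⟩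
    · apply pullback.hom_ext
      · rw [Category.assoc, pullback.lift_fst, h₁, Category.id_comp]
      · rw [Category.assoc, pullback.lift_snd, hc, Category.id_comp]
    · apply pullback.hom_ext
      · rw [Category.assoc, h₁, pullback.lift_fst, Category.id_comp]
      · rw [Category.assoc, h₂, Category.id_comp]
        change ψ ≫ GrothLib.GrpSchField.cmp G (pullback.fst G.t G.t ≫ G.i) (pullback.snd G.t G.t) hi = _
        rw [GrothLib.GrpSchField.comp_cmp]
        have e₁ : ψ ≫ pullback.fst G.t G.t ≫ G.i = pullback.fst G.s G.t ≫ G.i := by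
          rw [← Category.assoc, pullback.lift_fst]
        have e₂ : ψ ≫ pullback.snd G.t G.t =
            GrothLib.GrpSchField.cmp G (pullback.fst G.s G.t) (pullback.snd G.s G.t) pullback.condition := by
          rw [pullback.lift_snd]
          exact (Category.id_comp G.c).symm.trans (congrArg (· ≫ G.c) (pullback.hom_ext (by simp) (by simp)))
        rw [GrothLib.GrpSchField.cmp_congr G _ e₁ e₂]
        exact GrothLib.GrpdQuot.cmp_inv_left' G _ _ _ _
  · have hc : G.c = GrothLib.GrpSchField.cmp G (pullback.fst G.s G.t) (pullback.snd G.s G.t) pullback.condition :=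
      (Category.id_comp G.c).symm.trans (congrArg (· ≫ G.c) (pullback.hom_ext (by simp) (by simp)))
    refine ⟨⟨by rw [hc]; exact GrothLib.GrpdQuot.cmp_s G _ _ _⟩, ⟨PullbackCone.IsLimit.mk _ (fun d =>
      pullback.lift (GrothLib.GrpSchField.cmp G d.fst (d.snd ≫ G.i)
          (by rw [Category.assoc, G.i_t]; exact d.condition)) d.snd
        (by rw [GrothLib.GrpdQuot.cmp_s, Category.assoc, G.i_s])) (fun d => ?_) (fun d => ?_) (fun d m hm₁ hm₂ => ?_)⟩⟩
    · exact GrothLib.GrpSchField.cmp_inv_right G d.snd d.fst d.condition.symm _
    · rw [pullback.lift_snd]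
    · apply pullback.hom_ext
      · rw [pullback.lift_fst]
        have e : GrothLib.GrpSchField.cmp G (m ≫ pullback.fst G.s G.t) (m ≫ pullback.snd G.s G.t)
            (by rw [Category.assoc, pullback.condition, Category.assoc]) = d.fst := by
          rw [← hm₁, hc, GrothLib.GrpSchField.comp_cmp]
        refine (GrothLib.GrpSchField.cmp_inv_right' G (m ≫ pullback.snd G.s G.t) (m ≫ pullback.fst G.s G.t)
          (by rw [Category.assoc, pullback.condition, Category.assoc])
          (by rw [GrothLib.GrpdQuot.cmp_s, Category.assoc, Category.assoc, Category.assoc, G.i_t])).symm.trans ?_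
        exact GrothLib.GrpSchField.cmp_congr G _ e (by rw [hm₂])
      · rw [hm₂, pullback.lift_snd]

end Groth.Agent.S7457
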