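import Groth.Statements.S7458
import Groth.Agent.Lib.GrpSchField.Shear

set_option autoImplicit false
universe u
open CategoryTheory MonoidalCategory CartesianMonoidalCategory MonObj GrpObj AlgebraicGeometry
open GrpSch

namespace Groth.Agent.S7458

/-- For a group scheme G over a scheme S, a scheme T flat over S and a morphism ψ : T -> G over S, the
map T x_S G -> G sending (t, g) to the product ψ(t)·g is a flat morphism; taking T = G and ψ the
identity, the multiplication G x_S G -> G is flat whenever G is flat over S. -/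
theorem result (S : Scheme.{u}) (G : Over S) [GrpObj G] : (∀ (T : Over S) (ψ : T ⟶ G), Flat T.hom → Flat (ψ ▷ G ≫ μ[G]).left) ∧ (Flat G.hom → Flat μ[G].left) := by
  refine ⟨fun T ψ h => ?_, fun h => GrothLib.GrpSchField.mul_property @Flat h⟩
  have : IsIso (lift (fst T G) (ψ ▷ G ≫ μ[G])) := by
    refine ⟨lift (fst T G) ((fst T G ≫ ψ)⁻¹ * snd T G), ?_, ?_⟩ <;>
    · apply GrothLib.GrpSchField.hom_ext_points₂
      intro A a b
      simp only [comp_lift, comp_lift_assoc, MonObj.comp_mul, GrpObj.comp_inv, lift_fst, lift_snd,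
        lift_fst_assoc, lift_snd_assoc, Category.comp_id, lift_whiskerRight_assoc, ← Hom.mul_def,
        inv_mul_cancel_left, mul_inv_cancel_left]
  have := GrothLib.GrpSchField.isIso_left (lift (fst T G) (ψ ▷ G ≫ μ[G]))
  have e : (ψ ▷ G ≫ μ[G]).left = (lift (fst T G) (ψ ▷ G ≫ μ[G])).left ≫ (snd T G).left := by
    rw [← Over.comp_left, lift_snd]
  rw [e, MorphismProperty.cancel_left_of_respectsIso @Flat]
  exact MorphismProperty.pullback_snd _ _ h

end Groth.Agent.S7458
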