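import Groth.Statements.S7459
import Groth.Agent.Lib.GrpSchField.Open

set_option autoImplicit false
universe u
open CategoryTheory MonoidalCategory CartesianMonoidalCategory MonObj GrpObj AlgebraicGeometry
open GrpSch

namespace Groth.Agent.S7459

/-- Let G be a group scheme over a field k, W an open subscheme of G and f : T -> G a morphism of
schemes (T becomes a k-scheme through f). Then the image of the composition T x_k W -> G x_k G -> G,
the second map being the multiplication, is open. -/
theorem result (K : Type u) [Field K] (G : Over (Spec (CommRingCat.of K))) [GrpObj G] (W : G.left.Opens) (T : Scheme.{u}) (f : T ⟶ G.left) : IsOpen (Set.range ⇑(((Over.homMk f rfl : Over.mk (f ≫ G.hom) ⟶ G) ⊗ₘ (Over.homMk W.ι rfl : Over.mk (W.ι ≫ G.hom) ⟶ G)) ≫ μ[G]).left) := by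
  let A : Over (Spec (CommRingCat.of K)) := Over.mk (f ≫ G.hom)
  let g : A ⟶ G := Over.homMk f rfl
  let B : Over (Spec (CommRingCat.of K)) := Over.mk (W.ι ≫ G.hom)
  let h : B ⟶ G := Over.homMk W.ι rfl
  show IsOpen (Set.range ((g ⊗ₘ h) ≫ μ[G]).left)
  have e : (g ⊗ₘ h) ≫ μ[G] = (A ◁ h) ≫ ((fst A G ≫ g) * snd A G) := by
    rw [tensorHom_def', Category.assoc, Hom.mul_def]
    congr 2
  have := GrothLib.GrpSchField.universallyOpen_translate G g
  have hr : IsOpen (Set.range (A ◁ h).left) := by
    rw [Over.whiskerLeft_left, Scheme.Pullback.range_map]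
    refine IsOpen.inter (IsOpen.preimage (Scheme.Hom.continuous _) ?_) (IsOpen.preimage (Scheme.Hom.continuous _) ?_)
    · simp
    · exact W.ι.isOpenEmbedding.isOpen_range
  rw [e, Over.comp_left, Scheme.Hom.comp_base, TopCat.coe_comp, Set.range_comp]
  exact ((fst A G ≫ g) * snd A G).left.isOpenMap _ hr

end Groth.Agent.S7459
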