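import Groth.Statements.S7460
import Mathlib.AlgebraicGeometry.PullbackCarrier
import Mathlib.Topology.Homeomorph.Lemmas
import Mathlib.AlgebraicGeometry.AffineScheme
import Mathlib.LinearAlgebra.TensorProduct.Finiteness
-- import your own Groth.Agent.* helpers here

set_option autoImplicit false
universe u
open CategoryTheory CategoryTheory.Limits AlgebraicGeometry
open GrpSch

namespace Groth.Agent.S7460

/-- Let k be a field and A a k-algebra such that every finite subset of A is contained in a k-subalgebra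
isomorphic to a finite product of copies of k (that is, A is a directed colimit of finite products
of copies of k). Let X be a scheme over k. Then the map from the underlying space of Spec A x_k X to
the product of the underlying spaces of Spec A and X, given by the two projections, is a
homeomorphism. -/
theorem result (k : Type u) [Field k] (A : Type u) [CommRing A] [Algebra k A] (hA : ∀ s : Finset A, ∃ (B : Subalgebra k A) (n : ℕ), (↑s : Set A) ⊆ (B : Set A) ∧ Nonempty (B ≃ₐ[k] (Fin n → k))) (X : Scheme.{u}) (f : X ⟶ Spec (CommRingCat.of k)) : IsHomeomorph (fun p : ↑(pullback (Spec.map (CommRingCat.ofHom (algebraMap k A))) f) => (pullback.fst (Spec.map (CommRingCat.ofHom (algebraMap k A))) f p, pullback.snd (Spec.map (CommRingCat.ofHom (algebraMap k A))) f p)) := by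
  classical
  set h : Spec (CommRingCat.of A) ⟶ Spec (CommRingCat.of k) := Spec.map (CommRingCat.ofHom (algebraMap k A)) with hh
  set p₁ := pullback.fst h f
  set p₂ := pullback.snd h f
  refine isHomeomorph_iff_isEmbedding_surjective.mpr ⟨?_, fun ⟨a, x⟩ => ?_⟩
  swap
  · obtain ⟨z, hz1, hz2⟩ := Scheme.Pullback.exists_preimage_pullback (f := h) (g := f) a x
      (Subsingleton.elim (α := PrimeSpectrum k) _ _)
    exact ⟨z, Prod.ext hz1 hz2⟩
  -- every open is a union of boxes
  have key : ∀ (W : (pullback h f).Opens) (q : ↥(pullback h f)), q ∈ W →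
      ∃ (U : (Spec (CommRingCat.of A)).Opens) (V : X.Opens), p₁ q ∈ U ∧ p₂ q ∈ V ∧
        ∀ q' : ↥(pullback h f), p₁ q' ∈ U → p₂ q' ∈ V → q' ∈ W := by
    intro W q hqW
    obtain ⟨_, ⟨V₀, hV₀, rfl⟩, hqV, -⟩ := X.isBasis_affineOpens.exists_subset_of_mem_open
      (a := p₂ q) (Set.mem_univ _) isOpen_univ
    set R := Γ(X, V₀)
    set φ := Spec.preimage (hV₀.fromSpec ≫ f)
    letI : Algebra k R := φ.hom.toAlgebra
    have hφ : Spec.map (CommRingCat.ofHom (algebraMap k R)) = hV₀.fromSpec ≫ f := Spec.map_preimage _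
    let j₀ : pullback h (hV₀.fromSpec ≫ f) ⟶ pullback h f :=
      pullback.map h (hV₀.fromSpec ≫ f) h f (𝟙 _) hV₀.fromSpec (𝟙 _) (by simp) (by simp)
    let c : Spec (CommRingCat.of (TensorProduct k A R)) ⟶ pullback h (hV₀.fromSpec ≫ f) :=
      (pullbackSpecIso k A R).inv ≫ (pullback.congrHom rfl hφ).hom
    let j := c ≫ j₀
    have hj01 : j₀ ≫ p₁ = pullback.fst h (hV₀.fromSpec ≫ f) := (pullback.lift_fst _ _ _).trans (Category.comp_id _)
    have hj02 : j₀ ≫ p₂ = pullback.snd h (hV₀.fromSpec ≫ f) ≫ hV₀.fromSpec := pullback.lift_snd _ _ _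
    have hc1 : (pullback.congrHom rfl hφ).hom ≫ pullback.fst h (hV₀.fromSpec ≫ f) =
        pullback.fst h (Spec.map (CommRingCat.ofHom (algebraMap k R))) := by
      rw [pullback.congrHom_hom]; exact (pullback.lift_fst _ _ _).trans (Category.comp_id _)
    have hc2 : (pullback.congrHom rfl hφ).hom ≫ pullback.snd h (hV₀.fromSpec ≫ f) =
        pullback.snd h (Spec.map (CommRingCat.ofHom (algebraMap k R))) := by
      rw [pullback.congrHom_hom]; exact (pullback.lift_snd _ _ _).trans (Category.comp_id _)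
    have hj1 : j ≫ p₁ = Spec.map (CommRingCat.ofHom (Algebra.TensorProduct.includeLeftRingHom : A →+* TensorProduct k A R)) := by
      simp only [j, c, Category.assoc, hj01]
      exact (congrArg ((pullbackSpecIso k A R).inv ≫ ·) hc1).trans (pullbackSpecIso_inv_fst k A R)
    have hj2 : j ≫ p₂ = Spec.map (CommRingCat.ofHom (RingHomClass.toRingHom (Algebra.TensorProduct.includeRight : R →ₐ[k] TensorProduct k A R))) ≫ hV₀.fromSpec := by
      simp only [j, c, Category.assoc, hj02]
      rw [← Category.assoc (pullback.congrHom rfl hφ).hom, ← Category.assoc (pullbackSpecIso k A R).inv]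
      exact congrArg (· ≫ hV₀.fromSpec) ((congrArg ((pullbackSpecIso k A R).inv ≫ ·) hc2).trans (pullbackSpecIso_inv_snd k A R))
    have hrange : ∀ q' : ↥(pullback h f), p₂ q' ∈ V₀ → ∃ P, j P = q' := by
      intro q' hq'
      obtain ⟨y, hy⟩ : ∃ y, hV₀.fromSpec y = p₂ q' := by
        have : p₂ q' ∈ (V₀ : Set X) := hq'
        rwa [← hV₀.range_fromSpec] at this
      have sq : IsPullback (pullback.snd h (hV₀.fromSpec ≫ f)) j₀ hV₀.fromSpec p₂ := by
        refine IsPullback.of_bot ?_ hj02.symm (IsPullback.of_hasPullback h f).flip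
        rw [hj01]
        exact (IsPullback.of_hasPullback h (hV₀.fromSpec ≫ f)).flip
      obtain ⟨w, -, hw⟩ := Scheme.exists_preimage_of_isPullback sq y q' hy
      have : Surjective c := inferInstance
      obtain ⟨P, rfl⟩ := c.surjective w
      exact ⟨P, by rw [← hw]; rfl⟩
    obtain ⟨P, hP⟩ := hrange q hqV
    obtain ⟨_, ⟨z, rfl⟩, hPz, hzW⟩ := PrimeSpectrum.isTopologicalBasis_basic_opens.exists_subset_of_mem_open
      (a := P) (u := j ⁻¹' (W : Set ↥(pullback h f))) (by rw [Set.mem_preimage, hP]; exact hqW) (W.2.preimage j.continuous)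
    obtain ⟨s, hs⟩ := TensorProduct.exists_finset z
    obtain ⟨B, n, hsB, ⟨e⟩⟩ := hA (s.image Prod.fst)
    let ε : Fin n → A := fun i => (e.symm (Pi.single i 1) : B)
    have hε : ∀ b : B, (b : A) = ∑ i, e b i • ε i := by
      intro b
      have h1 : e.symm (∑ i, e b i • Pi.single i (1 : k)) = b := by
        refine e.injective ?_
        rw [e.apply_symm_apply]
        funext l
        simp [Finset.sum_apply, Pi.single_apply]
      conv_lhs => rw [← h1]
      simp [ε, map_sum]
    have hεmul : ∀ (b : B) (i : Fin n), ε i * (b : A) = e b i • ε i := by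
      intro b i
      have h1 : e.symm (Pi.single i 1) * b = e b i • e.symm (Pi.single i 1) := by
        refine e.injective ?_
        rw [map_mul, map_smul, e.apply_symm_apply]
        funext l
        by_cases hl : l = i <;> simp [hl]
      exact congrArg Subtype.val h1
    have hbmem : ∀ p ∈ s, p.1 ∈ B := fun p hp => hsB (Finset.mem_coe.mpr (Finset.mem_image_of_mem _ hp))
    let cf : A × R → Fin n → k := fun p i => if hp : p ∈ s then e ⟨p.1, hbmem p hp⟩ i else 0
    let t : Fin n → R := fun i => ∑ p ∈ s, cf p i • p.2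
    have hzsum : z = ∑ i, ε i ⊗ₜ[k] t i := by
      rw [hs]
      simp only [t, TensorProduct.tmul_sum, TensorProduct.tmul_smul, TensorProduct.smul_tmul']
      rw [Finset.sum_comm]
      refine Finset.sum_congr rfl fun p hp => ?_
      rw [← TensorProduct.sum_tmul]
      congr 1
      simp only [cf, dif_pos hp]
      exact hε ⟨p.1, hbmem p hp⟩
    have hmul : ∀ i, (ε i ⊗ₜ[k] (1 : R)) * z = ε i ⊗ₜ[k] t i := by
      intro i
      rw [hs, Finset.mul_sum]
      simp only [t, TensorProduct.tmul_sum]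
      refine Finset.sum_congr rfl fun p hp => ?_
      rw [Algebra.TensorProduct.tmul_mul_tmul, one_mul, TensorProduct.tmul_smul, TensorProduct.smul_tmul']
      congr 1
      simp only [cf, dif_pos hp]
      exact hεmul ⟨p.1, hbmem p hp⟩ i
    have hPz' : z ∉ (P : PrimeSpectrum (TensorProduct k A R)).asIdeal := hPz
    obtain ⟨i, hi⟩ : ∃ i, ε i ⊗ₜ[k] t i ∉ (P : PrimeSpectrum (TensorProduct k A R)).asIdeal := by
      by_contra! hall
      exact hPz' (hzsum ▸ Ideal.sum_mem _ fun i _ => hall i)
    have hpt : ∀ P' : ↥(Spec (CommRingCat.of (TensorProduct k A R))),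
        (p₁ (j P') ∈ PrimeSpectrum.basicOpen (ε i) ↔ (ε i ⊗ₜ[k] (1 : R)) ∉ (P' : PrimeSpectrum (TensorProduct k A R)).asIdeal) ∧
        (p₂ (j P') ∈ X.basicOpen (t i) ↔ ((1 : A) ⊗ₜ[k] t i) ∉ (P' : PrimeSpectrum (TensorProduct k A R)).asIdeal) := by
      intro P'
      refine ⟨?_, ?_⟩
      · rw [← Scheme.Hom.comp_apply, hj1]
        exact Iff.rfl
      · rw [← Scheme.Hom.comp_apply, hj2, Scheme.Hom.comp_apply, ← hV₀.fromSpec_image_basicOpen]
        refine (hV₀.fromSpec.isOpenEmbedding.injective.mem_set_image).trans ?_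
        exact Iff.rfl
    have hsplit : ε i ⊗ₜ[k] t i = (ε i ⊗ₜ[k] (1 : R)) * ((1 : A) ⊗ₜ[k] t i) := by
      rw [Algebra.TensorProduct.tmul_mul_tmul, mul_one, one_mul]
    refine ⟨PrimeSpectrum.basicOpen (ε i), X.basicOpen (t i), ?_, ?_, fun q' h1 h2 => ?_⟩
    · rw [← hP]; exact (hpt P).1.mpr fun h => hi (hsplit ▸ Ideal.mul_mem_right _ _ h)
    · rw [← hP]; exact (hpt P).2.mpr fun h => hi (hsplit ▸ Ideal.mul_mem_left _ _ h)
    · obtain ⟨P', rfl⟩ := hrange q' (X.basicOpen_le _ h2)
      refine hzW (show z ∉ (P' : PrimeSpectrum (TensorProduct k A R)).asIdeal from fun hz => ?_)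
      have h3 : ε i ⊗ₜ[k] t i ∈ (P' : PrimeSpectrum (TensorProduct k A R)).asIdeal :=
        hmul i ▸ Ideal.mul_mem_left _ _ hz
      rw [hsplit] at h3
      exact ((P' : PrimeSpectrum (TensorProduct k A R)).isPrime.mem_or_mem h3).elim ((hpt P').1.mp h1) ((hpt P').2.mp h2)
  have hcont : Continuous fun q : ↥(pullback h f) => (p₁ q, p₂ q) := p₁.continuous.prodMk p₂.continuous
  have hind : Topology.IsInducing fun q : ↥(pullback h f) => (p₁ q, p₂ q) := by
    refine ⟨le_antisymm (continuous_iff_le_induced.mp hcont) fun W hW => ?_⟩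
    refine isOpen_induced_iff.mpr ⟨⋃ (U : (Spec (CommRingCat.of A)).Opens) (V : X.Opens)
      (_ : ∀ q' : ↥(pullback h f), p₁ q' ∈ U → p₂ q' ∈ V → q' ∈ W), (U : Set _) ×ˢ (V : Set _),
      isOpen_iUnion fun U => isOpen_iUnion fun V => isOpen_iUnion fun _ => U.2.prod V.2, ?_⟩
    refine Set.Subset.antisymm (fun q hq => ?_) (fun q hq => ?_)
    · simp only [Set.mem_preimage, Set.mem_iUnion] at hq
      obtain ⟨U, V, hUV, hqU, hqV⟩ := hq
      exact hUV q hqU hqV
    · obtain ⟨U, V, hU, hV, hUV⟩ := key ⟨W, hW⟩ q hq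
      simp only [Set.mem_preimage, Set.mem_iUnion]
      exact ⟨U, V, hUV, hU, hV⟩
  exact hind.isEmbedding

end Groth.Agent.S7460
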