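import Groth.Statements.S7504
import Groth.Agent.Lib.GrpSchField.GrpdField
import Mathlib.AlgebraicGeometry.Morphisms.UniversallyOpen
import Mathlib.AlgebraicGeometry.Morphisms.Etale
-- import your own Groth.Agent.* helpers here

set_option autoImplicit false
universe u
open CategoryTheory CategoryTheory.Limits AlgebraicGeometry
open Grpd

namespace Groth.Agent.S7504

open CategoryTheory.Limits GrothLib.GrpSchField in
/-- Composition turns the fibre product of `(s, t)` into that of `(s, s)`. -/
theorem isPullback_comp {S : Scheme.{u}} (G : Grpd.GroupoidScheme S) :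
    IsPullback G.c (pullback.snd G.s G.t) G.s G.s := by
  have w : G.c ≫ G.s = pullback.snd G.s G.t ≫ G.s := by
    have := G.comp_s (pullback.fst G.s G.t) (pullback.snd _ _) pullback.condition
    rwa [pullback.lift_fst_snd, Category.id_comp] at this
  have h' : ∀ c : PullbackCone G.s G.s, c.fst ≫ G.s = (c.snd ≫ G.i) ≫ G.t := fun c => by
    rw [Category.assoc, G.i_t]; exact c.condition
  have uniq : ∀ (c : PullbackCone G.s G.s) (m : c.pt ⟶ pullback G.s G.t), m ≫ G.c = c.fst →
      m ≫ pullback.snd G.s G.t = c.snd →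
      m = pullback.lift (f := G.s) (g := G.t) (cmp G c.fst (c.snd ≫ G.i) (h' c)) c.snd
        ((G.comp_s _ _ (h' c)).trans (by rw [Category.assoc, G.i_s])) := fun c m hc hsn => by
    refine pullback.hom_ext ?_ ?_
    · rw [pullback.lift_fst]
      have hm' : (m ≫ pullback.fst G.s G.t) ≫ G.s = c.snd ≫ G.t := by
        rw [Category.assoc, pullback.condition, reassoc_of% hsn]
      have h3 : GrothLib.GrpSchField.cmp G (m ≫ pullback.fst G.s G.t) c.snd hm' = c.fst := by
        rw [← hc]
        refine (cmp_congr G _ rfl hsn.symm).trans ((comp_cmp G m _ _ pullback.condition).symm.trans ?_)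
        rw [GrothLib.GrpSchField.cmp, pullback.lift_fst_snd, Category.id_comp]
      have h1 := cmp_inv_right' G c.snd (m ≫ pullback.fst G.s G.t) hm'
        ((G.comp_s _ _ hm').trans (by rw [Category.assoc, G.i_t]))
      exact h1.symm.trans (cmp_congr G _ h3 rfl)
    · rw [pullback.lift_snd, hsn]
  refine IsPullback.of_isLimit' ⟨w⟩ (PullbackCone.isLimitAux _
    (fun c => pullback.lift (f := G.s) (g := G.t) (cmp G c.fst (c.snd ≫ G.i) (h' c)) c.snd
      ((G.comp_s _ _ (h' c)).trans (by rw [Category.assoc, G.i_s])))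
    (fun c => ?_) (fun c => pullback.lift_snd _ _ _)
    fun c m hm => uniq c m (hm WalkingCospan.left) (hm WalkingCospan.right))
  exact cmp_inv_right G c.snd c.fst c.condition.symm (h' c)
  
open CategoryTheory.Limits in
/-- The largest open over which `s` has a property local for a topology is invariant. -/
theorem invariant_of_cover {S : Scheme.{u}} (G : Grpd.GroupoidScheme S)
    (Q : MorphismProperty Scheme.{u}) [Q.IsStableUnderBaseChange] [Q.IsStableUnderComposition]
    (hQo : ∀ {A B : Scheme.{u}} (f : A ⟶ B), IsOpenImmersion f → Q f)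
    (hQu : ∀ {A B : Scheme.{u}} (f : A ⟶ B), Q f → UniversallyOpen f)
    (P : MorphismProperty Scheme.{u}) [P.IsLocalAtTarget (Scheme.precoverage Q)]
    (hs : Presieve.singleton G.s ∈ Scheme.precoverage Q G.U)
    (ht : Presieve.singleton G.t ∈ Scheme.precoverage Q G.U) (W : G.U.Opens)
    (hW : P (G.s ∣_ W)) (hmax : ∀ W' : G.U.Opens, P (G.s ∣_ W') → W' ≤ W) :
    G.s ⁻¹ᵁ W = G.t ⁻¹ᵁ W := by
  obtain ⟨hs1, hs2⟩ := (Scheme.singleton_mem_precoverage_iff _ _).mp hs
  obtain ⟨ht1, ht2⟩ := (Scheme.singleton_mem_precoverage_iff _ _).mp ht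
  suffices H : G.s ⁻¹ᵁ W ≤ G.t ⁻¹ᵁ W by
    refine le_antisymm H fun x hx => ?_
    have h2 : G.i x ∈ G.t ⁻¹ᵁ W := H (show G.s (G.i x) ∈ W by
      rw [← Scheme.Hom.comp_apply, G.i_s]; exact hx)
    show G.s x ∈ W
    rw [← G.i_t, Scheme.Hom.comp_apply]
    exact h2
  let O := G.s ⁻¹ᵁ W
  have := hQu _ ht2
  let W' : G.U.Opens := ⟨G.t '' (O : Set _), G.t.isOpenMap _ O.isOpen⟩
  have hle : O ≤ G.t ⁻¹ᵁ W' := fun x hx => ⟨x, hx, rfl⟩
  let r : (O : Scheme.{u}) ⟶ W' := G.R.homOfLE hle ≫ G.t ∣_ W'
  have hr : r ≫ W'.ι = O.ι ≫ G.t := by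
    simp only [r, Category.assoc, morphismRestrict_ι, Scheme.homOfLE_ι_assoc]
  have sqO := IsPullback.of_hasPullback (pullback.snd G.s G.t) O.ι
  have hP : P (pullback.snd (pullback.snd G.s G.t) O.ι) := by
    have big := sqO.paste_horiz (isPullback_comp G)
    rw [← morphismRestrict_ι G.s W] at big
    have sq := IsPullback.of_right' big (isPullback_morphismRestrict G.s W).flip
    rw [← sq.isoPullback_hom_snd, P.cancel_left_of_respectsIso]
    refine MorphismProperty.IsLocalAtTarget.pullbackSnd (K := Scheme.precoverage Q)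
      (R := Presieve.singleton (G.s ∣_ W))
      ((Scheme.singleton_mem_precoverage_iff _ _).mpr ⟨fun w => ?_, ?_⟩)
      (Presieve.singleton_self _) hW
    · obtain ⟨x, hx⟩ := hs1 w.1
      refine ⟨⟨x, show G.s x ∈ W by rw [hx]; exact w.2⟩, W.ι.isOpenEmbedding.injective ?_⟩
      rw [← Scheme.Hom.comp_apply, morphismRestrict_ι, Scheme.Hom.comp_apply]
      exact hx
    · exact Q.of_isPullback (isPullback_morphismRestrict G.s W).flip hs2
  have big2 := sqO.paste_horiz (IsPullback.of_hasPullback G.s G.t)
  rw [← hr] at big2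
  have sq2 := IsPullback.of_right' big2 (isPullback_morphismRestrict G.s W').flip
  have hW' : P (G.s ∣_ W') := by
    refine MorphismProperty.IsLocalAtTarget.of_forall_pullbackSnd (K := Scheme.precoverage Q)
      (R := Presieve.singleton r)
      ((Scheme.singleton_mem_precoverage_iff _ _).mpr ⟨?_, ?_⟩) fun {V g} _ hg => ?_
    · rintro ⟨_, x, hx, rfl⟩
      refine ⟨⟨x, hx⟩, W'.ι.isOpenEmbedding.injective ?_⟩
      rw [← Scheme.Hom.comp_apply, hr, Scheme.Hom.comp_apply]
      rfl
    · exact Q.comp_mem _ _ (hQo _ inferInstance)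
        (Q.of_isPullback (isPullback_morphismRestrict G.t W').flip ht2)
    · cases hg
      rwa [← sq2.isoPullback_hom_snd, P.cancel_left_of_respectsIso] at hP
  exact fun x hx => hmax W' hW' ⟨x, hx, rfl⟩

/-- Let (U, R, s, t, c) be a groupoid scheme over S, let τ be the Zariski, étale, smooth or fppf
topology (given as the corresponding precoverage K on schemes), and let P be a property of scheme
morphisms that is τ-local on the target. (The published statement also allows the syntomic topology,
which has no precoverage here; this row omits it.) Assume the one-arrow families {s : R -> U} and {t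
: R -> U} are τ-coverings. If W is the largest open subscheme of U such that the restriction
s^{-1}(W) -> W of s has P (W has the property and contains every open with the property), then W is
R-invariant: s^{-1}(W) = t^{-1}(W). (A groupoid scheme carries U, R, s, t, c, e, i over S with the
groupoid axioms on T-points; c is defined on the fibre product of s and t and sends a pair (a, b)
with s(a) = t(b) to a composed with b.) -/
theorem result (S : Scheme.{u}) (G : Grpd.GroupoidScheme S) (K : Precoverage Scheme.{u}) (hK : K = Scheme.zariskiPrecoverage ∨ K = Scheme.etalePrecoverage ∨ K = Scheme.precoverage @Smooth ∨ K = Scheme.fppfPrecoverage) (P : MorphismProperty Scheme.{u}) [P.IsLocalAtTarget K] (hs : Presieve.singleton G.s ∈ K G.U) (ht : Presieve.singleton G.t ∈ K G.U) (W : G.U.Opens) (hW : P (G.s ∣_ W)) (hmax : ∀ W' : G.U.Opens, P (G.s ∣_ W') → W' ≤ W) : G.s ⁻¹ᵁ W = G.t ⁻¹ᵁ W := by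
  rcases hK with rfl | rfl | rfl | rfl
  · exact invariant_of_cover G @IsOpenImmersion (fun _ h => h)
      (fun f h => inferInstanceAs (UniversallyOpen f)) P hs ht W hW hmax
  · have : P.IsLocalAtTarget (Scheme.precoverage @Etale) := ‹P.IsLocalAtTarget Scheme.etalePrecoverage›
    exact invariant_of_cover G @Etale (fun f h => inferInstanceAs (Etale f))
      (fun f h => inferInstanceAs (UniversallyOpen f)) P hs ht W hW hmax
  · exact invariant_of_cover G @Smooth (fun f h => inferInstanceAs (Smooth f))
      (fun f h => inferInstanceAs (UniversallyOpen f)) P hs ht W hW hmax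
  · have : P.IsLocalAtTarget (Scheme.precoverage (@Flat ⊓ @LocallyOfFinitePresentation)) :=
      ‹P.IsLocalAtTarget Scheme.fppfPrecoverage›
    exact invariant_of_cover G (@Flat ⊓ @LocallyOfFinitePresentation)
      (fun f h => ⟨inferInstanceAs (Flat f), inferInstanceAs (LocallyOfFinitePresentation f)⟩)
      (fun f h => have := h.1; have := h.2; inferInstanceAs (UniversallyOpen f)) P hs ht W hW hmax

end Groth.Agent.S7504
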