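import Groth.Statements.S7461
import Groth.Agent.S7504
import Groth.Agent.Lib.GrpdQuot.Restrict
import Mathlib.AlgebraicGeometry.Morphisms.FlatRank
-- import your own Groth.Agent.* helpers here

set_option autoImplicit false
universe u
open CategoryTheory CategoryTheory.Limits AlgebraicGeometry
open Grpd

namespace Groth.Agent.S7461

/-- Let (U, R, s, t, c) be a groupoid scheme over S with s and t finite locally free. Then U is a
disjoint union of R-invariant open subschemes U_r, r = 1, 2, 3, ..., such that s and t restricted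
over U_r are finite locally free of rank r. Here the decomposition is indexed by all natural numbers
with U_0 empty, R-invariance of U_r means s^{-1}(U_r) = t^{-1}(U_r), and 'finite locally free of
rank r' means finite, flat, locally of finite presentation with rank function constant equal to r.
(A groupoid scheme carries U, R, s, t, c, e, i over S with the groupoid axioms on T-points; c is
defined on the fibre product of s and t and sends a pair (a, b) with s(a) = t(b) to a composed with
b.) -/
theorem result (S : Scheme.{u}) (G : Grpd.GroupoidScheme S) [IsFinite G.s] [Flat G.s] [LocallyOfFinitePresentation G.s] [IsFinite G.t] [Flat G.t] [LocallyOfFinitePresentation G.t] : ∃ V : ℕ → G.U.Opens, V 0 = ⊥ ∧ (∀ r r', r ≠ r' → Disjoint (V r) (V r')) ∧ (⨆ r, V r) = ⊤ ∧ ∀ r, G.s ⁻¹ᵁ V r = G.t ⁻¹ᵁ V r ∧ Mor2.IsFinLocFreeOfDeg r (G.s ∣_ V r) ∧ Mor2.IsFinLocFreeOfDeg r (G.t ∣_ V r) := by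
  have hkey : ∀ r : G.R, G.s.finrank (G.s r) = G.s.finrank (G.t r) := fun r => by
    rw [← Scheme.Hom.finrank_of_isPullback _ _ _ _ (Groth.Agent.S7504.isPullback_comp G) r,
      Scheme.Hom.finrank_pullback_snd]
  have hii : G.i ≫ G.i = 𝟙 _ := GrothLib.GrpdQuot.i_i G
  have : IsIso G.i := ⟨⟨G.i, hii, hii⟩⟩
  have ht : ∀ u, G.t.finrank u = G.s.finrank u := fun u => by
    have h1 := Scheme.Hom.finrank_comp_left_of_isIso G.i G.s
    rw [G.i_s] at h1
    exact congrFun h1 u
  have hlc := Scheme.Hom.isLocallyConstant_finrank G.s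
  have hpos : ∀ u, 1 ≤ G.s.finrank u := by
    refine fun u => (Scheme.Hom.one_le_finrank_iff_surjective G.s).mpr ?_ u
    exact ⟨fun u => ⟨G.e u, by rw [← Scheme.Hom.comp_apply, G.e_s]; rfl⟩⟩
  let V : ℕ → G.U.Opens := fun r => ⟨{u | G.s.finrank u = r}, hlc.isOpen_fiber r⟩
  refine ⟨V, ?_, ?_, ?_, fun r => ?_⟩
  · ext u
    simp only [V]
    exact ⟨fun (hu : G.s.finrank u = 0) => absurd (hpos u) (by omega), fun hu => hu.elim⟩
  · intro r r' hr
    rw [disjoint_iff]
    ext u
    exact ⟨fun ⟨(h1 : G.s.finrank u = r), (h2 : G.s.finrank u = r')⟩ => hr (h1.symm.trans h2), fun hu => hu.elim⟩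
  · ext u
    simp only [TopologicalSpace.Opens.coe_iSup, Set.mem_iUnion, TopologicalSpace.Opens.coe_top, Set.mem_univ, iff_true]
    exact ⟨G.s.finrank u, rfl⟩
  · refine ⟨?_, ⟨⟨inferInstance, inferInstance, inferInstance⟩, fun y => ?_⟩, ⟨⟨inferInstance, inferInstance, inferInstance⟩, fun y => ?_⟩⟩
    · ext x
      exact ⟨fun (h : G.s.finrank (G.s x) = r) => (hkey x).symm.trans h, fun (h : G.s.finrank (G.t x) = r) => (hkey x).trans h⟩
    · rw [Scheme.Hom.finrank_of_isPullback _ _ _ _ (isPullback_morphismRestrict G.s (V r)).flip y]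
      exact y.2
    · rw [Scheme.Hom.finrank_of_isPullback _ _ _ _ (isPullback_morphismRestrict G.t (V r)).flip y, ht]
      exact y.2


end Groth.Agent.S7461
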