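import Groth.Statements.S7463
import Groth.Agent.Lib.GrpdQuot.DenseProd
import Groth.Agent.Lib.GrpSchField.GrpdField
-- import your own Groth.Agent.* helpers here

set_option autoImplicit false
universe u
open CategoryTheory CategoryTheory.Limits AlgebraicGeometry
open Grpd

namespace Groth.Agent.S7463

/-- Consider a groupoid scheme (U, R, s, t, c) over S in which U is the spectrum of a field, and write Z
for the closure of the image of the morphism j = (t, s) : R -> U x_S U. Then, set-theoretically,
pr_02 carries Z x_(pr_1,U,pr_0) Z into Z: given the morphism pr_02 from (U x_S U) x_(pr_1,U,pr_0) (U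
x_S U) to U x_S U, whose components are pr_0 of the first factor and pr_1 of the second, any point
both of whose projections land in Z is mapped to a point of Z. (A groupoid scheme consists of U, R,
s, t, c, e, i over S satisfying the groupoid axioms on T-points; c is defined on the fibre product
of s and t and takes a pair (a, b) with s(a) = t(b) to the composite of a with b.) -/
theorem result (S : Scheme.{u}) (G : Grpd.GroupoidScheme S) (k : Type u) [Field k] (eU : G.U ≅ Spec (CommRingCat.of k)) (pr02 : pullback (pullback.snd G.pU G.pU) (pullback.fst G.pU G.pU) ⟶ pullback G.pU G.pU) (h0 : pr02 ≫ pullback.fst G.pU G.pU = pullback.fst (pullback.snd G.pU G.pU) (pullback.fst G.pU G.pU) ≫ pullback.fst G.pU G.pU) (h1 : pr02 ≫ pullback.snd G.pU G.pU = pullback.snd (pullback.snd G.pU G.pU) (pullback.fst G.pU G.pU) ≫ pullback.snd G.pU G.pU) (p : ↑(pullback (pullback.snd G.pU G.pU) (pullback.fst G.pU G.pU))) (h₁ : pullback.fst (pullback.snd G.pU G.pU) (pullback.fst G.pU G.pU) p ∈ closure (Set.range ⇑G.j)) (h₂ : pullback.snd (pullback.snd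 G.pU G.pU) (pullback.fst G.pU G.pU) p ∈ closure (Set.range ⇑G.j)) : pr02 p ∈ closure (Set.range ⇑G.j) := by
  have hU : ∀ {T : Scheme.{u}} (h : T ⟶ G.U), UniversallyOpen h :=
    fun h => GrothLib.GrpdQuot.universallyOpen_of_iso_field eU h
  let f := pullback.snd G.pU G.pU
  let g := pullback.fst G.pU G.pU
  let J := pullback.map (G.j ≫ f) (G.j ≫ g) f g G.j G.j (𝟙 G.U) (by simp) (by simp)
  have hp : p ∈ closure (Set.range J) :=
    GrothLib.GrpdQuot.mem_closure_range_map hU f g G.j G.j p h₁ h₂
  have hjf : G.j ≫ f = G.s := pullback.lift_snd _ _ _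
  have hjg : G.j ≫ g = G.t := pullback.lift_fst _ _ _
  let u := pullback.fst (G.j ≫ f) (G.j ≫ g)
  let v := pullback.snd (G.j ≫ f) (G.j ≫ g)
  have huv : u ≫ G.s = v ≫ G.t := by exact ((congrArg (u ≫ ·) hjf).symm.trans pullback.condition).trans (congrArg (v ≫ ·) hjg)
  have e₁ : J ≫ pullback.fst f g = u ≫ G.j := pullback.lift_fst _ _ _
  have e₂ : J ≫ pullback.snd f g = v ≫ G.j := pullback.lift_snd _ _ _
  have hJ : J ≫ pr02 = GrothLib.GrpSchField.cmp G u v huv ≫ G.j := by
    apply pullback.hom_ext
    · rw [Category.assoc, Category.assoc, h0, ← Category.assoc, e₁, Category.assoc]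
      exact (congrArg (u ≫ ·) hjg).trans ((G.comp_t u v huv).symm.trans (congrArg (GrothLib.GrpSchField.cmp G u v huv ≫ ·) hjg).symm)
    · rw [Category.assoc, Category.assoc, h1, ← Category.assoc, e₂, Category.assoc]
      exact (congrArg (v ≫ ·) hjf).trans ((G.comp_s u v huv).symm.trans (congrArg (GrothLib.GrpSchField.cmp G u v huv ≫ ·) hjf).symm)
  refine map_mem_closure pr02.continuous hp ?_
  rintro _ ⟨q, rfl⟩
  rw [← Scheme.Hom.comp_apply, hJ, Scheme.Hom.comp_apply]
  exact ⟨_, rfl⟩

end Groth.Agent.S7463
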