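import Groth.Statements.S7464
import Groth.Agent.Lib.GrpdQuot.Points
import Mathlib.AlgebraicGeometry.Morphisms.QuasiFinite
-- import your own Groth.Agent.* helpers here

set_option autoImplicit false
universe u
open CategoryTheory CategoryTheory.Limits AlgebraicGeometry
open Grpd

namespace Groth.Agent.S7464

/-- Let (U, R, s, t, c) be a groupoid scheme over S with s and t finite, and let u, u' be distinct
points of U in the same orbit, say u = s(r) and u' = t(r). Then u' does not lie in the closure of u.
(The published statement calls u, u' points of R; this row takes them to be points of U, as the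
orbit condition and the proof require.) (A groupoid scheme carries U, R, s, t, c, e, i over S with
the groupoid axioms on T-points; c is defined on the fibre product of s and t and sends a pair (a,
b) with s(a) = t(b) to a composed with b.) -/
theorem result (S : Scheme.{u}) (G : Grpd.GroupoidScheme S) [IsFinite G.s] [IsFinite G.t] (r : G.R) (hne : G.s r ≠ G.t r) : ¬ (G.s r ⤳ G.t r) := by
  intro hu
  let u := G.s r
  let O : Set G.U := {x | ∃ a : G.R, G.s a = u ∧ G.t a = x}
  have hO : O.Finite := by
    refine ((G.s.finite_preimage_singleton u).image G.t).subset ?_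
    rintro x ⟨a, ha, rfl⟩
    exact ⟨a, ha, rfl⟩
  have hdisc : ∀ a a' : G.R, a ⤳ a' → G.t a = G.t a' → a = a' := by
    intro a a' h he
    have hd : _root_.IsDiscrete (⇑G.t ⁻¹' {G.t a}) := G.t.isDiscrete_preimage_singleton _
    haveI := hd.to_subtype
    exact congrArg Subtype.val (Specializes.eq (subtype_specializes_iff
      (x := (⟨a, rfl⟩ : ⇑G.t ⁻¹' {G.t a})) (y := ⟨a', he.symm⟩) |>.mpr h))
  have hsucc : ∀ x ∈ O, ∃ y ∈ O, x ⤳ y ∧ x ≠ y := by
    rintro x ⟨a, ha, rfl⟩
    obtain ⟨a', haa', ha'⟩ := G.s.isClosedMap.specializingMap (show G.s a ⤳ G.t r from ha ▸ hu)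
    refine ⟨G.t a', ?_, haa'.map G.t.continuous, fun he => ?_⟩
    · obtain ⟨q, hqt, hqs⟩ := GrothLib.GrpdQuot.exists_comp_pt G (a := a') (b := r) ha'
      exact ⟨q, hqs, hqt⟩
    · apply hne
      change u = G.t r
      rw [← ha, ← ha', hdisc a a' haa' he]
  have hmin : ∀ (T : Finset G.U), T.Nonempty → ∃ x ∈ T, ∀ y ∈ T, x ⤳ y → x = y := by
    intro T hT
    letI : PartialOrder G.U := specializationOrder _
    obtain ⟨x, hx, hmin⟩ := T.exists_minimal hT
    exact ⟨x, hx, fun y hy hxy => le_antisymm (hmin hy (show y ≤ x from hxy)) (show y ≤ x from hxy)⟩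
  obtain ⟨x, hx, hxmax⟩ := hmin hO.toFinset ((Set.Finite.toFinset_nonempty hO).mpr ⟨G.t r, r, rfl, rfl⟩)
  obtain ⟨y, hy, hxy, hne'⟩ := hsucc x (hO.mem_toFinset.mp hx)
  exact hne' (hxmax y (hO.mem_toFinset.mpr hy) hxy)

end Groth.Agent.S7464
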