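import Groth.Statements.S7466
import Groth.Agent.Lib.FittPush13.Affine
-- import your own Groth.Agent.* helpers here

set_option autoImplicit false
universe u
open CategoryTheory CategoryTheory.Limits AlgebraicGeometry
open Grpd

namespace Groth.Agent.S7466


open GrothLib.FittPush13


/-- Let (U, R, s, t, c) be a groupoid scheme over S with s, t finite and of finite presentation and U
quasi-separated, and let u_1, ..., u_m be points of U such that every point in their R-orbits is a
generic point of an irreducible component of U. Then there are an R-invariant affine open V of U
containing u_1, ..., u_m and an R-invariant closed subscheme V' of V with the same underlying set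
whose inclusion is of finite presentation (a thickening of finite presentation; V' is then affine
and contains the u_i) such that the source and target of the restriction of R to V' are finite
locally free. Here ι' : V' -> U is the inclusion, R-invariance of V' is expressed as an isomorphism
between the pullbacks of s and of t along ι' compatible with the maps to R, and the restricted
source and target are the base changes of s and t along ι'; 'finite locally free' is finite, flat
and locally of finite presentation. (A groupoid scheme carries U, R, s, t, c, e, i over S with the
groupoid axioms on T-points; c is defined on the fibre product of s and t and sends a pair (a, b)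
with s(a) = t(b) to a composed with b.) -/
theorem result (S : Scheme.{u}) (G : Grpd.GroupoidScheme S) [IsFinite G.s] [LocallyOfFinitePresentation G.s] [IsFinite G.t] [LocallyOfFinitePresentation G.t] [QuasiSeparatedSpace G.U] (m : ℕ) (u : Fin m → G.U) (hu : ∀ i (r : G.R), G.s r = u i → ∀ x : G.U, x ⤳ G.t r → x = G.t r) : ∃ (V : G.U.Opens) (V' : (↑V : Scheme.{u}).IdealSheafData), IsAffineOpen V ∧ (∀ i, u i ∈ V) ∧ G.s ⁻¹ᵁ V = G.t ⁻¹ᵁ V ∧ V'.support = ⊤ ∧ LocallyOfFinitePresentation V'.subschemeι ∧ (∃ φ : pullback G.s (V'.subschemeι ≫ V.ι) ≅ pullback G.t (V'.subschemeι ≫ V.ι), φ.hom ≫ pullback.fst G.t (V'.subschemeι ≫ V.ι) = pullback.fst G.s (V'.subschemeι ≫ V.ι)) ∧ Mor2.IsFinLocFree (pullback.snd G.s (V'.subschemeι ≫ V.ι)) ∧ Mor2.IsFinLocFree (pullback.snd G.t (V'.subschemeι ≫ V.ι)) := by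
  exact exists_affine_thickening G u hu


end Groth.Agent.S7466
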