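import Groth.Statements.S7474
import Groth.Agent.Lib.HTop.VSheaf
-- import your own Groth.Agent.* helpers here

set_option autoImplicit false
universe w u
open HTop

namespace Groth.Agent.S7474

open CategoryTheory CategoryTheory.Limits AlgebraicGeometry in
/-- A presheaf F of sets on the category of all schemes has the sheaf property for every V covering
family exactly when F is a sheaf for the Zariski topology and has the sheaf property for each
standard V covering. -/
theorem result (F : Scheme.{u}ᵒᵖ ⥤ Type w) : HTop.IsVSheaf F ↔ (Presieve.IsSheaf Scheme.zariskiTopology F ∧ ∀ (T : Scheme.{u}) (E : PreZeroHypercover.{u} T), HTop.IsStandardV E → Presieve.IsSheafFor F E.presieve₀) := ⟨fun h => ⟨GrothLib.HTop.isSheaf_zariski_of_isVSheaf h,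
    fun T E hE => h _ ((HTop.presieve₀_mem_vPrecoverage_iff _).2 (GrothLib.HTop.isVCover_of_isStandardV hE))⟩,
  fun h => GrothLib.HTop.isVSheaf_of_standard h.1 fun T E hE =>
    GrothLib.HTop.isSheafFor_presieve₀_ulift E (h.2 T _ ⟨hE.isAffine,
      have := hE.finite_index
      inferInstanceAs (Finite (ULift.{u} E.I₀)),
      fun j => hE.isAffine_obj j.down, fun V _ _ g => by
        obtain ⟨W, i1, i2, φ, hφ, j, l, hl⟩ := hE.lift V g
        exact ⟨W, i1, i2, φ, hφ, ⟨j⟩, l, hl⟩⟩)⟩

end Groth.Agent.S7474
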