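import Groth.Statements.S7475
import Groth.Agent.Lib.HTop.VSheaf
-- import your own Groth.Agent.* helpers here

set_option autoImplicit false
universe w u
open HTop

namespace Groth.Agent.S7475

open CategoryTheory CategoryTheory.Limits AlgebraicGeometry in
/-- Variant with a single arrow: a presheaf of sets on all schemes has the sheaf property for every V
covering family exactly when it is a Zariski sheaf and has the sheaf property for every morphism V
-> U of affine schemes that on its own forms a standard V covering. -/
theorem result (F : Scheme.{u}ᵒᵖ ⥤ Type w) : HTop.IsVSheaf F ↔ (Presieve.IsSheaf Scheme.zariskiTopology F ∧ ∀ (U V : Scheme.{u}) (f : V ⟶ U), HTop.IsStandardV (PreZeroHypercover.singleton f) → Presieve.IsSheafFor F (Presieve.singleton f)) := ⟨fun h => ⟨GrothLib.HTop.isSheaf_zariski_of_isVSheaf h, fun U V f hf => by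
    rw [← PreZeroHypercover.presieve₀_singleton]
    exact h _ ((HTop.presieve₀_mem_vPrecoverage_iff _).2 (GrothLib.HTop.isVCover_of_isStandardV hf))⟩,
  fun h => GrothLib.HTop.isVSheaf_of_standard h.1 fun T E hE =>
    have := hE.finite_index
    GrothLib.HTop.isSheafFor_of_sigmaDesc h.1 E
      (h.2 _ _ _ (have hs := GrothLib.HTop.isStandardV_singleton_sigmaDesc hE
        ⟨hs.isAffine, inferInstanceAs (Finite PUnit), fun _ => hs.isAffine_obj ⟨⟩, fun V _ _ g => by
          obtain ⟨W, i1, i2, φ, hφ, j, l, hl⟩ := hs.lift V g
          exact ⟨W, i1, i2, φ, hφ, ⟨⟩, l, hl⟩⟩))⟩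

end Groth.Agent.S7475
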