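import Groth.Statements.S7478
import Groth.Agent.Lib.HTop.Ph
-- import your own Groth.Agent.* helpers here

set_option autoImplicit false
universe w u
open HTop

namespace Groth.Agent.S7478

open CategoryTheory CategoryTheory.Limits AlgebraicGeometry in
/-- The base change of a standard ph covering along a morphism of affine schemes T' -> T is a standard
ph covering of T'. -/
theorem result {T T' : Scheme.{u}} [IsAffine T'] (g : T' ⟶ T) (E : PreZeroHypercover.{w} T) (hE : HTop.IsStandardPh E) : HTop.IsStandardPh (E.pullback₁ g) := GrothLib.HTop.isStandardPh_pullback₁ g E hE

end Groth.Agent.S7478
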