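import Groth.Statements.S7479
import Groth.Agent.Lib.HTop.PhBind
-- import your own Groth.Agent.* helpers here

set_option autoImplicit false
universe w u
open HTop

namespace Groth.Agent.S7479

open CategoryTheory CategoryTheory.Limits AlgebraicGeometry in
/-- Let T be an affine scheme. (1) For every open covering of T there is a standard ph covering of T
that refines it. (2) If E is a standard ph covering of T and, for each member U_j of E, F_j is a
standard ph covering of U_j, then some standard ph covering of T refines the composite family of all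
W_ji -> T. -/
theorem result {T : Scheme.{u}} [IsAffine T] : (∀ 𝒰 : T.OpenCover, ∃ F : PreZeroHypercover.{0} T, HTop.IsStandardPh F ∧ Nonempty (F.Hom 𝒰.toPreZeroHypercover)) ∧ (∀ (E : PreZeroHypercover.{w} T), HTop.IsStandardPh E → ∀ F : ∀ j, PreZeroHypercover.{w} (E.X j), (∀ j, HTop.IsStandardPh (F j)) → ∃ F' : PreZeroHypercover.{0} T, HTop.IsStandardPh F' ∧ Nonempty (F'.Hom (E.bind F))) := by
  refine ⟨fun 𝒰 => ?_, fun E hE F hF => ?_⟩
  · obtain ⟨G, hG, hr⟩ := GrothLib.HTop.exists_standardPh (𝟙 T) 𝒰.toPreZeroHypercover (𝟙 T) fun z => by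
      obtain ⟨W, hW, hz, hle⟩ := TopologicalSpace.Opens.isBasis_iff_nbhd.mp T.isBasis_affineOpens
        (show z ∈ (𝒰.f (𝒰.idx z)).opensRange from 𝒰.covers z)
      obtain ⟨l, hl⟩ : ∃ l, l ≫ 𝒰.f (𝒰.idx z) = Scheme.Opens.ι W :=
        ⟨_, IsOpenImmersion.lift_fac _ _ (by rw [Scheme.Opens.range_ι]; exact hle)⟩
      exact ⟨W, Scheme.Opens.ι W, hW, inferInstance, ⟨⟨z, hz⟩, rfl⟩, 𝒰.idx z, l, by simp [hl]⟩
    choose i k hk using hr
    exact ⟨G, hG, ⟨⟨i, k, fun j => (hk j).trans (Category.comp_id _)⟩⟩⟩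
  · obtain ⟨G, hG, hr⟩ := GrothLib.HTop.exists_standardPh_bind E hE F hF
    choose i k hk using hr
    exact ⟨G, hG, ⟨⟨i, k, fun j => (hk j).trans (Category.comp_id _)⟩⟩⟩

end Groth.Agent.S7479
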