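import Groth.Statements.S7484
import Groth.Prelude.Def_DescFam
import Groth.Agent.Lib.SchEffective.FinLocFree
import Groth.Agent.Lib.SchEffective.GeomBound

set_option autoImplicit false
open CategoryTheory CategoryTheory.Limits AlgebraicGeometry
universe u
open Desc

namespace Groth.Agent.S7484

/-- Let p : X -> Y be a surjective finite locally free morphism and d a positive integer such that for
every algebraically closed field k and every k-point of Y there are at most d k-points of X over it.
Let V be a scheme over X such that any d points of V (not necessarily distinct) lying over one point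
of Y are contained in an affine open of V. Then every descent datum on V relative to p is effective.
(Descent data are taken in functor-of-points form.) -/
theorem result {X Y : Scheme.{u}} (p : X ⟶ Y) [Surjective p] [IsFinite p] [Flat p] [LocallyOfFinitePresentation p] (d : ℕ) (hd : 0 < d) (hfib : ∀ (k : Type u) [Field k] [IsAlgClosed k] (y : Spec (CommRingCat.of k) ⟶ Y), Set.encard {x : Spec (CommRingCat.of k) ⟶ X | x ≫ p = y} ≤ d) (D : Desc.SchDD p) (hV : ∀ (y : Y) (v : Fin d → ↑(D.obj.left)), (∀ i, p (D.obj.hom (v i)) = y) → ∃ U : D.obj.left.Opens, IsAffineOpen U ∧ ∀ i, v i ∈ U) : ∃ W : Over Y, Nonempty ((Desc.toDD p).obj W ≅ D) := by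
  refine GrothLib.SchEffective.exists_descent_of_finLocFree p D (d : ℕ∞)
    (fun t z => GrothLib.SchEffective.encard_fibre_le p _ hfib t z) fun y s hsd hs => ?_
  have hcard : s.card ≤ d := by exact_mod_cast hsd
  rcases s.eq_empty_or_nonempty with rfl | ⟨v₀, hv₀⟩
  · exact ⟨⊥, fun U hU hUc => by
      haveI : IsAffine ((⊥ : D.obj.left.Opens) : Scheme.{u}) := isAffineOpen_bot _
      exact GrothLib.IndQA.qa_mono inferInstance hUc hU, fun v hv => absurd hv (Finset.notMem_empty v)⟩
  classical
  let v : Fin d → D.obj.left := fun i => if h : i.1 < s.card then (s.equivFin.symm ⟨i.1, h⟩).1 else v₀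
  have hvs : ∀ i, v i ∈ s := fun i => by
    simp only [v]
    split
    · exact Subtype.prop _
    · exact hv₀
  obtain ⟨A, hA, hvA⟩ := hV y v fun i => hs _ (hvs i)
  haveI : IsAffine (A : Scheme.{u}) := hA
  refine ⟨A, fun U hUA hU => GrothLib.IndQA.qa_mono inferInstance hU hUA, fun x hx => ?_⟩
  have := hvA ⟨(s.equivFin ⟨x, hx⟩).1, lt_of_lt_of_le (s.equivFin ⟨x, hx⟩).2 hcard⟩
  simpa [v, Fin.eta] using this

end Groth.Agent.S7484
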