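import Groth.Statements.S7486
import Mathlib.LinearAlgebra.TensorProduct.Basis
import Groth.Agent.Lib.GrpdQuot.Scheme
-- import your own Groth.Agent.* helpers here

set_option autoImplicit false
universe u
open CategoryTheory CategoryTheory.Limits AlgebraicGeometry
open Grpd

namespace Groth.Agent.S7486

/-- Let (U, R, s, t, c) be a groupoid scheme over S with U = Spec A and R = Spec B affine (A, B the
rings of global functions), and let x_i, i in I, be elements of A such that B is free as an A-module
through s^# with basis the elements t^#(x_i). Let C be the subring of R-invariant functions (those a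
with s^#(a) = t^#(a)). Then the x_i form a basis of A as a C-module, and the C-linear map A (x)_C A
-> B sending a (x) a' to t^#(a) s^#(a') is bijective (B carries the C-module structure through s^#).
(A groupoid scheme carries U, R, s, t, c, e, i over S with the groupoid axioms on T-points; c is
defined on the fibre product of s and t and sends a pair (a, b) with s(a) = t(b) to a composed with
b.) -/
theorem result (S : Scheme.{u}) (G : Grpd.GroupoidScheme S) [IsAffine G.U] [IsAffine G.R] (I : Type u) (x : I → Γ(G.U, ⊤)) (hB : letI := G.s.appTop.hom.toAlgebra; ∃ b : Module.Basis I Γ(G.U, ⊤) Γ(G.R, ⊤), ∀ i, b i = G.t.appTop.hom (x i)) : (∃ b : Module.Basis I G.invariants Γ(G.U, ⊤), ∀ i, b i = x i) ∧ (letI := (G.s.appTop.hom.comp G.invariants.subtype).toAlgebra; ∀ φ : TensorProduct G.invariants Γ(G.U, ⊤) Γ(G.U, ⊤) →ₗ[G.invariants] Γ(G.R, ⊤), (∀ a a' : Γ(G.U, ⊤), φ (a ⊗ₜ[G.invariants] a') = G.t.appTop.hom a * G.s.appTop.hom a') → Function.Bijective φ) := by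
  classical
  letI := G.s.appTop.hom.toAlgebra
  obtain ⟨b, hb⟩ := hB
  let D := GrothLib.GrpdQuot.gdata G
  have hsm : ∀ (a : Γ(G.U, ⊤)) (y : Γ(G.R, ⊤)), G.s.appTop.hom a * y = a • y :=
    fun a y => (Algebra.smul_def a y).symm
  have hexp : ∀ a, G.t.appTop.hom a =
      ∑ i ∈ (b.repr (G.t.appTop.hom a)).support, D.s (b.repr (G.t.appTop.hom a) i) * D.t (x i) := by
    intro a
    conv_lhs => rw [← b.linearCombination_repr (G.t.appTop.hom a), Finsupp.linearCombination_apply]
    exact Finset.sum_congr rfl fun i _ => by
      change _ • b i = G.s.appTop.hom _ * G.t.appTop.hom (x i)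
      rw [hsm, ← hb i]
  have hinv : ∀ a i, b.repr (G.t.appTop.hom a) i ∈ G.invariants := by
    intro a i
    by_cases hi : i ∈ (b.repr (G.t.appTop.hom a)).support
    · refine D.coeff_mem_inv_of_basis (fun j => b.repr (G.t.appTop.hom a) j) x
        (fun j => (b.coord j).toAddMonoidHom) (fun j c y => ?_) _ (fun j _ l _ hl => ?_)
        (fun j _ => ?_) a (hexp a) i hi
      · change b.coord j (G.s.appTop.hom c * y) = _
        rw [hsm, map_smul]
        rfl
      · change b.repr (G.t.appTop.hom (x l)) j = 0
        rw [← hb l, b.repr_self, Finsupp.single_eq_of_ne hl.symm]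
      · change b.repr (G.t.appTop.hom (x j)) j = 1
        rw [← hb j, b.repr_self, Finsupp.single_eq_same]
    · rw [Finsupp.notMem_support_iff.mp hi]
      exact zero_mem _
  have hsum : ∀ c : I →₀ G.invariants, b.repr (G.t.appTop.hom (Finsupp.linearCombination G.invariants x c)) =
      c.mapRange Subtype.val rfl := by
    intro c
    induction c using Finsupp.induction_linear with
    | zero => simp
    | add c d hc hd =>
      rw [map_add, map_add, map_add, hc, hd, Finsupp.mapRange_add (fun _ _ => rfl)]
    | single i r =>
      rw [Finsupp.linearCombination_single, Finsupp.mapRange_single,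
        show r • x i = (r : Γ(G.U, ⊤)) * x i from rfl, map_mul,
        show G.t.appTop.hom (r : Γ(G.U, ⊤)) = G.s.appTop.hom r from r.2.symm, hsm, ← hb i, map_smul,
        b.repr_self, Finsupp.smul_single_one]
  have he : ∀ a, G.e.appTop.hom (G.t.appTop.hom a) = a := fun a => D.e_t_apply a
  have hli : LinearIndependent G.invariants x := by
    rw [linearIndependent_iff]
    intro c hc
    have h := hsum c
    rw [hc, map_zero, map_zero] at h
    exact (Finsupp.mapRange_injective _ rfl Subtype.val_injective)
      (h.symm.trans (Finsupp.mapRange_zero (f := Subtype.val) (hf := rfl)).symm)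
  have hsp : ⊤ ≤ Submodule.span G.invariants (Set.range x) := by
    intro a _
    have h := congrArg G.e.appTop.hom (hexp a)
    rw [he, map_sum] at h
    rw [h]
    refine Submodule.sum_mem _ fun i _ => ?_
    rw [map_mul, show G.e.appTop.hom (D.s _) = _ from D.e_s_apply _,
      show G.e.appTop.hom (D.t _) = _ from D.e_t_apply _]
    have hxi : x i ∈ Submodule.span G.invariants (Set.range x) := Submodule.subset_span ⟨i, rfl⟩
    exact Submodule.smul_mem _ (⟨_, hinv a i⟩ : G.invariants) hxi
  let bA := Module.Basis.mk hli hsp
  have hbA : ⇑bA = x := Module.Basis.coe_mk hli hsp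
  refine ⟨⟨bA, fun i => congrFun hbA i⟩, ?_⟩
  have hrepr : ∀ a, b.repr (G.t.appTop.hom a) = (bA.repr a).mapRange Subtype.val rfl := fun a => by
    conv_lhs => rw [← bA.linearCombination_repr a, hbA]
    exact hsum _
  letI : Algebra G.invariants Γ(G.R, ⊤) := (G.s.appTop.hom.comp G.invariants.subtype).toAlgebra
  intro φ hφ
  have hφ' : ∀ ξ, φ ξ = b.repr.symm (TensorProduct.equivFinsuppOfBasisLeft bA ξ) := by
    intro ξ
    apply b.repr.injective
    rw [LinearEquiv.apply_symm_apply]
    induction ξ using TensorProduct.induction_on with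
    | zero => simp
    | tmul a a' =>
      ext i
      rw [hφ, mul_comm, hsm, map_smul, Finsupp.smul_apply, hrepr, Finsupp.mapRange_apply,
        TensorProduct.equivFinsuppOfBasisLeft_apply_tmul_apply, smul_eq_mul, mul_comm]
      rfl
    | add c d hc hd => rw [map_add, map_add, map_add, hc, hd]
  rw [show ⇑φ = ⇑b.repr.symm ∘ ⇑(TensorProduct.equivFinsuppOfBasisLeft bA) from funext hφ']
  exact b.repr.symm.bijective.comp (LinearEquiv.bijective _)

end Groth.Agent.S7486
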