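import Groth.Statements.S7489
import Groth.Agent.Lib.ProfTranslate.Main
-- import your own Groth.Agent.* helpers here

set_option autoImplicit false
universe u
open CategoryTheory MonoidalCategory CartesianMonoidalCategory MonObj GrpObj AlgebraicGeometry
open GrpSch

namespace Groth.Agent.S7489

/-- Let k be an algebraically closed field and G a group scheme over k such that the underlying space of
G is Jacobson and every closed point of G is k-rational (the image of a section of G -> Spec k). Let
A be a k-algebra such that every finite subset of A is contained in a k-subalgebra isomorphic to a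
finite product of copies of k (A is a directed colimit of such algebras), and f : Spec A -> G a
morphism over k. Then there is an affine open U of G containing the image of f. -/
theorem result (k : Type u) [Field k] [IsAlgClosed k] (G : Over (Spec (CommRingCat.of k))) [GrpObj G] [JacobsonSpace G.left] (hrat : ∀ g : G.left, IsClosed ({g} : Set G.left) → ∃ x : Spec (CommRingCat.of k) ⟶ G.left, x ≫ G.hom = 𝟙 _ ∧ x (IsLocalRing.closedPoint k) = g) (A : Type u) [CommRing A] [Algebra k A] (hA : ∀ s : Finset A, ∃ (B : Subalgebra k A) (n : ℕ), (↑s : Set A) ⊆ (B : Set A) ∧ Nonempty (B ≃ₐ[k] (Fin n → k))) (f : Spec (CommRingCat.of A) ⟶ G.left) (hf : f ≫ G.hom = Spec.map (CommRingCat.ofHom (algebraMap k A))) : ∃ U : G.left.Opens, IsAffineOpen U ∧ Set.range ⇑f ⊆ (U : Set G.left) := by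
  haveI : Algebra.IsIntegral k A := ⟨fun a => by
    obtain ⟨B, n, hB, ⟨e⟩⟩ := hA {a}
    haveI : Module.Finite k B := Module.Finite.equiv e.symm.toLinearEquiv
    exact (IsIntegral.of_finite k (⟨a, hB (by simp)⟩ : B)).map B.val⟩
  exact GrothLib.ProfTranslate.exists_affineOpen_range_subset
    (fun g hg => by
      obtain ⟨x, hx, hx'⟩ := hrat g hg
      exact ⟨Over.homMk x hx, hx'⟩)
    (Over.homMk f hf)

end Groth.Agent.S7489
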