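import Groth.Statements.S7493
import Mathlib.FieldTheory.IsAlgClosed.Classification
import Mathlib.FieldTheory.IsAlgClosed.AlgebraicClosure
import Mathlib.AlgebraicGeometry.ResidueField
-- import your own Groth.Agent.* helpers here

set_option autoImplicit false
universe u
open CategoryTheory CategoryTheory.Limits AlgebraicGeometry
open Grpd

namespace Groth.Agent.S7493

/-- Algebraically closed extensions with equipotent transcendence bases are isomorphic over the base. -/
theorem exists_ringEquiv_compat {R K L : Type u} [Field R] [Field K] [Algebra R K] [IsAlgClosed K]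
    [Field L] [Algebra R L] [IsAlgClosed L] {io io' : Type u} (v : io → K) (w : io' → L)
    (e : io ≃ io') (hv : IsTranscendenceBasis R v) (hw : IsTranscendenceBasis R w) :
    ∃ σ : K ≃+* L, ∀ r, σ (algebraMap R K r) = algebraMap R L r := by
  let := IsAlgClosed.isAlgClosure_of_transcendence_basis v hv
  let := IsAlgClosed.isAlgClosure_of_transcendence_basis w hw
  let f : Algebra.adjoin R (Set.range v) ≃ₐ[R] Algebra.adjoin R (Set.range w) :=
    hv.1.aevalEquiv.symm.trans ((MvPolynomial.renameEquiv R e).trans hw.1.aevalEquiv)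
  refine ⟨IsAlgClosure.equivOfEquiv K L f.toRingEquiv, fun r => ?_⟩
  rw [IsScalarTower.algebraMap_apply R (Algebra.adjoin R (Set.range v)) K,
    IsScalarTower.algebraMap_apply R (Algebra.adjoin R (Set.range w)) L,
    IsAlgClosure.equivOfEquiv_algebraMap]
  exact congrArg _ (f.commutes r)

open Cardinal in
/-- A transcendence basis of a large algebraically closed field is as large as the field. -/
theorem mk_transcendenceBasis_eq {R K : Type u} [Field R] [Field K] [Algebra R K] [IsAlgClosed K]
    {io : Type u} (v : io → K) (hv : IsTranscendenceBasis R v) (h₀ : ℵ₀ < #K) (h : #R < #K) :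
    #io = #K := by
  refine le_antisymm (Cardinal.mk_le_of_injective hv.1.injective) ?_
  have := IsAlgClosed.cardinal_le_max_transcendence_basis' v hv
  rcases le_max_iff.mp this with h1 | h1
  · rcases le_max_iff.mp h1 with h2 | h2
    · exact absurd h2 (not_le_of_gt h)
    · exact h2
  · exact absurd h1 (not_le_of_gt h₀)

open Cardinal in
/-- Two embeddings of a field in a field are conjugate in a large algebraically closed extension. -/
theorem exists_algClosed_conjugate (k L : Type u) [Field k] [Field L] (a b : k →+* L) :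
    ∃ (K : Type u) (_ : Field K) (_ : IsAlgClosed K) (φ : L →+* K) (σ : K ≃+* K),
      σ.toRingHom.comp (φ.comp a) = φ.comp b := by
  let X : Type u := Set (L ⊕ ULift.{u} ℕ)
  let F := FractionRing (MvPolynomial X L)
  let K := AlgebraicClosure F
  let φ : L →+* K := (algebraMap F K).comp ((algebraMap (MvPolynomial X L) F).comp MvPolynomial.C)
  let ε : X → K := fun x => algebraMap F K (algebraMap (MvPolynomial X L) F (MvPolynomial.X x))
  have hε : Function.Injective ε :=
    (algebraMap F K).injective.comp ((IsFractionRing.injective (MvPolynomial X L) F).comp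
      MvPolynomial.X_injective)
  have hX : #(L ⊕ ULift.{u} ℕ) < #X := by rw [Cardinal.mk_set]; exact Cardinal.cantor _
  have hK₀ : ℵ₀ < #K := lt_of_le_of_lt
    (Cardinal.aleph0_le_mk (L ⊕ ULift.{u} ℕ)) (hX.trans_le (Cardinal.mk_le_of_injective hε))
  have hk : #k < #K := lt_of_le_of_lt
    (Cardinal.mk_le_of_injective (Sum.inl_injective.comp a.injective))
    (hX.trans_le (Cardinal.mk_le_of_injective hε))
  refine ⟨K, inferInstance, inferInstance, φ, ?_⟩
  have hA : ∀ c : k →+* L, ∃ (io : Type u) (v : io → K),
      (letI := (φ.comp c).toAlgebra; IsTranscendenceBasis k v) ∧ #io = #K := by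
    intro c
    let := (φ.comp c).toAlgebra
    obtain ⟨io, v, hv⟩ := exists_isTranscendenceBasis' k K
    exact ⟨io, v, hv, mk_transcendenceBasis_eq v hv hK₀ hk⟩
  obtain ⟨I, v, hv, hI⟩ := hA a
  obtain ⟨J, w, hw, hJ⟩ := hA b
  obtain ⟨e⟩ := Cardinal.eq.mp (hI.trans hJ.symm)
  obtain ⟨σ, hσ⟩ := @exists_ringEquiv_compat k K K _ _ (φ.comp a).toAlgebra _ _ (φ.comp b).toAlgebra _
    I J v w e hv hw
  exact ⟨σ, RingHom.ext hσ⟩

/-- If `m ≫ p` is an isomorphism then `p` induces an isomorphism of residue fields at points in the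
image of `m`. -/
theorem isIso_residueFieldMap_of_comp {Z P Q : Scheme.{u}} (m : Z ⟶ P) (p : P ⟶ Q) [IsIso (m ≫ p)]
    (z : Z) : IsIso (p.residueFieldMap (m z)) := by
  have hi : IsIso ((m ≫ p).residueFieldMap z) := inferInstance
  rw [Scheme.residueFieldMap_comp] at hi
  refine (ConcreteCategory.isIso_iff_bijective _).mpr ⟨(p.residueFieldMap (m z)).hom.injective, fun y => ?_⟩
  obtain ⟨x, hx⟩ := ((ConcreteCategory.isIso_iff_bijective _).mp hi).2 (m.residueFieldMap z y)
  exact ⟨x, (m.residueFieldMap z).hom.injective hx⟩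

/-- Let (U, R, s, t, c) be a groupoid scheme over S with U = Spec k for a field k, and let r be a point
of R. Then there exist a field extension k -> k' with k' algebraically closed and a point r' of the
restriction R' of R along g : U' = Spec k' -> U, that is R' = (U' x_(g,U,t) R) x_(s pr, U, g) U'
with t' the projection to the first factor U' and s' the projection to the last factor U', such that
r' maps to r under R' -> R and both s' and t' induce isomorphisms on residue fields at r' (k' ->
κ(r') bijective). (A groupoid scheme carries U, R, s, t, c, e, i over S with the groupoid axioms on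
T-points; c is defined on the fibre product of s and t and sends a pair (a, b) with s(a) = t(b) to a
composed with b.) -/
theorem result (S : Scheme.{u}) (G : Grpd.GroupoidScheme S) (k : Type u) [Field k] (eU : G.U ≅ Spec (CommRingCat.of k)) (r : G.R) : ∃ (k' : Type u) (_ : Field k') (_ : IsAlgClosed k') (_ : Algebra k k'), ∃ r' : ↑(pullback (pullback.snd (Spec.map (CommRingCat.ofHom (algebraMap k k')) ≫ eU.inv) G.t ≫ G.s) (Spec.map (CommRingCat.ofHom (algebraMap k k')) ≫ eU.inv)), (pullback.fst (pullback.snd (Spec.map (CommRingCat.ofHom (algebraMap k k')) ≫ eU.inv) G.t ≫ G.s) (Spec.map (CommRingCat.ofHom (algebraMap k k')) ≫ eU.inv) ≫ pullback.snd (Spec.map (CommRingCat.ofHom (algebraMap k k')) ≫ eU.inv) G.t) r' = r ∧ IsIso ((pullback.snd (pullback.snd (Spec.map (CommRingCat.ofHom (algebraMap k k')) ≫ eU.inv) G.t ≫ G.s) (Spec.map (CommRingCat.ofHom (algebraMap k k')) ≫ eU.inv)).residueFieldMap r') ∧ IsIso ((pullback.fst (pullback.snd (Spec.map (CommRingCat.ofHom (algebraMap k k')) ≫ eU.inv) G.t ≫ G.s) (Spec.map (CommRingCat.ofHom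 (algebraMap k k')) ≫ eU.inv) ≫ pullback.fst (Spec.map (CommRingCat.ofHom (algebraMap k k')) ≫ eU.inv) G.t).residueFieldMap r') := by
  obtain ⟨A, hA⟩ := Spec.map_surjective (G.R.fromSpecResidueField r ≫ G.t ≫ eU.hom)
  obtain ⟨B, hB⟩ := Spec.map_surjective (G.R.fromSpecResidueField r ≫ G.s ≫ eU.hom)
  obtain ⟨K, hKf, hKa, φ, σ, hσ⟩ := exists_algClosed_conjugate k (G.R.residueField r) A.hom B.hom
  let : Algebra k K := (φ.comp A.hom).toAlgebra
  refine ⟨K, hKf, hKa, inferInstance, ?_⟩
  let g := Spec.map (CommRingCat.ofHom (algebraMap k K)) ≫ eU.inv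
  let ρ : Spec (CommRingCat.of K) ⟶ G.R :=
    Spec.map (CommRingCat.ofHom φ) ≫ G.R.fromSpecResidueField r
  let β : Spec (CommRingCat.of K) ⟶ Spec (CommRingCat.of K) := Spec.map (CommRingCat.ofHom σ.toRingHom)
  have : IsIso β := by
    have : IsIso (CommRingCat.ofHom σ.toRingHom) := ConcreteCategory.isIso_iff_bijective _ |>.mpr σ.bijective
    infer_instance
  have ht : 𝟙 _ ≫ g = ρ ≫ G.t := by
    rw [← cancel_mono eU.hom]
    simp only [g, ρ, Category.assoc, eU.inv_hom_id, Category.comp_id, Category.id_comp, ← hA,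
      ← Spec.map_comp]
    rfl
  have hs : ρ ≫ G.s = β ≫ g := by
    rw [← cancel_mono eU.hom]
    simp only [g, ρ, β, Category.assoc, eU.inv_hom_id, Category.comp_id, ← hB, ← Spec.map_comp]
    exact congrArg Spec.map (CommRingCat.hom_ext hσ.symm)
  let n : Spec (CommRingCat.of K) ⟶ pullback g G.t := pullback.lift (𝟙 _) ρ ht
  let m : Spec (CommRingCat.of K) ⟶ pullback (pullback.snd g G.t ≫ G.s) g :=
    pullback.lift n β (by rw [pullback.lift_snd_assoc]; exact hs)
  let c : ↥(Spec (CommRingCat.of K)) := IsLocalRing.closedPoint K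
  refine ⟨m c, ?_, ?_, ?_⟩
  · rw [← Scheme.Hom.comp_apply, pullback.lift_fst_assoc, pullback.lift_snd]
    exact Scheme.fromSpecResidueField_apply r _
  · have : IsIso (m ≫ pullback.snd (pullback.snd g G.t ≫ G.s) g) := by
      rw [pullback.lift_snd]; infer_instance
    exact isIso_residueFieldMap_of_comp m _ c
  · have : IsIso (m ≫ pullback.fst (pullback.snd g G.t ≫ G.s) g ≫ pullback.fst g G.t) := by
      rw [pullback.lift_fst_assoc, pullback.lift_fst]; infer_instance
    exact isIso_residueFieldMap_of_comp m _ c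

end Groth.Agent.S7493
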