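import Groth.Statements.S7494
import Groth.Agent.Lib.GrpSchField.Shear

set_option autoImplicit false
universe u
open CategoryTheory MonoidalCategory CartesianMonoidalCategory MonObj GrpObj AlgebraicGeometry
open AlgGrp

namespace Groth.Agent.S7494

/-- Let G be a group scheme over S acting on a scheme X over S by a. The action is free, meaning that
for every scheme T over S and all T-points g of G and x of X with g · x = x one has g = 1, if and
only if the morphism G x_S X -> X x_S X, (g, x) ↦ (a(g, x), x), is a monomorphism of schemes. -/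
theorem result {S : Scheme.{u}} (G X : Over S) [GrpObj G] (a : AlgGrp.Action G X) : (∀ (T : Over S) (g : T ⟶ G) (x : T ⟶ X), lift g x ≫ a.act = x → g = toUnit T ≫ η[G]) ↔ Mono (lift a.act (snd G X)).left := by
  have hmono : Mono (lift a.act (snd G X)).left ↔ Mono (lift a.act (snd G X)) :=
    ⟨fun _ => Over.mono_of_mono_left _,
      fun _ => Over.mono_left_of_mono _⟩
  rw [hmono]
  constructor
  · refine fun h => ⟨fun {T} p p' e => ?_⟩
    have e₁ := congrArg (· ≫ fst X X) e
    have e₂ := congrArg (· ≫ snd X X) e
    simp only [Category.assoc, lift_fst, lift_snd] at e₁ e₂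
    rw [← GrothLib.GrpSchField.lift_fst_snd_comp p, ← GrothLib.GrpSchField.lift_fst_snd_comp p'] at e₁
    rw [← e₂] at e₁
    have h1 := h T ((p' ≫ fst G X)⁻¹ * (p ≫ fst G X)) (p ≫ snd G X) (by
      rw [GrothLib.GrpSchField.act_mul, e₁, ← GrothLib.GrpSchField.act_mul, inv_mul_cancel,
        GrothLib.GrpSchField.act_one])
    rw [← Hom.one_def, inv_mul_eq_one] at h1
    exact CartesianMonoidalCategory.hom_ext _ _ h1.symm e₂
  · intro _ T g x hgx
    rw [← Hom.one_def]
    have e : lift g x ≫ lift a.act (snd G X) = lift 1 x ≫ lift a.act (snd G X) := by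
      rw [comp_lift, comp_lift, lift_snd, lift_snd, hgx, GrothLib.GrpSchField.act_one]
    simpa using congrArg (· ≫ fst G X) ((cancel_mono _).mp e)

end Groth.Agent.S7494
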