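import Groth.Statements.S7495
import Groth.Agent.Lib.GrpSchField.Criteria

set_option autoImplicit false
universe u
open CategoryTheory MonoidalCategory CartesianMonoidalCategory MonObj GrpObj AlgebraicGeometry
open GrpSch

namespace Groth.Agent.S7495

/-- Let k be a perfect field of positive characteristic and G a group scheme locally of finite type over
k whose underlying scheme is reduced. Then G -> Spec k is smooth. -/
theorem result (K : Type u) [Field K] [PerfectField K] (hK : ringChar K ≠ 0) (G : Over (Spec (CommRingCat.of K))) [GrpObj G] [LocallyOfFiniteType G.hom] [IsReduced G.left] : Smooth G.hom := by
  exact GrothLib.GrpSchField.smooth_of_perfectField_of_isReduced G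

end Groth.Agent.S7495
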