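import Groth.Statements.S7498
import Groth.Agent.Lib.GrpSchField.GrpdField
-- import your own Groth.Agent.* helpers here

set_option autoImplicit false
universe u
open CategoryTheory CategoryTheory.Limits AlgebraicGeometry
open Grpd

namespace Groth.Agent.S7498

/-- Let (U, R, s, t, c) be a groupoid scheme over S and r, r' points of R with t(r) = t(r'); put u =
s(r), u' = s(r') and let F_u, F_u' be the scheme-theoretic fibres of s. Then there are a field k
which is a common extension of κ(u) and κ(u') (morphisms a, b : Spec k -> U with images u, u') and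
an isomorphism of the base changes (F_u)_k and (F_u')_k over Spec k, which moreover can be chosen to
send some point lying over r to a point lying over r'. (The published statement also compares the
germs of s at r and at r' when s and t are flat or flat of finite presentation; this row omits
that.) (A groupoid scheme carries U, R, s, t, c, e, i over S with the groupoid axioms on T-points; c
is defined on the fibre product of s and t and sends a pair (a, b) with s(a) = t(b) to a composed
with b.) -/
theorem result (S : Scheme.{u}) (G : Grpd.GroupoidScheme S) (r r' : G.R) (h : G.t r = G.t r') : ∃ (k : Type u) (_ : Field k) (a b : Spec (CommRingCat.of k) ⟶ G.U) (φ : pullback G.s a ≅ pullback G.s b) (p : ↑(pullback G.s a)), a (IsLocalRing.closedPoint k) = G.s r ∧ b (IsLocalRing.closedPoint k) = G.s r' ∧ φ.hom ≫ pullback.snd G.s b = pullback.snd G.s a ∧ pullback.fst G.s a p = r ∧ pullback.fst G.s b (φ.hom p) = r' := by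
  obtain ⟨q, hq, hq'⟩ := Scheme.Pullback.exists_preimage_pullback (f := G.t) (g := G.t) r r' h
  let k := (pullback G.t G.t).residueField q
  let z : Spec k ⟶ pullback G.t G.t := (pullback G.t G.t).fromSpecResidueField q
  let α := z ≫ pullback.fst G.t G.t
  let β := z ≫ pullback.snd G.t G.t
  have hαβ : α ≫ G.t = β ≫ G.t := by simp only [α, β, Category.assoc, pullback.condition]
  have h0 : (α ≫ G.i) ≫ G.s = β ≫ G.t := by rw [Category.assoc, G.i_s, hαβ]
  let γ := GrothLib.GrpSchField.cmp G (α ≫ G.i) β h0
  have hγt : γ ≫ G.t = α ≫ G.s :=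
    (G.comp_t _ _ h0).trans (by rw [Category.assoc, G.i_t])
  have hγs : γ ≫ G.s = β ≫ G.s := G.comp_s _ _ h0
  let a := α ≫ G.s
  let b := β ≫ G.s
  let x := pullback.fst G.s a
  let y := pullback.snd G.s a
  let x' := pullback.fst G.s b
  let y' := pullback.snd G.s b
  have hxy : x ≫ G.s = (y ≫ γ) ≫ G.t := by rw [Category.assoc, hγt]; exact pullback.condition
  have hxy' : x' ≫ G.s = (y' ≫ γ) ≫ G.s := by rw [Category.assoc, hγs]; exact pullback.condition
  have hxy'' : x' ≫ G.s = ((y' ≫ γ) ≫ G.i) ≫ G.t := by rw [hxy', Category.assoc _ G.i, G.i_t]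
  let F : pullback G.s a ⟶ pullback G.s b :=
    pullback.lift (GrothLib.GrpSchField.cmp G x (y ≫ γ) hxy) y
      ((G.comp_s _ _ hxy).trans (by rw [Category.assoc, hγs]))
  let F' : pullback G.s b ⟶ pullback G.s a :=
    pullback.lift (GrothLib.GrpSchField.cmp G x' ((y' ≫ γ) ≫ G.i) hxy'') y'
      ((G.comp_s _ _ hxy'').trans (by rw [Category.assoc, G.i_s, Category.assoc, hγt]))
  have hFx : F ≫ x' = GrothLib.GrpSchField.cmp G x (y ≫ γ) hxy := pullback.lift_fst _ _ _
  have hFy : F ≫ y' = y := pullback.lift_snd _ _ _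
  have hF'x : F' ≫ x = GrothLib.GrpSchField.cmp G x' ((y' ≫ γ) ≫ G.i) hxy'' := pullback.lift_fst _ _ _
  have hF'y : F' ≫ y = y' := pullback.lift_snd _ _ _
  have e1 : F ≫ (y' ≫ γ) ≫ G.i = (y ≫ γ) ≫ G.i := by
    rw [← Category.assoc, ← Category.assoc F y', hFy]
  have e2 : F' ≫ y ≫ γ = y' ≫ γ := by rw [← Category.assoc, hF'y]
  have hinv : F ≫ F' = 𝟙 _ := by
    apply pullback.hom_ext
    · rw [Category.assoc, hF'x, Category.id_comp, GrothLib.GrpSchField.comp_cmp]
      exact (GrothLib.GrpSchField.cmp_congr G _ hFx e1).trans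
        (GrothLib.GrpSchField.cmp_inv_right' G (y ≫ γ) x hxy _)
    · rw [Category.assoc, hF'y, Category.id_comp]; exact hFy
  have hinv' : F' ≫ F = 𝟙 _ := by
    apply pullback.hom_ext
    · rw [Category.assoc, hFx, Category.id_comp, GrothLib.GrpSchField.comp_cmp]
      exact (GrothLib.GrpSchField.cmp_congr G _ hF'x e2).trans
        (GrothLib.GrpSchField.cmp_inv_right G (y' ≫ γ) x' hxy'.symm hxy'')
    · rw [Category.assoc, hFy, Category.id_comp]; exact hF'y
  let m : Spec k ⟶ pullback G.s a := pullback.lift α (𝟙 _) (Category.id_comp _).symm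
  let c : ↥(Spec k) := IsLocalRing.closedPoint k
  have hαc : α c = r := by
    rw [Scheme.Hom.comp_apply, show z c = q from Scheme.fromSpecResidueField_apply q _, hq]
  have hβc : β c = r' := by
    rw [Scheme.Hom.comp_apply, show z c = q from Scheme.fromSpecResidueField_apply q _, hq']
  have hmF : m ≫ F ≫ x' = β := by
    rw [hFx, GrothLib.GrpSchField.comp_cmp]
    have h1 : α ≫ G.s = (α ≫ G.i) ≫ G.t := by rw [Category.assoc α G.i G.t, G.i_t]
    refine (GrothLib.GrpSchField.cmp_congr G _ (pullback.lift_fst _ _ _)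
      ((pullback.lift_snd_assoc _ _ _ _).trans (Category.id_comp _))).trans ?_
    refine (G.assoc α (α ≫ G.i) β h1 h0).symm.trans ?_
    refine (GrothLib.GrpSchField.cmp_congr G _ (G.comp_i α) rfl).trans ?_
    refine (GrothLib.GrpSchField.cmp_congr G _ ?_ rfl).trans (G.e_comp β)
    rw [← Category.assoc, hαβ, Category.assoc]
  refine ⟨k, inferInstance, a, b, ⟨F, F', hinv, hinv'⟩, m c, ?_, ?_, hFy, ?_, ?_⟩
  · show (α ≫ G.s) c = _
    rw [Scheme.Hom.comp_apply, hαc]
  · show (β ≫ G.s) c = _
    rw [Scheme.Hom.comp_apply, hβc]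
  · rw [← Scheme.Hom.comp_apply, pullback.lift_fst, hαc]
  · show x' (F (m c)) = r'
    rw [← Scheme.Hom.comp_apply, ← Scheme.Hom.comp_apply, hmF, hβc]

end Groth.Agent.S7498
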