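import Groth.Statements.S7499
import Groth.Agent.Lib.Affine25.General
import Groth.Agent.Lib.GrpdQuot.Points
-- import your own Groth.Agent.* helpers here

set_option autoImplicit false
universe u
open CategoryTheory CategoryTheory.Limits AlgebraicGeometry
open Grpd

namespace Groth.Agent.S7499


open GrothLib.GrpdQuot (sat subset_sat preimage_sat exists_comp_pt exists_inv_pt)


/-- Let (U, R, s, t, c) be a groupoid scheme over S with s and t integral, and g : U' -> U an integral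
morphism such that every R-orbit of U meets the image of g. Let R' = (U' x_(g,U,t) R) x_(s pr, U, g)
U' be the restriction of R to U', with t' the projection to the first factor U' and s' the
projection to the last. If u' is a point of U' contained in an affine open W' of U' with t'^{-1}(W')
= s'^{-1}(W'), then g(u') is contained in an affine open W of U with s^{-1}(W) = t^{-1}(W). (A
groupoid scheme carries U, R, s, t, c, e, i over S with the groupoid axioms on T-points; c is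
defined on the fibre product of s and t and sends a pair (a, b) with s(a) = t(b) to a composed with
b.) -/
theorem result (S : Scheme.{u}) (G : Grpd.GroupoidScheme S) [IsIntegralHom G.s] [IsIntegralHom G.t] (U' : Scheme.{u}) (g : U' ⟶ G.U) [IsIntegralHom g] (horb : ∀ u : G.U, ∃ r : G.R, G.s r = u ∧ G.t r ∈ Set.range ⇑g) (u' : U') (W' : U'.Opens) (hW' : IsAffineOpen W') (hu' : u' ∈ W') (hinv : (pullback.fst (pullback.snd g G.t ≫ G.s) g ≫ pullback.fst g G.t) ⁻¹ᵁ W' = (pullback.snd (pullback.snd g G.t ≫ G.s) g) ⁻¹ᵁ W') : ∃ W : G.U.Opens, IsAffineOpen W ∧ g u' ∈ W ∧ G.s ⁻¹ᵁ W = G.t ⁻¹ᵁ W := by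
  classical
  let C : Set G.U := sat G (g '' (W' : Set U')ᶜ)
  have hC : IsClosed C := G.t.isClosedMap _ ((g.isClosedMap _ W'.2.isClosed_compl).preimage G.s.continuous)
  let W : G.U.Opens := ⟨Cᶜ, hC.isOpen_compl⟩
  have hWinv : G.s ⁻¹ᵁ W = G.t ⁻¹ᵁ W := by
    ext1
    change ⇑G.s ⁻¹' Cᶜ = ⇑G.t ⁻¹' Cᶜ
    rw [Set.preimage_compl, Set.preimage_compl, preimage_sat]
  have hkey : ∀ x : U', g x ∈ W ↔ x ∈ W' := by
    refine fun x => ⟨fun h => ?_, fun h hC' => ?_⟩
    · by_contra hx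
      exact h (subset_sat G _ ⟨x, hx, rfl⟩)
    · obtain ⟨r, ⟨y, hy, hyr⟩, hrx⟩ := hC'
      obtain ⟨z, hz₁, hz₂⟩ := Scheme.Pullback.exists_preimage_pullback (f := g) (g := G.t) x r hrx.symm
      obtain ⟨p, hp₁, hp₂⟩ := Scheme.Pullback.exists_preimage_pullback (f := pullback.snd g G.t ≫ G.s) (g := g)
        z y (by rw [Scheme.Hom.comp_apply, hz₂]; exact hyr.symm)
      have h1 : p ∈ (pullback.fst (pullback.snd g G.t ≫ G.s) g ≫ pullback.fst g G.t) ⁻¹ᵁ W' := by
        show (pullback.fst (pullback.snd g G.t ≫ G.s) g ≫ pullback.fst g G.t) p ∈ W'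
        rw [Scheme.Hom.comp_apply, hp₁, hz₁]
        exact h
      rw [hinv] at h1
      exact hy (hp₂ ▸ h1)
  refine ⟨W, ?_, (hkey u').2 hu', hWinv⟩
  have hg : g ⁻¹ᵁ W = W' := by ext x; exact hkey x
  haveI : IsAffine (g ⁻¹ᵁ W).toScheme := hg ▸ hW'
  let sW : (G.s ⁻¹ᵁ W).toScheme ⟶ W.toScheme := G.s ∣_ W
  let tW : (G.s ⁻¹ᵁ W).toScheme ⟶ W.toScheme := (G.R.isoOfEq hWinv).hom ≫ (G.t ∣_ W)
  let gW : (g ⁻¹ᵁ W).toScheme ⟶ W.toScheme := g ∣_ W
  haveI : IsIntegralHom sW := MorphismProperty.of_isPullback (isPullback_morphismRestrict G.s W).flip ‹_›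
  haveI : IsIntegralHom gW := MorphismProperty.of_isPullback (isPullback_morphismRestrict g W).flip ‹_›
  haveI : IsIntegralHom (G.t ∣_ W) := MorphismProperty.of_isPullback (isPullback_morphismRestrict G.t W).flip ‹_›
  haveI : IsIntegralHom tW := inferInstance
  let π : pullback gW sW ⟶ W.toScheme := pullback.snd gW sW ≫ tW
  haveI : IsAffine (pullback gW sW) := isAffine_of_isAffineHom (pullback.fst gW sW)
  haveI : Surjective π := ⟨fun w => by
    obtain ⟨r, hrs, x, hxr⟩ := horb w.1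
    obtain ⟨r', hr't, hr's⟩ := exists_inv_pt G r
    have hxW : x ∈ g ⁻¹ᵁ W := by
      show g x ∈ W
      rw [hxr]
      have : r ∈ G.s ⁻¹ᵁ W := show G.s r ∈ W from hrs.symm ▸ w.2
      rw [hWinv] at this
      exact this
    have hr'W : r' ∈ G.s ⁻¹ᵁ W := show G.s r' ∈ W from hr's.symm ▸ hxr ▸ hxW
    obtain ⟨q, hq₁, hq₂⟩ := Scheme.Pullback.exists_preimage_pullback (f := gW) (g := sW) ⟨x, hxW⟩ ⟨r', hr'W⟩
      (Subtype.ext ((morphismRestrict_base_coe _ _ _).trans (hxr.trans (hr's.symm.trans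
        (morphismRestrict_base_coe G.s W ⟨r', hr'W⟩).symm))))
    refine ⟨q, W.ι.isOpenEmbedding.injective ?_⟩
    rw [Scheme.Hom.comp_apply, hq₂]
    show ((G.R.isoOfEq hWinv).hom ≫ (G.t ∣_ W) ≫ W.ι) ⟨r', hr'W⟩ = W.ι w
    rw [morphismRestrict_ι, Scheme.isoOfEq_hom_ι_assoc]
    exact hr't.trans hrs⟩
  haveI : UniversallyClosed π := inferInstance
  exact GrothLib.Affine25.isAffine_of_surjective_universallyClosed π


end Groth.Agent.S7499
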