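import Groth.Statements.S7500
import Groth.Agent.Lib.GrpdQuot.Points
-- import your own Groth.Agent.* helpers here

set_option autoImplicit false
universe u
open CategoryTheory CategoryTheory.Limits AlgebraicGeometry
open Grpd

namespace Groth.Agent.S7500

/-- Let (U, R, s, t, c) be a groupoid scheme over S and G -> U its stabilizer group scheme (the base
change of j = (t, s) along the diagonal). The action of G on R by composition, base changed to G_0 =
G x_(U, pr_0) (U x_S U), makes R a pseudo G_0-torsor over U x_S U. Concretely: let α : G x_(U, t) R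
-> R x_(s, U, t) R be the morphism with components (γ viewed in R, r) and β : G x_(U, t) R -> R
x_(j, U x_S U, j) R the morphism with components (c ∘ α, r); then β is an isomorphism. (A groupoid
scheme carries U, R, s, t, c, e, i over S with the groupoid axioms on T-points; c is defined on the
fibre product of s and t and sends a pair (a, b) with s(a) = t(b) to a composed with b.) -/
theorem result (S : Scheme.{u}) (G : Grpd.GroupoidScheme S) (α : pullback G.stabilizerToU G.t ⟶ pullback G.s G.t) (hα₁ : α ≫ pullback.fst G.s G.t = pullback.fst G.stabilizerToU G.t ≫ pullback.fst G.j G.diag) (hα₂ : α ≫ pullback.snd G.s G.t = pullback.snd G.stabilizerToU G.t) (β : pullback G.stabilizerToU G.t ⟶ pullback G.j G.j) (hβ₁ : β ≫ pullback.fst G.j G.j = α ≫ G.c) (hβ₂ : β ≫ pullback.snd G.j G.j = pullback.snd G.stabilizerToU G.t) : IsIso β := by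
  unfold Grpd.GroupoidScheme.stabilizerToU Grpd.GroupoidScheme.stabilizer at *
  have jt : G.j ≫ pullback.fst G.pU G.pU = G.t := pullback.lift_fst _ _ _
  have js : G.j ≫ pullback.snd G.pU G.pU = G.s := pullback.lift_snd _ _ _
  have dt : G.diag ≫ pullback.fst G.pU G.pU = 𝟙 G.U := pullback.lift_fst _ _ _
  have ds : G.diag ≫ pullback.snd G.pU G.pU = 𝟙 G.U := pullback.lift_snd _ _ _
  let g := pullback.fst (pullback.snd G.j G.diag) G.t ≫ pullback.fst G.j G.diag
  let r := pullback.snd (pullback.snd G.j G.diag) G.t
  have hgj : g ≫ G.j = r ≫ G.t ≫ G.diag := by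
    simp only [g, r, Category.assoc]
    rw [pullback.condition, ← Category.assoc, ← Category.assoc,
      show pullback.fst (pullback.snd G.j G.diag) G.t ≫ pullback.snd G.j G.diag = pullback.snd (pullback.snd G.j G.diag) G.t ≫ G.t from
        pullback.condition]
  have hgt : g ≫ G.t = r ≫ G.t := by
    have := congrArg (· ≫ pullback.fst G.pU G.pU) hgj
    simpa [Category.assoc, jt, js, dt, ds] using this
  have hgs : g ≫ G.s = r ≫ G.t := by
    have := congrArg (· ≫ pullback.snd G.pU G.pU) hgj
    simpa [Category.assoc, jt, js, dt, ds] using this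
  have hα : α = pullback.lift g r hgs := pullback.hom_ext (by rw [hα₁, pullback.lift_fst])
    (by rw [hα₂, pullback.lift_snd])
  have hαc : α ≫ G.c = GrothLib.GrpSchField.cmp G g r hgs := by rw [hα]
  let a := pullback.fst G.j G.j
  let b := pullback.snd G.j G.j
  have hab : a ≫ G.j = b ≫ G.j := pullback.condition
  have hs : a ≫ G.s = b ≫ G.s := by
    have := congrArg (· ≫ pullback.snd G.pU G.pU) hab
    simpa [Category.assoc, jt, js] using this
  have ht : a ≫ G.t = b ≫ G.t := by
    have := congrArg (· ≫ pullback.fst G.pU G.pU) hab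
    simpa [Category.assoc, jt, js] using this
  have hbi : a ≫ G.s = (b ≫ G.i) ≫ G.t := by rw [Category.assoc, G.i_t, hs]
  let d := GrothLib.GrpSchField.cmp G a (b ≫ G.i) hbi
  have hds : d ≫ G.s = b ≫ G.t := by rw [GrothLib.GrpdQuot.cmp_s, Category.assoc, G.i_s]
  have hdt : d ≫ G.t = b ≫ G.t := by rw [GrothLib.GrpdQuot.cmp_t, ht]
  have hdj : d ≫ G.j = (b ≫ G.t) ≫ G.diag := by
    apply pullback.hom_ext
    · simp only [Category.assoc, jt, dt, Category.comp_id]
      exact hdt
    · simp only [Category.assoc, js, ds, Category.comp_id]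
      exact hds
  let δ : pullback G.j G.j ⟶ pullback (pullback.snd G.j G.diag) G.t :=
    pullback.lift (pullback.lift d (b ≫ G.t) hdj) b (pullback.lift_snd _ _ _)
  refine ⟨δ, ?_, ?_⟩
  · have hβb : β ≫ b = r := hβ₂
    have hβa : β ≫ a = GrothLib.GrpSchField.cmp G g r hgs := hβ₁.trans hαc
    apply pullback.hom_ext
    · rw [Category.id_comp, Category.assoc, pullback.lift_fst]
      apply pullback.hom_ext
      · rw [Category.assoc, pullback.lift_fst, GrothLib.GrpSchField.comp_cmp,
          GrothLib.GrpSchField.cmp_congr G _ hβa (by rw [← Category.assoc, hβb])]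
        exact GrothLib.GrpSchField.cmp_inv_right' G r g hgs _
      · rw [Category.assoc, pullback.lift_snd, ← Category.assoc, hβb]
        exact pullback.condition.symm
    · rw [Category.id_comp, Category.assoc, pullback.lift_snd]
      exact hβb
  · apply pullback.hom_ext
    · rw [Category.id_comp, Category.assoc, hβ₁, hαc, GrothLib.GrpSchField.comp_cmp]
      refine (GrothLib.GrpSchField.cmp_congr G _ (α' := d) (β' := b) ?_ ?_).trans
        (GrothLib.GrpSchField.cmp_inv_right G b a hs.symm hbi)
      · simp only [g, δ]
        rw [← Category.assoc, pullback.lift_fst, pullback.lift_fst]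
      · exact pullback.lift_snd _ _ _
    · rw [Category.id_comp, Category.assoc, hβ₂]
      exact pullback.lift_snd _ _ _

end Groth.Agent.S7500
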