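import Groth.Statements.S7502
import Groth.Agent.Lib.FTDesc.Basic
import Groth.Agent.Lib.QCohDesc.Basic
import Groth.Agent.Lib.VA.QCohPullback
import Groth.Agent.Lib.QCoh.Abelian
import Groth.Agent.Lib.QCoh.Coherent

set_option autoImplicit false
universe u
open CategoryTheory CategoryTheory.Limits AlgebraicGeometry
open Coh

namespace Groth.Agent.S7502

/-- Let f : Y -> X be a morphism of schemes which is quasi-compact, quasi-separated, flat and
surjective, with X and Y locally Noetherian. Let F be a quasi-coherent O_X-module, G a coherent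
O_Y-module and φ : G -> f^*F an injective map of O_Y-modules. Then the O_X-module F ∩ f_*G, defined
as the fibre product of the adjunction unit F -> f_*f^*F with f_*φ : f_*G -> f_*f^*F, is coherent.
('Coherent' is quasi-coherent of finite type, the usual notion on locally Noetherian schemes.) -/
theorem result {X Y : Scheme.{u}} (f : Y ⟶ X) [QuasiCompact f] [QuasiSeparated f] [Flat f] [Surjective f] [IsLocallyNoetherian X] [IsLocallyNoetherian Y] (F : X.Modules) (hF : Coh.IsQCoh F) (G : Y.Modules) (hG : Coh.IsCoh G) (φ : G ⟶ (Scheme.Modules.pullback f).obj F) [Mono φ] : Coh.IsCoh (Limits.pullback ((Scheme.Modules.pullbackPushforwardAdjunction f).unit.app F) ((Scheme.Modules.pushforward f).map φ)) := by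
  let adj := Scheme.Modules.pullbackPushforwardAdjunction f
  let a : F ⟶ (Scheme.Modules.pushforward f).obj ((Scheme.Modules.pullback f).obj F) := adj.unit.app F
  let b := (Scheme.Modules.pushforward f).map φ
  let P : X.Modules := Limits.pullback a b
  haveI : F.IsQuasicoherent := hF
  haveI hFY : ((Scheme.Modules.pullback f).obj F).IsQuasicoherent := GrothLib.VA.isQCoh_pullback f hF
  haveI : G.IsQuasicoherent := hG.1
  haveI h1 : ((Scheme.Modules.pushforward f).obj ((Scheme.Modules.pullback f).obj F)).IsQuasicoherent :=
    GrothLib.QCoh.isQuasicoherent_pushforward f _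
  haveI h2 : ((Scheme.Modules.pushforward f).obj G).IsQuasicoherent := GrothLib.QCoh.isQuasicoherent_pushforward f _
  haveI := adj.isRightAdjoint
  haveI hb : Mono b := (Scheme.Modules.pushforward f).map_mono φ
  haveI h3 : (Limits.cokernel b).IsQuasicoherent := GrothLib.QCoh.isQuasicoherent_cokernel b
  haveI h4 : (Limits.kernel (a ≫ Limits.cokernel.π b)).IsQuasicoherent := GrothLib.QCoh.isQuasicoherent_kernel _
  let hom : P ⟶ Limits.kernel (a ≫ Limits.cokernel.π b) := Limits.kernel.lift _ (Limits.pullback.fst a b)
    (by rw [← Category.assoc, Limits.pullback.condition, Category.assoc, Limits.cokernel.condition, Limits.comp_zero])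
  let ι := Limits.kernel.ι (a ≫ Limits.cokernel.π b)
  let inv' : Limits.kernel (a ≫ Limits.cokernel.π b) ⟶ P := Limits.pullback.lift ι
    (Abelian.monoLift b (ι ≫ a) (by rw [Category.assoc]; exact Limits.kernel.condition _))
    (Abelian.monoLift_comp b _ _).symm
  haveI : IsIso hom := ⟨inv',
    by rw [← cancel_mono (Limits.pullback.fst a b), Category.assoc, Limits.pullback.lift_fst, Category.id_comp,
      Limits.kernel.lift_ι],
    by rw [← cancel_mono ι, Category.assoc, Limits.kernel.lift_ι, Limits.pullback.lift_fst, Category.id_comp]⟩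
  haveI hP : P.IsQuasicoherent := GrothLib.QCoh.isQuasicoherent_of_iso (asIso hom).symm
  haveI hPY : ((Scheme.Modules.pullback f).obj P).IsQuasicoherent := GrothLib.VA.isQCoh_pullback f hP
  let ψ : (Scheme.Modules.pullback f).obj P ⟶ G := (adj.homEquiv _ _).symm (Limits.pullback.snd a b)
  have hψ : ψ ≫ φ = (Scheme.Modules.pullback f).map (Limits.pullback.fst a b) := by
    rw [← Adjunction.homEquiv_naturality_right_symm, show Limits.pullback.snd a b ≫ (Scheme.Modules.pushforward f).map φ =
      Limits.pullback.fst a b ≫ a from Limits.pullback.condition.symm, Adjunction.homEquiv_naturality_left_symm]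
    rw [show (adj.homEquiv F _).symm a = 𝟙 _ from by
      rw [Adjunction.homEquiv_counit]; exact adj.left_triangle_components F, Category.comp_id]
  haveI : Mono ((Scheme.Modules.pullback f).map (Limits.pullback.fst a b)) :=
    GrothLib.QCohDesc.mono_pullback_map f _
  haveI : Mono ψ := mono_of_mono_fac hψ
  exact ⟨hP, GrothLib.FTDesc.isFT_of_pullback (g := f) (M := P) (GrothLib.QCoh.isFiniteType_of_mono ψ hG.2)⟩

end Groth.Agent.S7502
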