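import Groth.Statements.S7505
import Groth.Agent.Lib.GrpSchField.GrpdField
import Mathlib.AlgebraicGeometry.Morphisms.UniversallyOpen
import Mathlib.AlgebraicGeometry.Morphisms.Etale
-- import your own Groth.Agent.* helpers here

set_option autoImplicit false
universe u
open CategoryTheory CategoryTheory.Limits AlgebraicGeometry
open Grpd

namespace Groth.Agent.S7505

open CategoryTheory.Limits GrothLib.GrpSchField in
/-- `r (r⁻¹ x) = x`. -/
theorem cmp_cancel_left {S : Scheme.{u}} (G : Grpd.GroupoidScheme S) {T : Scheme.{u}} (r x : T ⟶ G.R)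
    (h : (r ≫ G.i) ≫ G.s = x ≫ G.t) (h' : r ≫ G.s = GrothLib.GrpSchField.cmp G (r ≫ G.i) x h ≫ G.t) :
    GrothLib.GrpSchField.cmp G r (GrothLib.GrpSchField.cmp G (r ≫ G.i) x h) h' = x := by
  have k1 : r ≫ G.s = (r ≫ G.i) ≫ G.t := by rw [Category.assoc, G.i_t]
  refine (G.assoc r (r ≫ G.i) x k1 h).symm.trans ?_
  refine (cmp_congr G _ ((G.comp_i r).trans ?_) rfl).trans (G.e_comp x)
  rw [← Category.assoc, ← Category.assoc, ← h, Category.assoc r G.i G.s, G.i_s]

open CategoryTheory.Limits GrothLib.GrpSchField in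
/-- Conjugation makes the stabilizer an equivariant scheme over the objects. -/
theorem exists_isPullback_conj {S : Scheme.{u}} (G : Grpd.GroupoidScheme S) :
    ∃ e, IsPullback e (pullback.snd G.stabilizerToU G.t) G.stabilizerToU G.s := by
  let p1 : G.stabilizer ⟶ G.R := pullback.fst G.j G.diag
  let p2 : G.stabilizer ⟶ G.U := pullback.snd G.j G.diag
  have ext : ∀ {T : Scheme.{u}} (f g : T ⟶ G.stabilizer), f ≫ p1 = g ≫ p1 → f ≫ p2 = g ≫ p2 → f = g :=
    fun {T} f g h1 h2 => pullback.hom_ext (f := G.j) (g := G.diag) h1 h2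
  have hp : p1 ≫ G.j = p2 ≫ G.diag := pullback.condition
  have hs : p1 ≫ G.s = p2 := by
    have h1 : G.j ≫ pullback.snd G.pU G.pU = G.s := pullback.lift_snd _ _ _
    have h2 : G.diag ≫ pullback.snd G.pU G.pU = 𝟙 G.U := pullback.lift_snd _ _ _
    rw [← h1, reassoc_of% hp, h2, Category.comp_id]
  have ht : p1 ≫ G.t = p2 := by
    have h1 : G.j ≫ pullback.fst G.pU G.pU = G.t := pullback.lift_fst _ _ _
    have h2 : G.diag ≫ pullback.fst G.pU G.pU = 𝟙 G.U := pullback.lift_fst _ _ _
    rw [← h1, reassoc_of% hp, h2, Category.comp_id]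
  have mk : ∀ {T : Scheme.{u}} (γ : T ⟶ G.R), γ ≫ G.s = γ ≫ G.t →
      ∃ δ : T ⟶ G.stabilizer, δ ≫ p1 = γ ∧ δ ≫ p2 = γ ≫ G.s := fun {T} γ hγ => by
    refine ⟨pullback.lift γ (γ ≫ G.s) ?_, pullback.lift_fst _ _ _, pullback.lift_snd _ _ _⟩
    apply pullback.hom_ext
    · refine (Category.assoc _ _ _).trans ((congrArg (γ ≫ ·) (pullback.lift_fst _ _ _)).trans
        (hγ.symm.trans ?_))
      exact (Category.comp_id _).symm.trans ((congrArg ((γ ≫ G.s) ≫ ·)
        (pullback.lift_fst _ _ _).symm).trans (Category.assoc _ _ _).symm)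
    · refine (Category.assoc _ _ _).trans ((congrArg (γ ≫ ·) (pullback.lift_snd _ _ _)).trans ?_)
      exact (Category.comp_id _).symm.trans ((congrArg ((γ ≫ G.s) ≫ ·)
        (pullback.lift_snd _ _ _).symm).trans (Category.assoc _ _ _).symm)
  let q := pullback.fst G.stabilizerToU G.t
  let r := pullback.snd G.stabilizerToU G.t
  have hq : q ≫ p2 = r ≫ G.t := pullback.condition
  have a1 : (q ≫ p1) ≫ G.s = r ≫ G.t := by rw [Category.assoc, hs, hq]
  let γr := GrothLib.GrpSchField.cmp G (q ≫ p1) r a1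
  have a2 : (r ≫ G.i) ≫ G.s = γr ≫ G.t := by
    rw [Category.assoc, G.i_s, G.comp_t, Category.assoc, ht, hq]
  let δ := GrothLib.GrpSchField.cmp G (r ≫ G.i) γr a2
  have hδs : δ ≫ G.s = r ≫ G.s := (G.comp_s _ _ a2).trans (G.comp_s _ _ a1)
  have hδt : δ ≫ G.t = r ≫ G.s := by rw [G.comp_t, Category.assoc, G.i_t]
  obtain ⟨e, he1, he2⟩ := mk δ (hδs.trans hδt.symm)
  have he : e ≫ G.stabilizerToU = r ≫ G.s := he2.trans hδs
  have key : ∀ {T : Scheme.{u}} (x : T ⟶ G.stabilizer) (y : T ⟶ G.R), x ≫ p2 = y ≫ G.s →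
      ∃ z : T ⟶ pullback G.stabilizerToU G.t, z ≫ e = x ∧ z ≫ r = y ∧
        ∀ z' : T ⟶ pullback G.stabilizerToU G.t, z' ≫ e = x → z' ≫ r = y → z' = z := by
    intro T x y hxy
    have hys : y ≫ G.s = (y ≫ G.i) ≫ G.t := by rw [Category.assoc, G.i_t]
    have b1 : (x ≫ p1) ≫ G.s = (y ≫ G.i) ≫ G.t := by rw [Category.assoc, hs, hxy, hys]
    let xi := GrothLib.GrpSchField.cmp G (x ≫ p1) (y ≫ G.i) b1
    have b2 : y ≫ G.s = xi ≫ G.t := by rw [G.comp_t, Category.assoc, ht, hxy]
    let ε := GrothLib.GrpSchField.cmp G y xi b2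
    have hεs : ε ≫ G.s = y ≫ G.t := by
      rw [(G.comp_s _ _ b2), (G.comp_s _ _ b1), Category.assoc, G.i_s]
    have hεt : ε ≫ G.t = y ≫ G.t := G.comp_t _ _ b2
    obtain ⟨g, hg1, hg2⟩ := mk ε (hεs.trans hεt.symm)
    have hg : g ≫ G.stabilizerToU = y ≫ G.t := hg2.trans hεs
    refine ⟨pullback.lift g y hg, ?_, pullback.lift_snd _ _ _, fun z' hz1 hz2 => ?_⟩
    · have hl1 : pullback.lift g y hg ≫ q = g := pullback.lift_fst _ _ _
      have hl2 : pullback.lift g y hg ≫ r = y := pullback.lift_snd _ _ _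
      have e1 : (pullback.lift g y hg ≫ e) ≫ p1 = x ≫ p1 := by
        rw [Category.assoc, he1]
        refine (comp_cmp G _ _ _ a2).trans ?_
        have c1 : (y ≫ G.i) ≫ G.s = GrothLib.GrpSchField.cmp G ε y hεs ≫ G.t := by
          rw [Category.assoc, G.i_s, G.comp_t, hεt]
        refine (cmp_congr G _ (show pullback.lift g y hg ≫ r ≫ G.i = y ≫ G.i by
          rw [← Category.assoc, hl2]) ((comp_cmp G _ _ _ a1).trans
          (cmp_congr G _ (show pullback.lift g y hg ≫ q ≫ p1 = ε by
            rw [← Category.assoc, hl1, hg1]) hl2))).trans (show GrothLib.GrpSchField.cmp G (y ≫ G.i)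
            (GrothLib.GrpSchField.cmp G ε y hεs) c1 = x ≫ p1 from ?_)
        have c2 : xi ≫ G.s = y ≫ G.t := by rw [G.comp_s _ _ b1, Category.assoc, G.i_s]
        have hxi : GrothLib.GrpSchField.cmp G xi y c2 = x ≫ p1 :=
          cmp_inv_right G y (x ≫ p1) (by rw [Category.assoc, hs, hxy]) b1
        have c3 : (y ≫ G.i) ≫ G.s = y ≫ G.t := by rw [Category.assoc, G.i_s]
        have c4 : y ≫ G.s = (x ≫ p1) ≫ G.t := by rw [Category.assoc, ht, hxy]
        have c5 : (y ≫ G.i) ≫ G.s = GrothLib.GrpSchField.cmp G y (x ≫ p1) c4 ≫ G.t :=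
          c3.trans (G.comp_t _ _ c4).symm
        refine (cmp_congr G c1 rfl ((G.assoc y xi y b2 c2).trans
          (cmp_congr G _ rfl hxi))).trans (show GrothLib.GrpSchField.cmp G (y ≫ G.i)
            (GrothLib.GrpSchField.cmp G y (x ≫ p1) c4) c5 = x ≫ p1 from ?_)
        refine (G.assoc (y ≫ G.i) y (x ≫ p1) c3 c4).symm.trans ?_
        refine (cmp_congr G _ ((G.i_comp y).trans ?_) rfl).trans (G.e_comp (x ≫ p1))
        rw [← Category.assoc, c4, Category.assoc]
      apply ext
      · exact e1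
      · rw [← hs, ← Category.assoc, e1, Category.assoc]
    · refine pullback.hom_ext ?_ (hz2.trans (pullback.lift_snd _ _ _).symm)
      refine Eq.trans ?_ (pullback.lift_fst _ _ _).symm
      have e1 : (z' ≫ q) ≫ p1 = ε := by
        symm
        let γ' := (z' ≫ q) ≫ p1
        have d1 : γ' ≫ G.s = y ≫ G.t := by
          simp only [γ', Category.assoc, hs, hq]; rw [← Category.assoc, hz2]
        have d2 : (y ≫ G.i) ≫ G.s = GrothLib.GrpSchField.cmp G γ' y d1 ≫ G.t := by
          rw [Category.assoc, G.i_s, G.comp_t]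
          simp only [γ', Category.assoc, ht, hq]; rw [← Category.assoc, hz2]
        have hx : x ≫ p1 = GrothLib.GrpSchField.cmp G (y ≫ G.i)
            (GrothLib.GrpSchField.cmp G γ' y d1) d2 := by
          rw [← hz1, Category.assoc, he1]
          refine (comp_cmp G _ _ _ a2).trans ?_
          exact cmp_congr G _ (by rw [← Category.assoc, hz2]) ((comp_cmp G _ _ _ a1).trans
            (cmp_congr G _ (Category.assoc _ _ _).symm hz2))
        have d3 : GrothLib.GrpSchField.cmp G γ' y d1 ≫ G.s = (y ≫ G.i) ≫ G.t :=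
          (G.comp_s _ _ d1).trans hys
        have hxi : xi = GrothLib.GrpSchField.cmp G (y ≫ G.i) γ' (by
            rw [Category.assoc, G.i_s]; simp only [γ', Category.assoc, ht, hq]; rw [← Category.assoc, hz2]) := by
          refine (cmp_congr G b1 hx rfl).trans ?_
          refine (G.assoc (y ≫ G.i) _ (y ≫ G.i) d2 d3).trans ?_
          exact cmp_congr G _ rfl (cmp_inv_right' G y γ' d1 d3)
        refine (cmp_congr G b2 rfl hxi).trans ?_
        exact cmp_cancel_left G y γ' _ _
      have e2 : g ≫ p1 = ε := hg1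
      apply ext
      · exact e1.trans e2.symm
      · rw [← hs, ← Category.assoc, e1, ← e2, Category.assoc]
  refine ⟨e, IsPullback.of_isLimit' ⟨he⟩ (PullbackCone.isLimitAux _
    (fun c => (key c.fst c.snd c.condition).choose)
    (fun c => (key c.fst c.snd c.condition).choose_spec.1)
    (fun c => (key c.fst c.snd c.condition).choose_spec.2.1)
    fun c m hm => (key c.fst c.snd c.condition).choose_spec.2.2 m
      (hm WalkingCospan.left) (hm WalkingCospan.right))⟩

open CategoryTheory.Limits in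
/-- The largest open over which an equivariant scheme over `U` has a property local for a topology is
invariant. -/
theorem invariant_of_cover {S : Scheme.{u}} (G : Grpd.GroupoidScheme S) {X : Scheme.{u}} (f : X ⟶ G.U)
    (e : pullback f G.t ⟶ X) (he : IsPullback e (pullback.snd f G.t) f G.s)
    (Q : MorphismProperty Scheme.{u}) [Q.IsStableUnderBaseChange] [Q.IsStableUnderComposition]
    (hQo : ∀ {A B : Scheme.{u}} (f : A ⟶ B), IsOpenImmersion f → Q f)
    (hQu : ∀ {A B : Scheme.{u}} (f : A ⟶ B), Q f → UniversallyOpen f)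
    (P : MorphismProperty Scheme.{u}) [P.IsLocalAtTarget (Scheme.precoverage Q)]
    (hs : Presieve.singleton G.s ∈ Scheme.precoverage Q G.U)
    (ht : Presieve.singleton G.t ∈ Scheme.precoverage Q G.U) (W : G.U.Opens)
    (hW : P (f ∣_ W)) (hmax : ∀ W' : G.U.Opens, P (f ∣_ W') → W' ≤ W) :
    G.s ⁻¹ᵁ W = G.t ⁻¹ᵁ W := by
  obtain ⟨hs1, hs2⟩ := (Scheme.singleton_mem_precoverage_iff _ _).mp hs
  obtain ⟨ht1, ht2⟩ := (Scheme.singleton_mem_precoverage_iff _ _).mp ht
  suffices H : G.s ⁻¹ᵁ W ≤ G.t ⁻¹ᵁ W by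
    refine le_antisymm H fun x hx => ?_
    have h2 : G.i x ∈ G.t ⁻¹ᵁ W := H (show G.s (G.i x) ∈ W by
      rw [← Scheme.Hom.comp_apply, G.i_s]; exact hx)
    show G.s x ∈ W
    rw [← G.i_t, Scheme.Hom.comp_apply]
    exact h2
  let O := G.s ⁻¹ᵁ W
  have := hQu _ ht2
  let W' : G.U.Opens := ⟨G.t '' (O : Set _), G.t.isOpenMap _ O.isOpen⟩
  have hle : O ≤ G.t ⁻¹ᵁ W' := fun x hx => ⟨x, hx, rfl⟩
  let r : (O : Scheme.{u}) ⟶ W' := G.R.homOfLE hle ≫ G.t ∣_ W'
  have hr : r ≫ W'.ι = O.ι ≫ G.t := by
    simp only [r, Category.assoc, morphismRestrict_ι, Scheme.homOfLE_ι_assoc]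
  have sqO := IsPullback.of_hasPullback (pullback.snd f G.t) O.ι
  have hP : P (pullback.snd (pullback.snd f G.t) O.ι) := by
    have big := sqO.paste_horiz he
    rw [← morphismRestrict_ι G.s W] at big
    have sq := IsPullback.of_right' big (isPullback_morphismRestrict f W).flip
    rw [← sq.isoPullback_hom_snd, P.cancel_left_of_respectsIso]
    refine MorphismProperty.IsLocalAtTarget.pullbackSnd (K := Scheme.precoverage Q)
      (R := Presieve.singleton (G.s ∣_ W))
      ((Scheme.singleton_mem_precoverage_iff _ _).mpr ⟨fun w => ?_, ?_⟩)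
      (Presieve.singleton_self _) hW
    · obtain ⟨x, hx⟩ := hs1 w.1
      refine ⟨⟨x, show G.s x ∈ W by rw [hx]; exact w.2⟩, W.ι.isOpenEmbedding.injective ?_⟩
      rw [← Scheme.Hom.comp_apply, morphismRestrict_ι, Scheme.Hom.comp_apply]
      exact hx
    · exact Q.of_isPullback (isPullback_morphismRestrict G.s W).flip hs2
  have big2 := sqO.paste_horiz (IsPullback.of_hasPullback f G.t)
  rw [← hr] at big2
  have sq2 := IsPullback.of_right' big2 (isPullback_morphismRestrict f W').flip
  have hW' : P (f ∣_ W') := by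
    refine MorphismProperty.IsLocalAtTarget.of_forall_pullbackSnd (K := Scheme.precoverage Q)
      (R := Presieve.singleton r)
      ((Scheme.singleton_mem_precoverage_iff _ _).mpr ⟨?_, ?_⟩) fun {V g} _ hg => ?_
    · rintro ⟨_, x, hx, rfl⟩
      refine ⟨⟨x, hx⟩, W'.ι.isOpenEmbedding.injective ?_⟩
      rw [← Scheme.Hom.comp_apply, hr, Scheme.Hom.comp_apply]
      rfl
    · exact Q.comp_mem _ _ (hQo _ inferInstance)
        (Q.of_isPullback (isPullback_morphismRestrict G.t W').flip ht2)
    · cases hg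
      rwa [← sq2.isoPullback_hom_snd, P.cancel_left_of_respectsIso] at hP
  exact fun x hx => hmax W' hW' ⟨x, hx, rfl⟩

/-- Let (U, R, s, t, c) be a groupoid scheme over S with stabilizer group scheme G -> U, let τ be the
étale, smooth or fppf topology (given as the corresponding precoverage K), and let P be a property
of scheme morphisms that is τ-local on the target. (The published statement also allows the syntomic
topology; this row omits it.) Assume {s : R -> U} and {t : R -> U} are τ-coverings. If W is the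
largest open subscheme of U such that the restriction G_W -> W of the stabilizer has P, then W is
R-invariant: s^{-1}(W) = t^{-1}(W). (A groupoid scheme carries U, R, s, t, c, e, i over S with the
groupoid axioms on T-points; c is defined on the fibre product of s and t and sends a pair (a, b)
with s(a) = t(b) to a composed with b.) -/
theorem result (S : Scheme.{u}) (G : Grpd.GroupoidScheme S) (K : Precoverage Scheme.{u}) (hK : K = Scheme.etalePrecoverage ∨ K = Scheme.precoverage @Smooth ∨ K = Scheme.fppfPrecoverage) (P : MorphismProperty Scheme.{u}) [P.IsLocalAtTarget K] (hs : Presieve.singleton G.s ∈ K G.U) (ht : Presieve.singleton G.t ∈ K G.U) (W : G.U.Opens) (hW : P (G.stabilizerToU ∣_ W)) (hmax : ∀ W' : G.U.Opens, P (G.stabilizerToU ∣_ W') → W' ≤ W) : G.s ⁻¹ᵁ W = G.t ⁻¹ᵁ W := by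
  obtain ⟨e, he⟩ := exists_isPullback_conj G
  rcases hK with rfl | rfl | rfl
  · have : P.IsLocalAtTarget (Scheme.precoverage @Etale) := ‹P.IsLocalAtTarget Scheme.etalePrecoverage›
    exact invariant_of_cover G G.stabilizerToU e he @Etale (fun f h => inferInstanceAs (Etale f))
      (fun f h => inferInstanceAs (UniversallyOpen f)) P hs ht W hW hmax
  · exact invariant_of_cover G G.stabilizerToU e he @Smooth (fun f h => inferInstanceAs (Smooth f))
      (fun f h => inferInstanceAs (UniversallyOpen f)) P hs ht W hW hmax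
  · have : P.IsLocalAtTarget (Scheme.precoverage (@Flat ⊓ @LocallyOfFinitePresentation)) :=
      ‹P.IsLocalAtTarget Scheme.fppfPrecoverage›
    exact invariant_of_cover G G.stabilizerToU e he (@Flat ⊓ @LocallyOfFinitePresentation)
      (fun f h => ⟨inferInstanceAs (Flat f), inferInstanceAs (LocallyOfFinitePresentation f)⟩)
      (fun f h => have := h.1; have := h.2; inferInstanceAs (UniversallyOpen f)) P hs ht W hW hmax

end Groth.Agent.S7505
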