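import Groth.Statements.S7509
import Groth.Agent.Lib.GrpdQuot.ImageGrpd
-- import your own Groth.Agent.* helpers here

set_option autoImplicit false
universe u
open CategoryTheory CategoryTheory.Limits AlgebraicGeometry
open Grpd

namespace Groth.Agent.S7509

/-- Let (U, R, s, t, c) be a groupoid scheme over S with U the spectrum of a field and R quasi-compact
(equivalently s, t quasi-compact), and let Z be the scheme-theoretic image of j = (t, s) : R -> U
x_S U. Then (U, Z, pr_0|_Z, pr_1|_Z, pr_02) is a groupoid scheme over S; stated as: there are a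
groupoid scheme G' over S and a morphism of groupoid schemes φ : (U, R, s, t, c) -> G' which is an
isomorphism on object schemes, such that j' : G'.R -> G'.U x_S G'.U is a closed immersion whose
kernel ideal sheaf equals the kernel ideal sheaf of j followed by the induced isomorphism U x_S U ->
G'.U x_S G'.U (so G'.R is the scheme-theoretic image of j, transported). (A groupoid scheme carries
U, R, s, t, c, e, i over S with the groupoid axioms on T-points; c is defined on the fibre product
of s and t and sends a pair (a, b) with s(a) = t(b) to a composed with b.) -/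
theorem result (S : Scheme.{u}) (G : Grpd.GroupoidScheme S) (k : Type u) [Field k] (eU : G.U ≅ Spec (CommRingCat.of k)) [CompactSpace G.R] : ∃ (G' : Grpd.GroupoidScheme S) (φ : Grpd.GroupoidScheme.Hom G G'), IsIso φ.fU ∧ IsClosedImmersion G'.j ∧ G'.j.ker = (G.j ≫ pullback.map G.pU G.pU G'.pU G'.pU φ.fU φ.fU (𝟙 S) ((Category.comp_id _).trans φ.fU_over.symm) ((Category.comp_id _).trans φ.fU_over.symm)).ker := by
  let f := GrothLib.GrpdQuot.toPair G
  have : IsIso f.fU := inferInstanceAs (IsIso (𝟙 G.U))
  have : QuasiSeparatedSpace ↥(pullback G.pU G.pU) := by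
    have : IsAffine G.U := IsAffine.of_isIso eU.hom
    let d := terminal.from G.U
    let m : pullback G.pU G.pU ⟶ pullback d d :=
      pullback.map _ _ _ _ (𝟙 _) (𝟙 _) (terminal.from S) (terminal.hom_ext _ _) (terminal.hom_ext _ _)
    have : Mono m := ⟨fun a b h => pullback.hom_ext
      (by
        have h1 := congrArg (fun e => e ≫ pullback.fst d d) h
        simp only [m, Category.assoc, pullback.lift_fst, Category.comp_id] at h1
        exact h1)
      (by
        have h1 := congrArg (fun e => e ≫ pullback.snd d d) h
        simp only [m, Category.assoc, pullback.lift_snd, Category.comp_id] at h1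
        exact h1)⟩
    have : IsSeparated m := inferInstance
    have : QuasiSeparated d := inferInstance
    exact quasiSeparatedSpace_of_quasiSeparated (m ≫ pullback.fst d d)
  have : QuasiCompact f.fR := quasiCompact_of_compactSpace G.j
  obtain ⟨Z, z, hz, e', he, i', hi, c', hc, φ, hφU, -, hk⟩ := GrothLib.GrpdQuot.exists_imageGrpd f eU
  let G' := GrothLib.GrpdQuot.closedSub (GrothLib.GrpdQuot.pairGrpd G.U G.pU) z e' he i' hi c' hc
  have hj : G'.j = z := by
    apply pullback.hom_ext
    · exact pullback.lift_fst _ _ _
    · exact pullback.lift_snd _ _ _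
  refine ⟨G', φ, ?_, ?_, ?_⟩
  · rw [hφU]; exact inferInstanceAs (IsIso (𝟙 G.U))
  · rw [hj]; exact hz
  · rw [hj]
    refine hk.trans (congrArg Scheme.Hom.ker ?_)
    apply pullback.hom_ext
    · refine Eq.trans ?_ (Category.assoc _ _ _).symm
      refine Eq.trans ?_ (congrArg (G.j ≫ ·) (pullback.lift_fst _ _ _)).symm
      exact Eq.trans
        (show G.j ≫ pullback.fst G.pU G.pU = G.j ≫ pullback.fst G.pU G.pU ≫ 𝟙 G.U by rw [Category.comp_id])
        (congrArg (fun x => G.j ≫ pullback.fst G.pU G.pU ≫ x) hφU).symm
    · refine Eq.trans ?_ (Category.assoc _ _ _).symm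
      refine Eq.trans ?_ (congrArg (G.j ≫ ·) (pullback.lift_snd _ _ _)).symm
      exact Eq.trans
        (show G.j ≫ pullback.snd G.pU G.pU = G.j ≫ pullback.snd G.pU G.pU ≫ 𝟙 G.U by rw [Category.comp_id])
        (congrArg (fun x => G.j ≫ pullback.snd G.pU G.pU ≫ x) hφU).symm

end Groth.Agent.S7509
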