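import Groth.Statements.S7513
import Groth.Agent.Lib.FittPush13.Basic
import Groth.Agent.Lib.GrpdQuot.Scheme
import Groth.Agent.Lib.Hilb26.Glue
-- import your own Groth.Agent.* helpers here

set_option autoImplicit false
universe u
open CategoryTheory CategoryTheory.Limits AlgebraicGeometry
open Grpd

namespace Groth.Agent.S7513


open GrothLib.FittPush13

theorem aux_iso {A B : Scheme.{u}} (a b : B ⟶ A) (I : A.IdealSheafData) (h : I.comap a = I.comap b) :
    ∃ φ : pullback a I.subschemeι ≅ pullback b I.subschemeι,
      φ.hom ≫ pullback.fst b I.subschemeι = pullback.fst a I.subschemeι := by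
  have key : ∀ (J : B.IdealSheafData), J = I.comap b →
      ∃ e : J.subscheme ≅ pullback b I.subschemeι, e.hom ≫ pullback.fst b I.subschemeι = J.subschemeι := by
    rintro J rfl
    exact ⟨I.comapIso b, I.comapIso_hom_fst b⟩
  obtain ⟨e, he⟩ := key _ h
  exact ⟨(I.comapIso a).symm ≪≫ e, by
    rw [Iso.trans_hom, Category.assoc, he, Iso.symm_hom, Scheme.IdealSheafData.comapIso_inv_subschemeι]⟩


/-- Let (U, R, s, t, c) be a groupoid scheme over S with s and t finite. Then there are closed
subschemes U = Z_0 ⊇ Z_1 ⊇ Z_2 ⊇ ..., each invariant under R, (given by quasi-coherent ideal sheaves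
I_0 = 0 ≤ I_1 ≤ I_2 ≤ ...) with empty intersection such that for every r the restriction of s over
the locally closed stratum Z_r minus Z_(r+1) (the open of the subscheme Z_r complementary to the
support of Z_(r+1)) is finite locally free of rank r + 1. R-invariance of Z_r is expressed as an
isomorphism between the pullbacks of s and of t along Z_r -> U compatible with the maps to R;
'finite locally free of rank n' is finite, flat, locally of finite presentation with constant rank
n. (A groupoid scheme carries U, R, s, t, c, e, i over S with the groupoid axioms on T-points; c is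
defined on the fibre product of s and t and sends a pair (a, b) with s(a) = t(b) to a composed with
b.) -/
theorem result (S : Scheme.{u}) (G : Grpd.GroupoidScheme S) [IsFinite G.s] [IsFinite G.t] : ∃ Z : ℕ → G.U.IdealSheafData, Z 0 = ⊥ ∧ Monotone Z ∧ (⋂ r, ((Z r).support : Set G.U)) = ∅ ∧ (∀ r, ∃ φ : pullback G.s (Z r).subschemeι ≅ pullback G.t (Z r).subschemeι, φ.hom ≫ pullback.fst G.t (Z r).subschemeι = pullback.fst G.s (Z r).subschemeι) ∧ ∀ r, Mor2.IsFinLocFreeOfDeg (r + 1) (pullback.snd G.s (((Z r).subschemeι ⁻¹ᵁ (Z (r + 1)).support.compl).ι ≫ (Z r).subschemeι)) := by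
  refine ⟨fitt G.s, fitt_zero G.s G.e_s, fitt_mono G.s, iInter_support_fitt G.s, fun r => ?_, fun r => ?_⟩
  · exact aux_iso G.s G.t _ ((comap_fitt G.s (IsPullback.of_hasPullback G.s G.s).flip r).trans
      (comap_fitt G.s (GrothLib.GrpdQuot.isPullback_divHom G).flip r).symm)
  · set ι' := ((fitt G.s r).subschemeι ⁻¹ᵁ (fitt G.s (r + 1)).support.compl).ι ≫ (fitt G.s r).subschemeι
      with hι
    refine isFinLocFreeOfDeg_of_fitt _ (r + 1) (fun k hk => ?_) ?_
    · rw [← comap_fitt G.s (IsPullback.of_hasPullback G.s ι') k, eq_bot_iff]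
      refine (Scheme.IdealSheafData.comap_mono ι' (fitt_mono G.s (Nat.lt_succ_iff.1 hk))).trans (le_of_eq ?_)
      show (fitt G.s r).comap (_ ≫ (fitt G.s r).subschemeι) = ⊥
      rw [Scheme.IdealSheafData.comap_comp, (GrothLib.Hilb26.comap_eq_bot_iff _ _).2
        (le_of_eq (Scheme.IdealSheafData.ker_subschemeι _).symm), Scheme.IdealSheafData.comap_bot]
    · rw [← comap_fitt G.s (IsPullback.of_hasPullback G.s ι') (r + 1),
        ← Scheme.IdealSheafData.support_eq_bot_iff, Scheme.IdealSheafData.support_comap]
      refine TopologicalSpace.Closeds.ext (Set.eq_empty_iff_forall_notMem.2 fun x hx => ?_)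
      exact x.2 hx


end Groth.Agent.S7513
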