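import Groth.Statements.S7518
import Groth.Agent.Lib.GrpSchField.GrpdDim
-- import your own Groth.Agent.* helpers here

set_option autoImplicit false
universe u
open CategoryTheory CategoryTheory.Limits AlgebraicGeometry
open Grpd

namespace Groth.Agent.S7518

/-- Let (U, R, s, t, c) be a groupoid scheme over S with U the spectrum of a field and s, t locally of
finite type. Then R is equidimensional: every irreducible component of R has Krull dimension equal
to dim R; and for every point r of R the local dimension of R at r (the infimum of the dimensions of
open neighbourhoods) equals dim R. (The equality of the transcendence degrees of κ(r) over s(k) and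
over t(k), and the dimension of the local rings at closed points, are not stated here.) (A groupoid
scheme carries U, R, s, t, c, e, i over S with the groupoid axioms on T-points; c is defined on the
fibre product of s and t and sends a pair (a, b) with s(a) = t(b) to a composed with b.) -/
theorem result (S : Scheme.{u}) (G : Grpd.GroupoidScheme S) (k : Type u) [Field k] (eU : G.U ≅ Spec (CommRingCat.of k)) [LocallyOfFiniteType G.s] [LocallyOfFiniteType G.t] : (∀ Z ∈ irreducibleComponents ↥G.R, topologicalKrullDim ↥Z = topologicalKrullDim ↥G.R) ∧ ∀ r : G.R, FlatMor.localDim ↥G.R r = topologicalKrullDim ↥G.R := by
  exact ⟨fun Z hZ => GrothLib.GrpSchField.topologicalKrullDim_component_grpd G eU hZ,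
    fun r => GrothLib.GrpSchField.localDim_grpd G eU r⟩

end Groth.Agent.S7518
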