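import Groth.Statements.S7521
import Groth.Prelude.Def_DescFam
import Groth.Agent.Lib.SchEffective.FinLocFree
import Groth.Agent.Lib.SchEffective.AmpleFibres

set_option autoImplicit false
open CategoryTheory CategoryTheory.Limits AlgebraicGeometry
universe u
open Desc

namespace Groth.Agent.S7521

/-- Let p : X -> Y be a surjective finite locally free morphism and V a scheme over X which has an
invertible module ample relative to V -> X. Then every descent datum on V relative to p is
effective. (A quasi-projective morphism V -> X, in particular a projective one, carries such a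
module.) (Descent data are taken in functor-of-points form.) -/
theorem result {X Y : Scheme.{u}} (p : X ⟶ Y) [Surjective p] [IsFinite p] [Flat p] [LocallyOfFinitePresentation p] (D : Desc.SchDD p) (L : D.obj.left.Modules) (hL : RelAmple.IsRelAmple D.obj.hom L) : ∃ W : Over Y, Nonempty ((Desc.toDD p).obj W ≅ D) := by
  refine GrothLib.SchEffective.exists_descent_of_finLocFree p D ⊤ (fun _ _ => le_top) fun y s _ hs => ?_
  obtain ⟨_, ⟨S₀, hS₀, rfl⟩, hy, -⟩ := Y.isBasis_affineOpens.exists_subset_of_mem_open (Set.mem_univ y) isOpen_univ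
  have hamp := hL.2 ⟨p ⁻¹ᵁ S₀, hS₀.preimage p⟩
  let O : D.obj.left.Opens := D.obj.hom ⁻¹ᵁ (p ⁻¹ᵁ S₀)
  have hmem : ∀ v ∈ s, v ∈ O := fun v hv => by
    change p (D.obj.hom v) ∈ S₀
    rw [hs v hv]; exact hy
  classical
  obtain ⟨A, hA, hsA⟩ := GrothLib.SchEffective.exists_affineOpen_finset hamp
    (s.attach.image fun v : {x // x ∈ s} => (⟨v.1, hmem v.1 v.2⟩ : ↥(O : Scheme.{u})))
  have hA' : IsAffineOpen (O.ι ''ᵁ A) := hA.image_of_isOpenImmersion O.ι
  haveI : IsAffine ((O.ι ''ᵁ A : D.obj.left.Opens) : Scheme.{u}) := hA'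
  exact ⟨O.ι ''ᵁ A, fun U hUA hU => GrothLib.IndQA.qa_mono inferInstance hU hUA, fun v hv =>
    ⟨⟨v, hmem v hv⟩, hsA _ (Finset.mem_image.2 ⟨⟨v, hv⟩, Finset.mem_attach _ _, rfl⟩), rfl⟩⟩

end Groth.Agent.S7521
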