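import Groth.Statements.S7522
import Mathlib.AlgebraicGeometry.Pullbacks
-- import your own Groth.Agent.* helpers here

set_option autoImplicit false
universe u
open CategoryTheory CategoryTheory.Limits AlgebraicGeometry
open Grpd

namespace Groth.Agent.S7522

/-- Let S be a scheme, U a scheme over S and j : R -> U x_S U a pre-equivalence relation, that is a
morphism such that for every scheme T the image of the T-points of R in pairs of T-points of U is an
equivalence relation; write t = pr_0 ∘ j and s = pr_1 ∘ j. Then the relation on the points of U in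
which x ∼ y when some point r of R has t(r) = x and s(r) = y is an equivalence relation. -/
theorem result {S U R : Scheme.{u}} (pU : U ⟶ S) (j : R ⟶ pullback pU pU) (hj : ∀ T : Scheme.{u}, Equivalence (fun a b : T ⟶ U => ∃ r : T ⟶ R, r ≫ j ≫ pullback.fst pU pU = a ∧ r ≫ j ≫ pullback.snd pU pU = b)) : Equivalence (fun x y : ↥U => ∃ r : R, (j ≫ pullback.fst pU pU) r = x ∧ (j ≫ pullback.snd pU pU) r = y) := by
  refine ⟨fun x => ?_, fun {x y} hxy => ?_, fun {x y z} hxy hyz => ?_⟩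
  · obtain ⟨r, hr₁, hr₂⟩ := (hj U).refl (𝟙 U)
    exact ⟨r x, by rw [← Scheme.Hom.comp_apply, hr₁]; rfl,
      by rw [← Scheme.Hom.comp_apply, hr₂]; rfl⟩
  · obtain ⟨a, rfl, rfl⟩ := hxy
    obtain ⟨r, hr₁, hr₂⟩ := (hj R).symm
      (show ∃ r : R ⟶ R, r ≫ j ≫ pullback.fst pU pU = j ≫ pullback.fst pU pU ∧
        r ≫ j ≫ pullback.snd pU pU = j ≫ pullback.snd pU pU from ⟨𝟙 R, Category.id_comp _, Category.id_comp _⟩)
    exact ⟨r a, by rw [← Scheme.Hom.comp_apply, hr₁], by rw [← Scheme.Hom.comp_apply, hr₂]⟩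
  · obtain ⟨a, rfl, rfl⟩ := hxy
    obtain ⟨b, hb, rfl⟩ := hyz
    obtain ⟨p, hp₁, hp₂⟩ := Scheme.Pullback.exists_preimage_pullback
      (f := j ≫ pullback.snd pU pU) (g := j ≫ pullback.fst pU pU) a b hb.symm
    let P := pullback (j ≫ pullback.snd pU pU) (j ≫ pullback.fst pU pU)
    let π₁ : P ⟶ R := pullback.fst _ _
    let π₂ : P ⟶ R := pullback.snd _ _
    obtain ⟨r, hr₁, hr₂⟩ := (hj P).trans
      (show ∃ r : P ⟶ R, r ≫ j ≫ pullback.fst pU pU = π₁ ≫ j ≫ pullback.fst pU pU ∧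
        r ≫ j ≫ pullback.snd pU pU = π₁ ≫ j ≫ pullback.snd pU pU from ⟨π₁, rfl, rfl⟩)
      (show ∃ r : P ⟶ R, r ≫ j ≫ pullback.fst pU pU = π₁ ≫ j ≫ pullback.snd pU pU ∧
        r ≫ j ≫ pullback.snd pU pU = π₂ ≫ j ≫ pullback.snd pU pU from ⟨π₂, pullback.condition.symm, rfl⟩)
    refine ⟨r p, ?_, ?_⟩
    · rw [← Scheme.Hom.comp_apply, hr₁, Scheme.Hom.comp_apply]
      exact congrArg _ hp₁
    · rw [← Scheme.Hom.comp_apply, hr₂, Scheme.Hom.comp_apply]
      exact congrArg _ hp₂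

end Groth.Agent.S7522
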