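import Groth.Statements.S7528
import Groth.Agent.Lib.NoethTop.Spectral

set_option autoImplicit false
universe u
open SpecSp

namespace Groth.Agent.S7528

/-- For a spectral space X the following are equivalent: (1) X is profinite, i.e. quasi-compact,
Hausdorff and totally disconnected (quasi-compactness being automatic); (2) X is Hausdorff; (3) X is
totally disconnected; (4) every quasi-compact open subset is closed; (5) there are no nontrivial
specializations between points; (6) every point is closed; (7) every point is the generic point of
an irreducible component; (8) the constructible topology coincides with the topology of X. -/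
theorem result (X : Type u) [tX : TopologicalSpace X] [SpectralSpace X] :
    List.TFAE [
      T2Space X ∧ TotallyDisconnectedSpace X,
      T2Space X,
      TotallyDisconnectedSpace X,
      ∀ U : Set X, IsOpen U → IsCompact U → IsClosed U,
      ∀ x y : X, x ⤳ y → x = y,
      ∀ x : X, IsClosed ({x} : Set X),
      ∀ x : X, closure ({x} : Set X) ∈ irreducibleComponents X,
      constructibleTopology X = tX] := by
  tfae_have 1 → 2 := fun h => h.1
  tfae_have 1 → 3 := fun h => h.2
  tfae_have 2 → 4 := fun h U _ hc => hc.isClosed
  tfae_have 4 → 5 := fun h x y hxy => by
    refine ((GrothLib.SpecSp.specializes_of_forall fun U hU hc hx => ?_ : y ⤳ x).antisymm hxy).eq.symm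
    by_contra hy
    exact hxy.mem_closed (h U hU hc) hx |> hy
  tfae_have 5 → 6 := fun h x => by
    refine isClosed_of_closure_subset fun y hy => ?_
    exact (h x y (specializes_iff_mem_closure.2 hy)).symm
  tfae_have 6 → 5 := fun h x y hxy => ((Set.mem_singleton_iff.1 (hxy.mem_closed (h x) rfl))).symm
  tfae_have 3 → 6 := fun h x => by
    have hsub := h.isTotallyDisconnected_univ (closure {x}) (Set.subset_univ _)
      isPreconnected_singleton.closure
    exact isClosed_of_closure_subset fun y hy => hsub hy (subset_closure rfl)
  tfae_have 5 → 7 := fun h x => by
    refine ⟨isIrreducible_singleton.closure, fun Z hZ hle => ?_⟩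
    obtain ⟨η, hη⟩ := QuasiSober.sober hZ.closure isClosed_closure
    obtain rfl : η = x := h η x (hη.specializes (subset_closure (hle (subset_closure rfl))))
    exact subset_closure.trans hη.def.ge
  tfae_have 7 → 5 := fun h x y hxy => by
    have h1 : closure {y} ⊆ closure {x} := closure_minimal
      (Set.singleton_subset_iff.2 (specializes_iff_mem_closure.1 hxy)) isClosed_closure
    have h2 : closure {x} ⊆ closure {y} := (h y).2 isIrreducible_singleton.closure h1
    exact (hxy.antisymm (specializes_iff_mem_closure.2 (h2 (subset_closure rfl)))).eq
  tfae_have 5 → 8 := fun h => by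
    refine TopologicalSpace.ext_iff.2 fun U => ⟨fun hU => ?_, GrothLib.SpecSp.isOpen_cons_of_isOpen⟩
    exact GrothLib.SpecSp.isOpen_of_stableUnderGeneralization hU fun x y hxy hx => h y x hxy ▸ hx
  tfae_have 8 → 1 := fun h => by
    have h1 := GrothLib.Constr.t2Space_constructibleTopology (X := X)
    have h2 := @TotallySeparatedSpace.totallyDisconnectedSpace X (constructibleTopology X)
      GrothLib.SpecSp.totallySeparated_cons
    rw [h] at h1 h2
    exact ⟨h1, h2⟩
  tfae_finish

end Groth.Agent.S7528
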