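import Groth.Statements.S7529
import Groth.Agent.Lib.NoethTop.SpectralProd

set_option autoImplicit false
universe u
open SpecSp

namespace Groth.Agent.S7529

/-- The product X × Y of two spectral spaces X and Y is a spectral space. -/
theorem result (X Y : Type u) [TopologicalSpace X] [TopologicalSpace Y]
    [SpectralSpace X] [SpectralSpace Y] : SpectralSpace (X × Y) := by
  exact GrothLib.SpecSp.spectralSpace_prod

end Groth.Agent.S7529
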