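import Groth.Statements.S7530
import Groth.Agent.Lib.NoethTop.Spectral

set_option autoImplicit false
universe u
open SpecSp

namespace Groth.Agent.S7530

/-- Let f : X → Y be a map of spectral spaces which is spectral and bijective, and assume that
generalizations lift along f or that specializations lift along f. Then f is a homeomorphism. -/
theorem result {X Y : Type u} [TopologicalSpace X] [TopologicalSpace Y]
    [SpectralSpace X] [SpectralSpace Y] (f : X → Y) (hf : IsSpectralMap f) (hb : Function.Bijective f)
    (hlift : GeneralizingMap f ∨ SpecializingMap f) :
    IsHomeomorph f := by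
  refine ⟨hf.continuous, ?_, hb⟩
  rcases hlift with hg | hs
  · intro U hU
    refine GrothLib.SpecSp.isOpen_of_stableUnderGeneralization ?_ (hU.stableUnderGeneralization.image hg)
    have h := GrothLib.SpecSp.isClosed_cons_image hf
      ((@isClosed_compl_iff X (constructibleTopology X) U).2 (GrothLib.SpecSp.isOpen_cons_of_isOpen hU))
    rw [Set.image_compl_eq hb] at h
    exact (@isClosed_compl_iff Y (constructibleTopology Y) _).1 h
  · intro U hU
    rw [← isClosed_compl_iff, ← Set.image_compl_eq hb]
    exact GrothLib.SpecSp.isClosed_of_stableUnderSpecialization
      (GrothLib.SpecSp.isClosed_cons_image hf (GrothLib.SpecSp.isClosed_cons_of_isClosed hU.isClosed_compl))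
      (hU.isClosed_compl.stableUnderSpecialization.image hs)

end Groth.Agent.S7530
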