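import Groth.Statements.S7532
import Groth.Agent.Lib.NoethTop.SpectralLimit

set_option autoImplicit false
universe u
open SpecSp

namespace Groth.Agent.S7532

/-- Let W be the two-point space with one closed and one non-closed point (here the Sierpiński topology
on Prop). A topological space X is spectral exactly when, for some index type I, X admits a
topological embedding into the power W^I whose image is a closed set for the constructible topology
on W^I. -/
theorem result (X : Type u) [TopologicalSpace X] :
    SpectralSpace X ↔ ∃ (I : Type u) (f : X → (I → Prop)),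
      Topology.IsEmbedding f ∧ @IsClosed (I → Prop) (constructibleTopology (I → Prop)) (Set.range f) := by
  haveI : T0Space Prop := ⟨fun a b h => by
    have := h.mem_open_iff isOpen_singleton_true
    simpa using this⟩
  haveI : SpectralSpace Prop := GrothLib.SpecSp.spectralSpace_of_finite Prop
  constructor
  · intro h
    haveI := h
    let I := {U : Set X // IsOpen U ∧ IsCompact U}
    let f : X → I → Prop := fun x U => x ∈ U.1
    haveI := GrothLib.SpecSp.spectralSpace_pi (X := fun _ : I => Prop)
    have hf : IsSpectralMap f := GrothLib.SpecSp.isSpectralMap_pi fun U => by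
      refine ⟨continuous_Prop.2 U.2.1, fun s _ _ => ?_⟩
      by_cases hT : True ∈ s <;> by_cases hF : False ∈ s
      · rw [show (fun x => f x U) ⁻¹' s = Set.univ from Set.eq_univ_of_forall fun x => by
          rcases Classical.em (x ∈ U.1) with h | h
          · change (x ∈ U.1) ∈ s; rwa [eq_true h]
          · change (x ∈ U.1) ∈ s; rwa [eq_false h]]
        exact isCompact_univ
      · rw [show (fun x => f x U) ⁻¹' s = U.1 from Set.ext fun x => by
          rcases Classical.em (x ∈ U.1) with h | h
          · change (x ∈ U.1) ∈ s ↔ _; simp [eq_true h, hT]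
          · change (x ∈ U.1) ∈ s ↔ _; simp [eq_false h, hF]]
        exact U.2.2
      · rw [show (fun x => f x U) ⁻¹' s = U.1ᶜ from Set.ext fun x => by
          rcases Classical.em (x ∈ U.1) with h | h
          · change (x ∈ U.1) ∈ s ↔ x ∉ U.1; simp [eq_true h, hT]
          · change (x ∈ U.1) ∈ s ↔ x ∉ U.1; simp [eq_false h, hF]]
        exact U.2.1.isClosed_compl.isCompact
      · rw [show (fun x => f x U) ⁻¹' s = ∅ from Set.eq_empty_of_forall_notMem fun x => by
          rcases Classical.em (x ∈ U.1) with h | h
          · change ¬ (x ∈ U.1) ∈ s; rwa [eq_true h]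
          · change ¬ (x ∈ U.1) ∈ s; rwa [eq_false h]]
        exact isCompact_empty
    refine ⟨I, f, ⟨⟨le_antisymm hf.continuous.le_induced fun V hV => ?_⟩, fun x y hxy => ?_⟩, ?_⟩
    · refine (@isOpen_iff_forall_mem_open X (TopologicalSpace.induced f inferInstance) V).2 fun x hx => ?_
      obtain ⟨W, hW, hxW, hWV⟩ := PrespectralSpace.isTopologicalBasis.exists_subset_of_mem_open hx hV
      refine ⟨W, hWV, ⟨(fun g : I → Prop => g ⟨W, hW⟩) ⁻¹' {True}, ?_, ?_⟩, hxW⟩
      · exact (continuous_apply (⟨W, hW⟩ : I)).isOpen_preimage _ isOpen_singleton_true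
      · ext y; simp [f]
    · have key : ∀ a b : X, f a = f b → b ⤳ a := fun a b hab =>
        GrothLib.SpecSp.specializes_of_forall fun U ho hc ha =>
          (congrFun hab ⟨U, ho, hc⟩).mp ha
      exact ((key y x hxy.symm).antisymm (key x y hxy)).eq
    · rw [← Set.image_univ]
      exact GrothLib.SpecSp.isClosed_cons_image hf (@isClosed_univ X (constructibleTopology X))
  · rintro ⟨I, f, hf, hc⟩
    haveI := GrothLib.SpecSp.spectralSpace_pi (X := fun _ : I => Prop)
    haveI := GrothLib.SpecSp.spectralSpace_subtype hc
    haveI : CompactSpace X := hf.toHomeomorph.symm.compactSpace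
    exact hf.toHomeomorph.isOpenEmbedding.spectralSpace

end Groth.Agent.S7532
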