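import Groth.Statements.S7536
import Groth.Agent.Lib.NoethTop.SpectralLimit

set_option autoImplicit false
universe u
open CategoryTheory CategoryTheory.Limits
open SpecSp

namespace Groth.Agent.S7536

/-- Let j ↦ X_j be a cofiltered diagram of spectral spaces with spectral transition maps and X its limit
with projections p_j. For every constructible E ⊆ X there are an object i and a constructible E_i ⊆
X_i with p_i⁻¹(E_i) = E; if E is open, resp. closed, then E_i may be chosen open, resp. closed. -/
theorem result {J : Type u} [SmallCategory J] [IsCofiltered J] (F : J ⥤ TopCat.{u})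
    (hF : ∀ j, SpectralSpace (F.obj j))
    (hFm : ∀ {i j : J} (a : i ⟶ j), IsSpectralMap (F.map a : F.obj i → F.obj j))
    (c : Cone F) (hc : IsLimit c)
    (E : Set c.pt) (hE : Topology.IsConstructible E) :
    (∃ (i : J) (Ei : Set (F.obj i)), Topology.IsConstructible Ei ∧ c.π.app i ⁻¹' Ei = E) ∧
    (IsOpen E → ∃ (i : J) (Ei : Set (F.obj i)), Topology.IsConstructible Ei ∧ IsOpen Ei ∧ c.π.app i ⁻¹' Ei = E) ∧
    (IsClosed E → ∃ (i : J) (Ei : Set (F.obj i)), Topology.IsConstructible Ei ∧ IsClosed Ei ∧ c.π.app i ⁻¹' Ei = E) := by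
  haveI : ∀ j, SpectralSpace (F.obj j) := hF
  haveI := GrothLib.SpecSp.spectralSpace_pt F hFm c hc
  have hc' : @IsClosed c.pt (constructibleTopology c.pt) E :=
    GrothLib.Constr.isClosed_constructibleTopology_of_isConstructible hE
  refine ⟨GrothLib.SpecSp.exists_eq_preimage_of_isConstructible F hFm c hc hE, fun ho => ?_, fun hcl => ?_⟩
  · obtain ⟨i, Ui, hUo, hUc, h⟩ := GrothLib.SpecSp.exists_eq_preimage_of_isCompact F hFm c hc ho
      (GrothLib.SpecSp.isCompact_of_isClosed_cons hc')
    exact ⟨i, Ui, hUc.isConstructible hUo, hUo, h⟩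
  · obtain ⟨i, Ui, hUo, hUc, h⟩ := GrothLib.SpecSp.exists_eq_preimage_of_isCompact F hFm c hc
      hcl.isOpen_compl (GrothLib.SpecSp.isCompact_of_isClosed_cons
        ((@isClosed_compl_iff c.pt (constructibleTopology c.pt) E).2
          (GrothLib.Constr.isOpen_constructibleTopology_of_isConstructible hE).1))
    exact ⟨i, Uiᶜ, (hUc.isConstructible hUo).compl, hUo.isClosed_compl, by rw [Set.preimage_compl, h, compl_compl]⟩

end Groth.Agent.S7536
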