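import Groth.Statements.S7538
import Groth.Agent.Lib.NoethTop.SpectralLimit

set_option autoImplicit false
universe u
open CategoryTheory CategoryTheory.Limits
open SpecSp

namespace Groth.Agent.S7538

/-- Let j ↦ X_j be a cofiltered diagram of spectral spaces with spectral transition maps f_a and X its
limit with projections p_j. (1) Any quasi-compact open U ⊆ X is p_i⁻¹(U_i) for some i and some
quasi-compact open U_i ⊆ X_i. (2) If U_i ⊆ X_i and U_j ⊆ X_j are quasi-compact opens with p_i⁻¹(U_i)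
⊆ p_j⁻¹(U_j), there are k and a : k → i, b : k → j with f_a⁻¹(U_i) ⊆ f_b⁻¹(U_j). (3) If U_i and
finitely many U_{l,i} are quasi-compact opens of X_i with p_i⁻¹(U_i) = ⋃_l p_i⁻¹(U_{l,i}), then
f_a⁻¹(U_i) = ⋃_l f_a⁻¹(U_{l,i}) for some a : j → i. (4) The same with intersections. -/
theorem result {J : Type u} [SmallCategory J] [IsCofiltered J] (F : J ⥤ TopCat.{u})
    (hF : ∀ j, SpectralSpace (F.obj j))
    (hFm : ∀ {i j : J} (a : i ⟶ j), IsSpectralMap (F.map a : F.obj i → F.obj j))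
    (c : Cone F) (hc : IsLimit c) :
    (∀ U : Set c.pt, IsOpen U → IsCompact U →
      ∃ (i : J) (Ui : Set (F.obj i)), IsOpen Ui ∧ IsCompact Ui ∧ c.π.app i ⁻¹' Ui = U) ∧
    (∀ (i j : J) (Ui : Set (F.obj i)) (Uj : Set (F.obj j)),
      IsOpen Ui → IsCompact Ui → IsOpen Uj → IsCompact Uj →
      c.π.app i ⁻¹' Ui ⊆ c.π.app j ⁻¹' Uj →
      ∃ (k : J) (a : k ⟶ i) (b : k ⟶ j), F.map a ⁻¹' Ui ⊆ F.map b ⁻¹' Uj) ∧
    (∀ (i : J) (n : ℕ) (Ui : Set (F.obj i)) (V : Fin n → Set (F.obj i)),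
      IsOpen Ui → IsCompact Ui → (∀ l, IsOpen (V l) ∧ IsCompact (V l)) →
      (c.π.app i ⁻¹' Ui = ⋃ l, c.π.app i ⁻¹' V l →
        ∃ (j : J) (a : j ⟶ i), F.map a ⁻¹' Ui = ⋃ l, F.map a ⁻¹' V l) ∧
      (c.π.app i ⁻¹' Ui = ⋂ l, c.π.app i ⁻¹' V l →
        ∃ (j : J) (a : j ⟶ i), F.map a ⁻¹' Ui = ⋂ l, F.map a ⁻¹' V l)) := by
  haveI : ∀ j, SpectralSpace (F.obj j) := hF
  have hcomp : ∀ {k l i : J} (b : k ⟶ l) (a : l ⟶ i) (s : Set (F.obj i)),
      F.map (b ≫ a) ⁻¹' s = F.map b ⁻¹' (F.map a ⁻¹' s) := fun b a s => by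
    rw [F.map_comp]; rfl
  have clopen : ∀ {i : J} {U : Set (F.obj i)}, IsOpen U → IsCompact U →
      @IsClosed _ (constructibleTopology (F.obj i)) U ∧ @IsOpen _ (constructibleTopology (F.obj i)) U :=
    fun ho hc => GrothLib.SpecSp.isClopen_cons ho hc
  have both : ∀ (i : J) (A B : Set (F.obj i)),
      @IsClosed _ (constructibleTopology (F.obj i)) A → @IsOpen _ (constructibleTopology (F.obj i)) A →
      @IsClosed _ (constructibleTopology (F.obj i)) B → @IsOpen _ (constructibleTopology (F.obj i)) B →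
      c.π.app i ⁻¹' A = c.π.app i ⁻¹' B → ∃ (j : J) (a : j ⟶ i), F.map a ⁻¹' A = F.map a ⁻¹' B := by
    intro i A B hAc hAo hBc hBo he
    obtain ⟨j, a, h1⟩ := GrothLib.SpecSp.exists_preimage_subset F hFm c hc i hAc hBo he.le
    obtain ⟨j', a', h2⟩ := GrothLib.SpecSp.exists_preimage_subset F hFm c hc i hBc hAo he.ge
    obtain ⟨k, g, g', hg⟩ := IsCofiltered.cospan a a'
    refine ⟨k, g ≫ a, subset_antisymm ?_ ?_⟩
    · rw [hcomp, hcomp]
      exact Set.preimage_mono h1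
    · rw [hg, hcomp, hcomp]
      exact Set.preimage_mono h2
  refine ⟨fun U ho hU => GrothLib.SpecSp.exists_eq_preimage_of_isCompact F hFm c hc ho hU,
    fun i j Ui Uj hio hic hjo hjc h => ?_, fun i n Ui V hio hic hV => ⟨fun h => ?_, fun h => ?_⟩⟩
  · obtain ⟨k, a, b, -⟩ := IsCofilteredOrEmpty.cone_objs i j
    obtain ⟨l, d, hd⟩ := GrothLib.SpecSp.exists_preimage_subset F hFm c hc k
      (clopen (hio.preimage (hFm a).continuous) (hic.preimage_of_isOpen (hFm a) hio)).1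
      (clopen (hjo.preimage (hFm b).continuous) (hjc.preimage_of_isOpen (hFm b) hjo)).2
      (fun x hx => by
        simp only [Set.mem_preimage, GrothLib.SpecSp.π_map] at hx ⊢
        exact h hx)
    exact ⟨l, d ≫ a, d ≫ b, by rw [hcomp, hcomp]; exact hd⟩
  · obtain ⟨j, a, ha⟩ := both i Ui (⋃ l, V l) (clopen hio hic).1 (clopen hio hic).2
      (clopen (isOpen_iUnion fun l => (hV l).1) (isCompact_iUnion fun l => (hV l).2)).1
      (clopen (isOpen_iUnion fun l => (hV l).1) (isCompact_iUnion fun l => (hV l).2)).2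
      (by rw [h, Set.preimage_iUnion])
    exact ⟨j, a, by rw [ha, Set.preimage_iUnion]⟩
  · obtain ⟨hIo, hIc⟩ := GrothLib.SpecSp.isOpen_isCompact_biInter (Finset.univ : Finset (Fin n)) V fun l _ => hV l
    simp only [Finset.mem_univ, Set.iInter_true] at hIo hIc
    obtain ⟨j, a, ha⟩ := both i Ui (⋂ l, V l) (clopen hio hic).1 (clopen hio hic).2
      (clopen hIo hIc).1 (clopen hIo hIc).2 (by rw [h, Set.preimage_iInter])
    exact ⟨j, a, by rw [ha, Set.preimage_iInter]⟩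

end Groth.Agent.S7538
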