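import Groth.Statements.S7539
import Groth.Agent.Lib.NoethTop.Spectral

set_option autoImplicit false
universe u
open SpecSp

namespace Groth.Agent.S7539

/-- For a subset W of a spectral space X, these five conditions coincide: (1) W can be written as an
intersection of constructible subsets and is stable under generalization; (2) W is quasi-compact and
stable under generalization; (3) for some quasi-compact E ⊆ X, W consists exactly of the points that
specialize to a point of E; (4) W is the intersection of some family of quasi-compact opens; (5)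
there are a nonempty index set I and quasi-compact opens U_i with W = ⋂ U_i such that for all i, j
some U_k is contained in U_i ∩ U_j. -/
theorem result {X : Type u} [TopologicalSpace X] [SpectralSpace X] (W : Set X) :
    List.TFAE [
      (∃ S : Set (Set X), (∀ s ∈ S, Topology.IsConstructible s) ∧ W = ⋂₀ S) ∧ StableUnderGeneralization W,
      IsCompact W ∧ StableUnderGeneralization W,
      ∃ E : Set X, IsCompact E ∧ W = {x | ∃ e ∈ E, x ⤳ e},
      ∃ S : Set (Set X), (∀ s ∈ S, IsOpen s ∧ IsCompact s) ∧ W = ⋂₀ S,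
      ∃ (I : Type u) (_ : Nonempty I) (U : I → Set X), (∀ i, IsOpen (U i) ∧ IsCompact (U i)) ∧
        W = ⋂ i, U i ∧ ∀ i j, ∃ k, U k ⊆ U i ∩ U j] := by
  tfae_have 1 → 2 := fun ⟨⟨S, hS, hW⟩, hg⟩ => by
    refine ⟨GrothLib.SpecSp.isCompact_of_isClosed_cons ?_, hg⟩
    rw [hW, Set.sInter_eq_iInter]
    exact @isClosed_iInter X _ (constructibleTopology X) _ fun s =>
      GrothLib.Constr.isClosed_constructibleTopology_of_isConstructible (hS s s.2)
  tfae_have 2 → 3 := fun ⟨hc, hg⟩ => ⟨W, hc, Set.ext fun x =>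
    ⟨fun hx => ⟨x, hx, specializes_refl x⟩, fun ⟨e, he, hxe⟩ => hg hxe he⟩⟩
  tfae_have 3 → 4 := fun ⟨E, hE, hW⟩ => ⟨_, fun s hs => ⟨hs.1, hs.2.1⟩,
    hW.trans (GrothLib.SpecSp.exists_sInter_eq_of_isCompact hE)⟩
  tfae_have 4 → 5 := fun ⟨S, hS, hW⟩ => by
    classical
    refine ⟨Finset S, ⟨∅⟩, fun t => ⋂ s ∈ t, (s : Set X),
      fun t => GrothLib.SpecSp.isOpen_isCompact_biInter t _ (fun s _ => hS s s.2), ?_,
      fun t t' => ⟨t ∪ t', fun x hx => ?_⟩⟩
    · ext x
      simp only [hW, Set.mem_sInter, Set.mem_iInter]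
      exact ⟨fun h t s _ => h s s.2, fun h s hs => h {⟨s, hs⟩} ⟨s, hs⟩ (Finset.mem_singleton_self _)⟩
    · exact ⟨Set.mem_iInter₂.2 fun s hs => Set.mem_iInter₂.1 hx s (Finset.mem_union_left _ hs),
        Set.mem_iInter₂.2 fun s hs => Set.mem_iInter₂.1 hx s (Finset.mem_union_right _ hs)⟩
  tfae_have 5 → 1 := fun ⟨I, _, U, hU, hW, _⟩ => by
    refine ⟨⟨Set.range U, ?_, by rw [hW, Set.sInter_range]⟩, ?_⟩
    · rintro _ ⟨i, rfl⟩
      exact (hU i).2.isConstructible (hU i).1
    · subst hW
      exact fun x y hxy hx => Set.mem_iInter.2 fun i => hxy.mem_open (hU i).1 (Set.mem_iInter.1 hx i)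
  tfae_finish

end Groth.Agent.S7539
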