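import Groth.Statements.S7541
import Groth.Agent.Lib.NoethTop.Spectral

set_option autoImplicit false
universe u
open SpecSp

namespace Groth.Agent.S7541

/-- Let X be a spectral space, E ⊆ X a constructible subset and W the set of points of X that specialize
to a point of E. Then the subspace W minus E is a spectral space. (The description of W minus E as a
limit of the U_i minus E is not recorded here.) -/
theorem result {X : Type u} [TopologicalSpace X] [SpectralSpace X]
    (E : Set X) (hE : Topology.IsConstructible E) :
    SpectralSpace ↥({x : X | ∃ e ∈ E, x ⤳ e} \ E) := by
  apply GrothLib.SpecSp.spectralSpace_subtype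
  have hc : @IsClosed X (constructibleTopology X) E :=
    GrothLib.Constr.isClosed_constructibleTopology_of_isConstructible hE
  rw [GrothLib.SpecSp.exists_sInter_eq_of_isCompact (GrothLib.SpecSp.isCompact_of_isClosed_cons hc),
    Set.sdiff_eq, Set.sInter_eq_iInter]
  exact @IsClosed.inter X _ _ (constructibleTopology X)
    (@isClosed_iInter X _ (constructibleTopology X) _ fun U => (GrothLib.SpecSp.isClopen_cons U.2.1 U.2.2.1).1)
    ((@isClosed_compl_iff X (constructibleTopology X) E).2
      (GrothLib.Constr.isOpen_constructibleTopology_of_isConstructible hE).1)

end Groth.Agent.S7541
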