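import Groth.Statements.S7544
import Groth.Agent.Lib.NoethTop.Retrocompact

set_option autoImplicit false
universe u
open ConstrTop

namespace Groth.Agent.S7544

/-- Let X be a quasi-compact topological space whose quasi-compact opens form a basis and are closed
under pairwise intersection. Take T ⊆ X to be locally closed, quasi-compact, and with retrocompact
complement. Then T is constructible in X. -/
theorem result {X : Type u} [TopologicalSpace X]
    [CompactSpace X] [PrespectralSpace X] [QuasiSeparatedSpace X]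
    (T : Set X) (hT : IsLocallyClosed T) (hTc : IsCompact T) (hTr : IsRetrocompact Tᶜ) :
    Topology.IsConstructible T := by
  obtain ⟨U, Z, hU, hZ, rfl⟩ := hT
  classical
  let ι := {K : Set X // IsOpen K ∧ IsCompact K ∧ K ⊆ U}
  obtain ⟨t, ht⟩ := hTc.elim_finite_subcover (fun K : ι => K.1) (fun K => K.2.1) (fun x hx => by
    obtain ⟨K, ⟨hKo, hKc⟩, hxK, hKU⟩ :=
      PrespectralSpace.isTopologicalBasis.exists_subset_of_mem_open hx.1 hU
    exact Set.mem_iUnion.2 ⟨⟨K, hKo, hKc, hKU⟩, hxK⟩)
  let K : Set X := ⋃ k ∈ t, k.1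
  have hKo : IsOpen K := isOpen_biUnion fun k _ => k.2.1
  have hKc : IsCompact K := t.isCompact_biUnion fun k _ => k.2.2.1
  have hKU : K ⊆ U := Set.iUnion₂_subset fun k _ => k.2.2.2
  have h1 : (U ∩ Z)ᶜ ∩ K = K ∩ Zᶜ := by
    ext x
    have := @hKU x
    simp only [Set.mem_inter_iff, Set.mem_compl_iff]
    tauto
  have h2 : U ∩ Z = K \ ((U ∩ Z)ᶜ ∩ K) := by
    ext x
    have := @ht x
    simp only [Set.mem_inter_iff, Set.mem_compl_iff, Set.mem_sdiff]
    tauto
  rw [h2]
  refine (hKc.isConstructible hKo).sdiff ((hTr hKc hKo).isConstructible ?_)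
  rw [h1]
  exact hKo.inter hZ.isOpen_compl

end Groth.Agent.S7544
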