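import Groth.Statements.S7548


set_option autoImplicit false
universe u
open PtTop

namespace Groth.Agent.S7548

/-- Let X be a Jacobson space and let T = ⋃ T_i be a union of subsets T_i ⊆ X each locally closed in X
(open, closed, locally closed and constructible subsets are of this form). Then T is Jacobson and
every point of T closed in T is closed in X. -/
theorem result {X : Type u} [TopologicalSpace X] [JacobsonSpace X]
    {ι : Type u} (T : ι → Set X) (hT : ∀ i, IsLocallyClosed (T i)) :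
    JacobsonSpace ↥(⋃ i, T i) ∧
      closedPoints ↥(⋃ i, T i) ⊆ (Subtype.val : ↥(⋃ i, T i) → X) ⁻¹' closedPoints X := by
  have key : ∀ L : Set ↥(⋃ i, T i), L.Nonempty → IsLocallyClosed L →
      ∃ t ∈ L, IsClosed ({(t : X)} : Set X) := by
    intro L ⟨t, ht⟩ hL
    obtain ⟨U, C, hU, hC, rfl⟩ := hL
    obtain ⟨U', hU', rfl⟩ := isOpen_induced_iff.1 hU
    obtain ⟨C', hC', rfl⟩ := isClosed_induced_iff.1 hC
    obtain ⟨i, hi⟩ := Set.mem_iUnion.1 t.2
    obtain ⟨x, ⟨⟨hxU, hxC⟩, hxT⟩, hx⟩ := nonempty_inter_closedPoints (Z := (U' ∩ C') ∩ T i)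
      ⟨t.1, ⟨ht.1, ht.2⟩, hi⟩ ((IsLocallyClosed.inter ⟨U', C', hU', hC', rfl⟩ (hT i)))
    exact ⟨⟨x, Set.mem_iUnion.2 ⟨i, hxT⟩⟩, ⟨hxU, hxC⟩, hx⟩
  refine ⟨jacobsonSpace_iff_locallyClosed.2 fun L hne hL => ?_, fun t ht => ?_⟩
  · obtain ⟨t, htL, ht⟩ := key L hne hL
    refine ⟨t, htL, ?_⟩
    have : ({t} : Set ↥(⋃ i, T i)) = Subtype.val ⁻¹' {(t : X)} := by ext y; simp [Subtype.ext_iff]
    exact mem_closedPoints_iff.2 (this ▸ ht.preimage continuous_subtype_val)
  · obtain ⟨t', ht', h⟩ := key {t} (Set.singleton_nonempty t) (mem_closedPoints_iff.1 ht).isLocallyClosed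
    rw [Set.mem_singleton_iff] at ht'
    subst ht'
    exact h

end Groth.Agent.S7548
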