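import Groth.Statements.S7550


set_option autoImplicit false
universe u
open PtTop

namespace Groth.Agent.S7550

/-- Let f : X → Y be a continuous and open map of topological spaces, with X Noetherian, every
irreducible closed subset of X having a generic point, and Y Kolmogorov. Then generalizations lift
along f. (Part (1), closed maps are specializing, is a library fact.) -/
theorem result {X Y : Type u} [TopologicalSpace X] [TopologicalSpace Y]
    [TopologicalSpace.NoetherianSpace X] [QuasiSober X] [T0Space Y]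
    (f : X → Y) (hf : Continuous f) (hfo : IsOpenMap f) :
    GeneralizingMap f := by
  intro x y' hy
  obtain ⟨S, hS, hSe⟩ := TopologicalSpace.NoetherianSpace.exists_finite_set_isClosed_irreducible
    (α := ↥(f ⁻¹' {y'})) (isClosed_univ (X := ↥(f ⁻¹' {y'})))
  have hxE : x ∈ closure (f ⁻¹' {y'}) := by
    rw [mem_closure_iff]
    intro U hU hxU
    obtain ⟨z, hz, hzy⟩ := hy.mem_open (hfo U hU) ⟨x, hxU, rfl⟩
    exact ⟨z, hz, hzy⟩
  have e : f ⁻¹' {y'} = ⋃ A ∈ S, Subtype.val '' A := by
    rw [← Set.image_iUnion₂, ← Set.sUnion_eq_biUnion, ← hSe.2.2, Set.image_univ, Subtype.range_coe]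
  rw [e, hS.closure_biUnion] at hxE
  obtain ⟨A, hA, hxA⟩ := Set.mem_iUnion₂.1 hxE
  have hi := (hSe.2.1 A hA).image Subtype.val continuous_subtype_val.continuousOn
  obtain ⟨η, hη⟩ := QuasiSober.sober hi.closure isClosed_closure
  refine ⟨η, hη.specializes hxA, ?_⟩
  obtain ⟨e', he'⟩ := (hSe.2.1 A hA).nonempty
  have h1 : f η ⤳ y' := by
    have := (hη.specializes (subset_closure ⟨e', he', rfl⟩)).map hf
    rwa [show f e'.1 = y' from e'.2] at this
  have h2 : y' ⤳ f η := by
    rw [specializes_iff_mem_closure]
    have : f '' (Subtype.val '' A) ⊆ {y'} := by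
      rintro _ ⟨_, ⟨w, _, rfl⟩, rfl⟩
      exact w.2
    exact closure_mono this (image_closure_subset_closure_image hf ⟨η, hη.mem, rfl⟩)
  exact (h1.antisymm h2).eq

end Groth.Agent.S7550
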