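import Groth.Statements.S7551
import Mathlib.Topology.Inseparable
import Mathlib.Topology.Sober

set_option autoImplicit false
universe u
open PtTop

namespace Groth.Agent.S7551

/-- Let s, t : R → U and π : U → X be continuous maps between topological spaces satisfying: (1) π is an
open map, (2) U is a sober space, (3) s and t have finite fibres, (4) generalizations lift along s
and along t, and (5) the image of (t, s) : R → U × U is an equivalence relation on U and π
identifies X, as a set, with the quotient of U by it. Then X is Kolmogorov. -/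
theorem result {R U X : Type u}
    [TopologicalSpace R] [TopologicalSpace U] [TopologicalSpace X] [QuasiSober U] [T0Space U]
    (s t : R → U) (π : U → X) (hs : Continuous s) (ht : Continuous t) (hπ : Continuous π)
    (hπo : IsOpenMap π) (hsf : ∀ u, (s ⁻¹' {u}).Finite) (htf : ∀ u, (t ⁻¹' {u}).Finite)
    (hsg : GeneralizingMap s) (htg : GeneralizingMap t)
    (hE : Equivalence fun u u' : U => ∃ r, t r = u ∧ s r = u')
    (hπs : Function.Surjective π) (hπq : ∀ u u' : U, π u = π u' ↔ ∃ r, t r = u ∧ s r = u') :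
    T0Space X := by
  classical
  have key : ∀ a b : U, π b ⤳ π a → ∃ b', π b' = π b ∧ b' ⤳ a := by
    intro a b h
    let Cl : Set U := {b' | π b' = π b}
    have hfin : Cl.Finite := by
      refine ((hsf b).image t).subset fun b' hb' => ?_
      obtain ⟨r, hr, hr'⟩ := (hπq b' b).1 hb'
      exact ⟨r, hr', hr⟩
    have hcl : a ∈ closure Cl := by
      rw [mem_closure_iff]
      intro W hW ha
      obtain ⟨w, hw, hwb⟩ := specializes_iff_forall_open.1 h _ (hπo W hW) ⟨a, ha, rfl⟩
      exact ⟨w, hw, hwb⟩
    rw [← Set.biUnion_of_singleton Cl, hfin.closure_biUnion] at hcl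
    obtain ⟨b', hb', hb''⟩ := Set.mem_iUnion₂.1 hcl
    exact ⟨b', hb', specializes_iff_mem_closure.2 hb''⟩
  refine ⟨fun x y hxy => ?_⟩
  obtain ⟨a₀, rfl⟩ := hπs x
  obtain ⟨b₀, rfl⟩ := hπs y
  let A : Set U := {a | π a = π a₀}
  have hfinA : A.Finite := by
    refine ((hsf a₀).image t).subset fun a' ha' => ?_
    obtain ⟨r, hr, hr'⟩ := (hπq a' a₀).1 ha'
    exact ⟨r, hr', hr⟩
  letI := specializationOrder U
  obtain ⟨a, haA, hmax⟩ := hfinA.exists_maximal ⟨a₀, rfl⟩
  obtain ⟨b, hb, hba⟩ := key a b₀ (haA.symm ▸ hxy.specializes')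
  obtain ⟨a', ha', hab⟩ := key b a₀ (hb.symm ▸ hxy.specializes)
  have h1 : a' ⤳ a := hab.trans hba
  have h2 : a ⤳ a' := hmax ha' h1
  have heq : a = b := ((h2.trans hab).antisymm hba).eq
  rw [← haA, ← hb, heq]

end Groth.Agent.S7551
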