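import Groth.Statements.S7552


set_option autoImplicit false
universe u
open PtTop

namespace Groth.Agent.S7552

/-- Let f : X → Y be a continuous surjective map of topological spaces with Y sober, and assume that
specializations lift along f or that generalizations lift along f. Then dim X ≥ dim Y (Krull
dimensions as suprema of lengths of chains of irreducible closed subsets). -/
theorem result {X Y : Type u}
    [TopologicalSpace X] [TopologicalSpace Y] [QuasiSober Y] [T0Space Y]
    (f : X → Y) (hf : Continuous f) (hsurj : Function.Surjective f)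
    (hlift : SpecializingMap f ∨ GeneralizingMap f) :
    topologicalKrullDim Y ≤ topologicalKrullDim X := by
  refine iSup_le fun l => ?_
  choose y hy using fun i => QuasiSober.sober (l i).isIrreducible (l i).isClosed
  have hstep : ∀ i : Fin l.length, y i.succ ⤳ y i.castSucc := fun i =>
    (hy i.succ).specializes ((show l i.castSucc < l i.succ from l.step i).le (hy i.castSucc).mem)
  obtain ⟨z, hz, hzs⟩ : ∃ z : Fin (l.length + 1) → X, (∀ i, f (z i) = y i) ∧
      ∀ i : Fin l.length, z i.succ ⤳ z i.castSucc := by
    rcases hlift with hs | hg
    · let Z : ∀ i : Fin (l.length + 1), {x : X // f x = y i} := Fin.reverseInduction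
        ⟨(hsurj (y (Fin.last _))).choose, (hsurj (y (Fin.last _))).choose_spec⟩
        (fun i p => ⟨(hs (p.2.symm ▸ hstep i : f p.1 ⤳ y i.castSucc)).choose,
          (hs (p.2.symm ▸ hstep i : f p.1 ⤳ y i.castSucc)).choose_spec.2⟩)
      refine ⟨fun i => (Z i).1, fun i => (Z i).2, fun i => ?_⟩
      simp only [Z, Fin.reverseInduction_castSucc]
      exact (hs ((Z i.succ).2.symm ▸ hstep i : f (Z i.succ).1 ⤳ y i.castSucc)).choose_spec.1
    · let Z : ∀ i : Fin (l.length + 1), {x : X // f x = y i} := Fin.induction
        ⟨(hsurj (y 0)).choose, (hsurj (y 0)).choose_spec⟩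
        (fun i p => ⟨(hg (p.2.symm ▸ hstep i : y i.succ ⤳ f p.1)).choose,
          (hg (p.2.symm ▸ hstep i : y i.succ ⤳ f p.1)).choose_spec.2⟩)
      refine ⟨fun i => (Z i).1, fun i => (Z i).2, fun i => ?_⟩
      simp only [Z, Fin.induction_succ]
      exact (hg ((Z i.castSucc).2.symm ▸ hstep i : y i.succ ⤳ f (Z i.castSucc).1)).choose_spec.1
  let l' : LTSeries (TopologicalSpace.IrreducibleCloseds X) :=
    { length := l.length
      toFun := fun i => ⟨closure {z i}, isIrreducible_singleton.closure, isClosed_closure⟩
      step := fun i => by
        have h1 : l i.castSucc < l i.succ := l.step i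
        refine lt_of_le_not_ge (closure_minimal (Set.singleton_subset_iff.2
          (specializes_iff_mem_closure.1 (hzs i))) isClosed_closure) fun hle => ?_
        have h2 : y i.castSucc ⤳ y i.succ := by
          rw [← hz, ← hz]
          exact (specializes_iff_mem_closure.2 (hle (subset_closure rfl))).map hf
        exact h1.not_ge (show (l i.succ : Set Y) ⊆ l i.castSucc from
          (hy i.succ).def ▸ closure_minimal (Set.singleton_subset_iff.2
            (h2.mem_closed (l i.castSucc).isClosed (hy i.castSucc).mem)) (l i.castSucc).isClosed) }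
  exact le_trans (le_of_eq rfl) (Order.LTSeries.length_le_krullDim l')

end Groth.Agent.S7552
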