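import Groth.Statements.S7555


set_option autoImplicit false
universe u
open PtTop

namespace Groth.Agent.S7555

/-- Let f : X → X be a surjective continuous self-map of a Hausdorff topological space with f ≠ id. Then
there is a closed subset E ⊊ X such that X = E ∪ f(E). -/
theorem result {X : Type u} [TopologicalSpace X] [T2Space X]
    (f : X → X) (hf : Continuous f) (hsurj : Function.Surjective f) (hne : f ≠ id) :
    ∃ E : Set X, IsClosed E ∧ E ≠ Set.univ ∧ E ∪ f '' E = Set.univ := by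
  obtain ⟨x, hx⟩ : ∃ x, f x ≠ x := Function.ne_iff.1 hne
  obtain ⟨U, V, hU, hV, hxU, hxV, hd⟩ := t2_separation hx.symm
  refine ⟨(U ∩ f ⁻¹' V)ᶜ, (hU.inter (hV.preimage hf)).isClosed_compl,
    fun h => (Set.eq_univ_iff_forall.1 h x) ⟨hxU, hxV⟩, Set.eq_univ_of_forall fun w => ?_⟩
  by_cases hw : w ∈ U ∩ f ⁻¹' V
  · obtain ⟨z, rfl⟩ := hsurj w
    exact Or.inr ⟨z, fun hz => Set.disjoint_left.1 hd hw.1 hz.2, rfl⟩
  · exact Or.inl hw

end Groth.Agent.S7555
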