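import Groth.Statements.S7556
import Mathlib.Topology.ExtremallyDisconnected

set_option autoImplicit false
universe u
open PtTop

/-- a type synonym for the discrete topology -/
def Groth.Agent.S7556.WithDiscrete (X : Type u) : Type u := X

/-- forget the discrete topology -/
def Groth.Agent.S7556.undisc {X : Type u} (x : WithDiscrete X) : X := x

namespace Groth.Agent.S7556

/-- Let X be a quasi-compact Hausdorff space. There is a continuous surjection p : X' → X with X'
quasi-compact, Hausdorff and extremally disconnected such that no proper closed subset of X' maps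
onto X; and if q : X'' → X is a second cover with the same properties, there is a homeomorphism X' ≃
X'' compatible with p and q. -/
theorem result (X : Type u) [TopologicalSpace X] [CompactSpace X] [T2Space X] :
    (∃ (X' : Type u) (_ : TopologicalSpace X') (_ : CompactSpace X') (_ : T2Space X') (_ : ExtremallyDisconnected X')
        (p : X' → X), Continuous p ∧ Function.Surjective p ∧
        ∀ E : Set X', IsClosed E → E ≠ Set.univ → p '' E ≠ Set.univ) ∧
    (∀ (X' X'' : Type u) [TopologicalSpace X'] [CompactSpace X'] [T2Space X'] [ExtremallyDisconnected X']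
        [TopologicalSpace X''] [CompactSpace X''] [T2Space X''] [ExtremallyDisconnected X'']
        (p : X' → X) (q : X'' → X),
        Continuous p → Function.Surjective p → (∀ E : Set X', IsClosed E → E ≠ Set.univ → p '' E ≠ Set.univ) →
        Continuous q → Function.Surjective q → (∀ E : Set X'', IsClosed E → E ≠ Set.univ → q '' E ≠ Set.univ) →
        ∃ h : X' ≃ₜ X'', q ∘ h = p) := by
  have key : ∀ (T : Type u) [TopologicalSpace T] [T2Space T] (p : T → X) (φ : T → T),
      Function.Surjective p → (∀ E : Set T, IsClosed E → E ≠ Set.univ → p '' E ≠ Set.univ) →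
      Continuous φ → p ∘ φ = p → φ = id := by
    intro T _ _ p φ hp hmin hφ hpφ
    by_contra hne
    obtain ⟨x, hx⟩ : ∃ x, φ x ≠ x := not_forall.1 fun h => hne (funext h)
    obtain ⟨A, B, hA, hB, hxA, hxB, hd⟩ := t2_separation hx
    let U := B ∩ φ ⁻¹' A
    have hU : IsOpen U := hB.inter (hA.preimage hφ)
    refine hmin Uᶜ hU.isClosed_compl (Set.compl_ne_univ.2 ⟨x, hxB, hxA⟩) (Set.eq_univ_of_forall fun y => ?_)
    obtain ⟨u, rfl⟩ := hp y
    by_cases hu : u ∈ U
    · exact ⟨φ u, fun h => Set.disjoint_left.1 hd hu.2 h.1, congrFun hpφ u⟩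
    · exact ⟨u, hu, rfl⟩
  refine ⟨?_, ?_⟩
  · letI : TopologicalSpace (WithDiscrete X) := ⊥
    haveI : DiscreteTopology (WithDiscrete X) := ⟨rfl⟩
    let ξ : StoneCech (WithDiscrete X) → X :=
      stoneCechExtend (g := (undisc (X := X))) continuous_of_discreteTopology
    have hξ : Continuous ξ := continuous_stoneCechExtend _
    have hξs : Function.Surjective ξ := fun x => ⟨stoneCechUnit (x : WithDiscrete X),
      stoneCechExtend_stoneCechUnit (g := (undisc (X := X))) continuous_of_discreteTopology x⟩
    obtain ⟨E, hEc, hEs, hEmin⟩ := exists_compact_surjective_zorn_subset hξ hξs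
    let p : E → X := E.domRestrict ξ
    have hp : Continuous p := hξ.comp continuous_subtype_val
    have hps : Function.Surjective p := fun x => by
      obtain ⟨d, hd, rfl⟩ := (hEs.symm ▸ Set.mem_univ x : x ∈ ξ '' E)
      exact ⟨⟨d, hd⟩, rfl⟩
    have hmin : ∀ F : Set E, IsClosed F → F ≠ Set.univ → p '' F ≠ Set.univ :=
      fun F h1 h2 => hEmin F h2 h1
    obtain ⟨r, hr, hr'⟩ := StoneCech.projective hξ hp hps
    have hri : r ∘ Subtype.val = id := key E p _ hps hmin (hr.comp continuous_subtype_val)
      (by rw [← Function.comp_assoc, hr']; rfl)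
    have hproj : CompactT2.Projective E := by
      intro Y Z _ _ _ _ _ _ f g hf hg hgs
      obtain ⟨h, hh, hh'⟩ := StoneCech.projective (hf.comp hr) hg hgs
      refine ⟨h ∘ Subtype.val, hh.comp continuous_subtype_val, ?_⟩
      rw [← Function.comp_assoc, hh', Function.comp_assoc, hri, Function.comp_id]
    exact ⟨E, inferInstance, inferInstance, inferInstance, hproj.extremallyDisconnected, p, hp, hps, hmin⟩
  · intro X' X'' _ _ _ _ _ _ _ _ p q hp hps hpm hq hqs hqm
    obtain ⟨a, ha, ha'⟩ := CompactT2.ExtremallyDisconnected.projective (A := X') hp hq hqs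
    obtain ⟨b, hb, hb'⟩ := CompactT2.ExtremallyDisconnected.projective (A := X'') hq hp hps
    have h1 : b ∘ a = id := key X' p _ hps hpm (hb.comp ha) (by rw [← Function.comp_assoc, hb', ha'])
    have h2 : a ∘ b = id := key X'' q _ hqs hqm (ha.comp hb) (by rw [← Function.comp_assoc, ha', hb'])
    exact ⟨⟨⟨a, b, congrFun h1, congrFun h2⟩, ha, hb⟩, ha'⟩

end Groth.Agent.S7556
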