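import Groth.Statements.S7559
import Groth.Agent.Lib.Strat20.Basic

set_option autoImplicit false
universe u
open PtTop

namespace Groth.Agent.S7559

/-- Let X be a topological space and X = ∐ P_k a finite partition into locally closed parts. Then there
is a finite stratification of X refining it: a finite partially ordered index set I and pairwise
disjoint locally closed strata S_i covering X with closure(S_j) ⊆ ⋃_{i ≤ j} S_i, such that every
part P_k is a union of strata. -/
theorem result {X : Type u} [TopologicalSpace X]
    {n : ℕ} (P : Fin n → Set X) (hP : ∀ k, IsLocallyClosed (P k)) (hcov : ⋃ k, P k = Set.univ)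
    (hdisj : ∀ k k', k ≠ k' → Disjoint (P k) (P k')) :
    ∃ (I : Type) (_ : Fintype I) (_ : PartialOrder I) (S : I → Set X),
      (∀ i, IsLocallyClosed (S i)) ∧ (⋃ i, S i = Set.univ) ∧ (∀ i j, i ≠ j → Disjoint (S i) (S j)) ∧
      (∀ j, closure (S j) ⊆ ⋃ i ∈ Set.Iic j, S i) ∧
      (∀ i k, (S i ∩ P k).Nonempty → S i ⊆ P k) := by
  obtain ⟨N, U, hU, hd⟩ := GrothLib.Strat20.Cut.exists_common fun k => GrothLib.Strat20.Cut.of_isLocallyClosed (hP k)
  exact ⟨Finset (Fin N), inferInstance, inferInstance, GrothLib.Strat20.piece U,
    fun A => GrothLib.Strat20.isLocallyClosed_piece hU A,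
    GrothLib.Strat20.iUnion_piece U, fun A B h => GrothLib.Strat20.disjoint_piece U h,
    fun A => GrothLib.Strat20.closure_piece hU A,
    fun A k h => GrothLib.Strat20.piece_subset (hd k) h⟩

end Groth.Agent.S7559
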