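import Groth.Statements.S7560
import Groth.Agent.Lib.Strat20.Basic

set_option autoImplicit false
universe u
open ConstrTop

namespace Groth.Agent.S7560

/-- Let X be a topological space written as a finite union X = T_1 ∪ … ∪ T_n of constructible subsets.
Then there is a finite stratification X = ∐ S_i (pairwise disjoint locally closed strata indexed by
a finite partially ordered set, with closure(S_j) ⊆ ⋃_{i ≤ j} S_i) whose strata are constructible
and such that every T_k is a union of strata. -/
theorem result {X : Type u} [TopologicalSpace X]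
    {n : ℕ} (T : Fin n → Set X) (hT : ∀ k, Topology.IsConstructible (T k)) (hcov : ⋃ k, T k = Set.univ) :
    ∃ (I : Type) (_ : Fintype I) (_ : PartialOrder I) (S : I → Set X),
      (∀ i, IsLocallyClosed (S i) ∧ Topology.IsConstructible (S i)) ∧ (⋃ i, S i = Set.univ) ∧
      (∀ i j, i ≠ j → Disjoint (S i) (S j)) ∧
      (∀ j, closure (S j) ⊆ ⋃ i ∈ Set.Iic j, S i) ∧
      (∀ i k, (S i ∩ T k).Nonempty → S i ⊆ T k) := by
  obtain ⟨N, U, hU, hd⟩ := GrothLib.Strat20.Cut.exists_common fun k => GrothLib.Strat20.Cut.of_isConstructible (hT k)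
  exact ⟨Finset (Fin N), inferInstance, inferInstance, GrothLib.Strat20.piece U,
    fun A => ⟨GrothLib.Strat20.isLocallyClosed_piece (fun i => (hU i).1) A,
      GrothLib.Strat20.isConstructible_piece (fun i => (hU i).1) (fun i => (hU i).2) A⟩,
    GrothLib.Strat20.iUnion_piece U, fun A B h => GrothLib.Strat20.disjoint_piece U h,
    fun A => GrothLib.Strat20.closure_piece (fun i => (hU i).1) A,
    fun A k h => GrothLib.Strat20.piece_subset (hd k) h⟩

end Groth.Agent.S7560
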