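import Groth.Statements.S7561
import Groth.Agent.Lib.Strat20.Basic

set_option autoImplicit false
universe u
open PtTop

namespace Groth.Agent.S7561

/-- Let X be a Noetherian topological space and X = ∐ P_k a finite partition into locally closed parts.
Then it is refined by a finite good stratification: a finite partition X = ∐ S_i into locally closed
strata such that S_i ∩ closure(S_j) ≠ ∅ implies S_i ⊆ closure(S_j), with every P_k a union of
strata. -/
theorem result {X : Type u} [TopologicalSpace X]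
    [TopologicalSpace.NoetherianSpace X]
    {n : ℕ} (P : Fin n → Set X) (hP : ∀ k, IsLocallyClosed (P k)) (hcov : ⋃ k, P k = Set.univ)
    (hdisj : ∀ k k', k ≠ k' → Disjoint (P k) (P k')) :
    ∃ (m : ℕ) (S : Fin m → Set X),
      (∀ i, IsLocallyClosed (S i)) ∧ (⋃ i, S i = Set.univ) ∧ (∀ i j, i ≠ j → Disjoint (S i) (S j)) ∧
      (∀ i j, (S i ∩ closure (S j)).Nonempty → S i ⊆ closure (S j)) ∧
      (∀ i k, (S i ∩ P k).Nonempty → S i ⊆ P k) := by
  choose O C hO hC hOC using hP
  obtain ⟨S, h1, h2, h3, h4, h5⟩ := GrothLib.Strat20.exists_good (⊤ : TopologicalSpace.Closeds X)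
    (Set.range C ∪ Set.range fun k => (O k)ᶜ) ((Set.finite_range _).union (Set.finite_range _))
    (by rintro _ (⟨k, rfl⟩ | ⟨k, rfl⟩); exacts [hC k, (hO k).isClosed_compl])
  refine ⟨S.length, fun i => S.get i, fun i => (h1 _ (List.get_mem S i)).1, ?_, ?_, ?_, ?_⟩
  · refine Set.eq_univ_of_forall fun x => ?_
    obtain ⟨s, hs, hx⟩ := Set.mem_iUnion₂.1 (h2 (Set.mem_univ x))
    obtain ⟨i, hi⟩ := List.get_of_mem hs
    exact Set.mem_iUnion.2 ⟨i, hi.symm ▸ hx⟩
  · intro i j hij
    rcases lt_or_gt_of_ne hij with h | h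
    · exact List.pairwise_iff_get.1 h3 i j h
    · exact (List.pairwise_iff_get.1 h3 j i h).symm
  · exact fun i j h => h4 _ (List.get_mem S i) _ (List.get_mem S j) h
  · intro i k hne
    obtain ⟨x, hx, hxP⟩ := hne
    rw [hOC] at hxP
    intro y hy
    rw [hOC]
    refine ⟨by_contra fun hyO => ?_, h5 _ (List.get_mem S i) _ (.inl ⟨k, rfl⟩) ⟨x, hx, hxP.2⟩ hy⟩
    exact h5 _ (List.get_mem S i) _ (.inr ⟨k, rfl⟩) ⟨y, hy, hyO⟩ hx hxP.1

end Groth.Agent.S7561
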