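import Groth.Statements.S7564


set_option autoImplicit false
universe u
open PtTop

namespace Groth.Agent.S7564

/-- For a continuous surjection f : X → Y, if X has finitely many irreducible components, say n of them,
then Y has at most n irreducible components. -/
theorem result {X Y : Type u} [TopologicalSpace X] [TopologicalSpace Y]
    (f : X → Y) (hf : Continuous f) (hs : Function.Surjective f) (hfin : (irreducibleComponents X).Finite) :
    (irreducibleComponents Y).Finite ∧ (irreducibleComponents Y).ncard ≤ (irreducibleComponents X).ncard := by
  have hsub : irreducibleComponents Y ⊆ (fun S => closure (f '' S)) '' irreducibleComponents X := by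
    intro C hC
    classical
    obtain ⟨z, hz, hCz⟩ := isIrreducible_iff_sUnion_isClosed.1 hC.1
      (hfin.toFinset.image fun S => closure (f '' S)) (by simp) (by
        intro y _
        obtain ⟨x, rfl⟩ := hs y
        rw [Finset.coe_image, Set.Finite.coe_toFinset]
        exact ⟨_, ⟨_, irreducibleComponent_mem_irreducibleComponents x, rfl⟩,
          subset_closure ⟨x, mem_irreducibleComponent, rfl⟩⟩)
    obtain ⟨S, hS, rfl⟩ := Finset.mem_image.1 hz
    rw [Set.Finite.mem_toFinset] at hS
    exact ⟨S, hS, subset_antisymm (hC.2 (hS.1.image f hf.continuousOn).closure hCz) hCz⟩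
  exact ⟨(hfin.image _).subset hsub, (Set.ncard_le_ncard hsub (hfin.image _)).trans (Set.ncard_image_le hfin)⟩

end Groth.Agent.S7564
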