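import Groth.Statements.S7565


set_option autoImplicit false
universe u
open PtTop

namespace Groth.Agent.S7565

/-- Let f : X → Y be a continuous open map of topological spaces and assume every point of X has a
Noetherian neighbourhood. Then every point of f(X) (with the induced topology) has a Noetherian
neighbourhood. The published statement also asserts that a continuous image of a Noetherian space is
Noetherian; this row states the part about open maps and locally Noetherian spaces. -/
theorem result {X Y : Type u} [TopologicalSpace X] [TopologicalSpace Y]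
    (f : X → Y) (hf : Continuous f) (hfo : IsOpenMap f)
    (hX : ∀ x : X, ∃ E ∈ nhds x, TopologicalSpace.NoetherianSpace E) :
    ∀ y : Set.range f, ∃ E : Set (Set.range f), E ∈ nhds y ∧ TopologicalSpace.NoetherianSpace E := by
  rintro ⟨_, x, rfl⟩
  obtain ⟨E, hE, hN⟩ := hX x
  obtain ⟨U, hUE, hU, hxU⟩ := mem_nhds_iff.1 hE
  haveI := hN
  haveI : TopologicalSpace.NoetherianSpace U :=
    (Topology.IsEmbedding.inclusion hUE).isInducing.noetherianSpace
  refine ⟨Subtype.val ⁻¹' (f '' U), ((hfo U hU).preimage continuous_subtype_val).mem_nhds ⟨x, hxU, rfl⟩, ?_⟩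
  let g : U → ↥((Subtype.val : Set.range f → Y) ⁻¹' (f '' U)) := fun z => ⟨⟨f z, z, rfl⟩, z, z.2, rfl⟩
  refine TopologicalSpace.noetherianSpace_of_surjective g ?_ ?_
  · exact Continuous.subtype_mk (Continuous.subtype_mk (hf.comp continuous_subtype_val) _) _
  · rintro ⟨⟨y, hy⟩, ⟨z, hz, hzy⟩⟩
    exact ⟨⟨z, hz⟩, Subtype.ext (Subtype.ext hzy)⟩

end Groth.Agent.S7565
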