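import Groth.Statements.S7566
import Groth.Agent.Lib.NoethTop.Components

set_option autoImplicit false
universe u
open PtTop

namespace Groth.Agent.S7566

/-- Let X be a quasi-compact topological space whose quasi-compact opens form a basis, any two of them
meeting in a quasi-compact set. Then for every x ∈ X the connected component of x equals the
intersection of every clopen subset of X that contains x. -/
theorem result {X : Type u} [TopologicalSpace X]
    [CompactSpace X] [PrespectralSpace X] [QuasiSeparatedSpace X] (x : X) :
    connectedComponent x = ⋂₀ {Z : Set X | IsClopen Z ∧ x ∈ Z} := by
  exact GrothLib.Components.connectedComponent_eq x

end Groth.Agent.S7566
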