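import Groth.Statements.S7567
import Groth.Agent.Lib.NoethTop.Components

set_option autoImplicit false
universe u
open PtTop

namespace Groth.Agent.S7567

/-- Let X be a quasi-compact topological space whose quasi-compact opens form a basis, any two of them
meeting in a quasi-compact set. For a subset T ⊆ X these two conditions are equivalent: (a) T can be
written as an intersection of clopen subsets of X; (b) T is closed and is a union of connected
components of X. -/
theorem result {X : Type u} [TopologicalSpace X]
    [CompactSpace X] [PrespectralSpace X] [QuasiSeparatedSpace X] (T : Set X) :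
    (∃ S : Set (Set X), (∀ Z ∈ S, IsClopen Z) ∧ T = ⋂₀ S) ↔
      (IsClosed T ∧ ∀ x ∈ T, connectedComponent x ⊆ T) := by
  constructor
  · rintro ⟨S, hS, rfl⟩
    exact ⟨isClosed_sInter fun Z hZ => (hS Z hZ).isClosed, fun x hx => Set.subset_sInter fun Z hZ =>
      (hS Z hZ).connectedComponent_subset (Set.mem_sInter.1 hx Z hZ)⟩
  · rintro ⟨hT, hcomp⟩
    refine ⟨{Z | IsClopen Z ∧ T ⊆ Z}, fun Z hZ => hZ.1, subset_antisymm (fun x hx Z hZ => hZ.2 hx) fun y hy => ?_⟩
    by_contra hyT
    obtain ⟨Z, hZ, hyZ, hZT⟩ := GrothLib.Components.exists_clopen_disjoint hT.isCompact (x := y) fun t ht => by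
      by_contra! hall
      have : t ∈ connectedComponent y := by
        rw [GrothLib.Components.connectedComponent_eq]
        exact fun Z hZ => hall Z hZ.1 hZ.2
      exact hyT (hcomp t ht (by rw [← connectedComponent_eq this]; exact mem_connectedComponent))
    exact hy Zᶜ ⟨hZ.compl, fun t ht htZ => Set.disjoint_left.1 hZT htZ ht⟩ hyZ

end Groth.Agent.S7567
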