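import Groth.Statements.S7568
import Mathlib.Topology.Separation.Basic
import Mathlib.Topology.Compactness.LocallyCompact

set_option autoImplicit false
universe u
open PtTop

namespace Groth.Agent.S7568

/-- Let X be a Hausdorff quasi-compact space, X = ⋃ U_i an open covering, p ≥ 0 an integer, and for
every (p+1)-tuple (i_0, …, i_p) an open covering of U_{i_0} ∩ … ∩ U_{i_p} by opens W_{i_0…i_p,k}.
Then there are an open covering X = ⋃_{j ∈ J} V_j and a map α : J → I with closure(V_j) ⊆ U_{α(j)}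
such that each V_{j_0} ∩ … ∩ V_{j_p} is contained in W_{α(j_0)…α(j_p),k} for some k. The published
statement allows a covering of an empty intersection to have no members; this row requires every
covering W_{i_0…i_p} to have at least one member (possibly empty), without which the conclusion
fails. -/
theorem result {X : Type u} [TopologicalSpace X] [CompactSpace X] [T2Space X]
    {ι : Type u} (U : ι → Set X) (hU : ∀ i, IsOpen (U i)) (hcov : ⋃ i, U i = Set.univ) (p : ℕ)
    (W : (Fin (p + 1) → ι) → Set (Set X)) (hWo : ∀ t, ∀ w ∈ W t, IsOpen w)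
    (hWc : ∀ t, ⋃₀ W t = ⋂ l, U (t l)) (hWne : ∀ t, (W t).Nonempty) :
    ∃ (J : Type u) (V : J → Set X) (α : J → ι), (∀ j, IsOpen (V j)) ∧ (⋃ j, V j = Set.univ) ∧
      (∀ j, closure (V j) ⊆ U (α j)) ∧
      (∀ t : Fin (p + 1) → J, ∃ w ∈ W (α ∘ t), (⋂ l, V (t l)) ⊆ w) := by
  classical
  choose f hf using fun z : X => Set.mem_iUnion.1 (hcov.symm ▸ Set.mem_univ z : z ∈ ⋃ i, U i)
  choose K hK hzK hKU using fun z : X => exists_compact_subset (hU (f z)) (hf z)
  obtain ⟨s, hs⟩ := isCompact_univ.elim_finite_subcover (fun z : X => interior (K z))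
    (fun z => isOpen_interior) (fun z _ => Set.mem_iUnion.2 ⟨z, hzK z⟩)
  choose c hcs hcx using fun x : X => Set.mem_iUnion₂.1 (hs (Set.mem_univ x))
  choose w hw hxw using fun (x : X) (t : {t : Fin (p + 1) → s // ∀ l, x ∈ K (t l).1}) =>
    Set.mem_sUnion.1 ((hWc (fun l => f (t.1 l).1)).symm ▸ Set.mem_iInter.2 (fun l => hKU _ (t.2 l)) :
      x ∈ ⋃₀ W (fun l => f (t.1 l).1))
  let V : X → Set X := fun x => interior (K (c x)) ∩ (⋃ z ∈ s.filter (fun z => x ∉ K z), K z)ᶜ ∩
    ⋂ t : {t : Fin (p + 1) → s // ∀ l, x ∈ K (t l).1}, w x t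
  refine ⟨X, V, fun x => f (c x), fun x => ?_, Set.eq_univ_of_forall fun x => ?_, fun x => ?_, fun t => ?_⟩
  · exact (isOpen_interior.inter (isClosed_biUnion_finset fun z _ => (hK z).isClosed).isOpen_compl).inter
      (isOpen_iInter_of_finite fun t => hWo _ _ (hw x t))
  · refine Set.mem_iUnion.2 ⟨x, ⟨hcx x, fun h => ?_⟩, Set.mem_iInter.2 fun t => hxw x t⟩
    obtain ⟨z, hz, hxz⟩ := Set.mem_iUnion₂.1 h
    exact (Finset.mem_filter.1 hz).2 hxz
  · refine (closure_minimal ?_ (hK (c x)).isClosed).trans (hKU _)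
    exact fun y hy => interior_subset hy.1.1
  · rcases (⋂ l, V (t l)).eq_empty_or_nonempty with h | ⟨y, hy⟩
    · obtain ⟨w, hw⟩ := hWne ((fun x => f (c x)) ∘ t)
      exact ⟨w, hw, by rw [h]; exact Set.empty_subset _⟩
    · have hy' := fun l => Set.mem_iInter.1 hy l
      have ht : ∀ l, t 0 ∈ K ((⟨c (t l), hcs _⟩ : s) : X) := fun l => by
        by_contra h
        exact (hy' 0).1.2 (Set.mem_iUnion₂.2 ⟨c (t l), Finset.mem_filter.2 ⟨hcs _, h⟩, interior_subset (hy' l).1.1⟩)
      refine ⟨w (t 0) ⟨_, ht⟩, hw (t 0) ⟨_, ht⟩, fun z hz => ?_⟩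
      exact Set.mem_iInter.1 (Set.mem_iInter.1 hz 0).2 ⟨_, ht⟩

end Groth.Agent.S7568
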