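import Groth.Statements.S7569
import Mathlib.Topology.Separation.Basic
import Mathlib.Topology.Compactness.LocallyCompact

set_option autoImplicit false
universe u
open PtTop

namespace Groth.Agent.S7569

/-- Let X be a Hausdorff, locally quasi-compact space and Z ⊆ X a quasi-compact subset. Let p ≥ 0, let
U_i ⊆ X be opens with Z ⊆ ⋃ U_i, and for every (p+1)-tuple (i_0, …, i_p) let W_{i_0…i_p} ⊆ U_{i_0} ∩
… ∩ U_{i_p} be an open with W_{i_0…i_p} ∩ Z = U_{i_0} ∩ … ∩ U_{i_p} ∩ Z. Then there are opens V_i ⊆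
X with Z ⊆ ⋃ V_i, closure(V_i) ⊆ U_i for all i, and V_{i_0} ∩ … ∩ V_{i_p} ⊆ W_{i_0…i_p} for all
(p+1)-tuples. -/
theorem result {X : Type u} [TopologicalSpace X]
    [T2Space X] [LocallyCompactSpace X] (Z : Set X) (hZ : IsCompact Z)
    {ι : Type u} (U : ι → Set X) (hU : ∀ i, IsOpen (U i)) (hcov : Z ⊆ ⋃ i, U i) (p : ℕ)
    (W : (Fin (p + 1) → ι) → Set X) (hWo : ∀ t, IsOpen (W t)) (hWU : ∀ t, W t ⊆ ⋂ l, U (t l))
    (hWZ : ∀ t, W t ∩ Z = (⋂ l, U (t l)) ∩ Z) :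
    ∃ V : ι → Set X, (∀ i, IsOpen (V i)) ∧ (Z ⊆ ⋃ i, V i) ∧ (∀ i, closure (V i) ⊆ U i) ∧
      (∀ t : Fin (p + 1) → ι, (⋂ l, V (t l)) ⊆ W t) := by
  classical
  choose f hf using fun z : Z => Set.mem_iUnion.1 (hcov z.2)
  choose K hK hzK hKU using fun z : Z => exists_compact_subset (hU (f z)) (hf z)
  obtain ⟨s, hs⟩ := hZ.elim_finite_subcover (fun z => interior (K z)) (fun z => isOpen_interior)
    (fun z hz => Set.mem_iUnion.2 ⟨⟨z, hz⟩, hzK _⟩)
  let A : ι → Set X := fun i => ⋃ z ∈ s.filter (fun z => f z = i), K z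
  have hA : ∀ i, IsCompact (A i) := fun i => Finset.isCompact_biUnion _ fun z _ => hK z
  have hAU : ∀ i, A i ⊆ U i := fun i => Set.iUnion₂_subset fun z hz => (Finset.mem_filter.1 hz).2 ▸ hKU z
  let B : (Fin (p + 1) → ι) → Set X := fun t => (⋂ l, A (t l)) \ W t
  have hfin : {t : Fin (p + 1) → ι | ∀ l, t l ∈ s.image f}.Finite :=
    (Set.Finite.pi fun _ => (s.image f).finite_toSet).subset fun t ht => Set.mem_univ_pi.2 ht
  let O : Set X := (⋃ t ∈ hfin.toFinset, B t)ᶜ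
  have hO : IsOpen O := (isClosed_biUnion_finset fun t _ =>
    (isClosed_iInter fun l => (hA (t l)).isClosed).sdiff (hWo t)).isOpen_compl
  have hZO : Z ⊆ O := by
    intro z hz hzB
    obtain ⟨t, -, hzA, hzW⟩ := Set.mem_iUnion₂.1 hzB
    exact hzW (((Set.ext_iff.1 (hWZ t) z).2 ⟨Set.mem_iInter.2 fun l => hAU _ (Set.mem_iInter.1 hzA l), hz⟩).1)
  refine ⟨fun i => interior (A i) ∩ O, fun i => isOpen_interior.inter hO, fun z hz => ?_, fun i => ?_,
    fun t x hx => ?_⟩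
  · obtain ⟨w, hw, hzw⟩ := Set.mem_iUnion₂.1 (hs hz)
    have hwf : w ∈ s.filter (fun z => f z = f w) := Finset.mem_filter.2 ⟨hw, rfl⟩
    have hsub : K w ⊆ A (f w) := by
      intro y hy
      simp only [A]
      exact Set.mem_iUnion₂.2 ⟨w, hwf, hy⟩
    refine Set.mem_iUnion.2 ⟨f w, ?_⟩
    exact ⟨interior_mono hsub hzw, hZO hz⟩
  · exact (closure_minimal (Set.inter_subset_left.trans interior_subset) (hA i).isClosed).trans (hAU i)
  · by_contra hxW
    have hx' := fun l => Set.mem_iInter.1 hx l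
    have ht : t ∈ hfin.toFinset := hfin.mem_toFinset.2 fun l => by
      obtain ⟨z, hz, -⟩ := Set.mem_iUnion₂.1 (interior_subset (hx' l).1)
      exact Finset.mem_image.2 ⟨z, (Finset.mem_filter.1 hz).1, (Finset.mem_filter.1 hz).2⟩
    exact (hx' 0).2 (Set.mem_iUnion₂.2 ⟨t, ht, Set.mem_iInter.2 fun l => interior_subset (hx' l).1, hxW⟩)

end Groth.Agent.S7569
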