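import Groth.Statements.S7570
import Mathlib.Topology.Separation.Basic
import Mathlib.Topology.Compactness.Compact

set_option autoImplicit false
universe u
open PtTop

namespace Groth.Agent.S7570

/-- Let X be a topological space and Z ⊆ X a quasi-compact subset such that any two distinct points of Z
have disjoint open neighbourhoods in X. Let p ≥ 0, let U_i ⊆ X be opens with Z ⊆ ⋃ U_i, and for
every (p+1)-tuple let W_{i_0…i_p} ⊆ U_{i_0} ∩ … ∩ U_{i_p} be an open with W_{i_0…i_p} ∩ Z = U_{i_0}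
∩ … ∩ U_{i_p} ∩ Z. Then there are opens V_i with (1) Z ⊆ ⋃ V_i, (2) V_i ⊆ U_i, (3) closure(V_i) ∩ Z
⊆ U_i, and (4) V_{i_0} ∩ … ∩ V_{i_p} ⊆ W_{i_0…i_p} for all (p+1)-tuples. -/
theorem result {X : Type u} [TopologicalSpace X]
    (Z : Set X) (hZ : IsCompact Z)
    (hZsep : ∀ z ∈ Z, ∀ z' ∈ Z, z ≠ z' → ∃ A B : Set X, IsOpen A ∧ IsOpen B ∧ z ∈ A ∧ z' ∈ B ∧ Disjoint A B)
    {ι : Type u} (U : ι → Set X) (hU : ∀ i, IsOpen (U i)) (hcov : Z ⊆ ⋃ i, U i) (p : ℕ)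
    (W : (Fin (p + 1) → ι) → Set X) (hWo : ∀ t, IsOpen (W t)) (hWU : ∀ t, W t ⊆ ⋂ l, U (t l))
    (hWZ : ∀ t, W t ∩ Z = (⋂ l, U (t l)) ∩ Z) :
    ∃ V : ι → Set X, (∀ i, IsOpen (V i)) ∧ (Z ⊆ ⋃ i, V i) ∧ (∀ i, V i ⊆ U i) ∧
      (∀ i, closure (V i) ∩ Z ⊆ U i) ∧ (∀ t : Fin (p + 1) → ι, (⋂ l, V (t l)) ⊆ W t) := by
  classical
  have key : ∀ z : Z, ∃ (i : ι) (A : Set X), IsOpen A ∧ (z : X) ∈ A ∧ A ⊆ U i ∧ closure A ∩ Z ⊆ U i := by
    rintro ⟨z, hz⟩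
    obtain ⟨i, hi⟩ := Set.mem_iUnion.1 (hcov hz)
    have hK : IsCompact (Z \ U i) := hZ.diff (hU i)
    obtain ⟨B, A, hB, hA, hKB, hzA, hAB⟩ : SeparatedNhds (Z \ U i) {z} := by
      refine hK.induction_on (p := fun S => SeparatedNhds S {z}) (SeparatedNhds.empty_left _)
        (fun S T hST h => h.mono hST subset_rfl) (fun S T h h' => h.union_left h') ?_
      rintro a ⟨ha, ha'⟩
      obtain ⟨A, B, hA, hB, haA, hbB, hd⟩ := hZsep a ha z hz (fun h => ha' (h ▸ hi))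
      exact ⟨A, mem_nhdsWithin_of_mem_nhds (hA.mem_nhds haA),
        ⟨A, B, hA, hB, subset_rfl, Set.singleton_subset_iff.2 hbB, hd⟩⟩
    refine ⟨i, A ∩ U i, hA.inter (hU i), ⟨hzA rfl, hi⟩, Set.inter_subset_right, ?_⟩
    rintro x ⟨hx, hxZ⟩
    by_contra h
    obtain ⟨y, hyB, hyA⟩ := mem_closure_iff.1 hx B hB (hKB ⟨hxZ, h⟩)
    exact Set.disjoint_left.1 hAB hyB hyA.1
  choose idx A hAo hzA hAU hAZ using key
  obtain ⟨s, hs⟩ := hZ.elim_finite_subcover A hAo (fun z hz => Set.mem_iUnion.2 ⟨⟨z, hz⟩, hzA ⟨z, hz⟩⟩)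
  let V' : ι → Set X := fun i => ⋃ z ∈ s.filter (fun z => idx z = i), A z
  have hV'cl : ∀ i, closure (V' i) ∩ Z ⊆ U i := fun i x hx => by
    simp only [V', Finset.closure_biUnion] at hx
    obtain ⟨hx, hxZ⟩ := hx
    simp only [Set.mem_iUnion, Finset.mem_filter] at hx
    obtain ⟨z, ⟨_, rfl⟩, hz⟩ := hx
    exact hAZ z ⟨hz, hxZ⟩
  let F : Finset ι := s.image idx
  have hF : ∀ i, i ∉ F → V' i = ∅ := fun i hi => by
    refine Set.eq_empty_of_forall_notMem fun x hx => hi ?_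
    simp only [V', Set.mem_iUnion, Finset.mem_filter] at hx
    obtain ⟨z, ⟨hz, rfl⟩, _⟩ := hx
    exact Finset.mem_image_of_mem idx hz
  let N : Z → Set X := fun z =>
    (⋂ i ∈ F.filter (fun i => (z : X) ∉ closure (V' i)), (closure (V' i))ᶜ) ∩
      ⋂ t ∈ (Fintype.piFinset fun _ : Fin (p + 1) => F).filter (fun t => ∀ l, (z : X) ∈ closure (V' (t l))), W t
  have hNo : ∀ z, IsOpen (N z) := fun z =>
    (isOpen_biInter_finset fun i _ => isClosed_closure.isOpen_compl).inter (isOpen_biInter_finset fun t _ => hWo t)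
  have hzN : ∀ z : Z, (z : X) ∈ N z := by
    intro z
    refine ⟨Set.mem_iInter₂.2 fun i hi => (Finset.mem_filter.1 hi).2, Set.mem_iInter₂.2 fun t ht => ?_⟩
    have h := (Finset.mem_filter.1 ht).2
    have : (z : X) ∈ W t ∩ Z := by
      rw [hWZ t]
      exact ⟨Set.mem_iInter.2 fun l => hV'cl _ ⟨h l, z.2⟩, z.2⟩
    exact this.1
  refine ⟨fun i => V' i ∩ ⋃ z, N z, fun i => ?_, fun x hx => ?_, fun i x hx => ?_,
    fun i x hx => hV'cl i ⟨closure_mono Set.inter_subset_left hx.1, hx.2⟩, fun t x hx => ?_⟩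
  · exact (isOpen_biUnion fun z _ => hAo z).inter (isOpen_iUnion hNo)
  · have h := hs hx
    simp only [Set.mem_iUnion] at h
    obtain ⟨z, hz, hxz⟩ := h
    refine Set.mem_iUnion.2 ⟨idx z, ?_, Set.mem_iUnion.2 ⟨⟨x, hx⟩, hzN ⟨x, hx⟩⟩⟩
    exact Set.mem_iUnion₂.2 ⟨z, Finset.mem_filter.2 ⟨hz, rfl⟩, hxz⟩
  · obtain ⟨hx, -⟩ := hx
    simp only [V', Set.mem_iUnion, Finset.mem_filter] at hx
    obtain ⟨z, ⟨_, rfl⟩, hz⟩ := hx
    exact hAU z hz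
  · simp only [Set.mem_iInter] at hx
    have htF : ∀ l, t l ∈ F := fun l => by
      by_contra h
      exact (hF _ h ▸ (hx l).1 : x ∈ (∅ : Set X))
    obtain ⟨z, hxz⟩ := Set.mem_iUnion.1 (hx 0).2
    refine Set.mem_iInter₂.1 hxz.2 t (Finset.mem_filter.2 ⟨Fintype.mem_piFinset.2 htF, fun l => ?_⟩)
    by_contra h
    exact Set.mem_iInter₂.1 hxz.1 (t l) (Finset.mem_filter.2 ⟨htF l, h⟩) (subset_closure (hx l).1)

end Groth.Agent.S7570
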