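import Groth.Statements.S7571
import Mathlib.Topology.Category.TopCat.Limits.Cofiltered

set_option autoImplicit false
universe u
open CategoryTheory CategoryTheory.Limits
open PtTop

namespace Groth.Agent.S7571

/-- Let j ↦ X_j be a diagram of topological spaces over a cofiltered category with limit X and
projections f_j. (1) Every open of X is a union of subsets of the form f_j⁻¹(U_j) with U_j ⊆ X_j
open. (2) Every quasi-compact open of X equals f_i⁻¹(U_i) for some i and some open U_i ⊆ X_i. -/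
theorem result {J : Type u} [SmallCategory J] [IsCofiltered J]
    (F : J ⥤ TopCat.{u}) (c : Cone F) (hc : IsLimit c) :
    (∀ W : Set c.pt, IsOpen W →
      ∃ S : Set (Σ j, Set (F.obj j)), (∀ s ∈ S, IsOpen s.2) ∧ W = ⋃ s ∈ S, c.π.app s.1 ⁻¹' s.2) ∧
    (∀ W : Set c.pt, IsOpen W → IsCompact W →
      ∃ (i : J) (Ui : Set (F.obj i)), IsOpen Ui ∧ W = c.π.app i ⁻¹' Ui) := by
  have hb := TopCat.isTopologicalBasis_cofiltered_limit F c hc (fun j => {U : Set (F.obj j) | IsOpen U})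
    (fun j => TopologicalSpace.isTopologicalBasis_opens) (fun _ => isOpen_univ)
    (fun _ _ _ h1 h2 => IsOpen.inter h1 h2) (fun i j g V hV => IsOpen.preimage (F.map g).hom.continuous hV)
  have h1 : ∀ W : Set c.pt, IsOpen W →
      ∃ S : Set (Σ j, Set (F.obj j)), (∀ s ∈ S, IsOpen s.2) ∧ W = ⋃ s ∈ S, c.π.app s.1 ⁻¹' s.2 := by
    intro W hW
    refine ⟨{s | IsOpen s.2 ∧ c.π.app s.1 ⁻¹' s.2 ⊆ W}, fun s hs => hs.1, subset_antisymm (fun x hx => ?_) ?_⟩
    · obtain ⟨_, ⟨j, V, hV, rfl⟩, hxV, hVW⟩ := hb.exists_subset_of_mem_open hx hW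
      exact Set.mem_iUnion₂.2 ⟨⟨j, V⟩, ⟨hV, hVW⟩, hxV⟩
    · exact Set.iUnion₂_subset fun s hs => hs.2
  refine ⟨h1, fun W hW hWc => ?_⟩
  classical
  obtain ⟨S, hS, rfl⟩ := h1 W hW
  obtain ⟨t, ht⟩ := hWc.elim_finite_subcover (fun s : S => c.π.app s.1.1 ⁻¹' s.1.2)
    (fun s => (hS s s.2).preimage (c.π.app s.1.1).hom.continuous) (fun x hx => by
      obtain ⟨s, hs, hxs⟩ := Set.mem_iUnion₂.1 hx
      exact Set.mem_iUnion.2 ⟨⟨s, hs⟩, hxs⟩)
  obtain ⟨k, T, -⟩ := IsCofiltered.inf_exists (t.image fun s : S => s.1.1) (∅ : Finset _)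
  refine ⟨k, ⋃ s : t, F.map (T (Finset.mem_image_of_mem _ s.2)) ⁻¹' s.1.1.2,
    isOpen_iUnion fun s => (hS _ s.1.2).preimage (F.map _).hom.continuous, subset_antisymm (fun x hx => ?_) ?_⟩
  · obtain ⟨s, hs, hxs⟩ := Set.mem_iUnion₂.1 (ht hx)
    refine Set.mem_preimage.2 (Set.mem_iUnion.2 ⟨⟨s, hs⟩, ?_⟩)
    rw [Set.mem_preimage, ← ConcreteCategory.comp_apply, c.w]
    exact hxs
  · intro x hx
    obtain ⟨s, hxs⟩ := Set.mem_iUnion.1 hx
    rw [Set.mem_preimage, ← ConcreteCategory.comp_apply, c.w] at hxs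
    exact Set.mem_iUnion₂.2 ⟨_, s.1.2, hxs⟩

end Groth.Agent.S7571
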