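import Groth.Statements.S7574
import Mathlib
import Groth.Agent.Lib.ClosedEmb25.Basic

set_option autoImplicit false
set_option linter.all false
set_option backward.isDefEq.respectTransparency false
universe u
open CategoryTheory TopologicalSpace
open ShSp

namespace Groth.Agent.S7574

open Opposite Topology

variable {X : TopCat.{u}} (U : Opens X)

/-- subterminal presheaf of `U` -/
def sub : TopCat.Presheaf (Type u) X where
  obj V := ULift.{u} (PLift (V.unop ≤ U))
  map {V W} i := TypeCat.ofHom fun h => ULift.up (PLift.up (i.unop.le.trans h.down.down))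

theorem sub_isSheaf : (sub U).IsSheaf := by
  rw [TopCat.Presheaf.isSheaf_iff_isSheafUniqueGluing_types]
  intro ι W sf _
  exact ⟨ULift.up (PLift.up (iSup_le fun i => (sf i).down.down)), fun i => rfl, fun y _ => rfl⟩

def subSheaf : X.Sheaf (Type u) := ⟨sub U, sub_isSheaf U⟩

variable {U}

abbrev jU (U : Opens X) : TopCat.of U ⟶ X := TopCat.ofHom ⟨Subtype.val, continuous_subtype_val⟩

theorem jU_open (U : Opens X) : IsOpenEmbedding (jU U) := U.isOpenEmbedding

theorem contMap {A B : TopCat.{u}} (f : A ⟶ B) :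
    (Opens.map f).IsContinuous (Opens.grothendieckTopology B) (Opens.grothendieckTopology A) := inferInstance

theorem le_U (W : Opens (TopCat.of U)) : (jU_open U).isOpenMap.functor.obj W ≤ U := by
  rintro _ ⟨x, -, rfl⟩
  exact x.2

theorem full_faithful (L : (TopCat.of U).Sheaf (Type u) ⥤ X.Sheaf (Type u))
    (adj : L ⊣ U.sheafRestrict (C := Type u)) : L.Full ∧ L.Faithful := by
  have := (jU_open U).functor_isContinuous
  have := contMap (jU U)
  let adj₂ : U.sheafRestrict (C := Type u) ⊣ TopCat.Sheaf.pushforward (Type u) (jU U) :=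
    (jU_open U).isOpenMap.adjunction.sheafPushforwardContinuous (E := Type u)
      (Opens.grothendieckTopology (TopCat.of U)) (Opens.grothendieckTopology X)
  let t : Adjunction.Triple L (U.sheafRestrict (C := Type u)) (TopCat.Sheaf.pushforward (Type u) (jU U)) := ⟨adj, adj₂⟩
  let hF := t.fullyFaithfulEquiv.symm (GrothLib.ClosedEmb.pushFullyFaithful (jU_open U).toIsInducing)
  exact ⟨hF.full, hF.faithful⟩

theorem empty_outside (L : (TopCat.of U).Sheaf (Type u) ⥤ X.Sheaf (Type u))
    (adj : L ⊣ U.sheafRestrict (C := Type u)) (F : (TopCat.of U).Sheaf (Type u)) (x : X) (hx : x ∉ U) :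
    IsEmpty ((L.obj F).presheaf.stalk x) := by
  refine ⟨fun s => ?_⟩
  obtain ⟨V, hxV, t, -⟩ := TopCat.Presheaf.exists_germ_eq (L.obj F).presheaf s
  let m : F ⟶ (U.sheafRestrict (C := Type u)).obj (subSheaf U) :=
    ObjectProperty.homMk
      { app := fun W => TypeCat.ofHom fun _ => ULift.up (PLift.up (le_U W.unop))
        naturality := fun _ _ _ => rfl }
  exact hx ((((adj.homEquiv _ _).symm m).hom.app (op V) t).down.down hxV)

theorem iso_app {G G' : X.Sheaf (Type u)} (φ : G ⟶ G') (h : IsIso ((U.sheafRestrict (C := Type u)).map φ))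
    (V : Opens X) (hV : V ≤ U) : IsIso (φ.hom.app (op V)) := by
  let W : Opens (TopCat.of U) := (Opens.map (jU U)).obj V
  have e : (jU_open U).isOpenMap.functor.obj W = V := by
    ext x
    exact ⟨fun ⟨y, hy, hxy⟩ => hxy ▸ hy, fun hx => ⟨⟨x, hV hx⟩, hx, rfl⟩⟩
  rw [← e]
  let F := sheafToPresheaf (Opens.grothendieckTopology (TopCat.of U)) (Type u) ⋙
    (CategoryTheory.evaluation _ (Type u)).obj (op W)
  exact inferInstanceAs (IsIso (F.map ((U.sheafRestrict (C := Type u)).map φ)))


/-- Let X be a topological space, U ⊆ X open and j_! : Sh(U) → Sh(X) a left adjoint of restriction of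
sheaves of sets to U. Then j_! is fully faithful, and a sheaf G on X lies in its essential image if
and only if G_x = ∅ for all x ∈ X not in U. -/
theorem result {X : TopCat.{u}} (U : Opens X)
    (L : (TopCat.of U).Sheaf (Type u) ⥤ X.Sheaf (Type u)) (adj : L ⊣ U.sheafRestrict (C := Type u)) :
    L.Full ∧ L.Faithful ∧
    ∀ G : X.Sheaf (Type u), L.essImage G ↔ ∀ x : X, x ∉ U → IsEmpty (G.presheaf.stalk x) := by
  obtain ⟨hL, hL'⟩ := full_faithful L adj
  refine ⟨hL, hL', fun G => ⟨fun ⟨F, ⟨e⟩⟩ x hx => ?_, fun hG => ?_⟩⟩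
  · have := empty_outside L adj F x hx
    exact ⟨fun s => this.false ((TopCat.Presheaf.stalkFunctor (Type u) x).map e.inv.hom s)⟩
  · let ε := adj.counit.app G
    have hR : IsIso ((U.sheafRestrict (C := Type u)).map ε) :=
      IsIso.of_isIso_fac_left (adj.right_triangle_components G)
    have hst : ∀ x : X, IsIso ((TopCat.Presheaf.stalkFunctor (Type u) x).map ε.hom) := by
      intro x
      rw [isIso_iff_bijective]
      by_cases hx : x ∈ U
      · constructor
        · intro a b hab
          obtain ⟨V, hxV, s, rfl⟩ := TopCat.Presheaf.exists_germ_eq (L.obj ((U.sheafRestrict (C := Type u)).obj G)).presheaf a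
          obtain ⟨V', hxV', s', rfl⟩ := TopCat.Presheaf.exists_germ_eq (L.obj ((U.sheafRestrict (C := Type u)).obj G)).presheaf b
          erw [TopCat.Presheaf.stalkFunctor_map_germ_apply, TopCat.Presheaf.stalkFunctor_map_germ_apply] at hab
          obtain ⟨W, hxW, iV, iV', hW⟩ := TopCat.Presheaf.germ_eq _ x hxV hxV' _ _ hab
          let iW : W ⊓ U ⟶ W := homOfLE inf_le_left
          have := iso_app ε hR (W ⊓ U) inf_le_right
          have key : (L.obj ((U.sheafRestrict (C := Type u)).obj G)).presheaf.map (iW ≫ iV).op s =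
              (L.obj ((U.sheafRestrict (C := Type u)).obj G)).presheaf.map (iW ≫ iV').op s' := by
            apply ((isIso_iff_bijective _).1 this).1
            refine (NatTrans.naturality_apply ε.hom (iW ≫ iV).op s).trans ?_
            refine Eq.trans ?_ (NatTrans.naturality_apply ε.hom (iW ≫ iV').op s').symm
            rw [op_comp, op_comp, Functor.map_comp, Functor.map_comp]
            exact congrArg _ hW
          exact TopCat.Presheaf.germ_ext _ (W ⊓ U) ⟨hxW, hx⟩ (iW ≫ iV) (iW ≫ iV') key
        · intro a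
          obtain ⟨V, hxV, s, rfl⟩ := TopCat.Presheaf.exists_germ_eq G.presheaf a
          have := iso_app ε hR (V ⊓ U) inf_le_right
          let iV : V ⊓ U ⟶ V := homOfLE inf_le_left
          obtain ⟨s', hs'⟩ := ((isIso_iff_bijective _).1 this).2 (G.presheaf.map iV.op s)
          refine ⟨TopCat.Presheaf.germ (L.obj ((U.sheafRestrict (C := Type u)).obj G)).presheaf (V ⊓ U) x ⟨hxV, hx⟩ s', ?_⟩
          erw [TopCat.Presheaf.stalkFunctor_map_germ_apply]
          exact (congrArg _ hs').trans (TopCat.Presheaf.germ_res_apply _ iV x ⟨hxV, hx⟩ s)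
      · have h1 := empty_outside L adj ((U.sheafRestrict (C := Type u)).obj G) x hx
        have h2 := hG x hx
        exact ⟨fun a => h1.elim a, fun a => h2.elim a⟩
    have : IsIso ε := TopCat.Presheaf.isIso_of_stalkFunctor_map_iso (F := L.obj _) (G := G) ε
    exact ⟨_, ⟨asIso ε⟩⟩

end Groth.Agent.S7574
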