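import Groth.Statements.S7575
import Mathlib.CategoryTheory.Sites.LocallyBijective
import Mathlib.CategoryTheory.Sites.Limits
import Mathlib.Topology.Sheaves.SheafCondition.UniqueGluing
-- import your own Groth.Agent.* helpers here

set_option autoImplicit false
universe u
open CategoryTheory CategoryTheory.Limits TopologicalSpace Opposite
open ShSp

namespace Groth.Agent.S7575

section

set_option backward.isDefEq.respectTransparency false
set_option backward.isDefEq.respectTransparency.types false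

set_option linter.unusedSectionVars false

variable {X : TopCat.{u}} {J : Type u} [Preorder J] [Nonempty J] [IsDirected J (· ≤ ·)]
  {F : J ⥤ X.Sheaf (Type u)} {c : Cocone F}

/-- Restriction of sections. -/
abbrev res (G : X.Sheaf (Type u)) {U V : Opens X} (h : V ≤ U) (s : G.1.obj (op U)) : G.1.obj (op V) :=
  G.1.map (homOfLE h).op s

/-- Transition. -/
abbrev tr (F : J ⥤ X.Sheaf (Type u)) {i j : J} (h : i ⟶ j) {U : Opens X} (x : (F.obj i).1.obj (op U)) :
    (F.obj j).1.obj (op U) :=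
  (F.map h).1.app (op U) x

/-- Cocone map. -/
abbrev inj (c : Cocone F) (i : J) {U : Opens X} (x : (F.obj i).1.obj (op U)) : c.pt.1.obj (op U) :=
  (c.ι.app i).1.app (op U) x

theorem tr_tr {i j k : J} (h : i ⟶ j) (h' : j ⟶ k) {U : Opens X} (x : (F.obj i).1.obj (op U)) :
    tr F h' (tr F h x) = tr F (h ≫ h') x := by
  unfold tr
  rw [F.map_comp]
  rfl

theorem tr_res {i j : J} (h : i ⟶ j) {U V : Opens X} (g : V ≤ U) (x : (F.obj i).1.obj (op U)) :
    tr F h (res (F.obj i) g x) = res (F.obj j) g (tr F h x) :=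
  NatTrans.naturality_apply (F.map h).1 (homOfLE g).op x

theorem res_res (G : X.Sheaf (Type u)) {U V W : Opens X} (h : V ≤ U) (h' : W ≤ V) (s : G.1.obj (op U)) :
    res G h' (res G h s) = res G (h'.trans h) s := by
  unfold res
  rw [← Functor.map_comp_apply, ← op_comp]
  rfl

theorem inj_res (i : J) {U V : Opens X} (g : V ≤ U) (x : (F.obj i).1.obj (op U)) :
    inj c i (res (F.obj i) g x) = res c.pt g (inj c i x) :=
  NatTrans.naturality_apply (c.ι.app i).1 (homOfLE g).op x

theorem inj_tr {i j : J} (h : i ⟶ j) {U : Opens X} (x : (F.obj i).1.obj (op U)) :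
    inj c j (tr F h x) = inj c i x :=
  ConcreteCategory.congr_hom (NatTrans.congr_app (congrArg (fun k => k.1) (c.w h)) (op U)) x

theorem exists_local_data (hc : IsColimit c) :
    (∀ (U : Opens X) (s : c.pt.1.obj (op U)), ∀ x ∈ U, ∃ (V : Opens X) (h : V ≤ U) (i : J)
      (a : (F.obj i).1.obj (op V)), x ∈ V ∧ inj c i a = res c.pt h s) ∧
    (∀ (U : Opens X) (i j : J) (a : (F.obj i).1.obj (op U)) (b : (F.obj j).1.obj (op U)),
      inj c i a = inj c j b → ∀ x ∈ U, ∃ (V : Opens X) (h : V ≤ U) (k : J) (hi : i ⟶ k) (hj : j ⟶ k),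
        x ∈ V ∧ tr F hi (res (F.obj i) h a) = tr F hj (res (F.obj j) h b)) := by
  let G := F ⋙ sheafToPresheaf (Opens.grothendieckTopology X) (Type u)
  let E : Cocone G := colimit.cocone G
  let hE : IsColimit E := colimit.isColimit G
  let c' : Cocone (F : J ⥤ Sheaf (Opens.grothendieckTopology X) (Type u)) := Sheaf.sheafifyCocone E
  let e := (Sheaf.isColimitSheafifyCocone E hE).coconePointUniqueUpToIso hc
  let θ : E.pt ⟶ c.pt.1 := toSheafify (Opens.grothendieckTopology X) E.pt ≫ e.hom.1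
  have he : ∀ (i : J) (U : Opens X) (a : (F.obj i).1.obj (op U)),
      θ.app (op U) ((E.ι.app i).app (op U) a) = inj c i a := by
    intro i U a
    have h1 := ConcreteCategory.congr_hom (NatTrans.congr_app (congrArg (fun k => k.1)
      (IsColimit.comp_coconePointUniqueUpToIso_hom (Sheaf.isColimitSheafifyCocone E hE) hc i)) (op U)) a
    refine Eq.trans ?_ h1
    exact congrArg (e.hom.1.app (op U)) (ConcreteCategory.congr_hom (NatTrans.congr_app
      (Sheaf.sheafifyCocone_ι_app_val E i) (op U)) a).symm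
  have hev : ∀ U : Opens X, IsColimit (((evaluation _ (Type u)).obj (op U)).mapCocone E) :=
    fun U => isColimitOfPreserves _ hE
  have : IsIso e.hom.1 := inferInstanceAs (IsIso ((sheafToPresheaf _ _).map e.hom))
  have : Presheaf.IsLocallySurjective (Opens.grothendieckTopology X) θ := by
    dsimp only [θ]; infer_instance
  have : Presheaf.IsLocallyInjective (Opens.grothendieckTopology X) θ := by
    dsimp only [θ]; infer_instance
  refine ⟨fun U s x hx => ?_, fun U i j a b hab x hx => ?_⟩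
  · obtain ⟨V, h, ⟨t, ht⟩, hxV⟩ := Presheaf.imageSieve_mem (Opens.grothendieckTopology X) θ s x hx
    obtain ⟨i, a, rfl⟩ := Types.jointly_surjective_of_isColimit (hev V) t
    exact ⟨V, h.le, i, a, hxV, (he i V a).symm.trans ht⟩
  · obtain ⟨V, h, hV, hxV⟩ := Presheaf.equalizerSieve_mem (Opens.grothendieckTopology X) θ
      ((E.ι.app i).app (op U) a) ((E.ι.app j).app (op U) b) ((he i U a).trans (hab.trans (he j U b).symm)) x hx
    have h1 : (E.ι.app i).app (op V) (res (F.obj i) h.le a) = (E.ι.app j).app (op V) (res (F.obj j) h.le b) :=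
      (NatTrans.naturality_apply (E.ι.app i) h.op a).trans
        (hV.trans (NatTrans.naturality_apply (E.ι.app j) h.op b).symm)
    obtain ⟨k, hi, hj, hk⟩ := (Types.FilteredColimit.isColimit_eq_iff _ (hev V)).1 h1
    exact ⟨V, h.le, k, hi, hj, hxV, hk⟩

theorem sheaf_ext (G : X.Sheaf (Type u)) {U : Opens X} {ι : Type u} (V : ι → Opens X) (hV : ∀ i, V i ≤ U)
    (hcov : ∀ x ∈ U, ∃ i, x ∈ V i) (s t : G.1.obj (op U)) (h : ∀ i, res G (hV i) s = res G (hV i) t) :
    s = t :=
  TopCat.Sheaf.eq_of_locally_eq' (X := X) G V U (fun i => homOfLE (hV i))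
    (fun x hx => Opens.mem_iSup.2 (hcov x hx)) s t h

/-- Sections agreeing in the colimit agree at a later stage. -/
def KillsOn (c : Cocone F) (U : Opens X) : Prop :=
  ∀ (i j : J) (a : (F.obj i).1.obj (op U)) (b : (F.obj j).1.obj (op U)), inj c i a = inj c j b →
    ∃ (k : J) (hi : i ⟶ k) (hj : j ⟶ k), tr F hi a = tr F hj b

theorem killsOn_of_compact (hc : IsColimit c) {U : Opens X} (hU : IsCompact (U : Set X)) : KillsOn c U := by
  classical
  intro i j a b hab
  choose V hV k hi hj hxV hk using fun x : U => (exists_local_data hc).2 U i j a b hab x.1 x.2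
  obtain ⟨T, hT⟩ := hU.elim_finite_subcover (fun x : U => (V x : Set X)) (fun x => (V x).isOpen)
    (fun y hy => Set.mem_iUnion.2 ⟨⟨y, hy⟩, hxV ⟨y, hy⟩⟩)
  obtain ⟨j', hj'⟩ := IsFiltered.sup_objs_exists (insert i (insert j (T.image k)))
  let fi : i ⟶ j' := (hj' (Finset.mem_insert_self _ _)).some
  let fj : j ⟶ j' := (hj' (Finset.mem_insert_of_mem (Finset.mem_insert_self _ _))).some
  refine ⟨j', fi, fj, sheaf_ext (F.obj j') (fun x : T => V x.1) (fun x => hV x.1) (fun y hy => ?_) _ _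
    fun x => ?_⟩
  · obtain ⟨z, hz, hyz⟩ := Set.mem_iUnion₂.1 (hT hy)
    exact ⟨⟨z, hz⟩, hyz⟩
  · let fk : k x.1 ⟶ j' := (hj' (Finset.mem_insert_of_mem (Finset.mem_insert_of_mem
      (Finset.mem_image_of_mem k x.2)))).some
    have h1 := congrArg (tr F fk) (hk x.1)
    rw [tr_tr, tr_tr] at h1
    rw [← tr_res, ← tr_res, show fi = hi x.1 ≫ fk from Subsingleton.elim _ _,
      show fj = hj x.1 ≫ fk from Subsingleton.elim _ _]
    exact h1

theorem killsOn_of_injective (hc : IsColimit c)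
    (hinj : ∀ (i j : J) (h : i ⟶ j) (V : Opens X), Function.Injective ((F.map h).1.app (op V)))
    (U : Opens X) : KillsOn c U := by
  intro i j a b hab
  obtain ⟨k, hik, hjk⟩ := exists_ge_ge i j
  refine ⟨k, homOfLE hik, homOfLE hjk, ?_⟩
  choose V hV l hi hj hxV hl using fun x : U => (exists_local_data hc).2 U i j a b hab x.1 x.2
  refine sheaf_ext (F.obj k) V hV (fun y hy => ⟨⟨y, hy⟩, hxV ⟨y, hy⟩⟩) _ _ fun x => ?_
  obtain ⟨m, hkm, hlm⟩ := exists_ge_ge k (l x)
  apply hinj k m (homOfLE hkm) (V x)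
  change tr F (homOfLE hkm) _ = tr F (homOfLE hkm) _
  rw [← tr_res, ← tr_res, tr_tr, tr_tr,
    show homOfLE hik ≫ homOfLE hkm = hi x ≫ homOfLE hlm from Subsingleton.elim _ _,
    show homOfLE hjk ≫ homOfLE hkm = hj x ≫ homOfLE hlm from Subsingleton.elim _ _, ← tr_tr, hl x, tr_tr]

theorem exists_lift {U : Opens X} (s : c.pt.1.obj (op U)) {ι : Type u} [Finite ι] (W : ι → Opens X)
    (hW : ∀ a, W a ≤ U) (hcov : ∀ x ∈ U, ∃ a, x ∈ W a) (i : ι → J)
    (t : ∀ a, (F.obj (i a)).1.obj (op (W a))) (ht : ∀ a, inj c (i a) (t a) = res c.pt (hW a) s)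
    (hkill : ∀ a b, KillsOn c (W a ⊓ W b)) :
    ∃ (j : J) (z : (F.obj j).1.obj (op U)), inj c j z = s := by
  classical
  have := Fintype.ofFinite ι
  have hab : ∀ p : ι × ι, ∃ (k : J) (h₁ : i p.1 ⟶ k) (h₂ : i p.2 ⟶ k),
      tr F h₁ (res _ (inf_le_left : W p.1 ⊓ W p.2 ≤ W p.1) (t p.1)) =
        tr F h₂ (res _ (inf_le_right : W p.1 ⊓ W p.2 ≤ W p.2) (t p.2)) := fun p =>
    hkill p.1 p.2 _ _ _ _ (by rw [inj_res, inj_res, ht, ht, res_res, res_res])
  choose k h₁ h₂ hk using hab
  obtain ⟨j, hj⟩ := IsFiltered.sup_objs_exists (Finset.univ.image i ∪ Finset.univ.image k)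
  let fi : ∀ a, i a ⟶ j := fun a =>
    (hj (Finset.mem_union_left _ (Finset.mem_image_of_mem i (Finset.mem_univ a)))).some
  let fk : ∀ p, k p ⟶ j := fun p =>
    (hj (Finset.mem_union_right _ (Finset.mem_image_of_mem k (Finset.mem_univ p)))).some
  obtain ⟨z, hz, -⟩ := TopCat.Sheaf.existsUnique_gluing' (X := X) (F.obj j) W U
    (fun a => homOfLE (hW a)) (fun x hx => Opens.mem_iSup.2 (hcov x hx)) (fun a => tr F (fi a) (t a))
    (fun a b => by
      change res (F.obj j) inf_le_left (tr F (fi a) (t a)) = res (F.obj j) inf_le_right (tr F (fi b) (t b))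
      rw [← tr_res, ← tr_res, show fi a = h₁ (a, b) ≫ fk (a, b) from Subsingleton.elim _ _,
        show fi b = h₂ (a, b) ≫ fk (a, b) from Subsingleton.elim _ _, ← tr_tr, ← tr_tr, hk (a, b)])
  refine ⟨j, z, sheaf_ext c.pt W hW hcov _ _ fun a => ?_⟩
  rw [← inj_res, show res (F.obj j) (hW a) z = tr F (fi a) (t a) from hz a, inj_tr, ht]

end


/-- Let X be a topological space, I a directed set, (F_i) a system of sheaves of sets on X over I with
colimit F (in sheaves), U ⊆ X open, and Ψ : colim_i F_i(U) → F(U) the canonical map. (1) If all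
transition maps F_i → F_{i'} are injective (on all sections) then Ψ is injective. (2)
Quasi-compactness of U alone already makes Ψ injective. (3) When U is quasi-compact and every
transition map is injective, Ψ is bijective. (4) If every open covering of U can be refined by a
finite open covering U = U_1 ∪ … ∪ U_m with all U_j ∩ U_{j'} quasi-compact, then Ψ is bijective. -/
theorem result {X : TopCat.{u}} {J : Type u} [Preorder J] [Nonempty J] [IsDirected J (· ≤ ·)]
    (F : J ⥤ X.Sheaf (Type u)) (c : Cocone F) (hc : IsColimit c) (U : Opens X) :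
    let ev := TopCat.Sheaf.forget (Type u) X ⋙ (evaluation (Opens X)ᵒᵖ (Type u)).obj (op U)
    let Ψ : colimit (F ⋙ ev) → ev.obj c.pt := colimit.desc (F ⋙ ev) (ev.mapCocone c)
    ((∀ (i j : J) (h : i ⟶ j) (V : Opens X), Function.Injective ((F.map h).1.app (op V))) → Function.Injective Ψ) ∧
    (IsCompact (U : Set X) → Function.Injective Ψ) ∧
    (IsCompact (U : Set X) → (∀ (i j : J) (h : i ⟶ j) (V : Opens X), Function.Injective ((F.map h).1.app (op V))) →
      Function.Bijective Ψ) ∧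
    ((∀ 𝒱 : Set (Opens X), (⨆ V ∈ 𝒱, V) = U →
        ∃ (m : ℕ) (W : Fin m → Opens X), (∀ j, ∃ V ∈ 𝒱, W j ≤ V) ∧ (⨆ j, W j) = U ∧
          ∀ j j', IsCompact ((W j ⊓ W j' : Opens X) : Set X)) →
      Function.Bijective Ψ) := by
  intro ev Ψ
  classical
  have hΨ : ∀ (i : J) (a : (F.obj i).1.obj (op U)), Ψ (colimit.ι (F ⋙ ev) i a) = inj c i a := fun i a =>
    ConcreteCategory.congr_hom (colimit.ι_desc (ev.mapCocone c) i) a
  have hrep : ∀ x : colimit (F ⋙ ev), ∃ (i : J) (a : (F.obj i).1.obj (op U)),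
      colimit.ι (F ⋙ ev) i a = x := fun x => Types.jointly_surjective' x
  have hinjΨ : KillsOn c U → Function.Injective Ψ := by
    intro hk x y hxy
    obtain ⟨i, a, rfl⟩ := hrep x
    obtain ⟨j, b, rfl⟩ := hrep y
    rw [hΨ, hΨ] at hxy
    obtain ⟨k, hi, hj, he⟩ := hk i j a b hxy
    exact (Types.FilteredColimit.colimit_eq_iff _).2 ⟨k, hi, hj, he⟩
  have hsurjΨ : ∀ s, (∃ (j : J) (z : (F.obj j).1.obj (op U)), inj c j z = s) → ∃ x, Ψ x = s := by
    rintro s ⟨j, z, rfl⟩
    exact ⟨_, hΨ j z⟩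
  refine ⟨fun hinj => hinjΨ (killsOn_of_injective hc hinj U), fun hU => hinjΨ (killsOn_of_compact hc hU),
    fun hU hinj => ⟨hinjΨ (killsOn_of_compact hc hU), fun s => hsurjΨ s ?_⟩, fun hW => ⟨hinjΨ ?_, fun s => hsurjΨ s ?_⟩⟩
  · choose V hV i a hxV ha using fun x : U => (exists_local_data hc).1 U s x.1 x.2
    obtain ⟨T, hT⟩ := hU.elim_finite_subcover (fun x : U => (V x : Set X)) (fun x => (V x).isOpen)
      (fun y hy => Set.mem_iUnion.2 ⟨⟨y, hy⟩, hxV ⟨y, hy⟩⟩)
    exact exists_lift s (fun x : T => V x.1) (fun x => hV x.1) (fun y hy => by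
      obtain ⟨z, hz, hyz⟩ := Set.mem_iUnion₂.1 (hT hy)
      exact ⟨⟨z, hz⟩, hyz⟩) (fun x => i x.1) (fun x => a x.1) (fun x => ha x.1)
      fun _ _ => killsOn_of_injective hc hinj _
  · obtain ⟨m, W, -, hWU, hc2⟩ := hW {U} (by simp)
    refine killsOn_of_compact hc ?_
    rw [← hWU, Opens.coe_iSup]
    exact isCompact_iUnion fun a => by simpa using hc2 a a
  · choose V hV i a hxV ha using fun x : U => (exists_local_data hc).1 U s x.1 x.2
    obtain ⟨m, W, hWV, hWU, hc2⟩ := hW (Set.range V) (le_antisymm (iSup₂_le fun _ ⟨x, e⟩ => e ▸ hV x)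
      (fun y hy => Opens.mem_iSup.2 ⟨V ⟨y, hy⟩, Opens.mem_iSup.2 ⟨⟨⟨y, hy⟩, rfl⟩, hxV ⟨y, hy⟩⟩⟩))
    choose V' hV' hle using hWV
    choose x hx using hV'
    have hle' : ∀ r, W r ≤ V (x r) := fun r => (hle r).trans (hx r).ge
    exact exists_lift s (fun r : ULift.{u} (Fin m) => W r.down) (fun r => hWU ▸ le_iSup W r.down)
      (fun y hy => by
        rw [← hWU] at hy
        obtain ⟨r, hr⟩ := Opens.mem_iSup.1 hy
        exact ⟨⟨r⟩, hr⟩) (fun r => i (x r.down)) (fun r => res _ (hle' r.down) (a (x r.down)))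
      (fun r => by rw [inj_res, ha]; exact res_res _ _ _ _) fun r r' => killsOn_of_compact hc (hc2 r.down r'.down)

end Groth.Agent.S7575
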