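import Groth.Statements.S7578
import Groth.Agent.Lib.Catenary20.Basic

set_option autoImplicit false
universe u
open PtTop

namespace Groth.Agent.S7578

/-- Let X be a topological space which is locally Noetherian (every point has a Noetherian
neighbourhood) and sober, and let δ, δ' be two dimension functions on X. Then δ − δ' is locally
constant. -/
theorem result {X : Type u} [TopologicalSpace X] [QuasiSober X] [T0Space X]
    (hX : ∀ x : X, ∃ E ∈ nhds x, TopologicalSpace.NoetherianSpace E)
    (δ δ' : X → ℤ) (hδ : PtTop.IsDimensionFunction δ) (hδ' : PtTop.IsDimensionFunction δ') :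
    IsLocallyConstant (fun x => δ x - δ' x) := by
  rw [IsLocallyConstant.iff_eventually_eq]
  intro x
  obtain ⟨E, hE, hN⟩ := hX x
  haveI := hN
  haveI : TopologicalSpace.NoetherianSpace (interior E) := TopologicalSpace.NoetherianSpace.of_subset interior_subset
  let bad : Set (Set X) := (fun Z : Set (interior E) => closure (Subtype.val '' Z)) '' irreducibleComponents (interior E)
  have hfin : bad.Finite := TopologicalSpace.NoetherianSpace.finite_irreducibleComponents.image _
  let B : Set X := ⋃ t ∈ {t ∈ bad | x ∉ t}, t
  have hB : IsClosed B := (hfin.subset fun _ h => h.1).isClosed_biUnion (by rintro t ⟨⟨Z, -, rfl⟩, -⟩; exact isClosed_closure)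
  have hxB : x ∉ B := by simp [B]
  filter_upwards [isOpen_interior.mem_nhds (mem_interior_iff_mem_nhds.2 hE), hB.isOpen_compl.mem_nhds hxB] with z hz hzB
  let C : Set X := closure (Subtype.val '' irreducibleComponent (⟨z, hz⟩ : interior E))
  have hzC : z ∈ C := subset_closure ⟨⟨z, hz⟩, mem_irreducibleComponent, rfl⟩
  have hxC : x ∈ C := by
    by_contra hx'
    refine hzB (Set.mem_biUnion ?_ hzC)
    exact ⟨⟨_, irreducibleComponent_mem_irreducibleComponents _, rfl⟩, hx'⟩
  have hC : IsIrreducible C :=
    (isIrreducible_irreducibleComponent.image _ continuous_subtype_val.continuousOn).closure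
  have hg : IsGenericPoint hC.genericPoint C := hC.isGenericPoint_genericPoint isClosed_closure
  exact (GrothLib.Catenary20.sub_eq hδ hδ' (hg.specializes hzC)).symm.trans
    (GrothLib.Catenary20.sub_eq hδ hδ' (hg.specializes hxC))

end Groth.Agent.S7578
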