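import Groth.Statements.S7579
import Groth.Agent.Lib.NoethTop.Spectral

set_option autoImplicit false
universe u
open SpecSp

namespace Groth.Agent.S7579

/-- Let X be a spectral space. Then X with its constructible topology is Hausdorff and totally
disconnected. The published statement also asserts that the constructible topology is quasi-compact;
this row states the Hausdorff and totally disconnected parts. -/
theorem result (X : Type u) [TopologicalSpace X] [SpectralSpace X] :
    T2Space (WithConstructibleTopology X) ∧ TotallyDisconnectedSpace (WithConstructibleTopology X) := by
  let f : WithConstructibleTopology X → X := WithTopology.ofTopology (t := constructibleTopology X)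
  have hf : @Continuous _ X _ (constructibleTopology X) f := WithTopology.continuous_ofTopology _
  have hi : Function.Injective f := fun a b h => by cases a; cases b; exact congrArg _ h
  refine ⟨?_, ?_⟩
  · exact @T2Space.of_injective_continuous _ X _ (constructibleTopology X)
      GrothLib.Constr.t2Space_constructibleTopology f hi hf
  · haveI : TotallySeparatedSpace (WithConstructibleTopology X) := ⟨fun a _ b _ hab => by
      obtain ⟨u, v, hu, hv, hau, hbv, huv, hdis⟩ :=
        (GrothLib.SpecSp.totallySeparated_cons (X := X)).isTotallySeparated_univ (Set.mem_univ (f a))
          (Set.mem_univ (f b)) (fun h => hab (hi h))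
      exact ⟨f ⁻¹' u, f ⁻¹' v, @IsOpen.preimage _ X _ (constructibleTopology X) f hf u hu,
        @IsOpen.preimage _ X _ (constructibleTopology X) f hf v hv, hau, hbv,
        fun z _ => huv (Set.mem_univ (f z)), hdis.preimage f⟩⟩
    infer_instance

end Groth.Agent.S7579
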