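import Groth.Statements.S7580


set_option autoImplicit false
universe u
open PtTop

namespace Groth.Agent.S7580

/-- Let f : X → Y be a continuous map of topological spaces with f(X) dense in Y and Y Hausdorff. Then
the cardinality of Y is at most that of the double power set of X. -/
theorem result {X Y : Type u} [TopologicalSpace X] [TopologicalSpace Y] [T2Space Y]
    (f : X → Y) (hf : Continuous f) (hd : DenseRange f) :
    Cardinal.mk Y ≤ (2 : Cardinal.{u}) ^ ((2 : Cardinal.{u}) ^ Cardinal.mk X) := by
  have hdense : ∀ y, y ∈ closure (Set.range f) := hd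
  clear hd
  let g : Y → Set (Set X) := fun y => {A | y ∈ closure (f '' A)}
  have hg : Function.Injective g := fun y y' h => by
    by_contra hne
    obtain ⟨U, V, hU, hV, hy, hy', hd⟩ := t2_separation hne
    have hA : f ⁻¹' U ∈ g y := by
      show y ∈ closure (f '' (f ⁻¹' U))
      rw [Set.image_preimage_eq_inter_range]
      exact mem_closure_iff.2 fun W hW hyW => by
        obtain ⟨z, ⟨hzW, hzU⟩, hzr⟩ := mem_closure_iff.1 (hdense y) (W ∩ U) (hW.inter hU) ⟨hyW, hy⟩
        exact ⟨z, hzW, hzU, hzr⟩
    rw [h] at hA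
    obtain ⟨z, hzV, x, hxU, rfl⟩ := mem_closure_iff.1 hA V hV hy'
    exact Set.disjoint_left.1 hd hxU hzV
  calc Cardinal.mk Y ≤ Cardinal.mk (Set (Set X)) := Cardinal.mk_le_of_injective hg
    _ = _ := by rw [Cardinal.mk_set, Cardinal.mk_set]

end Groth.Agent.S7580
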