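import Groth.Statements.S7583
import Groth.Agent.Lib.NoethTop.Soberification

set_option autoImplicit false
universe u
open PtTop

namespace Groth.Agent.S7583

/-- Let X be a topological space and c : X → X′ the canonical map to its soberification (X′ =
irreducible closed subsets of X, with opens the sets of those meeting a given open of X). (1)
Quasi-compactness of X passes to X′. (2) When X is quasi-compact, its quasi-compact opens form a
basis, and any two quasi-compact opens meet in a quasi-compact set, the soberification X′ is a
spectral space. (3) When X is Noetherian, X′ is both spectral and Noetherian. -/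
theorem result (X : Type u) [TopologicalSpace X] :
    (CompactSpace X → CompactSpace (PtTop.Sob X)) ∧
    (CompactSpace X → PrespectralSpace X → QuasiSeparatedSpace X → SpectralSpace (PtTop.Sob X)) ∧
    (TopologicalSpace.NoetherianSpace X →
      TopologicalSpace.NoetherianSpace (PtTop.Sob X) ∧ SpectralSpace (PtTop.Sob X)) := by
  refine ⟨fun h => GrothLib.Soberification.compactSpace, fun _ _ _ => GrothLib.Soberification.spectralSpace,
    fun h => ⟨GrothLib.Soberification.noetherianSpace, ?_⟩⟩
  haveI : QuasiSeparatedSpace X := ⟨fun U V _ _ _ _ => TopologicalSpace.NoetherianSpace.isCompact _⟩
  exact GrothLib.Soberification.spectralSpace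

end Groth.Agent.S7583
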