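import Groth.Statements.S7584


set_option autoImplicit false
universe u
open PtTop

namespace Groth.Agent.S7584

/-- Let X be a quasi-compact topological space in which each connected component equals the intersection
of all clopen sets that contain it. Then π₀(X), the set of connected components with the quotient
topology, is Hausdorff. The published statement concludes that π₀(X) is profinite; this row records
the Hausdorff property, quasi-compactness and total disconnectedness of the quotient being
automatic. -/
theorem result (X : Type u) [TopologicalSpace X] [CompactSpace X]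
    (h : ∀ x : X, connectedComponent x = ⋂₀ {Z : Set X | IsClopen Z ∧ x ∈ Z}) :
    T2Space (ConnectedComponents X) := by
  refine ⟨fun a b hab => ?_⟩
  obtain ⟨x, rfl⟩ := Quotient.exists_rep a
  obtain ⟨y, rfl⟩ := Quotient.exists_rep b
  have hy : y ∉ connectedComponent x := fun hy =>
    hab (Quotient.sound (show connectedComponent x = connectedComponent y from connectedComponent_eq hy))
  rw [h x, Set.mem_sInter] at hy
  push Not at hy
  obtain ⟨Z, ⟨hZ, hxZ⟩, hyZ⟩ := hy
  have key : ∀ W : Set X, IsClopen W →
      (ConnectedComponents.mk (α := X)) ⁻¹' ((ConnectedComponents.mk (α := X)) '' W) = W := fun W hW => by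
    refine subset_antisymm ?_ (Set.subset_preimage_image _ _)
    rintro z ⟨w, hw, hwz⟩
    have := ConnectedComponents.coe_eq_coe.1 hwz
    exact hW.connectedComponent_subset hw (this.symm ▸ mem_connectedComponent)
  refine ⟨ConnectedComponents.mk '' Z, ConnectedComponents.mk '' Zᶜ, ?_, ?_, ⟨x, hxZ, rfl⟩, ⟨y, hyZ, rfl⟩, ?_⟩
  · exact ConnectedComponents.isQuotientMap_coe.isOpen_preimage.1 ((key Z hZ).symm ▸ hZ.isOpen)
  · exact ConnectedComponents.isQuotientMap_coe.isOpen_preimage.1 ((key Zᶜ hZ.compl).symm ▸ hZ.compl.isOpen)
  · rw [Set.disjoint_left]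
    rintro _ ⟨z, hz, rfl⟩ ⟨w, hw, hwz⟩
    exact hw ((key Z hZ).le ⟨z, hz, hwz.symm⟩)

end Groth.Agent.S7584
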