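import Groth.Statements.S7585
import Groth.Agent.ShB25.Basic
-- import your own Groth.Agent.* helpers here

set_option autoImplicit false
universe u
open ShSp

namespace Groth.Agent.S7585

/-- Let X be a topological space, ℬ a basis for its topology and F a presheaf of sets on ℬ. For each U ∈
ℬ let C(U) be a cofinal system of coverings of U by members of ℬ (every covering of U by members of
ℬ is refined by one in C(U)), each member of C(U) coming with chosen coverings of the pairwise
intersections U_i ∩ U_j by members of ℬ. Then F is a sheaf on ℬ if and only if the sheaf condition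
(**) holds for every U ∈ ℬ and every covering in C(U) with its chosen intersection coverings. -/
theorem result {X : Type u} [TopologicalSpace X] {B : Set (TopologicalSpace.Opens X)}
    (hB : TopologicalSpace.Opens.IsBasis B) (F : ShB.Pre B)
    (C : ∀ U : B, Set (ShB.Cover B)) (hCU : ∀ U, ∀ c ∈ C U, c.U = U)
    (hC : ∀ (U : B) (ι : Type u) (V : ι → B), (∀ i, (V i : TopologicalSpace.Opens X) ≤ (U : TopologicalSpace.Opens X)) →
      (U : TopologicalSpace.Opens X) ≤ ⨆ i, (V i : TopologicalSpace.Opens X) →
      ∃ c ∈ C U, ∀ i' : c.ι, ∃ i, (c.V i' : TopologicalSpace.Opens X) ≤ (V i : TopologicalSpace.Opens X)) :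
    ShB.IsSheaf F ↔ ∀ U, ∀ c ∈ C U, ShB.GluesUniquely F c := by
  exact ⟨fun h U c _ => h c, GrothLib.ShB25.isSheaf_of_cofinal hB C hCU hC⟩

end Groth.Agent.S7585
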