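import Groth.Statements.S7586
import Groth.Agent.ShB25.Basic
-- import your own Groth.Agent.* helpers here

set_option autoImplicit false
universe u
open ShSp

namespace Groth.Agent.S7586

/-- Let X be a topological space and ℬ a basis for its topology such that for U, U′, U″ ∈ ℬ with U′ ⊆ U
and U″ ⊆ U one has U′ ∩ U″ ∈ ℬ. For each U ∈ ℬ let C(U) be a cofinal system of coverings of U by
members of ℬ, and let F be a presheaf of sets on ℬ. Then F is a sheaf on ℬ if and only if for every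
U ∈ ℬ, every covering U = ⋃ U_i in C(U) and every family of sections s_i ∈ F(U_i) with s_i and s_j
having the same restriction to U_i ∩ U_j, there is a unique s ∈ F(U) restricting to s_i on each U_i. -/
theorem result {X : Type u} [TopologicalSpace X] {B : Set (TopologicalSpace.Opens X)}
    (hB : TopologicalSpace.Opens.IsBasis B)
    (hBi : ∀ U ∈ B, ∀ U' ∈ B, ∀ U'' ∈ B, U' ≤ U → U'' ≤ U → U' ⊓ U'' ∈ B)
    (F : ShB.Pre B)
    (C : ∀ U : B, Set (ShB.Cover B)) (hCU : ∀ U, ∀ c ∈ C U, c.U = U)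
    (hC : ∀ (U : B) (ι : Type u) (V : ι → B), (∀ i, (V i : TopologicalSpace.Opens X) ≤ (U : TopologicalSpace.Opens X)) →
      (U : TopologicalSpace.Opens X) ≤ ⨆ i, (V i : TopologicalSpace.Opens X) →
      ∃ c ∈ C U, ∀ i' : c.ι, ∃ i, (c.V i' : TopologicalSpace.Opens X) ≤ (V i : TopologicalSpace.Opens X)) :
    ShB.IsSheaf F ↔ ∀ (U : B), ∀ c ∈ C U, ∀ s : ∀ i, F.obj (c.V i),
      (∀ i j, F.res (U := c.V i) (V := ⟨(c.V i : TopologicalSpace.Opens X) ⊓ c.V j,
          hBi c.U c.U.2 _ (c.V i).2 _ (c.V j).2 (c.V_le i) (c.V_le j)⟩) inf_le_left (s i) =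
        F.res (U := c.V j) (V := ⟨(c.V i : TopologicalSpace.Opens X) ⊓ c.V j,
          hBi c.U c.U.2 _ (c.V i).2 _ (c.V j).2 (c.V_le i) (c.V_le j)⟩) inf_le_right (s j)) →
      ∃! t : F.obj c.U, ∀ i, F.res (c.V_le i) t = s i := by
  refine ⟨fun hF U c _ s hs => hF c s fun i j k => ?_, fun h => ?_⟩
  · let I : B := ⟨(c.V i : TopologicalSpace.Opens X) ⊓ c.V j,
      hBi c.U c.U.2 _ (c.V i).2 _ (c.V j).2 (c.V_le i) (c.V_le j)⟩
    have e := congrArg (F.res (U := I) (V := c.W i j k) (le_inf (c.W_le_left i j k) (c.W_le_right i j k))) (hs i j)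
    rw [F.res_comp, F.res_comp] at e
    exact e
  · have hsep := GrothLib.ShB25.separated_of_cofinal C hCU hC fun U c hc t t' he =>
      (h U c hc (fun i => F.res (c.V_le i) t) fun i j => by rw [F.res_comp, F.res_comp]).unique
        (fun _ => rfl) fun i => (he i).symm
    exact GrothLib.ShB25.isSheaf_of_cofinal hB C hCU hC fun U c hc s hs =>
      h U c hc s fun i j => GrothLib.ShB25.compat_below hB hsep hs i j
        ⟨(c.V i : TopologicalSpace.Opens X) ⊓ c.V j, hBi c.U c.U.2 _ (c.V i).2 _ (c.V j).2 (c.V_le i) (c.V_le j)⟩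
        inf_le_left inf_le_right

end Groth.Agent.S7586
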