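import Groth.Statements.S7588
import Groth.Agent.ShB25.Basic
-- import your own Groth.Agent.* helpers here

set_option autoImplicit false
universe u
open CategoryTheory
open ShSp

namespace Groth.Agent.S7588

/-- Let X be a topological space, ℬ a basis for its topology and F a sheaf of sets on ℬ. There is a
sheaf of sets F^ext on X together with an isomorphism of presheaves on ℬ between the restriction of
F^ext to ℬ and F; and it is unique: given two sheaves G, G′ on X with such isomorphisms e, e′, there
is a unique isomorphism G ≅ G′ whose restriction to the members of ℬ is compatible with e and e′. -/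
theorem result {X : Type u} [TopologicalSpace X] {B : Set (TopologicalSpace.Opens X)}
    (hB : TopologicalSpace.Opens.IsBasis B) (F : ShB.Pre B) (hF : ShB.IsSheaf F) :
    (∃ G : TopCat.Sheaf (Type u) (TopCat.of X), Nonempty (ShB.Iso (ShB.restrict B G.presheaf) F)) ∧
    ∀ (G G' : TopCat.Sheaf (Type u) (TopCat.of X)) (e : ShB.Iso (ShB.restrict B G.presheaf) F)
      (e' : ShB.Iso (ShB.restrict B G'.presheaf) F),
      ∃! φ : G ⟶ G', IsIso φ ∧ ∀ (U : B) (s : G.presheaf.obj (Opposite.op (U : TopologicalSpace.Opens X))),
        e'.hom.app U (φ.1.app (Opposite.op (U : TopologicalSpace.Opens X)) s) = e.hom.app U s := by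
  refine ⟨⟨⟨GrothLib.ShB25.ext F, GrothLib.ShB25.isSheaf_ext hB hF⟩, ⟨GrothLib.ShB25.extIso⟩⟩, ?_⟩
  intro G G' e e'
  let B' : B → TopologicalSpace.Opens (TopCat.of X) := Subtype.val
  have hr : TopologicalSpace.Opens.IsBasis (Set.range B') := by
    rw [Subtype.range_coe]; exact hB
  let mkHom : ∀ {G G' : TopCat.Sheaf (Type u) (TopCat.of X)} (e : ShB.Iso (ShB.restrict B G.presheaf) F)
      (e' : ShB.Iso (ShB.restrict B G'.presheaf) F), G ⟶ G' := fun {G G'} e e' =>
    ObjectProperty.homMk (TopCat.Sheaf.restrictHomEquivHom G.presheaf G' hr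
      { app := fun U => TypeCat.ofHom fun s => e'.inv.app U.unop (e.hom.app U.unop s)
        naturality := fun U V g => by
          ext s
          exact ((e'.inv.natural g.unop.hom.le (e.hom.app U.unop s)).trans
            (congrArg _ (e.hom.natural g.unop.hom.le s))).symm })
  have happ : ∀ {G G' : TopCat.Sheaf (Type u) (TopCat.of X)} (e : ShB.Iso (ShB.restrict B G.presheaf) F)
      (e' : ShB.Iso (ShB.restrict B G'.presheaf) F) (U : B) (s : G.presheaf.obj (Opposite.op (U : TopologicalSpace.Opens X))),
      (mkHom e e').1.app (Opposite.op (U : TopologicalSpace.Opens X)) s = e'.inv.app U (e.hom.app U s) :=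
    fun {G G'} e e' U s => by
      have := TopCat.Sheaf.extend_hom_app (B := B') G.presheaf G' hr
      exact ConcreteCategory.congr_hom (this _ U) s
  have hext : ∀ {G G' : TopCat.Sheaf (Type u) (TopCat.of X)} (a b : G ⟶ G'),
      (∀ (U : B) (s : G.presheaf.obj (Opposite.op (U : TopologicalSpace.Opens X))),
        a.1.app (Opposite.op (U : TopologicalSpace.Opens X)) s = b.1.app (Opposite.op (U : TopologicalSpace.Opens X)) s) →
      a = b := fun {G G'} a b h =>
    ObjectProperty.hom_ext _ (TopCat.Sheaf.hom_ext (B := B') G.presheaf G' hr fun U => by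
      ext s; exact h U s)
  have hiso : IsIso (mkHom e e') := ⟨mkHom e' e,
    hext _ _ fun U s => by
      change (mkHom e' e).1.app _ ((mkHom e e').1.app _ s) = s
      rw [happ, happ, e'.inv_hom, e.hom_inv],
    hext _ _ fun U s => by
      change (mkHom e e').1.app _ ((mkHom e' e).1.app _ s) = s
      rw [happ, happ, e.inv_hom, e'.hom_inv]⟩
  refine ⟨mkHom e e', ⟨hiso, fun U s => by rw [happ, e'.inv_hom]⟩, fun φ hφ => hext _ _ fun U s => ?_⟩
  rw [happ, ← hφ.2 U s, e'.hom_inv]

end Groth.Agent.S7588
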