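import Groth.Statements.S7590
import Groth.Agent.Lib.BaseChange.Irred

set_option autoImplicit false
universe u
open CategoryTheory CategoryTheory.Limits AlgebraicGeometry
open Variety

namespace Groth.Agent.S7590

/-- Let k be a separably closed field, K any extension field of k and X a scheme over k. Then the
projection X_K → X induces a bijection between the sets of connected components. -/
theorem result (k : Type u) [Field k] [IsSepClosed k] (X : Scheme.{u}) [X.Over (Spec (CommRingCat.of k))]
    (K : Type u) [Field K] [Algebra k K] :
    Function.Bijective (Continuous.connectedComponentsMap (Curv2.bcFst k X K).continuous) := by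
    open GrothLib.BaseChange in
    refine ⟨fun a b hab => ?_, fun c => ?_⟩
    · obtain ⟨a, rfl⟩ := ConnectedComponents.surjective_coe a
      obtain ⟨b, rfl⟩ := ConnectedComponents.surjective_coe b
      change ((Curv2.bcFst k X K a : ConnectedComponents X)) = (Curv2.bcFst k X K b) at hab
      rw [ConnectedComponents.coe_eq_coe'] at hab
      rw [ConnectedComponents.coe_eq_coe']
      exact (isConnected_preimage_of_isSepClosed k X K isConnected_connectedComponent
        isClosed_connectedComponent).isPreconnected.subset_connectedComponent
          (mem_connectedComponent (x := Curv2.bcFst k X K b)) hab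
    · obtain ⟨x, rfl⟩ := ConnectedComponents.surjective_coe c
      obtain ⟨z, rfl⟩ := (Curv2.bcFst k X K).surjective x
      exact ⟨(z : ConnectedComponents _), rfl⟩

end Groth.Agent.S7590
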