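import Groth.Statements.S7592
import Groth.Agent.Lib.BaseChange.Field

set_option autoImplicit false
universe u
open CategoryTheory CategoryTheory.Limits AlgebraicGeometry
open Variety

namespace Groth.Agent.S7592

/-- Let K be a (possibly infinite) Galois extension of a field k and f : T → X a morphism of schemes
over k. If the base change T_K is connected and X_K is not connected, then X is not connected. -/
theorem result (k : Type u) [Field k] (K : Type u) [Field K] [Algebra k K] [IsGalois k K]
    (T X : Scheme.{u}) [T.Over (Spec (CommRingCat.of k))] [X.Over (Spec (CommRingCat.of k))]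
    (f : T ⟶ X) [f.IsOver (Spec (CommRingCat.of k))]
    [ConnectedSpace ↥(Curv2.bc k T K)] (hX : ¬ ConnectedSpace ↥(Curv2.bc k X K)) :
    ¬ ConnectedSpace ↥X := by
    intro hXc
    apply hX
    open GrothLib.BaseChange in
    let F : Curv2.bc k T K ⟶ Curv2.bc k X K :=
      pullback.map _ _ _ _ f (𝟙 _) (𝟙 _) (by simp) (by simp)
    have hF : ∀ σ : K ≃ₐ[k] K, Curv2.galAct k T K σ ≫ F = F ≫ Curv2.galAct k X K σ := fun σ => by
      apply pullback.hom_ext
      · rw [Category.assoc, Category.assoc, galAct_fst, show F ≫ Curv2.bcFst k X K =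
          Curv2.bcFst k T K ≫ f from pullback.lift_fst _ _ _, galAct_fst_assoc]
      · rw [Category.assoc, Category.assoc, galAct_snd, show F ≫ Curv2.bcSnd k X K =
          Curv2.bcSnd k T K ≫ 𝟙 _ from pullback.lift_snd _ _ _, Category.comp_id, galAct_snd,
          ← Category.assoc, show F ≫ Curv2.bcSnd k X K = Curv2.bcSnd k T K from
            (pullback.lift_snd _ _ _).trans (Category.comp_id _)]
    obtain ⟨w⟩ := (inferInstance : Nonempty ↥(Curv2.bc k T K))
    refine connectedSpace_iff_connectedComponent.mpr ⟨F w, Set.eq_univ_of_forall fun z => ?_⟩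
    have h := image_connectedComponent k X K (F w)
    rw [PreconnectedSpace.connectedComponent_eq_univ (Curv2.bcFst k X K (F w))] at h
    obtain ⟨c, hc, hcz⟩ : Curv2.bcFst k X K z ∈ Curv2.bcFst k X K '' connectedComponent (F w) :=
      h ▸ Set.mem_univ _
    obtain ⟨σ, rfl⟩ := exists_galAct_eq k X K c z hcz
    have hFw : Curv2.galAct k X K σ (F w) ∈ connectedComponent (F w) := by
      rw [← Scheme.Hom.comp_apply, ← hF, Scheme.Hom.comp_apply]
      exact (isPreconnected_univ.image F F.continuous.continuousOn).subset_connectedComponent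
        ⟨w, trivial, rfl⟩ ⟨_, trivial, rfl⟩
    rw [connectedComponent_eq hFw]
    exact (Curv2.galAct k X K σ).continuous.mapsTo_connectedComponent _ hc

end Groth.Agent.S7592
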