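import Groth.Statements.S7593
import Groth.Agent.Lib.BaseChange.Irred

set_option autoImplicit false
universe u
open CategoryTheory CategoryTheory.Limits AlgebraicGeometry
open Variety

namespace Groth.Agent.S7593

/-- Let k̄ be a separable algebraic closure of a field k, X a scheme over k and t a point of X_{k̄} with
image x in X. The connected component of t is mapped onto itself by the action of every
k-automorphism of k̄ if and only if it equals the full inverse image of the connected component T of
x in X and T is geometrically connected over k (the inverse image of T in X_K is connected for every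
extension field K of k). -/
theorem result (k : Type u) [Field k] (X : Scheme.{u}) [X.Over (Spec (CommRingCat.of k))] (t : ↥(Curv2.bc k X (SeparableClosure k))) :
    (∀ σ : SeparableClosure k ≃ₐ[k] SeparableClosure k,
        (Curv2.galAct k X (SeparableClosure k) σ).base '' connectedComponent t = connectedComponent t) ↔
      ((Curv2.bcFst k X (SeparableClosure k)).base ⁻¹' connectedComponent (Curv2.bcFst k X (SeparableClosure k) t) = connectedComponent t ∧
        ∀ (K : Type u) [Field K] [Algebra k K],
          _root_.IsConnected ((Curv2.bcFst k X K).base ⁻¹' connectedComponent (Curv2.bcFst k X (SeparableClosure k) t))) := by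
    open GrothLib.BaseChange in
    let L := SeparableClosure k
    let p := Curv2.bcFst k X L
    constructor
    · intro hinv
      have hpre : p ⁻¹' connectedComponent (p t) = connectedComponent t := by
        refine Set.Subset.antisymm (fun z hz => ?_) (p.continuous.mapsTo_connectedComponent t)
        obtain ⟨c, hc, hcz⟩ : p z ∈ p '' connectedComponent t := by
          rw [image_connectedComponent]; exact hz
        obtain ⟨σ, rfl⟩ := exists_galAct_eq k X L c z hcz
        exact hinv σ ▸ ⟨c, hc, rfl⟩
      refine ⟨hpre, fun K _ _ => ?_⟩
      let M := AlgebraicClosure K
      let j : L →ₐ[k] M := IsAlgClosed.lift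
      let _ : Algebra L M := j.toRingHom.toAlgebra
      have : IsScalarTower k L M := IsScalarTower.of_algebraMap_eq fun a => (j.commutes a).symm
      have hg := geometricallyIrreducible_bcMap_of_isSepClosed k X L M
      have : GeometricallyConnected (bcMap k X L M) := by
        refine ⟨fun F _ y Z fst snd hp => ?_⟩
        have := hg.geometrically_irreducibleSpace _ _ _ hp
        infer_instance
      have h2 := ((bcMap k X L M).isConnected_preimage (bcMap k X L M).isOpenMap
        (hpre ▸ isConnected_connectedComponent : _root_.IsConnected (p ⁻¹' connectedComponent (p t)))
        (isClosed_connectedComponent.preimage p.continuous)).image (bcMap k X K M)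
        (bcMap k X K M).continuous.continuousOn
      convert! h2 using 1
      rw [← Set.preimage_comp, ← TopCat.coe_comp, ← Scheme.Hom.comp_base, bcMap_fst,
        ← bcMap_fst k X K M, Scheme.Hom.comp_base, TopCat.coe_comp, Set.preimage_comp,
        Set.image_preimage_eq _ (bcMap k X K M).surjective]
    · rintro ⟨hpre, -⟩ σ
      conv_lhs => rw [← hpre]
      conv_rhs => rw [← hpre]
      have h := image_eq_of_over (p := p) (Γ := Set.range (galHomeo k X L))
        (by rintro _ ⟨τ, rfl⟩ z; exact galAct_fst_apply k X L τ z) ⟨σ, rfl⟩
        (connectedComponent (p t))
      exact h

end Groth.Agent.S7593
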