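import Groth.Statements.S7594
import Groth.Agent.Lib.BaseChange.Irred

set_option autoImplicit false
universe u
open CategoryTheory CategoryTheory.Limits AlgebraicGeometry
open Variety

namespace Groth.Agent.S7594

/-- A scheme X over a field k is geometrically irreducible over k precisely when the fibre product X ×_k
X of X with itself is an irreducible scheme. -/
theorem result (k : Type u) [Field k] (X : Scheme.{u}) [X.Over (Spec (CommRingCat.of k))] :
    GeometricallyIrreducible (X ↘ (Spec (CommRingCat.of k))) ↔ IrreducibleSpace ↥(pullback (X ↘ (Spec (CommRingCat.of k))) (X ↘ (Spec (CommRingCat.of k)))) := by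
    refine ⟨fun h => ?_, fun h => ?_⟩
    · have hX : IrreducibleSpace X :=
        GeometricallyIrreducible.irreducibleSpace_of_subsingleton (f := X ↘ Spec (CommRingCat.of k))
      infer_instance
    open GrothLib.BaseChange in
    let L := SeparableClosure k
    let f := X ↘ Spec (CommRingCat.of k)
    let _ : (pullback f f).Over (Spec (CommRingCat.of k)) := ⟨pullback.fst f f ≫ f⟩
    let P := pullback f f
    let b := Spec.map (CommRingCat.ofHom (algebraMap k L))
    let π₁ : Curv2.bc k P L ⟶ Curv2.bc k X L :=
      pullback.lift (Curv2.bcFst k P L ≫ pullback.fst f f) (Curv2.bcSnd k P L) (by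
        rw [Category.assoc]; exact pullback.condition (f := pullback.fst f f ≫ f) (g := b))
    let π₂ : Curv2.bc k P L ⟶ Curv2.bc k X L :=
      pullback.lift (Curv2.bcFst k P L ≫ pullback.snd f f) (Curv2.bcSnd k P L) (by
        rw [Category.assoc, ← pullback.condition (f := f) (g := f)]
        exact pullback.condition (f := pullback.fst f f ≫ f) (g := b))
    have hπ₁ : ∀ σ : L ≃ₐ[k] L, Curv2.galAct k P L σ ≫ π₁ = π₁ ≫ Curv2.galAct k X L σ := fun σ => by
      apply pullback.hom_ext
      · rw [Category.assoc, pullback.lift_fst, galAct_fst_assoc, Category.assoc, galAct_fst,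
          pullback.lift_fst]
      · rw [Category.assoc, pullback.lift_snd, galAct_snd, Category.assoc, galAct_snd, ← Category.assoc π₁,
          pullback.lift_snd]
    have hπ₂ : ∀ σ : L ≃ₐ[k] L, Curv2.galAct k P L σ ≫ π₂ = π₂ ≫ Curv2.galAct k X L σ := fun σ => by
      apply pullback.hom_ext
      · rw [Category.assoc, pullback.lift_fst, galAct_fst_assoc, Category.assoc, galAct_fst,
          pullback.lift_fst]
      · rw [Category.assoc, pullback.lift_snd, galAct_snd, Category.assoc, galAct_snd, ← Category.assoc π₂,
          pullback.lift_snd]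
    obtain ⟨ζ⟩ := h.toNonempty
    obtain ⟨z₀, -⟩ := (Curv2.bcFst k X L).surjective (pullback.fst f f ζ)
    obtain ⟨t₁, ht₁⟩ := exists_generic (irreducibleComponent_mem_irreducibleComponents z₀)
    have hlift : ∀ t₂, (∀ t, t ⤳ t₂ → t = t₂) → ∃ w : Curv2.bc k P L,
        π₁ w = t₁ ∧ π₂ w = t₂ ∧ Curv2.bcFst k P L w = genericPoint P := by
      intro t₂ ht₂
      let s := Curv2.bcSnd k X L
      obtain ⟨v, hv₁, hv₂⟩ := Scheme.Pullback.exists_preimage_pullback (f := s) (g := s) t₁ t₂
        (Subsingleton.elim (α := Spec (CommRingCat.of L)) _ _)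
      let m : pullback s s ⟶ Curv2.bc k P L := pullback.lift
        (pullback.lift (pullback.fst s s ≫ Curv2.bcFst k X L) (pullback.snd s s ≫ Curv2.bcFst k X L) (by
          rw [Category.assoc, Category.assoc, pullback.condition (f := f) (g := b),
            pullback.condition_assoc (f := s) (g := s)]))
        (pullback.fst s s ≫ s) (by
          show _ ≫ pullback.fst f f ≫ f = _
          rw [pullback.lift_fst_assoc, Category.assoc, Category.assoc, pullback.condition (f := f) (g := b)])
      have hm₁ : m ≫ π₁ = pullback.fst s s := by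
        apply pullback.hom_ext
        · rw [Category.assoc, pullback.lift_fst, pullback.lift_fst_assoc, pullback.lift_fst]
        · rw [Category.assoc, pullback.lift_snd, pullback.lift_snd]
      have hm₂ : m ≫ π₂ = pullback.snd s s := by
        apply pullback.hom_ext
        · rw [Category.assoc, pullback.lift_fst, pullback.lift_fst_assoc, pullback.lift_snd]
        · rw [Category.assoc, pullback.lift_snd, pullback.lift_snd, pullback.condition]
      obtain ⟨W, hW, hsub⟩ := exists_mem_irreducibleComponents_subset_of_isIrreducible _
        (isIrreducible_singleton (x := m v))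
      obtain ⟨w, hw⟩ := exists_generic hW
      have hwv : w ⤳ m v := hw.specializes (hsub rfl)
      refine ⟨w, ?_, ?_, ?_⟩
      · refine eq_of_specializes_generic (irreducibleComponent_mem_irreducibleComponents z₀) ht₁ ?_
        have := hwv.map π₁.continuous
        rwa [← Scheme.Hom.comp_apply, hm₁, hv₁] at this
      · refine ht₂ _ ?_
        have := hwv.map π₂.continuous
        rwa [← Scheme.Hom.comp_apply, hm₂, hv₂] at this
      · exact (eq_of_specializes_bcFst k P L (fun w' hw' => eq_of_specializes_generic hW hw hw')
          (genericPoint_specializes _)).symm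
    have huniq : ∀ t₂ : Curv2.bc k X L, (∀ t, t ⤳ t₂ → t = t₂) → t₂ = t₁ := by
      intro t₂ ht₂
      obtain ⟨w, hw₁, hw₂, hw⟩ := hlift t₁ fun t ht =>
        eq_of_specializes_generic (irreducibleComponent_mem_irreducibleComponents z₀) ht₁ ht
      obtain ⟨w', hw₁', hw₂', hw'⟩ := hlift t₂ ht₂
      obtain ⟨σ, rfl⟩ := exists_galAct_eq k P L w w' (hw.trans hw'.symm)
      rw [← Scheme.Hom.comp_apply, hπ₁, Scheme.Hom.comp_apply, hw₁] at hw₁'
      rw [← Scheme.Hom.comp_apply, hπ₂, Scheme.Hom.comp_apply, hw₂] at hw₂'
      rw [← hw₂', hw₁']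
    have : IrreducibleSpace (Curv2.bc k X L) := by
      have : closure ({t₁} : Set (Curv2.bc k X L)) = Set.univ := Set.eq_univ_of_forall fun z => by
        obtain ⟨T, hT, hsub⟩ := exists_mem_irreducibleComponents_subset_of_isIrreducible _
          (isIrreducible_singleton (x := z))
        obtain ⟨t, ht⟩ := exists_generic hT
        rw [← huniq t fun t' h' => eq_of_specializes_generic hT ht h']
        exact ht.def.symm ▸ hsub rfl
      rw [irreducibleSpace_def, Set.top_eq_univ, ← this]
      exact isIrreducible_singleton.closure
    exact geometricallyIrreducible_of_irreducible_bc k X L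

end Groth.Agent.S7594
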