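import Groth.Statements.S7596
import Groth.Agent.Lib.BaseChange.AlgClosedIn

set_option autoImplicit false
universe u
open CategoryTheory CategoryTheory.Limits AlgebraicGeometry
open Variety

namespace Groth.Agent.S7596

/-- Let X be an irreducible scheme over a field k whose k-rational points (points x at which k → κ(x) is
onto) form a dense subset. Then X is geometrically irreducible over k. -/
theorem result (k : Type u) [Field k] (X : Scheme.{u}) [X.Over (Spec (CommRingCat.of k))] [IrreducibleSpace ↥X]
    (hd : Dense {x : ↥X | Function.Surjective (Curv2.resMap k X x)}) :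
    GeometricallyIrreducible (X ↘ (Spec (CommRingCat.of k))) := by
    open GrothLib.BaseChange in
    let L := SeparableClosure k
    let p := Curv2.bcFst k X L
    let R := {x : ↥X | Function.Surjective (Curv2.resMap k X x)}
    have hden : Dense (p ⁻¹' R) := hd.preimage p.isOpenMap
    have hsub : ∀ T ∈ irreducibleComponents (Curv2.bc k X L : Type u), T = Set.univ := by
      intro T hT
      obtain ⟨t, ht⟩ := exists_generic hT
      have hZ := image_irreducibleComponent k X L hT ht
      have hZuniv : p '' T = Set.univ := by
        rw [hZ.1]
        exact Set.univ_subset_iff.mp (hZ.2.2 (IrreducibleSpace.isIrreducible_univ X) (Set.subset_univ _))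
      refine Set.univ_subset_iff.mp (hden.closure_eq ▸ closure_minimal (fun z hz => ?_)
        (isClosed_of_mem_irreducibleComponents T hT))
      obtain ⟨c, hc, hcz⟩ : p z ∈ p '' T := hZuniv ▸ Set.mem_univ _
      rwa [eq_of_algClosedIn_separable k X (fun a _ => hz a) L z c rfl hcz]
    have : IrreducibleSpace (Curv2.bc k X L) := by
      obtain ⟨z, -⟩ := p.surjective (genericPoint X)
      rw [irreducibleSpace_def, Set.top_eq_univ,
        ← hsub _ (irreducibleComponent_mem_irreducibleComponents z)]
      exact isIrreducible_irreducibleComponent
    exact geometricallyIrreducible_of_irreducible_bc k X L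

end Groth.Agent.S7596
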