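import Groth.Statements.S7597
import Groth.Agent.Lib.BaseChange.Irred

set_option autoImplicit false
universe u
open CategoryTheory CategoryTheory.Limits AlgebraicGeometry
open Variety

namespace Groth.Agent.S7597

/-- Let k̄ be a separable algebraic closure of a field k, X a scheme over k and Z an irreducible
component of X_{k̄}. Then Z is mapped onto itself by the action of every k-automorphism of k̄ if and
only if Z is the full inverse image of some irreducible component T of X which is geometrically
irreducible over k (the inverse image of T in X_K is irreducible for every extension field K of k). -/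
theorem result (k : Type u) [Field k] (X : Scheme.{u}) [X.Over (Spec (CommRingCat.of k))]
    (Z : Set ↥(Curv2.bc k X (SeparableClosure k))) (hZ : Z ∈ irreducibleComponents ↥(Curv2.bc k X (SeparableClosure k))) :
    (∀ σ : SeparableClosure k ≃ₐ[k] SeparableClosure k, (Curv2.galAct k X (SeparableClosure k) σ).base '' Z = Z) ↔
      ∃ T ∈ irreducibleComponents ↥X, (Curv2.bcFst k X (SeparableClosure k)).base ⁻¹' T = Z ∧
        ∀ (K : Type u) [Field K] [Algebra k K], IsIrreducible ((Curv2.bcFst k X K).base ⁻¹' T) := by
    open GrothLib.BaseChange in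
    let L := SeparableClosure k
    let p := Curv2.bcFst k X L
    constructor
    · intro hinv
      obtain ⟨t, ht⟩ := exists_generic hZ
      have hT := image_irreducibleComponent k X L hZ ht
      have hpre : p ⁻¹' closure {p t} = Z := by
        refine Set.Subset.antisymm (fun z hz => ?_) (fun z hz => hT.1 ▸ ⟨z, hz, rfl⟩)
        obtain ⟨Z₂, hZ₂, hzZ₂, e⟩ := exists_component_over k X L hT.2 z hz
        obtain ⟨t₂, ht₂⟩ := exists_generic hZ₂
        have e' : p t = p t₂ := by
          refine IsGenericPoint.eq (S := closure {p t}) rfl ?_
          show closure _ = _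
          rw [← (image_irreducibleComponent k X L hZ₂ ht₂).1]
          exact e
        obtain ⟨σ, hσ⟩ := exists_galAct_eq k X L t t₂ e'
        have ht₂Z : t₂ ∈ Z := hσ ▸ hinv σ ▸ ⟨t, ht.mem, rfl⟩
        exact ((ht.specializes ht₂Z).trans (ht₂.specializes hzZ₂)).mem_closed
          (isClosed_of_mem_irreducibleComponents Z hZ) ht.mem
      refine ⟨_, hT.2, hpre, fun K _ _ => ?_⟩
      exact isIrreducible_preimage_of_isSepClosed_level k X K L (by rw [hpre]; exact hZ.1)
    · rintro ⟨T, -, hpre, -⟩ σ
      rw [← hpre]
      exact image_eq_of_over (p := p) (Γ := Set.range (galHomeo k X L))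
        (by rintro _ ⟨τ, rfl⟩ z; exact galAct_fst_apply k X L τ z) ⟨σ, rfl⟩ T

end Groth.Agent.S7597
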