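import Groth.Statements.S7598
import Groth.Agent.Lib.BaseChange.Irred

set_option autoImplicit false
universe u
open CategoryTheory CategoryTheory.Limits AlgebraicGeometry
open Variety

namespace Groth.Agent.S7598

/-- Let k̄ be a separable algebraic closure of a field k and X a scheme over k. Two irreducible
components Z', Z'' of X_{k̄} have the same image in X if and only if Z'' is the image of Z' under
the action of some k-automorphism of k̄ on X_{k̄} (the fibres of the map on irreducible components
are the Galois orbits). -/
theorem result (k : Type u) [Field k] (X : Scheme.{u}) [X.Over (Spec (CommRingCat.of k))]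
    (Z' Z'' : Set ↥(Curv2.bc k X (SeparableClosure k))) (hZ' : Z' ∈ irreducibleComponents ↥(Curv2.bc k X (SeparableClosure k)))
    (hZ'' : Z'' ∈ irreducibleComponents ↥(Curv2.bc k X (SeparableClosure k))) :
    (Curv2.bcFst k X (SeparableClosure k)).base '' Z' = (Curv2.bcFst k X (SeparableClosure k)).base '' Z'' ↔
      ∃ σ : SeparableClosure k ≃ₐ[k] SeparableClosure k, (Curv2.galAct k X (SeparableClosure k) σ).base '' Z' = Z'' := by
    open GrothLib.BaseChange in
    let L := SeparableClosure k
    obtain ⟨t', ht'⟩ := exists_generic hZ'
    obtain ⟨t'', ht''⟩ := exists_generic hZ''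
    constructor
    · intro h
      have e : Curv2.bcFst k X L t' = Curv2.bcFst k X L t'' := by
        refine IsGenericPoint.eq (S := closure {Curv2.bcFst k X L t''}) ?_ rfl
        show closure _ = _
        rw [← (image_irreducibleComponent k X L hZ' ht').1, ← (image_irreducibleComponent k X L hZ'' ht'').1]
        exact h
      obtain ⟨σ, hσ⟩ := exists_galAct_eq k X L t' t'' e
      refine ⟨σ, ?_⟩
      rw [← ht'.def, ← ht''.def, ← hσ]
      exact ((galHomeo k X L σ).image_closure {t'}).trans (by rw [Set.image_singleton]; rfl)
    · rintro ⟨σ, rfl⟩
      rw [← Set.image_comp, ← TopCat.coe_comp, ← Scheme.Hom.comp_base, galAct_fst]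

end Groth.Agent.S7598
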