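import Groth.Statements.S7599
import Groth.Agent.Lib.AlgMisc.GeomNormLocal
import Mathlib

set_option autoImplicit false
set_option backward.isDefEq.respectTransparency false
universe u
open CategoryTheory CategoryTheory.Limits AlgebraicGeometry
attribute [local instance] Curv2.stalkAlgebra
open scoped TensorProduct
open Variety

namespace Groth.Agent.S7599

/-- Let X be a scheme over a field k and x a point of X. These conditions are equivalent: (1) the scheme
X is geometrically normal at x (meaning: for any extension field k' and any point x' of X_{k'} over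
x the local ring O_{X_{k'}, x'} is an integrally closed domain); (2) the same for the finite purely
inseparable extensions k' of k only; (3) for every extension field k' of k the ring k' ⊗_k O_{X, x}
is normal (all its localisations at primes are integrally closed domains). Stated as (1) ↔ (2)
together with (2) ↔ (3). -/
theorem result (k : Type u) [Field k] (X : Scheme.{u}) [X.Over (Spec (CommRingCat.of k))] (x : ↥X) :
    ((∀ (k' : Type u) [Field k'] [Algebra k k'] (x' : ↥(Curv2.bc k X k')), Curv2.bcFst k X k' x' = x →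
          IsDomain ↥((Curv2.bc k X k').presheaf.stalk x') ∧ IsIntegrallyClosed ↥((Curv2.bc k X k').presheaf.stalk x')) ↔
      (∀ (k' : Type u) [Field k'] [Algebra k k'] [FiniteDimensional k k'] [IsPurelyInseparable k k'] (x' : ↥(Curv2.bc k X k')), Curv2.bcFst k X k' x' = x →
          IsDomain ↥((Curv2.bc k X k').presheaf.stalk x') ∧ IsIntegrallyClosed ↥((Curv2.bc k X k').presheaf.stalk x'))) ∧
    ((∀ (k' : Type u) [Field k'] [Algebra k k'] [FiniteDimensional k k'] [IsPurelyInseparable k k'] (x' : ↥(Curv2.bc k X k')), Curv2.bcFst k X k' x' = x →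
          IsDomain ↥((Curv2.bc k X k').presheaf.stalk x') ∧ IsIntegrallyClosed ↥((Curv2.bc k X k').presheaf.stalk x')) ↔
      ∀ (k' : Type u) [Field k'] [Algebra k k'], EGA4.IsNormalRing (k' ⊗[k] ↥(X.presheaf.stalk x))) := by
  letI := Curv2.stalkAlgebra k X x
  have fwd : (∀ (k' : Type u) [Field k'] [Algebra k k'], EGA4.IsNormalRing (TensorProduct k k' (X.presheaf.stalk x))) →
      ∀ (k' : Type u) [Field k'] [Algebra k k'] (x' : ↥(Curv2.bc k X k')), Curv2.bcFst k X k' x' = x →
        IsDomain ↥((Curv2.bc k X k').presheaf.stalk x') ∧ IsIntegrallyClosed ↥((Curv2.bc k X k').presheaf.stalk x') :=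
    fun h k' _ _ x' hx' => Lib.AlgMisc.GeomNormLocal.isND_stalk_of_isNormalRing x
      (GrothLib.Excellent.isNormalRing_congr (Algebra.TensorProduct.comm k k' (X.presheaf.stalk x)).toRingEquiv (h k'))
      x' (hx' ▸ specializes_rfl)
  have bwd : (∀ (k' : Type u) [Field k'] [Algebra k k'] [FiniteDimensional k k'] [IsPurelyInseparable k k'] (x' : ↥(Curv2.bc k X k')), Curv2.bcFst k X k' x' = x →
        IsDomain ↥((Curv2.bc k X k').presheaf.stalk x') ∧ IsIntegrallyClosed ↥((Curv2.bc k X k').presheaf.stalk x')) →
      ∀ (k' : Type u) [Field k'] [Algebra k k'], EGA4.IsNormalRing (TensorProduct k k' (X.presheaf.stalk x)) :=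
    fun h k' _ _ => GrothLib.NormalHom.isNormalRing_tensor_field
      (Lib.AlgMisc.GeomNormLocal.isGeomNormal_stalk x h) k'
  exact ⟨⟨fun h k' _ _ _ _ x' hx' => h k' x' hx', fun h => fwd (bwd h)⟩,
    ⟨bwd, fun h k' _ _ _ _ x' hx' => fwd h k' x' hx'⟩⟩

end Groth.Agent.S7599
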