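import Groth.Statements.S7600
import Groth.Agent.Lib.AlgMisc.GeomAtBC
import Mathlib

set_option autoImplicit false
set_option backward.isDefEq.respectTransparency false
universe u
open CategoryTheory CategoryTheory.Limits AlgebraicGeometry
open Variety

namespace Groth.Agent.S7600

/-- (2) ⇒ (1): let X be a scheme over a field k, k' an extension field of k and x' a point of X_{k'}
with image x in X. If X_{k'} is geometrically normal at x' over k' (for every extension field k'' of
k' and every point x'' of (X_{k'})_{k''} over x' the local ring at x'' is an integrally closed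
domain), then X is geometrically normal at x over k. -/
theorem result (k : Type u) [Field k] (X : Scheme.{u}) [X.Over (Spec (CommRingCat.of k))] (k' : Type u) [Field k'] [Algebra k k'] (x' : ↥(Curv2.bc k X k'))
    (h : letI : (Curv2.bc k X k').Over (Spec (CommRingCat.of k')) := ⟨Curv2.bcSnd k X k'⟩
      ∀ (k'' : Type u) [Field k''] [Algebra k' k''] (x'' : ↥(Curv2.bc k' (Curv2.bc k X k') k'')), Curv2.bcFst k' (Curv2.bc k X k') k'' x'' = x' →
          IsDomain ↥((Curv2.bc k' (Curv2.bc k X k') k'').presheaf.stalk x'') ∧ IsIntegrallyClosed ↥((Curv2.bc k' (Curv2.bc k X k') k'').presheaf.stalk x'')) :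
    ∀ (K : Type u) [Field K] [Algebra k K] (y : ↥(Curv2.bc k X K)), Curv2.bcFst k X K y = (Curv2.bcFst k X k' x') →
          IsDomain ↥((Curv2.bc k X K).presheaf.stalk y) ∧ IsIntegrallyClosed ↥((Curv2.bc k X K).presheaf.stalk y) := by
  intro K _ _ y hy
  letI : (Curv2.bc k X k').Over (Spec (CommRingCat.of k')) := ⟨Curv2.bcSnd k X k'⟩
  obtain ⟨L, _, _, z, m, hm, hmz, hz⟩ :=
    Lib.AlgMisc.GeomAtBC.exists_common_point k X K k' y x' hy
  subst hmz
  obtain ⟨_, _⟩ := h L z hz
  algebraize [(m.stalkMap z).hom]
  haveI : Module.Flat _ _ := Flat.stalkMap m z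
  haveI : IsLocalHom (algebraMap ((Curv2.bc k X K).presheaf.stalk (m z))
      ((Curv2.bc k' (Curv2.bc k X k') L).presheaf.stalk z)) :=
    inferInstanceAs (IsLocalHom (m.stalkMap z).hom)
  haveI := Module.FaithfullyFlat.of_flat_of_isLocalHom
    (A := (Curv2.bc k X K).presheaf.stalk (m z))
    (B := (Curv2.bc k' (Curv2.bc k X k') L).presheaf.stalk z)
  exact Lib.AlgMisc.GeomAtBC.isDomain_and_isIntegrallyClosed_of_faithfullyFlat _
    ((Curv2.bc k' (Curv2.bc k X k') L).presheaf.stalk z)

end Groth.Agent.S7600
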