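import Groth.Statements.S7601
import Groth.Agent.Lib.AlgMisc.GeomNormLocal
import Mathlib

set_option autoImplicit false
set_option backward.isDefEq.respectTransparency false
universe u
open CategoryTheory CategoryTheory.Limits AlgebraicGeometry
open Variety

namespace Groth.Agent.S7601

/-- Let X be a geometrically normal scheme over a field k (X_K is a normal scheme for every extension
field K of k) and Y a normal scheme over k. Then X ×_k Y is a normal scheme. -/
theorem result (k : Type u) [Field k] (X : Scheme.{u}) [X.Over (Spec (CommRingCat.of k))] (Y : Scheme.{u}) [Y.Over (Spec (CommRingCat.of k))]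
    (hX : ∀ (K : Type u) [Field K] [Algebra k K], Pi1.IsNormalScheme (Curv2.bc k X K)) (hY : Pi1.IsNormalScheme Y) :
    Pi1.IsNormalScheme (pullback (X ↘ (Spec (CommRingCat.of k))) (Y ↘ (Spec (CommRingCat.of k)))) := by
  set sX := X ↘ (Spec (CommRingCat.of k))
  set sY := Y ↘ (Spec (CommRingCat.of k))
  intro z
  let 𝒰 := Scheme.Pullback.openCoverOfRight Y.affineOpenCover.openCover sX sY
  obtain ⟨i, w, rfl⟩ := 𝒰.exists_eq z
  let B := Y.affineOpenCover.X i
  let ψ := Spec.preimage (Y.affineOpenCover.f i ≫ sY)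
  algebraize [ψ.hom]
  have hg : Y.affineOpenCover.openCover.f i ≫ sY =
      Spec.map (CommRingCat.ofHom (algebraMap k (Y.affineOpenCover.X i))) := (Spec.map_preimage _).symm
  let e := pullback.congrHom (rfl : sX = _) hg
  let x := pullback.fst sX (Spec.map (CommRingCat.ofHom (algebraMap k (Y.affineOpenCover.X i)))) (e.hom w)
  letI := Curv2.stalkAlgebra k X x
  have hA : EGA4.IsGeomNormal k (X.presheaf.stalk x) :=
    Lib.AlgMisc.GeomNormLocal.isGeomNormal_stalk x fun k' _ _ _ _ x' _ => hX k' x'
  have hB : EGA4.IsNormalRing B := fun P hP => by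
    refine (Lib.AlgMisc.GeomNormLocal.isND_stalk_Spec_iff B ⟨P, hP⟩).mp ?_
    exact Lib.AlgMisc.GeomNormLocal.isND_equiv
      (asIso ((Y.affineOpenCover.f i).stalkMap ⟨P, hP⟩)).commRingCatIsoToRingEquiv (hY _)
  have h := Lib.AlgMisc.GeomNormLocal.isND_stalk_of_isNormalRing x
    (GrothLib.NormalTensor.isNormalRing_tensor_geomNormal hA hB) (e.hom w) specializes_rfl
  have h2 := Lib.AlgMisc.GeomNormLocal.isND_equiv (asIso (e.hom.stalkMap w)).commRingCatIsoToRingEquiv h
  exact Lib.AlgMisc.GeomNormLocal.isND_equiv (asIso ((𝒰.f i).stalkMap w)).commRingCatIsoToRingEquiv.symm h2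

end Groth.Agent.S7601
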