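import Groth.Statements.S7602
import Groth.Agent.Lib.AlgMisc.GeomNormLocal
import Mathlib

set_option autoImplicit false
set_option backward.isDefEq.respectTransparency false
universe u
open CategoryTheory CategoryTheory.Limits AlgebraicGeometry
open Variety

namespace Groth.Agent.S7602

/-- Let X be a normal scheme over a field k and K an extension field of k which is separable over k in
the sense that Spec K → Spec k is geometrically reduced (K ⊗_k k' reduced for every field k' over
k). Then X_K is a normal scheme. -/
theorem result (k : Type u) [Field k] (X : Scheme.{u}) [X.Over (Spec (CommRingCat.of k))] (hX : Pi1.IsNormalScheme X)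
    (K : Type u) [Field K] [Algebra k K] [GeometricallyReduced (Spec.map (CommRingCat.ofHom (algebraMap k K)))] :
    Pi1.IsNormalScheme (Curv2.bc k X K) := by
  intro z
  let x := Curv2.bcFst k X K z
  letI := Curv2.stalkAlgebra k X x
  obtain ⟨_, _⟩ := hX x
  have hGR : Algebra.IsGeometricallyReduced k K := by
    rw [Algebra.isGeometricallyReduced_field_iff]
    let σ := Spec.map (CommRingCat.ofHom (algebraMap k K))
    let τ := Spec.map (CommRingCat.ofHom (algebraMap k (AlgebraicClosure k)))
    haveI : AlgebraicGeometry.IsReduced (pullback σ τ) :=
      ‹GeometricallyReduced (Spec.map (CommRingCat.ofHom (algebraMap k K)))›.geometrically_isReduced _ _ _ (.of_hasPullback σ τ)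
    haveI : AlgebraicGeometry.IsReduced (Spec (CommRingCat.of (TensorProduct k (AlgebraicClosure k) K))) :=
      isReduced_of_isOpenImmersion ((pullbackSymmetry σ τ) ≪≫ pullbackSpecIso k (AlgebraicClosure k) K).inv
    exact (affine_isReduced_iff (CommRingCat.of (TensorProduct k (AlgebraicClosure k) K))).1 inferInstance
  haveI := hGR
  exact Lib.AlgMisc.GeomNormLocal.isND_stalk_of_isNormalRing x
    (GrothLib.Excellent.isNormalRing_congr (Algebra.TensorProduct.comm k K (X.presheaf.stalk x)).toRingEquiv
      (GrothLib.NormalHom.isNormalRing_tensor_separable (k := k)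
        (GrothLib.NormalHom.isNormalRing_of_isDomain (X.presheaf.stalk x)) K)) z specializes_rfl

end Groth.Agent.S7602
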