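import Groth.Statements.S7603
import Mathlib
import Groth.Agent.S2280

set_option autoImplicit false
universe u
open CategoryTheory CategoryTheory.Limits AlgebraicGeometry
open Variety

namespace Groth.Agent.S7603

/-- (2) ⇔ (3): let X be a proper scheme over a field k which is geometrically normal (X_K is a normal
scheme for every extension field K of k). Then X is geometrically connected over k exactly when it
is geometrically irreducible over k. (The published statement lists geometric integrality as a
further equivalent condition; given geometric normality it is equivalent to geometric irreducibility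
by a direct argument, so this row omits it.) -/
theorem result (k : Type u) [Field k] (X : Scheme.{u}) [X.Over (Spec (CommRingCat.of k))] [IsProper (X ↘ (Spec (CommRingCat.of k)))]
    (hX : ∀ (K : Type u) [Field K] [Algebra k K], Pi1.IsNormalScheme (Curv2.bc k X K)) :
    GeometricallyConnected (X ↘ (Spec (CommRingCat.of k))) ↔ GeometricallyIrreducible (X ↘ (Spec (CommRingCat.of k))) := by
  constructor
  · intro hc
    rw [geometricallyIrreducible_iff, geometrically_iff_of_commRing]
    intro K _ _ Y fst snd h
    let e := h.isoPullback
    haveI : IsLocallyNoetherian (Curv2.bc k X K) :=
      LocallyOfFiniteType.isLocallyNoetherian (pullback.snd (X ↘ Spec (CommRingCat.of k)) (Spec.map (CommRingCat.ofHom (algebraMap k K))))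
    haveI : ConnectedSpace (Curv2.bc k X K) :=
      hc.geometrically_connectedSpace _ _ _ (IsPullback.of_hasPullback _ _)
    haveI hint : IsIntegral (Curv2.bc k X K) :=
      ((Groth.Agent.S2280.result (Curv2.bc k X K)).2.mpr ⟨inferInstance, fun x => (hX K x).1⟩)
    haveI : IsOpenImmersion e.hom := inferInstance
    haveI : Nonempty Y := ⟨e.inv (Classical.arbitrary (Curv2.bc k X K))⟩
    haveI : IsIntegral Y := isIntegral_of_isOpenImmersion e.hom
    exact (inferInstance : IrreducibleSpace Y)
  · intro h
    rw [geometricallyConnected_iff]
    intro K _ y Y fst snd hp
    haveI : IrreducibleSpace Y := h.geometrically_irreducibleSpace y fst snd hp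
    exact (inferInstance : ConnectedSpace Y)

end Groth.Agent.S7603
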