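import Groth.Statements.S7607
import Groth.Agent.Lib.AlgMisc.GeomAtBC
import Groth.Agent.Lib.Serre.Regular
import Groth.Agent.Lib.Hensel.Noetherian
import Mathlib

set_option autoImplicit false
set_option backward.isDefEq.respectTransparency false
universe u
open CategoryTheory CategoryTheory.Limits AlgebraicGeometry
open Variety

namespace Groth.Agent.S7607

/-- (2) ⇒ (1): let X be a scheme over a field k, k' a finitely generated field extension of k and x' a
point of X_{k'} with image x in X. If X_{k'} is geometrically regular at x' over k', then X is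
geometrically regular at x over k. (The published setting defines geometric regularity only for
locally Noetherian schemes; this row allows any scheme X over k.) -/
theorem result (k : Type u) [Field k] (X : Scheme.{u}) [X.Over (Spec (CommRingCat.of k))] (k' : Type u) [Field k'] [Algebra k k'] (hfg : (⊤ : IntermediateField k k').FG)
    (x' : ↥(Curv2.bc k X k'))
    (h : @Curv2.IsGeomRegularAt k' _ (Curv2.bc k X k') ⟨Curv2.bcSnd k X k'⟩ x') :
    Curv2.IsGeomRegularAt k X (Curv2.bcFst k X k' x') := by
  intro K _ _ hK y hy
  letI : (Curv2.bc k X k').Over (Spec (CommRingCat.of k')) := ⟨Curv2.bcSnd k X k'⟩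
  obtain ⟨L, _, _, z, m, hL, hm, hmz, hz⟩ :=
    Lib.AlgMisc.GeomAtBC.exists_common_point_fg k X K k' hK y x' hy
  subst hmz
  haveI := h L hL z hz
  algebraize [(m.stalkMap z).hom]
  haveI : Module.Flat _ _ := Flat.stalkMap m z
  haveI : IsLocalHom (algebraMap ((Curv2.bc k X K).presheaf.stalk (m z))
      ((Curv2.bc k' (Curv2.bc k X k') L).presheaf.stalk z)) :=
    inferInstanceAs (IsLocalHom (m.stalkMap z).hom)
  haveI := Module.FaithfullyFlat.of_flat_of_isLocalHom
    (A := (Curv2.bc k X K).presheaf.stalk (m z))
    (B := (Curv2.bc k' (Curv2.bc k X k') L).presheaf.stalk z)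
  haveI := GrothLib.Hensel.isNoetherianRing_of_faithfullyFlat ((Curv2.bc k X K).presheaf.stalk (m z))
    ((Curv2.bc k' (Curv2.bc k X k') L).presheaf.stalk z)
  exact GrothLib.Serre.isRegularLocalRing_of_flat ((Curv2.bc k X K).presheaf.stalk (m z))
    ((Curv2.bc k' (Curv2.bc k X k') L).presheaf.stalk z)

end Groth.Agent.S7607
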