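import Groth.Statements.S7609
import Mathlib
import Groth.Agent.Lib.CMMor6.BaseChange

set_option autoImplicit false
universe u
open CategoryTheory CategoryTheory.Limits AlgebraicGeometry
open Variety

namespace Groth.Agent.S7609

/-- Let X be a scheme locally of finite type over a field k, k' any extension field of k and x' a point
of X_{k'} with image x in X. Then the local ring O_{X, x} is Cohen-Macaulay if and only if
O_{X_{k'}, x'} is Cohen-Macaulay. -/
theorem result (k : Type u) [Field k] (X : Scheme.{u}) [X.Over (Spec (CommRingCat.of k))] [LocallyOfFiniteType (X ↘ (Spec (CommRingCat.of k)))]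
    (k' : Type u) [Field k'] [Algebra k k'] (x' : ↥(Curv2.bc k X k')) :
    LocCoh.IsCohenMacaulayLocalRing ↥(X.presheaf.stalk (Curv2.bcFst k X k' x')) ↔
      LocCoh.IsCohenMacaulayLocalRing ↥((Curv2.bc k X k').presheaf.stalk x') := by
  exact (GrothLib.CMMor6.cm_stalk_fieldExtension_finiteType (algebraMap k k')
    (IsPullback.of_hasPullback (X ↘ Spec (CommRingCat.of k)) _) x').symm

end Groth.Agent.S7609
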