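import Groth.Statements.S7610
import Groth.Agent.Lib.AlgSp.FibreDimBC
import Groth.Agent.Lib.CMMor6.LocalDim

set_option autoImplicit false
universe u
open CategoryTheory CategoryTheory.Limits AlgebraicGeometry
open Variety

namespace Groth.Agent.S7610

/-- Let X and Y be schemes locally of finite type over a field k and z a point of X ×_k Y lying over x
in X and y in Y. Then dim_z(X ×_k Y) = dim_x X + dim_y Y (local dimensions of the underlying
topological spaces, in WithBot ℕ∞). -/
theorem result (k : Type u) [Field k] (X : Scheme.{u}) [X.Over (Spec (CommRingCat.of k))] [LocallyOfFiniteType (X ↘ (Spec (CommRingCat.of k)))]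
    (Y : Scheme.{u}) [Y.Over (Spec (CommRingCat.of k))] [LocallyOfFiniteType (Y ↘ (Spec (CommRingCat.of k)))]
    (z : ↥(pullback (X ↘ (Spec (CommRingCat.of k))) (Y ↘ (Spec (CommRingCat.of k))))) :
    FlatMor.localDim ↥(pullback (X ↘ (Spec (CommRingCat.of k))) (Y ↘ (Spec (CommRingCat.of k)))) z =
      FlatMor.localDim ↥X (pullback.fst (X ↘ (Spec (CommRingCat.of k))) (Y ↘ (Spec (CommRingCat.of k))) z) +
        FlatMor.localDim ↥Y (pullback.snd (X ↘ (Spec (CommRingCat.of k))) (Y ↘ (Spec (CommRingCat.of k))) z) := by
  let k' : Type u := k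
  let sX := X ↘ (Spec (CommRingCat.of k))
  let sY := Y ↘ (Spec (CommRingCat.of k))
  let f := pullback.snd sX sY
  haveI : LocallyOfFiniteType f := MorphismProperty.pullback_snd _ _ inferInstance
  haveI : Flat sX := GrothLib.AlgSp.flat_to_field sX
  haveI : Flat f := MorphismProperty.pullback_snd _ _ inferInstance
  haveI : IsLocallyNoetherian Y := LocallyOfFiniteType.isLocallyNoetherian sY
  haveI : IsLocallyNoetherian (pullback sX sY) := LocallyOfFiniteType.isLocallyNoetherian f
  haveI : LocallyOfFiniteType (f.fiberToSpecResidueField (f z)) := MorphismProperty.pullback_snd f _ inferInstance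
  have h1 : FlatMor.localDim (↥(pullback sX sY)) z =
      FlatMor.localDim ↥Y (f z) + FlatMor.fibreDimAt f z := by
    rw [GrothLib.AffDom.localDim_eq (f ≫ sY) z, GrothLib.AffDom.localDim_eq sY (f z),
      GrothLib.AffDom.ptDim_eq_add f sY z,
      GrothLib.CMMor6.ringKrullDim_stalk_eq_add f z (Flat.stalkMap f _)]
    refine (add_add_add_comm _ _ _ _).trans ?_
    congr 1
    exact (@GrothLib.AffDom.localDim_eq _ _ _ (f.fiberToSpecResidueField (f z))
      (MorphismProperty.pullback_snd f _ inferInstance) (f.asFiber z)).symm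
  have h2 : FlatMor.fibreDimAt f z = FlatMor.localDim ↥X (pullback.fst sX sY z) := by
    rw [GrothLib.AlgSp.fibreDimAt_of_isPullback (IsPullback.of_hasPullback sX sY) z]
    exact (GrothLib.AlgSp.localDim_of_field_bc sX (IsPullback.of_hasPullback sX _) _).trans
      (congrArg _ (sX.fiberι_asFiber _))
  show FlatMor.localDim (↥(pullback sX sY)) z = _
  rw [h1, h2, add_comm]

end Groth.Agent.S7610
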