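import Groth.Statements.S7611
import Groth.Agent.Lib.BigFieldJac5.Basic

set_option autoImplicit false
universe u
open CategoryTheory CategoryTheory.Limits AlgebraicGeometry
attribute [local instance] Curv2.resAlgebra
open Variety

namespace Groth.Agent.S7611

/-- Let X be a scheme over a field k. There is a cardinal κ such that for every extension field K of k
of cardinality at least κ, the base change X_K is a Jacobson scheme and for every closed point x of
X_K the residue field κ(x) is algebraic over K. -/
theorem result (k : Type u) [Field k] (X : Scheme.{u}) [X.Over (Spec (CommRingCat.of k))] :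
    ∃ κ : Cardinal.{u}, ∀ (K : Type u) [Field K] [Algebra k K], κ ≤ Cardinal.mk K →
      JacobsonSpace ↥(Curv2.bc k X K) ∧
        ∀ x : ↥(Curv2.bc k X K), IsClosed ({x} : Set ↥(Curv2.bc k X K)) →
          letI : (Curv2.bc k X K).Over (Spec (CommRingCat.of K)) := ⟨Curv2.bcSnd k X K⟩
          Algebra.IsAlgebraic K ((Curv2.bc k X K).residueField x) :=
  GrothLib.BigFieldJac5.exists_cardinal_baseChange_jacobson k X

end Groth.Agent.S7611
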