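import Groth.Statements.S7612
import Mathlib.AlgebraicGeometry.PullbackCarrier
import Mathlib.AlgebraicGeometry.Morphisms.UniversallyOpen
import Mathlib.AlgebraicGeometry.IdealSheaf.Subscheme

set_option autoImplicit false
universe u
open CategoryTheory CategoryTheory.Limits AlgebraicGeometry
open Variety

namespace Groth.Agent.S7612

theorem isOpen_image_fst {k : Type u} [Field k] {X Y T : Scheme.{u}} (f : X ⟶ Spec (CommRingCat.of k))
    (g : Y ⟶ Spec (CommRingCat.of k)) (i : T ⟶ Y) (W : Set ↥(pullback f g)) (hW : IsOpen W) :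
    IsOpen (pullback.fst f g '' (W ∩ pullback.snd f g ⁻¹' Set.range i)) := by
  let J := pullback.map f (i ≫ g) f g (𝟙 _) i (𝟙 _) (by simp) (by simp)
  have h : Set.range J = pullback.snd f g ⁻¹' Set.range i := by
    rw [Scheme.Pullback.range_map]; simp
  rw [← h, ← Set.image_preimage_eq_inter_range, ← Set.image_comp, ← TopCat.coe_comp,
    ← Scheme.Hom.comp_base, show J ≫ pullback.fst f g = pullback.fst f (i ≫ g) ≫ 𝟙 _ from
      pullback.lift_fst _ _ _, Category.comp_id]
  exact (pullback.fst f (i ≫ g)).isOpenMap _ (hW.preimage J.continuous)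

theorem isOpen_image_snd {k : Type u} [Field k] {X Y T : Scheme.{u}} (f : X ⟶ Spec (CommRingCat.of k))
    (g : Y ⟶ Spec (CommRingCat.of k)) (i : T ⟶ X) (W : Set ↥(pullback f g)) (hW : IsOpen W) :
    IsOpen (pullback.snd f g '' (W ∩ pullback.fst f g ⁻¹' Set.range i)) := by
  let J := pullback.map (i ≫ f) g f g i (𝟙 _) (𝟙 _) (by simp) (by simp)
  have h : Set.range J = pullback.fst f g ⁻¹' Set.range i := by
    rw [Scheme.Pullback.range_map]; simp
  rw [← h, ← Set.image_preimage_eq_inter_range, ← Set.image_comp, ← TopCat.coe_comp,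
    ← Scheme.Hom.comp_base, show J ≫ pullback.snd f g = pullback.snd (i ≫ f) g ≫ 𝟙 _ from
      pullback.lift_snd _ _ _, Category.comp_id]
  exact (pullback.snd (i ≫ f) g).isOpenMap _ (hW.preimage J.continuous)

/-- Let X and Y be schemes over a field k and A ⊆ X, B ⊆ Y subsets. Inside X ×_k Y, the closure of the
set of points projecting into A and into B equals the set of points projecting into the closure of A
and into the closure of B. -/
theorem result (k : Type u) [Field k] (X : Scheme.{u}) [X.Over (Spec (CommRingCat.of k))] (Y : Scheme.{u}) [Y.Over (Spec (CommRingCat.of k))] (A : Set ↥X) (B : Set ↥Y) :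
    closure ((pullback.fst (X ↘ (Spec (CommRingCat.of k))) (Y ↘ (Spec (CommRingCat.of k)))).base ⁻¹' A ∩ (pullback.snd (X ↘ (Spec (CommRingCat.of k))) (Y ↘ (Spec (CommRingCat.of k)))).base ⁻¹' B) =
      (pullback.fst (X ↘ (Spec (CommRingCat.of k))) (Y ↘ (Spec (CommRingCat.of k)))).base ⁻¹' closure A ∩ (pullback.snd (X ↘ (Spec (CommRingCat.of k))) (Y ↘ (Spec (CommRingCat.of k)))).base ⁻¹' closure B := by
    let p₁ := pullback.fst (X ↘ (Spec (CommRingCat.of k))) (Y ↘ (Spec (CommRingCat.of k)))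
    let p₂ := pullback.snd (X ↘ (Spec (CommRingCat.of k))) (Y ↘ (Spec (CommRingCat.of k)))
    refine (closure_minimal (Set.inter_subset_inter (Set.preimage_mono subset_closure)
      (Set.preimage_mono subset_closure)) ((isClosed_closure.preimage p₁.continuous).inter
        (isClosed_closure.preimage p₂.continuous))).antisymm ?_
    rintro z ⟨hz₁, hz₂⟩
    rw [mem_closure_iff]
    intro W hW hzW
    let i := (Scheme.IdealSheafData.vanishingIdeal (⟨closure A, isClosed_closure⟩ :
      TopologicalSpace.Closeds X)).subschemeι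
    have hi : Set.range i = closure A := by
      rw [Scheme.IdealSheafData.range_subschemeι]
      rfl
    obtain ⟨b, ⟨w, ⟨hwW, hw₁⟩, rfl⟩, hb⟩ := mem_closure_iff.mp hz₂ _
      (isOpen_image_snd _ _ i W hW) ⟨z, ⟨hzW, hi.symm ▸ hz₁⟩, rfl⟩
    have hw₁' : p₁ w ∈ closure A := hi ▸ hw₁
    let j := Y.fromSpecResidueField (p₂ w)
    obtain ⟨a, ⟨v, ⟨hvW, ⟨t, ht⟩⟩, rfl⟩, ha⟩ := mem_closure_iff.mp hw₁' _
      (isOpen_image_fst (X ↘ (Spec (CommRingCat.of k))) (Y ↘ (Spec (CommRingCat.of k))) j W hW)
      ⟨w, ⟨hwW, default, Scheme.fromSpecResidueField_apply _ _⟩, rfl⟩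
    refine ⟨v, hvW, ha, ?_⟩
    rw [Set.mem_preimage, ← ht, Scheme.fromSpecResidueField_apply]
    exact hb

end Groth.Agent.S7612
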