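import Groth.Statements.S7613
import Groth.Agent.Lib.Neutral.Connected
import Groth.Agent.Lib.SecLocus.Locus
import Groth.Agent.Lib.SecComp6.Smooth
import Groth.Agent.Lib.AlgMisc.GeomRedAt
import Groth.Agent.Lib.GenericSmooth.Basic
import Groth.Agent.Lib.BaseChange.AlgClosedIn

set_option autoImplicit false
universe u
open CategoryTheory CategoryTheory.Limits AlgebraicGeometry
open Variety

namespace Groth.Agent.S7613

theorem dense_of_nonempty_irreducible {X : Scheme.{u}} [IsIntegral X] (U : X.Opens) {η : X} (hη : η ∈ U) :
    Dense (U : Set X) := U.2.dense ⟨η, hη⟩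

/-- Let X be a variety over a field k (integral, separated and of finite type over k) with a k-rational
point x (k → κ(x) onto) such that X → Spec k is smooth at x. Then every base change of X to an
extension field of k is an integral scheme (X is geometrically integral over k). -/
theorem result (k : Type u) [Field k] (X : Scheme.{u}) [X.Over (Spec (CommRingCat.of k))] [IsIntegral X] [IsSeparated (X ↘ (Spec (CommRingCat.of k)))]
    [LocallyOfFiniteType (X ↘ (Spec (CommRingCat.of k)))] [QuasiCompact (X ↘ (Spec (CommRingCat.of k)))]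
    (x : ↥X) (hx : Function.Surjective (Curv2.resMap k X x)) (hsm : x ∈ (X ↘ (Spec (CommRingCat.of k))).smoothLocus) :
    GeometricallyIntegral (X ↘ (Spec (CommRingCat.of k))) := by
  let p := X ↘ Spec (CommRingCat.of k)
  haveI : LocallyOfFinitePresentation p := inferInstance
  let U : X.Opens := p.smoothLocus
  let q := U.ι ≫ p
  haveI : Smooth q := GrothLib.GenericSmooth.smooth_smoothLocus_ι_comp p
  haveI : IsReduced X := inferInstance
  haveI : IrreducibleSpace ↥(U : Scheme.{u}) :=
    Subtype.irreducibleSpace ⟨⟨x, hsm⟩, (IrreducibleSpace.isIrreducible_univ X).2.open_subset U.2 (Set.subset_univ _)⟩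
  let e := RingEquiv.ofBijective (Curv2.resMap k X x) ⟨(Curv2.resMap k X x).injective, hx⟩
  let t₀ : Spec (CommRingCat.of k) ⟶ X :=
    Spec.map (CommRingCat.ofHom e.symm.toRingHom) ≫ X.fromSpecResidueField x
  have ht₀ : t₀ ≫ p = 𝟙 _ := by
    rw [Category.assoc, GrothLib.BaseChange.fromSpecResidueField_over, ← Spec.map_comp, ← CommRingCat.ofHom_comp]
    rw [← Spec.map_id]
    congr 1
    ext c
    exact e.symm_apply_apply c
  have hr : Set.range t₀ ⊆ Set.range U.ι := by
    rintro _ ⟨s, rfl⟩
    rw [U.range_ι]
    have h1 : t₀ s ∈ Set.range (X.fromSpecResidueField x) := ⟨_, (Scheme.Hom.comp_apply _ _ _).symm⟩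
    rw [Scheme.range_fromSpecResidueField, Set.mem_singleton_iff] at h1
    exact h1.symm ▸ hsm
  let t := IsOpenImmersion.lift U.ι t₀ hr
  have ht : t ≫ q = 𝟙 _ := by rw [← Category.assoc, IsOpenImmersion.lift_fac]; exact ht₀
  haveI : GeometricallyConnected q := GrothLib.Neutral.geometricallyConnected_of_point q t ht
  haveI : GeometricallyIrreducible q := GrothLib.SecLocus.geometricallyIrreducible_of_smooth q
  haveI : GeometricallyReduced q := GrothLib.SecComp6.geometricallyReduced_of_smooth q
  have hη : genericPoint X ∈ U := (genericPoint_specializes x).mem_open U.2 hsm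
  haveI : GeometricallyReduced p := by
    refine Groth.Agent.Lib.AlgMisc.GeomRedAt.geometricallyReduced_of_maximalPoints fun η hmax => ?_
    intro K _ _ z hz
    have hηU : η ∈ U := (hmax _ (genericPoint_specializes η)).mem_open U.2 hη
    let j : pullback q (Spec.map (CommRingCat.ofHom (algebraMap k K))) ⟶ Curv2.bc k X K :=
      pullback.map _ _ _ _ U.ι (𝟙 _) (𝟙 _) (by simp [q, p]) (by simp)
    have hj : Set.range j = (Curv2.bcFst k X K).base ⁻¹' Set.range U.ι := by
      have := Scheme.Pullback.range_map (U.ι ≫ p) (Spec.map (CommRingCat.ofHom (algebraMap k K))) p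
        (Spec.map (CommRingCat.ofHom (algebraMap k K))) U.ι (𝟙 _) (𝟙 _) (by simp) (by simp)
      refine this.trans ?_
      rw [Set.inter_eq_left.2]
      intro w _
      exact ⟨_, rfl⟩
    haveI : IsReduced (pullback q (Spec.map (CommRingCat.ofHom (algebraMap k K)))) :=
      GeometricallyReduced.geometrically_isReduced (f := q) _ _ _ (.of_hasPullback _ _)
    obtain ⟨w, rfl⟩ : z ∈ Set.range j := by
      rw [hj, U.range_ι]
      show Curv2.bcFst k X K z ∈ U
      rw [hz]; exact hηU
    exact isReduced_of_injective (asIso (j.stalkMap w)).commRingCatIsoToRingEquiv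
      (asIso (j.stalkMap w)).commRingCatIsoToRingEquiv.injective
  haveI : GeometricallyIrreducible p := ⟨fun K _ y Z fst snd h => by
    let U' : Z.Opens := fst ⁻¹ᵁ U
    haveI : UniversallyOpen fst := MorphismProperty.of_isPullback (P := @UniversallyOpen) h.flip inferInstance
    have h2 : IsPullback (fst ∣_ U) (U'.ι ≫ snd) q y :=
      (IsPullback.paste_vert (isPullback_morphismRestrict fst U) h)
    haveI : IrreducibleSpace ↥(U' : Scheme.{u}) :=
      GeometricallyIrreducible.geometrically_irreducibleSpace y (fst ∣_ U) (U'.ι ≫ snd) h2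
    have hd : Dense (U' : Set Z) := (dense_of_nonempty_irreducible U hη).preimage fst.isOpenMap
    have h3 : IsIrreducible (U' : Set Z) := by
      have := (IrreducibleSpace.isIrreducible_univ ↥(U' : Scheme.{u})).image U'.ι U'.ι.continuous.continuousOn
      rwa [Set.image_univ, U'.range_ι] at this
    refine (irreducibleSpace_def _).mpr ?_
    show IsIrreducible (Set.univ : Set Z)
    rw [← hd.closure_eq]
    exact h3.closure⟩
  exact GeometricallyIntegral.of_geometricallyReduced_of_geometricallyIrreducible p

end Groth.Agent.S7613
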