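import Groth.Statements.S7614
import Mathlib
import Groth.Agent.S1127
import Groth.Agent.Lib.AlgSp.FieldBase
import Groth.Prelude.Def_Mor2

set_option autoImplicit false
set_option backward.isDefEq.respectTransparency false
universe u
open CategoryTheory CategoryTheory.Limits AlgebraicGeometry
open Variety

open CategoryTheory.Limits

namespace Groth.Agent.S7614

/-- Let X be a scheme over a field k and K an extension field of k. If X_K is quasi-affine, then X is
quasi-affine. -/
theorem result (k : Type u) [Field k] (X : Scheme.{u}) [X.Over (Spec (CommRingCat.of k))] (K : Type u) [Field K] [Algebra k K]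
    [(Curv2.bc k X K).IsQuasiAffine] : X.IsQuasiAffine := by
  let sX := X ↘ (Spec (CommRingCat.of k))
  let g := Spec.map (CommRingCat.ofHom (algebraMap k K))
  haveI : QuasiCompact (Curv2.bcSnd k X K) :=
    HasAffineProperty.iff_of_isAffine.mpr (inferInstance : CompactSpace (Curv2.bc k X K))
  have hbc : Mor2.IsQuasiAffine (pullback.snd sX g) := by
    refine ⟨‹QuasiCompact (Curv2.bcSnd k X K)›, fun V hV => ?_⟩
    haveI : CompactSpace ((pullback.snd sX g) ⁻¹ᵁ V : Scheme.{u}) :=
      isCompact_iff_compactSpace.mp ((pullback.snd sX g).isCompact_preimage hV.isCompact)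
    haveI : (pullback sX g).IsQuasiAffine := ‹(Curv2.bc k X K).IsQuasiAffine›
    exact Scheme.IsQuasiAffine.of_isImmersion ((pullback.snd sX g) ⁻¹ᵁ V).ι
  haveI := Groth.Agent.S1127.result.{u}
  have hQ : (@Surjective ⊓ @Flat ⊓ @QuasiCompact : MorphismProperty Scheme.{u}) g :=
    ⟨⟨inferInstance, GrothLib.AlgSp.flat_to_field g⟩, inferInstance⟩
  have h := MorphismProperty.of_pullback_snd_of_descendsAlong
    (P := (fun _ _ f => Mor2.IsQuasiAffine f : MorphismProperty Scheme.{u})) (f := sX) hQ hbc
  obtain ⟨hqc, h⟩ := h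
  haveI := h ⊤ (isAffineOpen_top _)
  haveI : CompactSpace X := HasAffineProperty.iff_of_isAffine.mp hqc
  exact Scheme.IsQuasiAffine.of_isImmersion (X.topIso.inv ≫ (X.isoOfEq (show (⊤ : X.Opens) = sX ⁻¹ᵁ ⊤ from rfl)).hom)

end Groth.Agent.S7614
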