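import Groth.Statements.S7617
import Groth.Agent.Lib.DeltaBC4.GeomReg

set_option autoImplicit false
universe u
open CategoryTheory CategoryTheory.Limits AlgebraicGeometry
open Variety

namespace Groth.Agent.S7617

open TensorProduct

attribute [local instance] Curv2.stalkAlgebra

theorem residue_facts (k : Type u) [Field k] (N : Scheme.{u}) [N.Over (Spec (CommRingCat.of k))] (z : ↥N)
    (h : GeometricallyReduced (Spec.map (CommRingCat.ofHom (Curv2.resMap k N z)))) :
    Algebra.IsGeometricallyReduced k (IsLocalRing.ResidueField (N.presheaf.stalk z)) ∧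
    ∀ (K : Type u) [Field K] [Algebra k K],
      _root_.IsReduced (IsLocalRing.ResidueField (N.presheaf.stalk z) ⊗[k] K) := by
  have key : ∀ (K : Type u) [Field K] [Algebra k K],
      _root_.IsReduced (IsLocalRing.ResidueField (N.presheaf.stalk z) ⊗[k] K) := by
    intro K _ _
    haveI : AlgebraicGeometry.IsReduced (pullback
        (Spec.map (CommRingCat.ofHom (algebraMap k (IsLocalRing.ResidueField (N.presheaf.stalk z)))))
        (Spec.map (CommRingCat.ofHom (algebraMap k K)))) :=
      h.geometrically_isReduced _ _ _ (IsPullback.of_hasPullback _ _)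
    haveI := isReduced_of_isOpenImmersion
      (pullbackSpecIso k (IsLocalRing.ResidueField (N.presheaf.stalk z)) K).inv
    exact (affine_isReduced_iff _).1 ‹_›
  refine ⟨?_, fun K _ _ => key K⟩
  rw [Algebra.isGeometricallyReduced_field_iff]
  haveI := key (AlgebraicClosure k)
  exact isReduced_of_injective
    (Algebra.TensorProduct.comm k (AlgebraicClosure k) (IsLocalRing.ResidueField (N.presheaf.stalk z)))
    (Algebra.TensorProduct.comm k (AlgebraicClosure k) (IsLocalRing.ResidueField (N.presheaf.stalk z))).injective

/-- Let X be an integral scheme locally of finite type over a field k, ν : X^ν → X its normalization,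
and x a point of X with dim O_{X, x} = 1 such that for every point x' of X^ν over x the residue
field κ(x') is separable over k (Spec κ(x') → Spec k geometrically reduced). Then X is geometrically
reduced at x, and at every point of X^ν over x the normalization is geometrically regular. (The
published statement covers every scheme locally of finite type over k with reduced local ring at x,
using the normalization of a possibly non-integral scheme; this row takes X integral.) -/
theorem result (k : Type u) [Field k] (X : Scheme.{u}) [X.Over (Spec (CommRingCat.of k))] [IsIntegral X] [LocallyOfFiniteType (X ↘ (Spec (CommRingCat.of k)))]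
    [QuasiCompact (X.fromSpecStalk (genericPoint X))] [QuasiSeparated (X.fromSpecStalk (genericPoint X))]
    (x : ↥X) (hdim : ringKrullDim ↥(X.presheaf.stalk x) = 1)
    (hsep : letI : (Curv2.normalization X).Over (Spec (CommRingCat.of k)) := ⟨Curv2.normalizationι X ≫ (X ↘ (Spec (CommRingCat.of k)))⟩
      ∀ x' : ↥(Curv2.normalization X), Curv2.normalizationι X x' = x →
        GeometricallyReduced (Spec.map (CommRingCat.ofHom (Curv2.resMap k (Curv2.normalization X) x')))) :
    Curv2.IsGeomReducedAt k X x ∧
      letI : (Curv2.normalization X).Over (Spec (CommRingCat.of k)) := ⟨Curv2.normalizationι X ≫ (X ↘ (Spec (CommRingCat.of k)))⟩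
      ∀ x' : ↥(Curv2.normalization X), Curv2.normalizationι X x' = x → Curv2.IsGeomRegularAt k (Curv2.normalization X) x' := by
  letI : (Curv2.normalization X).Over (Spec (CommRingCat.of k)) :=
    ⟨Curv2.normalizationι X ≫ (X ↘ (Spec (CommRingCat.of k)))⟩
  let N := Curv2.normalization X
  haveI := GrothLib.DeltaBC4.isFinite_normalizationι k X
  haveI : LocallyOfFiniteType (N ↘ Spec (CommRingCat.of k)) :=
    show LocallyOfFiniteType (Curv2.normalizationι X ≫ (X ↘ (Spec (CommRingCat.of k)))) from inferInstance
  have hess : ∀ z : ↥N, Algebra.EssFiniteType k (IsLocalRing.ResidueField (N.presheaf.stalk z)) := fun z => by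
    haveI := GrothLib.DeltaBC4.essFiniteType_stalk k N z
    exact Algebra.EssFiniteType.comp k (N.presheaf.stalk z) _
  refine ⟨fun K _ _ y hy => ?_, fun x' hx' K _ _ hfg y hy => ?_⟩
  · obtain ⟨x', hx'⟩ : ∃ x', Curv2.normalizationι X x' = x := by
      have hcl : IsClosed (Set.range (Curv2.normalizationι X)) :=
        (Curv2.normalizationι X).isClosedMap.isClosed_range
      have hs : genericPoint X ⤳ x := (genericPoint_spec X).specializes trivial
      exact hs.mem_closed hcl ⟨_, GrothLib.NormFib.map_genericPoint⟩
    subst hx'
    haveI : IsDomain (N.presheaf.stalk x') := (GrothLib.NormFib.isNormalScheme_normalization x').1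
    haveI := GrothLib.DeltaBC4.isDVR_stalk_normalization k X x' hdim
    haveI := (residue_facts k N x' (hsep x' rfl)).2 K
    haveI := GrothLib.DeltaBC4.isReduced_tensor_of_dvr k K (N.presheaf.stalk x')
    -- the local ring embeds in that of the normalization
    let s := ((Curv2.normalizationι X).stalkMap x').hom
    let f : X.presheaf.stalk (Curv2.normalizationι X x') →ₐ[k] N.presheaf.stalk x' :=
      { s with
        commutes' := fun r => by
          show ((Curv2.normalizationι X).stalkMap x').hom
              (X.presheaf.germ ⊤ _ trivial (Coh.toGlobal (X ↘ Spec (CommRingCat.of k)) r)) =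
            N.presheaf.germ ⊤ x' trivial (Coh.toGlobal (Curv2.normalizationι X ≫ (X ↘ Spec (CommRingCat.of k))) r)
          rw [show Coh.toGlobal (Curv2.normalizationι X ≫ (X ↘ Spec (CommRingCat.of k))) r =
            (Curv2.normalizationι X).appTop (Coh.toGlobal (X ↘ Spec (CommRingCat.of k)) r) from by
              simp only [Coh.toGlobal, Scheme.Hom.comp_appTop, CommRingCat.hom_comp]
              rfl]
          exact Scheme.Hom.germ_stalkMap_apply (Curv2.normalizationι X) ⊤ x' trivial _ }
    have hf : Function.Injective f := by
      have hsp : genericPoint N ⤳ x' := (genericPoint_spec N).specializes trivial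
      have h1 : Function.Injective (GrothLib.NormFib.toFF (X := X) (Curv2.normalizationι X x')) := by
        letI := (GrothLib.NormFib.toFF (X := X) (Curv2.normalizationι X x')).toAlgebra
        haveI := GrothLib.NormFib.isFractionRing_stalk_ff (X := X) (Curv2.normalizationι X x')
        exact IsFractionRing.injective _ N.functionField
      intro a b hab
      refine h1 ?_
      have h2 := Scheme.Hom.stalkSpecializes_stalkMap (Curv2.normalizationι X) _ x' hsp
      exact (ConcreteCategory.congr_hom h2 a).trans ((congrArg (N.presheaf.stalkSpecializes hsp).hom hab).trans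
        (ConcreteCategory.congr_hom h2 b).symm)
    haveI : _root_.IsReduced (X.presheaf.stalk (Curv2.normalizationι X x') ⊗[k] K) :=
      isReduced_of_injective (Algebra.TensorProduct.map f (AlgHom.id k K))
        (Module.Flat.rTensor_preserves_injective_linearMap (M := K) f.toLinearMap hf)
    revert hy
    intro hy
    obtain ⟨Q, _, alg, hloc, -⟩ := GrothLib.DeltaBC4.exists_stalk_bc k X K y
    haveI := hloc
    haveI : _root_.IsReduced (X.presheaf.stalk (Curv2.bcFst k X K y) ⊗[k] K) := by
      rw [hy]; infer_instance
    exact isReduced_localizationPreserves Q.primeCompl _ ‹_›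
  · haveI : Algebra.EssFiniteType k K := IntermediateField.fg_top_iff.mp hfg
    subst hy
    obtain ⟨Q, _, alg, hloc, hQ⟩ := GrothLib.DeltaBC4.exists_stalk_bc k N K y
    haveI := hloc
    haveI : IsDomain (N.presheaf.stalk (Curv2.bcFst k N K y)) :=
      (GrothLib.NormFib.isNormalScheme_normalization (Curv2.bcFst k N K y)).1
    haveI := GrothLib.DeltaBC4.isDVR_stalk_normalization k X (Curv2.bcFst k N K y) (by rw [hx']; exact hdim)
    haveI := hess (Curv2.bcFst k N K y)
    haveI := (residue_facts k N _ (hsep (Curv2.bcFst k N K y) hx')).1
    haveI : IsLocallyNoetherian (Curv2.bc k N K) :=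
      LocallyOfFiniteType.isLocallyNoetherian (Curv2.bcSnd k N K)
    exact GrothLib.DeltaBC4.isRegularLocalRing_tensor_of_dvr k K _ Q hQ ((Curv2.bc k N K).presheaf.stalk y)

end Groth.Agent.S7617
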