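import Groth.Statements.S7618
import Mathlib.RingTheory.Artinian.Module
import Mathlib.RingTheory.IntegralClosure.IsIntegralClosure.Basic
import Mathlib.RingTheory.Artinian.Ring

set_option autoImplicit false
universe u
open CategoryTheory CategoryTheory.Limits AlgebraicGeometry
open Variety

namespace Groth.Agent.S7618

/-- Let X be a connected reduced scheme over a field k. Then the global functions on X that are integral
over k form a field. -/
theorem result (k : Type u) [Field k] (X : Scheme.{u}) [X.Over (Spec (CommRingCat.of k))] [ConnectedSpace ↥X] [IsReduced X] :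
    letI := ((X ↘ (Spec (CommRingCat.of k))).appTop.hom.comp (Scheme.ΓSpecIso (CommRingCat.of k)).inv.hom : k →+* Γ(X, ⊤)).toAlgebra
    IsField ↥(integralClosure k ↑Γ(X, ⊤)) := by
  let _ : Algebra k Γ(X, ⊤) := ((X ↘ (Spec (CommRingCat.of k))).appTop.hom.comp (Scheme.ΓSpecIso (CommRingCat.of k)).inv.hom : k →+* Γ(X, ⊤)).toAlgebra
  have hidem : ∀ e : Γ(X, ⊤), IsIdempotentElem e → e = 0 ∨ e = 1 := by
    intro e he
    have hdisj : X.basicOpen e ⊓ X.basicOpen (1 - e) = ⊥ := by
      rw [← Scheme.basicOpen_mul, he.mul_one_sub_self, Scheme.basicOpen_zero]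
    have hcov : ∀ x : X, x ∈ X.basicOpen e ∨ x ∈ X.basicOpen (1 - e) := fun x => by
      rw [Scheme.mem_basicOpen_top, Scheme.mem_basicOpen_top, map_sub, map_one]
      exact IsLocalRing.isUnit_or_isUnit_one_sub_self _
    have hclopen : IsClopen (X.basicOpen e : Set X) := by
      refine ⟨?_, (X.basicOpen e).2⟩
      have : (X.basicOpen e : Set X) = (X.basicOpen (1 - e) : Set X)ᶜ := Set.ext fun x =>
        ⟨fun h h' => (hdisj.le ⟨h, h'⟩ : x ∈ (⊥ : X.Opens)), fun h => (hcov x).resolve_right h⟩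
      rw [this]
      exact (X.basicOpen (1 - e)).2.isClosed_compl
    rcases isClopen_iff.mp hclopen with h | h
    · left
      exact eq_zero_of_basicOpen_eq_bot e (TopologicalSpace.Opens.ext h)
    · right
      refine (sub_eq_zero.mp (eq_zero_of_basicOpen_eq_bot (1 - e) (TopologicalSpace.Opens.ext
        (Set.eq_empty_iff_forall_notMem.mpr fun x hx => ?_)))).symm
      exact hdisj.le ⟨h.ge trivial, hx⟩
  have hnt : Nontrivial Γ(X, ⊤) := by
    obtain ⟨x⟩ := (inferInstance : Nonempty X)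
    exact (X.presheaf.germ ⊤ x trivial).hom.domain_nontrivial
  refine ⟨⟨0, 1, zero_ne_one⟩, mul_comm, fun {a} ha => ?_⟩
  let C := Algebra.adjoin k {(a : Γ(X, ⊤))}
  have : Module.Finite k C :=
    Module.Finite.iff_fg.mpr (IsIntegral.fg_adjoin_singleton (mem_integralClosure_iff k Γ(X, ⊤) |>.mp a.2))
  have hart : IsArtinianRing C := IsArtinianRing.of_finite k C
  let c : C := ⟨a, Algebra.self_mem_adjoin_singleton k _⟩
  obtain ⟨n, y, hy⟩ := IsArtinian.exists_pow_succ_smul_dvd c (1 : C)
  simp only [smul_eq_mul, mul_one] at hy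
  have h2 : ∀ m, c ^ n = c ^ (n + m) * y ^ m := fun m => by
    induction m with
    | zero => simp
    | succ m ih =>
      calc c ^ n = c ^ (n + m) * y ^ m := ih
        _ = c ^ m * y ^ m * c ^ n := by ring
        _ = c ^ m * y ^ m * (c ^ (n + 1) * y) := by rw [hy]
        _ = _ := by ring
  have hle : C ≤ integralClosure k Γ(X, ⊤) := Algebra.adjoin_le (Set.singleton_subset_iff.mpr a.2)
  have hidE : IsIdempotentElem ((c : Γ(X, ⊤)) ^ n * (y : Γ(X, ⊤)) ^ n) := by
    have h3 := congrArg (fun z : C => (z : Γ(X, ⊤)) * (y : Γ(X, ⊤)) ^ n) (h2 n)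
    simp only [MulMemClass.coe_mul, SubmonoidClass.coe_pow, pow_add] at h3
    show _ * _ = _
    linear_combination -h3
  rcases hidem _ hidE with h | h
  · exfalso
    apply ha
    have h4 := congrArg (fun z : C => (z : Γ(X, ⊤))) (h2 n)
    simp only [MulMemClass.coe_mul, SubmonoidClass.coe_pow, pow_add, mul_assoc, h, mul_zero] at h4
    exact Subtype.ext (eq_zero_of_pow_eq_zero h4)
  · rcases Nat.eq_zero_or_pos n with rfl | hn
    · refine ⟨⟨(y : Γ(X, ⊤)), hle y.2⟩, Subtype.ext ?_⟩
      have h5 := congrArg (fun z : C => (z : Γ(X, ⊤))) hy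
      simpa using h5
    · refine ⟨⟨(c : Γ(X, ⊤)) ^ (n - 1) * (y : Γ(X, ⊤)) ^ n, mul_mem (pow_mem a.2 _) (pow_mem (hle y.2) _)⟩,
        Subtype.ext ?_⟩
      show (a : Γ(X, ⊤)) * _ = 1
      rw [← mul_assoc, ← pow_succ', Nat.sub_add_cancel hn]
      exact h

end Groth.Agent.S7618
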