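import Groth.Statements.S7619
import Mathlib

set_option autoImplicit false
universe u
open CategoryTheory CategoryTheory.Limits AlgebraicGeometry
open scoped TensorProduct
open TensorProduct KaehlerDifferential
open Variety

namespace Groth.Agent.S7619

/-- Let A → B be a finite type ring map (a finite type morphism of affine schemes), q a prime of B and r
= dim_{κ(q)} Ω_{B/A} ⊗_B κ(q). Then there is an A-algebra homomorphism A[x_1, …, x_r] → B for which
B is unramified over A[x_1, …, x_r] at q. -/
theorem result (A B : Type u) [CommRing A] [CommRing B] [Algebra A B] [Algebra.FiniteType A B]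
    (q : Ideal B) [q.IsPrime] (r : ℕ) (hr : Module.finrank q.ResidueField (q.ResidueField ⊗[B] Ω[B⁄A]) = r) :
    ∃ φ : MvPolynomial (Fin r) A →ₐ[A] B,
      letI := φ.toRingHom.toAlgebra
      Algebra.IsUnramifiedAt (MvPolynomial (Fin r) A) q := by
  let κ := q.ResidueField
  let s : Set (κ ⊗[B] Ω[B⁄A]) := Set.range fun b : B => (1 : κ) ⊗ₜ D A B b
  have hs : Submodule.span κ s = ⊤ := by
    rw [eq_top_iff]
    rintro z -
    induction z using TensorProduct.induction_on with
    | zero => simp
    | add a b ha hb => exact add_mem ha hb
    | tmul a m =>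
      have : m ∈ Submodule.span B (Set.range (D A B)) := by
        rw [span_range_derivation]; trivial
      induction this using Submodule.span_induction generalizing a with
      | mem x hx =>
        obtain ⟨b, rfl⟩ := hx
        have : a ⊗ₜ[B] D A B b = a • ((1 : κ) ⊗ₜ D A B b) := by
          rw [smul_tmul', smul_eq_mul, mul_one]
        rw [this]
        exact Submodule.smul_mem _ _ (Submodule.subset_span ⟨b, rfl⟩)
      | zero => simp
      | add x y _ _ hx hy => rw [tmul_add]; exact add_mem (hx a) (hy a)
      | smul c x _ hx => rw [← smul_tmul]; exact hx (c • a)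
  have hfin : Module.finrank κ (Submodule.span κ s) = r := by rw [hs, finrank_top, hr]
  obtain ⟨f, hfs, hf, -⟩ := Submodule.exists_fun_fin_finrank_span_eq κ s
  choose x hx using fun i : Fin r => hfs (Fin.cast hfin.symm i)
  refine ⟨MvPolynomial.aeval x, ?_⟩
  letI := (MvPolynomial.aeval x : MvPolynomial (Fin r) A →ₐ[A] B).toRingHom.toAlgebra
  change Algebra.IsUnramifiedAt (MvPolynomial (Fin r) A) q
  haveI : IsScalarTower A (MvPolynomial (Fin r) A) B :=
    .of_algebraMap_eq fun a => (MvPolynomial.aeval x).commutes a |>.symm
  haveI : Algebra.FiniteType (MvPolynomial (Fin r) A) B := .of_restrictScalars_finiteType A _ _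
  have key : (⟨q, inferInstance⟩ : PrimeSpectrum B) ∈ Algebra.unramifiedLocus (MvPolynomial (Fin r) A) B := by
    rw [Algebra.unramifiedLocus_eq_compl_support, Set.mem_compl_iff,
      Module.mem_support_iff_nontrivial_residueField_tensorProduct, not_nontrivial_iff_subsingleton]
    let g := (map A (MvPolynomial (Fin r) A) B B).baseChange κ
    have hg : Function.Surjective g := LinearMap.lTensor_surjective κ (map_surjective A _ B)
    have hg0 : ∀ z, g z = 0 := by
      intro z
      have hz : z ∈ Submodule.span κ (Set.range f) := by rw [hf, hs]; trivial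
      induction hz using Submodule.span_induction with
      | mem y hy =>
        obtain ⟨i, rfl⟩ := hy
        rw [show i = Fin.cast hfin.symm (Fin.cast hfin i) from Fin.ext rfl, ← hx]
        simp only [g, LinearMap.baseChange_tmul, map_D]
        rw [show x (Fin.cast hfin i) = algebraMap (MvPolynomial (Fin r) A) B (MvPolynomial.X (Fin.cast hfin i)) from
          (MvPolynomial.aeval_X x _).symm]
        simp
      | zero => simp
      | add _ _ _ _ ha hb => simp [ha, hb]
      | smul _ _ _ ha => simp [ha]
    refine ⟨fun a b => ?_⟩
    obtain ⟨a, rfl⟩ := hg a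
    obtain ⟨b, rfl⟩ := hg b
    rw [hg0, hg0]
  exact key

end Groth.Agent.S7619
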