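import Groth.Statements.S7620
import Mathlib
import Groth.Agent.Lib.Dim.Ring

set_option autoImplicit false
set_option backward.isDefEq.respectTransparency false
universe u
open CategoryTheory CategoryTheory.Limits AlgebraicGeometry
open scoped TensorProduct
open Variety

namespace Groth.Agent.S7620

/-- Let A → B be a finite type ring map (a finite type morphism of affine schemes X → S), p a prime of A
and suppose the fibre ring κ(p) ⊗_A B has Krull dimension d. Then there is an A-algebra homomorphism
π : A[t_1, …, t_d] → B such that the induced map of fibres κ(p) ⊗_A A[t_1, …, t_d] → κ(p) ⊗_A B is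
finite. -/
theorem result (A B : Type u) [CommRing A] [CommRing B] [Algebra A B] [Algebra.FiniteType A B]
    (p : Ideal A) [p.IsPrime] (d : ℕ) (hd : ringKrullDim (p.ResidueField ⊗[A] B) = d) :
    ∃ π : MvPolynomial (Fin d) A →ₐ[A] B,
      (Algebra.TensorProduct.map (AlgHom.id p.ResidueField p.ResidueField) π).toRingHom.Finite := by
  classical
  let κ := p.ResidueField
  let F := κ ⊗[A] B
  haveI : Nontrivial F := by
    by_contra h
    rw [not_nontrivial_iff_subsingleton] at h
    rw [ringKrullDim_eq_bot_of_subsingleton] at hd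
    cases hd
  obtain ⟨n, g, hinj, hfin⟩ := exists_finite_inj_algHom_of_fg κ F
  obtain rfl : n = d := by
    algebraize [g.toRingHom]
    haveI : Module.Finite (MvPolynomial (Fin n) κ) F := hfin
    have := GrothLib.Dim.ringKrullDim_eq_of_isIntegral (R := MvPolynomial (Fin n) κ) (S := F) hinj
    rw [hd, MvPolynomial.ringKrullDim_of_isNoetherianRing, ringKrullDim_eq_zero_of_field, zero_add,
      Nat.card_fin] at this
    exact_mod_cast this.symm
  choose s hs b hb using fun i => Ideal.Fiber.exists_smul_eq_one_tmul p (g (MvPolynomial.X i))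
  refine ⟨MvPolynomial.aeval b, ?_⟩
  let π : MvPolynomial (Fin n) A →ₐ[A] B := MvPolynomial.aeval b
  let Φ := Algebra.TensorProduct.map (AlgHom.id κ κ) π
  let ψ : MvPolynomial (Fin n) κ →ₐ[κ] κ ⊗[A] MvPolynomial (Fin n) A :=
    MvPolynomial.aeval fun i => (algebraMap A κ (s i))⁻¹ • ((1 : κ) ⊗ₜ[A] MvPolynomial.X i)
  have hcomp : Φ.comp ψ = g := by
    refine MvPolynomial.algHom_ext fun i => ?_
    simp only [AlgHom.comp_apply, ψ, MvPolynomial.aeval_X, map_smul, Φ, Algebra.TensorProduct.map_tmul,
      map_one, π]
    rw [← hb i, ← IsScalarTower.algebraMap_smul κ (s i) (g _), smul_smul, inv_mul_cancel₀, one_smul]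
    rw [ne_eq, Ideal.algebraMap_residueField_eq_zero]
    exact hs i
  exact AlgHom.Finite.of_comp_finite (f := ψ) (g := Φ) (by rw [hcomp]; exact hfin)

end Groth.Agent.S7620
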