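import Groth.Statements.S7621
import Mathlib

set_option autoImplicit false
set_option backward.isDefEq.respectTransparency false
universe u
open CategoryTheory CategoryTheory.Limits AlgebraicGeometry
open Variety

namespace Groth.Agent.S7621

open Limits in
/-- Every point of an open of `X_K` has a neighbourhood inside it stable under all automorphisms
fixing some finite subextension. -/
theorem exists_stable_nhd (k : Type u) [Field k] (K : Type u) [Field K] [Algebra k K]
    [Algebra.IsIntegral k K] (X : Scheme.{u}) [X.Over (Spec (CommRingCat.of k))]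
    (V : Set ↥(Curv2.bc k X K)) (hV : IsOpen V) (v : ↥(Curv2.bc k X K)) (hv : v ∈ V) :
    ∃ (O : Set ↥(Curv2.bc k X K)) (S : Finset K), IsOpen O ∧ v ∈ O ∧ O ⊆ V ∧
      ∀ σ : K ≃ₐ[k] K, (∀ a ∈ S, σ a = a) → ∀ z ∈ O, (Curv2.galAct k X K σ).base z ∈ O := by
  classical
  set sX := X ↘ (Spec (CommRingCat.of k))
  let g := Spec.map (CommRingCat.ofHom (algebraMap k K))
  let 𝒰 := Scheme.Pullback.openCoverOfLeft X.affineOpenCover.openCover sX g
  obtain ⟨i, w, rfl⟩ := 𝒰.exists_eq v
  obtain ⟨A, ψ, hψ, w, hw⟩ : ∃ (A : CommRingCat.{u}) (ψ : Spec A ⟶ X) (_ : IsOpenImmersion ψ)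
      (w' : ↥(pullback (ψ ≫ sX) g)),
      pullback.map (ψ ≫ sX) g sX g ψ (𝟙 _) (𝟙 _) (by simp) (by simp) w' = 𝒰.f i w :=
    ⟨_, X.affineOpenCover.f i, inferInstance, w, rfl⟩
  let φ := Spec.preimage (ψ ≫ sX)
  algebraize [φ.hom]
  have hj : ψ ≫ sX = Spec.map (CommRingCat.ofHom (algebraMap k A)) := (Spec.map_preimage _).symm
  let m := pullback.map (ψ ≫ sX) g sX g ψ (𝟙 _) (𝟙 _) (by simp) (by simp)
  have hm : IsPullback (pullback.fst _ _) m ψ (pullback.fst sX g) :=
    (IsPullback.of_right (by simpa [m] using (IsPullback.of_hasPullback (ψ ≫ sX) g).flip)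
      (by simp [m]) (IsPullback.of_hasPullback _ _).flip).flip
  haveI : IsOpenImmersion m := MorphismProperty.of_isPullback hm inferInstance
  let e := pullback.congrHom hj (rfl : g = _) ≪≫ pullbackSpecIso k A K
  let c := e.inv ≫ m
  have hcf : c ≫ pullback.fst sX g = Spec.map (CommRingCat.ofHom (algebraMap A (TensorProduct k A K))) ≫ ψ := by
    simp only [c, Category.assoc, m, pullback.lift_fst, e, Iso.trans_inv, pullback.congrHom_inv,
      pullback.map]
    rw [pullback.lift_fst_assoc]
    simp only [Category.assoc, Category.id_comp]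
    exact pullbackSpecIso_inv_fst_assoc k A K ψ
  have hcs : c ≫ pullback.snd sX g = Spec.map (CommRingCat.ofHom
      (Algebra.TensorProduct.includeRight : K →ₐ[k] TensorProduct k A K).toRingHom) := by
    simp only [c, Category.assoc, m, pullback.lift_snd, e, Iso.trans_inv, pullback.congrHom_inv,
      pullback.map, Category.comp_id]
    exact pullbackSpecIso_inv_snd k A K
  have hv' : c (e.hom w) ∈ V := by
    rw [← Scheme.Hom.comp_apply, e.hom_inv_id_assoc]
    change m w ∈ V
    rw [hw]; exact hv
  obtain ⟨_, ⟨f, rfl⟩, hf, hfV⟩ := PrimeSpectrum.isTopologicalBasis_basic_opens.exists_subset_of_mem_open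
    (show (e.hom w) ∈ c.base ⁻¹' V from hv') (hV.preimage c.continuous)
  have hS : ∀ f : TensorProduct k A K, ∃ S : Finset K, ∀ σ : K ≃ₐ[k] K, (∀ a ∈ S, σ a = a) →
      Algebra.TensorProduct.map (AlgHom.id k A) (σ : K →ₐ[k] K) f = f := by
    intro f
    induction f using TensorProduct.induction_on with
    | zero => exact ⟨∅, fun σ _ => map_zero _⟩
    | tmul a b => exact ⟨{b}, fun σ h => by simp [h b (by simp)]⟩
    | add x y hx hy =>
      obtain ⟨S, hS⟩ := hx
      obtain ⟨T, hT⟩ := hy
      exact ⟨S ∪ T, fun σ h => by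
        rw [map_add, hS σ (fun a ha => h a (Finset.mem_union_left _ ha)),
          hT σ (fun a ha => h a (Finset.mem_union_right _ ha))]⟩
  obtain ⟨S, hS⟩ := hS f
  refine ⟨c.base '' (PrimeSpectrum.basicOpen f : Set (PrimeSpectrum (TensorProduct k A K))), S,
    c.isOpenEmbedding.isOpenMap _ (PrimeSpectrum.basicOpen f).isOpen, ?_, Set.image_subset_iff.mpr hfV, ?_⟩
  · refine ⟨e.hom w, hf, ?_⟩
    change c (e.hom w) = _
    rw [← Scheme.Hom.comp_apply, e.hom_inv_id_assoc]
    exact hw
  · rintro σ hσ _ ⟨q, hq, rfl⟩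
    let T : TensorProduct k A K →ₐ[k] TensorProduct k A K :=
      Algebra.TensorProduct.map (AlgHom.id k A) (σ : K →ₐ[k] K)
    have hcomm : c ≫ Curv2.galAct k X K σ = Spec.map (CommRingCat.ofHom T.toRingHom) ≫ c := by
      apply pullback.hom_ext
      · have : Curv2.galAct k X K σ ≫ pullback.fst sX g = pullback.fst sX g := by
          simp [Curv2.galAct, sX, g]
        refine Eq.trans ((Category.assoc _ _ _).trans ((congrArg (c ≫ ·) this).trans hcf)) ?_
        refine Eq.trans ?_ ((congrArg (_ ≫ ·) hcf).symm.trans (Category.assoc _ _ _).symm)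
        rw [← Spec.map_comp_assoc]
        congr 2
        ext a
        simp [T, Algebra.TensorProduct.algebraMap_apply]
      · have : Curv2.galAct k X K σ ≫ pullback.snd sX g =
            pullback.snd sX g ≫ Spec.map (CommRingCat.ofHom (σ : K →ₐ[k] K).toRingHom) := by
          simp [Curv2.galAct, sX, g]
        refine Eq.trans ((Category.assoc _ _ _).trans ((congrArg (c ≫ ·) this).trans
          ((Category.assoc _ _ _).symm.trans (congrArg (· ≫ _) hcs)))) ?_
        refine Eq.trans ?_ ((congrArg (_ ≫ ·) hcs).symm.trans (Category.assoc _ _ _).symm)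
        rw [← Spec.map_comp, ← Spec.map_comp]
        congr 1
    refine ⟨Spec.map (CommRingCat.ofHom T.toRingHom) q, ?_, ?_⟩
    · intro h
      refine hq ?_
      have h' : T f ∈ PrimeSpectrum.asIdeal q := h
      rwa [show T f = f from hS σ hσ] at h'
    · exact (congrArg (fun h => h q) hcomm).symm

/-- Let K be a (possibly infinite) Galois extension of a field k, X a scheme over k and V a
quasi-compact open subset of X_K. Then there is a subextension k'/k of K, finite over k, such that
every k-automorphism of K fixing k' pointwise maps V onto itself under its action on X_K (an open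
subgroup of the Galois group stabilises V). -/
theorem result (k : Type u) [Field k] (K : Type u) [Field K] [Algebra k K] [IsGalois k K]
    (X : Scheme.{u}) [X.Over (Spec (CommRingCat.of k))] (V : Set ↥(Curv2.bc k X K)) (hV : IsOpen V) (hVc : IsCompact V) :
    ∃ E : IntermediateField k K, FiniteDimensional k ↥E ∧
      ∀ σ : K ≃ₐ[k] K, (∀ a : K, a ∈ E → σ a = a) → (Curv2.galAct k X K σ).base '' V = V := by
  classical
  choose O S hOo hvO hOV hst using fun v : V => exists_stable_nhd k K X V hV v v.2
  obtain ⟨t, ht⟩ := hVc.elim_finite_subcover O hOo fun v hv => Set.mem_iUnion.mpr ⟨⟨v, hv⟩, hvO _⟩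
  let T : Finset K := t.biUnion S
  refine ⟨IntermediateField.adjoin k (T : Set K), IntermediateField.finiteDimensional_adjoin
    (fun a _ => Algebra.IsIntegral.isIntegral a), fun σ hσ => ?_⟩
  have key : ∀ τ : K ≃ₐ[k] K, (∀ a ∈ T, τ a = a) → ∀ z ∈ V, (Curv2.galAct k X K τ).base z ∈ V := by
    intro τ hτ z hz
    obtain ⟨v, hv, hzv⟩ := Set.mem_iUnion₂.mp (ht hz)
    exact hOV v (hst v τ (fun a ha => hτ a (Finset.mem_biUnion.mpr ⟨v, hv, ha⟩)) z hzv)
  have hfix : ∀ a ∈ T, σ a = a := fun a ha => hσ a (IntermediateField.subset_adjoin k _ ha)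
  refine Set.Subset.antisymm (Set.image_subset_iff.mpr fun z hz => key σ hfix z hz) fun z hz => ?_
  refine ⟨(Curv2.galAct k X K σ.symm).base z, key σ.symm (fun a ha => by
    conv_lhs => rw [← hfix a ha]
    exact σ.symm_apply_apply a) z hz, ?_⟩
  have : Curv2.galAct k X K σ.symm ≫ Curv2.galAct k X K σ = 𝟙 _ := by
    apply Limits.pullback.hom_ext
    · simp [Curv2.galAct]
    · simp only [Curv2.galAct, Category.assoc, Limits.pullback.map, Limits.pullback.lift_snd,
        Limits.pullback.lift_snd_assoc, Category.id_comp]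
      rw [← Spec.map_comp, ← CommRingCat.ofHom_comp]
      refine Eq.trans ?_ (Category.comp_id _)
      congr 1
      refine Eq.trans (congrArg Spec.map (?_ : _ = 𝟙 _)) (Spec.map_id _)
      ext a
      simp
  exact congrArg (fun h => h z) this

end Groth.Agent.S7621
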