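import Groth.Statements.S7622
import Groth.Agent.Lib.Cohen.Structure
import Groth.Agent.Lib.CoeffField.Basic
import Groth.Agent.Lib.SepField.Smooth
import Mathlib

set_option autoImplicit false
universe u
open CategoryTheory CategoryTheory.Limits AlgebraicGeometry
open Variety

namespace Groth.Agent.S7622


open IsLocalRing


/-- Let A be a Noetherian local algebra over a field k (such as the local ring of a locally Noetherian
k-scheme at a point) whose residue field κ is a separable extension of k, meaning geometrically
reduced over k; κ need not be algebraic over k. Then there are n ≥ 0, an ideal I of κ[[x_1, …, x_n]]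
and a k-algebra isomorphism e from κ[[x_1, …, x_n]]/I onto the completion A^∧ of A at its maximal
ideal which induces the identity on residue fields: for every a in A, the value of e on the constant
power series whose value is the residue class of a is congruent to the image of a modulo the
extended maximal ideal of A^∧. -/
theorem result (k A : Type u) [Field k] [CommRing A] [Algebra k A]
    [IsNoetherianRing A] [IsLocalRing A] [Algebra.IsGeometricallyReduced k (IsLocalRing.ResidueField A)] :
    ∃ (n : ℕ) (I : Ideal (MvPowerSeries (Fin n) (IsLocalRing.ResidueField A)))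
      (e : (MvPowerSeries (Fin n) (IsLocalRing.ResidueField A) ⧸ I) ≃ₐ[k]
        AdicCompletion (IsLocalRing.maximalIdeal A) A),
      ∀ a : A, e (Ideal.Quotient.mk I (MvPowerSeries.C (IsLocalRing.residue A a))) -
          algebraMap A (AdicCompletion (IsLocalRing.maximalIdeal A) A) a ∈
        (IsLocalRing.maximalIdeal A).map (algebraMap A (AdicCompletion (IsLocalRing.maximalIdeal A) A)) := by
  let R := AdicCompletion (maximalIdeal A) A
  haveI hlh : IsLocalHom (algebraMap A R) := ⟨fun a ha => by
    by_contra hna
    have h1 : algebraMap A R a ∈ (maximalIdeal A).map (algebraMap A R) := Ideal.mem_map_of_mem _ hna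
    rw [← AdicCompletion.maximalIdeal_eq_map] at h1
    exact h1 ha⟩
  have hmax : maximalIdeal R = (maximalIdeal A).map (algebraMap A R) := AdicCompletion.maximalIdeal_eq_map
  have hfgA : (maximalIdeal A).FG := (maximalIdeal A).fg_of_isNoetherianRing
  have hdec : ∀ x : R, ∃ a : A, x - algebraMap A R a ∈ maximalIdeal R := by
    intro x
    obtain ⟨a, ha⟩ := Ideal.Quotient.mk_surjective (AdicCompletion.evalOneₐ (maximalIdeal A) x)
    refine ⟨a, ?_⟩
    rw [hmax, ← AdicCompletion.ker_evalOneₐ_eq_map _ hfgA, RingHom.mem_ker, map_sub]
    exact sub_eq_zero.2 (ha.symm.trans (AlgHom.commutes (AdicCompletion.evalOneₐ (maximalIdeal A)) a).symm)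
  let ι₀ : ResidueField A →+* ResidueField R := ResidueField.map (algebraMap A R)
  let ι : ResidueField A →ₐ[k] ResidueField R :=
    { ι₀ with
      commutes' := fun c => by
        rw [IsScalarTower.algebraMap_apply k A (ResidueField A), IsScalarTower.algebraMap_apply k R (ResidueField R),
          IsScalarTower.algebraMap_apply k A R]
        exact ResidueField.map_residue _ _ }
  have hιres : ∀ a : A, ι (residue A a) = residue R (algebraMap A R a) := fun a => ResidueField.map_residue _ _
  have hbij : Function.Bijective ι := by
    refine ⟨ι.toRingHom.injective, fun z => ?_⟩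
    obtain ⟨x, rfl⟩ := residue_surjective z
    obtain ⟨a, ha⟩ := hdec x
    exact ⟨residue A a, (hιres a).trans (Ideal.Quotient.eq.2 ha).symm⟩
  let eι := AlgEquiv.ofBijective ι hbij
  haveI : Algebra.FormallySmooth k (ResidueField A) :=
    GrothLib.SepField.formallySmooth_iff_isGeometricallyReduced.2 inferInstance
  haveI : Algebra.FormallySmooth k (ResidueField R) := Algebra.FormallySmooth.of_equiv eι
  obtain ⟨s, hs⟩ := GrothLib.CoeffField.exists_section k R
  let g : ResidueField A →ₐ[k] R := s.comp ι
  have hg : ∀ a : A, g (residue A a) - algebraMap A R a ∈ maximalIdeal R := fun a =>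
    Ideal.Quotient.eq.1 ((hs _).trans (hιres a))
  obtain ⟨S, hS⟩ : (maximalIdeal R).FG := by rw [hmax]; exact hfgA.map _
  let b : Fin S.card → R := fun i => (S.equivFin.symm i : R)
  have hb : Ideal.span (Set.range b) = maximalIdeal R := by
    have h : Set.range b = (S : Set R) := by
      rw [show b = Subtype.val ∘ S.equivFin.symm from rfl, Set.range_comp,
        S.equivFin.symm.surjective.range_eq, Set.image_univ, Subtype.range_coe_subtype]
      rfl
    rw [h]; exact hS
  letI : Algebra (ResidueField A) R := g.toRingHom.toAlgebra
  obtain ⟨ψ, hψ⟩ := GrothLib.RegLoc.PS.exists_algHom (A := ResidueField A) (maximalIdeal R) b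
    (fun i => hb ▸ Ideal.subset_span (Set.mem_range_self i))
  have hI : (Ideal.span (Set.range (MvPowerSeries.X : Fin S.card → MvPowerSeries (Fin S.card) (ResidueField A)))).map
      ψ.toRingHom = maximalIdeal R := by
    rw [Ideal.map_span, ← Set.range_comp, ← hb]
    exact congrArg (fun t => Ideal.span (Set.range t)) (funext hψ)
  haveI : IsHausdorff ((Ideal.span (Set.range (MvPowerSeries.X : Fin S.card → MvPowerSeries (Fin S.card) (ResidueField A)))).map
      ψ.toRingHom) R := by rw [hI]; infer_instance
  have hsurj : Function.Surjective ψ := by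
    refine surjective_of_mk_map_comp_surjective (I := Ideal.span (Set.range MvPowerSeries.X)) ψ.toRingHom fun y => ?_
    obtain ⟨r, rfl⟩ := Ideal.Quotient.mk_surjective y
    obtain ⟨a, ha⟩ := hdec r
    refine ⟨algebraMap (ResidueField A) _ (residue A a), ?_⟩
    refine Ideal.Quotient.eq.2 ?_
    rw [hI, AlgHom.toRingHom_eq_coe, RingHom.coe_coe, ψ.commutes]
    have h1 := sub_mem (hg a) ha
    rwa [sub_sub_sub_cancel_right] at h1
  let ψk : MvPowerSeries (Fin S.card) (ResidueField A) →ₐ[k] R :=
    { ψ.toRingHom with
      commutes' := fun c => by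
        show ψ (algebraMap k (MvPowerSeries (Fin S.card) (ResidueField A)) c) = _
        rw [IsScalarTower.algebraMap_apply k (ResidueField A) (MvPowerSeries (Fin S.card) (ResidueField A)), ψ.commutes]
        exact g.commutes c }
  refine ⟨S.card, RingHom.ker ψk, Ideal.quotientKerAlgEquivOfSurjective (f := ψk) hsurj, fun a => ?_⟩
  rw [← hmax]
  show ψk (MvPowerSeries.C (residue A a)) - algebraMap A R a ∈ maximalIdeal R
  rw [show ψk (MvPowerSeries.C (residue A a)) = g (residue A a) from ψ.commutes (residue A a)]
  exact hg a

end Groth.Agent.S7622
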