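import Groth.Statements.S7623
import Mathlib
import Groth.Agent.Lib.AlgMisc.SmoothRank

set_option autoImplicit false
set_option backward.isDefEq.respectTransparency false
universe u
open CategoryTheory CategoryTheory.Limits AlgebraicGeometry
open Variety
open Groth.Agent.Lib.AlgMisc

namespace Groth.Agent.S7623

/-- Let k be a perfect field and A a reduced finite type k-algebra such that Ω_{A/k} is a projective
A-module (locally free, as it is finitely presented). Then A is smooth over k. The scheme statement,
X reduced and locally of finite type over k with Ω_{X/k} locally free is smooth over k, is this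
assertion on affine opens. -/
theorem result (k A : Type u) [Field k] [PerfectField k] [CommRing A] [Algebra k A]
    [Algebra.FiniteType k A] [_root_.IsReduced A] [Module.Projective A Ω[A⁄k]] : Algebra.Smooth k A := by
  haveI : Algebra.FinitePresentation k A := Algebra.FinitePresentation.of_finiteType.mp ‹_›
  suffices h : Algebra.smoothLocus k A = Set.univ from
    ⟨Algebra.smoothLocus_eq_univ_iff.mp h, inferInstance⟩
  refine Set.eq_univ_of_forall fun q => ?_
  obtain ⟨P, hP, hPq⟩ := Ideal.exists_minimalPrimes_le (bot_le : ⊥ ≤ q.asIdeal)
  haveI : P.IsPrime := hP.1.1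
  haveI hsm : Algebra.IsSmoothAt k P := by
    have : Algebra.EssFiniteType A (Localization.AtPrime P) := .of_isLocalization _ P.primeCompl
    have : Algebra.EssFiniteType k (Localization.AtPrime P) := .comp _ A _
    have : Ring.KrullDimLE 0 (Localization.AtPrime P) := .of_isLocalization _ hP _
    letI : Field (Localization.AtPrime P) := Ring.KrullDimLE.isField_of_isReduced.toField
    exact Algebra.FormallySmooth.of_perfectField
  have hloc : FlatMor.localDim (PrimeSpectrum A) ⟨P, inferInstance⟩ ≤ FlatMor.localDim (PrimeSpectrum A) q :=
    le_iInf fun U => iInf_le_of_le ⟨U.1, (PrimeSpectrum.le_iff_specializes ⟨P, inferInstance⟩ q).mp hPq |>.mem_open U.1.2 U.2⟩ le_rfl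
  have hrk := Module.rankAtStalk_eq_of_le_of_finite_of_flat' Ω[A⁄k] hPq
  rw [Module.rankAtStalk_eq, Module.rankAtStalk_eq] at hrk
  rw [SmoothRank.finrank_le_of_isSmoothAt (k := k) P] at hloc
  exact SmoothRank.isSmoothAt_of_finrank_le q.asIdeal (by rw [show Module.finrank q.asIdeal.ResidueField _ = _ from hrk.symm]; exact hloc)

end Groth.Agent.S7623
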