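import Groth.Statements.S7624
import Groth.Agent.Lib.Chev28.ValFibre
import Groth.Agent.Lib.Chev28.DimFormula
import Groth.Agent.Lib.Dim.Scheme

set_option autoImplicit false
universe u
open CategoryTheory CategoryTheory.Limits AlgebraicGeometry
open Variety

namespace Groth.Agent.S7624

/-- Let R be a valuation ring, X an irreducible scheme and f : X → Spec R a surjective morphism locally
of finite type. Then each irreducible component of the fibre of f over the closed point of Spec R
has Krull dimension equal to that of the fibre of f over the generic point. -/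
theorem result (R : Type u) [CommRing R] [IsDomain R] [ValuationRing R]
    (X : Scheme.{u}) [IrreducibleSpace ↥X] (f : X ⟶ Spec (CommRingCat.of R)) [LocallyOfFiniteType f] [Surjective f]
    (Z : Set ↥(f.fiber (IsLocalRing.closedPoint R))) (hZ : Z ∈ irreducibleComponents ↥(f.fiber (IsLocalRing.closedPoint R))) :
    topologicalKrullDim ↥Z = topologicalKrullDim ↥(f.fiber (⟨⊥, Ideal.bot_prime⟩ : PrimeSpectrum R)) := by
  let cl : Spec (CommRingCat.of R) := IsLocalRing.closedPoint R
  let η : Spec (CommRingCat.of R) := (⟨⊥, Ideal.bot_prime⟩ : PrimeSpectrum R)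
  have hgen : genericPoint (Spec (CommRingCat.of R)) = η := by
    refine (genericPoint_spec (Spec (CommRingCat.of R))).eq ?_
    show IsGenericPoint (⟨⊥, Ideal.bot_prime⟩ : PrimeSpectrum R) Set.univ
    rw [IsGenericPoint, PrimeSpectrum.closure_singleton]
    simp
  let ξ := genericPoint X
  have hξ : f ξ = η := by
    obtain ⟨x, hx⟩ := f.surjective η
    rw [← hgen]
    refine (show IsGenericPoint (f ξ) Set.univ from Set.eq_univ_of_forall fun y => ?_).eq
      (genericPoint_spec (Spec (CommRingCat.of R)))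
    obtain ⟨w, rfl⟩ := f.surjective y
    exact specializes_iff_mem_closure.1 ((genericPoint_specializes w).map f.continuous)
  haveI : LocallyOfFiniteType (f.fiberToSpecResidueField cl) := MorphismProperty.pullback_snd f _ inferInstance
  haveI : LocallyOfFiniteType (f.fiberToSpecResidueField η) := MorphismProperty.pullback_snd f _ inferInstance
  haveI : IsLocallyNoetherian (f.fiber cl) := LocallyOfFiniteType.isLocallyNoetherian (f.fiberToSpecResidueField cl)
  have hZc := isClosed_of_mem_irreducibleComponents Z hZ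
  let z₀ : f.fiber cl := hZ.1.genericPoint
  have hz₀ : IsGenericPoint z₀ Z := hZ.1.isGenericPoint_genericPoint hZc
  have hz₀max : ∀ z, z ⤳ z₀ → z = z₀ := fun z hz => by
    have h1 : Z ⊆ closure {z} := by
      rw [← hz₀.def]
      exact closure_minimal (Set.singleton_subset_iff.2 hz.mem_closure) isClosed_closure
    have h2 : closure {z} = Z := Set.Subset.antisymm (hZ.2 isIrreducible_singleton.closure h1) h1
    exact IsGenericPoint.eq (show IsGenericPoint z Z from h2) hz₀
  obtain ⟨O, hzO, hO⟩ := GrothLib.Chev28.exists_open_components_through z₀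
  have hOZ : ∀ z ∈ O, z ∈ Z := fun z hz => by
    obtain ⟨C, hC, hzC⟩ := exists_mem_irreducibleComponents_subset_of_isIrreducible {z} isIrreducible_singleton
    have hc := hC.1.isGenericPoint_genericPoint (isClosed_of_mem_irreducibleComponents C hC)
    have hsp : hC.1.genericPoint ⤳ z := hc.specializes (hzC rfl)
    have hmax : ∀ w, w ⤳ hC.1.genericPoint → w = hC.1.genericPoint := fun w hw => by
      have h1 : C ⊆ closure {w} := by
        rw [← hc.def]
        exact closure_minimal (Set.singleton_subset_iff.2 hw.mem_closure) isClosed_closure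
      have h2 : closure {w} = C := Set.Subset.antisymm (hC.2 isIrreducible_singleton.closure h1) h1
      exact IsGenericPoint.eq (show IsGenericPoint w C from h2) hc
    have h3 := hz₀max _ (hO _ (hsp.mem_open O.2 hz) hmax)
    rw [← hz₀.def]
    exact specializes_iff_mem_closure.1 (h3 ▸ hsp)
  obtain ⟨W₀, hW₀, hW₀O⟩ := (f.fiberι cl).isEmbedding.isOpen_iff.1 O.2
  let W : X.Opens := ⟨W₀, hW₀⟩
  have hzW : f.fiberι cl z₀ ∈ W := (hW₀O.symm ▸ hzO : z₀ ∈ (f.fiberι cl).base ⁻¹' W₀)
  have hcl : f (f.fiberι cl z₀) = cl := (f.range_fiberι cl).le ⟨z₀, rfl⟩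
  have hξW : ξ ∈ W := (genericPoint_specializes _).mem_open W.2 hzW
  let g : (W : Scheme.{u}) ⟶ Spec (CommRingCat.of R) := W.ι ≫ f
  haveI : IrreducibleSpace ↥(W : Scheme.{u}) :=
    Subtype.irreducibleSpace ⟨⟨ξ, hξW⟩, (IrreducibleSpace.isIrreducible_univ X).2.open_subset W.2 (Set.subset_univ _)⟩
  haveI : IsDominant g := by
    refine ⟨dense_iff_closure_eq.2 (Set.eq_univ_of_univ_subset ?_)⟩
    rw [← (genericPoint_spec (Spec (CommRingCat.of R))).def, hgen]
    refine closure_mono (Set.singleton_subset_iff.2 ?_)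
    exact ⟨⟨ξ, hξW⟩, hξ⟩
  have h0 : Nonempty ↥(g.fiber cl) := by
    obtain ⟨w, hw⟩ := (g.range_fiberι cl).ge (show (⟨_, hzW⟩ : W) ∈ g ⁻¹' {cl} from hcl)
    exact ⟨w⟩
  have hmain : topologicalKrullDim ↥(g.fiber cl) = topologicalKrullDim ↥(g.fiber η) := by
    have := GrothLib.Chev28.dim_closedFibre_eq_generic (V := CommRingCat.of R) g h0
    rwa [hgen] at this
  have hdimfib : ∀ t : Spec (CommRingCat.of R), topologicalKrullDim ↥(g.fiber t) =
      topologicalKrullDim ↥((f.fiberι t).base ⁻¹' (W : Set X)) := fun t => by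
    rw [GrothLib.Dim.IsEmbedding.topologicalKrullDim_eq (f := fun w => W.ι (g.fiberι t w))
        (W.ι.isEmbedding.comp (g.fiberι t).isEmbedding) (S := (W : Set X) ∩ f ⁻¹' {t}) ?_,
      GrothLib.Dim.IsEmbedding.topologicalKrullDim_eq (X := ↥((f.fiberι t).base ⁻¹' (W : Set X)))
        (f := fun w => f.fiberι t w.1) ((f.fiberι t).isEmbedding.comp Topology.IsEmbedding.subtypeVal)
        (S := (W : Set X) ∩ f ⁻¹' {t}) ?_]
    · ext x
      constructor
      · rintro ⟨⟨w, hw⟩, rfl⟩
        exact ⟨hw, (f.range_fiberι t).le ⟨w, rfl⟩⟩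
      · rintro ⟨hxW, hxt⟩
        obtain ⟨w, rfl⟩ := (f.range_fiberι t).ge hxt
        exact ⟨⟨w, hxW⟩, rfl⟩
    · ext x
      constructor
      · rintro ⟨w, rfl⟩
        exact ⟨(g.fiberι t w).2, (g.range_fiberι t).le ⟨w, rfl⟩⟩
      · rintro ⟨hxW, hxt⟩
        obtain ⟨w, hw⟩ := (g.range_fiberι t).ge (show (⟨x, hxW⟩ : W) ∈ g ⁻¹' {t} from hxt)
        exact ⟨w, congrArg Subtype.val hw⟩
  obtain ⟨n, hn, hnU⟩ := @GrothLib.Dim.exists_nat_dim_irreducible ((Spec (CommRingCat.of R)).residueField cl) _ (f.fiber cl)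
    (f.fiberToSpecResidueField cl) (MorphismProperty.pullback_snd f _ inferInstance) Z hZc hZ.1
  have hZO : Z ∩ (O : Set ↥(f.fiber cl)) = (O : Set ↥(f.fiber cl)) := Set.inter_eq_right.2 hOZ
  have hOn := hnU O ⟨z₀, hz₀.mem, hzO⟩
  rw [hZO] at hOn
  have hdimZ : topologicalKrullDim ↥Z = topologicalKrullDim ↥(g.fiber η) := by
    rw [hn, ← hOn, ← hmain, hdimfib cl]
    exact GrothLib.Dim.IsEmbedding.topologicalKrullDim_eq (f := fun w : (O : Set ↥(f.fiber cl)) => w.1)
      Topology.IsEmbedding.subtypeVal (S := (f.fiberι cl).base ⁻¹' (W : Set X))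
      (Subtype.range_coe.trans hW₀O.symm)
  -- the generic fibre is irreducible
  haveI : IrreducibleSpace ↥(f.fiber η) := by
    obtain ⟨a, ha⟩ := (f.range_fiberι η).ge (show ξ ∈ f ⁻¹' {η} from hξ)
    refine (irreducibleSpace_def _).mpr ?_
    show IsIrreducible (Set.univ : Set ↥(f.fiber η))
    have : closure ({a} : Set ↥(f.fiber η)) = Set.univ := Set.eq_univ_of_forall fun b => by
      rw [← specializes_iff_mem_closure, ← (f.fiberι η).isEmbedding.isInducing.specializes_iff, ha]
      exact genericPoint_specializes _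
    rw [← this]
    exact isIrreducible_singleton.closure
  obtain ⟨m, hm, hmU⟩ := @GrothLib.Dim.exists_nat_dim_irreducible ((Spec (CommRingCat.of R)).residueField η) _ (f.fiber η)
    (f.fiberToSpecResidueField η) (MorphismProperty.pullback_snd f _ inferInstance) Set.univ isClosed_univ
    (IrreducibleSpace.isIrreducible_univ ↥(f.fiber η))
  obtain ⟨a, ha⟩ := (f.range_fiberι η).ge (show ξ ∈ f ⁻¹' {η} from hξ)
  have hmW := hmU (f.fiberι η ⁻¹ᵁ W) ⟨a, trivial, show f.fiberι η a ∈ W from ha.symm ▸ hξW⟩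
  rw [hdimZ, hdimfib η]
  rw [Set.univ_inter] at hmW
  refine hmW.trans (hm.symm.trans ?_)
  exact IsHomeomorph.topologicalKrullDim_eq _ (Homeomorph.Set.univ ↥(f.fiber η)).isHomeomorph

end Groth.Agent.S7624
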