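import Groth.Statements.S9175
import Groth.Agent.Lib.FibreDimRing.QFMap
import Mathlib.RingTheory.RingHom.FiniteType


set_option autoImplicit false
universe u
open CAlg

namespace Groth.Agent.S9175

theorem main {R S : Type u} [CommRing R] [CommRing S] [Algebra R S] [Algebra.FiniteType R S] (q : Ideal S) [q.IsPrime]
    (p : Ideal R) [p.IsPrime] [q.LiesOver p] (a : S) (ha : a ∉ q) (n : ℕ)
    (hdimT : ringKrullDim (p.Fiber (Localization.Away a)) ≤ (n : WithBot ℕ∞)) :
    ∃ g : S, g ∉ q ∧ ∃ φ : MvPolynomial (Fin n) R →ₐ[R] Localization.Away g,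
      φ.toRingHom.FiniteType ∧ φ.toRingHom.QuasiFinite := by
  let T := Localization.Away a
  have hdisj : Disjoint (Submonoid.powers a : Set S) (q : Set S) := by
    rw [Set.disjoint_left]
    rintro x ⟨k, rfl⟩ hx
    exact ha (Ideal.IsPrime.mem_of_pow_mem ‹_› k hx)
  let q' : PrimeSpectrum T :=
    ⟨q.map (algebraMap S T), IsLocalization.isPrime_of_isPrime_disjoint (Submonoid.powers a) T q ‹_› hdisj⟩
  have hq' : q'.asIdeal.comap (algebraMap S T) = q :=
    IsLocalization.under_map_of_isPrime_disjoint (Submonoid.powers a) T ‹_› hdisj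
  have hp : PrimeSpectrum.comap (algebraMap R T) q' = ⟨p, inferInstance⟩ := by
    apply PrimeSpectrum.ext
    show q'.asIdeal.comap (algebraMap R T) = p
    rw [IsScalarTower.algebraMap_eq R S T, ← Ideal.comap_comap, hq']
    exact (q.over_def p).symm
  obtain ⟨φ, r, hr, hqf⟩ := GrothLib.FibreDimRing.exists_quasiFiniteAt_aeval T q' n (by rw [hp]; exact hdimT)
  obtain ⟨k, r₀, hr₀⟩ := IsLocalization.Away.surj a r
  have hassoc : Associated r (algebraMap S T r₀) :=
    ⟨((IsLocalization.Away.algebraMap_isUnit (S := T) a).pow k).unit, hr₀⟩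
  haveI := IsLocalization.Away.mul_of_associated (R := S) (S := T) (T := Localization.Away r) a r₀ r hassoc.symm
  have hg : a * r₀ ∉ q := fun hmem => by
    rcases Ideal.IsPrime.mem_or_mem ‹_› hmem with h | h
    · exact ha h
    · have h1 : algebraMap S T r₀ ∈ q'.asIdeal := Ideal.mem_map_of_mem _ h
      rw [← hr₀] at h1
      exact (q'.isPrime.mem_or_mem h1).elim hr fun h2 =>
        ha (hq' ▸ Ideal.mem_comap.2 (q'.isPrime.mem_of_pow_mem k h2))
  refine ⟨a * r₀, hg, ?_⟩
  let e : Localization.Away r ≃ₐ[R] Localization.Away (a * r₀) :=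
    ((IsLocalization.algEquiv (Submonoid.powers (a * r₀)) (Localization.Away r) (Localization.Away (a * r₀))).restrictScalars R)
  refine ⟨e.toAlgHom.comp ((IsScalarTower.toAlgHom R T (Localization.Away r)).comp φ), ?_, ?_⟩
  · refine RingHom.FiniteType.of_comp_finiteType (f := algebraMap R (MvPolynomial (Fin n) R)) ?_
    rw [AlgHom.toRingHom_eq_coe, AlgHom.comp_algebraMap]
    exact RingHom.finiteType_algebraMap.2 inferInstance
  · exact RingHom.QuasiFinite.comp (RingHom.QuasiFinite.of_finite (RingHom.Finite.of_surjective _ e.surjective)) hqf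



/-- Let R → S be of finite type, q a prime of S over p, and Q the prime of the fibre ring κ(p) ⊗ S
pulling back to q. If Spec(κ(p) ⊗ S) has local dimension n at Q (the relative dimension of S over R
at q is n), then some S_g with g ∉ q admits an R-algebra map from the polynomial ring R[t_1, …, t_n]
which is of finite type and quasi-finite. -/
theorem result (R S : Type u) [CommRing R] [CommRing S]
    [Algebra R S] [Algebra.FiniteType R S] (p : Ideal R) [p.IsPrime] (q : Ideal S) [q.IsPrime] [q.LiesOver p]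
    (Q : PrimeSpectrum (p.Fiber S))
    (hQ : Q.asIdeal.comap (Algebra.TensorProduct.includeRight.toRingHom) = q) (n : ℕ)
    (hdim : FlatMor.localDim (PrimeSpectrum (p.Fiber S)) Q = (n : WithBot ℕ∞)) :
    ∃ g : S, g ∉ q ∧ ∃ φ : MvPolynomial (Fin n) R →ₐ[R] Localization.Away g,
      φ.toRingHom.FiniteType ∧ φ.toRingHom.QuasiFinite := by
  obtain ⟨a, ha, hdimT⟩ := GrothLib.FibreDimRing.exists_away_fiber_dim_le ⟨p, inferInstance⟩ Q (n : WithBot ℕ∞) hdim.le
  rw [hQ] at ha
  exact main q p a ha n hdimT

end Groth.Agent.S9175
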