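import Groth.Statements.S7625
import Groth.Agent.S9175
import Groth.Agent.Lib.FibreDimRing.Basic
import Groth.Agent.Lib.CMMor6.Chart

set_option autoImplicit false
universe u
open CategoryTheory CategoryTheory.Limits AlgebraicGeometry
open Variety

namespace Groth.Agent.S7625

/-- Let f : X → S be locally of finite type, x a point of X with image s, V an affine open neighbourhood
of s in S, and suppose dim_x(X_s) = d. Then there is an affine open neighbourhood U of x with f(U) ⊆
V and a factorisation of f|_U as U → 𝔸^d_V → V with U → 𝔸^d_V locally quasi-finite and locally of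
finite type (hence quasi-finite, U being affine). -/
theorem result {X S : Scheme.{u}} (f : X ⟶ S) [LocallyOfFiniteType f] (x : ↥X)
    (V : S.Opens) (hV : IsAffineOpen V) (hxV : f x ∈ V) (d : ℕ) (hd : FlatMor.fibreDimAt f x = d) :
    ∃ (U : X.Opens), IsAffineOpen U ∧ x ∈ U ∧
      ∃ (g : (U : Scheme.{u}) ⟶ (V : Scheme.{u})) (π : (U : Scheme.{u}) ⟶ 𝔸(ULift.{u} (Fin d); (V : Scheme.{u}))),
        g ≫ V.ι = U.ι ≫ f ∧ π ≫ (𝔸(ULift.{u} (Fin d); (V : Scheme.{u})) ↘ (V : Scheme.{u})) = g ∧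
          LocallyQuasiFinite π ∧ LocallyOfFiniteType π := by
  obtain ⟨W, hW, hxW, hWV⟩ := exists_isAffineOpen_mem_and_subset (x := x) (U := f ⁻¹ᵁ V) hxV
  let φ := f.appLE V W hWV
  algebraize [φ.hom]
  have hft : Algebra.FiniteType Γ(S, V) Γ(X, W) :=
    HasRingHomProperty.appLE (P := @LocallyOfFiniteType) f inferInstance ⟨V, hV⟩ ⟨W, hW⟩ hWV
  have hcomm : hW.fromSpec ≫ f = Spec.map (CommRingCat.ofHom (algebraMap Γ(S, V) Γ(X, W))) ≫ hV.fromSpec :=
    (IsAffineOpen.SpecMap_appLE_fromSpec f hV hW hWV).symm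
  haveI := hW.isOpenImmersion_fromSpec
  haveI := hV.isOpenImmersion_fromSpec
  let q : PrimeSpectrum Γ(X, W) := hW.primeIdealOf ⟨x, hxW⟩
  have hq : hW.fromSpec q = x := hW.fromSpec_primeIdealOf _
  haveI : LocallyOfFiniteType (Spec.map (CommRingCat.ofHom (algebraMap Γ(S, V) Γ(X, W)))) :=
    (HasRingHomProperty.Spec_iff (P := @LocallyOfFiniteType)).2 (RingHom.finiteType_algebraMap.2 hft)
  have hdim : FlatMor.fibreDimAt (Spec.map (CommRingCat.ofHom (algebraMap Γ(S, V) Γ(X, W)))) q =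
      (d : WithBot ℕ∞) := by
    have h1 := GrothLib.CMMor6.fibreDimAt_comp_flat_lqf hW.fromSpec f q
    rw [hq, hd, hcomm] at h1
    have hsq : IsPullback (𝟙 _) (Spec.map (CommRingCat.ofHom (algebraMap Γ(S, V) Γ(X, W))))
        (Spec.map (CommRingCat.ofHom (algebraMap Γ(S, V) Γ(X, W))) ≫ hV.fromSpec) hV.fromSpec :=
      IsPullback.of_iso_pullback ⟨by rw [Category.id_comp]⟩
        (asIso (pullback.fst (Spec.map (CommRingCat.ofHom (algebraMap Γ(S, V) Γ(X, W))) ≫ hV.fromSpec) hV.fromSpec)).symm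
        (by simp) (by
          rw [← cancel_mono hV.fromSpec, Iso.symm_hom, asIso_inv, Category.assoc,
            ← pullback.condition, IsIso.inv_hom_id_assoc])
    exact (GrothLib.AlgSp.fibreDimAt_of_isPullback hsq q).trans h1
  let p : Ideal Γ(S, V) := q.asIdeal.under Γ(S, V)
  haveI : q.asIdeal.LiesOver p := ⟨rfl⟩
  let Q : PrimeSpectrum (p.Fiber Γ(X, W)) :=
    PrimeSpectrum.preimageOrderIsoFiber Γ(S, V) Γ(X, W) ⟨p, inferInstance⟩ ⟨q, rfl⟩
  have hQ : Q.asIdeal.comap (Algebra.TensorProduct.includeRight.toRingHom) = q.asIdeal :=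
    congrArg (fun v => v.1.asIdeal)
      ((PrimeSpectrum.preimageOrderIsoFiber Γ(S, V) Γ(X, W) ⟨p, inferInstance⟩).symm_apply_apply ⟨q, rfl⟩)
  rw [GrothLib.FibreDimRing.fibreDimAt_eq_localDim q p rfl Q hQ] at hdim
  obtain ⟨g, hgq, ψ, hψft, hψqf⟩ := Groth.Agent.S9175.result Γ(S, V) Γ(X, W) p q.asIdeal Q hQ d hdim
  let j : Spec (CommRingCat.of (Localization.Away g)) ⟶ X :=
    Spec.map (CommRingCat.ofHom (algebraMap Γ(X, W) (Localization.Away g))) ≫ hW.fromSpec
  haveI : IsOpenImmersion (Spec.map (CommRingCat.ofHom (algebraMap Γ(X, W) (Localization.Away g)))) :=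
    IsOpenImmersion.of_isLocalization g
  haveI : IsOpenImmersion j := inferInstance
  let e := IsOpenImmersion.isoOfRangeEq j (j.opensRange).ι (by simp)
  haveI : IsAffine (j.opensRange : Scheme.{u}) := .of_isIso e.inv
  refine ⟨j.opensRange, (inferInstance : IsAffine (j.opensRange : Scheme.{u})), ?_, ?_⟩
  · let q' : Spec (CommRingCat.of (Localization.Away g)) :=
      ((PrimeSpectrum.localization_away_comap_range (Localization.Away g) g).ge
        (show q ∈ PrimeSpectrum.basicOpen g from hgq)).choose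
    have hq' : Spec.map (CommRingCat.ofHom (algebraMap Γ(X, W) (Localization.Away g))) q' = q :=
      ((PrimeSpectrum.localization_away_comap_range (Localization.Away g) g).ge
        (show q ∈ PrimeSpectrum.basicOpen g from hgq)).choose_spec
    exact ⟨q', by rw [Scheme.Hom.comp_apply, hq', hq]⟩
  let π₀ := e.inv ≫ Spec.map (CommRingCat.ofHom ψ.toRingHom) ≫ GrothLib.CMMor6.chart hV d
  let g₀ : (j.opensRange : Scheme.{u}) ⟶ (V : Scheme.{u}) :=
    IsOpenImmersion.lift V.ι (j.opensRange.ι ≫ f) (by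
      rintro _ ⟨⟨z, hz⟩, rfl⟩
      rw [V.range_ι, Scheme.Hom.comp_apply]
      obtain ⟨w, rfl⟩ := hz
      show f (j w) ∈ V
      rw [Scheme.Hom.comp_apply]
      refine hWV ?_
      exact hW.range_fromSpec.le (Set.mem_range_self _))
  have hg₀ : g₀ ≫ V.ι = j.opensRange.ι ≫ f := IsOpenImmersion.lift_fac _ _ _
  have hπ₀ : π₀ ≫ (𝔸(ULift.{u} (Fin d); S) ↘ S) = g₀ ≫ V.ι := by
    rw [hg₀, Category.assoc, Category.assoc, GrothLib.CMMor6.chart_over, ← Spec.map_comp_assoc, ← CommRingCat.ofHom_comp]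
    have h2 : ψ.toRingHom.comp MvPolynomial.C = algebraMap Γ(S, V) (Localization.Away g) := ψ.comp_algebraMap
    rw [h2, IsScalarTower.algebraMap_eq Γ(S, V) Γ(X, W) (Localization.Away g), CommRingCat.ofHom_comp,
      Spec.map_comp, Category.assoc, ← hcomm, Iso.inv_comp_eq]
    rw [IsOpenImmersion.isoOfRangeEq_hom_fac_assoc, Category.assoc]
  haveI : LocallyQuasiFinite π₀ := by
    haveI : LocallyQuasiFinite (Spec.map (CommRingCat.ofHom ψ.toRingHom)) :=
      (HasRingHomProperty.Spec_iff (P := @LocallyQuasiFinite)).2 hψqf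
    infer_instance
  haveI : LocallyOfFiniteType π₀ := by
    haveI : LocallyOfFiniteType (Spec.map (CommRingCat.ofHom ψ.toRingHom)) :=
      (HasRingHomProperty.Spec_iff (P := @LocallyOfFiniteType)).2 hψft
    infer_instance
  let π := (AffineSpace.isPullback_map (n := ULift.{u} (Fin d)) V.ι).lift π₀ g₀ hπ₀
  have hπ : π ≫ AffineSpace.map _ V.ι = π₀ := IsPullback.lift_fst _ _ _ _
  refine ⟨g₀, π, hg₀, IsPullback.lift_snd _ _ _ _, ?_, ?_⟩
  · haveI : LocallyQuasiFinite (π ≫ AffineSpace.map _ V.ι) := by rw [hπ]; infer_instance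
    exact LocallyQuasiFinite.of_comp π (AffineSpace.map _ V.ι)
  · haveI : LocallyOfFiniteType (π ≫ AffineSpace.map _ V.ι) := by rw [hπ]; infer_instance
    exact locallyOfFiniteType_of_comp π (AffineSpace.map _ V.ι)

end Groth.Agent.S7625
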