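import Groth.Statements.S7626
import Groth.Agent.Lib.HypSep5.Basic
import Groth.Agent.Lib.ProjPic26.Relative
import Groth.Agent.Lib.RelProjK.Local

set_option autoImplicit false
universe u
open CategoryTheory CategoryTheory.Limits AlgebraicGeometry
open Variety

namespace Groth.Agent.S7626

/-- Let k be an infinite field, X a scheme of finite type over k, L a very ample invertible O_X-module
on X over k, n ≥ 0, x a k-rational point of X and x_1, …, x_n points of X with x_i ≠ x. Then there
is a global section s of L which vanishes at x (x is not in the open where s generates L) but does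
not vanish at any x_i. -/
theorem result (k : Type u) [Field k] (X : Scheme.{u}) [X.Over (Spec (CommRingCat.of k))] [Infinite k]
    [LocallyOfFiniteType (X ↘ (Spec (CommRingCat.of k)))] [QuasiCompact (X ↘ (Spec (CommRingCat.of k)))]
    (L : X.Modules) (hL : RelAmple.IsRelVeryAmplePn (X ↘ (Spec (CommRingCat.of k))) L)
    (x : ↥X) (hx : Function.Surjective (Curv2.resMap k X x)) (n : ℕ) (pts : Fin n → ↥X) (hne : ∀ i, pts i ≠ x) :
    ∃ s : Coh.structureModule X ⟶ L, x ∉ CohB1.genLocus L s ∧ ∀ i, pts i ∈ CohB1.genLocus L s :=
  GrothLib.HypSep5.exists_section_separating L (by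
    obtain ⟨m, i, -, -, ⟨d⟩⟩ := hL
    exact GrothLib.RelProjK.isInvertible_of_iso d (GrothLib.RelProjK.isInvertible_pullback i (GrothLib.ProjPic26.isInvertible_twistOver _ _ _))) hL x hx n pts hne

end Groth.Agent.S7626
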