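import Groth.Statements.S7627
import Mathlib
import Groth.Agent.Lib.AlgSp.FieldBase
import Groth.Agent.Lib.CMMor6.Mor
import Groth.Agent.Lib.CMMor6.Algebra
import Groth.Agent.Lib.AlgMisc.SmoothRank
import Groth.Agent.Lib.BaseChange.AlgClosedIn

set_option autoImplicit false
set_option backward.isDefEq.respectTransparency false
universe u
open CategoryTheory CategoryTheory.Limits AlgebraicGeometry
attribute [local instance] Curv2.resAlgebra
open scoped TensorProduct
open Variety
open Groth.Agent.Lib.AlgMisc

namespace Groth.Agent.S7627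

/-- Let X be locally of finite type over a field k, K an extension field of k, y a point of X_K with
image x in X. Assume dim O_{X, x} = dim O_{X_K, y} and that κ(x) ⊗_k K is reduced (for instance
κ(x)/k separable or K/k separable). Then m_x O_{X_K, y} = m_y. -/
theorem result (k : Type u) [Field k] (X : Scheme.{u}) [X.Over (Spec (CommRingCat.of k))] [LocallyOfFiniteType (X ↘ (Spec (CommRingCat.of k)))]
    (K : Type u) [Field K] [Algebra k K] (y : ↥(Curv2.bc k X K))
    (hdim : ringKrullDim ↥(X.presheaf.stalk (Curv2.bcFst k X K y)) = ringKrullDim ↥((Curv2.bc k X K).presheaf.stalk y))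
    (hred : _root_.IsReduced (X.residueField (Curv2.bcFst k X K y) ⊗[k] K)) :
    Ideal.map ((Curv2.bcFst k X K).stalkMap y).hom (IsLocalRing.maximalIdeal ↥(X.presheaf.stalk (Curv2.bcFst k X K y))) =
      IsLocalRing.maximalIdeal ↥((Curv2.bc k X K).presheaf.stalk y) := by
  let sX := X ↘ (Spec (CommRingCat.of k))
  let g := Spec.map (CommRingCat.ofHom (algebraMap k K))
  let f := Curv2.bcFst k X K
  let x := f y
  haveI : IsLocallyNoetherian X := LocallyOfFiniteType.isLocallyNoetherian sX
  haveI : LocallyOfFiniteType (Curv2.bcSnd k X K) :=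
    inferInstanceAs (LocallyOfFiniteType (pullback.snd sX g))
  haveI : IsLocallyNoetherian (Curv2.bc k X K) := LocallyOfFiniteType.isLocallyNoetherian (Curv2.bcSnd k X K)
  haveI : Flat f := MorphismProperty.pullback_fst _ _ (GrothLib.AlgSp.flat_to_field g)
  haveI : IsReduced (f.fiber x) := by
    let i := X.fromSpecResidueField x
    have hi : i ≫ sX = Spec.map (CommRingCat.ofHom (algebraMap k (X.residueField x))) :=
      GrothLib.BaseChange.fromSpecResidueField_over k X x
    let e : f.fiber x ≅ Spec (CommRingCat.of (X.residueField x ⊗[k] K)) :=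
      pullbackSymmetry _ _ ≪≫ pullbackRightPullbackFstIso sX g i ≪≫
        pullback.congrHom hi (rfl : g = _) ≪≫ pullbackSpecIso k (X.residueField x) K
    haveI : IsReduced (Spec (CommRingCat.of (X.residueField x ⊗[k] K))) := by
      haveI : _root_.IsReduced (X.residueField x ⊗[k] K) := hred
      infer_instance
    exact isReduced_of_isOpenImmersion e.hom
  letI := (f.stalkMap y).hom.toAlgebra
  haveI : IsLocalHom (algebraMap (X.presheaf.stalk x) ((Curv2.bc k X K).presheaf.stalk y)) :=
    inferInstanceAs (IsLocalHom (f.stalkMap y).hom)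
  haveI : Module.Flat (X.presheaf.stalk x) ((Curv2.bc k X K).presheaf.stalk y) := Flat.stalkMap f y
  have hne : (IsLocalRing.maximalIdeal (X.presheaf.stalk x)).map (f.stalkMap y).hom ≠ ⊤ :=
    fun h => (IsLocalRing.maximalIdeal.isMaximal _).ne_top
      (top_le_iff.mp (h ▸ ((IsLocalRing.local_hom_TFAE (f.stalkMap y).hom).out 0 2 rfl rfl).mp inferInstance))
  obtain ⟨e⟩ := GrothLib.CMMor6.nonempty_fibQuot_equiv f y
  haveI hR : _root_.IsReduced ((f.fiber x).presheaf.stalk (f.asFiber y)) := inferInstance
  let Q := (Curv2.bc k X K).presheaf.stalk y ⧸ (IsLocalRing.maximalIdeal (X.presheaf.stalk x)).map (f.stalkMap y).hom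
  haveI : _root_.IsReduced Q := isReduced_of_injective e.toRingHom e.injective
  haveI : Nontrivial Q := Ideal.Quotient.nontrivial_iff.mpr hne
  haveI : IsLocalRing Q := IsLocalRing.of_surjective' _ Ideal.Quotient.mk_surjective
  have h4 := GrothLib.CMMor6.ringKrullDim_eq_add (A := X.presheaf.stalk x) (B := (Curv2.bc k X K).presheaf.stalk y)
  obtain ⟨n, hn⟩ := SmoothRank.exists_dim_eq_nat (X.presheaf.stalk x)
  obtain ⟨q, hq⟩ := SmoothRank.exists_dim_eq_nat Q
  replace h4 : ((n : ℕ) : WithBot ℕ∞) = (n : WithBot ℕ∞) + q := by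
    rw [← hn, ← hq]
    exact hdim.trans h4
  have h5 : n = n + q := by exact_mod_cast h4
  haveI : Ring.KrullDimLE 0 Q := Ring.krullDimLE_iff.mpr (by rw [hq, show q = 0 by omega])
  refine IsLocalRing.eq_maximalIdeal (Ideal.Quotient.maximal_of_isField _ ?_)
  exact Ring.KrullDimLE.isField_of_isReduced (R := Q)

end Groth.Agent.S7627
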