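import Groth.Statements.S7628
import Mathlib

set_option autoImplicit false
set_option backward.isDefEq.respectTransparency false
universe u
open CategoryTheory CategoryTheory.Limits AlgebraicGeometry
open Variety

namespace Groth.Agent.S7628

open Limits in
theorem exists_chart (k : Type u) [Field k] (X : Scheme.{u}) [X.Over (Spec (CommRingCat.of k))]
    (B : CommRingCat.{u}) [Algebra k B] (ψ : Spec B ⟶ X) [IsOpenImmersion ψ]
    (hj : ψ ≫ (X ↘ Spec (CommRingCat.of k)) = Spec.map (CommRingCat.ofHom (algebraMap k B)))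
    (A : Type u) [CommRing A] [Algebra k A] :
    ∃ c : Spec (CommRingCat.of (TensorProduct k B A)) ⟶
        pullback (X ↘ Spec (CommRingCat.of k)) (Spec.map (CommRingCat.ofHom (algebraMap k A))),
      IsOpenImmersion c ∧
      c ≫ pullback.fst _ _ = Spec.map (CommRingCat.ofHom (algebraMap B (TensorProduct k B A))) ≫ ψ ∧
      c ≫ pullback.snd _ _ = Spec.map (CommRingCat.ofHom
        (Algebra.TensorProduct.includeRight : A →ₐ[k] TensorProduct k B A).toRingHom) ∧
      Set.range c = (pullback.fst (X ↘ Spec (CommRingCat.of k)) (Spec.map (CommRingCat.ofHom (algebraMap k A)))).base ⁻¹' Set.range ψ := by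
  let sX := X ↘ (Spec (CommRingCat.of k))
  let g := Spec.map (CommRingCat.ofHom (algebraMap k A))
  let m := pullback.map (ψ ≫ sX) g sX g ψ (𝟙 _) (𝟙 _) (by simp) (by simp)
  have hm : IsPullback (pullback.fst _ _) m ψ (pullback.fst sX g) :=
    (IsPullback.of_right (by simpa [m] using (IsPullback.of_hasPullback (ψ ≫ sX) g).flip)
      (by simp [m]) (IsPullback.of_hasPullback _ _).flip).flip
  haveI : IsOpenImmersion m := MorphismProperty.of_isPullback hm inferInstance
  let e := pullback.congrHom hj (rfl : g = _) ≪≫ pullbackSpecIso k B A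
  refine ⟨e.inv ≫ m, inferInstance, ?_, ?_, ?_⟩
  · simp only [Category.assoc, m, pullback.lift_fst, e, Iso.trans_inv, pullback.congrHom_inv,
      pullback.map]
    erw [pullback.lift_fst, pullback.lift_fst_assoc]
    simp only [Category.assoc, Category.id_comp]
    exact pullbackSpecIso_inv_fst_assoc k B A ψ
  · simp only [Category.assoc, m, pullback.lift_snd, e, Iso.trans_inv, pullback.congrHom_inv,
      pullback.map, Category.comp_id]
    erw [pullback.lift_snd, pullback.lift_snd]
    exact pullbackSpecIso_inv_snd k B A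
  · rw [Scheme.Hom.comp_base, TopCat.coe_comp, Set.range_comp,
      Set.range_eq_univ.mpr e.inv.surjective, Set.image_univ, Scheme.Pullback.range_map]
    simp
    rfl

/-- Let X be a scheme over a field k, A a k-algebra and V ⊆ X_A = X ×_k Spec A a quasi-compact open
subset. Then there are a finitely generated k-subalgebra A' ⊆ A and a quasi-compact open subset V' ⊆
X_{A'} such that V is the inverse image of V' under the transition morphism X_A → X_{A'} (any
morphism compatible with the projections to X and with Spec A → Spec A'; it is unique). -/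
theorem result (k : Type u) [Field k] (X : Scheme.{u}) [X.Over (Spec (CommRingCat.of k))] (A : Type u) [CommRing A] [Algebra k A]
    (V : Set ↥(pullback (X ↘ (Spec (CommRingCat.of k))) (Spec.map (CommRingCat.ofHom (algebraMap k A))))) (hV : IsOpen V) (hVc : IsCompact V) :
    ∃ (A' : Subalgebra k A), A'.FG ∧
      ∃ (V' : Set ↥(pullback (X ↘ (Spec (CommRingCat.of k))) (Spec.map (CommRingCat.ofHom (algebraMap k ↥A'))))), IsOpen V' ∧ IsCompact V' ∧
        ∀ π : pullback (X ↘ (Spec (CommRingCat.of k))) (Spec.map (CommRingCat.ofHom (algebraMap k A))) ⟶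
            pullback (X ↘ (Spec (CommRingCat.of k))) (Spec.map (CommRingCat.ofHom (algebraMap k ↥A'))),
          π ≫ pullback.fst _ _ = pullback.fst _ _ →
          π ≫ pullback.snd _ _ = pullback.snd _ _ ≫ Spec.map (CommRingCat.ofHom A'.val.toRingHom) →
            π.base ⁻¹' V' = V := by
  classical
  let sX := X ↘ (Spec (CommRingCat.of k))
  let 𝒰 := X.affineOpenCover
  let alg : ∀ i : 𝒰.I₀, Algebra k (𝒰.X i) := fun i => (Spec.preimage (𝒰.f i ≫ sX)).hom.toAlgebra
  have hj : ∀ i, 𝒰.f i ≫ sX = Spec.map (CommRingCat.ofHom (@algebraMap k (𝒰.X i) _ _ (alg i))) :=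
    fun i => (Spec.map_preimage _).symm
  choose c hco hcf hcs hcr using fun (i : 𝒰.I₀) (B : Type u) (hB : CommRing B) (hB' : Algebra k B) =>
    letI := alg i
    exists_chart k X (𝒰.X i) (𝒰.f i) (hj i) B
  let J := Σ i : 𝒰.I₀, @TensorProduct k _ (𝒰.X i) A _ _ (alg i).toModule _
  let D : J → Set ↥(pullback (X ↘ (Spec (CommRingCat.of k))) (Spec.map (CommRingCat.ofHom (algebraMap k A)))) := fun j =>
    letI := alg j.1
    c j.1 A inferInstance inferInstance '' (PrimeSpectrum.basicOpen j.2 : Set (PrimeSpectrum (TensorProduct k (𝒰.X j.1) A)))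
  have hD : ∀ j, IsOpen (D j) := fun j => by
    letI := alg j.1
    haveI := hco j.1 A inferInstance inferInstance
    exact (c j.1 A inferInstance inferInstance).isOpenEmbedding.isOpenMap _ (PrimeSpectrum.basicOpen j.2).isOpen
  obtain ⟨t, ht⟩ := hVc.elim_finite_subcover (fun j : {j : J // D j ⊆ V} => D j.1) (fun j => hD _) (by
    intro v hv
    obtain ⟨w, hw⟩ := 𝒰.openCover.covers ((pullback.fst (X ↘ (Spec (CommRingCat.of k))) _) v)
    generalize hi : 𝒰.openCover.idx ((pullback.fst (X ↘ (Spec (CommRingCat.of k))) (Spec.map (CommRingCat.ofHom (algebraMap k A)))) v) = i at w hw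
    letI := alg i
    obtain ⟨q, hq⟩ : v ∈ Set.range (c i A inferInstance inferInstance) := (hcr i A _ _).ge ⟨w, hw⟩
    obtain ⟨_, ⟨f, rfl⟩, hf, hfV⟩ := PrimeSpectrum.isTopologicalBasis_basic_opens.exists_subset_of_mem_open
      (show q ∈ (c i A inferInstance inferInstance).base ⁻¹' V by show _ ∈ V; rw [hq]; exact hv)
      (hV.preimage (c i A inferInstance inferInstance).continuous)
    exact Set.mem_iUnion.mpr ⟨⟨⟨i, f⟩, Set.image_subset_iff.mpr hfV⟩, q, hf, hq⟩)
  have hfin : ∀ (i : 𝒰.I₀) (f : @TensorProduct k _ (𝒰.X i) A _ _ (alg i).toModule _), letI := alg i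
      ∃ S : Finset A, ∀ A' : Subalgebra k A, (S : Set A) ⊆ A' → f ∈ Set.range
        (Algebra.TensorProduct.map (AlgHom.id k (𝒰.X i)) A'.val) := by
    intro i f
    letI := alg i
    induction f using TensorProduct.induction_on with
    | zero => exact ⟨∅, fun A' _ => ⟨0, map_zero _⟩⟩
    | tmul a b => exact ⟨{b}, fun A' h => ⟨a ⊗ₜ ⟨b, h (by simp)⟩, rfl⟩⟩
    | add x y hx hy =>
      obtain ⟨S, hS⟩ := hx
      obtain ⟨T, hT⟩ := hy
      refine ⟨S ∪ T, fun A' h => ?_⟩
      obtain ⟨x', rfl⟩ := hS A' (fun a ha => h (Finset.mem_union_left _ ha))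
      obtain ⟨y', rfl⟩ := hT A' (fun a ha => h (Finset.mem_union_right _ ha))
      exact ⟨x' + y', map_add _ _ _⟩
  choose S hS using hfin
  let A' : Subalgebra k A := Algebra.adjoin k ((t.biUnion fun j => S j.1.1 j.1.2 : Finset A) : Set A)
  have hlift : ∀ j : t, letI := alg j.1.1.1
      ∃ f', Algebra.TensorProduct.map (AlgHom.id k (𝒰.X j.1.1.1)) A'.val f' = j.1.1.2 := fun j =>
    hS _ _ A' fun a ha => Algebra.subset_adjoin (Finset.mem_biUnion.mpr ⟨j.1, j.2, ha⟩)
  choose f' hf' using hlift
  let D' : t → Set ↥(pullback (X ↘ (Spec (CommRingCat.of k))) (Spec.map (CommRingCat.ofHom (algebraMap k A')))) := fun j =>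
    letI := alg j.1.1.1
    c j.1.1.1 A' inferInstance inferInstance '' (PrimeSpectrum.basicOpen (f' j) : Set (PrimeSpectrum (TensorProduct k (𝒰.X j.1.1.1) A')))
  refine ⟨A', ⟨_, rfl⟩, ⋃ j, D' j, isOpen_iUnion fun j => ?_, isCompact_iUnion fun j => ?_, fun π hπ₁ hπ₂ => ?_⟩
  · letI := alg j.1.1.1
    haveI := hco j.1.1.1 A' inferInstance inferInstance
    exact (c j.1.1.1 A' inferInstance inferInstance).isOpenEmbedding.isOpenMap _ (PrimeSpectrum.basicOpen (f' j)).isOpen
  · letI := alg j.1.1.1
    exact (PrimeSpectrum.isCompact_basicOpen (f' j)).image (c j.1.1.1 A' inferInstance inferInstance).continuous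
  have key : ∀ j : t, π.base ⁻¹' D' j = D j.1.1 := by
    intro j
    letI := alg j.1.1.1
    let T := Algebra.TensorProduct.map (AlgHom.id k (𝒰.X j.1.1.1)) A'.val
    let cA := c j.1.1.1 A inferInstance inferInstance
    let cA' := c j.1.1.1 A' inferInstance inferInstance
    haveI : IsOpenImmersion cA' := hco j.1.1.1 A' _ _
    have hcomm : cA ≫ π = Spec.map (CommRingCat.ofHom T.toRingHom) ≫ cA' := by
      apply pullback.hom_ext
      · refine (Category.assoc _ _ _).trans (((congrArg (cA ≫ ·) hπ₁).trans (hcf j.1.1.1 A _ _)).trans ?_)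
        refine Eq.trans ?_ ((congrArg (_ ≫ ·) (hcf j.1.1.1 A' _ _)).symm.trans (Category.assoc _ _ _).symm)
        rw [← Spec.map_comp_assoc]
        congr 2
      · refine (Category.assoc _ _ _).trans (((congrArg (cA ≫ ·) hπ₂).trans
          ((Category.assoc _ _ _).symm.trans (congrArg (· ≫ _) (hcs j.1.1.1 A _ _)))).trans ?_)
        refine Eq.trans ?_ ((congrArg (_ ≫ ·) (hcs j.1.1.1 A' _ _)).symm.trans (Category.assoc _ _ _).symm)
        rw [← Spec.map_comp, ← Spec.map_comp]
        congr 1
    ext z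
    constructor
    · rintro ⟨q', hq', hq'z⟩
      have hz : z ∈ Set.range cA := (hcr j.1.1.1 A _ _).ge (by
        show (pullback.fst (X ↘ Spec (CommRingCat.of k)) (Spec.map (CommRingCat.ofHom (algebraMap k A)))) z ∈ Set.range (𝒰.f j.1.1.1)
        rw [← hπ₁, Scheme.Hom.comp_apply, ← hq'z]
        exact (hcr j.1.1.1 A' _ _).le ⟨q', rfl⟩)
      obtain ⟨q, rfl⟩ := hz
      refine ⟨q, ?_, rfl⟩
      have : Spec.map (CommRingCat.ofHom T.toRingHom) q = q' :=
        cA'.isOpenEmbedding.injective (((congrArg (fun h => h q) hcomm).symm).trans hq'z.symm)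
      subst this
      intro h
      refine hq' ?_
      show T (f' j) ∈ q.asIdeal
      rw [hf' j]
      exact h
    · rintro ⟨q, hq, rfl⟩
      refine ⟨Spec.map (CommRingCat.ofHom T.toRingHom) q, ?_, ((congrArg (fun h => h q) hcomm)).symm⟩
      intro h
      refine hq ?_
      have h' : T (f' j) ∈ q.asIdeal := h
      rwa [hf' j] at h'
  rw [Set.preimage_iUnion]
  simp only [key]
  refine Set.Subset.antisymm (Set.iUnion_subset fun j => j.1.2) fun v hv => ?_
  obtain ⟨j, hj, hvj⟩ := Set.mem_iUnion₂.mp (ht hv)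
  exact Set.mem_iUnion.mpr ⟨⟨j, hj⟩, hvj⟩

end Groth.Agent.S7628
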