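import Groth.Statements.S7629
import Groth.Agent.Lib.SpreadOut.Basic
import Groth.Agent.Lib.AlgMisc.GeomRedAt
import Mathlib

set_option autoImplicit false
set_option backward.isDefEq.respectTransparency false
universe u
open CategoryTheory CategoryTheory.Limits AlgebraicGeometry
open Variety
open Groth.Agent.Lib.AlgMisc

namespace Groth.Agent.S7629

/-- One half: where `g ∘ f` is the identity near the generic point. -/
theorem exists_half {S X Y : Scheme.{u}} [IsIntegral X] [IsIntegral Y] (sX : X ⟶ S) (sY : Y ⟶ S)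
    [LocallyOfFiniteType sX] (φ : Y.functionField ⟶ X.functionField) (ψ : X.functionField ⟶ Y.functionField)
    (hφψ : ψ ≫ φ = 𝟙 _) (U : X.Opens) (hU : genericPoint X ∈ U) (V : Y.Opens) (hV : genericPoint Y ∈ V)
    (f : (U : Scheme.{u}) ⟶ Y) (g : (V : Scheme.{u}) ⟶ X) (hf : f ≫ sY = U.ι ≫ sX) (hg : g ≫ sX = V.ι ≫ sY)
    (hfη : Spec.map φ ≫ Y.fromSpecStalk _ = U.fromSpecStalkOfMem _ hU ≫ f)
    (hgη : Spec.map ψ ≫ X.fromSpecStalk _ = V.fromSpecStalkOfMem _ hV ≫ g) :
    ∃ (A : Scheme.{u}) (a : A ⟶ U) (a' : A ⟶ V) (_ : IsOpenImmersion a) (p : A),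
      a' ≫ V.ι = a ≫ f ∧ a' ≫ g = a ≫ U.ι ∧ (a p).1 = genericPoint X ∧ (a' p).1 = genericPoint Y := by
  have hcp : f ⟨genericPoint X, hU⟩ = genericPoint Y := by
    have h := congrArg (fun m : Spec X.functionField ⟶ Y => m (IsLocalRing.closedPoint X.functionField)) hfη
    simp only [Scheme.Hom.comp_apply] at h
    rw [show Spec.map φ (IsLocalRing.closedPoint X.functionField) = IsLocalRing.closedPoint Y.functionField
      from (inferInstance : Subsingleton (PrimeSpectrum Y.functionField)).elim _ _] at h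
    rw [show U.fromSpecStalkOfMem _ hU (IsLocalRing.closedPoint X.functionField) = ⟨genericPoint X, hU⟩ from
      U.ι.isOpenEmbedding.injective (by
        rw [← Scheme.Hom.comp_apply, Scheme.Opens.fromSpecStalkOfMem_ι]
        exact X.fromSpecStalk_closedPoint)] at h
    exact h.symm.trans Y.fromSpecStalk_closedPoint
  let W := f ⁻¹ᵁ V
  let w : W := ⟨⟨genericPoint X, hU⟩, by show f _ ∈ V; rw [hcp]; exact hV⟩
  let j : W.toScheme ⟶ X := W.ι ≫ U.ι
  let κ : Spec X.functionField ⟶ W.toScheme := Spec.map (inv (j.stalkMap w)) ≫ W.toScheme.fromSpecStalk w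
  have hκ : κ ≫ j = X.fromSpecStalk (genericPoint X) := by
    simp only [κ, Category.assoc, ← Scheme.SpecMap_stalkMap_fromSpecStalk, Spec.map_inv]
    rw [IsIso.inv_hom_id_assoc]
    rfl
  have hκ' : κ ≫ W.ι = U.fromSpecStalkOfMem _ hU := by
    rw [← cancel_mono U.ι, Category.assoc, Scheme.Opens.fromSpecStalkOfMem_ι]
    exact hκ
  have hκf : κ ≫ (f ∣_ V) = Spec.map φ ≫ V.fromSpecStalkOfMem _ hV := by
    rw [← cancel_mono V.ι, Category.assoc, morphismRestrict_ι, ← Category.assoc, hκ', Category.assoc,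
      Scheme.Opens.fromSpecStalkOfMem_ι]
    exact hfη.symm
  obtain ⟨A, hwA, hA⟩ := GrothLib.SpreadOut.spread_out_unique' sX ((f ∣_ V) ≫ g) j
    (by simp only [j, W, Category.assoc, hg, morphismRestrict_ι_assoc, hf]) (x := w) (by
    rw [← cancel_epi (Spec.map (inv (j.stalkMap w)))]
    show _ = _
    refine ((Category.assoc _ _ _).symm.trans ?_).trans (Category.assoc _ _ _)
    show κ ≫ (f ∣_ V) ≫ g = κ ≫ j
    rw [hκ, reassoc_of% hκf, ← hgη, ← Spec.map_comp_assoc, hφψ, Spec.map_id, Category.id_comp])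
  refine ⟨A, A.ι ≫ W.ι, A.ι ≫ (f ∣_ V), inferInstance, ⟨w, hwA⟩, ?_, ?_, rfl, ?_⟩
  · simp [W]
  · rw [Category.assoc, hA]
    simp [j]
  · show V.ι ((f ∣_ V) w) = _
    rw [← Scheme.Hom.comp_apply, morphismRestrict_ι]
    exact hcp

/-- (2) ⇒ (3): let X and Y be varieties over a field k (integral, separated, of finite type) and suppose
the function fields k(X) and k(Y) are isomorphic as k-algebras. Then there are nonempty open
subschemes U ⊆ X and V ⊆ Y which are isomorphic as schemes over k. -/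
theorem result (k : Type u) [Field k] (X : Scheme.{u}) [X.Over (Spec (CommRingCat.of k))] [IsIntegral X] [IsSeparated (X ↘ (Spec (CommRingCat.of k)))] [LocallyOfFiniteType (X ↘ (Spec (CommRingCat.of k)))] [QuasiCompact (X ↘ (Spec (CommRingCat.of k)))]
    (Y : Scheme.{u}) [Y.Over (Spec (CommRingCat.of k))] [IsIntegral Y] [IsSeparated (Y ↘ (Spec (CommRingCat.of k)))] [LocallyOfFiniteType (Y ↘ (Spec (CommRingCat.of k)))] [QuasiCompact (Y ↘ (Spec (CommRingCat.of k)))]
    (e : X.functionField ≅ Y.functionField)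
    (he : e.hom.hom.comp (Curv2.stalkMap k X (genericPoint X)) = Curv2.stalkMap k Y (genericPoint Y)) :
    ∃ (U : X.Opens) (V : Y.Opens), (U : Set ↥X).Nonempty ∧
      ∃ φ : (U : Scheme.{u}) ≅ (V : Scheme.{u}), φ.hom ≫ V.ι ≫ (Y ↘ (Spec (CommRingCat.of k))) = U.ι ≫ (X ↘ (Spec (CommRingCat.of k))) := by
  have hφh : e.inv ≫ e.hom = 𝟙 _ := e.inv_hom_id
  let sX := X ↘ (Spec (CommRingCat.of k))
  let sY := Y ↘ (Spec (CommRingCat.of k))
  have he' : CommRingCat.ofHom (Curv2.stalkMap k X (genericPoint X)) ≫ e.hom =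
      CommRingCat.ofHom (Curv2.stalkMap k Y (genericPoint Y)) := CommRingCat.hom_ext he
  have hX : X.fromSpecStalk (genericPoint X) ≫ sX = Spec.map (CommRingCat.ofHom (Curv2.stalkMap k X _)) :=
    GeomRedAt.fromSpecStalk_over k X _
  have hY : Y.fromSpecStalk (genericPoint Y) ≫ sY = Spec.map (CommRingCat.ofHom (Curv2.stalkMap k Y _)) :=
    GeomRedAt.fromSpecStalk_over k Y _
  obtain ⟨U, hU, f, hfη, hf⟩ := spread_out_of_isGermInjective' sX sY (x := genericPoint X)
    (Spec.map e.inv ≫ Y.fromSpecStalk (genericPoint Y)) (by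
      rw [Category.assoc, hY, hX, ← Spec.map_comp, ← he', Category.assoc, e.hom_inv_id]; exact congrArg Spec.map (Category.comp_id _))
  obtain ⟨V, hV, g, hgη, hg⟩ := spread_out_of_isGermInjective' sY sX (x := genericPoint Y)
    (Spec.map e.hom ≫ X.fromSpecStalk (genericPoint X)) (by
      rw [Category.assoc, hY, hX, ← Spec.map_comp, ← he'])
  obtain ⟨A, a, a', _, p, ha₁, ha₂, hp, hp'⟩ := exists_half sX sY e.inv e.hom e.hom_inv_id U hU V hV f g hf hg hfη hgη
  obtain ⟨B, b, b', _, q, hb₁, hb₂, hq, hq'⟩ := exists_half sY sX e.hom e.inv e.inv_hom_id V hV U hU g f hg hf hgη hfη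
  have c₁ : pullback.snd a' b ≫ b' = pullback.fst a' b ≫ a := by
    rw [← cancel_mono U.ι, Category.assoc, Category.assoc, hb₁, ← pullback.condition_assoc, ha₂]
  have c₂ : pullback.snd b' a ≫ a' = pullback.fst b' a ≫ b := by
    rw [← cancel_mono V.ι, Category.assoc, Category.assoc, ha₁, ← pullback.condition_assoc, hb₂]
  let ι : pullback a' b ≅ pullback b' a :=
    { hom := pullback.lift (pullback.snd _ _) (pullback.fst _ _) c₁
      inv := pullback.lift (pullback.snd _ _) (pullback.fst _ _) c₂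
      hom_inv_id := by apply pullback.hom_ext <;> simp
      inv_hom_id := by apply pullback.hom_ext <;> simp }
  let jX := pullback.fst a' b ≫ a ≫ U.ι
  let jY := pullback.fst b' a ≫ b ≫ V.ι
  refine ⟨jX.opensRange, jY.opensRange, ?_, jX.isoOpensRange.symm ≪≫ ι ≪≫ jY.isoOpensRange, ?_⟩
  · obtain ⟨z, -, -⟩ := Scheme.Pullback.exists_preimage_pullback (f := a') (g := b) p q
      (V.ι.isOpenEmbedding.injective (hp'.trans hq.symm))
    exact ⟨_, z, rfl⟩
  · rw [← cancel_epi jX.isoOpensRange.hom]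
    simp only [Iso.trans_hom, Iso.symm_hom, Category.assoc, Iso.hom_inv_id_assoc,
      Scheme.Hom.isoOpensRange_hom_ι_assoc, jX, jY]
    simp only [ι, pullback.lift_fst_assoc]
    rw [← pullback.condition_assoc, reassoc_of% ha₁, hf]

end Groth.Agent.S7629
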