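import Groth.Prelude
import Groth.Agent.Lib.AmpSpread10.FieldDescent

set_option autoImplicit false
universe u
open CategoryTheory CategoryTheory.Limits AlgebraicGeometry
namespace Variety
end Variety
open Variety

namespace Groth.Agent.S7630

/-- Let X be a scheme over a field k and K an extension field of k. If X_K → Spec K is quasi-projective
(of finite type and admitting a relatively ample invertible module), then so is X → Spec k. -/
theorem result (k : Type u) [Field k] (X : Scheme.{u}) [X.Over (Spec (CommRingCat.of k))] (K : Type u) [Field K] [Algebra k K]
    (h : RelProj.IsQuasiProjective (Curv2.bcSnd k X K)) : RelProj.IsQuasiProjective (X ↘ (Spec (CommRingCat.of k))) := GrothLib.AmpSpread10.isQuasiProjective_of_field _ _ h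

end Groth.Agent.S7630
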