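import Groth.Statements.S7631
import Groth.Agent.Lib.AlgSp.SchImage
import Groth.Agent.Lib.AlgSp.FieldBase

set_option autoImplicit false
universe u
open CategoryTheory CategoryTheory.Limits AlgebraicGeometry
open Variety

namespace Groth.Agent.S7631

lemma isSTD_toImage {A B : Scheme.{u}} (g : A ⟶ B) [QuasiCompact g] : IsSchemeTheoreticallyDominant g.toImage := by
  refine ⟨Scheme.IdealSheafData.ext_of_iSup_eq_top (fun U : B.affineOpens => ⟨_, U.2.preimage g.imageι⟩)
    (top_le_iff.1 fun x _ => ?_) fun U => ?_⟩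
  · obtain ⟨O, hO, hx, -⟩ := exists_isAffineOpen_mem_and_subset (U := (⊤ : B.Opens)) (x := g.imageι x) trivial
    exact TopologicalSpace.Opens.mem_iSup.2 ⟨⟨O, hO⟩, hx⟩
  · rw [Scheme.Hom.ker_apply, Scheme.IdealSheafData.ideal_bot, Pi.bot_apply,
      ← RingHom.injective_iff_ker_eq_bot]
    exact g.toImage_app_injective U

lemma map_comap_closedImmersion {P Q : Scheme.{u}} (j : P ⟶ Q) [IsClosedImmersion j] (I : Q.IdealSheafData) :
    (I.comap j).map j = I ⊔ j.ker := by
  refine le_antisymm ?_ (sup_le (Scheme.IdealSheafData.le_map_comap _ _) ?_)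
  · let K := I ⊔ j.ker
    let t := IsClosedImmersion.lift j K.subschemeι (by rw [Scheme.IdealSheafData.ker_subschemeι]; exact le_sup_right)
    have ht : t ≫ j = K.subschemeι := IsClosedImmersion.lift_fac _ _ _
    have hK : t.ker.map j = K := by rw [← Scheme.Hom.ker_comp, ht, Scheme.IdealSheafData.ker_subschemeι]
    calc (I.comap j).map j ≤ t.ker.map j :=
          Scheme.IdealSheafData.map_mono j (Scheme.IdealSheafData.le_map_iff_comap_le.1 (le_sup_left.trans hK.ge))
      _ = K := hK
  · rw [← Scheme.IdealSheafData.map_bot j]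
    exact Scheme.IdealSheafData.map_mono j bot_le
lemma key {S A B X Y : Scheme.{u}} (pA : A ⟶ S) (pB : B ⟶ S) (pX : X ⟶ S) (pY : Y ⟶ S) (f : A ⟶ X) (g : B ⟶ Y)
    [QuasiCompact f] [QuasiCompact g] (hf : f ≫ pX = pA) (hg : g ≫ pY = pB)
    (hflat : ∀ {T : Scheme.{u}} (t : T ⟶ S), Flat t)
    (F : pullback pA pB ⟶ pullback pX pY) (hF₁ : F ≫ pullback.fst pX pY = pullback.fst pA pB ≫ f)
    (hF₂ : F ≫ pullback.snd pX pY = pullback.snd pA pB ≫ g) :
    F.ker = f.ker.comap (pullback.fst pX pY) ⊔ g.ker.comap (pullback.snd pX pY) := by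
  haveI := hflat pA
  haveI := hflat pX
  let j : pullback pX (g.imageι ≫ pY) ⟶ pullback pX pY :=
    pullback.map pX (g.imageι ≫ pY) pX pY (𝟙 X) g.imageι (𝟙 S) (by simp) (by simp)
  have j1 : j ≫ pullback.fst pX pY = pullback.fst pX (g.imageι ≫ pY) := by exact (pullback.lift_fst _ _ _).trans (by simp)
  have j2 : j ≫ pullback.snd pX pY = pullback.snd pX (g.imageι ≫ pY) ≫ g.imageι := by exact (pullback.lift_snd _ _ _).trans (by simp)
  have sqj : IsPullback (pullback.snd pX (g.imageι ≫ pY)) j g.imageι (pullback.snd pX pY) := by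
    refine (IsPullback.of_right ?_ j2 (IsPullback.of_hasPullback pX pY)).flip
    rw [j1]; exact IsPullback.of_hasPullback pX (g.imageι ≫ pY)
  haveI : IsClosedImmersion j := MorphismProperty.of_isPullback sqj inferInstance
  have hjker : j.ker = g.ker.comap (pullback.snd pX pY) := by
    rw [GrothLib.AlgSp.ker_comap_of_flat sqj]
    congr 1
    exact g.ker.ker_subschemeι
  let c : pullback pA pB ⟶ pullback pA (g.imageι ≫ pY) :=
    pullback.map pA pB pA (g.imageι ≫ pY) (𝟙 A) g.toImage (𝟙 S) (by simp) (by simp [hg])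
  have c1 : c ≫ pullback.fst pA (g.imageι ≫ pY) = pullback.fst pA pB := by exact (pullback.lift_fst _ _ _).trans (by simp)
  have c2 : c ≫ pullback.snd pA (g.imageι ≫ pY) = pullback.snd pA pB ≫ g.toImage := by exact (pullback.lift_snd _ _ _).trans (by simp)
  let d : pullback pA (g.imageι ≫ pY) ⟶ pullback pX (g.imageι ≫ pY) :=
    pullback.map pA (g.imageι ≫ pY) pX (g.imageι ≫ pY) f (𝟙 g.image) (𝟙 S) (by simp [hf]) (by simp)
  have d1 : d ≫ pullback.fst pX (g.imageι ≫ pY) = pullback.fst pA (g.imageι ≫ pY) ≫ f := by exact (pullback.lift_fst _ _ _).trans (by simp)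
  have d2 : d ≫ pullback.snd pX (g.imageι ≫ pY) = pullback.snd pA (g.imageι ≫ pY) := by exact (pullback.lift_snd _ _ _).trans (by simp)
  have hF : F = (c ≫ d) ≫ j := by
    apply pullback.hom_ext
    · rw [hF₁, Category.assoc, Category.assoc, j1, d1, reassoc_of% c1]
    · rw [hF₂, Category.assoc, Category.assoc, j2, reassoc_of% d2, reassoc_of% c2, g.toImage_imageι]
  haveI : IsSchemeTheoreticallyDominant g.toImage := isSTD_toImage g
  have sqc : IsPullback (pullback.snd pA pB) c g.toImage (pullback.snd pA (g.imageι ≫ pY)) := by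
    refine (IsPullback.of_right ?_ c2 (IsPullback.of_hasPullback pA (g.imageι ≫ pY))).flip
    rw [c1, g.toImage_imageι_assoc, hg]
    exact IsPullback.of_hasPullback pA pB
  haveI : Flat (pullback.snd pA (g.imageι ≫ pY)) := inferInstance
  haveI : IsSchemeTheoreticallyDominant c := IsSchemeTheoreticallyDominant.of_isPullback sqc
  have sqd : IsPullback (pullback.fst pA (g.imageι ≫ pY)) d f (pullback.fst pX (g.imageι ≫ pY)) := by
    refine (IsPullback.of_right ?_ d1 (IsPullback.of_hasPullback pX (g.imageι ≫ pY)).flip).flip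
    rw [d2, hf]
    exact (IsPullback.of_hasPullback pA (g.imageι ≫ pY)).flip
  haveI := hflat (g.imageι ≫ pY)
  have hd : d.ker = f.ker.comap (j ≫ pullback.fst pX pY) := by
    rw [GrothLib.AlgSp.ker_comap_of_flat sqd, j1]
  rw [hF, Scheme.Hom.ker_comp, Scheme.Hom.ker_comp, Scheme.Hom.ker_eq_bot c, Scheme.IdealSheafData.map_bot, hd,
    Scheme.IdealSheafData.comap_comp, map_comap_closedImmersion, hjker]

/-- Let f : A → X and g : B → Y be quasi-compact morphisms of schemes over a field k and F = f × g : A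
×_k B → X ×_k Y. Then the scheme-theoretic image of F is Z ×_k Z', where Z ⊆ X and Z' ⊆ Y are the
scheme-theoretic images of f and g: in terms of kernel ideal sheaves, ker F is the sum of the
pullback of ker f along the first projection and of ker g along the second. -/
theorem result (k : Type u) [Field k] (X : Scheme.{u}) [X.Over (Spec (CommRingCat.of k))] (Y : Scheme.{u}) [Y.Over (Spec (CommRingCat.of k))]
    (A B : Scheme.{u}) [A.Over (Spec (CommRingCat.of k))] [B.Over (Spec (CommRingCat.of k))]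
    (f : A ⟶ X) [f.IsOver (Spec (CommRingCat.of k))] [QuasiCompact f] (g : B ⟶ Y) [g.IsOver (Spec (CommRingCat.of k))] [QuasiCompact g]
    (F : pullback (A ↘ (Spec (CommRingCat.of k))) (B ↘ (Spec (CommRingCat.of k))) ⟶ pullback (X ↘ (Spec (CommRingCat.of k))) (Y ↘ (Spec (CommRingCat.of k))))
    (hF₁ : F ≫ pullback.fst (X ↘ (Spec (CommRingCat.of k))) (Y ↘ (Spec (CommRingCat.of k))) = pullback.fst (A ↘ (Spec (CommRingCat.of k))) (B ↘ (Spec (CommRingCat.of k))) ≫ f)
    (hF₂ : F ≫ pullback.snd (X ↘ (Spec (CommRingCat.of k))) (Y ↘ (Spec (CommRingCat.of k))) = pullback.snd (A ↘ (Spec (CommRingCat.of k))) (B ↘ (Spec (CommRingCat.of k))) ≫ g) :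
    F.ker = f.ker.comap (pullback.fst (X ↘ (Spec (CommRingCat.of k))) (Y ↘ (Spec (CommRingCat.of k)))) ⊔ g.ker.comap (pullback.snd (X ↘ (Spec (CommRingCat.of k))) (Y ↘ (Spec (CommRingCat.of k)))) := by
  exact key _ _ _ _ f g (comp_over f _) (comp_over g _) (fun t => GrothLib.AlgSp.flat_to_field t) F hF₁ hF₂

end Groth.Agent.S7631
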