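import Groth.Statements.S7634
import Mathlib
import Groth.Agent.S7619
import Groth.Agent.Lib.JacLocus.Basic

set_option autoImplicit false
universe u
open CategoryTheory CategoryTheory.Limits AlgebraicGeometry
open scoped TensorProduct
open Variety

namespace Groth.Agent.S7634

theorem mvPolynomial_standardSmooth (A : Type u) [CommRing A] (r : ℕ) :
    Algebra.IsStandardSmoothOfRelativeDimension r A (MvPolynomial (Fin r) A) := by
  let v : Fin 0 → MvPolynomial (Fin r) A := finZeroElim
  have h := GrothLib.JacLocus.isStandardSmooth_localization v finZeroElim (fun i => i.elim0)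
  rw [Nat.sub_zero] at h
  let Q := MvPolynomial (Fin r) A ⧸ Ideal.span (Set.range v)
  have h1 : (Matrix.of fun i j => MvPolynomial.pderiv ((finZeroElim : Fin 0 → Fin r) i) (v j)).det = 1 :=
    Matrix.det_fin_zero
  rw [h1, map_one] at h
  haveI := h
  have hb : Ideal.span (Set.range v) = ⊥ := by simp
  exact Algebra.IsStandardSmoothOfRelativeDimension.of_algEquiv r
    (((IsLocalization.atOne Q (Localization.Away (1 : Q))).restrictScalars A).symm.trans
      ((Ideal.quotientEquivAlgOfEq A hb).trans (AlgEquiv.quotientBot A _)))

/-- Let A → B be a finite type ring map, q a prime of B and r = dim_{κ(q)} Ω_{B/A} ⊗_B κ(q). Then there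
are g in B with g not in q, an A-algebra D which is standard smooth of relative dimension r over A,
and a surjective A-algebra homomorphism D → B[1/g]; that is, the principal open D(g) containing q is
a closed subscheme of Spec D with D smooth of relative dimension r over A. (The published statement
is for a morphism X → S locally of finite type, a point x and an affine open V ⊆ S under it, and
gives an affine open neighbourhood of x with a closed immersion over V into a scheme smooth of
relative dimension r over V; this row states the case X = Spec B, S = Spec A, with the neighbourhood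
a principal open D(g) and the smooth scheme standard smooth.) -/
theorem result (A B : Type u) [CommRing A] [CommRing B] [Algebra A B] [Algebra.FiniteType A B]
    (q : Ideal B) [q.IsPrime] (r : ℕ) (hr : Module.finrank q.ResidueField (q.ResidueField ⊗[B] Ω[B⁄A]) = r) :
    ∃ g : B, g ∉ q ∧ ∃ (D : Type u) (_ : CommRing D) (_ : Algebra A D),
      Algebra.IsStandardSmoothOfRelativeDimension r A D ∧
        ∃ φ : D →ₐ[A] Localization.Away g, Function.Surjective φ := by
  obtain ⟨π, hπ⟩ := Groth.Agent.S7619.result A B q r hr
  letI := π.toRingHom.toAlgebra
  haveI : IsScalarTower A (MvPolynomial (Fin r) A) B := .of_algebraMap_eq fun a => (π.commutes a).symm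
  haveI : Algebra.FiniteType (MvPolynomial (Fin r) A) B := .of_restrictScalars_finiteType A _ _
  haveI : Algebra.IsUnramifiedAt (MvPolynomial (Fin r) A) q := hπ
  obtain ⟨g, hg, P, φ, hφ⟩ := Algebra.IsUnramifiedAt.exists_hasStandardEtaleSurjectionOn (R := MvPolynomial (Fin r) A) q
  letI : Algebra A P.Ring := ((algebraMap (MvPolynomial (Fin r) A) P.Ring).comp (algebraMap A _)).toAlgebra
  haveI : IsScalarTower A (MvPolynomial (Fin r) A) P.Ring := .of_algebraMap_eq fun _ => rfl
  haveI := mvPolynomial_standardSmooth A r
  haveI : Algebra.IsStandardSmoothOfRelativeDimension 0 (MvPolynomial (Fin r) A) P.Ring :=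
    Algebra.Etale.iff_isStandardSmoothOfRelativeDimension_zero.mp inferInstance
  haveI : IsScalarTower A (MvPolynomial (Fin r) A) (Localization.Away g) := .to₁₂₄ _ _ B _
  refine ⟨g, hg, P.Ring, inferInstance, inferInstance, ?_, φ.restrictScalars A, hφ⟩
  simpa using Algebra.IsStandardSmoothOfRelativeDimension.trans r 0 A (MvPolynomial (Fin r) A) P.Ring

end Groth.Agent.S7634
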