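import Groth.Statements.S7635
import Groth.Agent.Lib.KunExt22.Kunneth

set_option autoImplicit false
universe u
open CategoryTheory CategoryTheory.Limits AlgebraicGeometry
open scoped TensorProduct
open Variety

namespace Groth.Agent.S7635

/-- Let X and Y be quasi-compact schemes over a field k whose diagonal morphisms over k are affine (for
instance X and Y separated over k), F a quasi-coherent O_X-module and G a quasi-coherent O_Y-module.
Then for every n ≥ 0 the k-vector space H^n(X ×_k Y, pr_1^*F ⊗ pr_2^*G) is isomorphic to ⊕_{p+q=n}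
H^p(X, F) ⊗_k H^q(Y, G). (The published statement asserts that the canonical map built from
pullbacks and cup products is an isomorphism; this row asserts only that some k-linear isomorphism
exists.) -/
theorem result (k : Type u) [Field k] (X : Scheme.{u}) [X.Over (Spec (CommRingCat.of k))] [CompactSpace ↥X] [IsAffineHom (pullback.diagonal (X ↘ (Spec (CommRingCat.of k))))]
    (Y : Scheme.{u}) [Y.Over (Spec (CommRingCat.of k))] [CompactSpace ↥Y] [IsAffineHom (pullback.diagonal (Y ↘ (Spec (CommRingCat.of k))))]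
    (F : X.Modules) (hF : Coh.IsQCoh F) (G : Y.Modules) (hG : Coh.IsQCoh G) (n : ℕ) :
    letI : (pullback (X ↘ (Spec (CommRingCat.of k))) (Y ↘ (Spec (CommRingCat.of k)))).Over (Spec (CommRingCat.of k)) := ⟨pullback.fst (X ↘ (Spec (CommRingCat.of k))) (Y ↘ (Spec (CommRingCat.of k))) ≫ (X ↘ (Spec (CommRingCat.of k)))⟩
    Nonempty ((Π p : Fin (n + 1), Coh.HH X F (p : ℕ) ⊗[k] Coh.HH Y G (n - (p : ℕ))) ≃ₗ[k]
      Coh.HH (pullback (X ↘ (Spec (CommRingCat.of k))) (Y ↘ (Spec (CommRingCat.of k)))) (CohB1.tensorMod ((Scheme.Modules.pullback (pullback.fst (X ↘ (Spec (CommRingCat.of k))) (Y ↘ (Spec (CommRingCat.of k))))).obj F)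
        ((Scheme.Modules.pullback (pullback.snd (X ↘ (Spec (CommRingCat.of k))) (Y ↘ (Spec (CommRingCat.of k))))).obj G)) n) := by
  let f₁ := X ↘ (Spec (CommRingCat.of k))
  let f₂ := Y ↘ (Spec (CommRingCat.of k))
  haveI : QuasiCompact f₁ := (quasiCompact_iff_compactSpace f₁).2 ‹_›
  haveI : QuasiCompact f₂ := (quasiCompact_iff_compactSpace f₂).2 ‹_›
  obtain ⟨e⟩ := GrothLib.KunExt22.nonempty_kunneth (f₁ := f₁) (f₂ := f₂)
    (IsPullback.of_hasPullback f₁ f₂).flip F hF (fun V _ => inferInstance) G hG (fun p => by infer_instance) n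
    (κ := Fin (n + 1)) (fun p => (p : ℕ)) (fun p => n - (p : ℕ))
    (fun p => by have := p.isLt; omega) (fun p q h => Fin.ext h)
    (fun i j h => ⟨⟨i, by omega⟩, rfl⟩)
  exact ⟨e⟩

end Groth.Agent.S7635
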