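import Groth.Statements.S7636
import Groth.Agent.Lib.Hilb20.FieldExt
import Groth.Agent.Lib.Ample.RelAmple

set_option autoImplicit false
set_option backward.isDefEq.respectTransparency false
universe u
open CategoryTheory CategoryTheory.Limits AlgebraicGeometry
open Variety

namespace Groth.Agent.S7636

/-- Let X be proper of dimension at most one over a field k, let k' be a field extension of k and let E
be a finite locally free module of rank n on X. Then the degree of the pullback of E to the base
change X_{k'}, computed over k', equals the degree of E over k. -/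
theorem result (k : Type u) [Field k] (X : Scheme.{u}) [X.Over (Spec (CommRingCat.of k))] [IsProper (X ↘ (Spec (CommRingCat.of k)))]
    (hdim : topologicalKrullDim X ≤ 1) (k' : Type u) [Field k'] [Algebra k k']
    (n : ℕ) (E : X.Modules) (hE : FlatMod.IsFinLocFreeOfRank n E) :
    @Curv2.deg k' _ (Curv2.bc k X k') ⟨Curv2.bcSnd k X k'⟩
        ((Scheme.Modules.pullback (Curv2.bcFst k X k')).obj E) n = Curv2.deg k X E n := by
  haveI := GrothLib.Hilb20.isProper_bc (X := X) k k'
  haveI : E.IsQuasicoherent := GrothLib.Euler.isQuasicoherent_of_isFinLocFree (GrothLib.FinCov.isFinLocFree_of_rank hE)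
  haveI : (Coh.structureModule X).IsQuasicoherent := GrothLib.Cohom.isQuasicoherent_structureModule X
  unfold Curv2.deg
  show Curv2.euler k' (Curv2.bc k X k') _ - _ * Curv2.euler k' (Curv2.bc k X k') _ = _
  rw [← GrothLib.Euler.euler_of_iso k' (GrothLib.Ample.nonempty_pullback_structureModule (Curv2.bcFst k X k')).some,
    GrothLib.Hilb20.euler_bc k k' E, GrothLib.Hilb20.euler_bc k k' (Coh.structureModule X)]

end Groth.Agent.S7636
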