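import Groth.Statements.S7641
import Groth.Agent.Lib.Euler.AmpleCurve
import Groth.Agent.Lib.CurvePI4.Chart
-- import your own Groth.Agent.* helpers here

set_option autoImplicit false
universe u
open CategoryTheory CategoryTheory.Limits AlgebraicGeometry
open Variety

set_option backward.isDefEq.respectTransparency false

namespace Groth.Agent.S7641

/-- Let X be proper over a field k, reduced and connected, with every irreducible component of dimension
one, and let L be an invertible module whose restriction to each irreducible component C, with its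
reduced induced structure, has degree at most zero. Then H^0(X, L) = 0 or L is isomorphic to O_X. -/
theorem result (k : Type u) [Field k] (X : Scheme.{u}) [X.Over (Spec (CommRingCat.of k))] [IsProper (X ↘ (Spec (CommRingCat.of k)))]
    [IsReduced X] [ConnectedSpace X] [IsNoetherian X]
    (hdim : ∀ (C : Set X), C ∈ irreducibleComponents (X : Type u) → topologicalKrullDim C = 1)
    (L : X.Modules) (hL : PicF.IsInvertible L)
    (hdeg : ∀ (C : Set X) (hC : C ∈ irreducibleComponents (X : Type u)), @Curv2.deg k _ (X.irreducibleComponentIdeal C hC).radical.subscheme ⟨(X.irreducibleComponentIdeal C hC).radical.subschemeι ≫ (X ↘ (Spec (CommRingCat.of k)))⟩ ((Scheme.Modules.pullback (X.irreducibleComponentIdeal C hC).radical.subschemeι).obj L) 1 ≤ 0) :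
    Subsingleton (Coh.HH X L 0) ∨ Nonempty (L ≅ Coh.structureModule X) := by
  classical
  rcases subsingleton_or_nontrivial (Coh.HH X L 0) with h | h
  · exact Or.inl h
  refine Or.inr ?_
  obtain ⟨z, hz⟩ := exists_ne (0 : Coh.HH X L 0)
  obtain ⟨t, ht⟩ : ∃ t : Γ(L, ⊤), t ≠ 0 :=
    ⟨GrothLib.ProjCoh.H0top L z, fun h => hz ((GrothLib.ProjCoh.H0top L).injective (h.trans (map_zero _).symm))⟩
  obtain ⟨c, ⟨e⟩⟩ := GrothLib.Ample.exists_cocycle hL
  let a : c.sect 1 ⊤ := (show Γ(c.twist 1, ⊤) from ConcreteCategory.hom (e.hom.app ⊤) t)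
  have ha : a ≠ 0 := fun h0 => ht
    ((ConcreteCategory.bijective_of_isIso ((Scheme.Modules.toPresheaf X).map e.hom |>.app (Opposite.op ⊤))).1
      (h0.trans (map_zero (ConcreteCategory.hom (e.hom.app ⊤))).symm))
  let O := c.locus a
  have hcomp : ∀ C ∈ irreducibleComponents (X : Type u), C ⊆ (O : Set X) ∨ Disjoint C (O : Set X) := by
    intro C hC
    let J := (X.irreducibleComponentIdeal C hC).radical
    haveI : IsReduced J.subscheme := by
      show IsReduced (X.irreducibleComponentIdeal C hC).radical.subscheme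
      rw [← Scheme.IdealSheafData.vanishingIdeal_support]
      exact GrothLib.RedSub.isReduced_subscheme_vanishingIdeal _
    have hr : Set.range J.subschemeι = C := J.range_subschemeι
    let φ : J.subscheme ≃ₜ C := J.subschemeι.isEmbedding.toHomeomorph.trans (Homeomorph.setCongr hr)
    haveI : IrreducibleSpace C := Subtype.irreducibleSpace hC.1
    haveI : IrreducibleSpace J.subscheme := φ.symm.surjective.irreducibleSpace φ.symm.continuous
    haveI : IsIntegral J.subscheme := isIntegral_of_irreducibleSpace_of_isReduced _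
    letI : J.subscheme.Over (Spec (CommRingCat.of k)) := ⟨J.subschemeι ≫ (X ↘ (Spec (CommRingCat.of k)))⟩
    haveI : IsProper (J.subscheme ↘ Spec (CommRingCat.of k)) :=
      inferInstanceAs (IsProper (J.subschemeι ≫ (X ↘ (Spec (CommRingCat.of k)))))
    have hd : topologicalKrullDim J.subscheme ≤ 1 :=
      ((IsHomeomorph.topologicalKrullDim_eq _ φ.isHomeomorph).trans (hdim C hC)).le
    have hdeg' : Curv2.deg k J.subscheme ((c.comap J.subschemeι).twist 1) 1 ≤ 0 := by
      obtain ⟨e'⟩ := c.nonempty_pullback_iso (j := J.subschemeι) e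
      rw [← GrothLib.Euler.deg_of_iso k e']
      exact hdeg C hC
    by_contra hcon
    obtain ⟨h1, h2⟩ := not_or.mp hcon
    obtain ⟨x, hxC, hxO⟩ := Set.not_subset.mp h1
    obtain ⟨y, hyC, hyO⟩ := Set.not_disjoint_iff.mp h2
    obtain ⟨x', rfl⟩ := hr.ge hxC
    obtain ⟨y', rfl⟩ := hr.ge hyC
    refine not_lt.mpr hdeg' (GrothLib.Euler.deg_pos_of_locus k _ hd
      (a := c.pullSect J.subschemeι (le_top : (⊤ : J.subscheme.Opens) ≤ J.subschemeι ⁻¹ᵁ ⊤) a) ⟨y', ?_⟩ ?_)
    · rw [c.locus_pullSect]; exact hyO
    · rw [c.locus_pullSect]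
      exact fun htop => hxO (htop.ge (show x' ∈ (⊤ : J.subscheme.Opens) from trivial))
  have hclosed : IsClosed (O : Set X) := by
    have he : (O : Set X) = ⋃ C ∈ {C ∈ irreducibleComponents (X : Type u) | C ⊆ (O : Set X)}, C := by
      refine Set.Subset.antisymm (fun x hx => ?_) (Set.iUnion₂_subset fun C hC => hC.2)
      exact Set.mem_biUnion ⟨irreducibleComponent_mem_irreducibleComponents x,
        (hcomp _ (irreducibleComponent_mem_irreducibleComponents x)).resolve_right
          (Set.not_disjoint_iff.mpr ⟨x, mem_irreducibleComponent, hx⟩)⟩ mem_irreducibleComponent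
    rw [he]
    exact ((TopologicalSpace.NoetherianSpace.finite_irreducibleComponents).subset (Set.sep_subset _ _)).isClosed_biUnion
      fun C hC => isClosed_of_mem_irreducibleComponents C hC.1
  have hne : (O : Set X).Nonempty := by
    by_contra he
    refine ha (c.sect_ext fun i => ?_)
    have : X.basicOpen (a.1 i) = ⊥ := eq_bot_iff.mpr fun x hx =>
      he ⟨x, TopologicalSpace.Opens.mem_iSup.mpr ⟨i, hx⟩⟩
    exact (basicOpen_eq_bot_iff _).1 this
  have htop : c.locus a = ⊤ := SetLike.coe_injective
    ((isClopen_iff.mp ⟨hclosed, O.2⟩).resolve_left hne.ne_empty)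
  haveI := c.isIso_hom_of_locus_eq_top a htop
  exact ⟨e ≪≫ (asIso (c.hom a)).symm⟩

end Groth.Agent.S7641
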