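import Groth.Statements.S7642
import Groth.Agent.Lib.Euler.AmpleComponents

set_option autoImplicit false
universe u
open CategoryTheory CategoryTheory.Limits AlgebraicGeometry
open Variety

namespace Groth.Agent.S7642

/-- Let X be proper of dimension at most one over a field k and let L be an invertible module on X. Then
L is ample if and only if deg(L|_C) > 0 for every irreducible component C of X of dimension one, C
carrying its reduced induced structure. -/
theorem result (k : Type u) [Field k] (X : Scheme.{u}) [X.Over (Spec (CommRingCat.of k))] [IsProper (X ↘ (Spec (CommRingCat.of k)))] [IsNoetherian X]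
    (hdim : topologicalKrullDim X ≤ 1) (L : X.Modules) (hL : PicF.IsInvertible L) :
    CohB1.IsAmple L ↔ ∀ (C : Set X) (hC : C ∈ irreducibleComponents (X : Type u)),
      topologicalKrullDim C = 1 → 0 < @Curv2.deg k _ (X.irreducibleComponentIdeal C hC).radical.subscheme ⟨(X.irreducibleComponentIdeal C hC).radical.subschemeι ≫ (X ↘ (Spec (CommRingCat.of k)))⟩ ((Scheme.Modules.pullback (X.irreducibleComponentIdeal C hC).radical.subschemeι).obj L) 1 := by
    exact GrothLib.Euler.isAmple_iff_deg_pos_components k hdim hL

end Groth.Agent.S7642
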