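import Groth.Statements.S7643
import Groth.Agent.Lib.Euler.RankAdd

set_option autoImplicit false
universe u
open CategoryTheory CategoryTheory.Limits AlgebraicGeometry
open Variety

namespace Groth.Agent.S7643

/-- Let X be proper of dimension at most one over a field k and let 0 → E₁ → E₂ → E₃ → 0 be a short
exact sequence of finite locally free modules of constant ranks n₁, n₂, n₃. Then deg(E₂) = deg(E₁) +
deg(E₃). -/
theorem result (k : Type u) [Field k] (X : Scheme.{u}) [X.Over (Spec (CommRingCat.of k))] [IsProper (X ↘ (Spec (CommRingCat.of k)))]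
    (hdim : topologicalKrullDim X ≤ 1) (S : ShortComplex X.Modules) (hS : S.ShortExact)
    (n₁ n₂ n₃ : ℕ) (h₁ : FlatMod.IsFinLocFreeOfRank n₁ S.X₁) (h₂ : FlatMod.IsFinLocFreeOfRank n₂ S.X₂)
    (h₃ : FlatMod.IsFinLocFreeOfRank n₃ S.X₃) :
    Curv2.deg k X S.X₂ n₂ = Curv2.deg k X S.X₁ n₁ + Curv2.deg k X S.X₃ n₃ := by
  exact GrothLib.Euler.deg_additive k hS h₁ h₂ h₃

end Groth.Agent.S7643
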