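import Groth.Statements.S7644
import Mathlib.AlgebraicGeometry.Morphisms.Proper
import Mathlib.Topology.KrullDimension

set_option autoImplicit false
universe u
open CategoryTheory CategoryTheory.Limits AlgebraicGeometry
open Variety

namespace Groth.Agent.S7644

/-- If X is an irreducible scheme of positive dimension, separated over a field k, and x is a closed
point of X, then the open subscheme obtained by removing x is not proper over k. -/
theorem result (k : Type u) [Field k] (X : Scheme.{u}) [X.Over (Spec (CommRingCat.of k))]
    [IsSeparated (X ↘ (Spec (CommRingCat.of k)))] [IrreducibleSpace X] (hdim : 0 < topologicalKrullDim X)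
    (x : X) (hx : IsClosed ({x} : Set X)) :
    ¬ IsProper (Scheme.Opens.ι (⟨({x} : Set X)ᶜ, hx.isOpen_compl⟩ : X.Opens) ≫ (X ↘ (Spec (CommRingCat.of k)))) := by
    intro h
    let U : X.Opens := ⟨({x} : Set X)ᶜ, hx.isOpen_compl⟩
    have : UniversallyClosed U.ι :=
      MorphismProperty.of_postcomp @UniversallyClosed (W' := @IsSeparated) U.ι (X ↘ Spec (CommRingCat.of k)) inferInstance
        h.toUniversallyClosed
    have hcl : IsClosed (({x} : Set X)ᶜ) := by
      have h' := U.ι.isClosedMap Set.univ isClosed_univ
      rw [Set.image_univ, Scheme.Opens.range_ι] at h'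
      exact h'
    have hclopen : IsClopen ({x} : Set X) := ⟨hx, isClosed_compl_iff.mp hcl⟩
    have huniv : ({x} : Set X) = Set.univ := hclopen.eq_univ (Set.singleton_nonempty x)
    have : Subsingleton X := Set.subsingleton_univ_iff.mp (huniv ▸ Set.subsingleton_singleton)
    exact absurd (topologicalKrullDim_zero_of_discreteTopology (X := X)) (not_le.mpr hdim)

end Groth.Agent.S7644
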