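import Groth.Statements.S7647
import Groth.Agent.Lib.Snapper.Intersection

set_option autoImplicit false
universe u
open CategoryTheory CategoryTheory.Limits AlgebraicGeometry
open Variety

namespace Groth.Agent.S7647

/-- Let X be proper over a field k, Z ⊆ X a closed subscheme of dimension ≤ 1 and L an invertible
module. Then the intersection number (L · Z), i.e. the coefficient of n in the polynomial computing
χ(X, O_Z ⊗ L^{⊗n}), equals the degree of L|_Z on Z. -/
theorem result (k : Type u) [Field k] (X : Scheme.{u}) [X.Over (Spec (CommRingCat.of k))] [IsProper (X ↘ (Spec (CommRingCat.of k)))]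
    (D : X.IdealSheafData) (hD : topologicalKrullDim (D.support : Set X) ≤ 1)
    (L : X.Modules) (hL : PicF.IsInvertible L) (P : MvPolynomial (Fin 1) ℚ)
    (hP : ∀ n : Fin 1 → ℕ, (Curv2.euler k X (Curv2.tensorPows (ClSub.quotMod D) 1 (fun _ => L) n) : ℚ) = MvPolynomial.eval (fun i => (n i : ℚ)) P) :
    MvPolynomial.coeff (Finsupp.equivFunOnFinite.symm fun _ : Fin 1 => 1) P =
      (@Curv2.deg k _ D.subscheme ⟨D.subschemeι ≫ (X ↘ (Spec (CommRingCat.of k)))⟩
        ((Scheme.Modules.pullback D.subschemeι).obj L) 1 : ℚ) := by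
  have := GrothLib.Euler.isNoetherian_of_proper (X := X) k
  have hC := GrothLib.Snapper.isCoh_quotMod k D
  rw [GrothLib.Snapper.coeff_eq_mixed_phi k (fun _ => hL) hC (GrothLib.Snapper.dimLT_quotMod D hD) P hP]
  rw [show GrothLib.Snapper.mixed 1 (GrothLib.Snapper.phi k 1 (fun _ => L) (ClSub.quotMod D)) =
      GrothLib.Snapper.phi k 1 (fun _ => L) (ClSub.quotMod D) (0 + Pi.single 0 1) -
        GrothLib.Snapper.phi k 1 (fun _ => L) (ClSub.quotMod D) 0 by
    simp only [GrothLib.Snapper.mixed, LinearMap.coe_mk, AddHom.coe_mk]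
    rw [show (Finset.univ : Finset (Finset (Fin 1))) = {∅, {0}} by decide, Finset.sum_pair (by decide)]
    have e1 : GrothLib.Snapper.ind ({0} : Finset (Fin 1)) = 0 + Pi.single 0 1 := by
      funext i; fin_cases i; simp [GrothLib.Snapper.ind]
    have e0 : GrothLib.Snapper.ind (∅ : Finset (Fin 1)) = 0 := by
      funext i; simp [GrothLib.Snapper.ind]
    rw [e1, e0]
    simp
    ring]
  rw [GrothLib.Snapper.phi_add_single, GrothLib.Snapper.phi_zero, GrothLib.Snapper.phi_zero,
    GrothLib.Snapper.euler_tF_quotMod k D (GrothLib.Euler.isFinLocFree_of_isInvertible hL),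
    GrothLib.Snapper.euler_quotMod k D, Curv2.deg]
  push_cast
  ring

end Groth.Agent.S7647
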