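import Groth.Statements.S7649
import Groth.Agent.Lib.Snapper.Growth

set_option autoImplicit false
universe u
open CategoryTheory CategoryTheory.Limits AlgebraicGeometry
open Variety

namespace Groth.Agent.S7649

/-- Let X be proper over a field k of dimension d and L an ample invertible module. With deg_L(X) the
coefficient of n_1⋯n_d in the polynomial computing χ(X, L^{⊗n_1} ⊗ ⋯ ⊗ L^{⊗n_d}) and c =
deg_L(X)/d!, the constant c is positive and dim_k Γ(X, L^{⊗n}) = c·n^d + lower order terms; here the
lower-order bound is written as |dim_k H^0(X, L^{⊗n}) − c·n^d| ≤ C·(n+1)^{d−1} for a constant C and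
all n ≥ 0. -/
theorem result (k : Type u) [Field k] (X : Scheme.{u}) [X.Over (Spec (CommRingCat.of k))] [IsProper (X ↘ (Spec (CommRingCat.of k)))]
    (d : ℕ) (hX : topologicalKrullDim X = d) (L : X.Modules) (hL : CohB1.IsAmple L)
    (P : MvPolynomial (Fin d) ℚ)
    (hP : ∀ n : Fin d → ℕ, (Curv2.euler k X (Curv2.tensorPows (Coh.structureModule X) d (fun _ => L) n) : ℚ) = MvPolynomial.eval (fun i => (n i : ℚ)) P) :
    0 < MvPolynomial.coeff (Finsupp.equivFunOnFinite.symm fun _ : Fin d => 1) P ∧
      ∃ C : ℚ, ∀ n : ℕ,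
        |(Module.finrank k (Coh.HH X (CohB1.tensorPow L n) 0) : ℚ) -
            MvPolynomial.coeff (Finsupp.equivFunOnFinite.symm fun _ : Fin d => 1) P / (d.factorial : ℚ) * (n : ℚ) ^ d| ≤
          C * ((n : ℚ) + 1) ^ (d - 1) := by
    classical
    have := GrothLib.Euler.isNoetherian_of_proper (X := X) k
    let O := Coh.structureModule X
    have hO : Coh.IsCoh O := GrothLib.Euler.isCoh_of_isInvertible GrothLib.Euler.isInvertible_structure
    have hu : GrothLib.Snapper.DimLT (Set.univ : Set X) (d + 1) := GrothLib.Snapper.dimLT_of_dim_le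
      ((IsHomeomorph.topologicalKrullDim_eq _ (Homeomorph.Set.univ X).isHomeomorph).le.trans hX.le)
    have hd : GrothLib.Snapper.DimLT (CohB1.support O) (d + 1) := hu.mono fun _ _ => trivial
    have hex : ∃ x ∈ CohB1.support O, GrothLib.Snapper.IsTop d x := by
      have hnot : ¬ GrothLib.Snapper.DimLT (Set.univ : Set X) d := fun h => by
        have hXd : topologicalKrullDim (Set.univ : Set X) = (d : WithBot ℕ∞) :=
          (IsHomeomorph.topologicalKrullDim_eq _ (Homeomorph.Set.univ X).isHomeomorph).trans hX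
        rcases d with _ | e
        · refine GrothLib.Snapper.not_dimLT_zero ?_ h
          by_contra hne
          rw [Set.not_nonempty_iff_eq_empty] at hne
          haveI : IsEmpty (Set.univ : Set X) := by rw [hne]; infer_instance
          haveI : IsEmpty (TopologicalSpace.IrreducibleCloseds (Set.univ : Set X)) :=
            ⟨fun C => isEmptyElim C.isIrreducible.nonempty.some⟩
          rw [topologicalKrullDim, Order.krullDim_eq_bot] at hXd
          exact absurd hXd.symm (WithBot.natCast_ne_bot 0)
        · have := GrothLib.Snapper.dim_le_of_dimLT isClosed_univ h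
          rw [hXd] at this
          exact absurd (show e + 1 ≤ e by exact_mod_cast this) (by omega)
      simp only [GrothLib.Snapper.DimLT, not_forall, not_lt] at hnot
      obtain ⟨l, -, hl⟩ := hnot
      refine ⟨l.last, fun h => ?_, GrothLib.Snapper.isTop_of (hu.mono (Set.subset_univ _)) fun h => ?_⟩
      · haveI := h
        haveI : Nontrivial (O.presheaf.stalk l.last) :=
          (GrothLib.HomSh.unitStalk (X := X) l.last).symm.toEquiv.nontrivial
        exact false_of_nontrivial_of_subsingleton (O.presheaf.stalk l.last)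
      · have := h l fun i => specializes_iff_mem_closure.1 (show l.last ⤳ l i from l.monotone (Fin.le_last i))
        omega
    have hpos := GrothLib.Snapper.mixed_pos k d X L hL O hO hd hex
    obtain ⟨c, hc⟩ := GrothLib.Snapper.exists_lead
      (GrothLib.Snapper.phi_mem_polyLT k (r := 1) (L := fun _ => L) (fun _ => hL.1) (d + 1) O hO hd)
    have hP' : MvPolynomial.coeff (Finsupp.equivFunOnFinite.symm fun _ : Fin d => 1) P =
        c * (d.factorial : ℚ) := by
      rw [GrothLib.Snapper.coeff_eq_mixed_phi k (fun _ => hL.1) hO hd P hP, GrothLib.Snapper.phi_const_comp,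
        GrothLib.Snapper.mixed_comp_sumArg hc]
    have hpos' := hpos
    rw [GrothLib.Snapper.phi_const_comp, GrothLib.Snapper.mixed_comp_sumArg hc] at hpos'
    refine ⟨by rw [hP']; exact hpos', ?_⟩
    rw [hP', mul_div_assoc, div_self (by exact_mod_cast d.factorial_ne_zero), mul_one]
    obtain ⟨C₁, hC₁⟩ := GrothLib.Snapper.exists_abs_le_of_mem hc
    obtain ⟨C₂, hC₂⟩ := GrothLib.Snapper.growth_hpos k hL d O hO hd
    refine ⟨C₁ + C₂, fun n => ?_⟩
    have hiso : CohB1.tensorPow L n ≅ (GrothLib.Euler.tF (CohB1.tensorPow L n)).obj O :=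
      (GrothLib.OX.tensorUnitLeftIso _).symm
    rw [(GrothLib.Euler.hhEquiv (A := k) hiso 0).finrank_eq]
    set G := (GrothLib.Euler.tF (CohB1.tensorPow L n)).obj O with hG
    have hGc : Coh.IsCoh G := GrothLib.Snapper.isCoh_twist k hL.1 hO n
    have hphi : GrothLib.Snapper.phi k 1 (fun _ => L) O (fun _ => n) = (Curv2.euler k X G : ℚ) := by
      rw [GrothLib.Snapper.phi_const_eq, Fin.sum_univ_one]
    have h1 := hC₁ n
    simp only [Pi.sub_apply, Pi.smul_apply, smul_eq_mul, hphi, GrothLib.Snapper.mono, Fin.prod_univ_one] at h1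
    obtain ⟨N, hN⟩ := GrothLib.Euler.exists_bound (X := X) k
    haveI := hGc.1
    have h2 : |(Module.finrank k (Coh.HH X G 0) : ℚ) - (Curv2.euler k X G : ℚ)| ≤
        (GrothLib.Snapper.hpos k G : ℚ) := by
      rw [GrothLib.Euler.euler_eq_sum k G (N := N + 1) (fun i hi => hN G i (by omega)),
        GrothLib.Snapper.hpos_eq_sum k (hN G), Finset.sum_range_succ']
      push_cast
      simp only [pow_zero, one_mul, sub_add_cancel_right, abs_neg]
      refine (Finset.abs_sum_le_sum_abs _ _).trans (le_of_eq (Finset.sum_congr rfl fun i _ => ?_))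
      simp [abs_mul]
    have h3 : (GrothLib.Snapper.hpos k G : ℚ) ≤ (C₂ : ℚ) * ((n : ℚ) + 1) ^ (d - 1) := by
      exact_mod_cast hC₂ n
    calc _ ≤ |(Module.finrank k (Coh.HH X G 0) : ℚ) - (Curv2.euler k X G : ℚ)| +
          |(Curv2.euler k X G : ℚ) - c * (n : ℚ) ^ d| := abs_sub_le _ _ _
      _ ≤ _ := by rw [add_mul]; linarith

end Groth.Agent.S7649
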