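import Groth.Statements.S7651
import Groth.Agent.Lib.SemiLoc.MinPrimes
import Mathlib.RingTheory.Regular.RegularSequence

set_option autoImplicit false
universe u
open CategoryTheory CategoryTheory.Limits AlgebraicGeometry
open Variety

namespace Groth.Agent.S7651

/-- Let (A, m) be a Noetherian local ring of dimension one and f ∈ m. Then (1) m = √(f), (2) f lies in
no minimal prime of A, and (3) A_f ≅ ∏_{p minimal} A_p as A-algebras, are equivalent; such an f
exists; if A has depth one, for instance if A is reduced, they are also equivalent to (4) f is a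
nonzerodivisor and to (5) A → A_f is the localization of A at all its nonzerodivisors; and if A is
reduced they are also equivalent to (6) A_f ≅ ∏_{p minimal} κ(p) as A-algebras. -/
theorem result (A : Type u) [CommRing A] [IsLocalRing A]
    [IsNoetherianRing A] (hdim : ringKrullDim A = 1) :
    (∃ f ∈ IsLocalRing.maximalIdeal A, ∀ p ∈ minimalPrimes A, f ∉ p) ∧
    ∀ f ∈ IsLocalRing.maximalIdeal A,
      ((IsLocalRing.maximalIdeal A = (Ideal.span {f}).radical) ↔ (∀ p ∈ minimalPrimes A, f ∉ p)) ∧
      ((∀ p ∈ minimalPrimes A, f ∉ p) ↔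
        Nonempty (Localization.Away f ≃ₐ[A] (∀ p : {p : PrimeSpectrum A // p.asIdeal ∈ minimalPrimes A}, Localization.AtPrime p.1.asIdeal))) ∧
      ((LocCoh.depth A A = 1 ∨ IsReduced A) →
        ((∀ p ∈ minimalPrimes A, f ∉ p) ↔ f ∈ nonZeroDivisors A) ∧
        ((∀ p ∈ minimalPrimes A, f ∉ p) ↔ IsLocalization (nonZeroDivisors A) (Localization.Away f))) ∧
      (IsReduced A →
        ((∀ p ∈ minimalPrimes A, f ∉ p) ↔
          Nonempty (Localization.Away f ≃ₐ[A] (∀ p : {p : PrimeSpectrum A // p.asIdeal ∈ minimalPrimes A}, p.1.asIdeal.ResidueField)))) := by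
  classical
  refine ⟨GrothLib.SemiLoc.exists_notMem_minimal hdim, fun f hfm => ?_⟩
  have h23 : (∀ p ∈ minimalPrimes A, f ∉ p) → Nonempty (Localization.Away f ≃ₐ[A] GrothLib.SemiLoc.MinProd A) := by
    intro hf
    have := GrothLib.SemiLoc.isLocalization_away hdim hfm hf
    exact ⟨IsLocalization.algEquiv (Submonoid.powers f) (Localization.Away f) (GrothLib.SemiLoc.MinProd A)⟩
  have h32 : ∀ {L : Type u} [CommRing L] [Algebra A L], (∀ p ∈ minimalPrimes A,
      ∃ (F : Type u) (_ : CommRing F) (_ : Nontrivial F) (g : L →+* F), ∀ x ∈ p, IsNilpotent (g (algebraMap A L x))) →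
      Nonempty (Localization.Away f ≃ₐ[A] L) → ∀ p ∈ minimalPrimes A, f ∉ p := by
    intro L _ _ hL ⟨e⟩ p hp hfp
    obtain ⟨F, _, _, g, hg⟩ := hL p hp
    have hu : IsUnit (g (algebraMap A L f)) := by
      rw [← e.commutes f]
      exact ((IsLocalization.Away.algebraMap_isUnit (S := Localization.Away f) f).map e.toAlgHom.toRingHom).map g
    exact (IsNilpotent.not_isUnit (hg f hfp)) hu
  have h2 : (∀ p ∈ minimalPrimes A, f ∉ p) ↔ Nonempty (Localization.Away f ≃ₐ[A] GrothLib.SemiLoc.MinProd A) := by
    refine ⟨h23, h32 (fun p hp => ?_)⟩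
    let P : GrothLib.SemiLoc.MinIdx A := ⟨⟨p, hp.1.1⟩, hp⟩
    have : P.1.asIdeal.IsPrime := P.1.isPrime
    exact ⟨Localization.AtPrime P.1.asIdeal, inferInstance, inferInstance,
      Pi.evalRingHom (fun q : GrothLib.SemiLoc.MinIdx A => Localization.AtPrime q.1.asIdeal) P,
      fun x hx => GrothLib.SemiLoc.isNilpotent_map_of_mem P hx⟩
  refine ⟨?_, h2, ?_, ?_⟩
  · constructor
    · intro h p hp hfp
      have hle : IsLocalRing.maximalIdeal A ≤ p := by
        rw [h]; exact hp.1.1.radical_le_iff.mpr ((Ideal.span_singleton_le_iff_mem p).mpr hfp)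
      exact GrothLib.SemiLoc.maximalIdeal_notMem_minimal hdim
        (le_antisymm hle (IsLocalRing.le_maximalIdeal hp.1.1.ne_top) ▸ hp)
    · intro hf
      obtain ⟨n, hn⟩ := GrothLib.SemiLoc.exists_pow_le hdim (Ideal.span {f})
        fun p hp h => hf p hp (h (Ideal.mem_span_singleton_self f))
      refine le_antisymm (fun x hx => ⟨n, hn (Ideal.pow_mem_pow hx n)⟩) ?_
      exact (IsLocalRing.maximalIdeal.isMaximal A).isPrime.radical_le_iff.mpr
        ((Ideal.span_singleton_le_iff_mem _).mpr hfm)
  · intro hd
    have hnzd : (∀ p ∈ minimalPrimes A, f ∉ p) → f ∈ nonZeroDivisors A := by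
      intro hf
      rw [mem_nonZeroDivisors_iff_right]
      intro x hx
      rcases hd with hd | hd
      · obtain ⟨g, hgm, hg⟩ : ∃ g ∈ IsLocalRing.maximalIdeal A, IsSMulRegular A g := by
          by_contra! hno
          unfold LocCoh.depth LocCoh.idealDepth at hd
          split_ifs at hd
          · simp at hd
          · have hzero : (⨆ (rs : List A) (_ : RingTheory.Sequence.IsWeaklyRegular A rs ∧
                ∀ r ∈ rs, r ∈ IsLocalRing.maximalIdeal A), (rs.length : ℕ∞)) = 0 := by
              simp only [ENat.iSup_eq_zero]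
              rintro rs ⟨hrs, hmem⟩
              rcases rs with - | ⟨r, rs⟩
              · simp
              · exact absurd ((RingTheory.Sequence.isWeaklyRegular_cons_iff A r rs).mp hrs).1
                  (hno r (hmem r List.mem_cons_self))
            rw [hzero] at hd
            exact zero_ne_one hd
        obtain ⟨n, hn⟩ := GrothLib.SemiLoc.exists_pow_le hdim (Ideal.span {f})
          fun p hp h => hf p hp (h (Ideal.mem_span_singleton_self f))
        obtain ⟨d, hd'⟩ := Ideal.mem_span_singleton'.mp (hn (Ideal.pow_mem_pow hgm n))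
        refine (hg.pow n) ?_
        show g ^ n * x = g ^ n * 0
        rw [← hd', mul_zero, mul_assoc, mul_comm f x, hx, mul_zero]
      · have : x ∈ nilradical A := by
          rw [nilradical_eq_sInf, Submodule.mem_sInf]
          intro P hP
          have hP : Ideal.IsPrime P := hP
          obtain ⟨q, hq, hqP⟩ := Ideal.exists_minimalPrimes_le (I := (⊥ : Ideal A)) (J := P) bot_le
          exact hqP ((hq.1.1.mem_or_mem (show x * f ∈ q by rw [hx]; exact q.zero_mem)).resolve_right (hf q hq))
        exact (mem_nilradical.mp this).eq_zero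
    have hnzd' : f ∈ nonZeroDivisors A → ∀ p ∈ minimalPrimes A, f ∉ p := fun h p hp hfp =>
      Set.disjoint_left.mp (Ideal.disjoint_nonZeroDivisors_of_mem_minimalPrimes hp) hfp h
    refine ⟨⟨hnzd, hnzd'⟩, ⟨fun hf => ?_, fun hloc => hnzd' ?_⟩⟩
    · have := GrothLib.SemiLoc.isLocalization_away hdim hfm hf
      have h1 : IsLocalization (nonZeroDivisors A) (GrothLib.SemiLoc.MinProd A) := by
        refine (isLocalization_iff _ _).mpr ⟨?_, ?_, ?_⟩
        · rintro ⟨s, hs⟩
          exact GrothLib.SemiLoc.isUnit_map fun p hp hsp =>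
            Set.disjoint_left.mp (Ideal.disjoint_nonZeroDivisors_of_mem_minimalPrimes hp) hsp hs
        · intro z
          obtain ⟨⟨u, ⟨_, n, rfl⟩⟩, h⟩ := IsLocalization.surj (Submonoid.powers f) z
          exact ⟨⟨u, ⟨f ^ n, pow_mem (hnzd hf) n⟩⟩, h⟩
        · intro x y h
          obtain ⟨⟨_, n, rfl⟩, h'⟩ := IsLocalization.exists_of_eq (M := Submonoid.powers f) h
          exact ⟨⟨f ^ n, pow_mem (hnzd hf) n⟩, h'⟩
      exact IsLocalization.isLocalization_of_algEquiv (nonZeroDivisors A)
        (IsLocalization.algEquiv (Submonoid.powers f) (GrothLib.SemiLoc.MinProd A) (Localization.Away f))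
    · rw [mem_nonZeroDivisors_iff_right]
      intro x hx
      have hinj : Function.Injective (algebraMap A (Localization.Away f)) :=
        IsLocalization.injective _ (le_refl (nonZeroDivisors A))
      apply hinj
      have hu : IsUnit (algebraMap A (Localization.Away f) f) := IsLocalization.Away.algebraMap_isUnit f
      rw [map_zero, ← hu.mul_left_eq_zero, ← map_mul, hx, map_zero]
  · intro hred
    constructor
    · intro hf
      obtain ⟨e⟩ := h23 hf
      let ρ : GrothLib.SemiLoc.MinProd A →ₐ[A] (∀ p : GrothLib.SemiLoc.MinIdx A, p.1.asIdeal.ResidueField) :=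
        AlgHom.pi fun p => (IsScalarTower.toAlgHom A (Localization.AtPrime p.1.asIdeal) p.1.asIdeal.ResidueField).comp
          (Pi.evalAlgHom A (fun q : GrothLib.SemiLoc.MinIdx A => Localization.AtPrime q.1.asIdeal) p)
      have hb : Function.Bijective ρ := by
        refine ⟨fun a b hab => funext fun p => ?_, fun z => ?_⟩
        · have h := congrFun hab p
          have hnilp : IsNilpotent (a p - b p) := by
            obtain ⟨⟨u, s⟩, hus⟩ := IsLocalization.surj p.1.asIdeal.primeCompl (a p - b p)
            have hm : a p - b p ∈ IsLocalRing.maximalIdeal (Localization.AtPrime p.1.asIdeal) := by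
              rw [← IsLocalRing.residue_eq_zero_iff, map_sub, sub_eq_zero]
              exact h
            have hu : u ∈ p.1.asIdeal := by
              rw [← IsLocalization.AtPrime.to_map_mem_maximal_iff (Localization.AtPrime p.1.asIdeal) p.1.asIdeal, ← hus]
              exact Ideal.mul_mem_right _ _ hm
            have hn := GrothLib.SemiLoc.isNilpotent_map_of_mem p hu
            rw [← hus] at hn
            obtain ⟨n, hn⟩ := hn
            refine ⟨n, ?_⟩
            rw [mul_pow] at hn
            exact ((IsLocalization.map_units _ s).pow n).mul_left_eq_zero.mp hn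
          have : _root_.IsReduced (Localization.AtPrime p.1.asIdeal) :=
            isReduced_localizationPreserves p.1.asIdeal.primeCompl _ hred
          exact sub_eq_zero.mp hnilp.eq_zero
        · choose w hw using fun p => IsLocalRing.residue_surjective (z p)
          exact ⟨w, funext hw⟩
      exact ⟨e.trans (AlgEquiv.ofBijective ρ hb)⟩
    · refine h32 fun p hp => ?_
      let P : GrothLib.SemiLoc.MinIdx A := ⟨⟨p, hp.1.1⟩, hp⟩
      have : P.1.asIdeal.IsPrime := P.1.isPrime
      refine ⟨P.1.asIdeal.ResidueField, inferInstance, inferInstance,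
        Pi.evalRingHom (fun q : GrothLib.SemiLoc.MinIdx A => q.1.asIdeal.ResidueField) P, fun x hx => ?_⟩
      exact (Ideal.algebraMap_residueField_eq_zero (I := P.1.asIdeal)).mpr hx ▸ IsNilpotent.zero

end Groth.Agent.S7651
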