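import Groth.Statements.S7653
import Mathlib.RingTheory.DiscreteValuationRing.TFAE
import Mathlib.RingTheory.Ideal.MinimalPrime.Localization
import Mathlib.RingTheory.Ideal.MinimalPrime.Noetherian
import Mathlib.RingTheory.KrullDimension.Basic
import Mathlib.Tactic.LinearCombination

set_option autoImplicit false
universe u
open CategoryTheory CategoryTheory.Limits AlgebraicGeometry
open Variety

namespace Groth.Agent.S7653

theorem isDomain_of_idem {A : Type u} [CommRing A] [IsLocalRing A] [IsReduced A] [IsNoetherianRing A]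
    (h : ∀ z : FractionRing A, IsIntegral A z → ∃ a, algebraMap A (FractionRing A) a = z) : IsDomain A := by
  classical
  have hfin := Ideal.finite_minimalPrimes_of_isNoetherianRing A (⊥ : Ideal A)
  suffices h1 : ∀ a b : A, a * b = 0 → a = 0 ∨ b = 0 by
    haveI : NoZeroDivisors A := ⟨fun {a b} hab => h1 a b hab⟩
    exact NoZeroDivisors.to_isDomain A
  intro a b hab
  by_contra! hne
  obtain ⟨ha, hb⟩ := hne
  have hzero : ∀ x : A, (∀ p ∈ (⊥ : Ideal A).minimalPrimes, x ∈ p) → x = 0 := fun x hx => by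
    have : x ∈ (⊥ : Ideal A).radical := by
      rw [← Ideal.sInf_minimalPrimes, Submodule.mem_sInf]; exact hx
    rw [Ideal.radical_eq_iff.mpr (by simpa [Ideal.isRadical_bot_iff] using ‹IsReduced A›)] at this
    exact this
  let S1 := hfin.toFinset.filter (fun p => a ∈ p)
  let S0 := hfin.toFinset.filter (fun p => a ∉ p)
  let J : Ideal A := S0.inf id
  have hJ : ¬ ((J : Set A) ⊆ ⋃ p ∈ (S1 : Set (Ideal A)), (p : Set A)) := by
    rw [Ideal.subset_union_prime ⊥ ⊥ (fun p hp _ _ => (hfin.mem_toFinset.mp (Finset.mem_filter.mp hp).1).isPrime)]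
    rintro ⟨q, hq, hJq⟩
    obtain ⟨hqm, haq⟩ := Finset.mem_filter.mp hq
    have hqm := hfin.mem_toFinset.mp hqm
    obtain ⟨p, hp, hpq⟩ := (hqm.isPrime.inf_le').mp hJq
    obtain ⟨hpm, hap⟩ := Finset.mem_filter.mp hp
    have hpm := hfin.mem_toFinset.mp hpm
    exact hap (hqm.2 hpm.1 hpq haq)
  obtain ⟨c, hcJ, hc⟩ := Set.not_subset.mp hJ
  have hcJ' : ∀ p ∈ S0, c ∈ p := fun p hp => (Finset.inf_le hp : J ≤ p) hcJ
  have hac : a * c = 0 := hzero _ fun p hp => by
    by_cases hap : a ∈ p
    · exact Ideal.mul_mem_right _ _ hap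
    · exact Ideal.mul_mem_left _ _ (hcJ' p (Finset.mem_filter.mpr ⟨hfin.mem_toFinset.mpr hp, hap⟩))
  have hs : a + c ∈ nonZeroDivisors A := by
    rw [mem_nonZeroDivisors_iff_left]
    intro x hx
    refine hzero _ fun p hp => ?_
    refine (hp.isPrime.mem_or_mem (show (a + c) * x ∈ p by rw [hx]; exact p.zero_mem)).resolve_left fun hm => ?_
    by_cases hap : a ∈ p
    · refine hc (Set.mem_biUnion (Finset.mem_coe.mpr (Finset.mem_filter.mpr ⟨hfin.mem_toFinset.mpr hp, hap⟩)) ?_)
      have := p.sub_mem hm hap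
      rwa [add_sub_cancel_left] at this
    · refine hap ?_
      have := p.sub_mem hm (hcJ' p (Finset.mem_filter.mpr ⟨hfin.mem_toFinset.mpr hp, hap⟩))
      rwa [add_sub_cancel_right] at this
  let z := IsLocalization.mk' (FractionRing A) a (⟨a + c, hs⟩ : nonZeroDivisors A)
  have hz : z * z = z := by
    rw [← IsLocalization.mk'_mul, IsLocalization.mk'_eq_iff_eq]
    congr 1
    simp only [Submonoid.coe_mul]
    linear_combination -(a + c) * hac
  obtain ⟨e, he⟩ := h z ⟨Polynomial.X ^ 2 - Polynomial.X,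
    Polynomial.monic_X_pow_sub (by simp), by simp [sq, hz]⟩
  have hinj : Function.Injective (algebraMap A (FractionRing A)) := IsLocalization.injective _ le_rfl
  have hidem : e * (e - 1) = 0 := hinj (by rw [map_mul, map_sub, map_one, he, map_zero, mul_sub, hz, mul_one, sub_self])
  have hea : e * (a + c) = a := hinj (by rw [map_mul, he]; exact IsLocalization.mk'_spec _ _ _)
  rcases IsLocalRing.isUnit_or_isUnit_one_sub_self e with hu | hu
  · have he1 : e = 1 := sub_eq_zero.mp (hu.mul_right_eq_zero.mp hidem)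
    rw [he1, one_mul] at hea
    have hc0 : c = 0 := by simpa using hea
    obtain ⟨p, hp, hap⟩ : ∃ p ∈ (⊥ : Ideal A).minimalPrimes, a ∈ p := by
      by_contra! hall
      exact hb (hzero b fun p hp => (hp.isPrime.mem_or_mem (show a * b ∈ p by rw [hab]; exact p.zero_mem)).resolve_left (hall p hp))
    exact hc (Set.mem_biUnion (Finset.mem_coe.mpr (Finset.mem_filter.mpr ⟨hfin.mem_toFinset.mpr hp, hap⟩))
      (hc0 ▸ p.zero_mem))
  · have he0 : e = 0 := by
      refine hu.mul_left_eq_zero.mp ?_
      linear_combination -hidem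
    rw [he0, zero_mul] at hea
    exact ha hea.symm

/-- For a reduced local Nagata ring A of Krull dimension one, the δ-invariant of A is zero exactly when
A is a DVR (in particular a domain). -/
theorem result (A : Type u) [CommRing A] [IsLocalRing A]
    [IsReduced A] (hN : CAlg.IsNagata A) (hdim : ringKrullDim A = 1) :
    Curv2.deltaInv A = 0 ↔ ∃ _ : IsDomain A, IsDiscreteValuationRing A := by
  have := hN.1
  constructor
  · intro h
    rw [Curv2.deltaInv, Module.length_eq_zero_iff, Submodule.Quotient.subsingleton_iff] at h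
    have hint : ∀ z : FractionRing A, IsIntegral A z → ∃ a, algebraMap A (FractionRing A) a = z := fun z hz => by
      obtain ⟨a, ha⟩ : (⟨z, hz⟩ : integralClosure A (FractionRing A)) ∈
          LinearMap.range (Algebra.linearMap A ↥(integralClosure A (FractionRing A))) := h ▸ Submodule.mem_top
      exact ⟨a, congrArg Subtype.val ha⟩
    have hdom := isDomain_of_idem hint
    have hic : IsIntegrallyClosed A := (isIntegrallyClosed_iff (FractionRing A)).mpr fun {z} hz => hint z hz
    have : Ring.KrullDimLE 1 A := Ring.krullDimLE_iff.mpr (by rw [hdim]; rfl)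
    have hfield : ¬ IsField A := fun hf => by
      have := ringKrullDim_eq_zero_of_isField hf
      rw [hdim] at this
      exact one_ne_zero this
    have h03 : IsDiscreteValuationRing A ↔ IsIntegrallyClosed A ∧ ∃! P : Ideal A, P ≠ ⊥ ∧ P.IsPrime :=
      (IsDiscreteValuationRing.TFAE A hfield).out 0 3
    refine ⟨hdom, h03.mpr ⟨hic, ?_⟩⟩
    refine ExistsUnique.intro (IsLocalRing.maximalIdeal A)
      ⟨fun hm => hfield (IsLocalRing.isField_iff_maximalIdeal_eq.mpr hm), inferInstance⟩ ?_
    rintro P ⟨hP, hPp⟩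
    exact IsLocalRing.eq_maximalIdeal (hPp.isMaximal_of_ne_bot hP)
  · rintro ⟨_, _⟩
    rw [Curv2.deltaInv, Module.length_eq_zero_iff, Submodule.Quotient.subsingleton_iff]
    rw [eq_top_iff]
    rintro ⟨z, hz⟩ -
    obtain ⟨a, ha⟩ := IsIntegrallyClosed.isIntegral_iff.mp hz
    exact ⟨a, Subtype.ext ha⟩

end Groth.Agent.S7653
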