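import Groth.Statements.S7655
import Groth.Agent.Lib.RedTotal.Branches

set_option autoImplicit false
universe u
open CategoryTheory CategoryTheory.Limits AlgebraicGeometry
open Variety

namespace Groth.Agent.S7655

/-- Let (A, m) be a reduced Nagata local ring of dimension one. Then the δ-invariant of A is at least
the number of geometric branches of A minus one. -/
theorem result (A : Type u) [CommRing A] [IsLocalRing A]
    [IsReduced A] (hN : CAlg.IsNagata A) (hdim : ringKrullDim A = 1) :
    Brnch.numGeomBranches A ≤ Curv2.deltaInv A + 1 := by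
  classical
  have := hN.1
  have := GrothLib.RedTotal.finite_integralClosure hN
  obtain ⟨Φ, hΦ⟩ := GrothLib.RedTotal.exists_equiv_normRed A
  have : Finite (MaximalSpectrum (integralClosure A (FractionRing A))) :=
    GrothLib.RedTotal.finite_maximalSpectrum A _
  have := Fintype.ofFinite (MaximalSpectrum (integralClosure A (FractionRing A)))
  rw [Brnch.numGeomBranches, if_pos (GrothLib.RedTotal.finite_minimalPrimes A)]
  let β : MaximalSpectrum (integralClosure A (FractionRing A)) → Type u := fun m =>
    {σ : integralClosure A (FractionRing A) ⧸ m.asIdeal →+* AlgebraicClosure (IsLocalRing.ResidueField A) //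
      σ.comp (algebraMap A (integralClosure A (FractionRing A) ⧸ m.asIdeal)) =
        (algebraMap (IsLocalRing.ResidueField A) (AlgebraicClosure (IsLocalRing.ResidueField A))).comp
          (IsLocalRing.residue A)}
  have : Nontrivial (integralClosure A (FractionRing A)) := inferInstance
  refine le_trans ?_ ((GrothLib.RedTotal.card_sigma_le β _
    fun m => GrothLib.RedTotal.card_hom_le_length A _ m).trans (GrothLib.RedTotal.length_pi_le_add_one A _))
  let M : MaximalSpectrum (CAlg2.normRed A) → MaximalSpectrum (integralClosure A (FractionRing A)) := fun m =>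
    ⟨m.asIdeal.map Φ.toRingHom, haveI := m.isMaximal; Ideal.map_isMaximal_of_equiv Φ⟩
  have hM : Function.Injective M := fun m m' h => MaximalSpectrum.ext
    (by
      have h' := congrArg (Ideal.comap Φ.toRingHom) (congrArg MaximalSpectrum.asIdeal h)
      exact ((Ideal.comap_map_of_bijective Φ.toRingHom Φ.bijective).symm.trans h').trans
        (Ideal.comap_map_of_bijective Φ.toRingHom Φ.bijective))
  refine ENat.card_le_card_of_injective (f := fun x : Σ m', Brnch.Emb A m' =>
    (⟨M x.1, ⟨x.2.1.comp (Ideal.quotientEquiv x.1.asIdeal (M x.1).asIdeal Φ rfl).symm.toRingHom, ?_⟩⟩ :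
      Σ m, β m)) ?_
  · refine RingHom.ext fun a => ?_
    show x.2.1 ((Ideal.quotientEquiv x.1.asIdeal (M x.1).asIdeal Φ rfl).symm
      (Ideal.Quotient.mk _ (algebraMap A _ a))) = _
    refine Eq.trans (congrArg x.2.1 ?_) (RingHom.congr_fun x.2.2 a)
    refine (Ideal.quotientEquiv x.1.asIdeal (M x.1).asIdeal Φ rfl).injective ?_
    rw [RingEquiv.apply_symm_apply, ← hΦ a]
    rfl
  · rintro ⟨m, σ⟩ ⟨m', σ'⟩ h
    have hm : m = m' := hM (congrArg Sigma.fst h)
    subst hm
    have h2 := eq_of_heq (Sigma.mk.inj_iff.mp h).2
    refine congrArg (Sigma.mk m) (Subtype.ext (RingHom.ext fun c => ?_))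
    have h3 := RingHom.congr_fun (congrArg Subtype.val h2)
      (Ideal.quotientEquiv m.asIdeal (M m).asIdeal Φ rfl c)
    have h4 := (Ideal.quotientEquiv m.asIdeal (M m).asIdeal Φ rfl).symm_apply_apply c
    exact ((congrArg σ.1 h4.symm).trans h3).trans (congrArg σ'.1 h4)

end Groth.Agent.S7655
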