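import Groth.Statements.S7656
import Groth.Agent.Lib.BrnchBC5.Main
-- import your own Groth.Agent.* helpers here

set_option autoImplicit false
universe u
open CategoryTheory CategoryTheory.Limits AlgebraicGeometry
open Variety

namespace Groth.Agent.S7656

/-- For X locally of finite type over a field k, a field extension K/k and a point y of X_K over x ∈ X,
the local rings of X at x and of X_K at y have the same number of geometric branches. -/
theorem result (k : Type u) [Field k] (X : Scheme.{u}) [X.Over (Spec (CommRingCat.of k))]
    [LocallyOfFiniteType (X ↘ (Spec (CommRingCat.of k)))] (K : Type u) [Field K] [Algebra k K]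
    (y : ↥(Curv2.bc k X K)) :
    Brnch.numGeomBranchesAt X ((Curv2.bcFst k X K).base y) =
      Brnch.numGeomBranchesAt (Curv2.bc k X K) y := by
  exact GrothLib.BrnchBC5.numGeomBranchesAt_baseChange k X K y

end Groth.Agent.S7656
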