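import Groth.Statements.S7657
import Groth.Agent.Lib.NormFib.Scheme
import Groth.Agent.Lib.NormFib.ENatSum

set_option autoImplicit false
universe u
open CategoryTheory CategoryTheory.Limits AlgebraicGeometry
open Variety

namespace Groth.Agent.S7657

set_option backward.isDefEq.respectTransparency false

open GrothLib.NormFib in
theorem emb_equiv (X : Scheme.{u}) [IsIntegral X]
    [QuasiCompact (X.fromSpecStalk (genericPoint X))] [QuasiSeparated (X.fromSpecStalk (genericPoint X))]
    {U : X.Opens} (hU : IsAffineOpen U) (x : X) (hx : x ∈ U)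
    [Algebra (X.presheaf.stalk x) (CAlg2.normRed (X.presheaf.stalk x))]
    (hS : algebraMap (X.presheaf.stalk x) (CAlg2.normRed (X.presheaf.stalk x)) =
      (algebraMap (CAlg2.red (X.presheaf.stalk x)) (CAlg2.normRed (X.presheaf.stalk x))).comp
        (Ideal.Quotient.mk (nilradical (X.presheaf.stalk x))))
    (z : Curv2.normalization X) (hz : Curv2.normalizationι X z = x)
    (j : Γ(Curv2.normalization X, pre U) →+* CAlg2.normRed (X.presheaf.stalk x))
    (hj : ∀ a, j ((Curv2.normalizationι X).app U a) =
      algebraMap (X.presheaf.stalk x) (CAlg2.normRed (X.presheaf.stalk x)) (X.presheaf.germ U x hx a))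
    (hint : Algebra.IsIntegral (X.presheaf.stalk x) (CAlg2.normRed (X.presheaf.stalk x)))
    (m : MaximalSpectrum (CAlg2.normRed (X.presheaf.stalk x)))
    (θ : (CAlg2.normRed (X.presheaf.stalk x) ⧸ m.asIdeal) ≃+* (Curv2.normalization X).residueField z)
    (hθ : ∀ b, θ (Ideal.Quotient.mk m.asIdeal (j b)) =
      (Curv2.normalization X).evaluation (pre U) z (show Curv2.normalizationι X z ∈ U from hz ▸ hx) b) :
    letI := ((Curv2.normalizationι X).residueFieldMap z).hom.toAlgebra
    Nonempty (Brnch.Emb (X.presheaf.stalk x) m ≃
      Field.Emb (X.residueField (Curv2.normalizationι X z)) ((Curv2.normalization X).residueField z)) := by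
  subst hz
  let _ := ((Curv2.normalizationι X).residueFieldMap z).hom.toAlgebra
  let _ := TopCat.Presheaf.algebra_section_stalk X.presheaf (⟨Curv2.normalizationι X z, hx⟩ : U)
  have := hU.isLocalization_stalk ⟨Curv2.normalizationι X z, hx⟩
  have key : θ.toRingHom.comp (Brnch.toResidue (X.presheaf.stalk (Curv2.normalizationι X z)) m) =
      ((Curv2.normalizationι X).residueFieldMap z).hom.comp
        (IsLocalRing.residue (X.presheaf.stalk (Curv2.normalizationι X z))) := by
    refine IsLocalization.ringHom_ext (hU.primeIdealOf ⟨Curv2.normalizationι X z, hx⟩).asIdeal.primeCompl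
      (RingHom.ext fun a => ?_)
    show θ (Brnch.toResidue _ m (X.presheaf.germ U _ hx a)) =
      ((Curv2.normalizationι X).residueFieldMap z).hom (X.evaluation U (Curv2.normalizationι X z) hx a)
    rw [Brnch.toResidue, ← hS, RingHom.comp_apply, ← hj, hθ]
    exact (Scheme.evaluation_naturality_apply (Curv2.normalizationι X) z hx a).symm
  have halg : Algebra.IsAlgebraic (X.residueField (Curv2.normalizationι X z))
      ((Curv2.normalization X).residueField z) := by
    refine ⟨fun l => IsIntegral.isAlgebraic ?_⟩
    obtain ⟨c, rfl⟩ : ∃ c, θ (Ideal.Quotient.mk m.asIdeal c) = l := by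
      obtain ⟨c, hc⟩ := Ideal.Quotient.mk_surjective (θ.symm l)
      exact ⟨c, by rw [hc, θ.apply_symm_apply]⟩
    obtain ⟨q, hq, hq0⟩ := hint.isIntegral c
    refine ⟨q.map (IsLocalRing.residue _), hq.map _, ?_⟩
    rw [Polynomial.eval₂_map, RingHom.algebraMap_toAlgebra]
    erw [← key]
    rw [Brnch.toResidue, ← hS, ← RingHom.comp_assoc]
    refine (Polynomial.hom_eval₂ q _ (θ.toRingHom.comp (Ideal.Quotient.mk m.asIdeal)) c).symm.trans ?_
    rw [hq0, map_zero]
  refine ⟨Equiv.trans ?_ (Field.embEquivOfIsAlgClosed (F := X.residueField (Curv2.normalizationι X z))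
    (E := (Curv2.normalization X).residueField z)
    (K := AlgebraicClosure (X.residueField (Curv2.normalizationι X z)))).symm⟩
  exact {
    toFun := fun σ =>
      { σ.1.comp θ.symm.toRingHom with
        commutes' := fun r => by
          obtain ⟨s, rfl⟩ := X.residue_surjective _ r
          show σ.1 (θ.symm _) = _
          rw [show algebraMap (X.residueField (Curv2.normalizationι X z)) ((Curv2.normalization X).residueField z)
            (X.residue _ s) = θ (Brnch.toResidue _ m s) from (RingHom.congr_fun key s).symm, RingEquiv.symm_apply_apply]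
          exact RingHom.congr_fun σ.2 s }
    invFun := fun τ => ⟨τ.toRingHom.comp θ.toRingHom, RingHom.ext fun s => by
      show τ (θ (Brnch.toResidue _ m s)) = _
      rw [show θ (Brnch.toResidue _ m s) = algebraMap _ _ (X.residue _ s) from RingHom.congr_fun key s, τ.commutes]
      rfl⟩
    left_inv := fun σ => Subtype.ext (RingHom.ext fun c => congrArg σ.1 (θ.symm_apply_apply c))
    right_inv := fun τ => AlgHom.ext fun c => congrArg τ (θ.apply_symm_apply c) }

/-- For an integral scheme X with normalization ν : X^ν → X and a point x: (1) X has as many branches at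
x as there are points of X^ν lying over x; (2) counted geometrically, the branches of X at x number
Σ_{ν(x') = x} [κ(x') : κ(x)]_s, the separable degree being counted as the number of κ(x)-embeddings
of κ(x') into an algebraic closure. (The published statement allows any scheme each of whose
quasi-compact opens meets only finitely many irreducible components; this row takes X integral.) -/
theorem result (X : Scheme.{u}) [IsIntegral X]
    [QuasiCompact (X.fromSpecStalk (genericPoint X))] [QuasiSeparated (X.fromSpecStalk (genericPoint X))]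
    (x : X) :
    Brnch.numBranchesAt X x =
        ENat.card {x' : ↥(Curv2.normalization X) // (Curv2.normalizationι X).base x' = x} ∧
      Brnch.numGeomBranchesAt X x =
        ∑' x' : {x' : ↥(Curv2.normalization X) // (Curv2.normalizationι X).base x' = x},
          (letI := ((Curv2.normalizationι X).residueFieldMap x'.1).hom.toAlgebra
           ENat.card (Field.Emb (X.residueField ((Curv2.normalizationι X).base x'.1))
             ((Curv2.normalization X).residueField x'.1))) := by
  open GrothLib.NormFib in
  obtain ⟨_, ⟨U, hU, rfl⟩, hxU, -⟩ :=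
    X.isBasis_affineOpens.exists_subset_of_mem_open (Set.mem_univ x) isOpen_univ
  have hU : IsAffineOpen U := hU
  have hne : Nonempty U := ⟨⟨x, hxU⟩⟩
  let _ := GrothLib.NormFib.chartAlgebra (X := X) U
  obtain ⟨_, _, _⟩ := GrothLib.NormFib.exists_chart hU
  let _ := TopCat.Presheaf.algebra_section_stalk X.presheaf (⟨x, hxU⟩ : U)
  have := hU.isLocalization_stalk ⟨x, hxU⟩
  have : IsScalarTower Γ(X, U) (X.presheaf.stalk x) X.functionField := functionField_isScalarTower X U ⟨x, hxU⟩
  obtain ⟨_, _, _, hC, hS⟩ := GrothLib.NormFib.exists_normRed_isIntegralClosure (X.presheaf.stalk x) X.functionField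
  obtain ⟨P, hPz, hinj, hprime, hover, hsurj⟩ := GrothLib.NormFib.primes_over hU x hxU
  obtain ⟨e, he⟩ := GrothLib.NormFib.exists_equiv (S := X.presheaf.stalk x)
    (C := CAlg2.normRed (X.presheaf.stalk x)) (K := X.functionField) (hU.primeIdealOf ⟨x, hxU⟩).asIdeal
    P hinj hprime hover hsurj
  have hmin : (minimalPrimes (X.presheaf.stalk x)).Finite := by
    rw [IsDomain.minimalPrimes_eq_singleton_bot]
    exact Set.finite_singleton _
  refine ⟨?_, ?_⟩
  · rw [Brnch.numBranchesAt, Brnch.numBranches, if_pos hmin]
    exact ENat.card_congr e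
  · rw [Brnch.numGeomBranchesAt, Brnch.numGeomBranches, if_pos hmin, ← GrothLib.NormFib.card_sigma_eq_tsum]
    refine ENat.card_congr (Equiv.sigmaCongr e fun m => Classical.choice ?_)
    have := m.isMaximal
    obtain ⟨hz, hP⟩ := hPz (e m)
    obtain ⟨hker, hgen⟩ := GrothLib.NormFib.eval_properties (GrothLib.NormFib.isAffineOpen_pre hU) (e m).1 hz
    obtain ⟨θ, hθ⟩ := GrothLib.NormFib.exists_residue_equiv (S := X.presheaf.stalk x) (K := X.functionField)
      (hU.primeIdealOf ⟨x, hxU⟩).asIdeal m.asIdeal
      ((Curv2.normalization X).evaluation (GrothLib.NormFib.pre U) (e m).1 hz).hom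
      (hker.trans ((he m).trans hP).symm) hgen
    exact emb_equiv X hU x hxU hS (e m).1 (e m).2 _ (fun a => GrothLib.NormFib.j_algebraMap a)
      (IsIntegralClosure.isIntegral_algebra (X.presheaf.stalk x) X.functionField) m θ hθ

end Groth.Agent.S7657
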