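import Groth.Statements.S7658
import Mathlib.AlgebraicGeometry.Morphisms.Separated
import Mathlib.AlgebraicGeometry.Morphisms.LocalIso

set_option autoImplicit false
universe u
open CategoryTheory CategoryTheory.Limits AlgebraicGeometry
open Variety

namespace Groth.Agent.S7658

/-- A separated morphism of schemes f : X → Y such that X has an open covering on whose members f
restricts to open immersions, and such that no two distinct generic points of irreducible components
of X have the same image under f, is an open immersion. -/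
theorem result {X Y : Scheme.{u}}
    (f : X ⟶ Y) [IsSeparated f]
    (hloc : ∀ x : X, ∃ U : X.Opens, x ∈ U ∧ IsOpenImmersion (U.ι ≫ f))
    (hinj : ∀ ξ ξ' : X, closure ({ξ} : Set X) ∈ irreducibleComponents (X : Type u) → closure ({ξ'} : Set X) ∈ irreducibleComponents (X : Type u) →
      f.base ξ = f.base ξ' → ξ = ξ') :
    IsOpenImmersion f := by
  have hmax : ∀ η : X, closure ({η} : Set X) ∈ irreducibleComponents (X : Type u) →
      ∀ w : Y, w ⤳ f η → w = f η := by
    intro η hη w hw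
    obtain ⟨U, hU, hUo⟩ := hloc η
    obtain ⟨z, hz⟩ : w ∈ Set.range (U.ι ≫ f) :=
      hw.mem_open (U.ι ≫ f).isOpenEmbedding.isOpen_range ⟨⟨η, hU⟩, rfl⟩
    have h1 : z ⤳ (⟨η, hU⟩ : U) := by
      rw [← (U.ι ≫ f).isOpenEmbedding.isInducing.specializes_iff, hz]
      exact hw
    have h2 : U.ι z ⤳ η := h1.map U.ι.continuous
    have h3 : U.ι z = η := (h2.antisymm (specializes_iff_closure_subset.mpr
      (hη.2 isIrreducible_singleton.closure (specializes_iff_closure_subset.mp h2)))).eq
    rw [← hz, Scheme.Hom.comp_apply, h3]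
  refine IsOpenImmersion.of_forall_source_exists f (fun a a' e => ?_) fun x => by
    obtain ⟨U, hU, h⟩ := hloc x
    exact ⟨U, U.ι, inferInstance, by rwa [Scheme.Opens.opensRange_ι], h⟩
  obtain ⟨U, ha, hUo⟩ := hloc a
  obtain ⟨U', ha', hUo'⟩ := hloc a'
  obtain ⟨η, hη⟩ := QuasiSober.sober (isIrreducible_irreducibleComponent (x := a)) isClosed_irreducibleComponent
  have hcl : closure ({η} : Set X) = irreducibleComponent a := hη.def
  have hηc : closure ({η} : Set X) ∈ irreducibleComponents (X : Type u) :=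
    hcl ▸ irreducibleComponent_mem_irreducibleComponents a
  have hηa : η ⤳ a := hη.specializes mem_irreducibleComponent
  have hηU : η ∈ U := hηa.mem_open U.2 ha
  have hfηa' : f η ⤳ f a' := e ▸ hηa.map f.continuous
  obtain ⟨η', hη'⟩ : f η ∈ Set.range (U'.ι ≫ f) :=
    hfηa'.mem_open (U'.ι ≫ f).isOpenEmbedding.isOpen_range ⟨⟨a', ha'⟩, rfl⟩
  have hη'a' : η' ⤳ (⟨a', ha'⟩ : U') := by
    rw [← (U'.ι ≫ f).isOpenEmbedding.isInducing.specializes_iff, hη']
    exact hfηa'
  obtain ⟨ζ, hζ⟩ := QuasiSober.sober (isIrreducible_irreducibleComponent (x := η'.1)) isClosed_irreducibleComponent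
  have hcl' : closure ({ζ} : Set X) = irreducibleComponent η'.1 := hζ.def
  have hζc : closure ({ζ} : Set X) ∈ irreducibleComponents (X : Type u) :=
    hcl' ▸ irreducibleComponent_mem_irreducibleComponents η'.1
  have hζη' : ζ ⤳ η'.1 := hζ.specializes mem_irreducibleComponent
  have hζU' : ζ ∈ U' := hζη'.mem_open U'.2 η'.2
  have hfζ : f ζ = f η := hmax η hηc _ (hη' ▸ hζη'.map f.continuous)
  have hζη : ζ = η := hinj ζ η hζc hηc hfζ
  have hηU' : η ∈ U' := hζη ▸ hζU'
  let W : X.Opens := U ⊓ U'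
  let j : (W : Scheme.{u}) ⟶ pullback (U.ι ≫ f) (U'.ι ≫ f) :=
    pullback.lift (X.homOfLE (inf_le_left : W ≤ U)) (X.homOfLE (inf_le_right : W ≤ U'))
      (by rw [Scheme.homOfLE_ι_assoc, Scheme.homOfLE_ι_assoc])
  let l : pullback (U.ι ≫ f) (U'.ι ≫ f) ⟶ pullback f f :=
    pullback.map _ _ _ _ U.ι U'.ι (𝟙 Y) (by simp) (by simp)
  have hlf : l ≫ pullback.fst f f = pullback.fst _ _ ≫ U.ι := pullback.lift_fst _ _ _
  have hls : l ≫ pullback.snd f f = pullback.snd _ _ ≫ U'.ι := pullback.lift_snd _ _ _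
  have hjf : j ≫ pullback.fst _ _ = X.homOfLE (inf_le_left : W ≤ U) := pullback.lift_fst _ _ _
  have hjs : j ≫ pullback.snd _ _ = X.homOfLE (inf_le_right : W ≤ U') := pullback.lift_snd _ _ _
  have hjl : j ≫ l = W.ι ≫ pullback.diagonal f := by
    apply pullback.hom_ext
    · rw [Category.assoc, hlf, ← Category.assoc, hjf, Category.assoc, pullback.diagonal_fst,
        Category.comp_id, Scheme.homOfLE_ι]
    · rw [Category.assoc, hls, ← Category.assoc, hjs, Category.assoc, pullback.diagonal_snd,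
        Category.comp_id, Scheme.homOfLE_ι]
  obtain ⟨w, hw₁, hw₂⟩ := Scheme.Pullback.exists_preimage_pullback (f := U.ι ≫ f) (g := U'.ι ≫ f)
    ⟨a, ha⟩ ⟨a', ha'⟩ e
  let w₀ := j ⟨η, hηU, hηU'⟩
  let p := pullback.fst (U.ι ≫ f) (U'.ι ≫ f) ≫ U.ι ≫ f
  have hw₀ : w₀ ⤳ w := by
    rw [← p.isOpenEmbedding.isInducing.specializes_iff]
    show p (j _) ⤳ p w
    rw [← Scheme.Hom.comp_apply j p, show j ≫ p = W.ι ≫ f by
      simp only [p]; rw [← Category.assoc j, hjf, Scheme.homOfLE_ι_assoc]]
    show f η ⤳ _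
    rw [show p w = f a by simp only [p, Scheme.Hom.comp_apply, hw₁]; rfl]
    exact hηa.map f.continuous
  have hmem : l w ∈ Set.range (pullback.diagonal f) := by
    refine (hw₀.map l.continuous).mem_closed (pullback.diagonal f).isClosedEmbedding.isClosed_range ?_
    exact ⟨η, by rw [show l w₀ = (j ≫ l) ⟨η, hηU, hηU'⟩ from rfl, hjl]; rfl⟩
  obtain ⟨c, hc⟩ := hmem
  have h1 := congrArg (pullback.fst f f) hc
  have h2 := congrArg (pullback.snd f f) hc
  rw [← Scheme.Hom.comp_apply, pullback.diagonal_fst, ← Scheme.Hom.comp_apply] at h1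
  rw [← Scheme.Hom.comp_apply, pullback.diagonal_snd, ← Scheme.Hom.comp_apply] at h2
  have e1 : c = a := by
    rw [hlf, Scheme.Hom.comp_apply, hw₁] at h1
    exact h1
  have e2 : c = a' := by
    rw [hls, Scheme.Hom.comp_apply, hw₂] at h2
    exact h2
  exact e1.symm.trans e2

end Groth.Agent.S7658
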