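import Groth.Statements.S7659
import Mathlib.AlgebraicGeometry.Morphisms.FiniteType
import Groth.Agent.Lib.AssPts.Points

set_option autoImplicit false
universe u
open CategoryTheory CategoryTheory.Limits AlgebraicGeometry
open Variety

namespace Groth.Agent.S7659

/-- Let f : X → S be a morphism of schemes and x a point with image s such that O_{S,s} → O_{X,x} is an
isomorphism, S is reduced with finitely many irreducible components, and f is locally of finite
type. Then f restricted to some open neighbourhood of x is an open immersion. (The published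
statement assumes f of finite type; this row assumes only that f is locally of finite type.) -/
theorem result {X S : Scheme.{u}} (f : X ⟶ S)
    [LocallyOfFiniteType f] [IsReduced S] (hS : (irreducibleComponents (S : Type u)).Finite)
    (x : X) (hx : IsIso (f.stalkMap x)) :
    ∃ U : X.Opens, x ∈ U ∧ IsOpenImmersion (U.ι ≫ f) := by
  classical
  let F : Set (Set S) := {Z ∈ irreducibleComponents (S : Type u) | f x ∉ Z}
  let O : S.Opens := ⟨(⋃₀ F)ᶜ, by
    rw [isOpen_compl_iff, Set.sUnion_eq_biUnion]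
    exact (hS.subset (Set.sep_subset _ _)).isClosed_biUnion fun Z hZ => isClosed_of_mem_irreducibleComponents Z hZ.1⟩
  have hsO : f x ∈ O := fun ⟨Z, hZ, hm⟩ => hZ.2 hm
  obtain ⟨_, ⟨V, hV, rfl⟩, hsV, hVO⟩ := S.isBasis_affineOpens.exists_subset_of_mem_open hsO O.2
  have hinjV : Function.Injective (S.presheaf.germ V (f x) hsV) := by
    rw [injective_iff_map_eq_zero]
    intro a ha
    refine eq_zero_of_basicOpen_eq_bot a ?_
    by_contra hne
    obtain ⟨z, hz⟩ := Set.nonempty_iff_ne_empty.mpr fun h => hne (TopologicalSpace.Opens.ext h)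
    obtain ⟨η, hη⟩ := QuasiSober.sober (isIrreducible_irreducibleComponent (x := z)) isClosed_irreducibleComponent
    have hηa : η ∈ S.basicOpen a := (hη.specializes mem_irreducibleComponent).mem_open (S.basicOpen a).2 hz
    have hs : η ⤳ f x := hη.specializes (by
      by_contra hn
      exact hVO (S.basicOpen_le a hz) ⟨_, ⟨irreducibleComponent_mem_irreducibleComponents z, hn⟩, mem_irreducibleComponent⟩)
    have h0 : S.presheaf.germ V η (S.basicOpen_le a hηa) a = 0 := by
      rw [← TopCat.Presheaf.germ_stalkSpecializes S.presheaf hsV hs, CommRingCat.comp_apply, ha, map_zero]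
    rw [Scheme.mem_basicOpen _ _ η (S.basicOpen_le a hηa), h0] at hηa
    exact not_isUnit_zero hηa
  obtain ⟨_, ⟨U, hU, rfl⟩, hxU, hUV⟩ := X.isBasis_affineOpens.exists_subset_of_mem_open
    (show x ∈ f ⁻¹ᵁ V from hsV) (f ⁻¹ᵁ V).2
  replace hUV : U ≤ f ⁻¹ᵁ V := hUV
  let φ := (f.appLE V U hUV).hom
  have hgφ : ∀ a, X.presheaf.germ U x hxU (φ a) = f.stalkMap x (S.presheaf.germ V (f x) hsV a) := fun a => by
    rw [Scheme.Hom.germ_stalkMap_apply]
    show X.presheaf.germ U x hxU (f.appLE V U hUV a) = _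
    rw [Scheme.Hom.appLE, CommRingCat.comp_apply, TopCat.Presheaf.germ_res_apply]
  let _ := TopCat.Presheaf.algebra_section_stalk X.presheaf (⟨x, hxU⟩ : U)
  have := hU.isLocalization_stalk ⟨x, hxU⟩
  let _ := TopCat.Presheaf.algebra_section_stalk S.presheaf (⟨f x, hsV⟩ : V)
  have := hV.isLocalization_stalk ⟨f x, hsV⟩
  have key : ∀ b : Γ(X, U), ∃ (a u : Γ(S, V)) (t : Γ(X, U)), f x ∈ S.basicOpen u ∧ x ∈ X.basicOpen t ∧
      t * (φ u * b) = t * φ a := by
    intro b
    obtain ⟨y, hy⟩ := (ConcreteCategory.bijective_of_isIso (f.stalkMap x)).2 (X.presheaf.germ U x hxU b)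
    obtain ⟨⟨a, u⟩, hau⟩ := IsLocalization.surj (hV.primeIdealOf ⟨f x, hsV⟩).asIdeal.primeCompl y
    have hu : f x ∈ S.basicOpen (u : Γ(S, V)) := (Scheme.mem_basicOpen _ _ (f x) hsV).mpr
      (IsLocalization.map_units (S.presheaf.stalk (f x)) u)
    have he : algebraMap Γ(X, U) (X.presheaf.stalk x) (φ u * b) = algebraMap _ _ (φ a) := by
      show X.presheaf.germ U x hxU _ = X.presheaf.germ U x hxU _
      rw [map_mul, hgφ, hgφ, ← hy, ← map_mul, mul_comm]
      exact congrArg _ hau
    obtain ⟨t, ht⟩ := IsLocalization.exists_of_eq (M := (hU.primeIdealOf ⟨x, hxU⟩).asIdeal.primeCompl) he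
    exact ⟨a, u, t, hu, (Scheme.mem_basicOpen _ _ x hxU).mpr (IsLocalization.map_units (X.presheaf.stalk x) t), ht⟩
  choose a u t hu ht heq using key
  have hft : φ.FiniteType := LocallyOfFiniteType.finiteType_appLE f hV hU hUV
  obtain ⟨G, hG⟩ : ∃ G : Finset Γ(X, U), Subring.closure (Set.range φ ∪ (G : Set Γ(X, U))) = ⊤ := by
    algebraize [φ]
    obtain ⟨G, hG⟩ := (Algebra.FiniteType.out : (⊤ : Subalgebra Γ(S, V) Γ(X, U)).FG)
    refine ⟨G, ?_⟩
    rw [← RingHom.algebraMap_toAlgebra φ, ← Algebra.adjoin_eq_ring_closure, hG]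
    exact Algebra.top_toSubring
  let T := ∏ g ∈ G, t g
  let w₀ := ∏ g ∈ G, u g
  have hxT : x ∈ X.basicOpen T := by
    rw [Scheme.mem_basicOpen _ _ x hxU, map_prod, IsUnit.prod_iff]
    exact fun g _ => (Scheme.mem_basicOpen _ _ x hxU).mp (ht g)
  have hsw₀ : f x ∈ S.basicOpen w₀ := by
    rw [Scheme.mem_basicOpen _ _ (f x) hsV, map_prod, IsUnit.prod_iff]
    exact fun g _ => (Scheme.mem_basicOpen _ _ (f x) hsV).mp (hu g)
  -- every element is a fraction with denominator a power of `w₀`, after multiplying with a power of `T`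
  have hall : ∀ b : Γ(X, U), ∃ (n : ℕ) (c : Γ(S, V)), T ^ n * (φ (w₀ ^ n) * b) = T ^ n * φ c := by
    intro b
    have hb : b ∈ Subring.closure (Set.range φ ∪ (G : Set Γ(X, U))) := hG ▸ trivial
    induction hb using Subring.closure_induction with
    | mem b hb =>
      rcases hb with ⟨c, rfl⟩ | hb
      · exact ⟨0, c, by simp⟩
      · obtain ⟨T', hT'⟩ := Finset.dvd_prod_of_mem t hb
        obtain ⟨u', hu'⟩ := Finset.dvd_prod_of_mem u hb
        refine ⟨1, u' * a b, ?_⟩
        rw [pow_one, pow_one, show w₀ = u b * u' from hu', show T = t b * T' from hT', map_mul, map_mul]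
        linear_combination (T' * φ u') * heq b
    | zero => exact ⟨0, 0, by simp⟩
    | one => exact ⟨0, 1, by simp⟩
    | add b c _ _ hb hc =>
      obtain ⟨n, c₁, e₁⟩ := hb
      obtain ⟨m, c₂, e₂⟩ := hc
      refine ⟨n + m, w₀ ^ m * c₁ + w₀ ^ n * c₂, ?_⟩
      simp only [pow_add, map_mul, map_add, map_pow] at e₁ e₂ ⊢
      linear_combination (T ^ m * φ w₀ ^ m) * e₁ + (T ^ n * φ w₀ ^ n) * e₂
    | neg b _ hb =>
      obtain ⟨n, c₁, e₁⟩ := hb
      refine ⟨n, -c₁, ?_⟩
      rw [map_neg]
      linear_combination -e₁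
    | mul b c _ _ hb hc =>
      obtain ⟨n, c₁, e₁⟩ := hb
      obtain ⟨m, c₂, e₂⟩ := hc
      refine ⟨n + m, c₁ * c₂, ?_⟩
      simp only [pow_add, map_mul, map_pow] at e₁ e₂ ⊢
      linear_combination (T ^ m * φ w₀ ^ m * c) * e₁ + (T ^ n * φ c₁) * e₂
  obtain ⟨N, c, hc⟩ := hall T
  have hfx : f x ∈ S.basicOpen c := by
    have h := congrArg (X.presheaf.germ U x hxU) hc
    rw [map_mul, map_mul, map_mul, map_pow, hgφ, hgφ] at h
    have hT := (Scheme.mem_basicOpen _ _ x hxU).mp hxT
    have hw := ((Scheme.mem_basicOpen _ _ (f x) hsV).mp hsw₀).pow N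
    rw [← map_pow] at hw
    have hun := ((hT.pow N).mul ((hw.map (f.stalkMap x).hom).mul hT))
    rw [h] at hun
    exact (Scheme.mem_basicOpen _ _ (f x) hsV).mpr (isUnit_of_map_unit (f.stalkMap x).hom _ (IsUnit.mul_iff.mp hun).2)
  let w := w₀ * c
  let W := S.basicOpen w
  obtain ⟨q, hq⟩ : ∃ q, q = φ w * T := ⟨_, rfl⟩
  let D := X.basicOpen q
  have hDW : D ≤ f ⁻¹ᵁ W := by
    intro z hz
    have hz' : z ∈ X.basicOpen (φ w) := by
      have := hz
      simp only [D, hq, Scheme.basicOpen_mul] at this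
      exact this.1
    rw [show φ w = f.appLE V U hUV w from rfl, Scheme.Hom.appLE, CommRingCat.comp_apply,
      Scheme.basicOpen_res, ← Scheme.preimage_basicOpen] at hz'
    exact hz'.2
  have hxD : x ∈ D := by
    simp only [D, hq, Scheme.basicOpen_mul]
    refine ⟨?_, hxT⟩
    show x ∈ X.basicOpen (φ w)
    rw [Scheme.mem_basicOpen _ _ x hxU, hgφ]
    refine ((Scheme.mem_basicOpen _ _ (f x) hsV).mp ?_).map (f.stalkMap x).hom
    simp only [w, Scheme.basicOpen_mul]
    exact ⟨hsw₀, hfx⟩
  let rD := (X.presheaf.map (homOfLE (X.basicOpen_le q)).op).hom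
  let rW := (S.presheaf.map (homOfLE (S.basicOpen_le w)).op).hom
  let ψ := (f.appLE W D hDW).hom
  have hψ : ∀ y, ψ (rW y) = rD (φ y) := fun y => by
    show (f.appLE W D hDW) (S.presheaf.map _ y) = X.presheaf.map _ (f.appLE V U hUV y)
    rw [← CommRingCat.comp_apply, ← CommRingCat.comp_apply, Scheme.Hom.map_appLE, Scheme.Hom.appLE_map]
  have hbij : Function.Bijective ψ := by
    constructor
    · rw [injective_iff_map_eq_zero]
      intro y hy
      let _ := S.presheaf.map (homOfLE (S.basicOpen_le w)).op |>.hom.toAlgebra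
      have := hV.isLocalization_basicOpen w
      obtain ⟨⟨y₀, m⟩, hm⟩ := IsLocalization.surj (Submonoid.powers w) y
      have h0 : rD (φ y₀) = 0 := by
        rw [← hψ, show rW y₀ = y * rW m from hm.symm, map_mul, hy, zero_mul]
      have h1 := congrArg (X.presheaf.germ D x hxD) h0
      rw [map_zero, show rD (φ y₀) = X.presheaf.map _ (φ y₀) from rfl, TopCat.Presheaf.germ_res_apply,
        hgφ] at h1
      have h2 : y₀ = 0 := hinjV (by
        rw [map_zero]
        exact (ConcreteCategory.bijective_of_isIso (f.stalkMap x)).1 (h1.trans (map_zero _).symm))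
      subst h2
      exact (IsLocalization.map_units Γ(S, W) m).mul_left_eq_zero.mp (hm.trans (map_zero _))
    · intro z
      let _ := X.presheaf.map (homOfLE (X.basicOpen_le q)).op |>.hom.toAlgebra
      have := hU.isLocalization_basicOpen q
      obtain ⟨⟨b, _, m, rfl⟩, hm⟩ := IsLocalization.surj (Submonoid.powers q) z
      have hur : IsUnit (rD (φ w * T)) := hq ▸ RingedSpace.isUnit_res_basicOpen _ q
      have hwu : IsUnit (rW w) := RingedSpace.isUnit_res_basicOpen _ _
      have hTu : IsUnit (rD T) := by rw [map_mul] at hur; exact (IsUnit.mul_iff.mp hur).2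
      have hφw₀ : IsUnit (rD (φ w₀)) := by
        rw [← hψ]
        rw [map_mul] at hwu
        exact (IsUnit.mul_iff.mp hwu).1.map ψ
      have hb : ∀ b, rD b ∈ ψ.range := fun b => by
        obtain ⟨n, c₁, e₁⟩ := hall b
        have e := congrArg rD e₁
        simp only [map_mul, map_pow] at e
        have e' := (hTu.pow n).mul_left_cancel e
        rw [map_mul] at hwu
        obtain ⟨i, hi⟩ := (IsUnit.mul_iff.mp hwu).1.pow n
        refine ⟨rW c₁ * ↑i⁻¹, ?_⟩
        have hi' : ψ ↑i = rD (φ w₀) ^ n := by rw [hi, map_pow, hψ]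
        rw [map_mul, hψ, ← e', ← hi', mul_comm (ψ ↑i), mul_assoc, ← map_mul, Units.mul_inv, map_one, mul_one]
      have hTr : ∃ v, ψ v * rD T = 1 := by
        have e := congrArg rD hc
        simp only [map_mul, map_pow] at e
        have e' := (hTu.pow N).mul_left_cancel e
        rw [map_mul] at hwu
        obtain ⟨j, hj⟩ := (IsUnit.mul_iff.mp hwu).2
        refine ⟨rW w₀ ^ N * ↑j⁻¹, ?_⟩
        rw [map_mul, map_pow, hψ, mul_right_comm, e', ← hψ, ← hj, ← map_mul, Units.mul_inv, map_one]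
      obtain ⟨v, hv⟩ := hTr
      obtain ⟨i, hi⟩ := hwu
      obtain ⟨y, hy⟩ := hb b
      refine ⟨y * (↑i⁻¹ * v) ^ m, ?_⟩
      refine (hur.pow m).mul_left_injective (Eq.trans ?_ (Eq.trans hm.symm (by rw [← map_pow, ← hq]; rfl)))
      have hone : ψ (↑i⁻¹ * v) * rD (φ w * T) = 1 := by
        rw [map_mul, map_mul, ← hψ, ← hi, mul_mul_mul_comm, ← map_mul, Units.inv_mul, map_one, one_mul, hv]
      simp only [map_mul, map_pow, hy] at hone ⊢
      rw [mul_assoc, ← mul_pow, hone, one_pow, mul_one]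
      rfl
  refine ⟨D, hxD, ?_⟩
  have hD : IsAffineOpen D := hU.basicOpen _
  have hW : IsAffineOpen W := hV.basicOpen w
  have : IsIso (f.appLE W D hDW) := (ConcreteCategory.isIso_iff_bijective _).mpr hbij
  have h : IsOpenImmersion (hD.fromSpec ≫ f) := by
    rw [← IsAffineOpen.SpecMap_appLE_fromSpec f hW hD hDW]
    infer_instance
  rw [show D.ι = hD.isoSpec.hom ≫ hD.fromSpec from hD.isoSpec_hom_fromSpec.symm, Category.assoc]
  infer_instance

end Groth.Agent.S7659
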