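import Groth.Statements.S7660
import Groth.Agent.Lib.AffUnion.Gener

set_option autoImplicit false
universe u
open CategoryTheory CategoryTheory.Limits AlgebraicGeometry
open Variety

namespace Groth.Agent.S7660

open GrothLib.AffUnion TopologicalSpace

/-- For a morphism of schemes f : T → X with T affine and X quasi-separated with finitely many
irreducible components, assume f sends the generic point of each irreducible component of T to the
generic point of an irreducible component of X, and distinct such points to distinct points, and let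
t_1, …, t_m ∈ T be points at which O_{X, f(t_j)} → O_{T, t_j} is an isomorphism. Then there is an
affine open of X containing f(t_1), …, f(t_m). -/
theorem result {T X : Scheme.{u}} (f : T ⟶ X)
    [IsAffine T] [QuasiSeparatedSpace X] (hX : (irreducibleComponents (X : Type u)).Finite)
    (hgen : ∀ η : T, closure ({η} : Set T) ∈ irreducibleComponents (T : Type u) → closure ({(f.base η)} : Set X) ∈ irreducibleComponents (X : Type u))
    (hinj : ∀ η η' : T, closure ({η} : Set T) ∈ irreducibleComponents (T : Type u) → closure ({η'} : Set T) ∈ irreducibleComponents (T : Type u) → f.base η = f.base η' → η = η')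
    (s : Finset T) (hs : ∀ t ∈ s, IsIso (f.stalkMap t)) :
    ∃ U : X.Opens, IsAffineOpen U ∧ ∀ t ∈ s, f.base t ∈ U := by
  classical
  have : ∀ i : s, IsIso (f.stalkMap i.1) := fun i => hs i.1 i.2
  choose A hA hxA using fun i : s => (show ∃ A : X.Opens, IsAffineOpen A ∧ f i.1 ∈ A by
    obtain ⟨_, ⟨A, hA, rfl⟩, h, -⟩ :=
      X.isBasis_affineOpens.exists_subset_of_mem_open (Set.mem_univ (f i.1)) isOpen_univ
    exact ⟨A, hA, h⟩)
  choose b hb hib using fun i : s =>
    (isAffineOpen_top T).exists_basicOpen_le (⟨i.1, hxA i⟩ : (f ⁻¹ᵁ A i : T.Opens)) (Opens.mem_top _)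
  choose N σ hσ hσA using fun i : s =>
    exists_section f hgen hinj (fun j : s => j.1) (b i) (A i) (hb i)
  have hmem : ∀ j : s, f j.1 ∈ Finset.univ.inf N :=
    fun j => mem_finset_inf _ _ fun i _ => (hσ i j).1
  choose V hV hxV hVN using fun j : s => (show ∃ V : X.Opens, IsAffineOpen V ∧ f j.1 ∈ V ∧ V ≤ Finset.univ.inf N by
    obtain ⟨_, ⟨V, hV, rfl⟩, h, hle⟩ :=
      X.isBasis_affineOpens.exists_subset_of_mem_open (hmem j) (Finset.univ.inf N).2
    exact ⟨V, hV, h, hle⟩)
  have hle : ∀ i, (⨆ j, V j) ≤ N i := fun i =>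
    iSup_le fun j => (hVN j).trans (Finset.inf_le (Finset.mem_univ i))
  have hc : IsCompact ((⨆ j, V j : X.Opens) : Set X) := by
    rw [Opens.coe_iSup]
    exact isCompact_iUnion fun j => (hV j).isCompact
  choose k hk hka using fun i : s =>
    exists_affine_basicOpen hc (X.presheaf.map (homOfLE (hle i)).op (σ i)) (hA i)
      (by rw [Scheme.basicOpen_res]; exact inf_le_right.trans (hσA i)) (y := f i.1) (by
        rw [Scheme.basicOpen_res]
        exact ⟨Opens.mem_iSup.mpr ⟨i, hxV i⟩, ((hσ i i).mem_basicOpen_iff f).mpr (hib i)⟩)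
  obtain ⟨U, hU, hyU⟩ := exists_isAffineOpen_of_basicOpen (fun i : s => f i.1) k hk hka
  exact ⟨U, hU, fun t ht => hyU ⟨t, ht⟩⟩

end Groth.Agent.S7660
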