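import Groth.Statements.S7661
import Mathlib.RingTheory.Ideal.Operations

set_option autoImplicit false
universe u
open CategoryTheory CategoryTheory.Limits AlgebraicGeometry
open Variety

namespace Groth.Agent.S7661

/-- Let A be a ring, I an ideal, p_1, …, p_r prime ideals with I ⊄ p_i for all i, and let f̄ ∈ A/I. Then
f̄ lifts to an element f ∈ A with f ∉ p_i for all i. -/
theorem result (A : Type u) [CommRing A] (I : Ideal A)
    (s : Finset (Ideal A)) (hs : ∀ p ∈ s, p.IsPrime) (hI : ∀ p ∈ s, ¬ I ≤ p) (fbar : A ⧸ I) :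
    ∃ f : A, Ideal.Quotient.mk I f = fbar ∧ ∀ p ∈ s, f ∉ p := by
  classical
  obtain ⟨f₀, rfl⟩ := Ideal.Quotient.mk_surjective fbar
  let S := s.filter fun p => ∀ q ∈ s, p ≤ q → p = q
  let T := S.filter fun p => f₀ ∈ p
  let J : Ideal A := I * ∏ q ∈ S.filter (fun q => f₀ ∉ q), q
  have hnot : ∀ p ∈ T, ¬ J ≤ p := by
    intro p hp h
    obtain ⟨hpS, hf⟩ := Finset.mem_filter.mp hp
    obtain ⟨hps, hmax⟩ := Finset.mem_filter.mp hpS
    rcases (hs p hps).mul_le.mp h with h' | h'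
    · exact hI p hps h'
    · obtain ⟨q, hq, hqp⟩ := ((hs p hps).prod_le).mp h'
      obtain ⟨hqS, hfq⟩ := Finset.mem_filter.mp hq
      obtain ⟨hqs, hqmax⟩ := Finset.mem_filter.mp hqS
      exact hfq (hqmax p hps hqp ▸ hf)
  obtain ⟨x, hxJ, hx⟩ : ∃ x ∈ J, ∀ p ∈ T, x ∉ p := by
    by_contra! hc
    have hsub : (J : Set A) ⊆ ⋃ p ∈ (T : Set (Ideal A)), (id p : Ideal A) := fun z hz => by
      obtain ⟨p, hp, hzp⟩ := hc z hz
      exact Set.mem_biUnion hp hzp
    obtain ⟨p, hp, hle⟩ := (Ideal.subset_union_prime (f := id) ⊥ ⊥ (fun i hi _ _ =>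
      hs i (Finset.mem_filter.mp (Finset.mem_filter.mp hi).1).1)).mp hsub
    exact hnot p hp hle
  refine ⟨f₀ + x, ?_, ?_⟩
  · rw [map_add, Ideal.Quotient.eq_zero_iff_mem.mpr (Ideal.mul_le_left hxJ), add_zero]
  · intro p hp hfp
    obtain ⟨q, hq, hqmax⟩ := (s.filter fun q => p ≤ q).exists_maximal ⟨p, Finset.mem_filter.mpr ⟨hp, le_rfl⟩⟩
    obtain ⟨hqs, hpq⟩ := Finset.mem_filter.mp hq
    have hqS : q ∈ S := Finset.mem_filter.mpr ⟨hqs, fun r hr hle =>
      le_antisymm hle (hqmax (Finset.mem_filter.mpr ⟨hr, hpq.trans hle⟩) hle)⟩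
    by_cases hf : f₀ ∈ q
    · exact hx q (Finset.mem_filter.mpr ⟨hqS, hf⟩) ((Ideal.add_mem_iff_right _ hf).mp (hpq hfp))
    · have hxq : x ∈ q := by
        have h1 : J ≤ q := Ideal.mul_le_right.trans (Ideal.prod_le_inf.trans
          (Finset.inf_le (f := id) (Finset.mem_filter.mpr ⟨hqS, hf⟩)))
        exact h1 hxJ
      exact hf ((Ideal.add_mem_iff_left _ hxq).mp (hpq hfp))

end Groth.Agent.S7661
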