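import Groth.Statements.S7664
import Groth.Agent.Lib.SemiLoc.Glue
import Groth.Agent.Lib.SemiLoc.Dominate

set_option autoImplicit false
universe u
open CategoryTheory CategoryTheory.Limits AlgebraicGeometry
open Variety

namespace Groth.Agent.S7664

/-- Let K be a field, A ⊆ K a Noetherian semi-local domain of dimension one and B ⊆ K a discrete
valuation ring, both with fraction field K, and R = A ∩ B. (a) If some unit of A does not lie in R,
then Spec A and Spec B each map to Spec R by an open immersion, Spec R is the union of the two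
images, and the natural map A ⊗_R B → K is an isomorphism. (b) If every unit of A lies in R, then B
dominates the local ring of A at one of its maximal ideals (A ⊆ B and the maximal ideal of B
contracts to a maximal ideal of A) and A ⊗ B → K is not surjective. -/
theorem result (K : Type u) [Field K]
    (A : Subring K) [IsFractionRing A K] [IsNoetherianRing A] (hdim : ringKrullDim A = 1) (hsl : Finite (MaximalSpectrum A))
    (B : ValuationSubring K) [IsDiscreteValuationRing B] :
    ((∃ u : A, IsUnit u ∧ (u : K) ∉ B) →
      IsOpenImmersion (Spec.map (CommRingCat.ofHom (Subring.inclusion (inf_le_left : A ⊓ B.toSubring ≤ A)))) ∧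
      IsOpenImmersion (Spec.map (CommRingCat.ofHom (Subring.inclusion (inf_le_right : A ⊓ B.toSubring ≤ B.toSubring)))) ∧
      Set.range (Spec.map (CommRingCat.ofHom (Subring.inclusion (inf_le_left : A ⊓ B.toSubring ≤ A)))).base ∪
        Set.range (Spec.map (CommRingCat.ofHom (Subring.inclusion (inf_le_right : A ⊓ B.toSubring ≤ B.toSubring)))).base = Set.univ ∧
      IsPushout (CommRingCat.ofHom (Subring.inclusion (inf_le_left : A ⊓ B.toSubring ≤ A)))
        (CommRingCat.ofHom (Subring.inclusion (inf_le_right : A ⊓ B.toSubring ≤ B.toSubring)))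
        (CommRingCat.ofHom A.subtype) (CommRingCat.ofHom B.toSubring.subtype)) ∧
    ((∀ u : A, IsUnit u → (u : K) ∈ B) →
      (∃ h : A ≤ B.toSubring,
        (Ideal.comap (Subring.inclusion h) (IsLocalRing.maximalIdeal B)).IsMaximal) ∧ A ⊔ B.toSubring ≠ ⊤) := by
  have hA := GrothLib.SemiLoc.isOneDim_of_ringKrullDim_eq_one A hdim
  have hB := GrothLib.SemiLoc.isOneDim_of_dvr B
  have hfB : Finite (MaximalSpectrum B.toSubring) := by
    refine Finite.of_injective (fun _ => ()) fun a b _ => MaximalSpectrum.ext ?_
    exact (IsLocalRing.eq_maximalIdeal (R := B) a.isMaximal).trans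
      (IsLocalRing.eq_maximalIdeal (R := B) b.isMaximal).symm
  constructor
  · rintro ⟨u, hu, huB⟩
    have hgen : A ⊔ B.toSubring = ⊤ := by
      by_contra hne
      obtain ⟨O, hO, hAO, hBO⟩ := GrothLib.SemiLoc.exists_dvr_of_sup_ne_top hA B.toSubring hne
      exact huB (GrothLib.SemiLoc.eq_of_le_of_dvr B O hBO ▸ hAO u.2)
    let G : GrothLib.SemiLoc.Glue Bool K :=
      { A := fun b => cond b A B.toSubring
        R := A ⊓ B.toSubring
        mem_iff := fun x => by simp [Bool.forall_bool, Subring.mem_inf, and_comm]
        oneDim := fun b => by cases b <;> assumption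
        semilocal := fun b => by cases b <;> assumption
        gen := fun i j h => by cases i <;> cases j <;> simp_all [sup_comm] }
    refine ⟨G.isOpenImmersion true, G.isOpenImmersion false, ?_,
      G.isPushout (i := true) (j := false) (by decide)⟩
    apply Set.eq_univ_of_forall
    intro p
    obtain ⟨b, hb⟩ := Set.mem_iUnion.mp (G.iUnion_range.ge (Set.mem_univ p))
    cases b
    · exact Or.inr hb
    · exact Or.inl hb
  · intro hu
    have h : A ≤ B.toSubring := GrothLib.SemiLoc.le_of_units_le hA hsl B hu
    refine ⟨⟨h, ?_⟩, ?_⟩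
    · have := hA.dimLE
      refine ((IsLocalRing.maximalIdeal B).comap_isPrime (Subring.inclusion h)).isMaximal ?_
      exact hA.mem_span_ne_bot_of_valuation B h fun hBt => GrothLib.SemiLoc.ne_top_of_dvr B (by rw [hBt]; rfl)
    · rw [sup_eq_right.mpr h]
      exact GrothLib.SemiLoc.ne_top_of_dvr B

end Groth.Agent.S7664
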