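import Groth.Statements.S7666
import Groth.Agent.Lib.SemiLoc.MinPrimes

set_option autoImplicit false
universe u
open CategoryTheory CategoryTheory.Limits AlgebraicGeometry
open Variety

namespace Groth.Agent.S7666

/-- Let A be a one-dimensional Noetherian local ring and L = ∏ A_p, the product over the minimal primes
of A. If a_1, a_2 ∈ m_A have the same image in L, then a_1 and a_2 have equal n-th powers for some
positive integer n. -/
theorem result (A : Type u) [CommRing A]
    [IsLocalRing A] [IsNoetherianRing A] (hdim : ringKrullDim A = 1)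
    (a₁ a₂ : A) (h₁ : a₁ ∈ IsLocalRing.maximalIdeal A) (h₂ : a₂ ∈ IsLocalRing.maximalIdeal A)
    (heq : ∀ p : {p : PrimeSpectrum A // p.asIdeal ∈ minimalPrimes A},
      algebraMap A (Localization.AtPrime p.1.asIdeal) a₁ = algebraMap A (Localization.AtPrime p.1.asIdeal) a₂) :
    ∃ n : ℕ, 0 < n ∧ a₁ ^ n = a₂ ^ n := by
  have hd : algebraMap A (GrothLib.SemiLoc.MinProd A) (a₁ - a₂) = 0 := by
    funext p
    show algebraMap A (Localization.AtPrime p.1.asIdeal) (a₁ - a₂) = 0
    rw [map_sub, heq p, sub_self]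
  obtain ⟨k, hk⟩ := GrothLib.SemiLoc.exists_pow_mul_eq_zero hdim hd
  obtain ⟨e, he⟩ := GrothLib.SemiLoc.isNilpotent_of_map_eq_zero hd
  refine ⟨k + e + 1, Nat.succ_pos _, ?_⟩
  conv_lhs => rw [show a₁ = (a₁ - a₂) + a₂ by ring, add_pow]
  rw [Finset.sum_eq_single 0]
  · simp
  · intro i hi h0
    obtain ⟨j, rfl⟩ : ∃ j, i = j + 1 := ⟨i - 1, by omega⟩
    rcases le_or_gt e (j + 1) with h | h
    · rw [pow_eq_zero_of_le h he]; simp
    · have hm : a₂ ^ (k + e + 1 - (j + 1)) * (a₁ - a₂) = 0 :=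
        hk _ (Ideal.pow_le_pow_right (by omega) (Ideal.pow_mem_pow h₂ _))
      rw [pow_succ (a₁ - a₂) j, mul_assoc ((a₁ - a₂) ^ j), mul_comm (a₁ - a₂) _, hm]
      simp
  · intro h; simp at h

end Groth.Agent.S7666
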