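import Groth.Statements.S7667
import Groth.Agent.Lib.SemiLoc.MinPrimes

set_option autoImplicit false
universe u
open CategoryTheory CategoryTheory.Limits AlgebraicGeometry
open Variety

namespace Groth.Agent.S7667

/-- Let A be a one-dimensional Noetherian local ring, L the product of the localizations A_p over its
minimal primes p, and I the intersection of those primes (the nilradical of A). If f ∈ L equals i +
a with a in the maximal ideal of A and i ∈ I·L, then for some positive integer n, f^n belongs to the
subring of L obtained as the image of the structure map from A. -/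
theorem result (A : Type u) [CommRing A]
    [IsLocalRing A] [IsNoetherianRing A] (hdim : ringKrullDim A = 1)
    (a : A) (ha : a ∈ IsLocalRing.maximalIdeal A)
    (i : ∀ p : {p : PrimeSpectrum A // p.asIdeal ∈ minimalPrimes A}, Localization.AtPrime p.1.asIdeal)
    (hi : i ∈ (nilradical A).map (algebraMap A (∀ p : {p : PrimeSpectrum A // p.asIdeal ∈ minimalPrimes A}, Localization.AtPrime p.1.asIdeal))) :
    ∃ n : ℕ, 0 < n ∧ (i + algebraMap A (∀ p : {p : PrimeSpectrum A // p.asIdeal ∈ minimalPrimes A}, Localization.AtPrime p.1.asIdeal) a) ^ n ∈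
      (algebraMap A (∀ p : {p : PrimeSpectrum A // p.asIdeal ∈ minimalPrimes A}, Localization.AtPrime p.1.asIdeal)).range := by
  classical
  let φ := algebraMap A (GrothLib.SemiLoc.MinProd A)
  have hnil : IsNilpotent i := by
    have hle : (nilradical A).map φ ≤ nilradical (GrothLib.SemiLoc.MinProd A) :=
      Ideal.map_le_iff_le_comap.mpr fun x hx => IsNilpotent.map (mem_nilradical.mp hx) φ
    exact mem_nilradical.mp (hle hi)
  obtain ⟨e, he⟩ := hnil
  choose k hk using fun j : ℕ => GrothLib.SemiLoc.exists_pow_mem_range hdim (i ^ j)
  let N := (Finset.range e).sup k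
  refine ⟨N + e + 1, Nat.succ_pos _, ?_⟩
  rw [add_pow]
  refine Subring.sum_mem _ fun j hj => ?_
  rcases le_or_gt e j with h | h
  · rw [pow_eq_zero_of_le h he, zero_mul, zero_mul]
    exact Subring.zero_mem _
  · refine Subring.mul_mem _ ?_ (natCast_mem _ _)
    rw [← map_pow, mul_comm]
    refine hk j _ (Ideal.pow_le_pow_right ?_ (Ideal.pow_mem_pow ha _))
    have : k j ≤ N := Finset.le_sup (Finset.mem_range.mpr h)
    omega

end Groth.Agent.S7667
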