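import Groth.Statements.S7668
import Mathlib.RingTheory.Localization.Ideal
import Mathlib.RingTheory.Ideal.Operations

set_option autoImplicit false
universe u
open CategoryTheory CategoryTheory.Limits AlgebraicGeometry
open Variety

namespace Groth.Agent.S7668

/-- Let A be a ring, p_1, …, p_r primes of A and S = A ∖ ⋃ p_i. Then S is a multiplicative subset, S⁻¹A
is semi-local, and contraction to A is a bijection from the maximal ideals of S⁻¹A onto the maximal
elements of {p_1, …, p_r}. -/
theorem result (A : Type u) [CommRing A]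
    (r : ℕ) (p : Fin r → PrimeSpectrum A) :
    Finite (MaximalSpectrum (Localization (⨅ i, (p i).asIdeal.primeCompl))) ∧
      Set.BijOn (fun m : Ideal (Localization (⨅ i, (p i).asIdeal.primeCompl)) =>
          m.comap (algebraMap A (Localization (⨅ i, (p i).asIdeal.primeCompl))))
        {m | m.IsMaximal}
        {q | q ∈ Set.range (fun i => (p i).asIdeal) ∧
          ∀ j, q ≤ (p j).asIdeal → q = (p j).asIdeal} := by
  classical
  set S : Submonoid A := ⨅ i, (p i).asIdeal.primeCompl with hS
  let L := Localization S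
  let φ := algebraMap A L
  have hdisj : ∀ i, ∀ q : Ideal A, q ≤ (p i).asIdeal → Disjoint (S : Set A) q := fun i q hq =>
    Set.disjoint_left.mpr fun x hx hxq => (Submonoid.mem_iInf.mp hx i) (hq hxq)
  have hsub : ∀ m : Ideal L, m.IsPrime → ∃ i, m.comap φ ≤ (p i).asIdeal := by
    intro m hm
    have hd := ((IsLocalization.isPrime_iff_isPrime_disjoint S L m).mp hm).2
    by_contra! h
    have hu : (m.comap φ : Set A) ⊆ ⋃ i ∈ ((Finset.univ : Finset (Fin r)) : Set (Fin r)), ((p i).asIdeal : Set A) := by
      intro x hx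
      by_contra hx'
      simp only [Finset.coe_univ, Set.mem_univ, Set.iUnion_true, Set.mem_iUnion, not_exists] at hx'
      exact Set.disjoint_left.mp hd (Submonoid.mem_iInf.mpr hx') hx
    rcases Nat.eq_zero_or_pos r with rfl | hr
    · have := hu ((m.comap φ).zero_mem); simp at this
    · obtain ⟨i, -, hi⟩ := (Ideal.subset_union_prime (f := fun i => (p i).asIdeal) ⟨0, hr⟩ ⟨0, hr⟩
        (fun i _ _ _ => (p i).isPrime)).mp hu
      exact h i hi
  have hover : ∀ i, ∃ P : Ideal L, P.IsPrime ∧ P.comap φ = (p i).asIdeal := by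
    intro i
    exact ⟨(p i).asIdeal.map φ,
      IsLocalization.isPrime_of_isPrime_disjoint S L _ (p i).isPrime (hdisj i _ le_rfl),
      IsLocalization.under_map_of_isPrime_disjoint S L (p i).isPrime (hdisj i _ le_rfl)⟩
  have hmono : ∀ {m m' : Ideal L}, m.comap φ ≤ m'.comap φ → m ≤ m' := fun {m m'} h =>
    (IsLocalization.orderEmbedding S L).le_iff_le.mp h
  have hbij : Set.BijOn (fun m : Ideal L => m.comap φ) {m | m.IsMaximal}
      {q | q ∈ Set.range (fun i => (p i).asIdeal) ∧ ∀ j, q ≤ (p j).asIdeal → q = (p j).asIdeal} := by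
    refine ⟨?_, ?_, ?_⟩
    · intro m hm
      have hm' : Ideal.IsMaximal m := hm
      have key : ∀ j, m.comap φ ≤ (p j).asIdeal → m.comap φ = (p j).asIdeal := by
        intro j hj
        obtain ⟨P, hP, hPj⟩ := hover j
        rw [← hPj] at hj ⊢
        rw [hm'.eq_of_le hP.ne_top (hmono hj)]
      obtain ⟨i, hi⟩ := hsub m hm'.isPrime
      exact ⟨⟨i, (key i hi).symm⟩, key⟩
    · intro a _ b _ hab
      exact le_antisymm (hmono hab.le) (hmono hab.ge)
    · rintro q ⟨⟨i, rfl⟩, hmax⟩
      obtain ⟨P, hP, hPi⟩ := hover i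
      obtain ⟨M, hM, hPM⟩ := Ideal.exists_le_maximal P hP.ne_top
      obtain ⟨j, hj⟩ := hsub M hM.isPrime
      have hiM : (p i).asIdeal ≤ M.comap φ := by rw [← hPi]; exact Ideal.comap_mono hPM
      refine ⟨M, hM, le_antisymm ?_ hiM⟩
      exact hj.trans (hmax j (hiM.trans hj)).ge
  refine ⟨?_, hbij⟩
  have hfin : {m : Ideal L | m.IsMaximal}.Finite :=
    hbij.finite_iff_finite.mpr ((Set.finite_range fun i => (p i).asIdeal).subset fun q hq => hq.1)
  have := hfin.to_subtype
  exact Finite.of_injective (fun m : MaximalSpectrum L => (⟨m.asIdeal, m.isMaximal⟩ : {m : Ideal L | m.IsMaximal}))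
    fun a b h => MaximalSpectrum.ext (congrArg Subtype.val h :)

end Groth.Agent.S7668
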