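import Groth.Agent.Lib.PicAff26.Bijective
import Groth.Prelude.Def_Coh
import Groth.Prelude.Def_CohB1
import Groth.Prelude.Def_Curv2
import Groth.Prelude.Def_Pi1

set_option autoImplicit false
namespace Variety
end Variety
universe u
open CategoryTheory CategoryTheory.Limits AlgebraicGeometry
open Variety

namespace Groth.Agent.S7672

/-- Let X be a normal variety over a field k, U an open of affine n-space over k containing two k-points
p and q, and L an invertible module on X ×_k U. Then L|_{X × p} ≅ L|_{X × q}; here the two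
restrictions are compared on X through the sections σ_p, σ_q : X → X ×_k U determined by p and q. -/
theorem result (k : Type u) [Field k] (X : Scheme.{u}) [X.Over (Spec (CommRingCat.of k))]
    [IsIntegral X] (hN : Pi1.IsNormalScheme X) [IsSeparated (X ↘ (Spec (CommRingCat.of k)))]
    [LocallyOfFiniteType (X ↘ (Spec (CommRingCat.of k)))] [QuasiCompact (X ↘ (Spec (CommRingCat.of k)))]
    (n : ℕ) (U : (𝔸(ULift.{u} (Fin n); Spec (CommRingCat.of k))).Opens)
    (p q : Spec (CommRingCat.of k) ⟶ (↑U : Scheme.{u}))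
    (hp : p ≫ U.ι ≫ (𝔸(ULift.{u} (Fin n); Spec (CommRingCat.of k)) ↘ Spec (CommRingCat.of k)) = 𝟙 _)
    (hq : q ≫ U.ι ≫ (𝔸(ULift.{u} (Fin n); Spec (CommRingCat.of k)) ↘ Spec (CommRingCat.of k)) = 𝟙 _)
    (σp σq : X ⟶ pullback (X ↘ (Spec (CommRingCat.of k)))
      (U.ι ≫ (𝔸(ULift.{u} (Fin n); Spec (CommRingCat.of k)) ↘ Spec (CommRingCat.of k))))
    (hσp₁ : σp ≫ pullback.fst _ _ = 𝟙 X) (hσp₂ : σp ≫ pullback.snd _ _ = (X ↘ (Spec (CommRingCat.of k))) ≫ p)
    (hσq₁ : σq ≫ pullback.fst _ _ = 𝟙 X) (hσq₂ : σq ≫ pullback.snd _ _ = (X ↘ (Spec (CommRingCat.of k))) ≫ q)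
    (L : (pullback (X ↘ (Spec (CommRingCat.of k)))
      (U.ι ≫ (𝔸(ULift.{u} (Fin n); Spec (CommRingCat.of k)) ↘ Spec (CommRingCat.of k)))).Modules)
    (hL : PicF.IsInvertible L) :
    Nonempty ((Scheme.Modules.pullback σp).obj L ≅ (Scheme.Modules.pullback σq).obj L) := by
  haveI : IsLocallyNoetherian X := LocallyOfFiniteType.isLocallyNoetherian (X ↘ (Spec (CommRingCat.of k)))
  let π := pullback.fst (X ↘ (Spec (CommRingCat.of k)))
    (U.ι ≫ (𝔸(ULift.{u} (Fin n); Spec (CommRingCat.of k)) ↘ Spec (CommRingCat.of k)))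
  let l := GrothLib.Cube.clsMod hL
  have h := GrothLib.PicAff26.pic_eq_one (fun y => (hN y).2) U (X ↘ (Spec (CommRingCat.of k))) σp hσp₁
    (l * (GrothLib.Cube.pull π (GrothLib.Cube.pull σp l))⁻¹) (by
      rw [map_mul, map_inv, GrothLib.Cube.pull_comp, hσp₁, GrothLib.Cube.pull_id, mul_inv_cancel])
  have h' : GrothLib.Cube.pull σq l = GrothLib.Cube.pull σp l := by
    conv_lhs => rw [mul_inv_eq_one.mp h]
    rw [GrothLib.Cube.pull_comp, hσq₁, GrothLib.Cube.pull_id]
  rw [← GrothLib.Cube.clsMod_eq_iff (GrothLib.Ample.isInvertible_pullback σp hL)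
    (GrothLib.Ample.isInvertible_pullback σq hL), GrothLib.Cube.clsMod_pullback σp hL,
    GrothLib.Cube.clsMod_pullback σq hL]
  exact h'.symm

end Groth.Agent.S7672
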