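import Groth.Statements.S7675
import Groth.Agent.Lib.ProjDim.Inter

set_option autoImplicit false
universe u
open CategoryTheory CategoryTheory.Limits AlgebraicGeometry
open Variety

namespace Groth.Agent.S7675

/-- Let k be a field, n ≥ 0 and X, Y ⊆ P^n_k nonempty closed subsets of dimensions r and s with r + s ≥
n. Then X ∩ Y is nonempty and dim(X ∩ Y) ≥ r + s − n. -/
theorem result (k : Type u) [Field k] (n r s : ℕ)
    (X Y : Set ↥(CohB1.ProjSpace n k)) (hX : IsClosed X) (hY : IsClosed Y)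
    (hXne : X.Nonempty) (hYne : Y.Nonempty)
    (hXr : topologicalKrullDim X = r) (hYs : topologicalKrullDim Y = s) (hrs : n ≤ r + s) :
    (X ∩ Y).Nonempty ∧ ((r + s : ℕ) : WithBot ℕ∞) ≤ topologicalKrullDim ↥(X ∩ Y) + (n : WithBot ℕ∞) := by
  let X' : Set (ProjectiveSpectrum (CohB1.polyGrading n k)) := X
  let Y' : Set (ProjectiveSpectrum (CohB1.polyGrading n k)) := Y
  have hX' : IsClosed X' := hX
  have hY' : IsClosed Y' := hY
  obtain ⟨x, hxX, hxr⟩ := GrothLib.ProjDim.exists_point_le_dim hX' hXne r hXr.ge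
  obtain ⟨y, hyY, hys⟩ := GrothLib.ProjDim.exists_point_le_dim hY' hYne s hYs.ge
  obtain ⟨z, hxz, hyz, hz⟩ := GrothLib.ProjDim.exists_common_specialization x y hxr hys hrs
  have hzXY : z ∈ X' ∩ Y' := ⟨hxz.mem_closed hX' hxX, hyz.mem_closed hY' hyY⟩
  refine ⟨⟨z, hzXY⟩, hz.trans (add_le_add ?_ le_rfl)⟩
  exact (Topology.IsEmbedding.inclusion (closure_minimal (Set.singleton_subset_iff.2 hzXY)
    (hX'.inter hY'))).isInducing.topologicalKrullDim_le

end Groth.Agent.S7675
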