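import Groth.Statements.S7677
import Groth.Agent.Lib.SerreVanish.Main
import Groth.Agent.Lib.Chow.Prod
import Groth.Agent.Lib.Ample.ProjAmple
import Groth.Agent.Lib.Euler.Basic

set_option autoImplicit false
universe u
open CategoryTheory CategoryTheory.Limits AlgebraicGeometry
open Variety

namespace Groth.Agent.S7677

theorem nonempty_tensor_iso {X : Scheme.{u}} (C : GrothLib.Ample.Cocycle X) (F T : X.Modules) (m : ℕ)
    (e : T ≅ C.twist m) : Nonempty (CohB1.tensorMod F T ≅ C.modTwist F m) :=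
  ⟨((DCoh.tensorBi (X := X)).obj F).mapIso e ≪≫ (C.nonempty_tensor_modTwist F m).some⟩

/-- Let k be a field, n ≥ 0 and F a coherent module on P^n_k with Hilbert polynomial P, i.e. χ(P^n_k,
F(d)) = P(d) for all d. Then P(d) = dim_k H^0(P^n_k, F(d)) for all d ≫ 0. -/
theorem result (k : Type u) [Field k] (n : ℕ)
    (F : (CohB1.ProjSpace n k).Modules) (hF : Coh.IsCoh F) (P : Polynomial ℚ)
    (hP : ∀ d : ℤ, (Curv2.euler k (CohB1.ProjSpace n k)
      (CohB1.tensorMod F (Twist.twistProjSpace n k d)) : ℚ) = P.eval (d : ℚ)) :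
    ∃ d₀ : ℤ, ∀ d : ℤ, d₀ ≤ d →
      P.eval (d : ℚ) = (Module.finrank k (Coh.HH (CohB1.ProjSpace n k)
        (CohB1.tensorMod F (Twist.twistProjSpace n k d)) 0) : ℚ) := by
  classical
  haveI : IsProper ((CohB1.ProjSpace n k) ↘ Spec (CommRingCat.of k)) := GrothLib.Chow.isProper_toSpec n k
  haveI := GrothLib.Euler.isNoetherian_of_proper (X := CohB1.ProjSpace n k) k
  let C : GrothLib.Ample.Cocycle (CohB1.ProjSpace n k) := GrothLib.Ample.ProjTwist.cocycle (CohB1.polyGrading n k)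
    (fun i : ULift.{u} (Fin (n + 1)) => (MvPolynomial.X i.down : MvPolynomial (Fin (n + 1)) k))
    (fun i => GrothLib.Ample.ProjMap.X_mem i.down)
    (by
      rw [← GrothLib.Ample.ProjMap.iSup_basicOpen_X n k]
      exact (Equiv.ulift.{u}).iSup_comp (g := fun i : Fin (n + 1) => Proj.basicOpen (CohB1.polyGrading n k) (MvPolynomial.X i)))
  let e : ∀ d : ℕ, Twist.twistProjSpace n k (d : ℤ) ≅ C.twist d := fun d =>
    (@asIso _ _ _ _ _ (GrothLib.Ample.ProjTwist.isIso_toTwist (CohB1.polyGrading n k) _ _ _ d)).symm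
  have e1 : Twist.twistProjSpace n k 1 ≅ C.twist 1 := eqToIso (by rw [Nat.cast_one]) ≪≫ e 1
  have hamp : C.IsAmp := ((C.isAmple_iff e1).1 (GrothLib.Ample.isAmple_twistProjSpace_one n k)).2
  obtain ⟨n₀, hn₀⟩ := GrothLib.SerreVanish.evAcyclic C k hamp hF
  refine ⟨(n₀ : ℤ), fun d hd => ?_⟩
  obtain ⟨m, rfl⟩ : ∃ m : ℕ, d = (m : ℤ) := ⟨d.toNat, by omega⟩
  obtain ⟨j⟩ := nonempty_tensor_iso C F _ m (e m)
  rw [← hP (m : ℤ), GrothLib.Euler.euler_of_iso k j, (GrothLib.Euler.hhEquiv (A := k) j 0).finrank_eq]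
  haveI := hF.1
  haveI := C.isQuasicoherent_modTwist F m
  rw [GrothLib.Euler.euler_eq_sum k (C.modTwist F m) (N := 1) fun i hi => hn₀ m (by omega) i hi]
  simp

end Groth.Agent.S7677
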