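import Groth.Statements.S7678
import Groth.Agent.Lib.AlgMisc.GeomRedAt
import Groth.Agent.Lib.CurveLocus.Basic
import Groth.Agent.Lib.GrpdQuot.GenInvariant
import Mathlib

set_option autoImplicit false
set_option backward.isDefEq.respectTransparency false
universe u
open CategoryTheory CategoryTheory.Limits AlgebraicGeometry
open Variety

namespace Groth.Agent.S7678

open Limits

/-- `k`, as an extension of itself along the Frobenius. -/
def FrobField (p : ℕ) (k : Type u) : Type u := k

instance instFieldFrobField (p : ℕ) (k : Type u) [Field k] : Field (FrobField p k) := inferInstanceAs (Field k)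

noncomputable instance instAlgebraFrobField (p : ℕ) [Fact p.Prime] (k : Type u) [Field k] [CharP k p] :
    Algebra k (FrobField p k) := (frobenius k p : k →+* FrobField p k).toAlgebra

open scoped TensorProduct in
theorem powIndep_of_isReduced {k L : Type u} [Field k] [Field L] [Algebra k L] (p : ℕ) [hp : Fact p.Prime]
    [CharP k p] [_root_.IsReduced (L ⊗[k] FrobField p k)] : GrothLib.SepField.PowIndep p k L := by
  intro ι s hs
  rw [linearIndependent_iff']
  intro t g hg i hi
  let P := FrobField p k
  let r : ι → P := g
  have hr : ∀ j, r j ^ p = algebraMap k P (g j) := fun j => rfl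
  haveI : CharP P p := charP_of_injective_algebraMap (algebraMap k P).injective p
  haveI : _root_.IsReduced (P ⊗[k] L) :=
    isReduced_of_injective (Algebra.TensorProduct.comm k P L) (Algebra.TensorProduct.comm k P L).injective
  haveI : CharP (P ⊗[k] L) p := charP_of_injective_ringHom
    (f := (Algebra.TensorProduct.includeLeft : P →ₐ[k] P ⊗[k] L).toRingHom)
    (Algebra.TensorProduct.includeLeft_injective (RingHom.injective _)) p
  have h0 : (∑ j ∈ t, r j • ((1 : P) ⊗ₜ[k] s j)) = 0 := by
    refine (pow_eq_zero_iff hp.out.ne_zero).1 ?_
    rw [sum_pow_char]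
    calc ∑ j ∈ t, (r j • ((1 : P) ⊗ₜ[k] s j)) ^ p
        = ∑ j ∈ t, (1 : P) ⊗ₜ[k] (g j • s j ^ p) := Finset.sum_congr rfl fun j _ => by
          rw [TensorProduct.smul_tmul', smul_eq_mul, mul_one, Algebra.TensorProduct.tmul_pow, hr,
            Algebra.algebraMap_eq_smul_one, TensorProduct.smul_tmul]
      _ = 0 := by rw [← TensorProduct.tmul_sum, hg, TensorProduct.tmul_zero]
  exact linearIndependent_iff'.1 (Module.Flat.linearIndependent_one_tmul (S := P) hs) t r h0 i hi

/-- For a field k of positive characteristic p and a k-scheme X, the base change of X along the p-th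
power map of k is a reduced scheme exactly when X is geometrically reduced over k. -/
theorem result (k : Type u) [Field k] (X : Scheme.{u}) [X.Over (Spec (CommRingCat.of k))]
    (p : ℕ) [Fact p.Prime] [CharP k p] :
    GeometricallyReduced (X ↘ (Spec (CommRingCat.of k))) ↔
      IsReduced ↑(pullback (X ↘ (Spec (CommRingCat.of k))) (Spec.map (CommRingCat.ofHom (frobenius k p)))) := by
  constructor
  · intro h
    exact h.geometrically_isReduced _ _ _ (.of_hasPullback _ _)
  · intro hF
    haveI : AlgebraicGeometry.IsReduced (Curv2.bc k X (FrobField p k)) := hF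
    haveI : Flat (Spec.map (CommRingCat.ofHom (algebraMap k (FrobField p k)))) :=
      Flat.SpecMap_iff.mpr (RingHom.flat_algebraMap_iff.mpr inferInstance)
    haveI : Surjective (Spec.map (CommRingCat.ofHom (algebraMap k (FrobField p k)))) :=
      ⟨fun y => ⟨Nonempty.some inferInstance, Subsingleton.elim _ _⟩⟩
    haveI : AlgebraicGeometry.IsReduced X :=
      GrothLib.CurveLocus.isReduced_of_flat_of_surjective (Curv2.bcFst k X (FrobField p k))
    haveI : Algebra.IsIntegral k (FrobField p k) := ⟨fun x => IsIntegral.of_pow (Fact.out : p.Prime).pos (by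
      rw [show x ^ p = algebraMap k (FrobField p k) (x : k) from rfl]
      exact isIntegral_algebraMap)⟩
    refine Lib.AlgMisc.GeomRedAt.geometricallyReduced_of_maximalPoints fun η hη => ?_
    letI := Curv2.stalkAlgebra k X η
    letI : Field (X.presheaf.stalk η) :=
      (GrothLib.GrpdQuot.isField_stalk_of_generic η fun y hy => (hy.antisymm (hη y hy)).eq).toField
    haveI : _root_.IsReduced (TensorProduct k (X.presheaf.stalk η) (FrobField p k)) :=
      Lib.AlgMisc.GeomRedAt.isReduced_tensor_stalk η (FrobField p k) fun x' _ => inferInstance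
    haveI : Algebra.IsGeometricallyReduced k (X.presheaf.stalk η) :=
      GrothLib.SepField.isGeometricallyReduced_of_powIndep (p := p) (powIndep_of_isReduced p)
    exact Lib.AlgMisc.GeomRedAt.isGeomReducedAt_of_specializes specializes_rfl

end Groth.Agent.S7678
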