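import Groth.Statements.S7681
import Groth.Agent.Lib.NegTwist.Connected

set_option autoImplicit false
universe u
open CategoryTheory CategoryTheory.Limits AlgebraicGeometry
open Variety

namespace Groth.Agent.S7681

/-- Let X be proper over a field k, L ample invertible and s ∈ Γ(X, L) a regular section; assume
depth(O_{X,x}) ≥ 2 for every closed point x and X connected. Then the zero scheme Z(s) is connected. -/
theorem result (k : Type u) [Field k] (X : Scheme.{u}) [X.Over (Spec (CommRingCat.of k))] [IsProper (X ↘ (Spec (CommRingCat.of k)))]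
    [ConnectedSpace X] (L : X.Modules) (hL : CohB1.IsAmple L)
    (s : Coh.structureModule X ⟶ L) (hs : Mono s)
    (hdepth : ∀ x : X, IsClosed ({x} : Set X) → 2 ≤ LocCoh.depth (X.presheaf.stalk x) (X.presheaf.stalk x)) :
    ConnectedSpace ↥(PicF2.zeroScheme L s).subscheme := by
  classical
  haveI := GrothLib.Euler.isNoetherian_of_proper (X := X) k
  obtain ⟨c, ⟨e⟩⟩ := GrothLib.Ample.exists_cocycle hL.1
  obtain ⟨a, ha⟩ := c.exists_hom_eq (s ≫ e.hom)
  haveI : Mono (c.hom a) := by rw [ha]; infer_instance
  have hl : c.locus a = CohB1.genLocus L s := by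
    rw [← c.genLocus_hom a, ha, GrothLib.Ample.genLocus_comp_iso e s]
  have h := GrothLib.NegTwist.isConnected_compl_locus k c ((c.isAmple_iff e).1 hL).2 one_pos a hdepth
  rw [hl, ← GrothLib.NegTwist.support_zeroScheme hL.1 s, ← Scheme.IdealSheafData.range_subschemeι,
    ← Set.image_univ] at h
  rw [connectedSpace_iff_univ]
  exact ⟨⟨_, Set.mem_univ h.1.choose_spec.choose⟩,
    ((PicF2.zeroScheme L s).subschemeι.isEmbedding.isInducing.isPreconnected_image).1 h.2⟩

end Groth.Agent.S7681
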