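import Groth.Statements.S7682
import Groth.Agent.Lib.Snapper.PushTop
import Groth.Agent.Lib.Snapper.Intersection
import Groth.Agent.Lib.SchImage.Reduced

set_option autoImplicit false
universe u
open CategoryTheory CategoryTheory.Limits AlgebraicGeometry
open Variety

namespace Groth.Agent.S7682

/-- Let f : Y → X be a morphism of proper schemes over a field k, Z ⊆ Y an integral closed subscheme of
dimension d and L_1, …, L_d invertible modules on X. Then (f^*L_1 ⋯ f^*L_d · Z) = deg(Z → f(Z)) ·
(L_1 ⋯ L_d · f(Z)), f(Z) being the scheme-theoretic image and deg the degree of the function field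
extension, read as 0 when dim f(Z) < d (equivalently when that extension is infinite). Both
intersection numbers are the n_1⋯n_d-coefficients of the polynomials computing the corresponding
Euler characteristics. -/
theorem result (k : Type u) [Field k] (X Y : Scheme.{u})
    [X.Over (Spec (CommRingCat.of k))] [Y.Over (Spec (CommRingCat.of k))]
    [IsProper (X ↘ (Spec (CommRingCat.of k)))] [IsProper (Y ↘ (Spec (CommRingCat.of k)))]
    (f : Y ⟶ X) (hf : f ≫ (X ↘ (Spec (CommRingCat.of k))) = Y ↘ (Spec (CommRingCat.of k)))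
    (Z : Y.IdealSheafData) [IsIntegral Z.subscheme] (d : ℕ)
    (hZ : topologicalKrullDim (Z.support : Set Y) = d)
    (L : Fin d → X.Modules) (hL : ∀ i, PicF.IsInvertible (L i))
    (PY PX : MvPolynomial (Fin d) ℚ)
    (hPY : ∀ n : Fin d → ℕ, (Curv2.euler k Y (Curv2.tensorPows (ClSub.quotMod Z) d (fun i => (Scheme.Modules.pullback f).obj (L i)) n) : ℚ) = MvPolynomial.eval (fun i => (n i : ℚ)) PY)
    (hPX : ∀ n : Fin d → ℕ, (Curv2.euler k X (Curv2.tensorPows (ClSub.quotMod (Z.subschemeι ≫ f).ker) d L n) : ℚ) = MvPolynomial.eval (fun i => (n i : ℚ)) PX) :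
    MvPolynomial.coeff (Finsupp.equivFunOnFinite.symm fun _ : Fin d => 1) PY =
      ((Z.subschemeι ≫ f).residueDegree (genericPoint Z.subscheme) : ℚ) *
        MvPolynomial.coeff (Finsupp.equivFunOnFinite.symm fun _ : Fin d => 1) PX := by
    have := GrothLib.Euler.isNoetherian_of_proper (X := X) k
    have := GrothLib.Euler.isNoetherian_of_proper (X := Y) k
    let g := Z.subschemeι ≫ f
    letI : Z.subscheme.Over (Spec (CommRingCat.of k)) := ⟨Z.subschemeι ≫ Y ↘ Spec (CommRingCat.of k)⟩
    haveI : IsProper (Z.subscheme ↘ Spec (CommRingCat.of k)) :=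
      inferInstanceAs (IsProper (Z.subschemeι ≫ Y ↘ Spec (CommRingCat.of k)))
    have hg : g ≫ X ↘ Spec (CommRingCat.of k) = Z.subscheme ↘ Spec (CommRingCat.of k) := by
      show (Z.subschemeι ≫ f) ≫ _ = Z.subschemeι ≫ _
      rw [Category.assoc, hf]
    have hd : topologicalKrullDim Z.subscheme = d := by
      rw [← hZ, ← Z.range_subschemeι]
      exact IsHomeomorph.topologicalKrullDim_eq _ Z.subschemeι.isClosedEmbedding.isEmbedding.toHomeomorph.isHomeomorph
    haveI : IsProper (g ≫ X ↘ Spec (CommRingCat.of k)) := by rw [hg]; infer_instance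
    haveI : IsProper g := IsProper.of_comp g (X ↘ Spec (CommRingCat.of k))
    let w := g (genericPoint Z.subscheme)
    have hrange : Set.range g.base = closure {w} := by
      rw [← Set.image_univ, ← (genericPoint_spec Z.subscheme).def]
      exact (g.isClosedMap.closure_image_eq_of_continuous g.continuous _).symm.trans
        (congrArg closure Set.image_singleton)
    have hker : ClSub.quotMod g.ker = GrothLib.Snapper.ptMod w := by
      have h : GrothLib.SchImage.closureRange g =
          (⟨closure {w}, isClosed_closure⟩ : TopologicalSpace.Closeds X) :=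
        TopologicalSpace.Closeds.ext (show closure (Set.range g.base) = closure {w} by rw [hrange, closure_closure])
      show ClSub.quotMod g.ker = _
      rw [GrothLib.SchImage.ker_eq_vanishingIdeal g, h]
    rw [hker] at hPX
    have hLf : ∀ i, PicF.IsInvertible ((Scheme.Modules.pullback f).obj (L i)) := fun i =>
      GrothLib.RelProjK.isInvertible_pullback f (hL i)
    rw [GrothLib.Snapper.coeff_eq_mixed_phi k hLf (GrothLib.Snapper.isCoh_quotMod k Z)
        (GrothLib.Snapper.dimLT_quotMod Z hZ.le) PY hPY,
      GrothLib.Snapper.coeff_eq_mixed_phi k hL (GrothLib.Snapper.isCoh_ptMod w)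
        ((GrothLib.Snapper.dimLT_image hg hd).mono (GrothLib.Snapper.support_ptMod w)) PX hPX]
    have hphi : GrothLib.Snapper.phi k d (fun i => (Scheme.Modules.pullback f).obj (L i)) (ClSub.quotMod Z) =
        GrothLib.Snapper.phi k d (fun i => (Scheme.Modules.pullback g).obj (L i)) (Coh.structureModule Z.subscheme) := by
      funext n
      obtain ⟨e₁⟩ := GrothLib.Snapper.nonempty_pullback_invPows f d L hL n
      obtain ⟨e₂⟩ := GrothLib.Snapper.nonempty_pullback_invPows Z.subschemeι d
        (fun i => (Scheme.Modules.pullback f).obj (L i)) hLf n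
      obtain ⟨e₃⟩ := GrothLib.Snapper.nonempty_pullback_invPows g d L hL n
      refine (GrothLib.Snapper.phi_push k Z.subschemeι rfl hLf n).trans (congrArg Int.cast ?_)
      exact GrothLib.Euler.euler_of_iso k (e₂.symm ≪≫ (Scheme.Modules.pullback Z.subschemeι).mapIso e₁.symm ≪≫
        (Scheme.Modules.pullbackComp Z.subschemeι f).app _ ≪≫ e₃ ≪≫ (GrothLib.OX.tensorUnitLeftIso _).symm)
    rw [hphi, ← sub_eq_zero, ← nsmul_eq_mul, ← map_nsmul, ← map_sub]
    exact GrothLib.Snapper.mixed_eq_zero (GrothLib.Snapper.phi_pullback_sub_mem hg hd hL)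

end Groth.Agent.S7682
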