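import Groth.Statements.S7683
import Groth.Agent.Lib.DeltaBC4.Scheme
import Groth.Agent.Lib.RedTotal.Basic

set_option autoImplicit false
universe u
open CategoryTheory CategoryTheory.Limits AlgebraicGeometry
open Variety TensorProduct

namespace Groth.Agent.S7683

/-- Let X be locally of finite type over a field k with normalization ν : X^ν → X, K/k a field
extension, y ∈ X_K a point with image x ∈ X. Assume O_{X,x} is reduced of dimension one, κ(x')/k is
separable for every x' ∈ X^ν over x, and dim O_{X_K,y} = 1. Then the δ-invariant of X at x equals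
the δ-invariant of X_K at y. (The published statement needs only O_{X,x} reduced; this row takes X
integral so that X^ν is the normalization of an integral scheme.) -/
theorem result (k : Type u) [Field k] (X : Scheme.{u}) [X.Over (Spec (CommRingCat.of k))]
    [IsIntegral X] [LocallyOfFiniteType (X ↘ (Spec (CommRingCat.of k)))]
    [QuasiCompact (X.fromSpecStalk (genericPoint X))] [QuasiSeparated (X.fromSpecStalk (genericPoint X))]
    (K : Type u) [Field K] [Algebra k K] (y : ↥(Curv2.bc k X K))
    (hdx : ringKrullDim (X.presheaf.stalk ((Curv2.bcFst k X K).base y)) = 1)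
    (hsep : letI : (Curv2.normalization X).Over (Spec (CommRingCat.of k)) :=
        ⟨Curv2.normalizationι X ≫ (X ↘ (Spec (CommRingCat.of k)))⟩
      ∀ x' : ↥(Curv2.normalization X), (Curv2.normalizationι X).base x' = (Curv2.bcFst k X K).base y →
        GeometricallyReduced (Spec.map (CommRingCat.ofHom (Curv2.resMap k (Curv2.normalization X) x'))))
    (hdy : ringKrullDim ((Curv2.bc k X K).presheaf.stalk y) = 1) :
    Curv2.deltaInv (X.presheaf.stalk ((Curv2.bcFst k X K).base y)) =
      Curv2.deltaInv ((Curv2.bc k X K).presheaf.stalk y) := by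
  letI : Algebra k (X.presheaf.stalk (Curv2.bcFst k X K y)) := Curv2.stalkAlgebra k X _
  obtain ⟨Q, _, alg, hloc, hQ⟩ := GrothLib.DeltaBC4.exists_stalk_bc k X K y
  haveI := hloc
  letI : Algebra (X.presheaf.stalk (Curv2.bcFst k X K y)) ((Curv2.bc k X K).presheaf.stalk y) :=
    ((algebraMap (X.presheaf.stalk (Curv2.bcFst k X K y) ⊗[k] K) ((Curv2.bc k X K).presheaf.stalk y)).comp
      (algebraMap (X.presheaf.stalk (Curv2.bcFst k X K y))
        (X.presheaf.stalk (Curv2.bcFst k X K y) ⊗[k] K))).toAlgebra
  haveI : IsScalarTower (X.presheaf.stalk (Curv2.bcFst k X K y))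
      (X.presheaf.stalk (Curv2.bcFst k X K y) ⊗[k] K) ((Curv2.bc k X K).presheaf.stalk y) :=
    IsScalarTower.of_algebraMap_eq' rfl
  have hN := GrothLib.DeltaBC4.isNagata_stalk k X (Curv2.bcFst k X K y)
  haveI : IsNoetherianRing (X.presheaf.stalk (Curv2.bcFst k X K y)) := hN.1
  haveI : IsLocallyNoetherian (Curv2.bc k X K) :=
    LocallyOfFiniteType.isLocallyNoetherian (Curv2.bcSnd k X K)
  exact (GrothLib.DeltaBC4.deltaInv_eq k K (X.presheaf.stalk (Curv2.bcFst k X K y))
    ((Curv2.bc k X K).presheaf.stalk y) Q hQ hdx hdy.le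
    (GrothLib.RedTotal.finite_integralClosure hN) GrothLib.RedTotal.localization_normal
    fun n₀ _ => GrothLib.DeltaBC4.isReduced_normalization_residue_tensor k X K _ hsep n₀).symm

end Groth.Agent.S7683
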