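import Groth.Statements.S7684
import Groth.Agent.Lib.NormFib.Normal
import Groth.Agent.Lib.NormFib.KrullAkizuki
import Groth.Agent.Lib.Dim.Ring
import Groth.Agent.Lib.Dim.Scheme

set_option autoImplicit false
universe u
open CategoryTheory CategoryTheory.Limits AlgebraicGeometry
open Variety

namespace Groth.Agent.S7684

set_option backward.isDefEq.respectTransparency false

open GrothLib.NormFib

/-- The data on a nonempty affine chart. -/
theorem chart_facts (X : Scheme.{u}) [IsIntegral X] [IsLocallyNoetherian X]
    [QuasiCompact (X.fromSpecStalk (genericPoint X))] [QuasiSeparated (X.fromSpecStalk (genericPoint X))]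
    (hdim : topologicalKrullDim X ≤ 1) {U : X.Opens} (hU : IsAffineOpen U) [Nonempty U] :
    letI := chartAlgebra U
    ∃ (_ : Ring.DimensionLEOne Γ(X, U)) (_ : Algebra Γ(Curv2.normalization X, pre U) X.functionField),
      IsScalarTower Γ(X, U) Γ(Curv2.normalization X, pre U) X.functionField ∧
      IsFractionRing Γ(X, U) X.functionField ∧ IsNoetherianRing Γ(X, U) ∧
      Algebra.IsIntegral Γ(X, U) Γ(Curv2.normalization X, pre U) ∧
      Function.Injective (algebraMap Γ(Curv2.normalization X, pre U) X.functionField) ∧
      ringKrullDim Γ(X, U) ≤ 1 := by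
  let _ := chartAlgebra U
  obtain ⟨_, htow, hic⟩ := exists_chart hU
  have hle : ringKrullDim Γ(X, U) ≤ 1 := by
    rw [← GrothLib.Dim.topologicalKrullDim_affineOpen hU]
    exact (topologicalKrullDim_subspace_le X _).trans hdim
  have : Ring.KrullDimLE 1 Γ(X, U) := Ring.krullDimLE_iff.mpr hle
  exact ⟨⟨fun {p} hp hp' => Ring.krullDimLE_one_iff_of_noZeroDivisors.mp ‹_› p hp hp'⟩, inferInstance, htow,
    functionField_isFractionRing_of_isAffineOpen X U hU, IsLocallyNoetherian.component_noetherian ⟨U, hU⟩,
    IsIntegralClosure.isIntegral_algebra Γ(X, U) X.functionField,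
    IsIntegralClosure.algebraMap_injective Γ(Curv2.normalization X, pre U) Γ(X, U) X.functionField, hle⟩

theorem finite_fibre (X : Scheme.{u}) [IsIntegral X] [IsLocallyNoetherian X]
    [QuasiCompact (X.fromSpecStalk (genericPoint X))] [QuasiSeparated (X.fromSpecStalk (genericPoint X))]
    (hdim : topologicalKrullDim X ≤ 1) (x : X) :
    Finite {x' : ↥(Curv2.normalization X) // (Curv2.normalizationι X).base x' = x} := by
  obtain ⟨_, ⟨U, hU, rfl⟩, hxU, -⟩ :=
    X.isBasis_affineOpens.exists_subset_of_mem_open (Set.mem_univ x) isOpen_univ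
  have hU : IsAffineOpen U := hU
  have : Nonempty U := ⟨⟨x, hxU⟩⟩
  let _ := chartAlgebra U
  obtain ⟨_, _, _, _, _, _, hinj, -⟩ := chart_facts X hdim hU
  obtain ⟨P, -, hP, hPp, hover, -⟩ := primes_over hU x hxU
  have : IsDomain Γ(Curv2.normalization X, pre U) := Function.Injective.isDomain _ hinj
  suffices hfin : (Set.range P).Finite by
    have := hfin.to_subtype
    exact Finite.of_injective (Set.rangeFactorization P) fun a b h => hP (congrArg Subtype.val h)
  rcases eq_or_ne (hU.primeIdealOf ⟨x, hxU⟩).asIdeal ⊥ with h | h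
  · refine (Set.finite_singleton ⊥).subset ?_
    rintro _ ⟨z, rfl⟩
    exact Ideal.eq_bot_of_comap_eq_bot ((hover z).trans h)
  · refine (finite_primes_over (R := Γ(X, U)) (K := X.functionField) hinj _ h).1.subset ?_
    rintro _ ⟨z, rfl⟩
    exact ⟨hPp z, (hover z).ge⟩

theorem finite_residueField (X : Scheme.{u}) [IsIntegral X] [IsLocallyNoetherian X]
    [QuasiCompact (X.fromSpecStalk (genericPoint X))] [QuasiSeparated (X.fromSpecStalk (genericPoint X))]
    (hdim : topologicalKrullDim X ≤ 1) (z : Curv2.normalization X) :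
    ((Curv2.normalizationι X).residueFieldMap z).hom.Finite := by
  obtain ⟨_, ⟨U, hU, rfl⟩, hxU, -⟩ :=
    X.isBasis_affineOpens.exists_subset_of_mem_open (Set.mem_univ (Curv2.normalizationι X z)) isOpen_univ
  have hU : IsAffineOpen U := hU
  have : Nonempty U := ⟨⟨_, hxU⟩⟩
  let _ := chartAlgebra U
  obtain ⟨_, _, _, _, _, _, hinj, -⟩ := chart_facts X hdim hU
  obtain ⟨hker, hgen⟩ := eval_properties (isAffineOpen_pre hU) z hxU
  obtain ⟨hkerX, -⟩ := eval_properties hU (Curv2.normalizationι X z) hxU
  let r := ((Curv2.normalizationι X).residueFieldMap z).hom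
  let ev := ((Curv2.normalization X).evaluation (pre U) z hxU).hom
  let evX := (X.evaluation U (Curv2.normalizationι X z) hxU).hom
  have hev : ∀ a, ev (algebraMap Γ(X, U) _ a) = r (evX a) := fun a =>
    (Scheme.evaluation_naturality_apply (Curv2.normalizationι X) z hxU a).symm
  have hover := comap_ptPrime hU z hxU
  rcases eq_or_ne (hU.primeIdealOf ⟨_, hxU⟩).asIdeal ⊥ with h | h
  · refine RingHom.Finite.of_surjective r fun l => ?_
    have hmem : ∀ b, ev b ∈ r.fieldRange := fun b => by
      obtain ⟨a₁, a₂, ha₂, hb⟩ := IsFractionRing.div_surjective (A := Γ(X, U))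
        (algebraMap Γ(Curv2.normalization X, pre U) X.functionField b)
      have h2 : algebraMap Γ(X, U) X.functionField a₂ ≠ 0 :=
        (map_ne_zero_iff _ (IsFractionRing.injective Γ(X, U) X.functionField)).mpr (nonZeroDivisors.ne_zero ha₂)
      have hb' : algebraMap Γ(X, U) _ a₁ = b * algebraMap Γ(X, U) _ a₂ := hinj (by
        rw [map_mul, ← IsScalarTower.algebraMap_apply, ← IsScalarTower.algebraMap_apply, ← hb, div_mul_cancel₀ _ h2])
      have hne : evX a₂ ≠ 0 := fun h0 => nonZeroDivisors.ne_zero ha₂ (Ideal.mem_bot.1 (h ▸ hkerX.le h0))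
      have h3 := congrArg ev hb'
      rw [map_mul, hev, hev] at h3
      rw [show ev b = r (evX a₁) / r (evX a₂) from (eq_div_iff (fun h0 => hne (r.injective (h0.trans (map_zero r).symm)))).mpr h3.symm]
      exact div_mem ⟨_, rfl⟩ ⟨_, rfl⟩
    obtain ⟨b, c, hc, hl⟩ := hgen l
    rw [show l = ev b / ev c from (eq_div_iff hc).mpr hl]
    exact RingHom.mem_fieldRange.1 (div_mem (hmem b) (hmem c))
  · let P := (ptPrime hU z hxU).asIdeal
    have hover' : P.comap (algebraMap Γ(X, U) _) = (hU.primeIdealOf ⟨_, hxU⟩).asIdeal := hover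
    have hfin : Module.Finite Γ(X, U) (Γ(Curv2.normalization X, pre U) ⧸ P) :=
      (finite_primes_over (R := Γ(X, U)) (K := X.functionField) hinj _ h).2 P hover'.ge
    have : (P.comap (algebraMap Γ(X, U) _)).IsMaximal :=
      hover' ▸ Ring.DimensionLEOne.maximalOfPrime h (hU.primeIdealOf ⟨_, hxU⟩).isPrime
    have hPmax : P.IsMaximal := Ideal.isMaximal_of_isIntegral_of_isMaximal_comap P this
    let evq : Γ(Curv2.normalization X, pre U) ⧸ P →+* (Curv2.normalization X).residueField z :=
      Ideal.Quotient.lift P ev fun a ha => hker.ge ha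
    have hsurj : Function.Surjective evq := fun l => by
      let _ := Ideal.Quotient.field P
      obtain ⟨b, c, hc, hl⟩ := hgen l
      refine ⟨Ideal.Quotient.mk P b / Ideal.Quotient.mk P c, ?_⟩
      rw [map_div₀]
      exact ((eq_div_iff hc).mpr hl).symm
    have hcomp : (evq.comp (algebraMap Γ(X, U) (Γ(Curv2.normalization X, pre U) ⧸ P))).Finite :=
      (RingHom.Finite.of_surjective evq hsurj).comp (RingHom.finite_algebraMap.mpr hfin)
    rw [show evq.comp (algebraMap Γ(X, U) (Γ(Curv2.normalization X, pre U) ⧸ P)) = r.comp evX from RingHom.ext hev] at hcomp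
    exact hcomp.of_comp_finite

/-- For an integral scheme: let X be an integral locally Noetherian scheme of dimension one and ν : X^ν
→ X its normalization. Then ν has finite fibres and finite residue field extensions, and X^ν is a
locally Noetherian scheme whose nonempty affine opens are spectra of Dedekind domains. (The
published statement is for any locally Noetherian X of dimension one, with X^ν → X_red, and also
says that ν is integral, surjective and birational, that X^ν is normal and that its stalks are the
integral closures of those of X; here X is integral, and those clauses, which hold for the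
normalization of every integral scheme, are not restated.) -/
theorem result (X : Scheme.{u}) [IsIntegral X] [IsLocallyNoetherian X]
    [QuasiCompact (X.fromSpecStalk (genericPoint X))] [QuasiSeparated (X.fromSpecStalk (genericPoint X))]
    (hdim : topologicalKrullDim X = 1) :
    (∀ x : X, Finite {x' : ↥(Curv2.normalization X) // (Curv2.normalizationι X).base x' = x}) ∧
      (∀ x' : ↥(Curv2.normalization X),
        letI := ((Curv2.normalizationι X).residueFieldMap x').hom.toAlgebra
        Module.Finite (X.residueField ((Curv2.normalizationι X).base x')) ((Curv2.normalization X).residueField x')) ∧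
      IsLocallyNoetherian (Curv2.normalization X) ∧
      (∀ U : (Curv2.normalization X).affineOpens, ((U : (Curv2.normalization X).Opens) : Set ↥(Curv2.normalization X)).Nonempty →
        IsDedekindDomain Γ(Curv2.normalization X, (U : (Curv2.normalization X).Opens))) := by
  open GrothLib.NormFib in
  have hcov : ∀ z : Curv2.normalization X, ∃ U : X.Opens, IsAffineOpen U ∧ Nonempty U ∧ z ∈ pre U := fun z => by
    obtain ⟨_, ⟨U, hU, rfl⟩, hzU, -⟩ :=
      X.isBasis_affineOpens.exists_subset_of_mem_open (Set.mem_univ (Curv2.normalizationι X z)) isOpen_univ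
    exact ⟨U, hU, ⟨⟨_, hzU⟩⟩, hzU⟩
  have hchart : ∀ U : X.Opens, IsAffineOpen U → Nonempty U →
      IsNoetherianRing Γ(Curv2.normalization X, pre U) ∧ topologicalKrullDim (pre U) ≤ 1 := fun U hU _ => by
    let _ := GrothLib.NormFib.chartAlgebra (X := X) U
    obtain ⟨_, _, _, _, _, _, hinj, hle⟩ := chart_facts X hdim.le hU
    exact ⟨GrothLib.NormFib.isNoetherianRing_of_injective Γ(X, U) hinj, by
      rw [GrothLib.Dim.topologicalKrullDim_affineOpen (isAffineOpen_pre hU)]
      exact (GrothLib.Dim.ringKrullDim_le_of_isIntegral Γ(X, U) _).trans hle⟩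
  choose U hU hne hzU using hcov
  have hLN : IsLocallyNoetherian (Curv2.normalization X) := by
    refine isLocallyNoetherian_of_affine_cover (S := fun z => ⟨pre (U z), isAffineOpen_pre (hU z)⟩)
      (top_le_iff.mp fun z _ => TopologicalSpace.Opens.mem_iSup.mpr ⟨z, hzU z⟩) fun z => ?_
    exact (hchart _ (hU z) (hne z)).1
  have hd : topologicalKrullDim (Curv2.normalization X) ≤ 1 :=
    GrothLib.Dim.topologicalKrullDim_le_of_cover (fun z => pre (U z)) (fun z => ⟨z, hzU z⟩)
      fun z => (hchart _ (hU z) (hne z)).2
  refine ⟨finite_fibre X hdim.le, fun z => finite_residueField X hdim.le z, hLN, fun V hV => ?_⟩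
  have : Nonempty (V : (Curv2.normalization X).Opens) := hV.to_subtype
  have hnoeth := IsLocallyNoetherian.component_noetherian V
  have hle : ringKrullDim Γ(Curv2.normalization X, (V : (Curv2.normalization X).Opens)) ≤ 1 := by
    rw [← GrothLib.Dim.topologicalKrullDim_affineOpen V.2]
    exact (topologicalKrullDim_subspace_le _ _).trans hd
  have : Ring.KrullDimLE 1 Γ(Curv2.normalization X, (V : (Curv2.normalization X).Opens)) :=
    Ring.krullDimLE_iff.mpr hle
  have : Ring.DimensionLEOne Γ(Curv2.normalization X, (V : (Curv2.normalization X).Opens)) :=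
    ⟨fun {p} hp hp' => Ring.krullDimLE_one_iff_of_noZeroDivisors.mp ‹_› p hp hp'⟩
  have := GrothLib.NormalExt.isIntegrallyClosed_Γ (X := Curv2.normalization X)
    (fun z => (GrothLib.NormFib.isNormalScheme_normalization z).2) V V.2
  exact { }

end Groth.Agent.S7684
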