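import Groth.Statements.S7685
import Groth.Agent.Lib.Snapper.Intersection

set_option autoImplicit false
universe u
open CategoryTheory CategoryTheory.Limits AlgebraicGeometry
open Variety

namespace Groth.Agent.S7685

/-- Let X be proper over a field k, Z ⊆ X a closed subscheme of dimension d and L_1, …, L_d invertible
modules. Then the intersection number (L_1 ⋯ L_d · Z), the coefficient of n_1⋯n_d in the polynomial
computing χ(X, O_Z ⊗ L_1^{⊗n_1} ⊗ ⋯ ⊗ L_d^{⊗n_d}) for all exponents in ℕ^d, is an integer. -/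
theorem result (k : Type u) [Field k] (X : Scheme.{u}) [X.Over (Spec (CommRingCat.of k))] [IsProper (X ↘ (Spec (CommRingCat.of k)))]
    (D : X.IdealSheafData) (d : ℕ) (hD : topologicalKrullDim (D.support : Set X) = d)
    (L : Fin d → X.Modules) (hL : ∀ i, PicF.IsInvertible (L i)) (P : MvPolynomial (Fin d) ℚ)
    (hP : ∀ n : Fin d → ℕ, (Curv2.euler k X (Curv2.tensorPows (ClSub.quotMod D) d L n) : ℚ) = MvPolynomial.eval (fun i => (n i : ℚ)) P) :
    ∃ z : ℤ, MvPolynomial.coeff (Finsupp.equivFunOnFinite.symm fun _ : Fin d => 1) P = (z : ℚ) := by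
  rw [GrothLib.Snapper.coeff_eq_mixed_phi k hL (GrothLib.Snapper.isCoh_quotMod k D)
    (GrothLib.Snapper.dimLT_quotMod D hD.le) P hP]
  refine ⟨∑ S : Finset (Fin d), (-1 : ℤ) ^ (d - S.card) *
    Curv2.euler k X ((GrothLib.Euler.tF (GrothLib.Snapper.invPows d L (GrothLib.Snapper.ind S))).obj (ClSub.quotMod D)), ?_⟩
  push_cast
  rfl

end Groth.Agent.S7685
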