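import Groth.Statements.S7687
import Groth.Agent.Lib.SemiLoc.Glue

set_option autoImplicit false
universe u
open CategoryTheory CategoryTheory.Limits AlgebraicGeometry
open Variety

namespace Groth.Agent.S7687

/-- Let K be a field and A, B ⊆ K Noetherian semi-local domains of dimension one with fraction field K
such that A ⊗ B → K is surjective, and R = A ∩ B. Then Spec A and Spec B each map to Spec R by an
open immersion, Spec R is the union of the two images, and the natural map A ⊗_R B → K is an
isomorphism. -/
theorem result (K : Type u) [Field K]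
    (A : Subring K) [IsFractionRing A K] (B : Subring K) [IsFractionRing B K] [IsNoetherianRing A] [IsNoetherianRing B]
    (hdimA : ringKrullDim A = 1) (hdimB : ringKrullDim B = 1)
    (hslA : Finite (MaximalSpectrum A)) (hslB : Finite (MaximalSpectrum B)) (hgen : A ⊔ B = ⊤) :
    IsOpenImmersion (Spec.map (CommRingCat.ofHom (Subring.inclusion (inf_le_left : A ⊓ B ≤ A)))) ∧
      IsOpenImmersion (Spec.map (CommRingCat.ofHom (Subring.inclusion (inf_le_right : A ⊓ B ≤ B)))) ∧
      Set.range (Spec.map (CommRingCat.ofHom (Subring.inclusion (inf_le_left : A ⊓ B ≤ A)))).base ∪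
        Set.range (Spec.map (CommRingCat.ofHom (Subring.inclusion (inf_le_right : A ⊓ B ≤ B)))).base = Set.univ ∧
      IsPushout (CommRingCat.ofHom (Subring.inclusion (inf_le_left : A ⊓ B ≤ A)))
        (CommRingCat.ofHom (Subring.inclusion (inf_le_right : A ⊓ B ≤ B)))
        (CommRingCat.ofHom A.subtype) (CommRingCat.ofHom B.subtype) := by
  let G : GrothLib.SemiLoc.Glue Bool K :=
    { A := fun b => cond b A B
      R := A ⊓ B
      mem_iff := fun x => by simp [Bool.forall_bool, Subring.mem_inf, and_comm]
      oneDim := fun b => by
        cases b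
        · exact GrothLib.SemiLoc.isOneDim_of_ringKrullDim_eq_one B hdimB
        · exact GrothLib.SemiLoc.isOneDim_of_ringKrullDim_eq_one A hdimA
      semilocal := fun b => by cases b <;> assumption
      gen := fun i j h => by cases i <;> cases j <;> simp_all [sup_comm] }
  refine ⟨G.isOpenImmersion true, G.isOpenImmersion false, ?_, G.isPushout (i := true) (j := false) (by decide)⟩
  apply Set.eq_univ_of_forall
  intro p
  obtain ⟨b, hb⟩ := Set.mem_iUnion.mp (G.iUnion_range.ge (Set.mem_univ p))
  cases b
  · exact Or.inr hb
  · exact Or.inl hb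

end Groth.Agent.S7687
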