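import Groth.Agent.Lib.PicDesc.DimOne
import Groth.Prelude.Def_Curv2

set_option autoImplicit false
universe u
open CategoryTheory CategoryTheory.Limits AlgebraicGeometry

namespace Groth.Agent.S7688

/-- Let f : X → Y be finite with Y Noetherian of dimension at most one, and suppose that over some dense
open V ⊆ Y the restriction f⁻¹(V) → V is a closed immersion. Then each invertible O_X-module arises,
up to isomorphism, by pulling back an invertible O_Y-module along f. -/
theorem result {X Y : Scheme.{u}} (f : X ⟶ Y)
    [IsFinite f] [IsNoetherian Y] (hdim : topologicalKrullDim Y ≤ 1)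
    (V : Y.Opens) (hV : Dense (V : Set Y)) (hfV : IsClosedImmersion (f ∣_ V))
    (L : X.Modules) (hL : PicF.IsInvertible L) :
    ∃ N : Y.Modules, PicF.IsInvertible N ∧ Nonempty ((Scheme.Modules.pullback f).obj N ≅ L) :=
  haveI := hfV
  GrothLib.PicDesc.exists_of_closedImmersion_over_dense f hdim V hV hL

end Groth.Agent.S7688
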