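import Groth.Statements.S7690
import Groth.Agent.Lib.BCCoh.FlatBC
import Groth.Agent.Lib.CMReg.ProjSpace
import Groth.Agent.Lib.Euler.TensorSupport
import Groth.Agent.Lib.Chow.Prod

set_option autoImplicit false
set_option backward.isDefEq.respectTransparency false
universe u
open CategoryTheory CategoryTheory.Limits AlgebraicGeometry
open Variety

namespace Groth.Agent.S7690

/-- Let k'/k be a field extension (k' in the universe of k), n ≥ 0, F a coherent module on P^n_k with
pullback F' to P^n_{k'}. For every integer m, F is m-regular exactly when F' is. Here P^n_{k'} is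
taken as the base change P^n_k ×_k Spec k' and the m-regularity of F' is spelled out as the
vanishing of H^i(P^n_{k'}, (F(m − i))') for 1 ≤ i ≤ n, (F(m − i))' being the pullback of F ⊗ O(m −
i). -/
theorem result (k : Type u) [Field k] (n : ℕ)
    (k' : Type u) [Field k'] [Algebra k k'] (F : (CohB1.ProjSpace n k).Modules) (hF : Coh.IsCoh F) (m : ℤ) :
    Curv2.IsMRegular k n F m ↔
      ∀ i : ℕ, 1 ≤ i → i ≤ n →
        Subsingleton (Coh.HH (Curv2.bc k (CohB1.ProjSpace n k) k')
          ((Scheme.Modules.pullback (Curv2.bcFst k (CohB1.ProjSpace n k) k')).obj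
            (CohB1.tensorMod F (Twist.twistProjSpace n k (m - i)))) i) := by
  haveI := GrothLib.Chow.isProper_toSpec n k
  haveI : IsProper ((CohB1.ProjSpace n k) ↘ Spec (CommRingCat.of k)) := GrothLib.Chow.isProper_toSpec n k
  haveI := GrothLib.Euler.isNoetherian_of_proper (X := CohB1.ProjSpace n k) k
  haveI : (CohB1.ProjSpace n k).IsSeparated := ⟨by
    rw [← terminal.comp_from ((CohB1.ProjSpace n k) ↘ Spec (CommRingCat.of k))]; infer_instance⟩
  refine forall_congr' fun i => imp_congr_right fun _ => imp_congr_right fun _ => ?_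
  let G := CohB1.tensorMod F (Twist.twistProjSpace n k (m - i))
  haveI : G.IsQuasicoherent := (GrothLib.Euler.isCoh_tF hF (GrothLib.Euler.isFinLocFree_of_isInvertible
    (GrothLib.CMReg.isInvertible_twist (n := n) (k := k) (m - i)))).1
  obtain ⟨e⟩ := GrothLib.BCCoh.exists_flatBC (algebraMap k k') (RingHom.flat_algebraMap_iff.2 inferInstance)
    ((CohB1.ProjSpace n k) ↘ Spec (CommRingCat.of k)) (Curv2.bcSnd k (CohB1.ProjSpace n k) k')
    (Curv2.bcFst k (CohB1.ProjSpace n k) k') (IsPullback.of_hasPullback _ _) G i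
  letI := (algebraMap k k').toAlgebra
  letI := GrothLib.BCCoh.modHH ((CohB1.ProjSpace n k) ↘ Spec (CommRingCat.of k)) G i
  letI := GrothLib.BCCoh.modHH (Curv2.bcSnd k (CohB1.ProjSpace n k) k')
    ((Scheme.Modules.pullback (Curv2.bcFst k (CohB1.ProjSpace n k) k')).obj G) i
  exact (Module.FaithfullyFlat.subsingleton_tensorProduct_iff_right k k').symm.trans e.toEquiv.subsingleton_congr

end Groth.Agent.S7690
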