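import Groth.Statements.S8261
import Groth.Agent.Lib.RelProjK.FinType

set_option autoImplicit false
universe u
open CategoryTheory CategoryTheory.Limits AlgebraicGeometry Opposite TopologicalSpace
open scoped HomogeneousIdeal
open EGA2

namespace Groth.Agent.S8261

/-- Let 𝒮 be a quasi-coherent positively graded O_Y-algebra generated by 𝒮_1 with 𝒮_1 of finite type
over O_Y. Then Proj(𝒮) is of finite type over Y. -/
theorem result {Y P : Scheme.{u}} (𝒮 : RelProj.QCGrAlg Y)
    (hgen : 𝒮.IsGenDegOne) (hft : 𝒮.IsFTDeg 1) (p : P ⟶ Y)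
    (chart : ∀ (U : Y.Opens) (hU : IsAffineOpen U), (((p ⁻¹ᵁ U : P.Opens) : Scheme.{u}) ≅ Proj (𝒮.deg U hU)))
    (hP : RelProj.IsRelProj 𝒮 p chart) : LocallyOfFiniteType p ∧ QuasiCompact p := by
  refine ⟨GrothLib.RelProjK.property_of_charts @LocallyOfFiniteType hP fun U hU => ?_,
    GrothLib.RelProjK.property_of_charts @QuasiCompact hP fun U hU => ?_⟩
  · obtain ⟨T, hT1, hT⟩ := hft U hU
    exact GrothLib.RelProjK.locallyOfFiniteType_deg_one (𝒮.strZero U hU).hom (hgen U hU) T hT1 hT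
  · obtain ⟨T, hT1, hT⟩ := hft U hU
    haveI := GrothLib.RelProjK.finiteType_algebra_of_deg_one (𝒮.strZero U hU).hom (hgen U hU) T hT
    infer_instance

end Groth.Agent.S8261
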