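import Groth.Statements.S8266
import Groth.Agent.Lib.RelProjK.ProjProps

set_option autoImplicit false
universe u
open CategoryTheory CategoryTheory.Limits AlgebraicGeometry Opposite TopologicalSpace
open scoped HomogeneousIdeal
open EGA2

namespace Groth.Agent.S8266

/-- If the quasi-coherent positively graded O_Y-algebra 𝒮 is essentially reduced (affine-locally, no
nonzero nilpotent element in the irrelevant ideal), then Proj(𝒮) is reduced. -/
theorem result {Y P : Scheme.{u}} (𝒮 : RelProj.QCGrAlg Y)
    (hred : ∀ (U : Y.Opens) (hU : IsAffineOpen U) (x : 𝒮.presheaf.obj (op U)),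
      x ∈ (𝒮.deg U hU)₊ → IsNilpotent x → x = 0)
    (p : P ⟶ Y)
    (chart : ∀ (U : Y.Opens) (hU : IsAffineOpen U), (((p ⁻¹ᵁ U : P.Opens) : Scheme.{u}) ≅ Proj (𝒮.deg U hU)))
    (hP : RelProj.IsRelProj 𝒮 p chart) : IsReduced P := by
  have aff : ∀ (U : Y.Opens) (hU : IsAffineOpen U), IsReduced (Proj (𝒮.deg U hU)) := by
    intro U hU
    haveI : ∀ i, IsReduced ((Proj.affineOpenCover (𝒮.deg U hU)).openCover.X i) := by
      intro i
      obtain ⟨⟨m, hm⟩, f, hf⟩ := i
      show IsReduced (Spec (.of (HomogeneousLocalization.Away (𝒮.deg U hU) f)))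
      haveI : _root_.IsReduced (CommRingCat.of (HomogeneousLocalization.Away (𝒮.deg U hU) f)) := by
        refine ⟨fun x hx => ?_⟩
        obtain ⟨n, a, ha, rfl⟩ := HomogeneousLocalization.Away.mk_surjective (𝒮.deg U hU) hf x
        obtain ⟨k, hk⟩ := hx
        have hk' := congrArg HomogeneousLocalization.val hk
        rw [HomogeneousLocalization.val_pow, HomogeneousLocalization.Away.val_mk, HomogeneousLocalization.val_zero,
          Localization.mk_pow, ← Localization.mk_zero 1, Localization.mk_eq_mk_iff, Localization.r_iff_exists] at hk'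
        obtain ⟨⟨_, l, rfl⟩, hl⟩ := hk'
        have hl' : f ^ l * a ^ k = 0 := by simpa using hl
        have h0 : a * f = 0 := hred U hU _
          (HomogeneousIdeal.mem_irrelevant_of_mem _ (show 0 < n • m + m by omega) (SetLike.mul_mem_graded ha hf))
          ⟨k + l, by
            rw [mul_pow, pow_add a, pow_add f]
            calc a ^ k * a ^ l * (f ^ k * f ^ l) = (f ^ l * a ^ k) * (a ^ l * f ^ k) := by ring
              _ = 0 := by rw [hl', zero_mul]⟩
        refine HomogeneousLocalization.val_injective _ ?_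
        rw [HomogeneousLocalization.Away.val_mk, HomogeneousLocalization.val_zero, ← Localization.mk_zero 1,
          Localization.mk_eq_mk_iff, Localization.r_iff_exists]
        exact ⟨⟨f, 1, pow_one f⟩, by simp [mul_comm f, h0]⟩
      infer_instance
    exact IsReduced.of_openCover _ (Proj.affineOpenCover (𝒮.deg U hU)).openCover
  let 𝒰 := P.openCoverOfIsOpenCover (fun U : Y.affineOpens => p ⁻¹ᵁ U.1)
    (IsOpenCover.comap (iSup_affineOpens_eq_top Y) p.base.hom)
  haveI : ∀ i, IsReduced (𝒰.X i) := fun i => by
    haveI := aff i.1 i.2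
    exact isReduced_of_isOpenImmersion (chart i.1 i.2).hom
  exact IsReduced.of_openCover _ 𝒰

end Groth.Agent.S8266
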