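import Groth.Statements.S8264
import Groth.Agent.Lib.RelProjK.Comap
import Groth.Agent.S8266

set_option autoImplicit false
universe u
open CategoryTheory CategoryTheory.Limits AlgebraicGeometry Opposite TopologicalSpace
open scoped HomogeneousIdeal
open EGA2

namespace Groth.Agent.S8264

/-- Let Y be an integral scheme and 𝒮 a quasi-coherent positively graded O_Y-algebra with 𝒮_0 = O_Y
which is integral, stated here affine-locally: over every nonempty affine open U the ring 𝒮(U) is an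
integral domain whose irrelevant ideal is nonzero (for Y integral this is equivalent to the
stalkwise condition of the published text: every stalk 𝒮_y an integral domain with (𝒮_y)_+ ≠ 0).
Then Proj(𝒮) is integral and its structure morphism to Y is dominant. -/
theorem result {Y P : Scheme.{u}} [IsIntegral Y] (𝒮 : RelProj.QCGrAlg Y)
    (h0 : ∀ (U : Y.Opens) (hU : IsAffineOpen U), Function.Bijective (𝒮.strZero U hU).hom)
    (hint : ∀ (U : Y.Opens) (hU : IsAffineOpen U), (U : Set Y).Nonempty →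
      IsDomain (𝒮.presheaf.obj (op U)) ∧ ((𝒮.deg U hU)₊).toIdeal ≠ ⊥)
    (p : P ⟶ Y)
    (chart : ∀ (U : Y.Opens) (hU : IsAffineOpen U), (((p ⁻¹ᵁ U : P.Opens) : Scheme.{u}) ≅ Proj (𝒮.deg U hU)))
    (hP : RelProj.IsRelProj 𝒮 p chart) : IsIntegral P ∧ DenseRange p.base := by
  let η : ∀ (U : Y.Opens) (hU : IsAffineOpen U), (U : Set Y).Nonempty → ProjectiveSpectrum (𝒮.deg U hU) :=
    fun U hU hne => ⟨⊥, by
        haveI := (hint U hU hne).1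
        exact Ideal.isPrime_bot,
      fun h => (hint U hU hne).2 (le_bot_iff.mp (fun a ha => h ha))⟩
  have hmeet : ∀ (U : Y.Opens) (hU : IsAffineOpen U) (hne : (U : Set Y).Nonempty) (O : P.Opens) (x : P),
      x ∈ O → p x ∈ U → RelProj.emb p chart U hU (η U hU hne) ∈ O := by
    intro U hU hne O x hxO hxU
    obtain ⟨z, rfl⟩ := (GrothLib.RelProjK.mem_opensRange_em (chart := chart) (⟨U, hU⟩ : Y.AffineZariskiSite)).mpr hxU
    have hcl : z ∈ closure ({η U hU hne} : Set (ProjectiveSpectrum (𝒮.deg U hU))) :=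
      (ProjectiveSpectrum.le_iff_mem_closure _ (η U hU hne) z).mp (show (⊥ : HomogeneousIdeal (𝒮.deg U hU)) ≤ z.asHomogeneousIdeal from bot_le)
    obtain ⟨w, hw, hwη⟩ := mem_closure_iff.mp hcl _ ((RelProj.emb p chart U hU ⁻¹ᵁ O).2) hxO
    exact Set.mem_singleton_iff.mp hwη ▸ hw
  have hdense : DenseRange p.base := by
    refine dense_iff_inter_open.mpr fun O hO ⟨y, hy⟩ => ?_
    obtain ⟨_, ⟨W, hW, rfl⟩, hyW, hWO⟩ := Y.isBasis_affineOpens.exists_subset_of_mem_open hy hO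
    refine ⟨_, hWO ?_, ⟨RelProj.emb p chart W hW (η W hW ⟨y, hyW⟩), rfl⟩⟩
    exact (GrothLib.RelProjK.mem_opensRange_em (chart := chart) (⟨W, hW⟩ : Y.AffineZariskiSite)).mp ⟨_, rfl⟩
  have haff : ∀ (U : Y.Opens), (U : Set Y).Nonempty → (∃ x : P, p x ∈ U) := by
    intro U hU
    obtain ⟨_, hy, z, rfl⟩ := dense_iff_inter_open.mp hdense U U.2 hU
    exact ⟨z, hy⟩
  haveI : Nonempty P := by
    obtain ⟨x, -⟩ := haff ⊤ ⟨Classical.arbitrary Y, trivial⟩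
    exact ⟨x⟩
  haveI : PreirreducibleSpace P := ⟨by
    rintro O₁ O₂ h₁ h₂ ⟨x₁, -, hx₁⟩ ⟨x₂, -, hx₂⟩
    obtain ⟨_, ⟨U₁, hU₁, rfl⟩, hU₁x, -⟩ := Y.isBasis_affineOpens.exists_subset_of_mem_open (Set.mem_univ (p x₁)) isOpen_univ
    obtain ⟨_, ⟨U₂, hU₂, rfl⟩, hU₂x, -⟩ := Y.isBasis_affineOpens.exists_subset_of_mem_open (Set.mem_univ (p x₂)) isOpen_univ
    obtain ⟨w, -, hw⟩ := (PreirreducibleSpace.isPreirreducible_univ (X := Y)) U₁ U₂ U₁.2 U₂.2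
      ⟨p x₁, trivial, hU₁x⟩ ⟨p x₂, trivial, hU₂x⟩
    obtain ⟨_, ⟨W, hW, rfl⟩, hwW, hWU⟩ := Y.isBasis_affineOpens.exists_subset_of_mem_open hw (U₁ ⊓ U₂).2
    obtain ⟨x, hx⟩ := haff W ⟨w, hwW⟩
    refine ⟨RelProj.emb p chart W hW (η W hW ⟨w, hwW⟩), trivial, ?_, ?_⟩
    · exact hmeet W hW ⟨w, hwW⟩ ⟨O₁, h₁⟩ (RelProj.emb p chart U₁ hU₁ (η U₁ hU₁ ⟨p x₁, hU₁x⟩))
        (hmeet U₁ hU₁ ⟨p x₁, hU₁x⟩ ⟨O₁, h₁⟩ x₁ hx₁ hU₁x)
        (hmeet U₁ hU₁ ⟨p x₁, hU₁x⟩ (p ⁻¹ᵁ W) x hx (hWU hx).1)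
    · exact hmeet W hW ⟨w, hwW⟩ ⟨O₂, h₂⟩ (RelProj.emb p chart U₂ hU₂ (η U₂ hU₂ ⟨p x₂, hU₂x⟩))
        (hmeet U₂ hU₂ ⟨p x₂, hU₂x⟩ ⟨O₂, h₂⟩ x₂ hx₂ hU₂x)
        (hmeet U₂ hU₂ ⟨p x₂, hU₂x⟩ (p ⁻¹ᵁ W) x hx (hWU hx).2)⟩
  haveI : IrreducibleSpace P := ⟨‹Nonempty P›⟩
  haveI : IsReduced P := Groth.Agent.S8266.result 𝒮 (fun U hU x _ hx => by
    rcases (U : Set Y).eq_empty_or_nonempty with he | hne
    · obtain rfl : U = ⊥ := TopologicalSpace.Opens.ext he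
      have h01 : (1 : 𝒮.presheaf.obj (op ⊥)) = 0 := by
        rw [← map_one (𝒮.str.app (op ⊥)).hom, ← map_zero (𝒮.str.app (op ⊥)).hom, Subsingleton.elim (1 : Γ(Y, ⊥)) 0]
      exact eq_zero_of_zero_eq_one h01.symm x
    · haveI := (hint U hU hne).1
      exact hx.eq_zero) p chart hP
  exact ⟨isIntegral_of_irreducibleSpace_of_isReduced P, hdense⟩

end Groth.Agent.S8264
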