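import Groth.Statements.S8265
import Groth.Agent.Lib.RelProjK.Comap
import Groth.Agent.Lib.RelProjK.OpenMap
import Mathlib.RingTheory.GradedAlgebra.Radical
-- import your own Groth.Agent.* helpers here

set_option autoImplicit false
universe u
open CategoryTheory CategoryTheory.Limits AlgebraicGeometry Opposite TopologicalSpace
open scoped HomogeneousIdeal
open EGA2

namespace Groth.Agent.S8265

/-- Let Y be an integral scheme and 𝒮 a quasi-coherent positively graded O_Y-algebra with 𝒮_0 = O_Y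
which is essentially reduced (affine-locally, every nilpotent element of the irrelevant ideal of
𝒮(U) vanishes). If Proj(𝒮) is integral and dominant over Y, then 𝒮 is integral: over every nonempty
affine open U, 𝒮(U) is an integral domain with nonzero irrelevant ideal (for Y integral, the
affine-local form of the stalkwise condition of the text). -/
theorem result {Y P : Scheme.{u}} [IsIntegral Y] (𝒮 : RelProj.QCGrAlg Y)
    (h0 : ∀ (U : Y.Opens) (hU : IsAffineOpen U), Function.Bijective (𝒮.strZero U hU).hom)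
    (hred : ∀ (U : Y.Opens) (hU : IsAffineOpen U) (x : 𝒮.presheaf.obj (op U)),
      x ∈ (𝒮.deg U hU)₊ → IsNilpotent x → x = 0)
    (p : P ⟶ Y)
    (chart : ∀ (U : Y.Opens) (hU : IsAffineOpen U), (((p ⁻¹ᵁ U : P.Opens) : Scheme.{u}) ≅ Proj (𝒮.deg U hU)))
    (hP : RelProj.IsRelProj 𝒮 p chart) [IsIntegral P] (hdom : DenseRange p.base)
    (U : Y.Opens) (hU : IsAffineOpen U) (hne : (U : Set Y).Nonempty) :
    IsDomain (𝒮.presheaf.obj (op U)) ∧ ((𝒮.deg U hU)₊).toIdeal ≠ ⊥ := by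
  letI := 𝒮.graded U hU
  let A := 𝒮.presheaf.obj (op U)
  let 𝒜 := 𝒮.deg U hU
  haveI : Nonempty (p ⁻¹ᵁ U : P.Opens) := by
    obtain ⟨_, hy, x, rfl⟩ := dense_iff_inter_open.mp hdom U U.2 hne
    exact ⟨⟨x, hy⟩⟩
  haveI : IsIntegral ((p ⁻¹ᵁ U : P.Opens) : Scheme.{u}) := isIntegral_of_isOpenImmersion (p ⁻¹ᵁ U).ι
  haveI : IrreducibleSpace (Proj 𝒜) := (chart U hU).hom.homeomorph.irreducibleSpace_iff.1 inferInstance
  have hstr : ∀ a : Γ(Y, U), a ≠ 0 → Proj.basicOpen 𝒜 ((𝒮.str.app (op U)).hom a) ≠ ⊥ := by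
    intro a ha hbot
    have hD : (Y.basicOpen a : Set Y).Nonempty := by
      rw [Set.nonempty_iff_ne_empty]
      intro h
      exact ha ((basicOpen_eq_bot_iff a).1 (TopologicalSpace.Opens.ext h))
    obtain ⟨_, hy, x, rfl⟩ := dense_iff_inter_open.mp hdom _ (Y.basicOpen a).2 hD
    have hxU : p x ∈ U := Y.basicOpen_le a hy
    let z := (chart U hU).hom ⟨x, hxU⟩
    have hmem : hU.fromSpec (Spec.map (𝒮.strZero U hU) (Proj.toSpecZero 𝒜 z)) ∈ Y.basicOpen a := by
      simp only [z, ← Scheme.Hom.comp_apply, Category.assoc]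
      rw [hP.chart_over U hU]
      exact hy
    rw [← Scheme.Hom.mem_preimage, hU.fromSpec_preimage_basicOpen] at hmem
    have h2 : z ∈ Proj.toSpecZero 𝒜 ⁻¹ᵁ PrimeSpectrum.basicOpen ((𝒮.strZero U hU).hom a) := hmem
    erw [GrothLib.RelProjK.toSpecZero_preimage_basicOpen (𝒮.str_mem U hU a)] at h2
    have h3 : z ∈ (Proj.basicOpen 𝒜 ((𝒮.str.app (op U)).hom a) : (Proj 𝒜).Opens) := h2
    rw [hbot] at h3
    exact h3
  have hnil : ∀ (m : ℕ) (x : A), 0 < m → x ∈ 𝒜 m → Proj.basicOpen 𝒜 x = ⊥ → x = 0 := by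
    intro m x hm hx hb
    refine hred U hU x (HomogeneousIdeal.mem_irrelevant_of_mem 𝒜 hm hx) ?_
    by_contra hn
    obtain ⟨q, hq, hxq⟩ : ∃ q : Ideal A, q.IsPrime ∧ x ∉ q := by
      by_contra h
      push_neg at h
      exact hn ((nilradical_eq_sInf A ▸ Submodule.mem_sInf.2 fun q hq => h q hq : x ∈ nilradical A))
    have hxc : x ∉ (q.homogeneousCore 𝒜).toIdeal := fun h => hxq (Ideal.toIdeal_homogeneousCore_le 𝒜 q h)
    let z : ProjectiveSpectrum 𝒜 := ⟨q.homogeneousCore 𝒜, hq.homogeneousCore,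
      fun hle => hxc (hle (HomogeneousIdeal.mem_irrelevant_of_mem 𝒜 hm hx))⟩
    have hz : z ∈ Proj.basicOpen 𝒜 x := hxc
    rw [hb] at hz
    exact hz
  have hne0 : (𝒜₊).toIdeal ≠ ⊥ := by
    intro h
    obtain ⟨z⟩ := (inferInstance : Nonempty (Proj 𝒜))
    exact z.not_irrelevant_le (show (𝒜₊).toIdeal ≤ z.asHomogeneousIdeal.toIdeal by rw [h]; exact bot_le)
  haveI : Nontrivial A := by
    by_contra hA
    rw [not_nontrivial_iff_subsingleton] at hA
    exact hne0 (Subsingleton.elim _ _)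
  haveI : Nonempty U := hne.to_subtype
  have hA : ∀ {m n : ℕ} {x y : A}, x ∈ 𝒜 m → y ∈ 𝒜 n → x * y = 0 → m = 0 → x = 0 ∨ y = 0 := by
    intro m n x y hx hy hxy hm
    subst hm
    obtain ⟨a, ha⟩ := (h0 U hU).2 ⟨x, hx⟩
    by_cases ha0 : a = 0
    · left; subst ha0; rw [map_zero] at ha; exact (congrArg Subtype.val ha).symm
    have hxa : (𝒮.str.app (op U)).hom a = x := congrArg Subtype.val ha
    rcases Nat.eq_zero_or_pos n with rfl | hn
    · obtain ⟨b, hb⟩ := (h0 U hU).2 ⟨y, hy⟩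
      have hab : a * b = 0 := (h0 U hU).1 (by
        rw [map_mul, ha, hb, map_zero]; exact Subtype.ext hxy)
      rcases mul_eq_zero.1 hab with h | h
      · exact absurd h ha0
      · right; subst h; rw [map_zero] at hb; exact (congrArg Subtype.val hb).symm
    · right
      refine hnil n y hn hy ?_
      by_contra hyb
      have := nonempty_preirreducible_inter (Proj.basicOpen 𝒜 x).2 (Proj.basicOpen 𝒜 y).2
        (by rw [Set.nonempty_iff_ne_empty]; exact fun h => hstr a ha0 (by rw [hxa]; exact TopologicalSpace.Opens.ext h))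
        (by rw [Set.nonempty_iff_ne_empty]; exact fun h => hyb (TopologicalSpace.Opens.ext h))
      obtain ⟨z, hz⟩ := this
      have hz' : z ∈ (Proj.basicOpen 𝒜 x ⊓ Proj.basicOpen 𝒜 y : (Proj 𝒜).Opens) := hz
      rw [← Proj.basicOpen_mul, hxy, Proj.basicOpen_zero] at hz'
      exact hz'
  refine ⟨?_, hne0⟩
  haveI hp : (⊥ : Ideal A).IsPrime := by
    refine Ideal.IsHomogeneous.isPrime_of_homogeneous_mem_or_mem (HomogeneousIdeal.isHomogeneous (⊥ : HomogeneousIdeal 𝒜)) bot_ne_top ?_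
    rintro x y ⟨m, hx⟩ ⟨n, hy⟩ hxy
    rw [Ideal.mem_bot] at hxy
    rcases Nat.eq_zero_or_pos m with hm | hm
    · exact (hA hx hy hxy hm).imp Ideal.mem_bot.2 Ideal.mem_bot.2
    rcases Nat.eq_zero_or_pos n with hn | hn
    · exact ((hA hy hx (by rw [mul_comm, hxy]) hn).symm).imp Ideal.mem_bot.2 Ideal.mem_bot.2
    by_contra hcon
    rw [not_or, Ideal.mem_bot, Ideal.mem_bot] at hcon
    obtain ⟨z, hz⟩ := nonempty_preirreducible_inter (Proj.basicOpen 𝒜 x).2 (Proj.basicOpen 𝒜 y).2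
      (by rw [Set.nonempty_iff_ne_empty]; exact fun h => hcon.1 (hnil m x hm hx (TopologicalSpace.Opens.ext h)))
      (by rw [Set.nonempty_iff_ne_empty]; exact fun h => hcon.2 (hnil n y hn hy (TopologicalSpace.Opens.ext h)))
    have hz' : z ∈ (Proj.basicOpen 𝒜 x ⊓ Proj.basicOpen 𝒜 y : (Proj 𝒜).Opens) := hz
    rw [← Proj.basicOpen_mul, hxy, Proj.basicOpen_zero] at hz'
    exact hz'
  exact IsDomain.of_bot_isPrime A

end Groth.Agent.S8265
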