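import Groth.Statements.S8268
import Groth.Agent.Lib.RLpsi8.VBundle

set_option autoImplicit false
universe u
open CategoryTheory CategoryTheory.Limits AlgebraicGeometry Opposite TopologicalSpace
open EGA2

namespace Groth.Agent.S8268

/-- A surjective homomorphism E → F of quasi-coherent O_S-modules induces a closed immersion V(F) → V(E)
of the associated vector bundles (relative spectra of the symmetric algebras; the algebra map A → B
is the one extending E → F). -/
theorem result {S : Scheme.{u}} (E F : S.Modules) (hE : Coh.IsQCoh E)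
    (hF : Coh.IsQCoh F) (u : E ⟶ F) [Epi u]
    (A B : RelSpec.QCAlg S) (j : E ⟶ A.toModule) (k : F ⟶ B.toModule)
    (hA : RelSpec.IsSymAlg E A j) (hB : RelSpec.IsSymAlg F B k)
    (ψ : A ⟶ B) (hψ : j ≫ RelSpec.QCAlg.Hom.toModuleMap ψ = u ≫ k) :
    IsClosedImmersion (RelSpec.QCAlg.specMap ψ) := by
  exact RLpsi8.S8268 E F hE hF u A B j k hB ψ hψ

end Groth.Agent.S8268
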