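import Groth.Statements.S8271
import Groth.Agent.Lib.RLpsi8.VBBiprod

set_option autoImplicit false
universe u
open CategoryTheory CategoryTheory.Limits AlgebraicGeometry Opposite TopologicalSpace
open EGA2

namespace Groth.Agent.S8271

/-- For quasi-coherent O_S-modules E and F, the vector bundle V(E ⊕ F) is identified with V(E) ×_S V(F):
with A_E, A_F, A the symmetric algebras of E, F, E ⊕ F and ψ_E : A_E → A, ψ_F : A_F → A the algebra
maps extending the inclusions of the two summands, the square formed by Spec(A) → Spec(A_E), Spec(A)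
→ Spec(A_F) and the two structure morphisms to S is a pullback square. -/
theorem result {S : Scheme.{u}} (E F : S.Modules) (hE : Coh.IsQCoh E) (hF : Coh.IsQCoh F)
    (AE AF A : RelSpec.QCAlg S) (jE : E ⟶ AE.toModule) (jF : F ⟶ AF.toModule) (j : E ⊞ F ⟶ A.toModule)
    (hAE : RelSpec.IsSymAlg E AE jE) (hAF : RelSpec.IsSymAlg F AF jF) (hA : RelSpec.IsSymAlg (E ⊞ F) A j)
    (ψE : AE ⟶ A) (ψF : AF ⟶ A)
    (hψE : jE ≫ RelSpec.QCAlg.Hom.toModuleMap ψE = biprod.inl ≫ j)
    (hψF : jF ≫ RelSpec.QCAlg.Hom.toModuleMap ψF = biprod.inr ≫ j) :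
    IsPullback (RelSpec.QCAlg.specMap ψE) (RelSpec.QCAlg.specMap ψF) AE.π AF.π := by
  exact RLpsi8.isPullback_vectorBundle_biprod E F AE AF A jE jF j hAE hAF hA ψE ψF hψE hψF

end Groth.Agent.S8271
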