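import Groth.Statements.S8272
import Mathlib.AlgebraicGeometry.ProjectiveSpectrum.Basic
import Mathlib.AlgebraicGeometry.IdealSheaf.Functorial

set_option autoImplicit false
universe u
open CategoryTheory CategoryTheory.Limits AlgebraicGeometry Opposite TopologicalSpace
open EGA2

namespace Groth.Agent.S8272

/-- Let T be a positively graded ring, Z = Proj T and g ∈ T_d (d > 0) a homogeneous element that is not
a zero divisor in T. Then Z is the smallest closed subscheme of Z containing the open D_+(g);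
equivalently the kernel (ideal sheaf) of the open immersion D_+(g) → Z vanishes. -/
theorem result {R A : Type u} [CommRing R] [CommRing A] [Algebra R A]
    (𝒜 : ℕ → Submodule R A) [GradedAlgebra 𝒜] {d : ℕ} (hd : 0 < d) (g : A) (hg : g ∈ 𝒜 d)
    (hnz : g ∈ nonZeroDivisors A) :
    (Proj.basicOpen 𝒜 g).ι.ker = ⊥ := by
  classical
  let J := Σ e : {e : ℕ // 0 < e}, {h : A // h ∈ 𝒜 e.1}
  have hcov : (⨆ j : J, Proj.basicOpen 𝒜 j.2.1) = ⊤ := by
    refine Proj.iSup_basicOpen_eq_top 𝒜 _ fun a ha => ?_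
    rw [← DirectSum.sum_support_decompose 𝒜 a]
    refine Ideal.sum_mem _ fun i hi => ?_
    rcases Nat.eq_zero_or_pos i with rfl | hpos
    · have : GradedRing.proj 𝒜 0 a = 0 := (HomogeneousIdeal.mem_irrelevant_iff _ _).mp ha
      rw [GradedRing.proj_apply] at this
      rw [this]; exact zero_mem _
    · exact Ideal.subset_span ⟨⟨⟨i, hpos⟩, ⟨_, SetLike.coe_mem _⟩⟩, rfl⟩
  let U : J → (Proj 𝒜).affineOpens := fun j =>
    ⟨Proj.basicOpen 𝒜 j.2.1, Proj.isAffineOpen_basicOpen 𝒜 _ j.2.2 j.1.2⟩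
  have hqc : QuasiCompact (Proj.basicOpen 𝒜 g).ι := by
    refine (IsZariskiLocalAtTarget.iff_of_iSup_eq_top (P := @QuasiCompact) _ hcov).mpr fun j => ?_
    haveI : CompactSpace (Proj.basicOpen 𝒜 j.2.1).toScheme :=
      isCompact_iff_compactSpace.mp (Proj.isAffineOpen_basicOpen 𝒜 _ j.2.2 j.1.2).isCompact
    haveI : QuasiSeparatedSpace (Proj.basicOpen 𝒜 j.2.1).toScheme :=
      (isQuasiSeparated_iff_quasiSeparatedSpace _ (Proj.basicOpen 𝒜 j.2.1).isOpen).mp
        (Proj.isAffineOpen_basicOpen 𝒜 _ j.2.2 j.1.2).isQuasiSeparated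
    rw [quasiCompact_iff_compactSpace]
    haveI : IsAffine (Proj.basicOpen 𝒜 j.2.1).toScheme := Proj.isAffineOpen_basicOpen 𝒜 _ j.2.2 j.1.2
    have h2 : IsAffineOpen (Proj.basicOpen 𝒜 (j.2.1 * g)) :=
      Proj.isAffineOpen_basicOpen 𝒜 _ (SetLike.mul_mem_graded j.2.2 hg) (Nat.add_pos_left j.1.2 _)
    have hc := h2.isCompact
    refine isCompact_iff_compactSpace.mp ?_
    rw [(Proj.basicOpen 𝒜 g).ι.isOpenEmbedding.isEmbedding.isCompact_iff]
    convert hc using 1
    rw [Proj.basicOpen_mul, inf_comm]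
    rw [← Scheme.Hom.coe_image, Scheme.Hom.image_preimage_eq_opensRange_inf, Scheme.Opens.opensRange_ι]
  refine Scheme.IdealSheafData.ext_of_iSup_eq_top U hcov fun j => ?_
  obtain ⟨⟨e, he⟩, ⟨h, hh⟩⟩ := j
  simp only [U, Scheme.Hom.ker_apply, Scheme.IdealSheafData.ideal_bot, Pi.bot_apply, ← le_bot_iff]
  intro s hs
  rw [RingHom.mem_ker] at hs
  have hle : Proj.basicOpen 𝒜 (h * g) ≤
      (Proj.basicOpen 𝒜 g).ι ''ᵁ (Proj.basicOpen 𝒜 g).ι ⁻¹ᵁ Proj.basicOpen 𝒜 h := by
    rw [Scheme.Hom.image_preimage_eq_opensRange_inf, Scheme.Opens.opensRange_ι, Proj.basicOpen_mul,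
      inf_comm]
  have hres : (Proj 𝒜).presheaf.map (homOfLE (Proj.basicOpen_mono 𝒜 h (h * g) ⟨g, rfl⟩)).op s = 0 := by
    rw [Scheme.Opens.ι_app] at hs
    have h3 := congrArg (⇑((Proj 𝒜).presheaf.map (homOfLE hle).op).hom) hs
    refine Eq.trans ?_ (h3.trans (map_zero _))
    change _ = ((Proj 𝒜).presheaf.map _ ≫ (Proj 𝒜).presheaf.map _).hom s
    rw [← Functor.map_comp]
    rfl
  obtain ⟨b, rfl⟩ : ∃ b, Proj.awayToSection 𝒜 h b = s :=
    (ConcreteCategory.bijective_of_isIso (Proj.basicOpenIsoAway 𝒜 h hh he).hom).2 s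
  have key := congrArg (fun φ => φ.hom b) (Proj.awayMap_awayToSection 𝒜 hg (rfl : h * g = h * g))
  simp only [CommRingCat.hom_comp, RingHom.comp_apply, CommRingCat.hom_ofHom] at key
  rw [hres] at key
  have hinj : Function.Injective (Proj.awayToSection 𝒜 (h * g)) :=
    (ConcreteCategory.bijective_of_isIso (Proj.basicOpenIsoAway 𝒜 (h * g)
      (SetLike.mul_mem_graded hh hg) (Nat.add_pos_left he _)).hom).1
  have hb : HomogeneousLocalization.awayMap 𝒜 hg (rfl : h * g = h * g) b = 0 :=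
    hinj (key.trans (map_zero _).symm)
  suffices b = 0 by simp [this]
  obtain ⟨n, a, ha, rfl⟩ := HomogeneousLocalization.Away.mk_surjective 𝒜 hh b
  apply HomogeneousLocalization.val_injective
  replace hb := congrArg HomogeneousLocalization.val hb
  rw [HomogeneousLocalization.awayMap_mk, HomogeneousLocalization.Away.val_mk,
    HomogeneousLocalization.val_zero, Localization.mk_eq_mk', IsLocalization.mk'_eq_zero_iff] at hb
  obtain ⟨⟨_, m, rfl⟩, hm⟩ := hb
  rw [HomogeneousLocalization.Away.val_mk, HomogeneousLocalization.val_zero, Localization.mk_eq_mk',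
    IsLocalization.mk'_eq_zero_iff]
  refine ⟨⟨h ^ m, m, rfl⟩, ?_⟩
  have : g ^ (m + n) * (h ^ m * a) = 0 := by
    rw [← hm]; simp only [mul_pow, pow_add]; ring
  exact (pow_mem hnz _).1 _ this

end Groth.Agent.S8272
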