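import Groth.Statements.S8273
import Groth.Agent.Lib.RelProjK.ProjProps

set_option autoImplicit false
universe u
open CategoryTheory CategoryTheory.Limits AlgebraicGeometry Opposite TopologicalSpace
open scoped HomogeneousIdeal
open EGA2

namespace Groth.Agent.S8273

/-- Uniqueness of the relative homogeneous spectrum: two schemes over Y equipped with the chart data of
Proj(𝒮) are related by a unique morphism compatible with the charts (chartwise the identity of Proj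
𝒮(U)), and that morphism is a Y-isomorphism. -/
theorem result {Y P P' : Scheme.{u}} (𝒮 : RelProj.QCGrAlg Y) (p : P ⟶ Y)
    (chart : ∀ (U : Y.Opens) (hU : IsAffineOpen U), (((p ⁻¹ᵁ U : P.Opens) : Scheme.{u}) ≅ Proj (𝒮.deg U hU)))
    (hP : RelProj.IsRelProj 𝒮 p chart) (p' : P' ⟶ Y)
    (chart' : ∀ (U : Y.Opens) (hU : IsAffineOpen U), (((p' ⁻¹ᵁ U : P'.Opens) : Scheme.{u}) ≅ Proj (𝒮.deg U hU)))
    (hP' : RelProj.IsRelProj 𝒮 p' chart') :
    (∃! e : P ⟶ P', ∀ (U : Y.Opens) (hU : IsAffineOpen U),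
        (p ⁻¹ᵁ U).ι ≫ e = (chart U hU).hom ≫ (chart' U hU).inv ≫ (p' ⁻¹ᵁ U).ι) ∧
      ∀ e : P ⟶ P', (∀ (U : Y.Opens) (hU : IsAffineOpen U),
        (p ⁻¹ᵁ U).ι ≫ e = (chart U hU).hom ≫ (chart' U hU).inv ≫ (p' ⁻¹ᵁ U).ι) → IsIso e ∧ e ≫ p' = p := by
  have key : ∀ {Q Q' : Scheme.{u}} (q : Q ⟶ Y) (q' : Q' ⟶ Y)
      (c : ∀ (U : Y.Opens) (hU : IsAffineOpen U), (((q ⁻¹ᵁ U : Q.Opens) : Scheme.{u}) ≅ Proj (𝒮.deg U hU)))
      (c' : ∀ (U : Y.Opens) (hU : IsAffineOpen U), (((q' ⁻¹ᵁ U : Q'.Opens) : Scheme.{u}) ≅ Proj (𝒮.deg U hU))),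
      RelProj.IsRelProj 𝒮 q c → RelProj.IsRelProj 𝒮 q' c' →
      ∃! e : Q ⟶ Q', ∀ (U : Y.Opens) (hU : IsAffineOpen U),
        (q ⁻¹ᵁ U).ι ≫ e = (c U hU).hom ≫ (c' U hU).inv ≫ (q' ⁻¹ᵁ U).ι := by
    intro Q Q' q q' c c' h h'
    refine GrothLib.RelProjK.existsUnique_glue_affine q _ fun U hU r => ?_
    rw [← Category.assoc, h.chart_res U hU r, Category.assoc]
    congr 1
    exact RelProj.map_res_emb h' U hU r
  refine ⟨key p p' chart chart' hP hP', fun e he => ?_⟩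
  obtain ⟨e', he', -⟩ := key p' p chart' chart hP' hP
  refine ⟨⟨e', GrothLib.RelProjK.hom_ext_affine p fun U hU => ?_, GrothLib.RelProjK.hom_ext_affine p' fun U hU => ?_⟩,
    GrothLib.RelProjK.hom_ext_affine p fun U hU => ?_⟩
  · rw [reassoc_of% (he U hU), he' U hU, Iso.inv_hom_id_assoc, Iso.hom_inv_id_assoc, Category.comp_id]
  · rw [reassoc_of% (he' U hU), he U hU, Iso.inv_hom_id_assoc, Iso.hom_inv_id_assoc, Category.comp_id]
  · rw [reassoc_of% (he U hU), ← hP'.chart_over U hU, Iso.inv_hom_id_assoc, hP.chart_over U hU]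

end Groth.Agent.S8273
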