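import Groth.Statements.S8288
import Groth.Agent.Lib.RelTilde8.GenLoc
import Groth.Agent.Lib.RelProjK.Twist
import Groth.Agent.Lib.FinCov.FrameFree

set_option autoImplicit false
universe u
open CategoryTheory CategoryTheory.Limits AlgebraicGeometry Opposite TopologicalSpace
open scoped HomogeneousIdeal
noncomputable section
open EGA2

namespace Groth.Agent.S8288

open AlgebraicGeometry CategoryTheory TopologicalSpace Opposite
open GrothLib.RelProjK (dg em mem_opensRange_em tr app_tr Tw cm vl)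

section ring

variable {A σ : Type u} [CommRing A] [SetLike σ A] [AddSubgroupClass σ A] {𝒜 : ℕ → σ} [GradedRing 𝒜]

/-- A section given by one fraction with invertible numerator is a basis. -/
theorem bijective_smul_of_val_frac {m : ℤ} {i j : ℕ} {a b : A} (ha : a ∈ 𝒜 i) (hb : b ∈ 𝒜 j)
    (hij : (i : ℤ) = j + m) {V : (Proj 𝒜).Opens}
    (hVa : ∀ y : V, a ∉ y.1.asHomogeneousIdeal) (hVb : ∀ y : V, b ∉ y.1.asHomogeneousIdeal)
    (g : Γ(GrTwist.twist 𝒜 m, V)) (hg : ∀ y : V, GrTwist.val g y = Localization.mk a ⟨b, hVb y⟩) :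
    Function.Bijective fun r : Γ(Proj 𝒜, V) => r • g := by
  have hu : ∀ y : V, IsUnit (Localization.mk a (⟨b, hVb y⟩ : y.1.asHomogeneousIdeal.toIdeal.primeCompl)) :=
    fun y => by
    refine IsUnit.of_mul_eq_one (Localization.mk b (⟨a, hVa y⟩ : y.1.asHomogeneousIdeal.toIdeal.primeCompl)) ?_
    rw [Localization.mk_mul, ← Localization.mk_one, Localization.mk_eq_mk_iff, Localization.r_iff_exists]
    exact ⟨1, by simp only [Submonoid.coe_mul, OneMemClass.coe_one]; ring⟩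
  refine ⟨fun r r' h => ?_, fun t => ?_⟩
  · refine Subtype.ext (funext fun y => HomogeneousLocalization.val_injective _ ?_)
    have e := congrArg (fun x => GrTwist.val x y) h
    simp only [GrothLib.RelTilde8.val_smul_twist, hg] at e
    exact (hu y).mul_right_cancel e
  · let t' : GrTwist.sectN (𝒜 := 𝒜) m (op V) := t
    have hloc : ∀ y : V, ∃ (W : (Proj 𝒜).Opens) (_ : y.1 ∈ W) (iW : W ⟶ V) (k : ℕ) (c s : A) (_ : c * b ∈ 𝒜 k)
        (_ : s * a ∈ 𝒜 k) (nin : ∀ z : W, s ∉ z.1.asHomogeneousIdeal),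
        ∀ z : W, GrTwist.val t (iW z) = Localization.mk c ⟨s, nin z⟩ := fun y => by
      obtain ⟨W, hy, iW, i', j', ⟨c, hc⟩, ⟨s, hs⟩, nin, hd, hw⟩ := t'.2 y
      refine ⟨W, hy, iW, j' + i, c, s, ?_, SetLike.mul_mem_graded hs ha, nin, hw⟩
      rcases hd with h | h
      · have e : i' + j = j' + i := by omega
        exact e ▸ SetLike.mul_mem_graded hc hb
      · rw [show c = 0 from h, zero_mul]; exact zero_mem _
    have hmk : ∀ (y : V) (c s : A) (hs : s ∉ y.1.asHomogeneousIdeal) (k : ℕ) (h1 : c * b ∈ 𝒜 k) (h2 : s * a ∈ 𝒜 k)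
        (h3 : s * a ∉ y.1.asHomogeneousIdeal),
        (HomogeneousLocalization.mk ⟨k, ⟨c * b, h1⟩, ⟨s * a, h2⟩, h3⟩ : GrTwist.A0 𝒜 y.1).val *
          Localization.mk a (⟨b, hVb y⟩ : y.1.asHomogeneousIdeal.toIdeal.primeCompl) =
            Localization.mk c ⟨s, hs⟩ := fun y c s hs k h1 h2 h3 => by
      rw [HomogeneousLocalization.val_mk, Localization.mk_mul, Localization.mk_eq_mk_iff, Localization.r_iff_exists]
      exact ⟨1, by simp only [Submonoid.coe_mul, OneMemClass.coe_one]; ring⟩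
    have hex : ∀ y : V, ∃ q : GrTwist.A0 𝒜 y.1,
        q.val * Localization.mk a ⟨b, hVb y⟩ = GrTwist.val t y := fun y => by
      obtain ⟨W, hy, iW, k, c, s, hcb, hsa, nin, hw⟩ := hloc y
      exact ⟨_, (hmk y c s (nin ⟨y.1, hy⟩) k hcb hsa
        fun hm => (y.1.isPrime.mem_or_mem hm).elim (nin ⟨y.1, hy⟩) (hVa y)).trans (hw ⟨y.1, hy⟩).symm⟩
    choose q hq using hex
    have hloc' : ∀ y : V, ∃ (W : (Proj 𝒜).Opens) (_ : y.1 ∈ W) (iW : W ⟶ V) (k : ℕ) (e f : 𝒜 k)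
        (nin : ∀ z : W, (f : A) ∉ z.1.asHomogeneousIdeal),
        ∀ z : W, q (iW z) = HomogeneousLocalization.mk ⟨k, e, f, nin z⟩ := fun y => by
      obtain ⟨W, hy, iW, k, c, s, hcb, hsa, nin, hw⟩ := hloc y
      refine ⟨W, hy, iW, k, ⟨c * b, hcb⟩, ⟨s * a, hsa⟩,
        fun z hm => (z.1.isPrime.mem_or_mem hm).elim (nin z) (hVa (iW z)), fun z => ?_⟩
      refine HomogeneousLocalization.val_injective _ ((hu (iW z)).mul_right_cancel ?_)
      rw [hq, hw z]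
      exact (hmk (iW z) c s (nin z) k hcb hsa _).symm
    refine ⟨(⟨q, hloc'⟩ : GrTwist.O (𝒜 := 𝒜) (op V)), GrothLib.RelTilde8.val_twist_ext fun y => ?_⟩
    rw [GrothLib.RelTilde8.val_smul_twist, hg]
    exact hq y

/-- The section given on `V` by one fraction. -/
noncomputable def fracSec {m : ℤ} {i j : ℕ} {a b : A} (ha : a ∈ 𝒜 i) (hb : b ∈ 𝒜 j)
    (hij : (i : ℤ) = j + m) (V : (Proj 𝒜).Opens) (hVb : ∀ y : V, b ∉ y.1.asHomogeneousIdeal) :
    GrTwist.sectN (𝒜 := 𝒜) m (op V) :=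
  ⟨fun y => ⟨Localization.mk a ⟨b, hVb y⟩, Submodule.subset_span ⟨i, j, ⟨a, ha⟩, ⟨b, hb⟩, hVb y, hij, rfl⟩⟩,
    fun y => ⟨V, y.2, 𝟙 _, i, j, ⟨a, ha⟩, ⟨b, hb⟩, hVb, Or.inl hij, fun _ => rfl⟩⟩

end ring

/-- For a global section f of 𝒮 of degree d > 0 and the open X_f of P = Proj(𝒮) it defines, the twisting
sheaf O_P(nd) restricted to X_f is isomorphic to the structure sheaf of X_f, for every integer n
(existence of an isomorphism; the published identification is canonical). -/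
theorem result {Y P : Scheme.{u}} (𝒮 : RelProj.QCGrAlg Y) (p : P ⟶ Y)
    (chart : ∀ (U : Y.Opens) (hU : IsAffineOpen U), (((p ⁻¹ᵁ U : P.Opens) : Scheme.{u}) ≅ Proj (𝒮.deg U hU)))
    (hP : RelProj.IsRelProj 𝒮 p chart) {d : ℕ} (hd : 0 < d) (f : 𝒮.presheaf.obj (op ⊤))
    (hf : ∀ (U : Y.Opens) (hU : IsAffineOpen U), (𝒮.presheaf.map (homOfLE le_top).op).hom f ∈ 𝒮.deg U hU d)
    (Xf : P.Opens)
    (hXf : ∀ (U : Y.Opens) (hU : IsAffineOpen U),
      Xf ⊓ p ⁻¹ᵁ U =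
        (p ⁻¹ᵁ U).ι ''ᵁ ((chart U hU).hom ⁻¹ᵁ
          Proj.basicOpen (𝒮.deg U hU) ((𝒮.presheaf.map (homOfLE le_top).op).hom f)))
    (n : ℤ) (L : P.Modules)
    (lam : ∀ (U : Y.Opens) (hU : IsAffineOpen U),
      L ⟶ (Scheme.Modules.pushforward (RelProj.emb p chart U hU)).obj (GrTwist.twist (𝒮.deg U hU) (n * (d : ℤ))))
    (hL : RelProj.IsRelTwist 𝒮 p chart (n * (d : ℤ)) L lam) :
    Nonempty (L.restrict Xf.ι ≅ Coh.structureModule (Xf : Scheme.{u})) := by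
  let fU : ∀ U : Y.AffineZariskiSite, 𝒮.presheaf.obj (op U.1) := fun U =>
    (𝒮.presheaf.map (homOfLE le_top).op).hom f
  have hfd : ∀ U, fU U ∈ dg 𝒮 U d := fun U => hf U.1 U.2
  have hne : ∀ (U : Y.AffineZariskiSite) (y : Proj (dg 𝒮 U)), em p chart U y ∈ Xf →
      fU U ∉ y.asHomogeneousIdeal := by
    intro U y hy
    have h : em p chart U y ∈ (Xf ⊓ p ⁻¹ᵁ U.1 : P.Opens) := ⟨hy, (mem_opensRange_em U).mp ⟨y, rfl⟩⟩
    rw [hXf U.1 U.2] at h
    obtain ⟨z, hz, e⟩ := h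
    have e' : (chart U.1 U.2).inv.base y = z := (p ⁻¹ᵁ U.1).ι.isOpenEmbedding.injective e.symm
    have hz' : (chart U.1 U.2).hom.base z ∈ Proj.basicOpen (dg 𝒮 U) (fU U) := hz
    rw [← e', ← Scheme.Hom.comp_apply, Iso.inv_hom_id] at hz'
    exact hz'
  have hres : ∀ (U V : Y.AffineZariskiSite) (h : V ≤ U), GrothLib.RelProjK.rs 𝒮 h (fU U) = fU V := fun U V h => by
    show (𝒮.presheaf.map _).hom ((𝒮.presheaf.map _).hom f) = (𝒮.presheaf.map _).hom f
    rw [← CommRingCat.comp_apply, ← 𝒮.presheaf.map_comp]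
    rfl
  have hpd : ∀ (U : Y.AffineZariskiSite) (k : ℕ), fU U ^ k ∈ dg 𝒮 U (k • d) :=
    fun U k => SetLike.pow_mem_graded k (hfd U)
  have hij : ((n.toNat • d : ℕ) : ℤ) = ((-n).toNat • d : ℕ) + n * d := by
    push_cast [smul_eq_mul]
    rw [← add_mul]
    congr 1
    omega
  have hnp : ∀ (k : ℕ) (U : Y.AffineZariskiSite) (y : (em p chart U ⁻¹ᵁ Xf : (Proj (dg 𝒮 U)).Opens)),
      fU U ^ k ∉ y.1.asHomogeneousIdeal := fun k U y hm => hne U y.1 y.2 (y.1.isPrime.mem_of_pow_mem k hm)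
  let t : ∀ U : Y.AffineZariskiSite, Γ(Tw p chart (n * (d : ℤ)) U, Xf) := fun U =>
    fracSec (hpd U n.toNat) (hpd U (-n).toNat) hij (em p chart U ⁻¹ᵁ Xf) (hnp (-n).toNat U)
  have ht : GrothLib.RelProjK.IsFam (Tw p chart (n * (d : ℤ))) (cm hP (n * (d : ℤ))) t := by
    intro U V h
    refine GrothLib.RelProjK.vl_ext fun y hy => ?_
    rw [GrothLib.RelProjK.vl_cm]
    refine (GrTwist.locMap_mk _ _ _ _ _).trans ?_
    show _ = Localization.mk (fU V ^ n.toNat) ⟨fU V ^ (-n).toNat, hnp (-n).toNat V ⟨y, hy⟩⟩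
    congr 1
    · rw [map_pow, hres U V h]
    · exact Subtype.ext (by simp only; rw [map_pow, hres U V h])
  obtain ⟨s, hs, -⟩ := GrothLib.RelProjK.existsUnique_section hP (n * (d : ℤ)) hL t ht
  have hbij : ∀ (U : Y.AffineZariskiSite) (W : P.Opens) (hWX : W ≤ Xf), W ≤ p ⁻¹ᵁ U.1 →
      Function.Bijective fun r : Γ(P, W) => r • tr L hWX s := by
    intro U W hWX hWU
    haveI := (em p chart U).isIso_app W fun x hx => (mem_opensRange_em U).mpr (hWU hx)
    let g : Γ(GrTwist.twist (dg 𝒮 U) (n * (d : ℤ)), em p chart U ⁻¹ᵁ W) :=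
      (lam U.1 U.2).app W (tr L hWX s)
    have hgv : ∀ y : (em p chart U ⁻¹ᵁ W : (Proj (dg 𝒮 U)).Opens), GrTwist.val g y =
        Localization.mk (fU U ^ n.toNat) ⟨fU U ^ (-n).toNat, hnp (-n).toNat U ⟨y.1, hWX y.2⟩⟩ := by
      intro y
      have e : g = tr (Tw p chart (n * (d : ℤ)) U) hWX (t U) := by
        rw [← hs U]
        exact app_tr (lam U.1 U.2) hWX s
      rw [e]
      rfl
    have hb := bijective_smul_of_val_frac (V := em p chart U ⁻¹ᵁ W) (hpd U n.toNat) (hpd U (-n).toNat) hij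
      (fun y => hnp n.toNat U ⟨y.1, hWX y.2⟩) (fun y => hnp (-n).toNat U ⟨y.1, hWX y.2⟩) g hgv
    refine (Function.Bijective.of_comp_iff' (hL.bijective U.1 U.2 W hWU) _).mp ?_
    have e : ((lam U.1 U.2).app W ∘ fun r : Γ(P, W) => r • tr L hWX s) =
        (fun r => r • g) ∘ (em p chart U).app W := funext fun r => (lam U.1 U.2).app_smul r _
    show Function.Bijective ((lam U.1 U.2).app W ∘ fun r : Γ(P, W) => r • tr L hWX s)
    rw [e]
    exact hb.comp (ConcreteCategory.bijective_of_isIso ((em p chart U).app W))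
  have htop : Xf.ι ''ᵁ ⊤ ≤ Xf := le_of_eq Xf.ι_image_top
  let M := L.restrict Xf.ι
  let s' : Γ(M, ⊤) := tr L htop s
  let φ : Coh.structureModule (Xf : Scheme.{u}) ⟶ M := GrothLib.FinCov.homOfSection s'
  suffices IsIso φ from ⟨(asIso φ).symm⟩
  refine GrothLib.RelProjK.isIso_of_bijective_local (p := Xf.ι ≫ p) φ fun U W hW => ?_
  have hWX : Xf.ι ''ᵁ W ≤ Xf := by
    rintro _ ⟨z, -, rfl⟩
    exact z.2
  have hWU : Xf.ι ''ᵁ W ≤ p ⁻¹ᵁ U.1 := by
    rintro _ ⟨z, hz, rfl⟩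
    exact hW hz
  have hφ : ∀ r, φ.app W r = (show Γ(P, Xf.ι ''ᵁ W) from r) • tr L hWX s := by
    intro r
    conv_lhs => rw [← GrothLib.FinCov.smul_one W r]
    rw [Scheme.Modules.Hom.app_smul, GrothLib.FinCov.homOfSection_one]
    show ((Xf.ι.appIso W).inv r) • (show Γ(L, Xf.ι ''ᵁ W) from L.presheaf.map _ s') = _
    rw [Scheme.Opens.ι_appIso]
    congr 1
    exact GrothLib.RelProjK.tr_tr L htop _ s
  rw [show ⇑(φ.app W) = fun r => (show Γ(P, Xf.ι ''ᵁ W) from r) • tr L hWX s from funext hφ]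
  exact hbij U (Xf.ι ''ᵁ W) hWX hWU

end Groth.Agent.S8288
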