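import Groth.Statements.S8292
import Groth.Agent.Lib.ProjQ8.DegOne

set_option autoImplicit false
set_option backward.isDefEq.respectTransparency false
universe u
open CategoryTheory CategoryTheory.Limits AlgebraicGeometry Opposite TopologicalSpace
open scoped HomogeneousIdeal
noncomputable section
open EGA2

namespace Groth.Agent.S8292

/-- Let 𝒮 be a quasi-coherent positively graded O_Y-algebra generated by 𝒮_1, M a quasi-coherent
O_Y-module and u : M → 𝒮_1 a surjective module map; let ū : Sym(M) → 𝒮 be the graded algebra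
homomorphism extending u. Then the morphism Proj(𝒮) → P(M) = Proj(Sym(M)) induced by ū is a closed
immersion. -/
theorem result {Y PT PS : Scheme.{u}} (𝒮 𝒯 : RelProj.QCGrAlg Y)
    (hgen : 𝒮.IsGenDegOne) (M : Y.Modules) (hM : Coh.IsQCoh M)
    (u : M ⟶ 𝒮.toModule)
    (hu1 : ∀ (U : Y.Opens) (hU : IsAffineOpen U) (x : Γ(M, U)), (u.app U) x ∈ 𝒮.deg U hU 1)
    (husurj : ∀ (U : Y.Opens) (hU : IsAffineOpen U) (s : 𝒮.presheaf.obj (op U)), s ∈ 𝒮.deg U hU 1 →
      ∃ x : Γ(M, U), (u.app U) x = s)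
    (j : M ⟶ 𝒯.toModule) (hT : RelProj.IsGrSymAlg M 𝒯 j)
    (ubar : 𝒯.toQCAlg ⟶ 𝒮.toQCAlg) (hubar : RelProj.IsGradedHom ubar)
    (hju : j ≫ RelSpec.QCAlg.Hom.toModuleMap ubar = u)
    (hirr : ∀ (U : Y.Opens) (hU : IsAffineOpen U),
      (𝒮.deg U hU)₊ ≤ ((𝒯.deg U hU)₊).map (RelProj.gradedHomAt ubar hubar U hU))
    (pT : PT ⟶ Y) (pS : PS ⟶ Y)
    (chartT : ∀ (U : Y.Opens) (hU : IsAffineOpen U), (((pT ⁻¹ᵁ U : PT.Opens) : Scheme.{u}) ≅ Proj (𝒯.deg U hU)))
    (chartS : ∀ (U : Y.Opens) (hU : IsAffineOpen U), (((pS ⁻¹ᵁ U : PS.Opens) : Scheme.{u}) ≅ Proj (𝒮.deg U hU)))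
    (hPT : RelProj.IsRelProj 𝒯 pT chartT) (hPS : RelProj.IsRelProj 𝒮 pS chartS)
    (h : PS ⟶ PT) (hh : RelProj.IsRelProjMap ubar hubar hirr chartT chartS h) : IsClosedImmersion h := by
    have hje : ∀ (U : Y.Opens) (e : Γ(M, U)),
        (ubar.hom.app (op U)).hom (show 𝒯.presheaf.obj (op U) from j.app U e) = (u.app U) e := fun U e =>
      congrArg (fun k : M ⟶ 𝒮.toModule => k.app U e) hju
    refine GrothLib.RelProjK.property_relProjMap @IsClosedImmersion hPT hPS hh fun U hU =>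
      GrothLib.ProjAlg.isClosedImmersion_map_of_pos _ (hirr U hU) fun n hn b hb => ?_
    obtain ⟨a, -, ha⟩ := GrothLib.ProjQ8.exists_preimage_of_gen ubar hgen hubar U hU (fun b hb => by
      obtain ⟨x, hx⟩ := husurj U hU b hb
      exact ⟨_, hT.2 U hU x, (hje U x).trans hx⟩) hn hb
    exact ⟨a, ha⟩

end Groth.Agent.S8292
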