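import Groth.Statements.S8297
import Groth.Agent.Lib.RelCone8.Infinity

set_option autoImplicit false
set_option backward.isDefEq.respectTransparency false
universe u
open CategoryTheory CategoryTheory.Limits AlgebraicGeometry Opposite TopologicalSpace
open scoped HomogeneousIdeal
noncomputable section
open EGA2

namespace Groth.Agent.S8297

/-- The relation i(C) = Ĉ − j(X): let 𝒮 be a quasi-coherent positively graded O_Y-algebra with 𝒮_0 =
O_Y, Ŝ = 𝒮[z] (given through a graded homomorphism ι : 𝒮 → Ŝ and a global section z of degree one,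
the map 𝒮(U)[X] → Ŝ(U), X ↦ z, being bijective over every affine open U), C = Spec(𝒮) the affine
cone, Ĉ = Proj(Ŝ) the projective cone and X = Proj(𝒮), each relative homogeneous spectrum given with
its charts; let i : C → Ĉ be the canonical open immersion (chartwise Spec of Ŝ(U)_(z) → 𝒮(U), z ↦ 1,
followed by the inclusion of D_+(z)), θ : Ŝ → 𝒮 the graded retraction of ι sending z to 0, and j : X
→ Ĉ the morphism chartwise induced by θ (the immersion of the locus at infinity). Then the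
underlying set of the image of i is the complement of the image of j. -/
theorem result {Y PC P : Scheme.{u}} (𝒮 𝒮h : RelProj.QCGrAlg Y) (h0 : RelCone.StrZeroBij 𝒮)
    (ι : 𝒮.toQCAlg ⟶ 𝒮h.toQCAlg) (z : 𝒮h.presheaf.obj (op ⊤)) (hz : RelCone.IsPolyOver 𝒮 𝒮h ι z)
    (pC : PC ⟶ Y)
    (chartC : ∀ (U : Y.Opens) (hU : IsAffineOpen U), (((pC ⁻¹ᵁ U : PC.Opens) : Scheme.{u}) ≅ Proj (𝒮h.deg U hU)))
    (hPC : RelProj.IsRelProj 𝒮h pC chartC)
    (i : 𝒮.toQCAlg.spec ⟶ PC) (hi : RelCone.IsConeImm 𝒮 hz pC chartC i)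
    (θ : 𝒮h.toQCAlg ⟶ 𝒮.toQCAlg) (hθ : RelProj.IsGradedHom θ) (hιθ : ι ≫ θ = 𝟙 _)
    (hθz : (θ.hom.app (op ⊤)).hom z = 0)
    (hirr : ∀ (U : Y.Opens) (hU : IsAffineOpen U),
      (𝒮.deg U hU)₊ ≤ ((𝒮h.deg U hU)₊).map (RelProj.gradedHomAt θ hθ U hU))
    (p : P ⟶ Y)
    (chart : ∀ (U : Y.Opens) (hU : IsAffineOpen U), (((p ⁻¹ᵁ U : P.Opens) : Scheme.{u}) ≅ Proj (𝒮.deg U hU)))
    (hP : RelProj.IsRelProj 𝒮 p chart) (j : P ⟶ PC) (hj : RelProj.IsRelProjMap θ hθ hirr chartC chart j) :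
    Set.range i.base = (Set.range j.base)ᶜ := by
  exact GrothLib.RelCone8.range_imm_eq_compl hz hPC hi hιθ hθz hj

end Groth.Agent.S8297
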