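import Groth.Statements.S8305
import Groth.Agent.Lib.AffAlg8.Hom
import Groth.Agent.Lib.QCoh.Filtration
import Groth.Agent.Lib.QCoh.Qcqs

set_option autoImplicit false
set_option backward.isDefEq.respectTransparency false
universe u
open CategoryTheory CategoryTheory.Limits AlgebraicGeometry Opposite TopologicalSpace
noncomputable section
open EGA2

namespace Groth.Agent.S8305

/-- Let X and Y be schemes affine over S with structure morphisms gX and gY, h : Y → X a morphism over
S, F a quasi-coherent O_X-module, G a quasi-coherent O_Y-module and v : F → h_*G a homomorphism of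
O_X-modules, so that (h, v) is a morphism of pairs (Y, G) → (X, F). Then h and v are isomorphisms if
and only if the direct-image algebra homomorphism A(h) : gX_*O_X → gY_*O_Y and the direct image A(v)
= gX_*(v) : gX_*F → gX_*h_*G are isomorphisms (the pair (A(h), A(v)) is a di-isomorphism). -/
theorem result {X Y S : Scheme.{u}} (gX : X ⟶ S) [IsAffineHom gX]
    (gY : Y ⟶ S) [IsAffineHom gY] (h : Y ⟶ X) (hh : h ≫ gX = gY)
    (F : X.Modules) (G : Y.Modules) (hF : Coh.IsQCoh F) (hG : Coh.IsQCoh G)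
    (v : F ⟶ (Scheme.Modules.pushforward h).obj G) :
    (IsIso h ∧ IsIso v) ↔
      (IsIso (AffAlg.algHom gX gY h hh) ∧ IsIso ((Scheme.Modules.pushforward gX).map v)) := by
  haveI : F.IsQuasicoherent := hF
  haveI : G.IsQuasicoherent := hG
  have hcomp : ∀ {A B C : Scheme.{u}} (a : A ⟶ S) (b : B ⟶ S) (c : C ⟶ S) (i : B ⟶ A) (hi : i ≫ a = b)
      (j : C ⟶ B) (hj : j ≫ b = c), AffAlg.algHom a b i hi ≫ AffAlg.algHom b c j hj =
        AffAlg.algHom a c (j ≫ i) (by rw [Category.assoc, hi, hj]) := by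
    intro A B C a b c i hi j hj
    ext U : 2
    rw [NatTrans.comp_app, GrothLib.AffAlg8.algHom_app, GrothLib.AffAlg8.algHom_app, GrothLib.AffAlg8.algHom_app,
      Scheme.Hom.appLE_comp_appLE]
  have hid : ∀ {A : Scheme.{u}} (a : A ⟶ S), AffAlg.algHom a a (𝟙 A) (Category.id_comp a) = 𝟙 _ := by
    intro A a
    ext U : 2
    rw [GrothLib.AffAlg8.algHom_app]
    simp [Scheme.Hom.appLE]
    exact congrArg CommRingCat.Hom.hom (A.presheaf.map_id _)
  constructor
  · rintro ⟨hi, hv⟩
    have hw : inv h ≫ gY = gX := by rw [IsIso.inv_comp_eq, hh]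
    refine ⟨⟨AffAlg.algHom gY gX (inv h) hw, ?_, ?_⟩, inferInstance⟩
    · rw [hcomp]
      simp only [IsIso.inv_hom_id, hid]
    · rw [hcomp]
      simp only [IsIso.hom_inv_id, hid]
  · rintro ⟨hi, hv⟩
    have hc : gX.c ≫ AffAlg.algHom gX gY h hh = gY.c := by
      ext U : 2
      rw [NatTrans.comp_app, GrothLib.AffAlg8.algHom_app]
      subst hh
      refine congrArg CommRingCat.Hom.hom ?_
      show gX.app U ≫ h.appLE _ _ _ = (h ≫ gX).app U
      rw [Scheme.Hom.app_eq_appLE, Scheme.Hom.appLE_comp_appLE, Scheme.Hom.app_eq_appLE]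
    obtain ⟨k, wk, ek⟩ := GrothLib.AffAlg8.exists_hom gY gX (inv (AffAlg.algHom gX gY h hh))
      (by rw [← hc, Category.assoc, IsIso.hom_inv_id, Category.comp_id])
    have h1 : h ≫ k = 𝟙 Y := GrothLib.AffAlg8.hom_ext gY gY (by rw [Category.assoc, wk, hh]) (Category.id_comp _)
      (by rw [← hcomp gY gX gY k wk h hh, ek, IsIso.inv_hom_id, hid])
    have h2 : k ≫ h = 𝟙 X := GrothLib.AffAlg8.hom_ext gX gX (by rw [Category.assoc, hh, wk]) (Category.id_comp _)
      (by rw [← hcomp gX gY gX h hh k wk, ek, IsIso.hom_inv_id, hid])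
    haveI : IsIso h := ⟨k, h1, h2⟩
    refine ⟨this, ?_⟩
    haveI : ((Scheme.Modules.pushforward h).obj G).IsQuasicoherent := GrothLib.QCoh.isQuasicoherent_pushforward h G
    refine GrothLib.QCoh.isIso_of_bijective_on_cover v (fun U : S.affineOpens => gX ⁻¹ᵁ U.1) ?_
      (fun U => U.2.preimage gX) fun U => ?_
    · show (⨆ U : S.affineOpens, gX ⁻¹ᵁ U.1) = ⊤
      rw [← Scheme.Hom.preimage_iSup, iSup_affineOpens_eq_top, Scheme.Hom.preimage_top]
    · exact (ConcreteCategory.isIso_iff_bijective (((Scheme.Modules.pushforward gX).map v).app U.1)).1 inferInstance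

end Groth.Agent.S8305
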