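import Groth.Statements.S8307
import Groth.Agent.Lib.ConeInv10.Main

set_option autoImplicit false
universe u
open CategoryTheory CategoryTheory.Limits AlgebraicGeometry Opposite TopologicalSpace
open scoped HomogeneousIdeal
noncomputable section
open EGA2

namespace Groth.Agent.S8307

/-- The identification of the pointed projective cone of a line bundle: let L be an invertible
O_Y-module and L' an inverse of L (invertible, with L ⊗ L' isomorphic to O_Y); let 𝒮 = Sym(L) be the
graded symmetric algebra of L, C = V(L) = Spec(𝒮) the line bundle, Ŝ = 𝒮[z] (given through a graded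
homomorphism ι : 𝒮 → Ŝ and a global section z of degree one, polynomial over every affine open), Ĉ =
Proj(Ŝ) the projective closure of V(L) with its charts, and Ê ⊆ Ĉ its pointed projective cone (the
union of the chart images of the opens where the morphism induced by ι(U) is defined); let 𝒮' =
Sym(L') and V(L') = Spec(𝒮'). Then V(L') and Ê are isomorphic as schemes over Y: there is an
isomorphism V(L') ≅ Ê whose composite with the inclusion of Ê and the projection Ĉ → Y is the
structure morphism of V(L') (existence of an isomorphism; the published isomorphism is a canonical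
one). -/
theorem result {Y PC : Scheme.{u}} (L L' : Y.Modules)
    (hL : PicF.IsInvertible L) (hL' : PicF.IsInvertible L') (hLq : Coh.IsQCoh L) (hL'q : Coh.IsQCoh L')
    (hLL' : Nonempty (CohB1.tensorMod L L' ≅ Coh.structureModule Y))
    (𝒮 𝒮h : RelProj.QCGrAlg Y) (j : L ⟶ 𝒮.toModule) (hS : RelProj.IsGrSymAlg L 𝒮 j) (h0 : RelCone.StrZeroBij 𝒮)
    (ι : 𝒮.toQCAlg ⟶ 𝒮h.toQCAlg) (z : 𝒮h.presheaf.obj (op ⊤)) (hz : RelCone.IsPolyOver 𝒮 𝒮h ι z)
    (pC : PC ⟶ Y)
    (chartC : ∀ (U : Y.Opens) (hU : IsAffineOpen U), (((pC ⁻¹ᵁ U : PC.Opens) : Scheme.{u}) ≅ Proj (𝒮h.deg U hU)))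
    (hPC : RelProj.IsRelProj 𝒮h pC chartC)
    (𝒮' : RelSpec.QCAlg Y) (j' : L' ⟶ 𝒮'.toModule) (hS' : RelSpec.IsSymAlg L' 𝒮' j') :
    ∃ e : 𝒮'.spec ≅ ((RelCone.pointedProjCone 𝒮 hz pC chartC : PC.Opens) : Scheme.{u}),
      e.hom ≫ (RelCone.pointedProjCone 𝒮 hz pC chartC).ι ≫ pC = 𝒮'.π := by
  obtain ⟨η⟩ := hLL'
  exact GrothLib.ConeInv10.exists_iso hz hS hLq hS' hL'q hPC hL hL' η

end Groth.Agent.S8307
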