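import Groth.Statements.S8311
import Groth.Agent.Lib.GradedAlg.NaturalTensor
import Groth.Agent.Lib.GradedAlg.ProjMapEventually

set_option autoImplicit false
universe u
open CategoryTheory AlgebraicGeometry
open scoped HomogeneousIdeal
open EGA2

namespace Groth.Agent.S8311

/-- Let S be a positively graded ring (an ℕ-graded R-algebra), S♮ the graded ring with S♮_n = S_[n] =
⊕_{m ≥ n} S_m (presented as a graded ring S' with an injective algebra homomorphism φ : S' → S[X]
carrying S'_n onto S_[n]·X^n), and T = S♮ ⊗_S S_0 = ⊕_n S_[n]/S_+S_[n] (presented as a graded ring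
with a surjective graded homomorphism π : S' → T whose kernel is the ideal generated by the elements
of S' corresponding to the constants in S_+); let ρ : T → S be the surjective graded homomorphism
sending the class of a ∈ S_[n] (in degree n) to the degree-n component of a, and Proj S → Proj T the
morphism it induces (a closed immersion, ρ being surjective). If there is n₀ such that S_{n+1} = S_1
S_n for every n ≥ n₀ (products of graded pieces as submodules), then the morphism Proj S → Proj T is
an isomorphism. (The published statement also asserts the converse when S is Noetherian; that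
converse is not correct as published: for S = k[y] with y of degree 2 the morphism is an isomorphism
of one-point schemes Spec k while S_{2m} ≠ S_1 S_{2m−1} = 0 for all m, so only the direct
implication is stated here.) -/
theorem result {R A B C : Type u} [CommRing R] [CommRing A] [Algebra R A]
    (𝒜 : ℕ → Submodule R A) [GradedAlgebra 𝒜] [CommRing B] [Algebra R B] (ℬ : ℕ → Submodule R B) [GradedAlgebra ℬ]
    (φ : B →ₐ[R] Polynomial A) (hφ : Function.Injective φ)
    (hdeg : ∀ n : ℕ, Submodule.map φ.toLinearMap (ℬ n) =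
      Submodule.map ((Polynomial.monomial n : A →ₗ[A] Polynomial A).restrictScalars R) (⨆ (m : ℕ) (_ : n ≤ m), 𝒜 m))
    [CommRing C] [Algebra R C] (𝒞 : ℕ → Submodule R C) [GradedAlgebra 𝒞]
    (π : ℬ →+*ᵍ 𝒞) (hπ : Function.Surjective π)
    (hker : RingHom.ker π.toRingHom =
      Ideal.span (⇑φ ⁻¹' (⇑(Polynomial.C : A →+* Polynomial A) '' ((HomogeneousIdeal.irrelevant 𝒜).toIdeal : Set A))))
    (ρ : 𝒞 →+*ᵍ 𝒜) (hρ : ∀ (n : ℕ) (b : B), b ∈ ℬ n → ρ (π b) = GradedRing.proj 𝒜 n ((φ b).coeff n))
    (hirr : HomogeneousIdeal.irrelevant 𝒜 ≤ (HomogeneousIdeal.irrelevant 𝒞).map ρ)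
    (hgen : ∃ n₀ : ℕ, ∀ n : ℕ, n₀ ≤ n → 𝒜 (n + 1) = 𝒜 1 * 𝒜 n) :
    IsIso (Proj.map ρ hirr) := by
  obtain ⟨n₀, hn₀⟩ := hgen
  exact GrothLib.GradedAlg.isIso_map_of_surjective_of_eventually ρ hirr
    (GrothLib.GradedAlg.surjective_rho 𝒜 ℬ φ hdeg 𝒞 π ρ hρ)
    (GrothLib.GradedAlg.injOn_rho 𝒜 ℬ φ hφ hdeg 𝒞 π hker ρ hρ hπ hn₀)

end Groth.Agent.S8311
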