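import Groth.Statements.S8316
import Groth.Agent.Lib.DirImg8.Colim

set_option autoImplicit false
universe u
open CategoryTheory CategoryTheory.Limits AlgebraicGeometry Opposite TopologicalSpace
noncomputable section
open EGA2

namespace Groth.Agent.S8316

/-- Commutation with inductive limits: in the form it takes for the direct image: let f : X → S be an
affine morphism and (F_j)_{j ∈ J} an inductive system of quasi-coherent O_X-modules indexed by a
nonempty directed preordered set J. Then the canonical morphism from the inductive limit of the
f_*F_j to f_*(lim→ F_j), in the category of modules over the direct-image algebra f_*O_X, is an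
isomorphism. (The published statement says that the module on X attached to a quasi-coherent
f_*O_X-module commutes with inductive limits; through the equivalence on quasi-coherent modules this
is the direct image commuting with inductive limits of quasi-coherent modules.) -/
theorem result {X S : Scheme.{u}} (f : X ⟶ S) [IsAffineHom f]
    {J : Type u} [Preorder J] [Nonempty J] [IsDirected J (fun a b => a ≤ b)]
    (D : J ⥤ X.Modules) (hD : ∀ j, Coh.IsQCoh (D.obj j)) :
    IsIso (colimit.desc (D ⋙ AMod.dirImg f) ((AMod.dirImg f).mapCocone (colimit.cocone D))) := by
  haveI := GrothLib.DirImg8.preservesColimit_dirImg f D hD
  show IsIso (colimit.post D (AMod.dirImg f))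
  infer_instance

end Groth.Agent.S8316
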