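import Groth.Statements.S8320
import Groth.Agent.Lib.RLpsi8.ConeIntegral

set_option autoImplicit false
universe u
open CategoryTheory CategoryTheory.Limits AlgebraicGeometry Opposite TopologicalSpace
open scoped HomogeneousIdeal
noncomputable section
open EGA2

namespace Groth.Agent.S8320

/-- Let p : X → Y be a proper morphism with p^♯ : O_Y → p_*O_X an isomorphism, L an invertible
O_X-module ample relative to p, V = V(L) = Spec(Sym L) with projection π and zero section j0 (the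
vertex section), C a scheme over Y (structure morphism g) with a section ε and a Y-morphism q : V →
C with j0 ≫ q = p ≫ ε; let C' = Spec(𝒮') with 𝒮' = ⊕_{n≥0} p_*(L^{⊗n}) = (p∘π)_*O_V (the relative
spectrum over Y of the direct-image algebra of p∘π) and q' : V → C' the canonical Y-morphism (the
one corresponding to the identity of (p∘π)_*O_V under the universal property of the relative
spectrum); suppose moreover that X is integral, that C is normal (all its local rings are integrally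
closed domains), that q is proper and that the restriction of q to V0 = V − j0(X) is an open
immersion with image exactly C − ε(Y). Then every morphism u : C' → C over Y with q = q' ≫ u is an
isomorphism. (The published statement assumes only the commutativity j0 ≫ q = p ≫ ε; this row also
assumes q proper and q restricted to V − j0(X) an open immersion onto C − ε(Y), without which the
conclusion fails: for C = Y, ε the identity and q the structure morphism of V, the morphism u is the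
structure morphism C' → Y, which is not an isomorphism in general (X the projective line over a
field k, Y = C = Spec k, L of degree one: C' is the affine plane).) -/
theorem result {X Y C : Scheme.{u}} (p : X ⟶ Y) [IsProper p] (hθ : IsIso p.c)
    (L : X.Modules) (hL : PicF.IsInvertible L) (hLq : Coh.IsQCoh L) (hamp : RelAmple.IsRelAmple p L)
    (𝒜 : RelProj.QCGrAlg X) (jL : L ⟶ 𝒜.toModule) (hA : RelProj.IsGrSymAlg L 𝒜 jL) (h0 : RelCone.StrZeroBij 𝒜)
    (aug : 𝒜.toQCAlg ⟶ RelSpec.QCAlg.unit X) (haug : RelCone.IsAugmentation 𝒜 aug)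
    (j0 : X ⟶ 𝒜.toQCAlg.spec) (hj0 : RelCone.IsVertex 𝒜 aug j0)
    (g : C ⟶ Y) (ε : Y ⟶ C) (hε : ε ≫ g = 𝟙 Y) (q : 𝒜.toQCAlg.spec ⟶ C)
    (hqg : q ≫ g = 𝒜.toQCAlg.π ≫ p) (hjq : j0 ≫ q = p ≫ ε)
    (q' : 𝒜.toQCAlg.spec ⟶ (RelSpec.QCAlg.directImage (𝒜.toQCAlg.π ≫ p)).spec)
    (hq'π : q' ≫ (RelSpec.QCAlg.directImage (𝒜.toQCAlg.π ≫ p)).π = 𝒜.toQCAlg.π ≫ p)
    (hq' : AffAlg.algHom (RelSpec.QCAlg.directImage (𝒜.toQCAlg.π ≫ p)).π (𝒜.toQCAlg.π ≫ p) q' hq'π = (RelSpec.QCAlg.directImage (𝒜.toQCAlg.π ≫ p)).gammaMap)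
    [IsIntegral X] (hC : Pi1.IsNormalScheme C)
    [IsProper q] (V0 : 𝒜.toQCAlg.spec.Opens) (hV0 : (V0 : Set 𝒜.toQCAlg.spec) = (Set.range j0.base)ᶜ)
    (hqo : IsOpenImmersion (V0.ι ≫ q)) (hqr : Set.range (V0.ι ≫ q).base = (Set.range ε.base)ᶜ)
    (u : (RelSpec.QCAlg.directImage (𝒜.toQCAlg.π ≫ p)).spec ⟶ C) (hug : u ≫ g = (RelSpec.QCAlg.directImage (𝒜.toQCAlg.π ≫ p)).π) (hu : q' ≫ u = q) :
    IsIso u := by
  obtain ⟨ho, hpr, hop, ε', hε', h'⟩ := GrothLib.RLpsi8.Contract.exists_isContr_directImage p hθ hL hLq hamp hA h0 haug hj0 V0 hV0 q' hq'π hq'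
  haveI := hpr
  haveI : IsSplitMono ε := IsSplitMono.mk' ⟨g, hε⟩
  have h : GrothLib.RLpsi8.Contract.IsContr p j0 V0 ε q := ⟨inferInstance, hjq, hqo, hqr⟩
  haveI := GrothLib.RLpsi8.ConeSeries.isIntegral_spec hL hLq hA
  obtain ⟨x⟩ : Nonempty X := inferInstance
  obtain ⟨t, ht, -⟩ := GrothLib.RLpsi8.exists_triv_le hL (W := (⊤ : X.Opens)) (x := x) trivial
  obtain ⟨𝔭, -⟩ : x ∈ Set.range t.V.2.fromSpec := by rw [t.V.2.range_fromSpec]; exact ht
  let D : GrothLib.RLpsi8.ConeSeries.Data L 𝒜 jL aug j0 C ⊤ ⊤ := ⟨hLq, hA, haug, hj0, q, fun _ _ => trivial⟩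
  have hne : (V0 : Set 𝒜.toQCAlg.spec).Nonempty :=
    ⟨D.linePt t 𝔭, by rw [hV0]; exact D.linePt_notMem_range h0 t 𝔭⟩
  have hsq : Function.Surjective q.base := fun c => by
    by_cases hc : c ∈ Set.range ε.base
    · obtain ⟨y, rfl⟩ := hc
      obtain ⟨x, rfl⟩ := hop.surjective y
      exact ⟨j0 x, by rw [← Scheme.Hom.comp_apply, hjq]; rfl⟩
    · obtain ⟨z, hz⟩ : c ∈ Set.range (V0.ι ≫ q).base := by rw [hqr]; exact hc
      exact ⟨V0.ι z, hz⟩
  haveI : IsDominant q := ⟨hsq.denseRange⟩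
  have hoq := GrothLib.RLpsi8.Contract.oconn_of_normal q hC V0 hne hqo
  obtain ⟨w, hw, -⟩ := h.existsUnique_desc hV0 hoq ε' q' h'.sq
  refine ⟨w, ho.hom_ext ?_, hoq.hom_ext ?_⟩
  · rw [reassoc_of% hu]
    exact hw.trans (Category.comp_id _).symm
  · rw [reassoc_of% (show q ≫ w = q' from hw)]
    exact hu.trans (Category.comp_id _).symm

end Groth.Agent.S8320
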