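import Groth.Statements.S8325
import Groth.Agent.Lib.RelTilde8.FiniteType

set_option autoImplicit false
set_option backward.isDefEq.respectTransparency false
universe u
open CategoryTheory CategoryTheory.Limits AlgebraicGeometry Opposite TopologicalSpace
open scoped HomogeneousIdeal
noncomputable section
open EGA2

namespace Groth.Agent.S8325

/-- Let 𝒮 be a quasi-coherent positively graded O_Y-algebra generated by 𝒮_1, with 𝒮_1 of finite type,
and ℳ a quasi-coherent graded 𝒮-module satisfying (TF). Then the module ℳ~ on P = Proj(𝒮) (given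
through its chartwise identifications) is of finite type. -/
theorem result {Y P : Scheme.{u}} (𝒮 : RelProj.QCGrAlg Y) (p : P ⟶ Y)
    (chart : ∀ (U : Y.Opens) (hU : IsAffineOpen U), (((p ⁻¹ᵁ U : P.Opens) : Scheme.{u}) ≅ Proj (𝒮.deg U hU)))
    (hP : RelProj.IsRelProj 𝒮 p chart) (hgen : 𝒮.IsGenDegOne) (hft : 𝒮.IsFTDeg 1)
    (ℳ : RelProj.GrModule 𝒮) (hℳ : Coh.IsQCoh ((AMod.toOS 𝒮.toQCAlg).obj ℳ.mod)) (hTF : ℳ.IsTF) (F : P.Modules)
    (lam : ∀ (U : Y.Opens) (hU : IsAffineOpen U),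
      F ⟶ (Scheme.Modules.pushforward (RelProj.emb p chart U hU)).obj (GrMod.tilde (𝒮.deg U hU) (ℳ.deg U hU) 0))
    (hF : RelProj.IsRelTilde 𝒮 p chart ℳ 0 F lam) : CohB1.IsFT F := by
  exact GrothLib.RelTilde8.isFT_of_isTF hF hgen hTF (GrothLib.RelTilde8.isQCoh_of_isRelTilde 0 hF)

end Groth.Agent.S8325
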