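import Groth.Statements.S8333
import Groth.Agent.Lib.RelTwistPow8.Basic

set_option autoImplicit false
universe u
open CategoryTheory CategoryTheory.Limits AlgebraicGeometry Opposite TopologicalSpace
open scoped HomogeneousIdeal
noncomputable section
open EGA2

namespace Groth.Agent.S8333

/-- Let Y be a scheme with quasi-compact underlying space, 𝒮 a quasi-coherent positively graded
O_Y-algebra generated by 𝒮_1 with 𝒮_1 of finite type, p : P = Proj(𝒮) → Y, and F a quasi-coherent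
O_P-module of finite type. Then there is n₀ such that for all n ≥ n₀ the canonical morphism
p^*(p_*(F(n))) → F(n) is an epimorphism, where F(n) = F ⊗ O_P(n) with O_P(n) given through its
chartwise identifications. -/
theorem result {Y P : Scheme.{u}} (𝒮 : RelProj.QCGrAlg Y) (p : P ⟶ Y)
    (chart : ∀ (U : Y.Opens) (hU : IsAffineOpen U), (((p ⁻¹ᵁ U : P.Opens) : Scheme.{u}) ≅ Proj (𝒮.deg U hU)))
    (hP : RelProj.IsRelProj 𝒮 p chart) [CompactSpace Y] (hgen : 𝒮.IsGenDegOne)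
    (hft : 𝒮.IsFTDeg 1) (F : P.Modules) (hFq : Coh.IsQCoh F) (hFt : CohB1.IsFT F) :
    ∃ n₀ : ℤ, ∀ (n : ℤ), n₀ ≤ n → ∀ (L : P.Modules)
      (lam : ∀ (U : Y.Opens) (hU : IsAffineOpen U),
      L ⟶ (Scheme.Modules.pushforward (RelProj.emb p chart U hU)).obj (GrTwist.twist (𝒮.deg U hU) n)),
      RelProj.IsRelTwist 𝒮 p chart n L lam →
        Epi ((Scheme.Modules.pullbackPushforwardAdjunction p).counit.app (CohB1.tensorMod F L)) := by
  haveI := GrothLib.RelTwistPow8.quasiCompact_p hP hgen hft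
  obtain ⟨O1, lam1, h1⟩ := GrothLib.RelProjK.exists_isRelTwist (chart := chart) hP (1 : ℤ)
  have hA := GrothLib.RelTwistPow8.isRelAmple_one hP hgen hft h1
  haveI : F.IsQuasicoherent := hFq
  obtain ⟨ι, _, V, hV, -, hcov⟩ := GrothLib.QCoh.exists_finite_affine_cover (U := (⊤ : Y.Opens)) (by simpa using isCompact_univ)
  have hfin := GrothLib.ResProp22.finSec_of_isFT hFt
  choose n₀ hn₀ using fun i => GrothLib.ResProp22.eventually_ggen_restrict
    (GrothLib.RelProjK.isInvertible_of_isRelTwist hgen h1) (p ⁻¹ᵁ V i) (hA.2 ⟨V i, hV i⟩) hfin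
  refine ⟨(Finset.univ.sup n₀ : ℕ) + 1, fun n hn L lam hL => ?_⟩
  obtain ⟨m, rfl⟩ : ∃ m : ℕ, n = ((m + 1 : ℕ) : ℤ) := ⟨(n - 1).toNat, by omega⟩
  obtain ⟨a⟩ := GrothLib.RelTwistPow8.nonempty_pow_iso hP hgen h1 m L lam hL
  refine GrothLib.RLpsi8.epi_counit_of_ggen_on p _ fun x => ?_
  obtain ⟨i, hi⟩ := TopologicalSpace.Opens.mem_iSup.1 (hcov (show p x ∈ (⊤ : Y.Opens) from trivial))
  refine ⟨V i, hi, GrothLib.Ample.isGloballyGenerated_of_iso ((Scheme.Modules.restrictFunctor (p ⁻¹ᵁ V i).ι).mapIso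
    (GrothLib.Ample.LineData.tensorModMapIso (Iso.refl F) a)) (hn₀ i (m + 1) ?_)⟩
  have := Finset.le_sup (f := n₀) (Finset.mem_univ i)
  omega

end Groth.Agent.S8333
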