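import Groth.Statements.S8334
import Groth.Agent.Lib.RelTwistPow8.Basic

set_option autoImplicit false
universe u
open CategoryTheory CategoryTheory.Limits AlgebraicGeometry Opposite TopologicalSpace
open scoped HomogeneousIdeal
noncomputable section
open EGA2

namespace Groth.Agent.S8334

/-- Let Y be a quasi-compact separated scheme, or a scheme with Noetherian underlying space, 𝒮 a
quasi-coherent positively graded O_Y-algebra generated by 𝒮_1 with 𝒮_1 of finite type, p : P =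
Proj(𝒮) → Y, and F a quasi-coherent O_P-module of finite type. Then there is n₀ such that for every
n ≥ n₀, F is a quotient of (p^*G)(−n) = p^*(G) ⊗ O_P(−n) for some quasi-coherent O_Y-module G of
finite type (which may vary with n), O_P(−n) being given through its chartwise identifications. -/
theorem result {Y P : Scheme.{u}} (𝒮 : RelProj.QCGrAlg Y) (p : P ⟶ Y)
    (chart : ∀ (U : Y.Opens) (hU : IsAffineOpen U), (((p ⁻¹ᵁ U : P.Opens) : Scheme.{u}) ≅ Proj (𝒮.deg U hU)))
    (hP : RelProj.IsRelProj 𝒮 p chart)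
    (hY : (CompactSpace Y ∧ Y.IsSeparated) ∨ NoetherianSpace Y) (hgen : 𝒮.IsGenDegOne)
    (hft : 𝒮.IsFTDeg 1) (F : P.Modules) (hFq : Coh.IsQCoh F) (hFt : CohB1.IsFT F) :
    ∃ n₀ : ℤ, ∀ (n : ℤ), n₀ ≤ n → ∀ (L : P.Modules)
      (lam : ∀ (U : Y.Opens) (hU : IsAffineOpen U),
      L ⟶ (Scheme.Modules.pushforward (RelProj.emb p chart U hU)).obj (GrTwist.twist (𝒮.deg U hU) (-n))),
      RelProj.IsRelTwist 𝒮 p chart (-n) L lam →
        ∃ (G : Y.Modules) (π : CohB1.tensorMod ((Scheme.Modules.pullback p).obj G) L ⟶ F),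
          Coh.IsQCoh G ∧ CohB1.IsFT G ∧ Epi π := by
  haveI : CompactSpace Y := hY.elim (·.1) fun h => by haveI := h; infer_instance
  haveI : QuasiSeparatedSpace Y := hY.elim (fun h => by haveI := h.2; infer_instance) fun h => by haveI := h; infer_instance
  haveI := GrothLib.RelTwistPow8.quasiCompact_p hP hgen hft
  obtain ⟨O1, lam1, h1⟩ := GrothLib.RelProjK.exists_isRelTwist (chart := chart) hP (1 : ℤ)
  have hA := GrothLib.RelTwistPow8.isRelAmple_one hP hgen hft h1
  haveI : QuasiSeparated p := GrothLib.RLpsi8.quasiSeparated_of_isRelAmple hA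
  haveI : F.IsQuasicoherent := hFq
  have hinv := GrothLib.RelProjK.isInvertible_of_isRelTwist hgen h1
  obtain ⟨ι, _, V, hV, -, hcov⟩ := GrothLib.QCoh.exists_finite_affine_cover (U := (⊤ : Y.Opens)) (by simpa using isCompact_univ)
  have hfin := GrothLib.ResProp22.finSec_of_isFT hFt
  choose n₀ hn₀ using fun i => GrothLib.ResProp22.eventually_ggen_restrict hinv (p ⁻¹ᵁ V i) (hA.2 ⟨V i, hV i⟩) hfin
  obtain ⟨c, ⟨e⟩⟩ := GrothLib.Ample.exists_cocycle hinv
  refine ⟨(Finset.univ.sup n₀ : ℕ) + 1, fun n hn L lam hL => ?_⟩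
  obtain ⟨m, rfl⟩ : ∃ m : ℕ, n = ((m + 1 : ℕ) : ℤ) := ⟨(n - 1).toNat, by omega⟩
  obtain ⟨Lp, lamp, hLp⟩ := GrothLib.RelProjK.exists_isRelTwist (chart := chart) hP ((m + 1 : ℕ) : ℤ)
  obtain ⟨a⟩ := GrothLib.RelTwistPow8.nonempty_pow_iso hP hgen h1 m Lp lamp hLp
  obtain ⟨d⟩ := GrothLib.RelTwistPow8.nonempty_tensor_neg hP hgen hLp hL
  haveI := c.isQuasicoherent_modTwist F (m + 1)
  obtain ⟨t⟩ := c.nonempty_tensor_modTwist F (m + 1)
  obtain ⟨t'⟩ := c.nonempty_tensorPow_iso e (m + 1)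
  let θ : CohB1.tensorMod F (CohB1.tensorPow O1 (m + 1)) ≅ c.modTwist F (m + 1) :=
    GrothLib.Ample.LineData.tensorModMapIso (Iso.refl _) t' ≪≫ t
  obtain ⟨G, π, hG, hπ⟩ := GrothLib.CounitLim8.exists_fp_epi_pullback p (c.modTwist F (m + 1))
    (fun q => c.finite_modTwist F (m + 1) hfin q) V hV hcov
    fun i => GrothLib.Ample.isGloballyGenerated_of_iso ((Scheme.Modules.restrictFunctor (p ⁻¹ᵁ V i).ι).mapIso θ)
      (hn₀ i (m + 1) (by have := Finset.le_sup (f := n₀) (Finset.mem_univ i); omega))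
  haveI : G.IsQuasicoherent := GrothLib.FibPd.isQuasicoherent_of_isFP hG
  let T := GrothLib.Euler.tF L
  haveI : Limits.PreservesColimitsOfSize.{0, 0} T := Limits.preservesColimitsOfSize_shrink.{0, u, 0, u} _
  haveI := hπ
  haveI : T.PreservesEpimorphisms := CategoryTheory.preservesEpimorphisms_of_preservesColimitsOfShape _
  have he : Epi (T.map π) := @Functor.map_epi _ _ _ _ T _ _ _ π hπ
  let back : T.obj (c.modTwist F (m + 1)) ≅ F :=
    T.mapIso (θ.symm ≪≫ GrothLib.Ample.LineData.tensorModMapIso (Iso.refl _) a) ≪≫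
      GrothLib.OX.tensorAssoc F Lp L ≪≫ ((DCoh.tensorBi (X := P)).obj F).mapIso d ≪≫ GrothLib.Euler.tFUnitIso F
  exact ⟨G, T.map π ≫ back.hom, inferInstance, GrothLib.LimRank8.isFT_of_isFP G hG, epi_comp' he inferInstance⟩

end Groth.Agent.S8334
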