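import Groth.Statements.S8335
import Groth.Agent.Lib.RelBC8.Main

set_option autoImplicit false
universe u
open CategoryTheory CategoryTheory.Limits AlgebraicGeometry Opposite TopologicalSpace
open scoped HomogeneousIdeal
noncomputable section
open EGA2

namespace Groth.Agent.S8335

/-- Let ψ : Y' → Y be a morphism, 𝒮 a quasi-coherent positively graded O_Y-algebra and 𝒮' = ψ^*𝒮
(presented through a graded ψ-morphism 𝒮 → ψ_*𝒮' with pushout squares over affine opens), X =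
Proj(𝒮), X' = Proj(𝒮') = X ×_Y Y' with projection g : X' → X (chartwise induced by 𝒮(U) → 𝒮'(U')).
Then for every integer n the inverse image g^*(O_X(n)) is isomorphic to O_{X'}(n), both twisting
sheaves being given through their chartwise identifications (existence of an isomorphism only; the
published identification O_{X'}(n) = O_X(n) ⊗_Y O_{Y'} is canonical). -/
theorem result {Y Y' P P' : Scheme.{u}} (ψ : Y' ⟶ Y) (𝒮 : RelProj.QCGrAlg Y)
    (𝒮' : RelProj.QCGrAlg Y') (u : 𝒮.presheaf ⟶ ψ.base _* 𝒮'.presheaf)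
    (hu : 𝒮.str ≫ u = ψ.c ≫ (TopCat.Presheaf.pushforward CommRingCat.{u} ψ.base).map 𝒮'.str)
    (φ : ∀ (U : Y.Opens) (hU : IsAffineOpen U) (U' : Y'.Opens) (hU' : IsAffineOpen U') (_ : U' ≤ ψ ⁻¹ᵁ U),
      𝒮.deg U hU →+*ᵍ 𝒮'.deg U' hU')
    (hφ : ∀ (U : Y.Opens) (hU : IsAffineOpen U) (U' : Y'.Opens) (hU' : IsAffineOpen U') (hle : U' ≤ ψ ⁻¹ᵁ U),
      (φ U hU U' hU' hle).toRingHom =
        ((u.app (op U) : 𝒮.presheaf.obj (op U) ⟶ 𝒮'.presheaf.obj (op (ψ ⁻¹ᵁ U))) ≫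
          𝒮'.presheaf.map (homOfLE hle).op).hom)
    (hpo : ∀ (U : Y.Opens) (hU : IsAffineOpen U) (U' : Y'.Opens) (hU' : IsAffineOpen U') (hle : U' ≤ ψ ⁻¹ᵁ U),
      IsPushout (ψ.appLE U U' hle) (𝒮.str.app (op U)) (𝒮'.str.app (op U'))
        ((u.app (op U) : 𝒮.presheaf.obj (op U) ⟶ 𝒮'.presheaf.obj (op (ψ ⁻¹ᵁ U))) ≫
          𝒮'.presheaf.map (homOfLE hle).op))
    (hirr : ∀ (U : Y.Opens) (hU : IsAffineOpen U) (U' : Y'.Opens) (hU' : IsAffineOpen U') (hle : U' ≤ ψ ⁻¹ᵁ U),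
      (𝒮'.deg U' hU')₊ ≤ ((𝒮.deg U hU)₊).map (φ U hU U' hU' hle))
    (p : P ⟶ Y)
    (chart : ∀ (U : Y.Opens) (hU : IsAffineOpen U), (((p ⁻¹ᵁ U : P.Opens) : Scheme.{u}) ≅ Proj (𝒮.deg U hU)))
    (hP : RelProj.IsRelProj 𝒮 p chart) (p' : P' ⟶ Y')
    (chart' : ∀ (U' : Y'.Opens) (hU' : IsAffineOpen U'), (((p' ⁻¹ᵁ U' : P'.Opens) : Scheme.{u}) ≅ Proj (𝒮'.deg U' hU')))
    (hP' : RelProj.IsRelProj 𝒮' p' chart') (g : P' ⟶ P)
    (hg : ∀ (U : Y.Opens) (hU : IsAffineOpen U) (U' : Y'.Opens) (hU' : IsAffineOpen U') (hle : U' ≤ ψ ⁻¹ᵁ U),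
      (p' ⁻¹ᵁ U').ι ≫ g =
        (chart' U' hU').hom ≫ Proj.map (φ U hU U' hU' hle) (hirr U hU U' hU' hle) ≫ RelProj.emb p chart U hU)
    (n : ℤ) (L : P.Modules)
    (lam : ∀ (U : Y.Opens) (hU : IsAffineOpen U),
      L ⟶ (Scheme.Modules.pushforward (RelProj.emb p chart U hU)).obj (GrTwist.twist (𝒮.deg U hU) n))
    (hL : RelProj.IsRelTwist 𝒮 p chart n L lam) (L' : P'.Modules)
    (lam' : ∀ (U' : Y'.Opens) (hU' : IsAffineOpen U'),
      L' ⟶ (Scheme.Modules.pushforward (RelProj.emb p' chart' U' hU')).obj (GrTwist.twist (𝒮'.deg U' hU') n))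
    (hL' : RelProj.IsRelTwist 𝒮' p' chart' n L' lam') :
    Nonempty ((Scheme.Modules.pullback g).obj L ≅ L') := by
  have key : ∀ (U : Y.Opens) (hU : IsAffineOpen U) (U' : Y'.Opens) (hU' : IsAffineOpen U') (hle : U' ≤ ψ ⁻¹ᵁ U)
      (x : 𝒮.presheaf.obj (op U)), φ U hU U' hU' hle x =
        (𝒮'.presheaf.map (homOfLE hle).op).hom ((u.app (op U)).hom x) := fun U hU U' hU' hle x =>
    RingHom.congr_fun (hφ U hU U' hU' hle) x
  let D : GrothLib.RelBC8.Data ψ 𝒮 𝒮' :=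
    { φ := fun U U' h => φ U.1 U.2 U'.1 U'.2 h
      irr := fun U U' h => hirr U.1 U.2 U'.1 U'.2 h
      rs_left := fun U V hV U' h h' a => by
        rw [key, key]
        refine Eq.trans (congrArg _ (ConcreteCategory.congr_hom
          (u.naturality (homOfLE (Scheme.AffineZariskiSite.toOpens_mono hV)).op) a)) ?_
        show (𝒮'.presheaf.map _).hom ((𝒮'.presheaf.map _).hom ((u.app _).hom a)) = _
        rw [← CommRingCat.comp_apply, ← 𝒮'.presheaf.map_comp]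
        rfl
      rs_right := fun U U' E h hE a => by
        rw [key, key]
        show (𝒮'.presheaf.map _).hom ((𝒮'.presheaf.map _).hom ((u.app _).hom a)) = _
        rw [← CommRingCat.comp_apply, ← 𝒮'.presheaf.map_comp]
        rfl }
  let B : GrothLib.RelBC8.BaseData D :=
    { α := fun U U' h => (ψ.appLE U.1 U'.1 h).hom
      ρ := fun U => (𝒮.str.app (op U.1)).hom
      ρ' := fun U' => (𝒮'.str.app (op U'.1)).hom
      mem := fun U r => 𝒮.str_mem U.1 U.2 r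
      mem' := fun U r => 𝒮'.str_mem U.1 U.2 r
      pushout := fun U U' h => by
        have h1 := hpo U.1 U.2 U'.1 U'.2 h
        have h2 := hφ U.1 U.2 U'.1 U'.2 h
        rw [show CommRingCat.ofHom (φ U.1 U.2 U'.1 U'.2 h).toRingHom = _ from CommRingCat.hom_ext h2]
        exact h1 }
  have hg' : GrothLib.RelBC8.IsOver D p p' chart chart' g := fun U U' h => by
    show ((chart' U'.1 U'.2).inv ≫ (p' ⁻¹ᵁ U'.1).ι) ≫ g = _
    rw [Category.assoc, hg U.1 U.2 U'.1 U'.2 h, Iso.inv_hom_id_assoc]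
  exact GrothLib.RelBC8.nonempty_iso hg' hP hP' n B hL hL'

end Groth.Agent.S8335
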