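import Groth.Statements.S8341
import Groth.Agent.Lib.TildePull8.Main

set_option autoImplicit false
universe u
open CategoryTheory CategoryTheory.Limits AlgebraicGeometry Opposite TopologicalSpace
open scoped HomogeneousIdeal
noncomputable section
open EGA2

namespace Groth.Agent.S8341

/-- Let ψ : S' → S be a homomorphism of graded rings with S_+ contained in the ideal generated by
ψ(S'_+), so that Φ : Proj S → Proj S' is everywhere defined, and with S'_+ generated by S'_1. For a
graded S'-module M' let N = M' ⊗_{S'} S with its grading, presented as a graded S-module with a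
degree-preserving ψ-semilinear map v : M' → N having the universal property of base change. Then the
canonical morphism ν : Φ^*(M'(n)~) → N(n)~ — the adjoint of the morphism M'(n)~ → Φ_*(N(n)~), m/f ↦
v(m)/ψ(f) — is an isomorphism for every integer n. (Without the degree-one generation hypothesis the
published statement only provides the morphism ν. Gradings by additive subgroups; modules graded in
non-negative degrees.) -/
theorem result {A σ : Type u} [CommRing A] [SetLike σ A]
    [AddSubgroupClass σ A] {𝒜 : ℕ → σ} [GradedRing 𝒜] {B σ' : Type u} [CommRing B] [SetLike σ' B] [AddSubgroupClass σ' B]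
    {ℬ : ℕ → σ'} [GradedRing ℬ] (ψ : 𝒜 →+*ᵍ ℬ) (hψ : ℬ₊ ≤ (𝒜₊).map ψ)
    (hgen : (𝒜₊).toIdeal = Ideal.span (𝒜 1 : Set A))
    {M τ : Type u} [AddCommGroup M] [Module A M] [SetLike τ M] [AddSubgroupClass τ M] (ℳ : ℕ → τ)
    [SetLike.GradedSMul 𝒜 ℳ] [DirectSum.Decomposition ℳ]
    {N τ' : Type u} [AddCommGroup N] [Module B N] [SetLike τ' N] [AddSubgroupClass τ' N] (𝒩 : ℕ → τ')
    [SetLike.GradedSMul ℬ 𝒩] [DirectSum.Decomposition 𝒩]
    (v : M →ₛₗ[ψ.toRingHom] N) (hv : ∀ (i : ℕ) (m : M), m ∈ ℳ i → v m ∈ 𝒩 i)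
    (hbc : ∀ (Q : Type u) [AddCommGroup Q] [Module B Q] (w : M →ₛₗ[ψ.toRingHom] Q),
      ∃! g : N →ₗ[B] Q, ∀ m : M, g (v m) = w m)
    (n : ℤ) :
    IsIso (((Scheme.Modules.pullbackPushforwardAdjunction (Proj.map ψ hψ)).homEquiv _ _).symm
      (GrMod.comap ψ hψ v hv n)) := by
  exact GrothLib.TildePull8.isIso_adjunct ψ hψ v hv n hbc hgen

end Groth.Agent.S8341
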