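import Groth.Statements.S8346
import Groth.Agent.Lib.NoethTop.Retrocompact

set_option autoImplicit false
universe u
open ConstrTop

namespace Groth.Agent.S8346

open TopologicalSpace in
/-- Let X be a topological space admitting a basis of open subsets which are retrocompact in X. Then
every locally constructible subset T of X is retrocompact in X. -/
theorem result {X : Type u} [TopologicalSpace X]
    {B : Set (Set X)} (hB : IsTopologicalBasis B) (hBr : ∀ U ∈ B, IsRetrocompact U) {T : Set X}
    (hT : Topology.IsLocallyConstructible T) : IsRetrocompact T := by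
  intro W hW hWo
  have hcov : ∀ x ∈ W, ∃ b ∈ B, x ∈ b ∧ IsRetrocompact ((Subtype.val : b → X) ⁻¹' T) := fun x _ => by
    obtain ⟨U, hUn, hUo, hUc⟩ := hT x
    obtain ⟨b, hb, hxb, hbU⟩ := hB.exists_subset_of_mem_open (mem_of_mem_nhds hUn) hUo
    refine ⟨b, hb, hxb, GrothLib.NoethTop.isRetrocompact_of_isConstructible ?_⟩
    exact hUc.preimage_of_isOpenEmbedding (f := Set.inclusion hbU)
      (Topology.IsOpenEmbedding.inclusion hbU ((hB.isOpen hb).preimage continuous_subtype_val))
  choose! b hb hxb hr using hcov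
  obtain ⟨t, ht⟩ := hW.elim_nhds_subcover' (fun x hx => b x)
    (fun x hx => (hB.isOpen (hb x hx)).mem_nhds (hxb x hx))
  have e : T ∩ W = ⋃ x ∈ t, T ∩ (b x.1 ∩ W) := by
    ext y
    simp only [Set.mem_iUnion, Set.mem_inter_iff]
    refine ⟨fun ⟨h1, h2⟩ => ?_, fun ⟨_, _, h1, _, h2⟩ => ⟨h1, h2⟩⟩
    obtain ⟨x, hx, hyx⟩ := Set.mem_iUnion₂.1 (ht h2)
    exact ⟨x, hx, h1, hyx, h2⟩
  rw [e]
  refine t.isCompact_biUnion fun x _ => ?_
  have hc : IsCompact (b x.1 ∩ W) := hBr _ (hb x.1 x.2) hW hWo
  have hc' : IsCompact ((Subtype.val : b x.1 → X) ⁻¹' W) := by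
    rw [Topology.IsEmbedding.subtypeVal.isCompact_iff, Subtype.image_preimage_coe]
    exact hc
  have h := (hr x.1 x.2 hc' (hWo.preimage continuous_subtype_val)).image continuous_subtype_val
  rw [← Set.preimage_inter, Subtype.image_preimage_coe, Set.inter_left_comm] at h
  exact h

end Groth.Agent.S8346
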