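import Groth.Statements.S8348
import Groth.Agent.Lib.CxInj25.Basic
-- import your own Groth.Agent.* helpers here

set_option autoImplicit false
universe v u
open CategoryTheory CategoryTheory.Limits
open HomAlg3

namespace Groth.Agent.S8348

/-- Let C be an abelian category and Q a cochain complex of objects of C in degrees 0, 1, 2, ... such
that every Q^i is injective, every homology object H^i(Q) with i ≥ 1 is zero, and every inclusion of
the cycles Z^i(Q) into Q^i (i ≥ 0) is a split monomorphism. Then Q is an injective object of the
category of cochain complexes of C indexed by the natural numbers. (The published statement is for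
the narrower class of complexes with Z^i(Q) = B^i(Q) for every i ≥ 0, which in degree 0, where there
is no incoming differential, forces Z^0(Q) = 0; this row allows a nonzero Z^0(Q), so that it pairs
with the embedding of an arbitrary complex into such a Q. Such a Q is the direct sum of Z^0(Q)
placed in degree 0 and of the two-term complexes with Z^{i+1}(Q) in degrees i and i+1 and the
identity as differential, and the published argument carries over with Z^i(Q) in place of B^i(Q) as
the first summand of Q^i.) -/
theorem result {C : Type u} [Category.{v} C] [Abelian C]
    (Q : CochainComplex C ℕ) (hinj : ∀ i : ℕ, Injective (Q.X i)) (hac : ∀ i : ℕ, IsZero (Q.homology (i + 1)))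
    (hsplit : ∀ i : ℕ, IsSplitMono (Q.iCycles i)) : Injective Q := GrothLib.CxInj25.injective_of_split Q hinj hac hsplit

end Groth.Agent.S8348
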