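import Groth.Statements.S8350
import Mathlib.CategoryTheory.Abelian.Refinements
import Mathlib.Data.Int.LeastGreatest
import Mathlib.CategoryTheory.Abelian.Injective.Resolution
-- import your own Groth.Agent.* helpers here

set_option autoImplicit false
universe v u
open CategoryTheory CategoryTheory.Limits
open HomAlg3

namespace Groth.Agent.S8350


attribute [local instance] Abelian.hasFiniteBiproducts

variable {C : Type u} [Category.{v} C] [Abelian C]

section Splice

variable {Z Y : ℕ → C} (m : ∀ n, Z n ⟶ Y n) (q : ∀ n, Y n ⟶ Z (n + 1))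
  (w : ∀ n, m n ≫ q n = 0)

/-- The splice of short exact sequences. -/
noncomputable def splice : CochainComplex C ℕ :=
  CochainComplex.of Y (fun n => q n ≫ m (n + 1)) (fun n => by
    rw [Category.assoc, ← Category.assoc (m (n + 1)), w, zero_comp, comp_zero])

lemma splice_d (n : ℕ) : (splice m q w).d n (n + 1) = q n ≫ m (n + 1) :=
  CochainComplex.of_d (V := C) Y (fun n => q n ≫ m (n + 1)) n

lemma splice_d01 : (splice m q w).d 0 1 = q 0 ≫ m 1 := splice_d m q w 0

/-- The augmentation of a splice. -/
noncomputable def augm : (CochainComplex.single₀ C).obj (Z 0) ⟶ splice m q w :=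
  (CochainComplex.fromSingle₀Equiv (splice m q w) (Z 0)).symm ⟨m 0, by
    rw [splice_d01]
    exact (Category.assoc _ _ _).symm.trans ((congrArg (· ≫ m 1) (w 0)).trans zero_comp)⟩

lemma quasiIso_augm (hm : ∀ n, Mono (m n)) (hq : ∀ n, Epi (q n))
    (hex : ∀ n, (ShortComplex.mk (m n) (q n) (w n)).Exact) : QuasiIso (augm m q w) := by
  refine ⟨fun n => ?_⟩
  cases n with
  | zero =>
    have h0 : (ShortComplex.mk (m 0) (q 0 ≫ m 1) (by rw [← Category.assoc, w, zero_comp])).Exact := by
      refine (ShortComplex.exact_iff_exact_up_to_refinements _).2 fun T x hx => ?_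
      refine (hex 0).exact_up_to_refinements x ?_
      have := hm 1
      have hx' : (x ≫ q 0) ≫ m 1 = 0 := by rw [Category.assoc]; exact hx
      exact (cancel_mono (m 1)).1 (hx'.trans zero_comp.symm)
    rw [CochainComplex.quasiIsoAt₀_iff, ShortComplex.quasiIso_iff_of_zeros]
    · refine (ShortComplex.exact_and_mono_f_iff_of_iso ?_).2 ⟨h0, hm 0⟩
      exact ShortComplex.isoMk (Iso.refl _) (Iso.refl _) (Iso.refl _)
        (by simp [augm]; exact (Category.id_comp _).trans (Category.comp_id _).symm)
        ((Category.id_comp _).trans ((splice_d01 m q w).symm.trans (Category.comp_id _).symm))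
    all_goals rfl
  | succ k =>
    rw [quasiIsoAt_iff_exactAt]
    · rw [HomologicalComplex.exactAt_iff' _ k (k + 1) (k + 1 + 1) (by simp) (by simp)]
      refine (ShortComplex.exact_iff_exact_up_to_refinements _).2 fun T x hx => ?_
      change T ⟶ Y (k + 1) at x
      change x ≫ (splice m q w).d (k + 1) (k + 1 + 1) = 0 at hx
      simp only [splice, CochainComplex.of_d] at hx
      have := hm (k + 1 + 1)
      have hx' : (x ≫ q (k + 1)) ≫ m (k + 1 + 1) = 0 := by rw [Category.assoc]; exact hx
      obtain ⟨T₁, p₁, _, z, hz⟩ := (hex (k + 1)).exact_up_to_refinements x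
        ((cancel_mono (m (k + 1 + 1))).1 (hx'.trans zero_comp.symm))
      have := hq k
      obtain ⟨T₂, p₂, _, y, hy⟩ := surjective_up_to_refinements_of_epi (q k) z
      refine ⟨T₂, p₂ ≫ p₁, inferInstance, y, ?_⟩
      change (p₂ ≫ p₁) ≫ x = y ≫ (splice m q w).d k (k + 1)
      simp only [splice, CochainComplex.of_d]
      rw [Category.assoc, hz]
      exact (Category.assoc _ _ _).symm.trans ((congrArg (· ≫ m (k + 1)) hy).trans (Category.assoc _ _ _))
    · exact CochainComplex.exactAt_succ_single_obj _ _

end Splice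

/-- An object with a filtration concentrated in `[a, a + m]`. -/
structure Fil (C : Type u) [Category.{v} C] [Abelian C] (a : ℤ) (m : ℕ) where
  A : C
  F : ℤ → Subobject A
  anti : Antitone F
  top : ∀ i, i ≤ a → F i = ⊤
  bot : ∀ i, a + m ≤ i → F i = ⊥

variable [EnoughInjectives C] {a : ℤ} {m : ℕ} (s : Fil C a m)

/-- The graded constituents of the embedding. -/
noncomputable def part (k : Fin m) : C := Injective.under (cokernel (s.F (a + k + 1)).arrow)

instance (k : Fin m) : Injective (part s k) := Injective.injective_under _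

/-- The ambient injective. -/
noncomputable abbrev amb : C := ⨁ part s

instance : Injective (amb s) := inferInstanceAs (Injective (⨁ part s))

/-- The embedding. -/
noncomputable def emb : s.A ⟶ amb s :=
  biproduct.lift fun k => cokernel.π (s.F (a + k + 1)).arrow ≫ Injective.ι _

/-- The inclusion of a step. -/
noncomputable def inc (i : ℤ) :
    ⨁ Subtype.restrict (fun k : Fin m => i ≤ a + k) (part s) ⟶ amb s :=
  biproduct.fromSubtype _ _

instance (i : ℤ) : Mono (inc s i) :=
  have : IsSplitMono (inc s i) := IsSplitMono.mk' ⟨_, biproduct.fromSubtype_toSubtype _ _⟩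
  inferInstance

/-- The filtration of the ambient injective. -/
noncomputable def H (i : ℤ) : Subobject (amb s) := Subobject.mk (inc s i)

instance injective_H (i : ℤ) : Injective (H s i : C) := by
  have : ∀ k, Injective (Subtype.restrict (fun k : Fin m => i ≤ a + k) (part s) k) :=
    fun k => inferInstanceAs (Injective (part s k.1))
  exact Injective.of_iso (Subobject.underlyingIso (inc s i)).symm inferInstance

lemma H_factors {T : C} (g : T ⟶ amb s) (i : ℤ) :
    (H s i).Factors g ↔ ∀ k : Fin m, ¬ i ≤ a + k → g ≫ biproduct.π (part s) k = 0 := by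
  rw [H, Subobject.mk_factors_iff]
  constructor
  · rintro ⟨h, hh⟩ k hk
    change h ≫ inc s i = g at hh
    rw [← hh, Category.assoc]
    exact (congrArg (h ≫ ·) ((biproduct.fromSubtype_π _ _ _).trans (dif_neg hk))).trans comp_zero
  · intro hg
    refine ⟨g ≫ biproduct.toSubtype _ _, ?_⟩
    change (g ≫ biproduct.toSubtype _ _) ≫ biproduct.fromSubtype _ _ = g
    refine biproduct.hom_ext _ _ fun k => ?_
    rw [Category.assoc, Category.assoc, biproduct.fromSubtype_π]
    by_cases hk : i ≤ a + k
    · rw [dif_pos hk]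
      exact congrArg (g ≫ ·) (biproduct.toSubtype_π (part s) _ ⟨k, hk⟩)
    · rw [dif_neg hk, comp_zero, comp_zero, hg k hk]

lemma emb_π {T : C} (g : T ⟶ s.A) (k : Fin m) :
    (g ≫ emb s) ≫ biproduct.π (part s) k = 0 ↔ (s.F (a + k + 1)).Factors g := by
  have e : (g ≫ emb s) ≫ biproduct.π (part s) k =
      (g ≫ cokernel.π (s.F (a + k + 1)).arrow) ≫ Injective.ι _ := by
    rw [Category.assoc, Category.assoc]
    exact congrArg (g ≫ ·) (biproduct.lift_π _ _)
  rw [e]
  constructor
  · intro h
    have h' : g ≫ cokernel.π (s.F (a + k + 1)).arrow = 0 :=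
      (cancel_mono (Injective.ι _)).1 (h.trans zero_comp.symm)
    exact Subobject.factors_of_factors_right (Abelian.monoLift _ g h')
      ((Subobject.factors_self _)) |> fun hf => by rwa [Abelian.monoLift_comp] at hf
  · intro h
    rw [← Subobject.factorThru_arrow _ _ h, Category.assoc (Subobject.factorThru _ _ h),
      cokernel.condition, comp_zero]
    exact zero_comp

lemma F_iff {T : C} (g : T ⟶ s.A) (i : ℤ) : (s.F i).Factors g ↔ (H s i).Factors (g ≫ emb s) := by
  rw [H_factors]
  constructor
  · intro h k hk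
    exact (emb_π s g k).2 (Subobject.factors_of_le _ (s.anti (by omega)) h)
  · intro h
    by_cases hi : i ≤ a
    · rw [s.top i hi]; exact Subobject.top_factors g
    have hj : ∀ j, a < j → j ≤ a + m → (∀ k : Fin m, ¬ j ≤ a + k →
        (g ≫ emb s) ≫ biproduct.π (part s) k = 0) → (s.F j).Factors g := by
      intro j h1 h2 hh
      have := (emb_π s g ⟨(j - 1 - a).toNat, by omega⟩).1 (hh _ (by simp only; omega))
      convert this using 2
      simp only
      omega
    by_cases hm : m = 0
    · rw [s.bot i (by omega), ← s.bot a (by omega), s.top a le_rfl]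
      exact Subobject.top_factors g
    by_cases hi' : i ≤ a + m
    · exact hj i (by omega) hi' h
    · have := hj (a + m) (by omega) le_rfl (fun k hk => h k (by omega))
      rwa [s.bot (a + m) le_rfl, ← s.bot i (by omega)] at this

instance mono_emb : Mono (emb s) := by
  refine Preadditive.mono_of_cancel_zero _ fun {T} g hg => ?_
  have := (F_iff s g (a + m)).2 ((H_factors s _ _).2 fun k _ => by rw [hg, zero_comp])
  rwa [s.bot _ le_rfl, Subobject.bot_factors_iff_zero] at this

lemma H_top {i : ℤ} (hi : ∀ k : Fin m, i ≤ a + k) : H s i = ⊤ := by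
  refine top_le_iff.1 (Subobject.le_of_comm
    ((H s i).factorThru (⊤ : Subobject (amb s)).arrow
      ((H_factors s _ _).2 fun k hk => absurd (hi k) hk)) ?_)
  exact Subobject.factorThru_arrow _ _ _

lemma H_arrow {i : ℤ} (hi : ∀ k : Fin m, ¬ i ≤ a + k) : (H s i).arrow = 0 := by
  refine biproduct.hom_ext _ _ fun k => ?_
  rw [(H_factors s _ _).1 (Subobject.factors_self _) k (hi k)]
  exact zero_comp.symm

lemma H_anti : Antitone (H s) := fun i j hij => by
  refine Subobject.le_of_comm ((H s i).factorThru (H s j).arrow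
    ((H_factors s _ _).2 fun k hk => (H_factors s _ _).1 (Subobject.factors_self _) k (by omega))) ?_
  exact Subobject.factorThru_arrow _ _ _

/-- The filtered cokernel. -/
noncomputable def nxt : Fil C a m where
  A := cokernel (emb s)
  F i := imageSubobject ((H s i).arrow ≫ cokernel.π (emb s))
  anti i j hij := imageSubobject_le _
    (Subobject.ofLE _ _ (H_anti s hij) ≫ factorThruImageSubobject _) (by
      rw [Category.assoc, imageSubobject_arrow_comp, Subobject.ofLE_arrow_assoc])
  top i hi := by
    have : IsIso (H s i).arrow :=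
      (Subobject.isIso_arrow_iff_eq_top _).2 (H_top s fun k => by omega)
    have : Epi (imageSubobject ((H s i).arrow ≫ cokernel.π (emb s))).arrow :=
      epi_of_epi_fac (imageSubobject_arrow_comp _)
    have : IsIso (imageSubobject ((H s i).arrow ≫ cokernel.π (emb s))).arrow :=
      isIso_of_mono_of_epi _
    exact (Subobject.isIso_arrow_iff_eq_top _).1 this
  bot i hi := by
    rw [H_arrow s (fun k => by omega), zero_comp, imageSubobject_zero]

/-- The inclusion on a step. -/
noncomputable def uu (i : ℤ) : (s.F i : C) ⟶ (H s i : C) :=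
  (H s i).factorThru ((s.F i).arrow ≫ emb s) ((F_iff s _ i).1 (Subobject.factors_self _))

lemma uu_arrow (i : ℤ) : uu s i ≫ (H s i).arrow = (s.F i).arrow ≫ emb s :=
  Subobject.factorThru_arrow _ _ _

/-- The projection on a step. -/
noncomputable def qq (i : ℤ) : (H s i : C) ⟶ ((nxt s).F i : C) := factorThruImageSubobject _

lemma qq_arrow (i : ℤ) : qq s i ≫ ((nxt s).F i).arrow = (H s i).arrow ≫ cokernel.π (emb s) :=
  imageSubobject_arrow_comp _

lemma uu_qq (i : ℤ) : uu s i ≫ qq s i = 0 := by
  rw [← cancel_mono ((nxt s).F i).arrow, zero_comp, Category.assoc, qq_arrow]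
  change uu s i ≫ (H s i).arrow ≫ cokernel.π (emb s) = (0 : _ ⟶ cokernel (emb s))
  rw [← Category.assoc, uu_arrow, Category.assoc, cokernel.condition, comp_zero]

lemma mono_uu (i : ℤ) : Mono (uu s i) :=
  have : Mono ((s.F i).arrow ≫ emb s) := inferInstance
  mono_of_mono_fac (uu_arrow s i)

lemma epi_qq (i : ℤ) : Epi (qq s i) :=
  inferInstanceAs (Epi (factorThruImageSubobject ((H s i).arrow ≫ cokernel.π (emb s))))

lemma exact_uq (i : ℤ) : (ShortComplex.mk (uu s i) (qq s i) (uu_qq s i)).Exact := by
  refine (ShortComplex.exact_iff_exact_up_to_refinements _).2 fun T x hx => ?_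
  change x ≫ qq s i = 0 at hx
  change T ⟶ (H s i : C) at x
  have h1 : (x ≫ (H s i).arrow) ≫ cokernel.π (emb s) = 0 := by
    refine (Category.assoc _ _ _).trans ((congrArg (x ≫ ·) (qq_arrow s i).symm).trans ?_)
    exact (Category.assoc _ _ _).symm.trans ((congrArg (· ≫ ((nxt s).F i).arrow) hx).trans zero_comp)
  have h2 : (s.F i).Factors (Abelian.monoLift (emb s) _ h1) := by
    rw [F_iff, Abelian.monoLift_comp]
    exact Subobject.factors_comp_arrow x
  refine ⟨T, 𝟙 T, inferInstance, (s.F i).factorThru _ h2, ?_⟩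
  change 𝟙 T ≫ x = _ ≫ uu s i
  rw [← cancel_mono (H s i).arrow, Category.id_comp, Category.assoc, uu_arrow,
    Subobject.factorThru_arrow_assoc, Abelian.monoLift_comp]

/-- The iterated filtered cokernels. -/
noncomputable def st : ℕ → Fil C a m
  | 0 => s
  | n + 1 => nxt (st n)

/-- The projection on a step, in iterated form. -/
noncomputable def qn (n : ℕ) (i : ℤ) : (H (st s n) i : C) ⟶ ((st s (n + 1)).F i : C) := qq (st s n) i

/-- The cokernel projection, in iterated form. -/
noncomputable def pn (n : ℕ) : amb (st s n) ⟶ (st s (n + 1)).A := cokernel.π (emb (st s n))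

instance (n : ℕ) : Epi (pn s n) := inferInstanceAs (Epi (cokernel.π (emb (st s n))))

lemma emb_pn (n : ℕ) : emb (st s n) ≫ pn s n = 0 := cokernel.condition _

lemma uu_qn (n : ℕ) (i : ℤ) : uu (st s n) i ≫ qn s n i = 0 := uu_qq _ i

lemma qn_arrow (n : ℕ) (i : ℤ) :
    qn s n i ≫ ((st s (n + 1)).F i).arrow = (H (st s n) i).arrow ≫ pn s n := qq_arrow _ i

/-- The ambient resolution. -/
noncomputable def tot : CochainComplex C ℕ :=
  splice (Z := fun n => (st s n).A) (Y := fun n => amb (st s n)) (fun n => emb (st s n))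
    (fun n => pn s n) (fun n => emb_pn s n)

/-- A step of the resolution. -/
noncomputable def stepCx (i : ℤ) : CochainComplex C ℕ :=
  splice (Z := fun n => ((st s n).F i : C)) (Y := fun n => (H (st s n) i : C))
    (fun n => uu (st s n) i) (fun n => qn s n i) (fun n => uu_qn s n i)

/-- The inclusion of a step. -/
noncomputable def stepInc (i : ℤ) : stepCx s i ⟶ tot s where
  f n := (H (st s n) i).arrow
  comm' := by
    intro j k hjk
    obtain rfl : j + 1 = k := hjk
    change (H (st s j) i).arrow ≫ (tot s).d j (j + 1) = (stepCx s i).d j (j + 1) ≫ (H (st s (j + 1)) i).arrow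
    erw [splice_d, splice_d]
    refine (Category.assoc _ _ _).symm.trans ?_
    refine Eq.trans ?_ (Category.assoc _ _ _).symm
    refine (congrArg (· ≫ emb (st s (j + 1))) (qn_arrow s j i).symm).trans ?_
    exact (Category.assoc _ _ _).trans (congrArg (qn s j i ≫ ·) (uu_arrow (st s (j + 1)) i).symm)

instance mono_stepInc (i : ℤ) : Mono (stepInc s i) :=
  have : ∀ n, Mono ((stepInc s i).f n) := fun n => inferInstanceAs (Mono (H (st s n) i).arrow)
  HomologicalComplex.mono_of_mono_f _ this


/-- Let C be an abelian category in which every object embeds in an injective object, and let A be an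
object of C with a finite decreasing filtration (F^i A). Then there are an injective resolution X of
A and a decreasing filtration of X by subcomplexes F^i X such that F^i X = X when F^i A = A, F^i X =
0 when F^i A = 0, and, for every i, F^i X is a complex of injective objects into which F^i A (placed
in degree 0) maps, compatibly with the augmentation A ⟶ X, by a quasi-isomorphism; thus F^i X is an
injective resolution of F^i A. -/
theorem result {C : Type u} [Category.{v} C] [Abelian C] [EnoughInjectives C]
    (K : SpSeq.FilObj C) (hK : K.IsFinite) :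
    ∃ (X : InjectiveResolution K.obj) (G : ℤ → Subobject X.cocomplex), Antitone G ∧
      (∀ i : ℤ, K.fil i = ⊤ → G i = ⊤) ∧ (∀ i : ℤ, K.fil i = ⊥ → G i = ⊥) ∧
      ∀ i : ℤ, (∀ j : ℕ, Injective ((G i : CochainComplex C ℕ).X j)) ∧
        ∃ ι : (CochainComplex.single₀ C).obj (K.step i) ⟶ (G i : CochainComplex C ℕ),
          ι ≫ (G i).arrow = (CochainComplex.single₀ C).map (K.fil i).arrow ≫ X.ι ∧ QuasiIso ι := by
  classical
  obtain ⟨⟨a₀, ha₀⟩, ⟨b₀, hb₀⟩⟩ := hK
  have topdown : ∀ {i j}, K.fil j = ⊤ → i ≤ j → K.fil i = ⊤ := fun h hij =>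
    top_le_iff.1 (h ▸ K.anti hij)
  have botup : ∀ {i j}, K.fil i = ⊥ → i ≤ j → K.fil j = ⊥ := fun h hij =>
    le_bot_iff.1 (h ▸ K.anti hij)
  obtain ⟨a, m, htop, hbot, gtop, gbot⟩ : ∃ (a : ℤ) (m : ℕ),
      (∀ i, i ≤ a → K.fil i = ⊤) ∧ (∀ i, a + m ≤ i → K.fil i = ⊥) ∧
      (∀ i, K.fil i = ⊤ → ∀ k : Fin m, i ≤ a + k) ∧
      (∀ i, K.fil i = ⊥ → ∀ k : Fin m, ¬ i ≤ a + k) := by
    by_cases htriv : (⊤ : Subobject K.obj) = ⊥
    · have hall : ∀ x : Subobject K.obj, x = ⊥ := fun x => le_bot_iff.1 (le_top.trans htriv.le)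
      exact ⟨0, 0, fun i _ => by rw [hall (K.fil i), htriv], fun i _ => hall _,
        fun _ _ k => k.elim0, fun _ _ k => k.elim0⟩
    · obtain ⟨a, ha, ha'⟩ := Int.exists_greatest_of_bdd (P := fun i => K.fil i = ⊤)
        ⟨b₀, fun z hz => le_of_not_gt fun h =>
          htriv (hz.symm.trans (botup hb₀ h.le))⟩ ⟨a₀, ha₀⟩
      obtain ⟨b, hb, hb'⟩ := Int.exists_least_of_bdd (P := fun i => K.fil i = ⊥)
        ⟨a₀, fun z hz => le_of_not_gt fun h =>
          htriv ((topdown ha₀ h.le).symm.trans hz)⟩ ⟨b₀, hb₀⟩
      have hab : a ≤ b := le_of_not_gt fun h => htriv ((topdown ha h.le).symm.trans hb)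
      refine ⟨a, (b - a).toNat, fun i hi => topdown ha hi, fun i hi => botup hb (by omega),
        fun i hi k => ?_, fun i hi k => ?_⟩
      · have := ha' i hi; omega
      · have := hb' i hi; omega
  let s : Fil C a m := ⟨K.obj, K.fil, K.anti, htop, hbot⟩
  haveI hq : QuasiIso (augm (Z := fun n => (st s n).A) (Y := fun n => amb (st s n))
      (fun n => emb (st s n)) (fun n => pn s n) (fun n => emb_pn s n)) :=
    quasiIso_augm _ _ _ (fun n => mono_emb _) (fun n => inferInstance)
      (fun n => ShortComplex.exact_of_g_is_cokernel _ (cokernelIsCokernel _))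
  let X : InjectiveResolution K.obj :=
    { cocomplex := tot s
      injective := fun n => inferInstanceAs (Injective (amb (st s n)))
      ι := augm (Z := fun n => (st s n).A) (Y := fun n => amb (st s n))
        (fun n => emb (st s n)) (fun n => pn s n) (fun n => emb_pn s n)
      quasiIso := hq }
  refine ⟨X, fun i => Subobject.mk (stepInc s i), ?_, ?_, ?_, fun i => ⟨fun j => ?_, ?_⟩⟩
  · intro i j hij
    refine Subobject.mk_le_mk_of_comm
      { f := fun n => Subobject.ofLE _ _ (H_anti (st s n) hij)
        comm' := fun p q hpq => ?_ } ?_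
    · have : Mono ((stepInc s i).f q) := inferInstanceAs (Mono (H (st s q) i).arrow)
      rw [← cancel_mono ((stepInc s i).f q), Category.assoc, Category.assoc,
        ← (stepInc s i).comm p q]
      refine (Category.assoc _ _ _).symm.trans ?_
      refine (congrArg (· ≫ (tot s).d p q) (Subobject.ofLE_arrow (H_anti (st s p) hij))).trans ?_
      refine ((stepInc s j).comm p q).trans ?_
      exact congrArg ((stepCx s j).d p q ≫ ·) (Subobject.ofLE_arrow (H_anti (st s q) hij)).symm
    · ext n
      exact Subobject.ofLE_arrow (H_anti (st s n) hij)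
  · intro i hi
    have : ∀ n, IsIso ((stepInc s i).f n) := fun n =>
      (Subobject.isIso_arrow_iff_eq_top _).2 (H_top (st s n) (gtop i hi))
    have : IsIso (stepInc s i) := HomologicalComplex.Hom.isIso_of_components _
    exact (Subobject.isIso_iff_mk_eq_top _).1 this
  · intro i hi
    refine (Subobject.mk_eq_bot_iff_zero).2 ?_
    ext n
    exact H_arrow (st s n) (gbot i hi)
  · exact Injective.of_iso ((HomologicalComplex.eval C (ComplexShape.up ℕ) j).mapIso
      (Subobject.underlyingIso (stepInc s i)).symm) (injective_H (st s j) i)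
  · haveI : QuasiIso (augm (Z := fun n => ((st s n).F i : C)) (Y := fun n => (H (st s n) i : C))
        (fun n => uu (st s n) i) (fun n => qn s n i) (fun n => uu_qn s n i)) :=
      quasiIso_augm _ _ _ (fun n => mono_uu _ i) (fun n => epi_qq (st s n) i) (fun n => exact_uq (st s n) i)
    refine ⟨augm (Z := fun n => ((st s n).F i : C)) (Y := fun n => (H (st s n) i : C))
        (fun n => uu (st s n) i) (fun n => qn s n i) (fun n => uu_qn s n i) ≫
      (Subobject.underlyingIso (stepInc s i)).inv, ?_,
      quasiIso_comp (augm (Z := fun n => ((st s n).F i : C)) (Y := fun n => (H (st s n) i : C))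
        (fun n => uu (st s n) i) (fun n => qn s n i) (fun n => uu_qn s n i)) _⟩
    refine (Category.assoc _ _ _).trans ((congrArg (_ ≫ ·) (@Subobject.underlyingIso_arrow _ _ _ _ (stepInc s i) (mono_stepInc s i))).trans ?_)
    refine HomologicalComplex.from_single_hom_ext ?_
    simp [augm, X, stepInc]
    exact uu_arrow (st s 0) i

end Groth.Agent.S8350
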