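import Groth.Statements.S8351
import Groth.Agent.Lib.HDU.Push
import Mathlib.Algebra.Homology.DerivedCategory.RightDerivedFunctorPlus

set_option autoImplicit false
universe u
open CategoryTheory CategoryTheory.Limits TopologicalSpace
open CohCx

namespace Groth.Agent.S8351

section Compare

variable {X Y : TopCat.{u}} (f : X ⟶ Y) [HasDerivedCategory.{u} (CohTop.Ab X)]
  [HasDerivedCategory.{u} (CohTop.Ab Y)]

theorem nonempty_iso_Rpf (K : CochainComplex.Plus (CohTop.Ab X)) :
    Nonempty (((CohTop.push f).rightDerivedFunctorPlus.obj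
        (DerivedCategory.Plus.Qh.obj ((HomotopyCategory.Plus.quotient (CohTop.Ab X)).obj K))).obj ≅
      (GrothLib.HDU.Rpf f).obj (DerivedCategory.Q.obj K.obj)) := by
  obtain ⟨n, hn⟩ := K.2
  have : K.obj.IsStrictlyGE n := hn
  obtain ⟨L, hL, i, hi⟩ := CochainComplex.Plus.exists_quasiIso_injective K n
  let I := (InjectiveObject.ι (CohTop.Ab X)).mapCochainComplexPlus.obj L
  have hKI : I.obj.IsKInjective :=
    have : ∀ j, Injective (I.obj.X j) := fun j => (L.obj.X j).property
    have : I.obj.IsStrictlyGE n :=
      (CochainComplex.isStrictlyGE_mapHomologicalComplex_obj_iff _ (InjectiveObject.ι _) _).2 hL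
    CochainComplex.isKInjective_of_injective I.obj n
  have : QuasiIso i.hom := hi
  have hQ : IsIso (DerivedCategory.Q.map i.hom) := inferInstance
  have hQh : IsIso (DerivedCategory.Plus.Qh.map ((HomotopyCategory.Plus.quotient _).map i)) := by
    refine Localization.inverts DerivedCategory.Plus.Qh (HomotopyCategory.Plus.quasiIso (CohTop.Ab X)) _ ?_
    change HomotopyCategory.quasiIso (CohTop.Ab X) (ComplexShape.up ℤ)
      ((HomotopyCategory.quotient _ _).map i.hom)
    rwa [HomotopyCategory.quotient_map_mem_quasiIso_iff, HomologicalComplex.mem_quasiIso_iff]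
  let u := (CohTop.push f).rightDerivedFunctorPlusUnit.app ((InjectiveObject.ι (CohTop.Ab X)).mapHomotopyCategoryPlus.obj
    ((HomotopyCategory.Plus.quotient (InjectiveObject (CohTop.Ab X))).obj L))
  have hu : IsIso u := inferInstance
  let q := (HomotopyCategory.quotient (CohTop.Ab X) (ComplexShape.up ℤ)).obj I.obj
  have hor : (HomotopyCategory.subcategoryAcyclic (CohTop.Ab X)).rightOrthogonal q :=
    CochainComplex.IsKInjective.rightOrthogonal I.obj
  have := GrothLib.KInj.isIso_unit_of_rightOrthogonal hor
  let e1 := DerivedCategory.Plus.ι.mapIso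
    ((CohTop.push f).rightDerivedFunctorPlus.mapIso (@asIso _ _ _ _ _ hQh) ≪≫ (@asIso _ _ _ _ u hu).symm)
  let e2 := (GrothLib.HDU.Rpf f).mapIso (@asIso _ _ _ _ _ hQ ≪≫
    ((DerivedCategory.quotientCompQhIso (CohTop.Ab X)).app I.obj).symm)
  let e3 := ((CohTop.push f).mapHomotopyCategory (ComplexShape.up ℤ) ⋙ DerivedCategory.Qh).mapIso
    (@asIso _ _ _ _ _ this)
  exact ⟨e1 ≪≫ e3 ≪≫ e2.symm⟩

end Compare

/-- For abelian sheaves on topological spaces and a complex bounded below. Let f : X ⟶ Y be a continuous
map and K a bounded below complex of abelian sheaves on X. For every p, the p-th cohomology sheaf of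
the derived direct image R f_*(K) (bounded below right derived functor of f_*, computed with
injective resolutions) is isomorphic to the sheaf associated with the presheaf U ↦ H^p(f⁻¹(U), K) on
Y, where H^p(V, K) denotes hypercohomology (morphisms from the free abelian sheaf on V to K[p] in
the derived category). (The published statement is for modules over arbitrary ringed spaces,
complexes unbounded via Cartan-Eilenberg resolutions, and a canonical isomorphism; here only the
existence of an isomorphism is asserted, and the derived categories are assumed to exist with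
morphism types in the universe of X and Y.) -/
theorem result {X Y : TopCat.{u}} (f : X ⟶ Y)
    [HasDerivedCategory.{u} (CohTop.Ab X)] [HasDerivedCategory.{u} (CohTop.Ab Y)]
    (K : CochainComplex.Plus (CohTop.Ab X)) (p : ℤ) :
    Nonempty ((DerivedCategory.Plus.homologyFunctor (CohTop.Ab Y) p).obj
        ((CohTop.push f).rightDerivedFunctorPlus.obj
          (DerivedCategory.Plus.Qh.obj ((HomotopyCategory.Plus.quotient (CohTop.Ab X)).obj K))) ≅
      (presheafToSheaf (Opens.grothendieckTopology Y) AddCommGrpCat.{u}).obj
        ((Opens.map f).op ⋙ CohCx.HDUPresheaf (DerivedCategory.Q.obj K.obj) p)) := by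
  obtain ⟨e⟩ := nonempty_iso_Rpf f K
  exact ⟨(DerivedCategory.homologyFunctor (CohTop.Ab Y) p).mapIso e ≪≫
    (GrothLib.HDU.hdIso _ p).symm ≪≫ (GrothLib.HDU.sheafifyIso _).symm ≪≫
    (presheafToSheaf (Opens.grothendieckTopology Y) AddCommGrpCat.{u}).mapIso
      (GrothLib.HDU.homPshShiftIso f (DerivedCategory.Q.obj K.obj) p)⟩

end Groth.Agent.S8351
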