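import Groth.Statements.S8352
import Mathlib.CategoryTheory.CofilteredSystem
import Mathlib.CategoryTheory.Limits.Types.Limits
import Mathlib.Algebra.Category.Grp.Limits
-- import your own Groth.Agent.* helpers here

set_option autoImplicit false
universe u
open CategoryTheory CategoryTheory.Limits Opposite
open HomAlg3

namespace Groth.Agent.S8352
open CategoryTheory.Limits Opposite


/-- Category of abelian groups, system indexed by the natural numbers: Let (A_k) be an inverse system of
abelian groups satisfying the Mittag-Leffler condition, A = lim A_k with projections π_p : A ⟶ A_p.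
Filter A and each A_k by the kernels of the maps to A_{p-1} (with A_{-1} = 0); the graded piece
gr^p(A) is identified with Im(π_p) ∩ Ker(A_p ⟶ A_{p-1}) and gr^p(A_k), k ≥ p, with Im(A_k ⟶ A_p) ∩
Ker(A_p ⟶ A_{p-1}), a decreasing family of subgroups of A_p. The statement gr^p(A) ≅ lim_k gr^p(A_k)
then reads: Im(π_0) = ⋂_k Im(A_k ⟶ A_0), and for every p, Im(π_{p+1}) ∩ Ker(A_{p+1} ⟶ A_p) = ⋂_{k ≥
p+1} (Im(A_k ⟶ A_{p+1}) ∩ Ker(A_{p+1} ⟶ A_p)). -/
theorem result (F : ℕᵒᵖ ⥤ AddCommGrpCat.{u})
    (hF : (F ⋙ forget AddCommGrpCat).IsMittagLeffler) :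
    (limit.π F (op 0)).hom.range = ⨅ k : ℕ, (F.map (homOfLE (Nat.zero_le k)).op).hom.range ∧
      ∀ p : ℕ, (limit.π F (op (p + 1))).hom.range ⊓ (F.map (homOfLE (Nat.le_succ p)).op).hom.ker =
        ⨅ (k : ℕ) (hk : p + 1 ≤ k),
          (F.map (homOfLE hk).op).hom.range ⊓ (F.map (homOfLE (Nat.le_succ p)).op).hom.ker := by
  have key : ∀ (p : ℕ) (x : F.obj (op p)), x ∈ (F ⋙ forget AddCommGrpCat).eventualRange (op p) →
      x ∈ (limit.π F (op p)).hom.range := by
    intro p x hx
    let G := F ⋙ forget AddCommGrpCat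
    choose g hg1 hg2 using fun (n : ℕ) (y : F.obj (op (p + n))) (hy : y ∈ G.eventualRange (op (p + n))) =>
      (hF.subset_image_eventualRange G (homOfLE (Nat.le_succ (p + n))).op hy)
    let y : ∀ n : ℕ, {z : F.obj (op (p + n)) // z ∈ G.eventualRange (op (p + n))} := fun n =>
      Nat.rec (motive := fun n => {z : F.obj (op (p + n)) // z ∈ G.eventualRange (op (p + n))})
        ⟨x, hx⟩ (fun n z => ⟨g n z.1 z.2, hg1 n z.1 z.2⟩) n
    have hc : ∀ (a b : ℕ) (h : a ≤ b), F.map (homOfLE (Nat.add_le_add_left h p)).op (y b).1 = (y a).1 := by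
      intro a b h
      induction b, h using Nat.le_induction with
      | base => simp
      | succ b h ih =>
        rw [← ih, ← hg2 b (y b).1 (y b).2]
        change _ = F.map _ (F.map _ (g b (y b).1 (y b).2))
        rw [← ConcreteCategory.comp_apply, ← F.map_comp]
        rfl
    let s : G.sections := ⟨fun m => F.map (homOfLE (Nat.le_add_left m.unop p)).op (y m.unop).1, fun {m m'} f => by
      change F.map f (F.map (homOfLE (Nat.le_add_left m.unop p)).op (y m.unop).1) = _
      beta_reduce
      rw [← hc m'.unop m.unop f.unop.le]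
      simp only [← ConcreteCategory.comp_apply, ← F.map_comp]
      rfl⟩
    let t := (Types.isLimitEquivSections (isLimitOfPreserves (forget AddCommGrpCat) (limit.isLimit F))).symm s
    refine ⟨t, ?_⟩
    have : ∀ m, (limit.π F m).hom t = s.1 m := fun m =>
      Types.isLimitEquivSections_symm_apply (isLimitOfPreserves (forget AddCommGrpCat) (limit.isLimit F)) s m
    rw [this]
    have h1 := hc 0 p (Nat.zero_le p)
    exact h1
  have mem : ∀ (p : ℕ) (x : F.obj (op p)),
      x ∈ (limit.π F (op p)).hom.range ↔ ∀ (k : ℕ) (hk : p ≤ k), x ∈ (F.map (homOfLE hk).op).hom.range := by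
    refine fun p x => ⟨fun ⟨t, ht⟩ k hk => ⟨(limit.π F (op k)).hom t, ?_⟩, fun h => key p x ?_⟩
    · rw [← ht]
      exact ConcreteCategory.congr_hom (limit.w F (homOfLE hk).op) t
    · rw [Functor.mem_eventualRange_iff]
      intro i f
      obtain ⟨z, hz⟩ := h i.unop f.unop.le
      exact ⟨z, hz⟩
  refine ⟨?_, fun p => ?_⟩
  · ext x
    rw [mem, AddSubgroup.mem_iInf]
    exact ⟨fun h k => h k _, fun h k _ => h k⟩
  · ext x
    simp only [AddSubgroup.mem_inf, mem, AddSubgroup.mem_iInf]
    exact ⟨fun h k hk => ⟨h.1 k hk, h.2⟩, fun h => ⟨fun k hk => (h k hk).1, (h (p + 1) le_rfl).2⟩⟩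

end Groth.Agent.S8352
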