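import Groth.Statements.S8353
import Mathlib
-- import your own Groth.Agent.* helpers here

set_option autoImplicit false
universe u
open HomAlg3

namespace Groth.Agent.S8353

section

variable {S : Type u} [CommRing S] {M : Type u} [AddCommGroup M] [Module S M]

lemma pow_smul_range_le {r : ℕ} (π : (Fin r → S) →ₗ[S] M) (I : Ideal S) (a : Fin r → S)
    (ha : ∀ i, a i ∈ I) : π a ∈ I • LinearMap.range π := by
  classical
  rw [pi_eq_sum_univ a, map_sum]
  refine Submodule.sum_mem _ fun i _ => ?_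
  rw [map_smul]
  exact Submodule.smul_mem_smul (ha i) (LinearMap.mem_range_self _ _)

lemma exists_coeff_of_mem_smul_range {r : ℕ} (π : (Fin r → S) →ₗ[S] M) (I : Ideal S) {x : M}
    (hx : x ∈ I • LinearMap.range π) : ∃ a : Fin r → S, (∀ i, a i ∈ I) ∧ π a = x := by
  refine Submodule.smul_induction_on hx (fun s hs y hy => ?_) (fun y z hy hz => ?_)
  · obtain ⟨b, rfl⟩ := hy
    exact ⟨s • b, fun i => I.mul_mem_right _ hs, map_smul _ _ _⟩
  · obtain ⟨a, ha, rfl⟩ := hy
    obtain ⟨b, hb, rfl⟩ := hz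
    exact ⟨a + b, fun i => add_mem (ha i) (hb i), map_add _ _ _⟩

variable (J : Ideal S) [IsAdicComplete J S]

lemma eq_pow_smul {F : ℤ → Submodule S M} (hF : Antitone F)
    (hJ : ∀ p : ℤ, J • F p ≤ F (p + 1)) (hsep : ⨅ p : ℤ, F p = ⊥) (p₁ : ℤ)
    (hp₁ : ∀ p : ℤ, p₁ ≤ p → F (p + 1) = J • F p ⊔ F (p + 2))
    {r : ℕ} (π : (Fin r → S) →ₗ[S] M) (hπ : LinearMap.range π ⊔ F (p₁ + 1) = F p₁) (n : ℕ) :
    F (p₁ + n) = J ^ n • LinearMap.range π := by
  set N := LinearMap.range π
  have hle : ∀ m : ℕ, J ^ m • N ≤ F (p₁ + m) := by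
    intro m
    induction m with
    | zero => simpa [Ideal.one_eq_top] using le_sup_left.trans hπ.le
    | succ m ih =>
      rw [pow_succ', ← smul_eq_mul, Submodule.smul_assoc, Nat.cast_succ, ← add_assoc]
      exact (Submodule.smul_mono le_rfl ih).trans (hJ _)
  have hsup : ∀ m : ℕ, F (p₁ + m) = J ^ m • N ⊔ F (p₁ + m + 1) := by
    intro m
    induction m with
    | zero => simp [Ideal.one_eq_top, hπ]
    | succ m ih =>
      have h2 := hp₁ (p₁ + m) (by omega)
      rw [ih, Submodule.smul_sup, sup_assoc] at h2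
      rw [show J • (J ^ m • N) = J ^ (m + 1) • N by rw [pow_succ', ← smul_eq_mul, Submodule.smul_assoc],
        sup_eq_right.2 ((hJ _).trans (le_of_eq (by ring_nf)))] at h2
      rw [Nat.cast_succ, ← add_assoc, h2]
      ring_nf
  refine le_antisymm ?_ (hle n)
  intro x hx
  have step : ∀ (m : ℕ) (z : M), z ∈ F (p₁ + m) →
      ∃ a : Fin r → S, (∀ i, a i ∈ J ^ m) ∧ z - π a ∈ F (p₁ + m + 1) := by
    intro m z hz
    rw [hsup m, Submodule.mem_sup] at hz
    obtain ⟨y, hy, w, hw, rfl⟩ := hz
    obtain ⟨a, ha, rfl⟩ := exists_coeff_of_mem_smul_range π _ hy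
    exact ⟨a, ha, by simpa using hw⟩
  choose! A hA₁ hA₂ using step
  let c : ℕ → Fin r → S := fun k => Nat.rec 0 (fun k b => b + A (n + k) (x - π b)) k
  have hc : ∀ k, c (k + 1) = c k + A (n + k) (x - π (c k)) := fun k => rfl
  have hin : ∀ k, x - π (c k) ∈ F (p₁ + ((n + k : ℕ) : ℤ)) := by
    intro k
    induction k with
    | zero => simpa [c] using hx
    | succ k ih =>
      rw [hc, map_add, ← sub_sub]
      have := hA₂ (n + k) _ ih
      rwa [show p₁ + ((n + (k + 1) : ℕ) : ℤ) = p₁ + ((n + k : ℕ) : ℤ) + 1 by push_cast; ring]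
  have hdiff : ∀ (i : Fin r) (m k : ℕ), c (m + k) i - c m i ∈ J ^ (n + m) := by
    intro i m k
    induction k with
    | zero => simp
    | succ k ih =>
      rw [← add_assoc, hc, Pi.add_apply, add_sub_right_comm]
      refine add_mem ih (Ideal.pow_le_pow_right (by omega) (hA₁ (n + (m + k)) _ (hin _) i))
  have hlim : ∀ i : Fin r, ∃ L : S, ∀ m, c m i - L ∈ J ^ m := by
    intro i
    obtain ⟨L, hL⟩ := IsPrecomplete.prec (I := J) (M := S) inferInstance (f := fun m => c m i)
      (fun {m k} hmk => by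
        obtain ⟨k, rfl⟩ := Nat.exists_eq_add_of_le hmk
        rw [SModEq.sub_mem, smul_eq_mul, Ideal.mul_top, ← neg_sub]
        exact neg_mem (Ideal.pow_le_pow_right (by omega) (hdiff i m k)))
    exact ⟨L, fun m => by simpa [SModEq.sub_mem, smul_eq_mul] using hL m⟩
  choose L hL using hlim
  have hLn : ∀ i, L i ∈ J ^ n := by
    intro i
    have h0 : c n i ∈ J ^ n := by
      have := Ideal.pow_le_pow_right (show n ≤ n + 0 by omega) (hdiff i 0 n)
      simpa [c] using this
    have := sub_mem h0 (hL i n)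
    simpa using this
  have hx' : x - π L = 0 := by
    rw [← Submodule.mem_bot S, ← hsep, Submodule.mem_iInf]
    intro p
    obtain ⟨m, hm⟩ : ∃ m : ℕ, p ≤ p₁ + m := ⟨(p - p₁).toNat, by omega⟩
    refine hF hm ?_
    have e : x - π L = (x - π (c m)) + π (c m - L) := by simp
    rw [e]
    exact add_mem (hF (by omega) (hin m)) (hle m (pow_smul_range_le π _ _ fun i => hL i m))
  rw [sub_eq_zero] at hx'
  exact hx' ▸ pow_smul_range_le π _ _ hLn

end

/-- Let S be a Noetherian ring which is separated and complete for the adic topology of an ideal J, and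
let M be an S-module with a decreasing filtration (F^p M)_{p ∈ ℤ} by submodules such that F^p M = M
for some p, J·F^p M ⊆ F^{p+1} M for all p, and ⋂_p F^p M = 0. Then the following are equivalent: (a)
M is a finitely generated S-module and J·F^p M = F^{p+1} M for all large p; (c) every F^p M /
F^{p+1} M is a finitely generated S-module and, for all large p, the map J ⊗ (F^p M/F^{p+1} M) ⟶
F^{p+1} M/F^{p+2} M is surjective, that is F^{p+1} M = J·F^p M + F^{p+2} M. (The published statement
also lists a third equivalent condition, finite generation of the associated graded module over the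
associated graded ring; this row states the equivalence of the other two.) -/
theorem result {S : Type u} [CommRing S] [IsNoetherianRing S]
    (J : Ideal S) [IsAdicComplete J S] {M : Type u} [AddCommGroup M] [Module S M]
    (F : ℤ → Submodule S M) (hF : Antitone F) (hcod : ∃ p₀ : ℤ, F p₀ = ⊤)
    (hJ : ∀ p : ℤ, J • F p ≤ F (p + 1)) (hsep : ⨅ p : ℤ, F p = ⊥) :
    (Module.Finite S M ∧ ∃ p₁ : ℤ, ∀ p : ℤ, p₁ ≤ p → J • F p = F (p + 1)) ↔
      ((∀ p : ℤ, (Submodule.map (F (p + 1)).mkQ (F p)).FG) ∧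
        ∃ p₁ : ℤ, ∀ p : ℤ, p₁ ≤ p → F (p + 1) = J • F p ⊔ F (p + 2)) := by
  obtain ⟨p₀, hp₀⟩ := hcod
  constructor
  · rintro ⟨hfin, p₁, hp₁⟩
    refine ⟨fun p => (IsNoetherian.noetherian (F p)).map _, p₁, fun p hp => ?_⟩
    rw [hp₁ p hp, sup_eq_left.2 (hF (by omega))]
  · rintro ⟨hgr, q, hq⟩
    set p₁ := max q p₀
    obtain ⟨r, π, hπ⟩ : ∃ (r : ℕ) (π : (Fin r → S) →ₗ[S] M),
        LinearMap.range π ⊔ F (p₁ + 1) = F p₁ := by
      obtain ⟨r, g, hg⟩ := Submodule.fg_iff_exists_fin_generating_family.1 (hgr p₁)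
      choose g' hg' hgg' using fun i => (hg.le (Submodule.subset_span (Set.mem_range_self i)) :
        g i ∈ Submodule.map (F (p₁ + 1)).mkQ (F p₁))
      refine ⟨r, Fintype.linearCombination S g', ?_⟩
      rw [Fintype.range_linearCombination]
      apply le_antisymm (sup_le (Submodule.span_le.2 (Set.range_subset_iff.2 hg')) (hF (by omega)))
      have e : Submodule.map (F (p₁ + 1)).mkQ (Submodule.span S (Set.range g')) =
          Submodule.map (F (p₁ + 1)).mkQ (F p₁) := by
        rw [Submodule.map_span, ← hg, ← Set.range_comp]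
        congr 2
        exact funext hgg'
      have := Submodule.comap_map_eq (F (p₁ + 1)).mkQ (Submodule.span S (Set.range g'))
      rw [Submodule.ker_mkQ, e] at this
      exact (Submodule.le_comap_map _ _).trans this.le
    have key := eq_pow_smul J hF hJ hsep p₁ (fun p hp => hq p ((le_max_left _ _).trans hp)) π hπ
    have hfg : ∀ k : ℕ, (F (p₁ - k)).FG := by
      intro k
      induction k with
      | zero =>
        have e := key 0
        simp only [Nat.cast_zero, add_zero, pow_zero, Ideal.one_eq_top, Submodule.top_smul] at e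
        simpa [e] using Submodule.fg_range π
      | succ k ih =>
        refine Submodule.fg_of_fg_map_of_fg_inf_ker (F (p₁ - k)).mkQ ?_ ?_
        · have := hgr (p₁ - (k + 1 : ℕ))
          rwa [show p₁ - ((k + 1 : ℕ) : ℤ) + 1 = p₁ - k by push_cast; ring] at this
        · rwa [Submodule.ker_mkQ, inf_eq_right.2 (hF (by omega))]
    refine ⟨⟨?_⟩, p₁, fun p hp => ?_⟩
    · have := hfg (p₁ - p₀).toNat
      rwa [show p₁ - ((p₁ - p₀).toNat : ℤ) = p₀ by omega, hp₀] at this
    · obtain ⟨n, rfl⟩ : ∃ n : ℕ, p = p₁ + n := ⟨(p - p₁).toNat, by omega⟩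
      rw [show p₁ + (n : ℤ) + 1 = p₁ + ((n + 1 : ℕ) : ℤ) by push_cast; ring, key, key,
        pow_succ', ← smul_eq_mul, Submodule.smul_assoc]

end Groth.Agent.S8353
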