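import Groth.Statements.S8354
import Mathlib.Algebra.Homology.DerivedCategory.ShortExact
import Mathlib.CategoryTheory.Abelian.Exact
-- import your own Groth.Agent.* helpers here

set_option autoImplicit false
universe w w' v v' u u'
open CategoryTheory CategoryTheory.Limits
open HomAlg3

namespace Groth.Agent.S8354

open CategoryTheory.Pretriangulated

lemma kernel_eq_image {A : Type u} [Category.{v} A] [Abelian A] {S : ShortComplex A} (h : S.Exact) :
    kernelSubobject S.g = imageSubobject S.f :=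
  (S.exact_iff_image_eq_kernel.mp h).symm

lemma transfer {A : Type u} [Category.{v} A] [Abelian A] {X Y Z X' Y' Z' : A} {f : X ⟶ Y}
    {g : Y ⟶ Z} {f' : X' ⟶ Y'} {g' : Y' ⟶ Z'} {w' : f' ≫ g' = 0}
    (h : (ShortComplex.mk f' g' w').Exact) (a : X ≅ X') (b : Y ≅ Y') (c : Z ≅ Z')
    (hf : a.hom ≫ f' = f ≫ b.hom) (hg : b.hom ≫ g' = g ≫ c.hom) :
    kernelSubobject g = imageSubobject f := by
  have w : f ≫ g = 0 := by
    rw [← cancel_mono c.hom, Category.assoc, ← hg, ← Category.assoc, ← hf, Category.assoc, w',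
      comp_zero, zero_comp]
  exact kernel_eq_image (S := ShortComplex.mk f g w)
    (ShortComplex.exact_of_iso (ShortComplex.isoMk a b c hf hg).symm h)

lemma conj_comm {A : Type u} [Category.{v} A] {X X' Y Y' : A} (a : X ≅ X') (b : Y ≅ Y')
    (d : X' ⟶ Y') : a.hom ≫ d = (a.hom ≫ d ≫ b.inv) ≫ b.hom := by simp

lemma shortExact_of {A : Type u} [Category.{v} A] [Abelian A] {X Y Z : A} (f : X ⟶ Y) (g : Y ⟶ Z)
    [Mono f] [Epi g] (hex : kernelSubobject g = imageSubobject f) :
    ∃ w : f ≫ g = 0, (ShortComplex.mk f g w).ShortExact := by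
  have w : f ≫ g = 0 := by
    have hle : imageSubobject f ≤ kernelSubobject g := hex.ge
    rw [← imageSubobject_arrow_comp f, ← Subobject.ofLE_arrow hle, Category.assoc, Category.assoc,
      kernelSubobject_arrow_comp, comp_zero, comp_zero]
  refine ⟨w, ⟨?_⟩⟩
  exact (ShortComplex.exact_iff_image_eq_kernel _).mpr hex.symm

section

variable {C : Type u} [Category.{v} C] [Abelian C] [HasDerivedCategory.{w} C] [EnoughInjectives C]

/-- Abbreviation: injective complexes into `D⁺`. -/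
noncomputable abbrev injQ : HomotopyCategory.Plus (InjectiveObject C) ⥤ DerivedCategory.Plus C :=
  (InjectiveObject.ι C).mapHomotopyCategoryPlus ⋙ DerivedCategory.Plus.Qh

lemma injQ_map_surjective {I J : HomotopyCategory.Plus (InjectiveObject C)}
    (φ : injQ.obj I ⟶ injQ.obj J) : ∃ ψ : I ⟶ J, injQ.map ψ = φ := by
  obtain ⟨⟨K⟩, hK⟩ := J
  have hK' : (HomotopyCategory.plus (InjectiveObject C))
      ((HomotopyCategory.quotient _ _).obj K) := hK
  obtain ⟨n, hn⟩ := (HomotopyCategory.plus_quotient_obj_iff _).mp hK'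
  let L := ((InjectiveObject.ι C).mapHomologicalComplex (.up ℤ)).obj K
  have : CochainComplex.IsStrictlyGE L n := by dsimp only [L]; infer_instance
  have (j : ℤ) : Injective (L.X j) := (K.X j).property
  obtain ⟨θ, hθ⟩ := (DerivedCategory.Plus.Qh_map_bijective_of_isKInjective _ _
    (CochainComplex.isKInjective_of_injective L n : CochainComplex.IsKInjective L)).2 φ
  obtain ⟨ψ, rfl⟩ := (InjectiveObject.ι C).mapHomotopyCategoryPlus.map_surjective θ
  exact ⟨ψ, hθ⟩

lemma exists_injQ_iso (A : DerivedCategory.Plus C) :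
    ∃ I : HomotopyCategory.Plus (InjectiveObject C), Nonempty (A ≅ injQ.obj I) := by
  obtain ⟨n, hn⟩ := A.2
  have : A.IsGE n := (DerivedCategory.Plus.isGE_ι_obj_iff A n).mp hn
  obtain ⟨L, -, ⟨e⟩⟩ := DerivedCategory.Plus.exists_injective_nonempty_iso A n
  exact ⟨(HomotopyCategory.Plus.quotient _).obj L, ⟨e.symm⟩⟩

end


lemma exact_transfer {A : Type u} [Category.{v} A] [Abelian A] {X Y Z X' Y' Z' : A} {f : X ⟶ Y}
    {g : Y ⟶ Z} {f' : X' ⟶ Y'} {g' : Y' ⟶ Z'} {w' : f' ≫ g' = 0}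
    (h : (ShortComplex.mk f' g' w').Exact) (a : X ≅ X') (b : Y ≅ Y') (c : Z ≅ Z')
    (hf : a.hom ≫ f' = f ≫ b.hom) (hg : b.hom ≫ g' = g ≫ c.hom) (w : f ≫ g = 0) :
    (ShortComplex.mk f g w).Exact :=
  ShortComplex.exact_of_iso (ShortComplex.isoMk a b c hf hg).symm h

theorem aux {C : Type u} [Category.{v} C] [Abelian C]
    [EnoughInjectives C] [HasDerivedCategory.{w} C] {D : Type u'} [Category.{v'} D] [Abelian D]
    [HasDerivedCategory.{w'} D] (F : C ⥤ D) [F.Additive] {K₁ K₂ K₃ : CochainComplex.Plus C}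
    (φ' : K₁ ⟶ K₂) (ψ' : K₂ ⟶ K₃) (hφψ : φ'.hom ≫ ψ'.hom = 0)
    (hS : (ShortComplex.mk φ'.hom ψ'.hom hφψ).ShortExact) (n : ℤ)
    (hz : (HomotopyCategory.Plus.quotient C ⋙ DerivedCategory.Plus.Qh ⋙ F.rightDerivedFunctorPlus ⋙
          DerivedCategory.Plus.homologyFunctor D n).map φ' ≫
      (HomotopyCategory.Plus.quotient C ⋙ DerivedCategory.Plus.Qh ⋙ F.rightDerivedFunctorPlus ⋙
          DerivedCategory.Plus.homologyFunctor D n).map ψ' = 0)  :
    (ShortComplex.mk ((HomotopyCategory.Plus.quotient C ⋙ DerivedCategory.Plus.Qh ⋙ F.rightDerivedFunctorPlus ⋙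
          DerivedCategory.Plus.homologyFunctor D n).map φ')
      ((HomotopyCategory.Plus.quotient C ⋙ DerivedCategory.Plus.Qh ⋙ F.rightDerivedFunctorPlus ⋙
          DerivedCategory.Plus.homologyFunctor D n).map ψ') hz).Exact := by
  let QQ := HomotopyCategory.Plus.quotient C ⋙ DerivedCategory.Plus.Qh
  obtain ⟨I₁, ⟨e₁⟩⟩ := exists_injQ_iso (QQ.obj K₁)
  obtain ⟨I₂, ⟨e₂⟩⟩ := exists_injQ_iso (QQ.obj K₂)
  obtain ⟨φ, hφ⟩ := injQ_map_surjective (e₁.inv ≫ QQ.map φ' ≫ e₂.hom)
  obtain ⟨I₃, ψ, δI, hT⟩ := distinguished_cocone_triangle φ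
  let T := Triangle.mk φ ψ δI
  have hT₁ := (DerivedCategory.Plus.ι).map_distinguished _
    (DerivedCategory.Plus.Qh.map_distinguished _
      ((InjectiveObject.ι C).mapHomotopyCategoryPlus.map_distinguished T hT))
  let κ : QQ ⋙ DerivedCategory.Plus.ι ≅ CochainComplex.Plus.ι C ⋙ DerivedCategory.Q :=
    Functor.isoWhiskerLeft (CochainComplex.Plus.ι C) (DerivedCategory.quotientCompQhIso C)
  have hκ : ∀ {K L : CochainComplex.Plus C} (u : K ⟶ L),
      DerivedCategory.Q.map ((CochainComplex.Plus.ι C).map u) ≫ κ.inv.app L =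
        κ.inv.app K ≫ DerivedCategory.Plus.ι.map (QQ.map u) := fun u => κ.inv.naturality u
  let T₁ : Triangle (DerivedCategory C) := DerivedCategory.Plus.ι.mapTriangle.obj
    (DerivedCategory.Plus.Qh.mapTriangle.obj
      ((InjectiveObject.ι C).mapHomotopyCategoryPlus.mapTriangle.obj T))
  let a₁ : (CochainComplex.Plus.ι C ⋙ DerivedCategory.Q).obj K₁ ⟶
      DerivedCategory.Plus.ι.obj (injQ.obj I₁) :=
    κ.inv.app K₁ ≫ DerivedCategory.Plus.ι.map e₁.hom
  let a₂ : (CochainComplex.Plus.ι C ⋙ DerivedCategory.Q).obj K₂ ⟶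
      DerivedCategory.Plus.ι.obj (injQ.obj I₂) :=
    κ.inv.app K₂ ≫ DerivedCategory.Plus.ι.map e₂.hom
  have ha₁ : IsIso a₁ := inferInstance
  have ha₂ : IsIso a₂ := inferInstance
  let a₁' : (DerivedCategory.triangleOfSES hS).obj₁ ⟶ T₁.obj₁ := a₁
  let a₂' : (DerivedCategory.triangleOfSES hS).obj₂ ⟶ T₁.obj₂ := a₂
  have he₁ : QQ.map φ' ≫ e₂.hom = e₁.hom ≫ injQ.map φ := by rw [hφ, Iso.hom_inv_id_assoc]
  have comm' : DerivedCategory.Q.map ((CochainComplex.Plus.ι C).map φ') ≫ a₂ =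
      a₁ ≫ DerivedCategory.Plus.ι.map (injQ.map φ) := by
    refine ((Category.assoc _ _ _).symm.trans (congrArg (· ≫ DerivedCategory.Plus.ι.map e₂.hom) (hκ φ'))).trans ?_
    simp only [a₁]
    rw [Category.assoc, Category.assoc, ← Functor.map_comp, ← Functor.map_comp, he₁]
  have comm : (DerivedCategory.triangleOfSES hS).mor₁ ≫ a₂' = a₁' ≫ T₁.mor₁ := comm'
  obtain ⟨c, hc₂, hc₃⟩ := complete_distinguished_triangle_morphism _ T₁
    (DerivedCategory.triangleOfSES_distinguished hS) hT₁ a₁' a₂' comm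
  have : IsIso c := isIso₃_of_isIso₁₂ (Triangle.homMk (DerivedCategory.triangleOfSES hS) T₁
    a₁' a₂' c comm hc₂ hc₃) (DerivedCategory.triangleOfSES_distinguished hS) hT₁ ha₁ ha₂
  let c' : (CochainComplex.Plus.ι C ⋙ DerivedCategory.Q).obj K₃ ⟶
      DerivedCategory.Plus.ι.obj (injQ.obj I₃) := c
  have hc' : IsIso c' := this
  have hc₂' : (CochainComplex.Plus.ι C ⋙ DerivedCategory.Q).map ψ' ≫ c' =
      a₂ ≫ DerivedCategory.Plus.ι.map (injQ.map ψ) := hc₂
  let e₃ : QQ.obj K₃ ≅ injQ.obj I₃ :=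
    DerivedCategory.Plus.ι.preimageIso ((κ.app K₃) ≪≫ asIso c')
  have he₂ : QQ.map ψ' ≫ e₃.hom = e₂.hom ≫ injQ.map ψ := by
    apply DerivedCategory.Plus.ι.map_injective
    have h3 : DerivedCategory.Plus.ι.map e₃.hom = κ.hom.app K₃ ≫ c' :=
      DerivedCategory.Plus.ι.map_preimage _
    rw [Functor.map_comp, Functor.map_comp, h3, ← Category.assoc]
    refine (congrArg (· ≫ c') (κ.hom.naturality ψ')).trans ?_
    simp only [Category.assoc, hc₂', a₂]
    exact Iso.hom_inv_id_app_assoc κ K₂ _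
  -- the derived functor on injective complexes
  let G := (InjectiveObject.ι C).mapHomotopyCategoryPlus ⋙ F.mapHomotopyCategoryPlus ⋙
    DerivedCategory.Plus.Qh
  have hu : ∀ I : HomotopyCategory.Plus (InjectiveObject C), IsIso (F.rightDerivedFunctorPlusUnit.app
      ((InjectiveObject.ι C).mapHomotopyCategoryPlus.obj I)) := fun I => inferInstance
  let ν : G ≅ injQ ⋙ F.rightDerivedFunctorPlus :=
    NatIso.ofComponents (fun I => @asIso _ _ _ _ _ (hu I))
      (fun u => F.rightDerivedFunctorPlusUnit.naturality _)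
  let H : ℤ → DerivedCategory.Plus D ⥤ D := fun j =>
    DerivedCategory.Plus.ι ⋙ DerivedCategory.homologyFunctor D j
  let b : ∀ (j : ℤ) (X : CochainComplex.Plus C) (I : HomotopyCategory.Plus (InjectiveObject C)),
      (QQ.obj X ≅ injQ.obj I) → ((H j).obj (F.rightDerivedFunctorPlus.obj (QQ.obj X)) ≅ (H j).obj (G.obj I)) :=
    fun j X I e => (H j).mapIso (F.rightDerivedFunctorPlus.mapIso e ≪≫ (ν.app I).symm)
  have hb : ∀ (j : ℤ) {X Y : CochainComplex.Plus C} {I J : HomotopyCategory.Plus (InjectiveObject C)}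
      (e : QQ.obj X ≅ injQ.obj I) (e' : QQ.obj Y ≅ injQ.obj J) (u : X ⟶ Y) (θ : I ⟶ J),
      QQ.map u ≫ e'.hom = e.hom ≫ injQ.map θ →
      (b j X I e).hom ≫ (H j).map (G.map θ) =
        (H j).map (F.rightDerivedFunctorPlus.map (QQ.map u)) ≫ (b j Y J e').hom := by
    intro j X Y I J e e' u θ h
    simp only [b, Functor.mapIso_hom, ← Functor.map_comp, Iso.trans_hom, Iso.symm_hom, Iso.app_inv,
      Category.assoc]
    congr 1
    rw [← ν.inv.naturality θ, ← Category.assoc, ← Category.assoc]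
    congr 1
    simp only [Functor.comp_map, ← Functor.map_comp, h]
  let T' := DerivedCategory.Plus.ι.mapTriangle.obj (DerivedCategory.Plus.Qh.mapTriangle.obj
    (F.mapHomotopyCategoryPlus.mapTriangle.obj
      ((InjectiveObject.ι C).mapHomotopyCategoryPlus.mapTriangle.obj T)))
  have hT' : T' ∈ distTriang _ :=
    DerivedCategory.Plus.ι.map_distinguished _ (DerivedCategory.Plus.Qh.map_distinguished _
      (F.mapHomotopyCategoryPlus.map_distinguished _
        ((InjectiveObject.ι C).mapHomotopyCategoryPlus.map_distinguished T hT)))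
  exact exact_transfer (DerivedCategory.HomologySequence.exact₂ T' hT' n) (b n K₁ I₁ e₁) (b n K₂ I₂ e₂)
      (b n K₃ I₃ e₃) (hb n e₁ e₂ φ' φ he₁) (hb n e₂ e₃ ψ' ψ he₂) hz

/-- Bounded-below case, exactness at the middle term. Let T : C ⥤ D be an additive functor of abelian
categories, C having enough injectives, and 0 ⟶ K₁ ⟶ K₂ ⟶ K₃ ⟶ 0 a short exact sequence of bounded
below cochain complexes of C. Let R^n T(K) denote the n-th cohomology object of R⁺T(K), where R⁺T is
the right derived functor of T on the bounded below derived category (computed with injective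
resolutions). Then R^n T(K₁) ⟶ R^n T(K₂) ⟶ R^n T(K₃) is exact for every n. (The published statement
asserts a long exact sequence with connecting morphisms; this row states exactness at the middle
term only, with the vanishing of the composite carried as a hypothesis.) -/
theorem result {C : Type u} [Category.{v} C] [Abelian C]
    [EnoughInjectives C] [HasDerivedCategory.{w} C] {D : Type u'} [Category.{v'} D] [Abelian D]
    [HasDerivedCategory.{w'} D] (T : C ⥤ D) [T.Additive] {K₁ K₂ K₃ : CochainComplex.Plus C}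
    (φ : K₁ ⟶ K₂) (ψ : K₂ ⟶ K₃) (hφψ : φ.hom ≫ ψ.hom = 0)
    (hS : (ShortComplex.mk φ.hom ψ.hom hφψ).ShortExact) (n : ℤ)
    (hz : (HomotopyCategory.Plus.quotient C ⋙ DerivedCategory.Plus.Qh ⋙ T.rightDerivedFunctorPlus ⋙
          DerivedCategory.Plus.homologyFunctor D n).map φ ≫
      (HomotopyCategory.Plus.quotient C ⋙ DerivedCategory.Plus.Qh ⋙ T.rightDerivedFunctorPlus ⋙
          DerivedCategory.Plus.homologyFunctor D n).map ψ = 0) :
    (ShortComplex.mk ((HomotopyCategory.Plus.quotient C ⋙ DerivedCategory.Plus.Qh ⋙ T.rightDerivedFunctorPlus ⋙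
          DerivedCategory.Plus.homologyFunctor D n).map φ)
      ((HomotopyCategory.Plus.quotient C ⋙ DerivedCategory.Plus.Qh ⋙ T.rightDerivedFunctorPlus ⋙
          DerivedCategory.Plus.homologyFunctor D n).map ψ) hz).Exact := by
  exact aux T φ ψ hφψ hS n hz

end Groth.Agent.S8354
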