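import Groth.Statements.S8355
-- import your own Groth.Agent.* helpers here

set_option autoImplicit false
universe v u
open CategoryTheory CategoryTheory.Limits
open SpSeq

namespace Groth.Agent.S8355

/-- Let E be a spectral sequence in an abelian category and suppose E_r^{p,q} = 0. Then E_k^{p,q} = 0
for every k ≥ r, and E_∞^{p,q} = 0: for any abutment data (H^n) of E, the graded piece gr^p H^{p+q},
identified by the abutment with the limit term at (p, q), is zero. -/
theorem result {C : Type u} [Category.{v} C] [Abelian C] {r₀ : ℤ}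
    (E : CohomologicalSpectralSequence C r₀) (r : ℤ) (hr : r₀ ≤ r) (pq : ℤ × ℤ)
    (h : IsZero ((E.page r hr).X pq)) :
    (∀ (k : ℤ) (hk : r ≤ k), IsZero ((E.page k (hr.trans hk)).X pq)) ∧
      ∀ (H : ℤ → C) (a : SpSeq.Abutment E H),
        IsZero (SpSeq.grPiece (a.fil (pq.1 + pq.2)) (a.anti (pq.1 + pq.2)) pq.1) := by
  have step : ∀ (k : ℤ) (hk : r ≤ k), IsZero ((E.page k (hr.trans hk)).X pq) := by
    intro k hk
    induction k, hk using Int.le_induction with
    | base => exact h
    | succ k hk ih =>
        have hz : IsZero ((E.page k (hr.trans hk)).homology pq) := by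
          refine ShortComplex.isZero_homology_of_isZero_X₂ _ ?_
          exact ih
        exact hz.of_iso (E.iso k (k + 1) pq rfl (hr.trans hk)).symm
  refine ⟨step, fun H a => ?_⟩
  obtain ⟨hrk, hd⟩ := a.stat pq
  refine IsZero.of_iso ?_ (a.β pq).symm
  rcases le_total r (a.rk pq) with hle | hle
  · exact step _ hle
  · obtain ⟨k, hk⟩ := Int.le.dest hle
    have key : ∀ (k : ℕ) (h' : r₀ ≤ a.rk pq + k), IsZero ((E.page (a.rk pq + k) h').X pq) →
        IsZero ((E.page (a.rk pq) hrk).X pq) := by
      intro k
      induction k with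
      | zero =>
          intro h' hz
          have hgen : ∀ (r₁ r₂ : ℤ) (e : r₁ = r₂) (h₁ : r₀ ≤ r₁) (h₂ : r₀ ≤ r₂),
              IsZero ((E.page r₁ h₁).X pq) → IsZero ((E.page r₂ h₂).X pq) := by
            intro r₁ r₂ e h₁ h₂ hz; subst e; exact hz
          exact hgen _ _ (by simp) h' hrk hz
      | succ k ih =>
          intro h' hz
          have h₀ : r₀ ≤ a.rk pq + k := by omega
          refine ih h₀ ?_
          obtain ⟨hin, hout⟩ := hd (a.rk pq + k) h₀ (by omega)
          have hzh : IsZero ((E.page (a.rk pq + k) h₀).homology pq) :=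
            hz.of_iso (E.iso (a.rk pq + k) (a.rk pq + (k + 1 : ℕ)) pq (by omega) h₀)
          let K := E.page (a.rk pq + k) h₀
          have hprev : (ComplexShape.up' (a.rk pq + k, 1 - (a.rk pq + k))).prev pq =
              pq - (a.rk pq + k, 1 - (a.rk pq + k)) :=
            (ComplexShape.up' (a.rk pq + k, 1 - (a.rk pq + k))).prev_eq' (sub_add_cancel pq _)
          have hnext : (ComplexShape.up' (a.rk pq + k, 1 - (a.rk pq + k))).next pq =
              pq + (a.rk pq + k, 1 - (a.rk pq + k)) :=
            (ComplexShape.up' (a.rk pq + k, 1 - (a.rk pq + k))).next_eq' rfl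
          have hf : (K.sc pq).f = 0 := by
            change K.d ((ComplexShape.up' (a.rk pq + k, 1 - (a.rk pq + k))).prev pq) pq = 0
            rw [hprev]; exact hin
          have hg : (K.sc pq).g = 0 := by
            change K.d pq ((ComplexShape.up' (a.rk pq + k, 1 - (a.rk pq + k))).next pq) = 0
            rw [hnext]; exact hout
          exact hzh.of_iso ((ShortComplex.HomologyData.ofZeros (K.sc pq) hf hg).left.homologyIso).symm
    subst hk
    exact key k hr h

end Groth.Agent.S8355
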