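import Groth.Statements.S8362
import Groth.Agent.Lib.SquareZeroPts.Basic

set_option autoImplicit false
universe u
open CategoryTheory AlgebraicGeometry
open SGA3

namespace Groth.Agent.S8362

/-- Over an affine base S = Spec R with S₀ = Spec (R/J) for an ideal J of square zero: for an arbitrary
S-scheme X, every S-endomorphism of X inducing the identity on X ×_S S₀ is an automorphism. (The
published statement is over an arbitrary base scheme with a quasi-coherent ideal of square zero;
this row is its case of an affine base, to which it reduces since being an isomorphism is local on
the base.) -/
theorem result (R : Type u) [CommRing R] (J : Ideal R) (hJ : J * J = ⊥)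
    (X : Over (Spec (CommRingCat.of R))) (u : X ⟶ X)
    (h : (Over.pullback (Spec.map (CommRingCat.ofHom (Ideal.Quotient.mk J)))).map u = 𝟙 _) :
    IsIso u := by
  exact GrothLib.SquareZeroPts.isIso_of_map_eq_id hJ u h

end Groth.Agent.S8362
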