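import Groth.Statements.S8363
import Groth.Agent.Lib.SquareZeroPts.Basic

set_option autoImplicit false
universe u
open CategoryTheory MonObj AlgebraicGeometry
open SGA3

namespace Groth.Agent.S8363

/-- The kernel of the reduction map is commutative: over an affine base S = Spec R with S₀ = Spec (R/J)
for an ideal J of square zero: for a group scheme X over S and an arbitrary S-scheme Y, the kernel
of the reduction map from X(Y) to X(Y ×_S S₀) = X₀(Y₀) is a commutative group: two Y-valued points
of X whose base changes to S₀ are the unit commute. (The published statement identifies this kernel,
as a group functor, with the commutative functor of homomorphisms from the pulled-back invariant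
differentials of X₀ to J·O_Y, over an arbitrary base with a quasi-coherent ideal of square zero;
this row states only the resulting commutativity, over an affine base.) -/
theorem result (R : Type u) [CommRing R] (J : Ideal R) (hJ : J * J = ⊥)
    (X : Over (Spec (CommRingCat.of R))) [GrpObj X] (Y : Over (Spec (CommRingCat.of R))) (g g' : Y ⟶ X)
    (hg : (Over.pullback (Spec.map (CommRingCat.ofHom (Ideal.Quotient.mk J)))).map g = 1)
    (hg' : (Over.pullback (Spec.map (CommRingCat.ofHom (Ideal.Quotient.mk J)))).map g' = 1) :
    g * g' = g' * g := by
  exact GrothLib.SquareZeroPts.commute_of_map_eq_one hJ g g' hg hg'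

end Groth.Agent.S8363
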