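import Groth.Statements.S8364
import Mathlib.RingTheory.Smooth.Basic

set_option autoImplicit false
universe u
open SGA3

namespace Groth.Agent.S8364

/-- For a commutative ring R, an ideal J of R of square zero, a smooth R-algebra A and the extended
ideal I = J·A, every R-algebra automorphism of A/I lifts to an R-algebra automorphism of A. (The
published statement concerns the automorphism functor of a smooth affine S-scheme E and affine test
schemes Y; this row is the case Y = S = Spec R, E = Spec A, which gives the general one after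
replacing R by the ring of Y.) -/
theorem result (R A : Type u) [CommRing R] [CommRing A] [Algebra R A]
    [Algebra.Smooth R A] (J : Ideal R) (hJ : J * J = ⊥)
    (φ₀ : (A ⧸ Ideal.map (algebraMap R A) J) ≃ₐ[R] (A ⧸ Ideal.map (algebraMap R A) J)) :
    ∃ φ : A ≃ₐ[R] A,
      (Ideal.Quotient.mkₐ R (Ideal.map (algebraMap R A) J)).comp φ.toAlgHom =
        φ₀.toAlgHom.comp (Ideal.Quotient.mkₐ R (Ideal.map (algebraMap R A) J)) := by
  generalize hI : Ideal.map (algebraMap R A) J = I at φ₀ ⊢
  have hnil : IsNilpotent I := ⟨2, by rw [pow_two, ← hI, ← Ideal.map_mul, hJ, Ideal.map_bot, Ideal.zero_eq_bot]⟩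
  obtain ⟨f, hf⟩ := Algebra.FormallySmooth.exists_lift I hnil (φ₀.toAlgHom.comp (Ideal.Quotient.mkₐ R I))
  obtain ⟨g, hg⟩ := Algebra.FormallySmooth.exists_lift I hnil (φ₀.symm.toAlgHom.comp (Ideal.Quotient.mkₐ R I))
  have hf' : ∀ x, Ideal.Quotient.mk I (f x) = φ₀ (Ideal.Quotient.mk I x) := fun x => DFunLike.congr_fun hf x
  have hg' : ∀ x, Ideal.Quotient.mk I (g x) = φ₀.symm (Ideal.Quotient.mk I x) := fun x => DFunLike.congr_fun hg x
  have key : ∀ h : A →ₐ[R] A, (∀ x, h x - x ∈ I) → Function.Bijective h := by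
    intro h hh
    let δ : A →ₗ[R] A := h.toLinearMap - LinearMap.id
    have hδ : ∀ x, δ x = h x - x := fun x => rfl
    have hδI : ∀ y ∈ I, δ y = 0 := by
      intro y hy
      have hy' : y ∈ (J • ⊤ : Submodule R A) := by rw [Ideal.smul_top_eq_map, hI]; exact hy
      refine Submodule.smul_induction_on hy' (fun r hr x _ => ?_) (fun a b ha hb => by rw [map_add, ha, hb, add_zero])
      rw [map_smul]
      have h1 : δ x ∈ (J • ⊤ : Submodule R A) := by rw [Ideal.smul_top_eq_map, hI]; exact hh x
      have h2 : r • δ x ∈ (J • J • ⊤ : Submodule R A) := Submodule.smul_mem_smul hr h1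
      rw [← Submodule.smul_assoc, smul_eq_mul, hJ, Submodule.bot_smul, Submodule.mem_bot] at h2
      exact h2
    refine ⟨(injective_iff_map_eq_zero h).mpr fun x hx => ?_, fun y => ⟨y - δ y, ?_⟩⟩
    · have h1 : δ x = -x := by rw [hδ, hx, zero_sub]
      have h2 := hδI (δ x) (hh x)
      rw [h1, map_neg, h1, neg_neg] at h2
      exact h2
    · have h2 : δ (δ y) = 0 := hδI _ (hh y)
      rw [map_sub, show h y = y + δ y by rw [hδ]; abel, show h (δ y) = δ y + δ (δ y) by rw [hδ (δ y)]; abel, h2]
      abel
  have h1 := key (f.comp g) fun x => by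
    rw [← Ideal.Quotient.eq, AlgHom.comp_apply, hf', hg', AlgEquiv.apply_symm_apply]
  have h2 := key (g.comp f) fun x => by
    rw [← Ideal.Quotient.eq, AlgHom.comp_apply, hg', hf', AlgEquiv.symm_apply_apply]
  exact ⟨AlgEquiv.ofBijective f ⟨Function.Injective.of_comp h2.1, Function.Surjective.of_comp h1.2⟩, AlgHom.ext hf'⟩

end Groth.Agent.S8364
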