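import Groth.Statements.S8365
import Groth.Agent.Lib.LiePts.Bridge

set_option autoImplicit false
universe u
open CategoryTheory MonObj AlgebraicGeometry
open LieS

namespace Groth.Agent.S8365

/-- For a monoid scheme X over a scheme S (an associative unital monoid object in S-schemes) and an
affine S-scheme T = Spec B, a point of X with values in the dual numbers over T is invertible if and
only if its restriction along the zero section ε = 0 is invertible in X(T); in particular every such
point restricting to the unit section is invertible. (The published statement is for monoid-valued
functors satisfying a tangent-space exactness condition, which every representable functor
satisfies, and its special case where the restriction is the unit section allows unital composition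
laws that need not be associative; this row treats monoid schemes only.) -/
theorem result (S : Scheme.{u}) (X : Over S) [MonObj X] (B : Type u) [CommRing B]
    (f : Spec (CommRingCat.of B) ⟶ S) (v : LieS.dpt B f ⟶ X) :
    IsUnit v ↔ IsUnit (LieS.zeroSec B f ≫ v) := by
  exact GrothLib.LiePts.isUnit_iff_restrict f v

end Groth.Agent.S8365
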