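import Groth.Statements.S8366
import Groth.Agent.Lib.DeformIso.Basic
import Groth.Agent.Lib.MonoidUnits.Open
import Mathlib.AlgebraicGeometry.Sites.Fpqc

set_option autoImplicit false
universe u
open CategoryTheory MonoidalCategory MonObj AlgebraicGeometry
open CartesianMonoidalCategory
open SGA3

namespace Groth.Agent.S8366

/-- Over an affine base S = Spec R with S₀ = Spec (R/I) for a nilpotent ideal I: let X be an S-scheme
which is flat and either quasi-compact or locally of finite presentation over S, and P : X ×_S X → X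
a composition law. If P is associative and its base change to S₀ is the multiplication of some
group-scheme structure on X ×_S S₀, then P is the multiplication of a group-scheme structure on X.
(The published statement is over an arbitrary base scheme with S₀ defined by a nilpotent
quasi-coherent ideal; this row is its case of an affine base.) -/
theorem result (R : Type u) [CommRing R] (I : Ideal R)
    (hI : IsNilpotent I) (X : Over (Spec (CommRingCat.of R))) [Flat X.hom]
    (hX : QuasiCompact X.hom ∨ LocallyOfFinitePresentation X.hom) (P : X ⊗ X ⟶ X)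
    (hassoc : (P ▷ X) ≫ P = (α_ X X X).hom ≫ (X ◁ P) ≫ P)
    (h0 : ∃ _ : GrpObj ((Over.pullback (Spec.map (CommRingCat.ofHom (Ideal.Quotient.mk I)))).obj X),
      μ[(Over.pullback (Spec.map (CommRingCat.ofHom (Ideal.Quotient.mk I)))).obj X] =
        Functor.LaxMonoidal.μ (Over.pullback (Spec.map (CommRingCat.ofHom (Ideal.Quotient.mk I)))) X X ≫ (Over.pullback (Spec.map (CommRingCat.ofHom (Ideal.Quotient.mk I)))).map P) :
    ∃ _ : GrpObj X, μ[X] = P := by
  have asso : ∀ {T : Over (Spec (CommRingCat.of R))} (a b c : T ⟶ X),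
      lift (lift a b ≫ P) c ≫ P = lift a (lift b c ≫ P) ≫ P := by
    intro T a b c
    have := congrArg (lift (lift a b) c ≫ ·) hassoc
    simpa using this
  let b := Spec.map (CommRingCat.ofHom (Ideal.Quotient.mk I))
  let F := Over.pullback b
  have hb : MoreMor.IsFiniteOrderThickening b :=
    GrothLib.MonoidUnits.isFiniteOrderThickening_specMap _ Ideal.Quotient.mk_surjective
      (by rw [CommRingCat.hom_ofHom, Ideal.mk_ker]; exact hI)
  haveI : Flat (X ⊗ X).hom := by rw [Over.tensorObj_hom]; infer_instance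
  -- isomorphisms can be tested on the reduction
  have isoOf : ∀ (u : X ⊗ X ⟶ X ⊗ X), IsIso (F.map u) → IsIso u := by
    intro u hu
    haveI : IsIso (F.map u).left := inferInstanceAs (IsIso ((Over.forget _).map (F.map u)))
    haveI : Flat (u.left ≫ (X ⊗ X).hom) := by rw [Over.w u]; infer_instance
    haveI : IsIso u.left := GrothLib.DeformIso.isIso_of_isIso_baseChange
      (Limits.pullback.fst (X ⊗ X).hom b) (Limits.pullback.fst (X ⊗ X).hom b) b (F.map u).left u.left
      (Limits.pullback.snd (X ⊗ X).hom b) (X ⊗ X).hom hb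
      (by
        rw [Over.w u, show (F.map u).left ≫ Limits.pullback.snd (X ⊗ X).hom b =
          Limits.pullback.snd (X ⊗ X).hom b from Over.w (F.map u)]
        exact IsPullback.of_hasPullback _ _)
      (IsPullback.of_hasPullback _ _)
      (Limits.pullback.lift_fst _ _ _).symm
    haveI : IsIso ((Over.forget _).map u) := ‹IsIso u.left›
    exact isIso_of_reflects_iso u (Over.forget _)
  obtain ⟨G₀, h0⟩ := h0
  have hμ : ∀ u : F.obj X ⊗ F.obj X ⟶ F.obj X ⊗ F.obj X, IsIso u → ∀ v : X ⊗ X ⟶ X ⊗ X,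
      Functor.LaxMonoidal.μ F X X ≫ F.map v ≫ Functor.OplaxMonoidal.δ F X X = u → IsIso v := by
    intro u hu v huv
    refine isoOf v ?_
    haveI : IsIso (Functor.LaxMonoidal.μ F X X ≫ F.map v ≫ Functor.OplaxMonoidal.δ F X X) := huv ▸ hu
    haveI : IsIso (F.map v ≫ Functor.OplaxMonoidal.δ F X X) :=
      IsIso.of_isIso_comp_left (Functor.LaxMonoidal.μ F X X) _
    exact IsIso.of_isIso_comp_right (F.map v) (Functor.OplaxMonoidal.δ F X X)
  haveI : IsIso (lift (fst X X) P) := by
    refine hμ (lift (fst (F.obj X) (F.obj X)) (fst (F.obj X) (F.obj X) * snd (F.obj X) (F.obj X))) ?_ _ ?_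
    · refine ⟨lift (fst (F.obj X) (F.obj X)) ((fst (F.obj X) (F.obj X))⁻¹ * snd (F.obj X) (F.obj X)), ?_, ?_⟩
      · ext <;> simp only [Category.assoc, Category.id_comp, lift_fst, lift_snd, MonObj.comp_mul,
          GrpObj.comp_inv, inv_mul_cancel_left]
      · ext <;> simp only [Category.assoc, Category.id_comp, lift_fst, lift_snd, MonObj.comp_mul,
          GrpObj.comp_inv, mul_inv_cancel_left]
    · rw [Functor.OplaxMonoidal.lift_δ, comp_lift, Functor.Monoidal.μ_fst, ← h0]
      simp [Hom.mul_def]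
  haveI : IsIso (lift P (snd X X)) := by
    refine hμ (lift (fst (F.obj X) (F.obj X) * snd (F.obj X) (F.obj X)) (snd (F.obj X) (F.obj X))) ?_ _ ?_
    · refine ⟨lift (fst (F.obj X) (F.obj X) * (snd (F.obj X) (F.obj X))⁻¹) (snd (F.obj X) (F.obj X)), ?_, ?_⟩
      · ext <;> simp only [Category.assoc, Category.id_comp, lift_fst, lift_snd, MonObj.comp_mul,
          GrpObj.comp_inv, mul_inv_cancel_right]
      · ext <;> simp only [Category.assoc, Category.id_comp, lift_fst, lift_snd, MonObj.comp_mul,
          GrpObj.comp_inv, inv_mul_cancel_right]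
    · rw [Functor.OplaxMonoidal.lift_δ, comp_lift, Functor.Monoidal.μ_snd, ← h0]
      simp [Hom.mul_def]
  have cancelL : ∀ {T : Over (Spec (CommRingCat.of R))} {a x y : T ⟶ X},
      lift a x ≫ P = lift a y ≫ P → x = y := by
    intro T a x y h
    have h2 : lift a x ≫ lift (fst X X) P = lift a y ≫ lift (fst X X) P := by
      ext <;> simp [h]
    simpa using congrArg (· ≫ snd X X) ((cancel_mono _).1 h2)
  have cancelR : ∀ {T : Over (Spec (CommRingCat.of R))} {a x y : T ⟶ X},
      lift x a ≫ P = lift y a ≫ P → x = y := by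
    intro T a x y h
    have h2 : lift x a ≫ lift P (snd X X) = lift y a ≫ lift P (snd X X) := by
      ext <;> simp [h]
    simpa using congrArg (· ≫ fst X X) ((cancel_mono _).1 h2)
  have divL : ∀ {T : Over (Spec (CommRingCat.of R))} (a b : T ⟶ X), ∃ x : T ⟶ X, lift a x ≫ P = b := by
    intro T a b
    let z := lift a b ≫ inv (lift (fst X X) P)
    have hz : z ≫ lift (fst X X) P = lift a b := by
      simp only [z, Category.assoc, IsIso.inv_hom_id, Category.comp_id]
    refine ⟨z ≫ snd X X, ?_⟩
    have h1 := congrArg (· ≫ fst X X) hz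
    have h2 := congrArg (· ≫ snd X X) hz
    simp only [Category.assoc, lift_fst, lift_snd] at h1 h2
    rw [← h1, show lift (z ≫ fst X X) (z ≫ snd X X) = z by ext <;> simp, h2]
  obtain ⟨eX, heX⟩ := divL (𝟙 X) (𝟙 X)
  have he : ∀ {T : Over (Spec (CommRingCat.of R))} (a : T ⟶ X), lift a (a ≫ eX) ≫ P = a := fun a => by
    have := congrArg (a ≫ ·) heX
    rwa [comp_lift_assoc, Category.comp_id] at this
  have hidem : ∀ {T : Over (Spec (CommRingCat.of R))} (a : T ⟶ X),
      lift (a ≫ eX) (a ≫ eX) ≫ P = a ≫ eX := fun a => cancelL (a := a) (by rw [← asso, he, he])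
  have hl1 : ∀ {T : Over (Spec (CommRingCat.of R))} (a z : T ⟶ X), lift (a ≫ eX) z ≫ P = z := fun a z =>
    cancelL (a := a ≫ eX) (by rw [← asso, hidem])
  have hr1 : ∀ {T : Over (Spec (CommRingCat.of R))} (a z : T ⟶ X), lift z (a ≫ eX) ≫ P = z := fun a z =>
    cancelR (a := a ≫ eX) (by rw [asso, hidem])
  have hconst : ∀ {T : Over (Spec (CommRingCat.of R))} (a a' : T ⟶ X), a ≫ eX = a' ≫ eX := fun a a' => by
    rw [← hr1 a' (a ≫ eX), hl1]
  haveI : Surjective X.hom := by
    haveI : Surjective b := hb.1.2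
    haveI : Surjective (F.obj X).hom := ⟨fun p => ⟨(η[F.obj X]).left p, by
      rw [← Scheme.Hom.comp_apply, Over.w]; rfl⟩⟩
    haveI : Surjective (Limits.pullback.fst X.hom b ≫ X.hom) := by
      rw [Limits.pullback.condition]
      exact inferInstanceAs (Surjective ((F.obj X).hom ≫ b))
    exact Surjective.of_comp (Limits.pullback.fst X.hom b) X.hom
  haveI : EffectiveEpi X.hom := by
    rcases hX with h | h
    · infer_instance
    · infer_instance
  have hdesc : ∀ {Z : Scheme.{u}} (g₁ g₂ : Z ⟶ X.left), g₁ ≫ X.hom = g₂ ≫ X.hom →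
      g₁ ≫ eX.left = g₂ ≫ eX.left := by
    intro Z g₁ g₂ hg
    let T : Over (Spec (CommRingCat.of R)) := Over.mk (g₁ ≫ X.hom)
    exact congrArg CommaMorphism.left
      (hconst (Over.homMk g₁ rfl : T ⟶ X) (Over.homMk g₂ hg.symm : T ⟶ X))
  let e₀l : Spec (CommRingCat.of R) ⟶ X.left := EffectiveEpi.desc X.hom eX.left hdesc
  have he₀l : X.hom ≫ e₀l = eX.left := EffectiveEpi.fac _ _ _
  let e₀ : 𝟙_ (Over (Spec (CommRingCat.of R))) ⟶ X := Over.homMk e₀l (by
    rw [← cancel_epi X.hom, reassoc_of% he₀l, Over.w eX]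
    exact (Category.comp_id _).symm)
  have heq : toUnit X ≫ e₀ = eX := by
    ext1
    exact (congrArg (· ≫ e₀l) (Over.toUnit_left)).trans he₀l
  have one_mul' : ∀ {T : Over (Spec (CommRingCat.of R))} (z : T ⟶ X), lift (toUnit T ≫ e₀) z ≫ P = z := by
    intro T z
    rw [show toUnit T ≫ e₀ = z ≫ eX by rw [← heq, ← Category.assoc]; congr 1; exact Subsingleton.elim _ _]
    exact hl1 z z
  have mul_one' : ∀ {T : Over (Spec (CommRingCat.of R))} (z : T ⟶ X), lift z (toUnit T ≫ e₀) ≫ P = z := by
    intro T z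
    rw [show toUnit T ≫ e₀ = z ≫ eX by rw [← heq, ← Category.assoc]; congr 1; exact Subsingleton.elim _ _]
    exact hr1 z z
  obtain ⟨i, hi⟩ := divL (𝟙 X) (toUnit X ≫ e₀)
  have hi' : lift i (𝟙 X) ≫ P = toUnit X ≫ e₀ := by
    refine cancelR (a := i) ?_
    rw [asso, hi, mul_one', one_mul']
  exact ⟨{
    one := e₀
    mul := P
    one_mul := by
      have := one_mul' (snd (𝟙_ (Over (Spec (CommRingCat.of R)))) X)
      rw [show (e₀ ▷ X) = lift (toUnit _ ≫ e₀) (snd (𝟙_ (Over (Spec (CommRingCat.of R)))) X) by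
        ext <;> simp [Subsingleton.elim (fst (𝟙_ (Over (Spec (CommRingCat.of R)))) X) (toUnit _)]]
      exact this
    mul_one := by
      have := mul_one' (fst X (𝟙_ (Over (Spec (CommRingCat.of R)))))
      rw [show (X ◁ e₀) = lift (fst X (𝟙_ (Over (Spec (CommRingCat.of R))))) (toUnit _ ≫ e₀) by
        ext <;> simp [Subsingleton.elim (snd X (𝟙_ (Over (Spec (CommRingCat.of R))))) (toUnit _)]]
      exact this
    mul_assoc := hassoc
    inv := i
    left_inv := hi'
    right_inv := hi }, rfl⟩

end Groth.Agent.S8366
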