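import Groth.Statements.S8895
import Groth.Agent.Lib.RelReg.Chart
import Groth.Agent.Lib.RelReg.H1Scheme

set_option autoImplicit false
set_option linter.all false
universe u
open CategoryTheory CategoryTheory.Limits AlgebraicGeometry TopologicalSpace
open SDiv

namespace Groth.Agent.S8895

/-- Let f : X ⟶ S be locally of finite presentation and i : Z ⟶ X a relative H_1-regular immersion. Then
(1) there is an open subscheme U ⊆ X containing the image of Z such that U ⟶ S is flat, and (2) i is
a regular immersion and remains one after any base change S' ⟶ S. -/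
theorem result {Z X S : Scheme.{u}} (f : X ⟶ S) [LocallyOfFinitePresentation f] (i : Z ⟶ X)
    (hi : RegImm.IsRelRegularImmersion RegImm.Kind.h1 f i) :
    (∃ U : X.Opens, Set.range (fun z : ↥Z => i z) ⊆ (U : Set ↥X) ∧ Flat (U.ι ≫ f)) ∧
      RegImm.IsRegularImmersion RegImm.Kind.regular i ∧
      ∀ (S' : Scheme.{u}) (g : S' ⟶ S), RegImm.IsRegularImmersion RegImm.Kind.regular (pullback.snd i (pullback.fst f g)) := by
  haveI : IsImmersion i := hi.1.1
  haveI : Flat (i ≫ f) := hi.2
  have hflat : ∀ z : Z, (f.stalkMap (i z)).hom.Flat := GrothLib.RelReg.flat_stalkMap_of_h1 f i hi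
  have hchart : ∀ z : Z, GrothLib.RelReg.HasSliceChart f i z := by
    intro z
    obtain ⟨r, a, -, hq, hker⟩ :=
      GrothLib.RelReg.exists_stalk_equations i z RegImm.Kind.h1 (Or.inl rfl) (hi.1.2 z)
    obtain ⟨U₀, hz, hci, rs, hrs, hI⟩ := hi.1.2 z
    letI := (f.stalkMap (i z)).hom.toAlgebra
    haveI : IsLocalHom (algebraMap (S.presheaf.stalk (f (i z))) (X.presheaf.stalk (i z))) :=
      inferInstanceAs (IsLocalHom (f.stalkMap (i z)).hom)
    haveI : Module.Flat (S.presheaf.stalk (f (i z))) (X.presheaf.stalk (i z) ⧸ Ideal.span (Set.range a)) := by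
      have h := GrothLib.RelReg.flat_quot_ker_stalkMap f i z
      rw [hker] at h
      exact RingHom.flat_algebraMap_iff.mp h
    have hm : ∀ j, a j ∈ IsLocalRing.maximalIdeal (X.presheaf.stalk (i z)) := fun j => by
      refine IsLocalRing.le_maximalIdeal (J := Ideal.span (Set.range a)) ?_ (Ideal.subset_span ⟨j, rfl⟩)
      rw [← hker]
      exact RingHom.ker_ne_top _
    exact GrothLib.RelReg.exists_chart f i z (hflat z) U₀ hz hci
      (hI ▸ Submodule.fg_span (List.finite_toSet rs)) a hker
      (GrothLib.RelReg.isRegular_fibre (GrothLib.FibreFlat.isEssFinitePresentation_stalkMap f (i z)) a hm hq)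
  refine ⟨?_, ⟨inferInstance, fun z => GrothLib.RelReg.regularAt_of_chart (hchart z)⟩, fun S' g => ⟨?_, fun y => ?_⟩⟩
  · obtain ⟨U, hU, hfl⟩ := GrothLib.RelReg.exists_flat_open f
    exact ⟨U, Set.range_subset_iff.mpr fun z => hU _ (hflat z), hfl⟩
  · exact MorphismProperty.of_isPullback (IsPullback.of_hasPullback i (pullback.fst f g)) hi.1.1
  · exact GrothLib.RelReg.regularAt_baseChange_of_chart (IsPullback.of_hasPullback f g)
      (IsPullback.of_hasPullback i (pullback.fst f g)) y (hchart _)

end Groth.Agent.S8895
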