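import Groth.Statements.S8368
import Groth.Agent.Lib.KoszulSqZero14.Basic
import Groth.Agent.Lib.KoszulColon.Basic
import Groth.Agent.Lib.KoszulColon.BaseChange
import Groth.Agent.Lib.KoszulMod.Basic
import Groth.Agent.Lib.SeqKinds.Basic

set_option autoImplicit false
universe u
open CategoryTheory CategoryTheory.Limits TensorProduct
open SGA3

namespace Groth.Agent.S8368

/-- Let A be a commutative ring, J an ideal of A of square zero, B a flat A-algebra and f₁, …, f_d
elements of B (a linear map from a free B-module of rank d to B). If the reductions of the f_i to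
B/JB form a Koszul-regular sequence and the quotient of B/JB by them is flat over A/J, then f₁, …,
f_d is a Koszul-regular sequence in B and B/(f₁, …, f_d) is flat over A. -/
theorem result (A B : Type u) [CommRing A] [CommRing B] [Algebra A B]
    [Module.Flat A B] (J : Ideal A) (hJ : J * J = ⊥) (rs : List B)
    (hreg : LCI.IsKoszulRegularSeq (B ⧸ Ideal.map (algebraMap A B) J)
      (rs.map (Ideal.Quotient.mk (Ideal.map (algebraMap A B) J))))
    (hflat : Module.Flat (A ⧸ J) ((B ⧸ Ideal.map (algebraMap A B) J) ⧸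
      Ideal.ofList (rs.map (Ideal.Quotient.mk (Ideal.map (algebraMap A B) J))))) :
    LCI.IsKoszulRegularSeq B rs ∧ Module.Flat A (B ⧸ Ideal.ofList rs) := by
  let I : Ideal B := Ideal.map (algebraMap A B) J
  let γ : Module.Dual B B := LinearMap.id
  have hid : rs.map γ = rs := by simp [γ]
  let K : CochainComplex (ModuleCat.{u} B) ℤ := GrothLib.KoszulColon.kc γ rs
  letI : ∀ i : ℤ, Module A (K.X i) := fun i => Module.compHom _ (algebraMap A B)
  haveI : ∀ i : ℤ, IsScalarTower A B (K.X i) := fun i => IsScalarTower.of_algebraMap_smul fun _ _ => rfl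
  haveI : ∀ i : ℤ, Module.Flat A (K.X i) := fun i => by
    haveI : Module.Free B (K.X i) := GrothLib.KoszulColon.free_kc γ rs i
    exact Module.Flat.trans A B _
  let F : ℕ → Type u := fun n => K.X (-(n : ℤ))
  let dB : ∀ n, F (n + 1) →ₗ[B] F n := fun n => (K.d (-((n + 1 : ℕ) : ℤ)) (-(n : ℤ))).hom
  -- the two kinds of smul top agree
  have hsm : ∀ n (x : F n), x ∈ I • (⊤ : Submodule B (F n)) → x ∈ J • (⊤ : Submodule A (F n)) := by
    intro n x hx
    rw [← Submodule.restrictScalars_top A B (F n), ← Ideal.smul_restrictScalars, Submodule.restrictScalars_mem]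
    exact hx
  have hsm' : ∀ n (x : F n), x ∈ J • (⊤ : Submodule A (F n)) → x ∈ I • (⊤ : Submodule B (F n)) := by
    intro n x hx
    rw [← Submodule.restrictScalars_top A B (F n), ← Ideal.smul_restrictScalars, Submodule.restrictScalars_mem] at hx
    exact hx
  let φ : B →+* B ⧸ I := Ideal.Quotient.mk I
  letI := φ.toAlgebra
  have hlist : (rs.map γ).map φ = rs.map (Ideal.Quotient.mk (Ideal.map (algebraMap A B) J)) := by rw [hid]
  obtain ⟨e⟩ := GrothLib.KoszulColon.nonempty_koszul_iso φ (rs.map γ)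
  have hbar : ∀ n, Function.Exact ((dB (n + 1)).lTensor (B ⧸ I)) ((dB n).lTensor (B ⧸ I)) := by
    intro n
    have hneg : (-((n + 1 : ℕ) : ℤ)) ≠ 0 := by omega
    have h1 : (Koszul.koszul (B ⧸ I) ((rs.map γ).map φ)).ExactAt (-((n + 1 : ℕ) : ℤ)) := by
      rw [hlist, HomologicalComplex.exactAt_iff_isZero_homology]
      exact hreg _ hneg
    have h2 := HomologicalComplex.ExactAt.of_iso h1 e.symm
    rw [HomologicalComplex.exactAt_iff' _ (-((n + 1 + 1 : ℕ) : ℤ)) _ (-(n : ℤ))
      (by simp; omega) (by simp),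
      ShortComplex.ShortExact.moduleCat_exact_iff_function_exact] at h2
    exact h2
  let d : ∀ n, F (n + 1) →ₗ[A] F n := fun n => (dB n).restrictScalars A
  have hd : ∀ n x, d n (d (n + 1) x) = 0 := fun n x => GrothLib.KoszulMod.d_d K _ _ _ x
  have hex : ∀ n x, d n x ∈ J • (⊤ : Submodule A (F n)) →
      ∃ y, x - d (n + 1) y ∈ J • (⊤ : Submodule A (F (n + 1))) := by
    intro n x hx
    obtain ⟨w, hw⟩ := (hbar n ((1 : B ⧸ I) ⊗ₜ x)).1 (by
      rw [LinearMap.lTensor_tmul]
      exact GrothLib.KoszulSqZero14.tmul_smul_top_eq_zero I (hsm' _ _ hx))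
    obtain ⟨y, rfl⟩ := GrothLib.KoszulSqZero14.exists_one_tmul I w
    refine ⟨y, hsm _ _ (GrothLib.KoszulSqZero14.mem_smul_top_of_tmul_eq_zero I ?_)⟩
    rw [LinearMap.lTensor_tmul] at hw
    rw [TensorProduct.tmul_sub, sub_eq_zero]
    exact hw.symm
  -- the cokernel in degree zero
  obtain ⟨κ, hκd, -, hκ, -⟩ := GrothLib.SeqKinds.exists_degree_neg_one γ rs
  let p : B →ₗ[B] (F 0 ⧸ LinearMap.range (dB 0)) :=
    (LinearMap.range (dB 0)).mkQ ∘ₗ LinearMap.toSpanSingleton B (F 0) (GrothLib.KoszulColon.unit γ rs)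
  have hp : Function.Surjective p := fun z => by
    obtain ⟨z, rfl⟩ := Submodule.mkQ_surjective _ z
    obtain ⟨r, hr⟩ := GrothLib.KoszulColon.exists_smul_unit γ rs z
    exact ⟨r, congrArg (LinearMap.range (dB 0)).mkQ hr.symm⟩
  have hpk : LinearMap.ker p = Ideal.ofList rs := by
    refine le_antisymm (fun r hr => ?_) (fun r hr => ?_)
    · obtain ⟨y, hy⟩ := (Submodule.Quotient.mk_eq_zero _).1 hr
      obtain ⟨a, rfl⟩ := hκ y
      have h1 : r = ∑ i, a i * γ (rs.get i) :=
        GrothLib.SeqKinds.smul_unit_injective γ rs (hy.symm.trans (hκd a))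
      rw [h1]
      exact sum_mem fun i _ => Ideal.mul_mem_left _ _ (Ideal.subset_span (List.get_mem rs i))
    · exact (Submodule.Quotient.mk_eq_zero _).2
        (GrothLib.KoszulColon.smul_unit_mem_range γ rs r (by rw [hid]; exact hr))
  let eB : (B ⧸ Ideal.ofList rs) ≃ₗ[B] (F 0 ⧸ LinearMap.range (dB 0)) :=
    (Submodule.quotEquivOfEq _ _ hpk.symm).trans (p.quotKerEquivOfSurjective hp)
  let eA : (B ⧸ Ideal.ofList rs) ≃ₗ[A] (F 0 ⧸ LinearMap.range (d 0)) :=
    (eB.restrictScalars A).trans ((Submodule.Quotient.restrictScalarsEquiv A (LinearMap.range (dB 0))).symm.trans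
      (Submodule.quotEquivOfEq _ _ (LinearMap.range_restrictScalars _).symm))
  -- flatness of the reduction
  let Qb := (B ⧸ I) ⧸ Ideal.ofList (rs.map (Ideal.Quotient.mk (Ideal.map (algebraMap A B) J)))
  have hcomap : ∀ b : B, (Ideal.Quotient.mk _ (Ideal.Quotient.mk I b) : Qb) = 0 ↔ b ∈ Ideal.ofList rs ⊔ I := by
    intro b
    rw [Ideal.Quotient.eq_zero_iff_mem, ← Ideal.map_ofList, ← Ideal.mem_comap,
      Ideal.comap_map_of_surjective _ Ideal.Quotient.mk_surjective, ← RingHom.ker_eq_comap_bot, Ideal.mk_ker]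
  let l : (B ⧸ Ideal.ofList rs) →ₗ[A] Qb :=
    Submodule.liftQ ((Ideal.ofList rs).restrictScalars A)
      ((Ideal.Quotient.mkₐ A _).toLinearMap.comp (Ideal.Quotient.mkₐ A I).toLinearMap)
      (fun b hb => (hcomap b).2 (Ideal.mem_sup_left hb)) ∘ₗ
      (Submodule.Quotient.restrictScalarsEquiv A (Ideal.ofList rs)).symm.toLinearMap
  have hl : ∀ b : B, l (Ideal.Quotient.mk _ b) = Ideal.Quotient.mk _ (Ideal.Quotient.mk I b) := fun b => rfl
  haveI : IsScalarTower A (A ⧸ J) Qb := IsScalarTower.of_algebraMap_smul fun a z => by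
    obtain ⟨z, rfl⟩ := Ideal.Quotient.mk_surjective z
    obtain ⟨z, rfl⟩ := Ideal.Quotient.mk_surjective z
    rfl
  let L : (A ⧸ J) ⊗[A] (B ⧸ Ideal.ofList rs) →ₗ[A ⧸ J] Qb := l.liftBaseChange (A ⧸ J)
  have hLb : Function.Bijective L := by
    refine ⟨?_, fun z => ?_⟩
    · rw [injective_iff_map_eq_zero]
      intro z hz
      obtain ⟨z, rfl⟩ := GrothLib.KoszulSqZero14.exists_one_tmul J z
      obtain ⟨b, rfl⟩ := Ideal.Quotient.mk_surjective z
      rw [LinearMap.liftBaseChange_tmul, one_smul, hl, hcomap] at hz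
      obtain ⟨r, hr, c, hc, rfl⟩ := Submodule.mem_sup.1 hz
      rw [map_add, Ideal.Quotient.eq_zero_iff_mem.2 hr, zero_add]
      refine GrothLib.KoszulSqZero14.tmul_smul_top_eq_zero J ?_
      have hc' : c ∈ J • (⊤ : Submodule A B) := by
        rw [Ideal.smul_top_eq_map]; exact hc
      exact Submodule.mem_comap.1 (Submodule.smul_top_le_comap_smul_top J (Ideal.Quotient.mkₐ A _).toLinearMap hc')
    · obtain ⟨z, rfl⟩ := Ideal.Quotient.mk_surjective z
      obtain ⟨b, rfl⟩ := Ideal.Quotient.mk_surjective z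
      exact ⟨1 ⊗ₜ Ideal.Quotient.mk _ b, by rw [LinearMap.liftBaseChange_tmul, one_smul, hl]⟩
  haveI := hflat
  have hQ : Module.Flat (A ⧸ J) ((A ⧸ J) ⊗[A] (F 0 ⧸ LinearMap.range (d 0))) :=
    haveI := Module.Flat.of_linearEquiv (LinearEquiv.ofBijective L hLb)
    Module.Flat.of_linearEquiv (eA.symm.baseChange A (A ⧸ J))
  obtain ⟨hexA, hflA⟩ := GrothLib.KoszulSqZero14.exact_and_flat_of_sqZero J hJ F d hd hex hQ
  refine ⟨fun i hi => ?_, Module.Flat.of_linearEquiv eA⟩
  rw [← hid]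
  show IsZero (K.homology i)
  rw [← HomologicalComplex.exactAt_iff_isZero_homology]
  rcases lt_or_gt_of_ne hi with h | h
  · obtain ⟨n, rfl⟩ : ∃ n : ℕ, i = -((n + 1 : ℕ) : ℤ) := ⟨(-i - 1).toNat, by omega⟩
    rw [HomologicalComplex.exactAt_iff' _ (-((n + 1 + 1 : ℕ) : ℤ)) _ (-(n : ℤ))
      (by simp; omega) (by simp),
      ShortComplex.ShortExact.moduleCat_exact_iff_function_exact]
    exact hexA n
  · rw [HomologicalComplex.exactAt_iff]
    exact ShortComplex.exact_of_isZero_X₂ _ (GrothLib.KoszulColon.isZero_out γ rs i (Or.inl h))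

end Groth.Agent.S8368
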