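import Groth.Statements.S8369
import Mathlib.RingTheory.Flat.Equalizer
import Mathlib.LinearAlgebra.TensorProduct.Quotient

set_option autoImplicit false
universe u v
open SGA3

namespace Groth.Agent.S8369

/-- Let A be a commutative ring, J a nilpotent ideal, N ⊆ M A-modules with M/N flat over A. If elements
of N have images generating the image of N in M/JM, then they generate N. (The published statement
takes finitely many elements; this row allows an arbitrary set, which the same argument permits.) -/
theorem result (A : Type u) [CommRing A] (J : Ideal A) (hJ : IsNilpotent J)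
    (M : Type v) [AddCommGroup M] [Module A M] (N : Submodule A M) [Module.Flat A (M ⧸ N)] (s : Set M)
    (hs : s ⊆ N)
    (hgen : (Submodule.span A s).map (J • (⊤ : Submodule A M)).mkQ = N.map (J • (⊤ : Submodule A M)).mkQ) :
    Submodule.span A s = N := by
  set S := Submodule.span A s
  have hsN : S ≤ N := Submodule.span_le.mpr hs
  have hJN : ∀ y : N, (y : M) ∈ J • (⊤ : Submodule A M) → y ∈ J • (⊤ : Submodule A N) := by
    intro y hy
    have hinj : Function.Injective (N.subtype.lTensor (A ⧸ J)) :=
      LinearMap.lTensor_injective_of_exact_of_flat N.mkQ N.mkQ_surjective N.subtype N.subtype_injective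
        (LinearMap.exact_subtype_mkQ N) _
    have h1 : TensorProduct.quotTensorEquivQuotSMul N J
        (TensorProduct.tmul A (Ideal.Quotient.mk J 1) y) = 0 := by
      rw [LinearEquiv.map_eq_zero_iff]
      refine hinj ?_
      rw [map_zero, LinearMap.lTensor_tmul]
      refine (TensorProduct.quotTensorEquivQuotSMul M J).injective ?_
      rw [map_zero, TensorProduct.quotTensorEquivQuotSMul_mk_tmul, one_smul,
        Submodule.Quotient.mk_eq_zero]
      exact hy
    rwa [TensorProduct.quotTensorEquivQuotSMul_mk_tmul, one_smul, Submodule.Quotient.mk_eq_zero] at h1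
  have hstep : N ≤ S ⊔ J • N := by
    intro n hn
    have hmem : (J • (⊤ : Submodule A M)).mkQ n ∈ N.map (J • (⊤ : Submodule A M)).mkQ := ⟨n, hn, rfl⟩
    rw [← hgen] at hmem
    obtain ⟨z, hz, hzn⟩ := hmem
    rw [Submodule.mkQ_apply, Submodule.mkQ_apply, Submodule.Quotient.eq] at hzn
    have h1 : z - n ∈ N := N.sub_mem (hsN hz) hn
    have h2 := Submodule.mem_map_of_mem (f := N.subtype) (hJN ⟨z - n, h1⟩ hzn)
    rw [Submodule.map_smul'', Submodule.map_top, Submodule.range_subtype] at h2
    rw [show n = z + -(z - n) by abel]
    exact add_mem (Submodule.mem_sup_left hz) (neg_mem (Submodule.mem_sup_right h2))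
  have hpow : ∀ j : ℕ, N ≤ S ⊔ J ^ j • N := by
    intro j
    induction j with
    | zero => simp
    | succ j ih =>
      refine ih.trans (sup_le le_sup_left ?_)
      refine (Submodule.smul_mono le_rfl hstep).trans ?_
      rw [Submodule.smul_sup, ← Submodule.smul_assoc, smul_eq_mul, ← pow_succ]
      exact sup_le (Submodule.smul_le_right.trans le_sup_left) le_sup_right
  obtain ⟨j, hj⟩ := hJ
  refine le_antisymm hsN ((hpow j).trans ?_)
  rw [hj, Ideal.zero_eq_bot, Submodule.bot_smul, sup_bot_eq]

end Groth.Agent.S8369
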