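import Groth.Statements.S8370
import Groth.Agent.Lib.LiePts.Centralizer

set_option autoImplicit false
universe u
open CategoryTheory MonObj AlgebraicGeometry
open LieS

namespace Groth.Agent.S8370

/-- For a group scheme G over a scheme S (the group law of the Lie algebra functor of a group scheme is
commutative, which the published statement assumes), a sub-group-scheme K of G given by a
monomorphic homomorphism i, and an affine S-scheme T = Spec B: an element x of Lie(G/S)(T) belongs
to the Lie algebra of the centraliser of K, i.e. the point x of G with values in the dual numbers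
I_T commutes with every point of K with values in any scheme over I_T, if and only if x is fixed by
the adjoint action of every point of K with values in an affine scheme T' = Spec B' over T (acting
on the restriction of x to T'). -/
theorem result (S : Scheme.{u}) (G K : Over S) [GrpObj G] [GrpObj K] (i : K ⟶ G)
    [IsMonHom i] [Mono i] (B : Type u) [CommRing B] (f : Spec (CommRingCat.of B) ⟶ S) (x : LieS.Lie G B f) :
    (∀ (X' : Over S) (y : X' ⟶ LieS.dpt B f) (h : X' ⟶ K), (y ≫ x.1) * (h ≫ i) = (h ≫ i) * (y ≫ x.1)) ↔
    (∀ (B' : Type u) [CommRing B'] (h : B →+* B')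
      (k : LieS.pt B' (Spec.map (CommRingCat.ofHom h) ≫ f) ⟶ K),
      LieS.Ad G B' (Spec.map (CommRingCat.ofHom h) ≫ f) (k ≫ i) (LieS.pull G f h x) = LieS.pull G f h x) := by
  exact ⟨fun H B' _ h k => GrothLib.LiePts.fixed_of_commute i x H h k,
    fun H X' y h => GrothLib.LiePts.commute_of_fixed i x H X' y h⟩

end Groth.Agent.S8370
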