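import Groth.Statements.S8371
import Mathlib.CategoryTheory.Monoidal.Cartesian.Grp_

set_option autoImplicit false
universe u
open CategoryTheory MonObj AlgebraicGeometry
open LieS

namespace Groth.Agent.S8371

/-- The sequence of Lie algebras, with M = O_S: if 1 → G' → G → G'' → 1 is a sequence of homomorphisms
of group schemes over a scheme S which is exact on points with values in every S-scheme, then for
every affine S-scheme T = Spec B the derived morphisms give an exact sequence 1 → Lie(G'/S)(T) →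
Lie(G/S)(T) → Lie(G''/S)(T) → 1: the first is injective, the second surjective, and the kernel of
the second is the image of the first. -/
theorem result (S : Scheme.{u}) (G' G G'' : Over S) [GrpObj G'] [GrpObj G] [GrpObj G'']
    (i : G' ⟶ G) [IsMonHom i] (q : G ⟶ G'') [IsMonHom q]
    (hex : ∀ T : Over S, Function.Injective (fun a : T ⟶ G' => a ≫ i) ∧
      Function.Surjective (fun b : T ⟶ G => b ≫ q) ∧ ∀ b : T ⟶ G, b ≫ q = 1 ↔ ∃ a : T ⟶ G', a ≫ i = b)
    (B : Type u) [CommRing B] (f : Spec (CommRingCat.of B) ⟶ S) :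
    Function.Injective (LieS.map B f i) ∧ Function.Surjective (LieS.map B f q) ∧
      ∀ v : LieS.Lie G B f, LieS.map B f q v = 1 ↔ ∃ w : LieS.Lie G' B f, LieS.map B f i w = v := by
  refine ⟨fun v w h => Subtype.ext ((hex _).1 (congrArg Subtype.val h)), fun w => ?_, fun v => ⟨fun h => ?_, ?_⟩⟩
  · obtain ⟨b, hb : b ≫ q = w.1⟩ := (hex _).2.1 w.1
    let b0 : pt B f ⟶ G := zeroSec B f ≫ b
    have hb0 : b0 ≫ q = 1 := by
      show (zeroSec B f ≫ b) ≫ q = 1
      rw [Category.assoc, hb]
      exact w.2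
    let c : dpt B f ⟶ G := b * (proj B f ≫ b0)⁻¹
    have hc : c ∈ LieS.Lie G B f := by
      rw [mem_Lie_iff, ← res_apply, map_mul, map_inv, res_apply, res_apply, ← Category.assoc, zeroSec_proj,
        Category.id_comp]
      exact mul_inv_cancel b0
    refine ⟨⟨c, hc⟩, Subtype.ext ?_⟩
    show IsMonHom.monoidHom q (dpt B f) c = w.1
    rw [map_mul, map_inv]
    show (b ≫ q) * ((proj B f ≫ b0) ≫ q)⁻¹ = w.1
    rw [Category.assoc, hb0, hb,
      show proj B f ≫ (1 : pt B f ⟶ G'') = 1 from ((yonedaGrpObj G'').map (proj B f).op).hom.map_one,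
      inv_one, _root_.mul_one]
  · obtain ⟨a, ha⟩ := ((hex _).2.2 v.1).1 (congrArg Subtype.val h)
    have hi1 : (1 : pt B f ⟶ G') ≫ i = 1 := (IsMonHom.monoidHom i (pt B f)).map_one
    have ha0 : a ∈ LieS.Lie G' B f := by
      rw [mem_Lie_iff]
      refine (hex _).1 ?_
      show (zeroSec B f ≫ a) ≫ i = (1 : pt B f ⟶ G') ≫ i
      rw [Category.assoc, ha, hi1]
      exact v.2
    exact ⟨⟨a, ha0⟩, Subtype.ext ha⟩
  · rintro ⟨w, rfl⟩
    exact Subtype.ext (((hex _).2.2 _).2 ⟨w.1, rfl⟩)

end Groth.Agent.S8371
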