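import Groth.Statements.S8373
import Groth.Agent.Lib.CartanRel.Open

set_option autoImplicit false
universe u
open scoped TensorProduct
open SGA3t2b

namespace Groth.Agent.S8373

/-- Over an affine base Spec A: let L be a Lie algebra over A which is a finitely generated projective
A-module, H a Cartan subalgebra of L relative to A, a an element of H which is quasi-regular in L,
and u an automorphism of the Lie algebra L over A. Then u(H) = H if and only if u(a) ∈ H. -/
theorem result {A : Type u} [CommRing A] {L : Type u} [LieRing L]
    [LieAlgebra A L] [Module.Finite A L] [Module.Projective A L]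
    (H : LieSubalgebra A L) (hH : SGA3t2b.IsCartanRel H) (a : L) (haH : a ∈ H)
    (ha : SGA3t2b.IsQuasiRegular A L a) (u : L ≃ₗ⁅A⁆ L) :
    H.map u.toLieHom = H ↔ u a ∈ H := by
  refine ⟨fun h => h ▸ ⟨a, haH, rfl⟩, fun h => ?_⟩
  have e1 := GrothLib.CartanRel.eq_engel_rel hH ha haH
  have e2 := GrothLib.CartanRel.eq_engel_rel hH (GrothLib.CartanRel.isQuasiRegular_map u ha) h
  conv_lhs => rw [e1]
  rw [GrothLib.CartanRel.map_engel, ← e2]

end Groth.Agent.S8373
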