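import Groth.Statements.S8374
import Groth.Agent.Lib.CartanRel.Open

set_option autoImplicit false
universe u
open scoped TensorProduct
open SGA3t2b

namespace Groth.Agent.S8374

/-- Over an affine base Spec A: let L be a Lie algebra over A which is a finitely generated projective
A-module, H a Cartan subalgebra of L relative to A, and p a prime of A whose residue field is
infinite. Then there are f ∈ A with f ∉ p and an element a ∈ H such that a is a regular element of
every fibre κ(q) ⊗ L with f ∉ q, H is contained in the Engel subalgebra Nil(a, L), and every element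
of Nil(a, L) is carried into H by some power of f; that is, over the basic open set D(f) the section
a is regular and H coincides with Nil(a, L). (The published statement gives a regular section of H
over some open neighbourhood of p; this row takes a global element of H and a basic open
neighbourhood D(f), which is equivalent over an affine base because multiplying by a function
invertible on D(f) does not change regularity.) -/
theorem result {A : Type u} [CommRing A] {L : Type u} [LieRing L]
    [LieAlgebra A L] [Module.Finite A L] [Module.Projective A L]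
    (H : LieSubalgebra A L) (hH : SGA3t2b.IsCartanRel H) (p : PrimeSpectrum A)
    (hp : Infinite p.asIdeal.ResidueField) :
    ∃ f : A, f ∉ p.asIdeal ∧ ∃ a : L, a ∈ H ∧
      (∀ q : PrimeSpectrum A, f ∉ q.asIdeal →
        LieAlgebra.IsRegular q.asIdeal.ResidueField ((1 : q.asIdeal.ResidueField) ⊗ₜ[A] a)) ∧
      H ≤ LieSubalgebra.engel A a ∧
      ∀ y : L, y ∈ LieSubalgebra.engel A a → ∃ n : ℕ, f ^ n • y ∈ H := by
  haveI : Infinite p.asIdeal.ResidueField := hp
  haveI := GrothLib.CartanRel.isNilpotent_fib p H (hH.2 p).1
  obtain ⟨x, hxH, hx⟩ := GrothLib.CartanRel.exists_isRegular_mem (GrothLib.CartanRel.fib p H) (hH.2 p).2.1 (hH.2 p).2.2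
  obtain ⟨y, rfl⟩ := hxH
  obtain ⟨s, hs, ⟨m, hm⟩, hsm⟩ := GrothLib.CartanRel.exists_lift p (M := H) y
  have hreg : LieAlgebra.IsRegular p.asIdeal.ResidueField ((1 : p.asIdeal.ResidueField) ⊗ₜ[A] m) := by
    have h := GrothLib.CartanRel.isRegular_smul (c := algebraMap A p.asIdeal.ResidueField s)
      (fun h => hs (Ideal.algebraMap_residueField_eq_zero.1 h)) hx
    have e : algebraMap A p.asIdeal.ResidueField s • GrothLib.CartanRel.inclF p H y =
        (1 : p.asIdeal.ResidueField) ⊗ₜ[A] m :=
      ((GrothLib.CartanRel.inclF p H).toLinearMap.map_smul _ _).symm.trans ((congrArg (GrothLib.CartanRel.inclF p H) hsm).trans rfl)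
    exact e ▸ h
  obtain ⟨g, hg, hgr⟩ := GrothLib.CartanRel.exists_nhd_isRegular
    (GrothLib.CartanRel.exists_nhd_of_isOpen
      ((GrothLib.CartanRel.isLocallyConstant_rk_of_isCartanRel hH).isOpen_fiber (GrothLib.CartanRel.rk L p))
      (p := p) rfl) m hreg
  refine ⟨g, hg, m, hm, hgr, GrothLib.CartanRel.le_engel H hH hm, fun z hz => ?_⟩
  obtain ⟨n, hn⟩ := (LieSubalgebra.mem_engel_iff A m z).1 hz
  have key : ∀ (j : ℕ) (w : L), ((LieAlgebra.ad A L m) ^ j) w = 0 → ∃ i : ℕ, g ^ i • w ∈ H := fun j => by
    induction j with
    | zero => intro w hw; exact ⟨0, by rw [pow_zero, one_smul, show w = 0 from hw]; exact zero_mem _⟩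
    | succ j ih =>
      intro w hw
      rw [pow_succ, Module.End.mul_apply] at hw
      obtain ⟨i, hi⟩ := ih _ hw
      have h0 : GrothLib.CartanRel.fbar H m hm (H.toSubmodule.mkQ (g ^ i • w)) = 0 := by
        rw [GrothLib.CartanRel.fbar_mkQ, lie_smul, Submodule.mkQ_apply, Submodule.Quotient.mk_eq_zero]
        exact hi
      obtain ⟨l, hl⟩ := GrothLib.CartanRel.exists_pow_smul_eq_zero (g := g) fun P hP =>
        GrothLib.CartanRel.exists_smul_eq_zero _ P (GrothLib.CartanRel.surjective_fbar_fibre H m hm hH P (hgr P hP)) h0
      refine ⟨l + i, ?_⟩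
      rw [pow_add, mul_smul, ← LieSubalgebra.mem_toSubmodule, ← Submodule.Quotient.mk_eq_zero, ← Submodule.mkQ_apply, map_smul]
      exact hl
  exact key n z hn

end Groth.Agent.S8374
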