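import Groth.Statements.S8377
import Groth.Agent.Lib.CartanRel.Open
import Mathlib.RingTheory.Etale.Pi
import Mathlib.RingTheory.Flat.Basic
import Mathlib.RingTheory.Flat.Localization
import Mathlib.Algebra.DirectSum.Module
import Mathlib.RingTheory.Etale.Basic
import Mathlib.RingTheory.Flat.FaithfullyFlat.Algebra

set_option autoImplicit false
universe u
open scoped TensorProduct
open SGA3t2b

namespace Groth.Agent.S8377

/-- Let L be a Lie algebra over the commutative ring A which is a finitely generated projective
A-module. Suppose that the nilpotent rank of the fibres κ(p) ⊗ L is locally constant on Spec A, that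
for every A-algebra A' every quasi-regular element of A' ⊗ L is regular (condition (C₂)), and that
every fibre κ(p) ⊗ L has a regular element (automatic when every residue field of A is infinite).
Then L acquires a relative Cartan subalgebra after a faithfully flat etale base change A → A'
(condition (C′₁)). (The published implication (C₂) ⇒ (C′₁) is over an arbitrary base and has no
hypothesis on regular elements of the fibres; this row is over an affine base and assumes every
fibre has a regular element, the case in which the published argument, through the existence of a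
Cartan subalgebra Zariski-locally near each such point, is complete.) -/
theorem result {A : Type u} [CommRing A] {L : Type u} [LieRing L]
    [LieAlgebra A L] [Module.Finite A L] [Module.Projective A L]
    (hC2 : ((∀ p : PrimeSpectrum A, ∃ f : A, f ∉ p.asIdeal ∧ ∀ q : PrimeSpectrum A, f ∉ q.asIdeal →
        LieAlgebra.rank q.asIdeal.ResidueField (q.asIdeal.ResidueField ⊗[A] L) =
          LieAlgebra.rank p.asIdeal.ResidueField (p.asIdeal.ResidueField ⊗[A] L)) ∧
      ∀ (A' : Type u) [CommRing A'] [Algebra A A'] (a' : A' ⊗[A] L),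
        SGA3t2b.IsQuasiRegular A' (A' ⊗[A] L) a' → SGA3t2b.IsRegularRel A' (A' ⊗[A] L) a'))
    (hreg : ∀ p : PrimeSpectrum A, ∃ x : p.asIdeal.ResidueField ⊗[A] L, LieAlgebra.IsRegular p.asIdeal.ResidueField x) :
    ∃ (A' : Type u) (_ : CommRing A') (_ : Algebra A A'), Algebra.Etale A A' ∧ Module.FaithfullyFlat A A' ∧
        ∃ H : LieSubalgebra A' (A' ⊗[A] L), SGA3t2b.IsCartanRel H := by
  classical
  have hloc : ∀ p : PrimeSpectrum A, ∃ g : A, g ∉ p.asIdeal ∧ ∃ m : L, ∀ q : PrimeSpectrum A, g ∉ q.asIdeal →
      LieAlgebra.IsRegular q.asIdeal.ResidueField ((1 : q.asIdeal.ResidueField) ⊗ₜ[A] m) := fun p => by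
    obtain ⟨x, hx⟩ := hreg p
    obtain ⟨s, hs, m, hsm⟩ := GrothLib.CartanRel.exists_lift p x
    have hr := GrothLib.CartanRel.isRegular_smul (c := algebraMap A p.asIdeal.ResidueField s)
      (fun h => hs (Ideal.algebraMap_residueField_eq_zero.1 h)) hx
    rw [hsm] at hr
    obtain ⟨g, hg, hgr⟩ := GrothLib.CartanRel.exists_nhd_isRegular (hC2.1 p) m hr
    exact ⟨g, hg, m, hgr⟩
  choose g hg m hm using hloc
  obtain ⟨t, ht⟩ :=
    (CompactSpace.isCompact_univ (X := PrimeSpectrum A)).elim_finite_subcover
      (fun p => (PrimeSpectrum.basicOpen (g p) : Set (PrimeSpectrum A))) (fun p => PrimeSpectrum.isOpen_basicOpen)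
      (fun p _ => Set.mem_iUnion.2 ⟨p, hg p⟩)
  let B := ∀ i : t, Localization.Away (g i.1)
  have hcov : ∀ p : PrimeSpectrum A, ∃ i : t, g i.1 ∉ p.asIdeal := fun p => by
    obtain ⟨i, hi⟩ := Set.mem_iUnion.1 (ht (Set.mem_univ p))
    obtain ⟨hit, hp⟩ := Set.mem_iUnion.1 hi
    exact ⟨⟨i, hit⟩, hp⟩
  haveI : Algebra.Etale A B := inferInstance
  haveI : ∀ i : t, Module.Flat A (Localization.Away (g i.1)) := fun i =>
    IsLocalization.flat (Localization.Away (g i.1)) (Submonoid.powers (g i.1))
  haveI : Module.Flat A B :=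
    Module.Flat.of_linearEquiv (DirectSum.linearEquivFunOnFintype A t (fun i => Localization.Away (g i.1))).symm
  haveI : Module.FaithfullyFlat A B := by
    refine Module.FaithfullyFlat.of_comap_surjective fun p => ?_
    obtain ⟨i, hi⟩ := hcov p
    have hr : p ∈ Set.range (PrimeSpectrum.comap (algebraMap A (Localization.Away (g i.1)))) := by
      rw [PrimeSpectrum.localization_away_comap_range (Localization.Away (g i.1)) (g i.1)]
      exact hi
    obtain ⟨P, hP⟩ := hr
    exact ⟨PrimeSpectrum.comap (Pi.evalRingHom _ i) P, hP ▸ rfl⟩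
  let a' : B ⊗[A] L := ∑ i : t, (Pi.single i 1 : B) ⊗ₜ[A] m i.1
  obtain ⟨-, H, hH, -⟩ := hC2.2 B a' fun q => by
    obtain ⟨⟨i, P⟩, rfl⟩ := (PrimeSpectrum.sigmaToPi_bijective (R := fun i : t => Localization.Away (g i.1))).2 q
    set q := PrimeSpectrum.sigmaToPi (fun i : t => Localization.Away (g i.1)) ⟨i, P⟩
    have hz : ∀ b : B, b i = 0 → algebraMap B q.asIdeal.ResidueField b = 0 := fun b hb => by
      rw [Ideal.algebraMap_residueField_eq_zero]
      change b i ∈ P.asIdeal
      rw [hb]; exact zero_mem _
    have hsum : (1 : q.asIdeal.ResidueField) ⊗ₜ[B] a' = (1 : q.asIdeal.ResidueField) ⊗ₜ[B] ((1 : B) ⊗ₜ[A] m i.1) := by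
      have hc : ∀ (s : B) (x : L), (GrothLib.CartanRel.cancel (A := A) (L := L) B q.asIdeal.ResidueField).toLinearEquiv
          ((1 : q.asIdeal.ResidueField) ⊗ₜ[B] (s ⊗ₜ[A] x)) = algebraMap B q.asIdeal.ResidueField s ⊗ₜ[A] x := fun s x => by
        refine (GrothLib.CartanRel.cancel_tmul B q.asIdeal.ResidueField (1 : q.asIdeal.ResidueField) s x).trans ?_
        rw [Algebra.smul_def, mul_one]
      refine (GrothLib.CartanRel.cancel (A := A) (L := L) B q.asIdeal.ResidueField).toLinearEquiv.injective ?_
      simp only [a', TensorProduct.tmul_sum]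
      rw [map_sum, hc, map_one, Finset.sum_eq_single i]
      · rw [hc]
        congr 1
        rw [← sub_eq_zero, ← map_one (algebraMap B q.asIdeal.ResidueField), ← map_sub]
        refine hz _ ?_
        change Pi.single (M := fun i : t => Localization.Away (g i.1)) i 1 i - 1 = 0
        rw [Pi.single_eq_same, sub_self]
      · intro j _ hj
        rw [hc, hz _ (Pi.single_eq_of_ne (Ne.symm hj) 1), TensorProduct.zero_tmul]
      · intro h; exact absurd (Finset.mem_univ i) h
    rw [hsum]
    refine (GrothLib.CartanRel.isRegular_baseChange q (m i.1)).2 (hm i.1 _ fun h => ?_)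
    exact P.2.ne_top (Ideal.eq_top_of_isUnit_mem _ h (IsLocalization.Away.algebraMap_isUnit (g i.1)))
  exact ⟨B, inferInstance, inferInstance, inferInstance, inferInstance, H, hH⟩

end Groth.Agent.S8377
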