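import Groth.Statements.S8378
import Groth.Agent.Lib.CartanRel.Open
import Mathlib.RingTheory.Ideal.GoingDown
import Mathlib.RingTheory.Flat.FaithfullyFlat.Algebra

set_option autoImplicit false
universe u
open scoped TensorProduct
open SGA3t2b

namespace Groth.Agent.S8378

/-- Over an affine base Spec A: let L be a Lie algebra over A which is a finitely generated projective
A-module. If for some faithfully flat A-algebra A' the Lie algebra A' ⊗ L has a Cartan subalgebra
relative to A' (condition (C₁)), then the nilpotent rank of the fibres κ(p) ⊗ L is a locally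
constant function of p ∈ Spec A (condition (C₀)). -/
theorem result {A : Type u} [CommRing A] {L : Type u} [LieRing L]
    [LieAlgebra A L] [Module.Finite A L] [Module.Projective A L]
    (hC1 : ∃ (A' : Type u) (_ : CommRing A') (_ : Algebra A A'), Module.FaithfullyFlat A A' ∧
        ∃ H : LieSubalgebra A' (A' ⊗[A] L), SGA3t2b.IsCartanRel H) :
    ∀ p : PrimeSpectrum A, ∃ f : A, f ∉ p.asIdeal ∧ ∀ q : PrimeSpectrum A, f ∉ q.asIdeal →
        LieAlgebra.rank q.asIdeal.ResidueField (q.asIdeal.ResidueField ⊗[A] L) =
          LieAlgebra.rank p.asIdeal.ResidueField (p.asIdeal.ResidueField ⊗[A] L) := by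
  obtain ⟨A', _, _, _, H, hH⟩ := hC1
  have hlc : IsLocallyConstant (GrothLib.CartanRel.rk (A := A) L) := fun S => by
    have hq := PrimeSpectrum.isQuotientMap_of_generalizingMap (f := algebraMap A A')
      PrimeSpectrum.comap_surjective_of_faithfullyFlat (Algebra.HasGoingDown.iff_generalizingMap_primeSpectrumComap.mp inferInstance)
    rw [← hq.isOpen_preimage]
    have h := GrothLib.CartanRel.isLocallyConstant_rk_of_isCartanRel hH S
    have e : (GrothLib.CartanRel.rk (A := A) L) ∘ PrimeSpectrum.comap (algebraMap A A') =
        GrothLib.CartanRel.rk (A' ⊗[A] L) := funext fun q => (GrothLib.CartanRel.rk_baseChange q).symm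
    rw [← Set.preimage_comp, e]
    exact h
  intro p
  exact GrothLib.CartanRel.exists_nhd_of_isOpen (hlc.isOpen_fiber (GrothLib.CartanRel.rk L p)) rfl

end Groth.Agent.S8378
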