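import Groth.Statements.S8383
import Mathlib.Combinatorics.Nullstellensatz
import Mathlib.FieldTheory.Finite.Basic
import Mathlib.RingTheory.MvPolynomial.Homogeneous
import Mathlib.Algebra.MvPolynomial.NoZeroDivisors
import Mathlib.LinearAlgebra.Dual.Basis
import Mathlib.RingTheory.TensorProduct.Free

set_option autoImplicit false
universe u
open scoped TensorProduct
open SGA3t2b

namespace Groth.Agent.S8383

/-- Let k be a finite field with algebraic closure K, V a finite-dimensional vector space over k, and
θ₁, …, θₙ a basis of the dual of the K-vector space K ⊗ V. Then there is x ∈ V with θᵢ(1 ⊗ x) ≠ 0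
for every i. -/
theorem result (k : Type u) [Field k] [Finite k]
    (V : Type u) [AddCommGroup V] [Module k V] [Module.Finite k V] {ι : Type} [Fintype ι]
    (θ : Module.Basis ι (AlgebraicClosure k) (Module.Dual (AlgebraicClosure k) (AlgebraicClosure k ⊗[k] V))) :
    ∃ x : V, ∀ i : ι, θ i ((1 : AlgebraicClosure k) ⊗ₜ[k] x) ≠ 0 := by
  classical
  let _ : Fintype k := Fintype.ofFinite k
  by_contra hcon
  push Not at hcon
  let K := AlgebraicClosure k
  let q := Fintype.card k
  have hq : 1 < q := Fintype.one_lt_card
  let b := Module.finBasis k V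
  let bK := b.baseChange K
  let J := Fin (Module.finrank k V)
  have hcard : Fintype.card ι = Fintype.card J := by
    rw [← Module.finrank_eq_card_basis θ, ← Module.finrank_eq_card_basis bK.dualBasis]
  let M : ι → J → K := fun i j => θ i ((1 : K) ⊗ₜ[k] b j)
  let c : J → ι → K := fun j l => θ.repr (bK.coord j) l
  let L : ι → MvPolynomial J K := fun i => ∑ j, MvPolynomial.C (M i j) * MvPolynomial.X j
  let ψX : J → MvPolynomial ι K := fun j => ∑ l, MvPolynomial.C (c j l) * MvPolynomial.X l
  let ψ : MvPolynomial J K →ₐ[K] MvPolynomial ι K := MvPolynomial.aeval ψX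
  have hθ : ∀ i, θ i = ∑ j, M i j • bK.coord j := by
    intro i
    refine bK.ext fun m => ?_
    simp [M, bK, Module.Basis.coord_apply, Finsupp.single_apply]
    rw [Finset.sum_eq_single m (fun x _ hx => by simp [Ne.symm hx]) (by simp)]
    simp
  have hψL : ∀ i, ψ (L i) = MvPolynomial.X i := by
    intro i
    have h : ∀ l, ∑ j, M i j * c j l = if i = l then 1 else 0 := by
      intro l
      have h1 : θ.repr (θ i) l = θ.repr (∑ j, M i j • bK.coord j) l := by rw [← hθ i]
      simpa [c, Finsupp.single_apply] using h1.symm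
    have hψL' : ψ (L i) = ∑ j, MvPolynomial.C (M i j) * ψX j := by
      simp only [L, map_sum]
      refine Finset.sum_congr rfl fun j _ => ?_
      simp [ψ]
    rw [hψL']
    simp only [ψX, Finset.mul_sum, ← mul_assoc, ← map_mul]
    rw [Finset.sum_comm]
    simp only [← Finset.sum_mul, ← map_sum, h]
    simp [ite_mul]
  let P : MvPolynomial J K := ∏ i, L i
  let S : J → Finset K := fun _ => Finset.univ.image (algebraMap k K)
  have hP : ∀ x : J → K, (∀ j, x j ∈ S j) → MvPolynomial.eval x P = 0 := by
    intro x hx
    have hx' : ∀ j, ∃ a : k, algebraMap k K a = x j := fun j => by simpa [S] using hx j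
    choose a ha using hx'
    obtain ⟨i, hi⟩ := hcon (∑ j, a j • b j)
    simp only [P, map_prod]
    refine Finset.prod_eq_zero (Finset.mem_univ i) ?_
    rw [← hi]
    simp only [L, map_sum, map_mul, MvPolynomial.eval_C, MvPolynomial.eval_X, TensorProduct.tmul_sum, map_sum, M]
    refine Finset.sum_congr rfl fun j _ => ?_
    rw [← ha j, TensorProduct.tmul_smul, ← algebraMap_smul K (a j) ((1 : K) ⊗ₜ[k] b j), map_smul, smul_eq_mul,
      mul_comm]
  obtain ⟨h, hdeg, hlin⟩ := MvPolynomial.combinatorial_nullstellensatz_exists_linearCombination S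
    (fun i => ⟨0, by simp [S]⟩) P hP
  have hQ : ∀ j : J, (∏ s ∈ S j, (MvPolynomial.X j - MvPolynomial.C s) : MvPolynomial J K) =
      MvPolynomial.X j ^ q - MvPolynomial.X j := by
    intro j
    have h0 : (∏ a : k, (Polynomial.X - Polynomial.C a)) = Polynomial.X ^ q - Polynomial.X := by
      have hm : (Polynomial.X ^ q - Polynomial.X : Polynomial k).Monic :=
        Polynomial.monic_X_pow_sub (by simpa using hq)
      have h1 := Polynomial.prod_multiset_X_sub_C_of_monic_of_roots_card_eq hm (by
        rw [FiniteField.roots_X_pow_card_sub_X, FiniteField.X_pow_card_sub_X_natDegree_eq _ hq]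
        rfl)
      rw [FiniteField.roots_X_pow_card_sub_X] at h1
      exact h1
    have h1 := congrArg (Polynomial.aeval (MvPolynomial.X j : MvPolynomial J K)) h0
    simp only [map_prod, map_sub, map_pow, Polynomial.aeval_X, Polynomial.aeval_C] at h1
    rw [← h1, Finset.prod_image ((algebraMap k K).injective.injOn)]
    refine Finset.prod_congr rfl fun a _ => ?_
    rw [IsScalarTower.algebraMap_apply k K (MvPolynomial J K), MvPolynomial.algebraMap_eq]
  have hψX : ∀ j, (ψX j).IsHomogeneous 1 := fun j =>
    MvPolynomial.IsHomogeneous.sum _ _ _ fun l _ => (MvPolynomial.isHomogeneous_X K l).C_mul _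
  let t : ι →₀ ℕ := Finsupp.equivFunOnFinite.symm fun _ => 1
  have ht : t.degree = Fintype.card ι := by
    simp [t, Finsupp.degree, Finsupp.sum, Finset.filter_true_of_mem]
  have hone : MvPolynomial.coeff t (∏ i : ι, (MvPolynomial.X i : MvPolynomial ι K)) = 1 := by
    have : (∏ i : ι, (MvPolynomial.X i : MvPolynomial ι K)) = MvPolynomial.monomial t 1 := by
      rw [MvPolynomial.monomial_eq, map_one, one_mul, Finsupp.prod_fintype _ _ (by simp)]
      simp [t]
    simp [this]
  have hPdeg : P.totalDegree ≤ Fintype.card ι := by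
    refine (MvPolynomial.totalDegree_finsetProd _ _).trans ((Finset.sum_le_card_nsmul _ _ 1 fun i _ => ?_).trans (by simp))
    exact ((MvPolynomial.IsHomogeneous.sum _ _ _ fun j _ => (MvPolynomial.isHomogeneous_X K j).C_mul (M i j)) :
      (L i).IsHomogeneous 1).totalDegree_le
  have hterm : ∀ j, MvPolynomial.coeff t (ψ (h j * (MvPolynomial.X j ^ q - MvPolynomial.X j))) = 0 := by
    intro j
    by_cases hj : h j = 0
    · simp [hj]
    have hd := hdeg j
    rw [hQ, mul_comm] at hd
    have hne : (MvPolynomial.X j ^ q - MvPolynomial.X j : MvPolynomial J K) ≠ 0 := fun h0 => by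
      have := congrArg (MvPolynomial.coeff (Finsupp.single j q)) h0
      simp [MvPolynomial.coeff_X_pow, MvPolynomial.coeff_X', Finsupp.single_eq_single_iff, hq.ne] at this
    rw [MvPolynomial.totalDegree_mul_of_isDomain hj hne] at hd
    have hqd : q ≤ (MvPolynomial.X j ^ q - MvPolynomial.X j : MvPolynomial J K).totalDegree := by
      have := MvPolynomial.le_totalDegree (p := (MvPolynomial.X j ^ q - MvPolynomial.X j : MvPolynomial J K))
        (s := Finsupp.single j q) (by
          simp [MvPolynomial.mem_support_iff, MvPolynomial.coeff_X_pow, MvPolynomial.coeff_X',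
            Finsupp.single_eq_single_iff, hq.ne])
      simpa using this
    rw [mul_sub, map_sub, MvPolynomial.coeff_sub]
    have h1 : MvPolynomial.coeff t (ψ (h j * MvPolynomial.X j)) = 0 := by
      rw [← MvPolynomial.sum_homogeneousComponent (h j), Finset.sum_mul, map_sum, MvPolynomial.coeff_sum]
      refine Finset.sum_eq_zero fun d hdm => ?_
      have hh : (ψ (MvPolynomial.homogeneousComponent d (h j) * MvPolynomial.X j)).IsHomogeneous (1 * (d + 1)) :=
        ((MvPolynomial.homogeneousComponent_isHomogeneous d (h j)).mul (MvPolynomial.isHomogeneous_X K j)).aeval ψX hψX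
      refine hh.coeff_eq_zero ?_
      have := Finset.mem_range.1 hdm
      omega
    have h2 : MvPolynomial.coeff t (ψ (h j * MvPolynomial.X j ^ q)) = 0 := by
      obtain ⟨p, hpp, f, hcard'⟩ : ∃ p, CharP k p ∧ ∃ f : ℕ+, p.Prime ∧ q = p ^ (f : ℕ) := by
        obtain ⟨p, hp⟩ := CharP.exists k
        exact ⟨p, hp, FiniteField.card k p⟩
      have : CharP K p := charP_of_injective_ringHom (algebraMap k K).injective p
      have : Fact p.Prime := ⟨hcard'.1⟩
      have hpow : ψX j ^ q = ∑ l, MvPolynomial.C (c j l ^ q) * MvPolynomial.X l ^ q := by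
        simp only [ψX, hcard'.2, sum_pow_char_pow, mul_pow, map_pow]
      rw [map_mul, map_pow, show ψ (MvPolynomial.X j) = ψX j from MvPolynomial.aeval_X _ _, hpow, Finset.mul_sum,
        MvPolynomial.coeff_sum]
      refine Finset.sum_eq_zero fun l _ => ?_
      rw [← MvPolynomial.monomial_zero', MvPolynomial.X_pow_eq_monomial, MvPolynomial.monomial_mul,
        MvPolynomial.coeff_mul_monomial', if_neg]
      intro hle
      have := hle l
      simp [t] at this
      omega
    rw [h1, h2, sub_zero]
  have key := congrArg (MvPolynomial.coeff t) (congrArg ψ hlin)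
  rw [map_prod, Finsupp.linearCombination_apply, Finsupp.sum, map_sum, MvPolynomial.coeff_sum,
    Finset.sum_eq_zero fun j _ => by rw [smul_eq_mul, hQ]; exact hterm j] at key
  simp only [hψL] at key
  exact one_ne_zero (hone.symm.trans key)


end Groth.Agent.S8383
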