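import Groth.Statements.S8384
import Groth.Agent.Lib.LocalPts.Complete

set_option autoImplicit false
universe u
open CategoryTheory MonoidalCategory CartesianMonoidalCategory MonObj GrpObj AlgebraicGeometry
open SGA3x

namespace Groth.Agent.S8384

/-- Let A be a local ring, separated and complete for the topology defined by its maximal ideal m, S =
Spec A and Sₙ = Spec(A/mⁿ). Then for every scheme X the canonical map Hom(S, X) → lim Hom(Sₙ, X) is
bijective: two morphisms S → X that agree on every Sₙ are equal, and every family of morphisms Sₙ →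
X compatible with the closed immersions Sₙ → Sₙ₊₁ is induced by a morphism S → X. -/
theorem result (A : Type u) [CommRing A] [IsLocalRing A]
    [IsAdicComplete (IsLocalRing.maximalIdeal A) A] (X : Scheme.{u}) :
    (∀ f g : (Spec (CommRingCat.of A)) ⟶ X,
      (∀ n : ℕ, (Spec.map (CommRingCat.ofHom (Ideal.Quotient.mk ((IsLocalRing.maximalIdeal A) ^ n)))) ≫ f = (Spec.map (CommRingCat.ofHom (Ideal.Quotient.mk ((IsLocalRing.maximalIdeal A) ^ n)))) ≫ g) → f = g) ∧
    (∀ u : (n : ℕ) → (Spec (CommRingCat.of (A ⧸ (IsLocalRing.maximalIdeal A) ^ n)) ⟶ X),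
      (∀ n : ℕ, (Spec.map (CommRingCat.ofHom (Ideal.Quotient.factor
          (Ideal.pow_le_pow_right (I := (IsLocalRing.maximalIdeal A)) (Nat.le_succ n))))) ≫ u (n + 1) = u n) →
      ∃ f : (Spec (CommRingCat.of A)) ⟶ X, ∀ n : ℕ, (Spec.map (CommRingCat.ofHom (Ideal.Quotient.mk ((IsLocalRing.maximalIdeal A) ^ n)))) ≫ f = u n) := by
  exact ⟨GrothLib.LocalPts.hom_ext_of_forall_quot, GrothLib.LocalPts.exists_hom_of_compatible⟩

end Groth.Agent.S8384
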