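import Groth.Statements.S8386
import Groth.Agent.Lib.MultHopf14.Lift
import Groth.Agent.Lib.CentralTor14.Hom
import Groth.Agent.Lib.Deform6.Main

set_option autoImplicit false
universe u
open CategoryTheory MonoidalCategory CartesianMonoidalCategory MonObj GrpObj AlgebraicGeometry
open SGA3x

namespace Groth.Agent.S8386

/-- Over an affine base: let A be a ring, J an ideal of A all of whose elements are nilpotent, S = Spec
A, S₀ = Spec(A/J), G an S-group scheme flat and of finite presentation over S, and H₀ a subgroup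
scheme of G₀ = G ×_S S₀ which is smooth and finite over S₀, of multiplicative type and central in
G₀. Then there is a subgroup scheme H of G of multiplicative type with H ×_S S₀ = H₀ as subgroups of
G₀; it is unique (any two such are isomorphic over G); and H is central in G. -/
theorem result (A : Type u) [CommRing A] (J : Ideal A)
    (hJ : ∀ x ∈ J, IsNilpotent x) (G : Over (Spec (CommRingCat.of A))) [GrpObj G] [Flat G.hom] [QuasiCompact G.hom]
    [QuasiSeparated G.hom] [LocallyOfFinitePresentation G.hom]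
    (H₀ : Over (Spec (CommRingCat.of (A ⧸ J)))) [GrpObj H₀] (j₀ : H₀ ⟶ Red.bc (Spec.map (CommRingCat.ofHom (Ideal.Quotient.mk J))) G) [IsMonHom j₀] [Mono j₀]
    [Smooth H₀.hom] [IsFinite H₀.hom] (hm₀ : SGA3x.IsMultTypeFT H₀)
    (hc₀ : (∀ (X : Over _) (x : X ⟶ _) (g : X ⟶ Red.bc (Spec.map (CommRingCat.ofHom (Ideal.Quotient.mk J))) G), (x ≫ j₀) * g = g * (x ≫ j₀))) :
    (∃ (H : Over (Spec (CommRingCat.of A))) (_ : GrpObj H) (j : H ⟶ G), IsMonHom j ∧ Mono j ∧ SGA3x.IsMultTypeFT H ∧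
      (∃ e : Red.bc (Spec.map (CommRingCat.ofHom (Ideal.Quotient.mk J))) H ≅ H₀, e.hom ≫ j₀ = (Over.pullback (Spec.map (CommRingCat.ofHom (Ideal.Quotient.mk J)))).map j) ∧
      (∀ (X : Over _) (x : X ⟶ _) (g : X ⟶ G), (x ≫ j) * g = g * (x ≫ j)) ∧
      ∀ (H' : Over (Spec (CommRingCat.of A))) [GrpObj H'] (j' : H' ⟶ G) [IsMonHom j'] [Mono j'], SGA3x.IsMultTypeFT H' →
        (∃ e' : Red.bc (Spec.map (CommRingCat.ofHom (Ideal.Quotient.mk J))) H' ≅ H₀, e'.hom ≫ j₀ = (Over.pullback (Spec.map (CommRingCat.ofHom (Ideal.Quotient.mk J)))).map j') →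
        ∃ φ : H' ≅ H, φ.hom ≫ j = j') := by
  classical
  let q : Spec (CommRingCat.of (A ⧸ J)) ⟶ Spec (CommRingCat.of A) :=
    Spec.map (CommRingCat.ofHom (Ideal.Quotient.mk J))
  haveI : IsClosedImmersion q := IsClosedImmersion.spec_of_surjective _ Ideal.Quotient.mk_surjective
  haveI : Surjective q := GrothLib.MultHopf14.surjective_specQuot hJ
  obtain ⟨H, iH, hH, ⟨Φ⟩⟩ := GrothLib.MultHopf14.exists_lift_grp J hJ H₀
    (GrothLib.DiagGrp.hasChartsFpqc_of_isMultTypeFT hm₀)
  let φ : Red.bc q H ≅ H₀ := (Grp.forget _).mapIso Φ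
  haveI : IsMonHom φ.hom := Φ.hom.hom.isMonHom_hom
  have hfs : ∀ {K : Over (Spec (CommRingCat.of (A ⧸ J)))} (e : K ≅ H₀), IsFinite K.hom ∧ Smooth K.hom := fun e => by
    haveI : IsIso e.hom.left := inferInstanceAs (IsIso ((Over.forget _).mapIso e).hom)
    rw [← Over.w e.hom]
    exact ⟨(MorphismProperty.cancel_left_of_respectsIso @IsFinite _ _).mpr inferInstance,
      (MorphismProperty.cancel_left_of_respectsIso @Smooth _ _).mpr inferInstance⟩
  obtain ⟨hfinH, hsmH⟩ := GrothLib.MultHopf14.finite_smooth_of_lift q hH (hfs φ).1 (hfs φ).2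
  haveI := hfinH
  haveI := hsmH
  have hcent : ∀ {K : Over (Spec (CommRingCat.of (A ⧸ J)))} (e : K ⟶ H₀),
      GrothLib.CentralTor14.IsCentralPt (Red.bc q G) (e ≫ j₀) := fun {K} e X x g => by
    rw [← Category.assoc]
    exact hc₀ X (x ≫ e) g
  obtain ⟨u, hu, hmap, hcu, huniq⟩ :=
    GrothLib.CentralTor14.exists_central_lift q (G := G) (φ.hom ≫ j₀) hH (hcent φ.hom)
  haveI := hu
  have hmono : Mono u := by
    haveI : Mono j₀.left := inferInstance
    haveI : IsIso φ.hom.left := inferInstanceAs (IsIso ((Over.forget _).mapIso φ).hom)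
    haveI : Mono ((Over.pullback q).map u).left := by
      rw [hmap, Over.comp_left]
      infer_instance
    haveI : IsClosedImmersion (Limits.pullback.fst G.hom q) := MorphismProperty.pullback_fst _ _ ‹_›
    haveI : Surjective (Limits.pullback.fst G.hom q) := MorphismProperty.pullback_fst _ _ ‹_›
    haveI : LocallyOfFiniteType u.left := by
      have : LocallyOfFiniteType (u.left ≫ G.hom) := by rw [Over.w u]; infer_instance
      exact locallyOfFiniteType_of_comp u.left G.hom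
    haveI : Mono u.left := GrothLib.Deform6.mono_of_lft (f := ((Over.pullback q).map u).left)
      (iY := Limits.pullback.fst G.hom q) (iX := Limits.pullback.fst H.hom q)
      (GrothLib.FibreLocus.isPullback_map_left u q).flip
    exact (Over.forget _).mono_of_mono_map (inferInstanceAs (Mono u.left))
  refine ⟨H, iH, u, hu, hmono, hH, ⟨φ, hmap.symm⟩, hcu, ?_⟩
  intro H' _ j' _ _ hH' he'
  obtain ⟨e', he'⟩ := he'
  have hch' := GrothLib.DiagGrp.hasChartsFpqc_of_isMultTypeFT hH'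
  obtain ⟨hfin', hsm'⟩ := GrothLib.MultHopf14.finite_smooth_of_lift q hch' (hfs e').1 (hfs e').2
  haveI := hfin'
  haveI := hsm'
  haveI : IsMonHom e'.hom := by
    refine GrothLib.GrpSchField.isMonHom_of_mul _ ?_
    rw [← cancel_mono j₀, Category.assoc, Category.assoc, he', IsMonHom.mul_hom, IsMonHom.mul_hom (f := j₀),
      MonoidalCategory.tensorHom_comp_tensorHom_assoc, he']
  haveI : IsMonHom φ.inv := Φ.inv.hom.isMonHom_hom
  haveI : IsMonHom e'.inv := inferInstance
  haveI : Flat H.hom := GrothLib.DiagGrp.flat_of_charts hH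
  haveI : LocallyOfFinitePresentation H.hom := GrothLib.DiagGrp.lfp_of_isMultTypeFT hH
  haveI : Flat H'.hom := GrothLib.DiagGrp.flat_of_charts hch'
  haveI : LocallyOfFinitePresentation H'.hom := GrothLib.DiagGrp.lfp_of_isMultTypeFT hH'
  have hcomm : ∀ {K : Over (Spec (CommRingCat.of A))} [GrpObj K], GrothLib.DiagGrp.HasChartsFpqc GrothLib.DiagGrp.fgM K →
      ∀ {W : Over (Spec (CommRingCat.of (A ⧸ J)))} (w : W ⟶ Red.bc q K),
        GrothLib.CentralTor14.IsCentralPt (Red.bc q K) w := fun {K} _ hK {W} w X x g =>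
    GrothLib.DiagGrp.mul_comm_of_charts (hK.baseChange q) X (x ≫ w) g
  obtain ⟨ψ, hψ, hψm, -, -⟩ :=
    GrothLib.CentralTor14.exists_central_lift q (G := H) (e'.hom ≫ φ.inv) hch' (hcomm hH _)
  obtain ⟨ψ', hψ', hψ'm, -, -⟩ :=
    GrothLib.CentralTor14.exists_central_lift q (G := H') (φ.hom ≫ e'.inv) hH (hcomm hch' _)
  obtain ⟨a, -, -, -, ha⟩ :=
    GrothLib.CentralTor14.exists_central_lift q (G := H) (𝟙 (Red.bc q H)) hH (hcomm hH _)
  obtain ⟨b, -, -, -, hb⟩ :=
    GrothLib.CentralTor14.exists_central_lift q (G := H') (𝟙 (Red.bc q H')) hch' (hcomm hch' _)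
  obtain ⟨c, -, -, -, hc⟩ :=
    GrothLib.CentralTor14.exists_central_lift q (G := G) (e'.hom ≫ j₀) hch' (hcent e'.hom)
  haveI := hψ
  haveI := hψ'
  have h1 : ψ ≫ ψ' = 𝟙 H' := by
    rw [hb (ψ ≫ ψ') inferInstance (by rw [Functor.map_comp, hψm, hψ'm, Category.assoc, Iso.inv_hom_id_assoc, Iso.hom_inv_id]),
      hb (𝟙 H') inferInstance ((Over.pullback q).map_id H')]
  have h2 : ψ' ≫ ψ = 𝟙 H := by
    rw [ha (ψ' ≫ ψ) inferInstance (by rw [Functor.map_comp, hψm, hψ'm, Category.assoc, Iso.inv_hom_id_assoc, Iso.hom_inv_id]),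
      ha (𝟙 H) inferInstance ((Over.pullback q).map_id H)]
  refine ⟨⟨ψ, ψ', h1, h2⟩, ?_⟩
  rw [hc (ψ ≫ u) inferInstance (by rw [Functor.map_comp, hψm, hmap, Category.assoc, Iso.inv_hom_id_assoc]),
    hc j' inferInstance he'.symm]

end Groth.Agent.S8386
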