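import Groth.Statements.S8389
import Groth.Agent.Lib.CentralTor14.Complete

set_option autoImplicit false
universe u
open CategoryTheory MonoidalCategory CartesianMonoidalCategory MonObj GrpObj AlgebraicGeometry
open SGA3x

namespace Groth.Agent.S8389

/-- Let A be a complete Noetherian local ring with residue field k, S = Spec A, S₀ = Spec k the closed
point, M an S-group scheme of multiplicative type which is smooth and finite over S, G an S-group
scheme flat and of finite type over S, and u₀ : M₀ → G₀ a central homomorphism between the closed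
fibres. Then u₀ is the restriction of exactly one homomorphism u : M → G; and u is central when the
fibres of G are connected. -/
theorem result (A : Type u) [CommRing A]
    [IsLocalRing A] [IsNoetherianRing A] [IsAdicComplete (IsLocalRing.maximalIdeal A) A]
    (M : Over (Spec (CommRingCat.of A))) [GrpObj M] [IsFinite M.hom] [Smooth M.hom] (hM : SGA3x.IsMultTypeFT M)
    (G : Over (Spec (CommRingCat.of A))) [GrpObj G] [Flat G.hom] [QuasiCompact G.hom] [LocallyOfFiniteType G.hom]
    (u₀ : Red.bc (Spec.map (CommRingCat.ofHom (Ideal.Quotient.mk (IsLocalRing.maximalIdeal A)))) M ⟶ Red.bc (Spec.map (CommRingCat.ofHom (Ideal.Quotient.mk (IsLocalRing.maximalIdeal A)))) G) [IsMonHom u₀]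
    (hc₀ : ∀ (X : Over _) (x : X ⟶ Red.bc (Spec.map (CommRingCat.ofHom (Ideal.Quotient.mk (IsLocalRing.maximalIdeal A)))) M) (g : X ⟶ Red.bc (Spec.map (CommRingCat.ofHom (Ideal.Quotient.mk (IsLocalRing.maximalIdeal A)))) G), (x ≫ u₀) * g = g * (x ≫ u₀)) :
    (∃ u : M ⟶ G, IsMonHom u ∧ (Over.pullback (Spec.map (CommRingCat.ofHom (Ideal.Quotient.mk (IsLocalRing.maximalIdeal A))))).map u = u₀ ∧
      ∀ u' : M ⟶ G, IsMonHom u' → (Over.pullback (Spec.map (CommRingCat.ofHom (Ideal.Quotient.mk (IsLocalRing.maximalIdeal A))))).map u' = u₀ → u' = u) ∧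
    ((∀ s : (Spec (CommRingCat.of A)), _root_.IsConnected (G.hom.base ⁻¹' {s})) →
      ∀ u : M ⟶ G, IsMonHom u → (Over.pullback (Spec.map (CommRingCat.ofHom (Ideal.Quotient.mk (IsLocalRing.maximalIdeal A))))).map u = u₀ →
        ∀ (X : Over (Spec (CommRingCat.of A))) (x : X ⟶ M) (g : X ⟶ G), (x ≫ u) * g = g * (x ≫ u)) := by
  haveI : LocallyOfFinitePresentation G.hom := inferInstance
  have hH := GrothLib.DiagGrp.hasChartsFpqc_of_isMultTypeFT hM
  obtain ⟨u, h1, h2, h3⟩ := GrothLib.CentralTor14.exists_central_lift_complete hH u₀ hc₀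
  refine ⟨⟨u, h1, h2, h3⟩, fun hconn v hv hvm => ?_⟩
  haveI := hv
  exact GrothLib.CentralTor14.isCentralPt_lift_complete hconn hH v (by rw [hvm]; exact hc₀)

end Groth.Agent.S8389
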