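import Groth.Statements.S8392
import Groth.Agent.Lib.DiagGrp.BaseChange
import Groth.Agent.Lib.DiagGrp.TrivOver
import Groth.Agent.Lib.RedPts.Ga

set_option autoImplicit false
universe u
open CategoryTheory MonoidalCategory CartesianMonoidalCategory MonObj GrpObj AlgebraicGeometry
open SGA3x

namespace Groth.Agent.S8392

open CategoryTheory.Limits GrothLib.DiagGrp GrothLib.RedPts

/-- The function attached to an affine point of the additive group. -/
noncomputable def val {S : Scheme.{u}} {C : Type u} [CommRing C] {k : Spec (CommRingCat.of C) ⟶ S}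
    (x : Over.mk k ⟶ Red.Ga S) : C :=
  (Scheme.ΓSpecIso (CommRingCat.of C)).hom (Red.gaFn x)

theorem val_mul {S : Scheme.{u}} {C : Type u} [CommRing C] {k : Spec (CommRingCat.of C) ⟶ S}
    (x y : Over.mk k ⟶ Red.Ga S) : val (x * y) = val x + val y := by
  rw [val, gaFn_mul]
  exact map_add (Scheme.ΓSpecIso (CommRingCat.of C)).hom.hom (Red.gaFn x) (Red.gaFn y)

theorem val_comp {S : Scheme.{u}} {C C' : Type u} [CommRing C] [CommRing C'] {k : Spec (CommRingCat.of C) ⟶ S}
    {k' : Spec (CommRingCat.of C') ⟶ S} (h : C →+* C') (j : Over.mk k' ⟶ Over.mk k)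
    (hj : j.left = Spec.map (CommRingCat.ofHom h)) (x : Over.mk k ⟶ Red.Ga S) :
    val (j ≫ x) = h (val x) := by
  rw [val, val, gaFn_comp, hj]
  exact congrArg (fun f => (ConcreteCategory.hom f) (Red.gaFn x)) (Scheme.ΓSpecIso_naturality (CommRingCat.ofHom h))

/-- An additive element of a group algebra is zero. -/
theorem additive_eq_zero {C : Type u} [CommRing C] {G : Type} [CommGroup G] (a : MonoidAlgebra C G)
    (h : MonoidAlgebra.mapDomainRingHom C ((MonoidHom.id G).prod (MonoidHom.id G)) a =
      MonoidAlgebra.mapDomainRingHom C (MonoidHom.inl G G) a + MonoidAlgebra.mapDomainRingHom C (MonoidHom.inr G G) a) :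
    a = 0 := by
  classical
  apply MonoidAlgebra.coeff_injective
  refine Finsupp.ext fun g => ?_
  have h1 := congrArg (fun z : MonoidAlgebra C (G × G) => z.coeff (g, g)) h
  simp only [MonoidAlgebra.mapDomainRingHom_apply, MonoidAlgebra.coeff_add, Finsupp.add_apply,
    MonoidAlgebra.coeff_mapDomain] at h1
  have e0 : (Finsupp.mapDomain ((MonoidHom.id G).prod (MonoidHom.id G)) a.coeff) (g, g) = a.coeff g :=
    Finsupp.mapDomain_apply (f := fun x : G => (x, x)) (fun x y hxy => congrArg Prod.fst hxy) a.coeff g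
  rw [e0] at h1
  by_cases hg : g = 1
  · subst hg
    have e1 : (Finsupp.mapDomain (MonoidHom.inl G G) a.coeff) (1, 1) = a.coeff 1 :=
      Finsupp.mapDomain_apply (f := fun x : G => (x, (1 : G))) (fun x y hxy => congrArg Prod.fst hxy) a.coeff 1
    have e2 : (Finsupp.mapDomain (MonoidHom.inr G G) a.coeff) (1, 1) = a.coeff 1 :=
      Finsupp.mapDomain_apply (f := fun x : G => ((1 : G), x)) (fun x y hxy => congrArg Prod.snd hxy) a.coeff 1
    rw [e1, e2] at h1
    simpa using h1
  · have e1 : (Finsupp.mapDomain (MonoidHom.inl G G) a.coeff) (g, g) = 0 :=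
      Finsupp.mapDomain_notin_range _ _ (by rintro ⟨x, hx⟩; exact hg (congrArg Prod.snd hx).symm)
    have e2 : (Finsupp.mapDomain (MonoidHom.inr G G) a.coeff) (g, g) = 0 :=
      Finsupp.mapDomain_notin_range _ _ (by rintro ⟨x, hx⟩; exact hg (congrArg Prod.fst hx).symm)
    rw [e1, e2] at h1
    simpa using h1

/-- A homomorphism to the additive group is trivial over a diagonalisable chart. -/
theorem trivOver_chart {S : Scheme.{u}} {H : Over S} [GrpObj H] (u : H ⟶ Red.Ga S) [IsMonHom u]
    {W : Scheme.{u}} (f : W ⟶ S) (hW : HasChart anyM H f) : TrivOver u f := by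
  obtain ⟨M, inst, -, ⟨e⟩⟩ := hW
  letI := inst
  refine trivOver_of_affine u f fun C _ t g => ?_
  let F : ∀ {C' : Type u} [CommRing C'] (p : Spec (CommRingCat.of C') ⟶ W), (Multiplicative M →* C') → C' :=
    fun {C'} _ p χ => val (k := p ≫ f) (ptG f e p χ ≫ u)
  have hnat : ∀ {C₁ C₂ : Type u} [CommRing C₁] [CommRing C₂] (h : C₁ →+* C₂)
      (p : Spec (CommRingCat.of C₁) ⟶ W) (p' : Spec (CommRingCat.of C₂) ⟶ W)
      (_ : Spec.map (CommRingCat.ofHom h) ≫ p = p') χ, F p' ((h : C₁ →* C₂).comp χ) = h (F p χ) := by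
    intro C₁ C₂ _ _ h p p' hp χ
    change val _ = h (val _)
    rw [← ptG_comp f e p p' h χ hp, Category.assoc]
    exact val_comp h _ rfl _
  have hadd : ∀ {C' : Type u} [CommRing C'] (p : Spec (CommRingCat.of C') ⟶ W) χ χ',
      F p (χ * χ') = F p χ + F p χ' := by
    intro C' _ p χ χ'
    change val _ = val _ + val _
    exact (congrArg val ((congrArg (· ≫ u) (ptG_mul f e p χ χ')).trans (MonObj.mul_comp _ _ u))).trans (val_mul _ _)
  set G := Multiplicative M
  set D := MonoidAlgebra C G
  set D₂ := MonoidAlgebra C (G × G)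
  set p := Spec.map (CommRingCat.ofHom (MonoidAlgebra.singleOneRingHom : C →+* D)) ≫ t
  set p₂ := Spec.map (CommRingCat.ofHom (MonoidAlgebra.singleOneRingHom : C →+* D₂)) ≫ t
  set a := F p (MonoidAlgebra.of C G)
  have hd : ∀ q : G →* G × G, F p₂ ((MonoidAlgebra.of C (G × G)).comp q) =
      MonoidAlgebra.mapDomainRingHom C q a := by
    intro q
    have h1 : (MonoidAlgebra.mapDomainRingHom C q : D →* D₂).comp (MonoidAlgebra.of C G) =
        (MonoidAlgebra.of C (G × G)).comp q := MonoidHom.ext fun m => MonoidAlgebra.mapDomain_single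
    rw [← h1]
    refine hnat (MonoidAlgebra.mapDomainRingHom C q) p p₂ ?_ _
    rw [← Category.assoc, ← Spec.map_comp, ← CommRingCat.ofHom_comp]
    congr 3
    ext c
    simp
  have hq : (MonoidAlgebra.of C (G × G)).comp ((MonoidHom.id G).prod (MonoidHom.id G)) =
      (MonoidAlgebra.of C (G × G)).comp (MonoidHom.inl G G) * (MonoidAlgebra.of C (G × G)).comp (MonoidHom.inr G G) := by
    refine MonoidHom.ext fun x => ?_
    change MonoidAlgebra.of C (G × G) (x, x) = MonoidAlgebra.of C (G × G) (x, 1) * MonoidAlgebra.of C (G × G) (1, x)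
    rw [← map_mul, Prod.mk_mul_mk, _root_.mul_one, _root_.one_mul]
  have ha : a = 0 := additive_eq_zero a (by rw [← hd, hq, hadd, hd, hd])
  obtain ⟨χ, hχ⟩ := exists_ptG_eq f e t (g : (Over.map f).obj (Over.mk t) ⟶ H)
  have h0 : F t χ = 0 := by
    have h1 : ((MonoidAlgebra.lift C C G χ).toRingHom : D →* C).comp (MonoidAlgebra.of C G) = χ :=
      MonoidHom.ext fun m => MonoidAlgebra.lift_of _ _
    rw [← h1, hnat _ p t ?_ (MonoidAlgebra.of C G)]
    · change (MonoidAlgebra.lift C C G χ).toRingHom a = 0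
      rw [ha, map_zero]
    · rw [← Category.assoc, ← Spec.map_comp, ← CommRingCat.ofHom_comp,
        show (MonoidAlgebra.lift C C G χ).toRingHom.comp MonoidAlgebra.singleOneRingHom = RingHom.id C from
          RingHom.ext fun c => by simp [MonoidAlgebra.lift_single]]
      simp
  apply gaFn_injective
  rw [gaFn_one, ← hχ]
  refine (ConcreteCategory.bijective_of_isIso (Scheme.ΓSpecIso (CommRingCat.of C)).hom).1 ?_
  refine h0.trans ?_
  exact (map_zero (Scheme.ΓSpecIso (CommRingCat.of C)).hom.hom).symm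

theorem trivOver_id {S : Scheme.{u}} {H : Over S} [GrpObj H] (u : H ⟶ Red.Ga S) [IsMonHom u]
    (hH : SGA3x.IsMultTypeFT H) : TrivOver u (𝟙 S) := by
  obtain ⟨S', π, hflat, hsurj, -, hloc⟩ := hasChartsFpqc_of_isMultTypeFT hH
  have := hflat
  have := hsurj
  refine trivOver_of_surjective_flat u π _ (trivOver_of_local u _ fun p => ?_)
  obtain ⟨U, hU, hch⟩ := hloc p
  obtain ⟨M, inst, -, e⟩ := hch
  have h := trivOver_chart u (U.ι ≫ π) ⟨M, inst, trivial, e⟩
  exact ⟨U, hU, by rwa [Category.comp_id]⟩

/-- Let H be an S-group scheme of multiplicative type. Then every homomorphism of S-groups H → 𝔾_a is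
trivial. (Stated for H of multiplicative type and of finite type, the class of multiplicative groups
available here; the published statement allows any group of multiplicative type.) -/
theorem result (S : Scheme.{u}) (H : Over S) [GrpObj H] (hH : SGA3x.IsMultTypeFT H)
    (u : H ⟶ Red.Ga S) [IsMonHom u] : u = 1 := by
  have h := trivOver_id (H := H) u hH
  simpa using h H H.hom (Category.comp_id _) (𝟙 H)

end Groth.Agent.S8392
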