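import Groth.Statements.S8393
import Groth.Agent.Lib.CentMT14.Reductive
-- import your own Groth.Agent.* helpers here

set_option autoImplicit false
universe u
open CategoryTheory MonoidalCategory CartesianMonoidalCategory MonObj GrpObj AlgebraicGeometry
open SGA3x

namespace Groth.Agent.S8393

/-- Let G be an affine algebraic group over a field k (an affine k-group scheme of finite type). Then G
admits a reductive centre: a subgroup scheme Z of G which is central and of multiplicative type, and
such that for every k-scheme S′ and every central homomorphism v : H → G ×_k S′ from an S′-group H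
of multiplicative type and of finite type, v factors through Z ×_k S′. -/
theorem result (k : Type u) [Field k]
    (G : Over (Spec (CommRingCat.of k))) [GrpObj G] [IsAffine G.left] [QuasiCompact G.hom] [LocallyOfFiniteType G.hom] :
    ∃ (Z : Over (Spec (CommRingCat.of k))) (_ : GrpObj Z) (z : Z ⟶ G), IsMonHom z ∧ Mono z ∧ SGA3x.IsMultTypeFT Z ∧
      (∀ (X : Over (Spec (CommRingCat.of k))) (x : X ⟶ Z) (g : X ⟶ G), (x ≫ z) * g = g * (x ≫ z)) ∧
      ∀ (S' : Scheme.{u}) (f : S' ⟶ (Spec (CommRingCat.of k))) (H : Over S') [GrpObj H] (v : H ⟶ Red.bc f G) [IsMonHom v],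
        SGA3x.IsMultTypeFT H →
        (∀ (X : Over S') (x : X ⟶ H) (g : X ⟶ Red.bc f G), (x ≫ v) * g = g * (x ≫ v)) →
        ∃ w : H ⟶ Red.bc f Z, w ≫ (Over.pullback f).map z = v := by
  obtain ⟨Z, gZ, z, hm, -, hmono, hMT, hc, hu⟩ := GrothLib.CentMT14.exists_reductiveCentre G
  exact ⟨Z, gZ, z, hm, hmono, hMT, hc, fun S' f H _ v _ hH hv => hu S' f H v hH hv⟩

end Groth.Agent.S8393
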