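import Groth.Statements.S8398
import Groth.Agent.Lib.MaxTorBC14.CentralIn
-- import your own Groth.Agent.* helpers here

set_option autoImplicit false
universe u
open CategoryTheory MonoidalCategory CartesianMonoidalCategory MonObj GrpObj AlgebraicGeometry
open SGA3x

namespace Groth.Agent.S8398

open CategoryTheory.Limits in
set_option backward.isDefEq.respectTransparency false in
private theorem connectedSpace_geomFibre {S : Scheme.{u}} {G : Over S} [GrpObj G] [Smooth G.hom]
    (hconn : ∀ s : S, ConnectedSpace ↥(Red.bc (S.fromSpecResidueField s) G).left) (s : S) :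
    ConnectedSpace (Red.geomFibre s G).left := by
  haveI := hconn s
  let G' := Red.bc (S.fromSpecResidueField s) G
  haveI : GeometricallyConnected G'.hom :=
    GrothLib.Neutral.geometricallyConnected_of_point G'.hom η[G'].left (Over.w η[G'])
  exact GeometricallyConnected.geometrically_connectedSpace (f := G'.hom)
    (Spec.map (CommRingCat.ofHom (algebraMap (S.residueField s) (AlgebraicClosure (S.residueField s)))))
    (pullback.lift (pullback.fst G.hom (Red.geomPt s))
      (pullback.snd G.hom (Red.geomPt s) ≫ Spec.map (CommRingCat.ofHom (algebraMap (S.residueField s) (AlgebraicClosure (S.residueField s)))))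
      (by rw [Category.assoc]; exact pullback.condition))
    (pullback.snd G.hom (Red.geomPt s))
    (IsPullback.of_right (h₁₂ := pullback.fst G.hom (S.fromSpecResidueField s))
      (by rw [pullback.lift_fst]; exact IsPullback.of_hasPullback G.hom (Red.geomPt s))
      (pullback.lift_snd _ _ _) (IsPullback.of_hasPullback G.hom (S.fromSpecResidueField s)))

/-- Let G be an S-group scheme which is smooth and affine over S with connected fibres, T a maximal
torus of G, and u : H → G a central homomorphism from an S-group scheme H of multiplicative type and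
of finite type. Then u factors through T. -/
theorem result (S : Scheme.{u}) (G : Over S) [GrpObj G]
    [Smooth G.hom] [IsAffineHom G.hom] (hconn : ∀ s : S, _root_.IsConnected (G.hom.base ⁻¹' {s}))
    (T : Over S) [GrpObj T] (i : T ⟶ G) (hT : Red.IsMaximalTorus i)
    (H : Over S) [GrpObj H] (hH : SGA3x.IsMultTypeFT H) (u : H ⟶ G) [IsMonHom u]
    (hc : ∀ (X : Over S) (x : X ⟶ H) (g : X ⟶ G), (x ≫ u) * g = g * (x ≫ u)) :
    ∃ w : H ⟶ T, w ≫ i = u := by
  refine GrothLib.MaxTorBC14.exists_factor_of_central (fun s => ?_) i hT hH u hc
  refine connectedSpace_geomFibre (fun s => ?_) s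
  haveI : ConnectedSpace ↥(G.hom.base ⁻¹' {s}) := isConnected_iff_connectedSpace.mp (hconn s)
  exact (G.hom.fiberHomeo s).symm.surjective.connectedSpace (G.hom.fiberHomeo s).symm.continuous

end Groth.Agent.S8398
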