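import Groth.Statements.S8403
import Groth.Agent.Lib.Chev24.Tori
import Groth.Agent.Lib.Flag27.MaxToriConj
import Groth.Agent.Lib.Flag27.CentBC
import Groth.Agent.Lib.CurveLocus.Basic
-- import your own Groth.Agent.* helpers here

set_option autoImplicit false
set_option linter.style.haveILetI false
set_option backward.isDefEq.respectTransparency false
universe u
open CategoryTheory CategoryTheory.Limits MonoidalCategory CartesianMonoidalCategory MonObj GrpObj AlgebraicGeometry
open SGA3x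

namespace Groth.Agent.S8403

/-- Centralizers of tori in affine groups are closed subgroups. -/
theorem closed_of_centralizer {K : Type u} [Field K] {H T Z : Over (Spec (CommRingCat.of K))} [GrpObj H] [GrpObj T] [GrpObj Z]
    [IsAffine H.left] [Smooth H.hom] (j : T ⟶ H) [IsMonHom j] (hT : Red.IsTorus T) {c : Z ⟶ H}
    (hc : Red.IsCentralizerOf j c) : IsClosedImmersion c.left := by
  obtain ⟨Z₀, _, z, hz, hzc, -⟩ := GrothLib.MultDef14.exists_centralizer
    (GrothLib.DiagGrp.hasChartsFpqc_of_isTorus hT) (inferInstance : Smooth H.hom) (isAffineHom_of_isAffine _) j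
  haveI := hzc; haveI := hc.2.1; haveI := hz.2.1
  obtain ⟨a, ha⟩ := (hz.2.2 Z c).2 ((hc.2.2 Z c).1 ⟨𝟙 Z, Category.id_comp c⟩)
  obtain ⟨b, hb⟩ := (hc.2.2 Z₀ z).2 ((hz.2.2 Z₀ z).1 ⟨𝟙 Z₀, Category.id_comp z⟩)
  haveI : IsIso a := ⟨b, by rw [← cancel_mono c, Category.assoc, hb, ha, Category.id_comp],
    by rw [← cancel_mono z, Category.assoc, ha, hb, Category.id_comp]⟩
  haveI : IsIso a.left := inferInstanceAs (IsIso ((Over.forget _).map a))
  rw [← ha]
  exact inferInstanceAs (IsClosedImmersion (a.left ≫ z.left))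

/-- Every torus lies in a maximal torus. -/
theorem exists_maxTorus_above {K : Type u} [Field K] [IsAlgClosed K] {H T : Over (Spec (CommRingCat.of K))} [GrpObj H] [GrpObj T]
    [IsAffine H.left] [Smooth H.hom] (i : T ⟶ H) [IsMonHom i] [Mono i] (hT : Red.IsTorus T) :
    ∃ (D : Over (Spec (CommRingCat.of K))) (_ : GrpObj D) (e : D ⟶ H) (f : T ⟶ D), AGF.IsMaxTorus e ∧ f ≫ e = i := by
  obtain ⟨G₀, _, j, hj, hjo, hconn, hfac⟩ := GrothLib.Induce27.exists_neutral H
  haveI := hj; haveI := hjo; haveI := hconn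
  haveI : Mono j := Over.mono_of_mono_left j
  haveI : Smooth G₀.hom := by rw [← Over.w j]; infer_instance
  haveI : IsClosedImmersion j.left :=
    IsClosedImmersion.of_isPreimmersion j.left
      (GrothLib.GrpSchField.isClosed_range_of_isLocallyClosed j j.left.isOpenEmbedding.isOpen_range.isLocallyClosed)
  haveI : IsAffine G₀.left := isAffine_of_isAffineHom j.left
  obtain ⟨-, -, -, hTc⟩ := GrothLib.Flag27.torus_facts hT i
  haveI := hTc
  obtain ⟨t, ht, htj⟩ := hfac T i
  haveI := ht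
  haveI : Mono (t ≫ j) := by rw [htj]; infer_instance
  haveI : Mono t := mono_of_mono t j
  obtain ⟨B, _, iB, hB, -⟩ := GrothLib.Flag27.exists_borel (G := G₀)
  obtain ⟨hi, hic, hBsm, hBconn, hBsolv, -⟩ := id hB
  haveI := hi; haveI := hic; haveI := hBsm; haveI := hBconn
  haveI : IsAffine B.left := isAffine_of_isAffineHom iB.left
  obtain ⟨D, _, U, _, p, s, u, r, hp, hs, hu, hsp, hDt, hDa, hDs, -, huc, hup, -, hru, hUu, hUs, -⟩ :=
    GrothLib.Flag27.hasSplit_of_solvable (GrothLib.Flag27.isSolvable_points hBsolv)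
  haveI := hp; haveI := hs; haveI := hu; haveI := huc; haveI := hUs
  obtain ⟨g, f, hf⟩ := GrothLib.Flag27.exists_conj_into_section hB p s u r hsp hup hru hUu hT t
  obtain ⟨hm, hmono, -, hmax⟩ := GrothLib.Flag27.isMaxTorus_section hB p s u r hsp hup hru hUu hDt
  haveI := hm; haveI := hmono
  haveI := GrothLib.Flag27.isMonHom_conjBy g⁻¹ (s ≫ iB)
  haveI : Mono (AGF.conjBy g⁻¹ (s ≫ iB)) := by
    haveI := GrothLib.Flag27.isIso_conjBy_id (G := G₀) g⁻¹
    rw [GrothLib.Flag27.conjBy_eq_comp]; exact mono_comp _ _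
  refine ⟨D, inferInstance, AGF.conjBy g⁻¹ (s ≫ iB) ≫ j, f, ⟨inferInstance, mono_comp _ _, hDt, fun R _ e _ _ φ hR hφ => ?_⟩, ?_⟩
  · obtain ⟨-, -, -, hRc⟩ := GrothLib.Flag27.torus_facts hR e
    haveI := hRc
    obtain ⟨e₀, he₀, he₀j⟩ := hfac R e
    haveI := he₀
    haveI : Mono (e₀ ≫ j) := by rw [he₀j]; infer_instance
    haveI : Mono e₀ := mono_of_mono e₀ j
    haveI := GrothLib.Flag27.isMonHom_conjBy g e₀
    haveI : Mono (AGF.conjBy g e₀) := by
      haveI := GrothLib.Flag27.isIso_conjBy_id (G := G₀) g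
      rw [GrothLib.Flag27.conjBy_eq_comp]; exact mono_comp _ _
    refine hmax R (AGF.conjBy g e₀) φ hR ?_
    have : φ ≫ e₀ = AGF.conjBy g⁻¹ (s ≫ iB) := (cancel_mono j).1 (by rw [Category.assoc, he₀j, hφ])
    rw [GrothLib.Flag27.comp_conjBy', this, GrothLib.Flag27.conjBy_conjBy, mul_inv_cancel, GrothLib.Flag27.conjBy_one]
  · rw [← Category.assoc, GrothLib.Flag27.comp_conjBy', hf, GrothLib.Flag27.conjBy_conjBy, inv_mul_cancel,
      GrothLib.Flag27.conjBy_one, htj]

/-- Let G be an affine smooth algebraic group over a field k, T a torus in G and C its centralizer. Then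
the nilpotent rank of G (the dimension of the Cartan subgroups of G over an algebraic closure of k)
is at most dim C. -/
theorem result (k : Type u) [Field k]
    (G : Over (Spec (CommRingCat.of k))) [GrpObj G] [Smooth G.hom] [QuasiCompact G.hom] [IsAffine G.left]
    (T : Over (Spec (CommRingCat.of k))) [GrpObj T] (j : T ⟶ G) [IsMonHom j] [Mono j] (hT : Red.IsTorus T)
    (C : Over (Spec (CommRingCat.of k))) [GrpObj C] (c : C ⟶ G) (hC : Red.IsCentralizerOf j c)
    (s : ↥(Spec (CommRingCat.of k))) (C' : Over (Spec (CommRingCat.of (AlgebraicClosure ((Spec (CommRingCat.of k)).residueField s))))) [GrpObj C']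
    (c' : C' ⟶ Red.geomFibre s G) (hC' : SGA3x.IsCartanOver (AlgebraicClosure ((Spec (CommRingCat.of k)).residueField s)) c') :
    topologicalKrullDim ↥C'.left ≤ topologicalKrullDim ↥C.left := by
  let K := AlgebraicClosure ((Spec (CommRingCat.of k)).residueField s)
  let q := Red.geomPt s
  let GK := Red.geomFibre s G
  haveI : IsAffineHom G.hom := isAffineHom_of_isAffine _
  haveI : IsAffine GK.left :=
    @isAffine_of_isAffineHom _ _ (pullback.snd G.hom q) (MorphismProperty.pullback_snd G.hom q ‹IsAffineHom G.hom›) _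
  haveI : Smooth GK.hom := inferInstanceAs (Smooth (pullback.snd G.hom q))
  haveI : LocallyOfFiniteType GK.hom := inferInstance
  haveI : IsClosedImmersion c.left := closed_of_centralizer j hT hC
  haveI : LocallyOfFiniteType C.hom := by rw [← Over.w c]; infer_instance
  let CK := Red.geomFibre s C
  let cK : CK ⟶ GK := (Over.pullback q).map c
  have hCK : Red.IsCentralizerOf ((Over.pullback q).map j) cK := GrothLib.Flag27.isCentralizerOf_bc q hC
  haveI : (Over.pullback q).IsRightAdjoint := (Over.mapPullbackAdj _).isRightAdjoint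
  have hTK : Red.IsTorus (Red.bc q T) := GrothLib.Flag27.isTorus_bc_field q hT
  obtain ⟨D, _, e, f, he, hfe⟩ := exists_maxTorus_above ((Over.pullback q).map j) hTK
  obtain ⟨hcm', hcmono', T', _, i', hi', hC''⟩ := hC'
  haveI := hi'.1; haveI := hi'.2.1
  haveI := he.1; haveI := he.2.1
  obtain ⟨g, φ, hφ⟩ := GrothLib.Flag27.exists_conj_maxTori he (GrothLib.Chev24.isMaxTorus_of_isMaximalTorus hi')
  haveI : IsClosedImmersion c'.left := closed_of_centralizer i' hi'.2.2.1 hC''
  haveI := GrothLib.Flag27.isClosedImmersion_conjBy g⁻¹ c'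
  obtain ⟨a, ha⟩ : ∃ a : C' ⟶ CK, a ≫ cK = AGF.conjBy g⁻¹ c' := by
    refine (hCK.2.2 C' _).2 fun X x h => ?_
    have h1 := (hC''.2.2 C' c').1 ⟨𝟙 C', Category.id_comp c'⟩ X x ((h ≫ f) ≫ φ.hom)
    have h2 : ((h ≫ f) ≫ φ.hom) ≫ i' = (toUnit X ≫ g) * (h ≫ (Over.pullback q).map j) * (toUnit X ≫ g)⁻¹ := by
      rw [Category.assoc, hφ, GrothLib.Flag27.comp_conjBy', Category.assoc, ← hfe]
      try rfl
    have hx : x ≫ AGF.conjBy g⁻¹ c' = (toUnit X ≫ g)⁻¹ * (x ≫ c') * (toUnit X ≫ g) := by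
      rw [GrothLib.Flag27.comp_conjBy', AGF.conjBy, GrpObj.comp_inv, _root_.inv_inv]
    rw [h2] at h1
    rw [hx]
    calc (toUnit X ≫ g)⁻¹ * (x ≫ c') * (toUnit X ≫ g) * (h ≫ (Over.pullback q).map j)
        = (toUnit X ≫ g)⁻¹ * ((x ≫ c') * ((toUnit X ≫ g) * (h ≫ (Over.pullback q).map j) * (toUnit X ≫ g)⁻¹)) * (toUnit X ≫ g) := by group
      _ = (toUnit X ≫ g)⁻¹ * (((toUnit X ≫ g) * (h ≫ (Over.pullback q).map j) * (toUnit X ≫ g)⁻¹) * (x ≫ c')) * (toUnit X ≫ g) := by rw [h1]
      _ = (h ≫ (Over.pullback q).map j) * ((toUnit X ≫ g)⁻¹ * (x ≫ c') * (toUnit X ≫ g)) := by group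
  haveI : IsClosedImmersion cK.left := closed_of_centralizer ((Over.pullback q).map j) hTK hCK
  haveI : IsClosedImmersion (a.left ≫ cK.left) := by rw [← Over.comp_left, ha]; infer_instance
  haveI : IsClosedImmersion a.left := IsClosedImmersion.of_comp a.left cK.left
  calc topologicalKrullDim ↥C'.left ≤ topologicalKrullDim ↥CK.left := a.left.isEmbedding.topologicalKrullDim_le
    _ = topologicalKrullDim ↥C.left :=
      GrothLib.CurveLocus.topologicalKrullDim_of_isPullback C.hom (IsPullback.of_hasPullback C.hom q)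

end Groth.Agent.S8403
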