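import Groth.Statements.S8405
import Groth.Agent.S3027
import Groth.Agent.Lib.DiagGrp.Bihom
import Groth.Agent.Lib.AlgSp.FppfDescent

set_option autoImplicit false
universe u
open CategoryTheory MonoidalCategory CartesianMonoidalCategory MonObj GrpObj AlgebraicGeometry
open SGA3x

namespace Groth.Agent.S8405

/-- Let G be a connected algebraic group (a group scheme of finite type) over a field k, z : Z → G the
centre of G and q : G → Q a morphism representing the fppf quotient G/Z. Then Q is an affine scheme.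
(The published statement allows any subgroup of finite index in the centre; this row takes Z to be
the centre itself.) -/
theorem result (k : Type u) [Field k]
    (G : Over (Spec (CommRingCat.of k))) [GrpObj G] [QuasiCompact G.hom] [LocallyOfFiniteType G.hom] [ConnectedSpace ↥G.left]
    (Z : Over (Spec (CommRingCat.of k))) [GrpObj Z] (z : Z ⟶ G) (hZ : Red.IsCentre z)
    (Q : Over (Spec (CommRingCat.of k))) (q : G ⟶ Q) (hq : RedSub.IsQuotient z q) : IsAffine Q.left := by
  obtain ⟨Z', gZ', i, _, _, hcen, Q', gQ', p, hp, hQaff, hQlft, hpf, hps, hker⟩ := Groth.Agent.S3027.result k G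
  haveI := hp
  haveI := hpf
  haveI := hps
  obtain ⟨hqs, hqf, hqp, hsq⟩ := hq
  haveI := hqs
  haveI := hqf
  haveI := hqp
  haveI : LocallyOfFinitePresentation p.left := by
    haveI : IsLocallyNoetherian Q'.left := LocallyOfFiniteType.isLocallyNoetherian Q'.hom
    haveI : LocallyOfFiniteType (p.left ≫ Q'.hom) := by rw [Over.w p]; infer_instance
    haveI : LocallyOfFiniteType p.left := locallyOfFiniteType_of_comp p.left Q'.hom
    infer_instance
  have hiρ : i ≫ p = 1 := GrothLib.GrpSchField.comp_eq_one hker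
  have h1 : ∀ (T : Over (Spec (CommRingCat.of k))) (g : T ⟶ G), g ≫ p = 1 ↔ ∃ h : T ⟶ Z, h ≫ z = g := by
    intro T g
    have key : (∀ (T' : Over (Spec (CommRingCat.of k))) (t : T' ⟶ T) (h : T' ⟶ G), (t ≫ g) * h = h * (t ≫ g)) ↔
        ∃ h : T ⟶ Z, h ≫ z = g := by
      refine ((hZ.2.2 T g).trans ⟨fun h T' t a => ?_, fun h T' t a => ?_⟩).symm
      · simpa using h T' t a
      · simpa using h T' t a
    rw [← key, ← hcen]
    exact ⟨fun h => GrothLib.GrpSchField.exists_lift_of_comp_eq_one hker g h, fun ⟨w, hw⟩ => by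
      rw [← hw, Category.assoc, hiρ, MonObj.comp_one]⟩
  obtain ⟨d, hd⟩ := GrothLib.DiagGrp.exists_desc q p fun T a b hab => by
    let l := hsq.lift a b hab
    have ha : l ≫ fst G Z = a := hsq.lift_fst _ _ _
    have hb : l ≫ ((G ◁ z) ≫ μ[G]) = b := hsq.lift_snd _ _ _
    have hμ : (G ◁ z) ≫ μ[G] = fst G Z * (snd G Z ≫ z) := by
      rw [Hom.mul_def]
      congr 1
      all_goals (apply CartesianMonoidalCategory.hom_ext <;> simp)
    rw [hμ, MonObj.comp_mul, ha] at hb
    rw [← hb, MonObj.mul_comp, (h1 T (l ≫ snd G Z ≫ z)).2 ⟨l ≫ snd G Z, Category.assoc _ _ _⟩, _root_.mul_one]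
  obtain ⟨e, he⟩ := GrothLib.DiagGrp.exists_desc p q fun T a b hab => by
    obtain ⟨h, hh⟩ := (h1 T (a⁻¹ * b)).1 (by rw [MonObj.mul_comp, GrpObj.inv_comp, hab, inv_mul_cancel])
    have hb : lift a h ≫ ((G ◁ z) ≫ μ[G]) = b := by
      rw [← Category.assoc, lift_whiskerLeft, ← Hom.mul_def, hh, mul_inv_cancel_left]
    calc a ≫ q = (lift a h ≫ fst G Z) ≫ q := by rw [lift_fst]
      _ = (lift a h ≫ ((G ◁ z) ≫ μ[G])) ≫ q := by simp only [Category.assoc, hsq.w]
      _ = b ≫ q := by rw [hb]
  haveI : Epi q.left := inferInstance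
  haveI : Epi p.left := inferInstance
  haveI : IsIso d.left := ⟨e.left, by
      rw [← cancel_epi q.left, ← Category.assoc, ← Over.comp_left, hd, ← Over.comp_left, he, Category.comp_id], by
      rw [← cancel_epi p.left, ← Category.assoc, ← Over.comp_left, he, ← Over.comp_left, hd, Category.comp_id]⟩
  exact IsAffine.of_isIso d.left

end Groth.Agent.S8405
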