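import Groth.Statements.S8408
-- import your own Groth.Agent.* helpers here
import Groth.Agent.Lib.Chev24.NormCartan

set_option autoImplicit false
universe u
open CategoryTheory MonoidalCategory CartesianMonoidalCategory MonObj GrpObj AlgebraicGeometry
open SGA3x

namespace Groth.Agent.S8408

/-- Let G be a smooth connected algebraic group (not necessarily affine) over an algebraically closed
field k, T a maximal torus of G and C = Centr_G(T) the corresponding Cartan subgroup. Then Norm_G(C)
= Norm_G(T): a subgroup scheme n : N → G represents the normalizer of C if and only if it represents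
the normalizer of T. (The published item c) says more about the Cartan subgroup C; this row states
only its last assertion, the equality of the two normalizers.) -/
theorem result (k : Type u) [Field k] [IsAlgClosed k]
    (G : Over (Spec (CommRingCat.of k))) [GrpObj G] [Smooth G.hom] [QuasiCompact G.hom] [ConnectedSpace ↥G.left]
    (T : Over (Spec (CommRingCat.of k))) [GrpObj T] (i : T ⟶ G) (hT : Red.IsMaximalTorus i)
    (C : Over (Spec (CommRingCat.of k))) [GrpObj C] (c : C ⟶ G) (hC : Red.IsCentralizerOf i c)
    (N : Over (Spec (CommRingCat.of k))) [GrpObj N] (n : N ⟶ G) :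
    Red.IsNormalizerOf c n ↔ Red.IsNormalizerOf i n := by
  haveI := hT.1
  haveI := hC.1
  refine ⟨fun ⟨h1, h2, h3⟩ => ⟨h1, h2, fun X g => (h3 X g).trans (GrothLib.Chev24.normalizes_iff i hT c hC g)⟩,
    fun ⟨h1, h2, h3⟩ => ⟨h1, h2, fun X g => (h3 X g).trans (GrothLib.Chev24.normalizes_iff i hT c hC g).symm⟩⟩

end Groth.Agent.S8408
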