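import Groth.Statements.S8409
import Groth.Agent.Lib.Chev24.Tori
import Groth.Agent.Lib.Flag27.CentralTorus
import Groth.Agent.Lib.CentMT14.Nilp
import Groth.Agent.Lib.Flag27.MaxTorusIso
import Groth.Agent.Lib.GrpSchField.Open
import Groth.Agent.Lib.SchPoints.AlgClosed
-- import your own Groth.Agent.* helpers here

set_option autoImplicit false
set_option linter.style.haveILetI false
universe u
open CategoryTheory CategoryTheory.Limits MonoidalCategory CartesianMonoidalCategory MonObj GrpObj AlgebraicGeometry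
open SGA3x

namespace Groth.Agent.S8409

/-- Let G be a smooth connected algebraic group (not necessarily affine) over an algebraically closed
field k. Then G is nilpotent (the group G(k) is nilpotent) if and only if every torus in G is
central, if and only if G has only one maximal torus. (The published statement adds that the unique
maximal torus is then the largest subtorus of G; this row omits that clause.) -/
theorem result (k : Type u) [Field k] [IsAlgClosed k]
    (G : Over (Spec (CommRingCat.of k))) [GrpObj G] [Smooth G.hom] [QuasiCompact G.hom] [ConnectedSpace ↥G.left] :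
    (Group.IsNilpotent (𝟙_ (Over (Spec (CommRingCat.of k))) ⟶ G) ↔
      ∀ (T : Over (Spec (CommRingCat.of k))) [GrpObj T] (j : T ⟶ G) [IsMonHom j] [Mono j], Red.IsTorus T →
        ∀ (X : Over (Spec (CommRingCat.of k))) (t : X ⟶ T) (g : X ⟶ G), (t ≫ j) * g = g * (t ≫ j)) ∧
    (Group.IsNilpotent (𝟙_ (Over (Spec (CommRingCat.of k))) ⟶ G) ↔
      ∀ (T₁ T₂ : Over (Spec (CommRingCat.of k))) [GrpObj T₁] [GrpObj T₂] (i₁ : T₁ ⟶ G) (i₂ : T₂ ⟶ G),
        Red.IsMaximalTorus i₁ → Red.IsMaximalTorus i₂ → ∃ φ : T₁ ≅ T₂, φ.hom ≫ i₂ = i₁) := by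
  haveI : IsSeparated G.hom := GrothLib.GrpSchField.isSeparated G
  haveI : IsReduced G.left := GrothLib.RedSmooth.isReduced_of_smooth G.hom
  obtain ⟨N, _, i, hi, hic, hNs, hNc, hNa, hNn, hmax⟩ := GrothLib.Chev24.exists_affPart (G := G)
  haveI := hi; haveI := hic; haveI := hNs; haveI := hNc; haveI := hNa
  haveI : Mono i := Over.mono_of_mono_left i
  haveI : IsAffineHom N.hom := isAffineHom_of_isAffine _
  obtain ⟨Q, _, q, hq, hQs, hQq, hqf, hqs, -, hker⟩ := GrothLib.Chev24.exists_quot i hNn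
  haveI := hq; haveI := hQs; haveI := hQq; haveI := hqf; haveI := hqs
  haveI := GrothLib.Chev24.isProper_quotient i hmax q hker
  obtain ⟨M, _, jM, hjM, hjMc, hM, -, hMmax, -⟩ := GrothLib.AntMax16.exists_ant G
  haveI := hjM; haveI := hjMc
  obtain ⟨hlM, hqM⟩ := GrothLib.AntMax16.props_of_mono jM
  haveI := hlM; haveI := hqM
  haveI hψs : Surjective ((i ⊗ₘ jM) ≫ μ[G]).left :=
    (GrothLib.AntMax16.ant_generates i q hker jM hM (fun K' _ _ _ b _ _ hb => hMmax K' b hb)).1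
  have hcen : ∀ {W : Over (Spec (CommRingCat.of k))} (a : W ⟶ M) (b : W ⟶ G), (a ≫ jM) * b = b * (a ≫ jM) :=
    fun a b => GrothLib.AntiAffine.IsAntiAffine.central hM jM a b
  have hdec : ∀ v : 𝟙_ (Over (Spec (CommRingCat.of k))) ⟶ G, ∃ (a : 𝟙_ (Over (Spec (CommRingCat.of k))) ⟶ N)
      (b : 𝟙_ (Over (Spec (CommRingCat.of k))) ⟶ M), (a ≫ i) * (b ≫ jM) = v := by
    intro v
    haveI : LocallyOfFiniteType (N ⊗ M).hom :=
      inferInstanceAs (LocallyOfFiniteType (pullback.fst N.hom M.hom ≫ N.hom))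
    haveI : LocallyOfFiniteType (((i ⊗ₘ jM) ≫ μ[G]).left ≫ G.hom) := by rw [Over.w]; infer_instance
    haveI : LocallyOfFiniteType ((i ⊗ₘ jM) ≫ μ[G]).left := locallyOfFiniteType_of_comp _ G.hom
    obtain ⟨w, hw⟩ := GrothLib.SchPoints.exists_lift ((i ⊗ₘ jM) ≫ μ[G]).left v.left
      (hψs.surj (v.left (IsLocalRing.closedPoint k)))
    let w' : 𝟙_ (Over (Spec (CommRingCat.of k))) ⟶ N ⊗ M :=
      Over.homMk w (by rw [← Over.w ((i ⊗ₘ jM) ≫ μ[G]), reassoc_of% hw]; exact Over.w v)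
    have hw' : w' ≫ (i ⊗ₘ jM) ≫ μ[G] = v := Over.OverMorphism.ext hw
    refine ⟨w' ≫ fst N M, w' ≫ snd N M, ?_⟩
    rw [← hw', Hom.mul_def, ← Category.assoc w' (i ⊗ₘ jM)]
    congr 1
    apply CartesianMonoidalCategory.hom_ext <;> simp
  -- nilpotency of the points of `N` and of `G`
  let F : (𝟙_ (Over (Spec (CommRingCat.of k))) ⟶ N) →* (𝟙_ (Over (Spec (CommRingCat.of k))) ⟶ G) :=
    MonoidHom.mk' (fun v => v ≫ i) fun a b => MonObj.mul_comp a b i
  have hGN : Group.IsNilpotent (𝟙_ (Over (Spec (CommRingCat.of k))) ⟶ G) → AGF.IsNilpotentGrp N := by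
    intro h
    haveI : IsSeparated N.hom := inferInstance
    haveI := h
    refine GrothLib.Flag27.isNilpotentGrp_of_points (Subgroup.isNilpotent_of_ker_le_center F ?_)
    intro a ha
    rw [MonoidHom.mem_ker] at ha
    have : a = 1 := (cancel_mono i).1 (ha.trans (MonObj.one_comp i).symm)
    rw [this]
    exact one_mem _
  have hNG : AGF.IsNilpotentGrp N → Group.IsNilpotent (𝟙_ (Over (Spec (CommRingCat.of k))) ⟶ G) := by
    rintro ⟨n, hn⟩
    haveI : Group.IsNilpotent (𝟙_ (Over (Spec (CommRingCat.of k))) ⟶ N) := ⟨⟨n, hn _⟩⟩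
    let π := QuotientGroup.mk' (Subgroup.center (𝟙_ (Over (Spec (CommRingCat.of k))) ⟶ G))
    haveI := Group.nilpotent_of_surjective (f := π.comp F) fun y => ?_
    · exact Subgroup.isNilpotent_of_ker_le_center π (le_of_eq (QuotientGroup.ker_mk' _))
    obtain ⟨v, rfl⟩ := QuotientGroup.mk'_surjective _ y
    obtain ⟨a, b, rfl⟩ := hdec v
    refine ⟨a, ?_⟩
    have hb : π (b ≫ jM) = 1 :=
      (QuotientGroup.eq_one_iff _).2 (Subgroup.mem_center_iff.2 fun g => (hcen b g).symm)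
    rw [map_mul]
    show π (a ≫ i) = π (a ≫ i) * π (b ≫ jM)
    rw [hb, _root_.mul_one]
  have hA : Group.IsNilpotent (𝟙_ (Over (Spec (CommRingCat.of k))) ⟶ G) →
      ∀ (T : Over (Spec (CommRingCat.of k))) [GrpObj T] (j : T ⟶ G) [IsMonHom j] [Mono j], Red.IsTorus T →
        ∀ (X : Over (Spec (CommRingCat.of k))) (t : X ⟶ T) (g : X ⟶ G), (t ≫ j) * g = g * (t ≫ j) := by
    intro h T _ j _ _ hT X t g
    obtain ⟨n, hn⟩ := hGN h
    obtain ⟨hjc, hTa, hTs, hTc⟩ := GrothLib.Chev24.torus_facts' hT j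
    haveI := hjc; haveI := hTa; haveI := hTs; haveI := hTc
    obtain ⟨u, hu⟩ := GrothLib.Chev24.factor_affine i hmax hNn T j
    haveI : IsMonHom (u ≫ i) := by rw [hu]; infer_instance
    haveI : IsMonHom u := GrothLib.CentMT14.isMonHom_of_comp u i
    have hMT : SGA3x.IsMultTypeFT T :=
      GrothLib.QuotTorus14.isMultTypeFT_of_charts (GrothLib.DiagGrp.hasChartsFpqc_of_isTorus hT)
    haveI : IsReduced (T ⊗ G).left := by
      haveI : Smooth (T ⊗ G).hom := inferInstanceAs (Smooth (pullback.fst T.hom G.hom ≫ T.hom))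
      exact GrothLib.RedSmooth.isReduced_of_smooth (T ⊗ G).hom
    haveI : LocallyOfFiniteType (T ⊗ G).hom :=
      inferInstanceAs (LocallyOfFiniteType (pullback.fst T.hom G.hom ≫ T.hom))
    have hall : (fst T G ≫ j) * snd T G = snd T G * (fst T G ≫ j) := by
      refine GrothLib.Rigidity.ext_of_points _ _ fun p => ?_
      simp only [MonObj.comp_mul, ← Category.assoc]
      obtain ⟨a, b, hab⟩ := hdec (p ≫ snd T G)
      have h1 : ((p ≫ fst T G) ≫ u) * a = a * ((p ≫ fst T G) ≫ u) :=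
        GrothLib.CentMT14.central_of_nilpotent hMT
          ⟨n, fun Y => Subgroup.lowerCentralSeries_eq_bot_iff_upperCentralSeries_eq_top.2 (hn Y)⟩ u _ (p ≫ fst T G) a
      have h2 := congrArg (· ≫ i) h1
      simp only [MonObj.mul_comp, Category.assoc, hu] at h2
      rw [← hab, ← _root_.mul_assoc, Category.assoc, h2, _root_.mul_assoc, ← hcen, ← _root_.mul_assoc]
    simpa only [MonObj.comp_mul, lift_fst_assoc, lift_snd] using congrArg (lift t g ≫ ·) hall
  have hB : (∀ (T : Over (Spec (CommRingCat.of k))) [GrpObj T] (j : T ⟶ G) [IsMonHom j] [Mono j], Red.IsTorus T →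
        ∀ (X : Over (Spec (CommRingCat.of k))) (t : X ⟶ T) (g : X ⟶ G), (t ≫ j) * g = g * (t ≫ j)) →
      ∀ (T₁ T₂ : Over (Spec (CommRingCat.of k))) [GrpObj T₁] [GrpObj T₂] (i₁ : T₁ ⟶ G) (i₂ : T₂ ⟶ G),
        Red.IsMaximalTorus i₁ → Red.IsMaximalTorus i₂ → ∃ φ : T₁ ≅ T₂, φ.hom ≫ i₂ = i₁ := by
    intro hc T₁ T₂ _ _ i₁ i₂ h₁ h₂
    obtain ⟨g, φ, hφ⟩ := GrothLib.Chev24.exists_conj_maxTori' i₁ i₂ h₁ h₂
    haveI := h₁.1; haveI := h₁.2.1
    refine ⟨φ, hφ.symm.trans ?_⟩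
    have e := hc T₁ i₁ h₁.2.2.1 T₁ (𝟙 T₁) (toUnit T₁ ≫ g)
    rw [Category.id_comp] at e
    rw [← e, mul_inv_cancel_right]
  have hC : (∀ (T₁ T₂ : Over (Spec (CommRingCat.of k))) [GrpObj T₁] [GrpObj T₂] (i₁ : T₁ ⟶ G) (i₂ : T₂ ⟶ G),
        Red.IsMaximalTorus i₁ → Red.IsMaximalTorus i₂ → ∃ φ : T₁ ≅ T₂, φ.hom ≫ i₂ = i₁) →
      Group.IsNilpotent (𝟙_ (Over (Spec (CommRingCat.of k))) ⟶ G) := by
    intro hu
    refine hNG (GrothLib.Flag27.isNilpotentGrp_of_unique_maxTorus fun T T' _ _ iT iT' hT hT' => ?_)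
    have key : ∀ {R : Over (Spec (CommRingCat.of k))} [GrpObj R] {r : R ⟶ N}, AGF.IsMaxTorus r →
        Red.IsMaximalTorus (r ≫ i) := by
      intro R _ r hr
      obtain ⟨hm, hmono, hRt, hrmax⟩ := hr
      haveI := hm; haveI := hmono
      refine GrothLib.Flag27.isMaximalTorus_of_isMaxTorus ⟨inferInstance, mono_comp r i, hRt, fun R' _ j _ _ f hR' hf => ?_⟩
      obtain ⟨hjc, hRa, hRs, hRc⟩ := GrothLib.Chev24.torus_facts' hR' j
      haveI := hjc; haveI := hRa; haveI := hRs; haveI := hRc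
      obtain ⟨u, hu⟩ := GrothLib.Chev24.factor_affine i hmax hNn R' j
      haveI : IsMonHom (u ≫ i) := by rw [hu]; infer_instance
      haveI : IsMonHom u := GrothLib.CentMT14.isMonHom_of_comp u i
      haveI : Mono (u ≫ i) := by rw [hu]; infer_instance
      haveI : Mono u := mono_of_mono u i
      exact hrmax R' u f hR' ((cancel_mono i).1 (by rw [Category.assoc, hu, hf]))
    obtain ⟨φ, hφ⟩ := hu T T' _ _ (key hT) (key hT')
    exact ⟨φ, (cancel_mono i).1 (by rw [Category.assoc, hφ])⟩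
  exact ⟨⟨hA, fun h => hC (hB h)⟩, ⟨fun h => hB (hA h), hC⟩⟩

end Groth.Agent.S8409
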