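import Groth.Statements.S8410
import Groth.Agent.Lib.CentMT14.Quotient
-- import your own Groth.Agent.* helpers here

set_option autoImplicit false
universe u
open CategoryTheory MonoidalCategory CartesianMonoidalCategory MonObj GrpObj AlgebraicGeometry
open SGA3x

namespace Groth.Agent.S8410

/-- Let G be an S-group scheme, smooth and affine over S with connected fibres, Z a reductive centre of
G (central, of multiplicative type, and universal after every base change for central homomorphisms
from groups of multiplicative type and finite type), and q : G → G′ a homomorphism representing the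
quotient G/Z. Then the unit subgroup is a reductive centre of G′: for every S′ → S, every central
homomorphism H → G′ ×_S S′ from an S′-group H of multiplicative type and of finite type is trivial.
(The published item b) first asserts that G/Z is representable; this row takes a representing
homomorphism q as given and states its second assertion.) -/
theorem result (S : Scheme.{u}) (G : Over S) [GrpObj G]
    [Smooth G.hom] [IsAffineHom G.hom] (hconn : ∀ s : S, _root_.IsConnected (G.hom.base ⁻¹' {s}))
    (Z : Over S) [GrpObj Z] (z : Z ⟶ G) (hZ : (IsMonHom z ∧ Mono z ∧ SGA3x.IsMultTypeFT Z ∧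
      (∀ (X : Over S) (x : X ⟶ Z) (g : X ⟶ G), (x ≫ z) * g = g * (x ≫ z)) ∧
      ∀ (S' : Scheme.{u}) (f : S' ⟶ S) (H : Over S') [GrpObj H] (v : H ⟶ Red.bc f G) [IsMonHom v],
        SGA3x.IsMultTypeFT H →
        (∀ (X : Over S') (x : X ⟶ H) (g : X ⟶ Red.bc f G), (x ≫ v) * g = g * (x ≫ v)) →
        ∃ w : H ⟶ Red.bc f Z, w ≫ (Over.pullback f).map z = v))
    (G' : Over S) [GrpObj G'] (q : G ⟶ G') [IsMonHom q] (hq : RedSub.IsQuotient z q)
    (S' : Scheme.{u}) (f : S' ⟶ S) (H : Over S') [GrpObj H] (v : H ⟶ Red.bc f G') [IsMonHom v]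
    (hH : SGA3x.IsMultTypeFT H)
    (hv : ∀ (X : Over S') (x : X ⟶ H) (g : X ⟶ Red.bc f G'), (x ≫ v) * g = g * (x ≫ v)) :
    v = 1 := by
  obtain ⟨hzm, hmono, hMT, hc, hu⟩ := hZ
  haveI := hzm
  haveI := hmono
  have hr := GrothLib.QuotTorus14.rel_of_isQuotient z q hq
  obtain ⟨hs, hf, hl, -⟩ := hq
  haveI := hs
  haveI := hf
  haveI := hl
  haveI := GrothLib.DiagGrp.lfp_of_isMultTypeFT hMT
  exact GrothLib.CentMT14.eq_one_of_quotient hconn z hMT hc hu q hr f hH v hv

end Groth.Agent.S8410
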