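import Groth.Statements.S8412
import Groth.Agent.Lib.Chev24.Tori
import Groth.Agent.Lib.Neutral.Pairs
import Groth.Agent.Lib.MaxTorBC14.Geom
-- import your own Groth.Agent.* helpers here

set_option autoImplicit false
universe u
open CategoryTheory MonoidalCategory CartesianMonoidalCategory MonObj GrpObj AlgebraicGeometry
open SGA3x

namespace Groth.Agent.S8412

set_option backward.isDefEq.respectTransparency false

theorem quasiCompact_connected {K : Type u} [Field K] (H : Over (Spec (CommRingCat.of K))) [GrpObj H]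
    [LocallyOfFiniteType H.hom] [ConnectedSpace H.left] : QuasiCompact H.hom := by
  haveI : Subsingleton ↥(Spec (CommRingCat.of K)) := inferInstanceAs (Subsingleton (PrimeSpectrum K))
  refine GrothLib.Neutral.quasiCompact_of_connected_fibres H
    (fun s => MorphismProperty.pullback_snd _ _ ‹LocallyOfFiniteType H.hom›) fun s => ?_
  rw [show H.hom ⁻¹' {s} = Set.univ from Set.eq_univ_of_forall fun h => Subsingleton.elim _ _]
  exact isPreconnected_univ

/-- The statement over an algebraically closed field. -/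
theorem cartanOver_iff {K : Type u} [Field K] [IsAlgClosed K] {G H C C' : Over (Spec (CommRingCat.of K))}
    [GrpObj G] [GrpObj H] [GrpObj C] [GrpObj C'] [LocallyOfFiniteType G.hom]
    [Smooth H.hom] [QuasiCompact H.hom] [ConnectedSpace H.left]
    (i : H ⟶ G) [IsMonHom i] [Mono i] (c : C ⟶ H) (c' : C' ⟶ H) (hC' : SGA3x.IsCartanOver K (c' ≫ i)) :
    SGA3x.IsCartanOver K c ↔ SGA3x.IsCartanOver K (c ≫ i) := by
  -- a maximal torus of G with centralizer inside H is a maximal torus of H
  have step : ∀ {T C₀ : Over (Spec (CommRingCat.of K))} [GrpObj T] [GrpObj C₀] (iT : T ⟶ G) (c₀ : C₀ ⟶ H),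
      Red.IsMaximalTorus iT → Red.IsCentralizerOf iT (c₀ ≫ i) →
      ∃ t : T ⟶ H, t ≫ i = iT ∧ Red.IsMaximalTorus t := by
    intro T C₀ _ _ iT c₀ hT hc
    obtain ⟨hm, hmono, hTt, hmax⟩ := GrothLib.Chev24.isMaxTorus_of_isMaximalTorus hT
    haveI := hm; haveI := hmono
    obtain ⟨z, hz⟩ := (hc.2.2 T iT).2 fun X x h => by
      rw [← MonObj.mul_comp, ← MonObj.mul_comp, GrothLib.DiagGrp.mul_comm_of_charts (GrothLib.DiagGrp.hasChartsFpqc_of_isTorus hTt)]
    refine ⟨z ≫ c₀, by rw [Category.assoc, hz], ?_⟩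
    haveI : IsMonHom ((z ≫ c₀) ≫ i) := by rw [Category.assoc, hz]; infer_instance
    haveI : Mono ((z ≫ c₀) ≫ i) := by rw [Category.assoc, hz]; infer_instance
    haveI : IsMonHom (z ≫ c₀) := GrothLib.CentMT14.isMonHom_of_comp (z ≫ c₀) i
    haveI : Mono (z ≫ c₀) := mono_of_mono (z ≫ c₀) i
    refine GrothLib.Flag27.isMaximalTorus_of_isMaxTorus ⟨inferInstance, inferInstance, hTt,
      fun T' _ j _ _ f hT' hf => hmax T' (j ≫ i) f hT' ?_⟩
    rw [reassoc_of% hf]; exact hz
  constructor
  · rintro ⟨hcm, hcmono, T₁, _, i₁, hT₁, hc⟩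
    haveI := hcm; haveI := hcmono
    obtain ⟨-, -, T, _, iT, hT, hc'⟩ := hC'
    obtain ⟨t, ht, htmax⟩ := step iT c' hT hc'
    obtain ⟨g₀, φ, hφ⟩ := GrothLib.Chev24.exists_conj_maxTori' i₁ t hT₁ htmax
    obtain ⟨hm, hmono, hTt, hmax⟩ := GrothLib.Chev24.isMaxTorus_of_isMaximalTorus hT
    obtain ⟨hm₁, hmono₁, hT₁t, -⟩ := hT₁
    haveI := hm; haveI := hmono; haveI := hm₁; haveI := hmono₁
    let g := g₀ ≫ i
    have hiT : φ.hom ≫ iT = AGF.conjBy g (i₁ ≫ i) := by
      rw [← ht, ← reassoc_of% hφ]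
      simp only [g, AGF.conjBy, MonObj.mul_comp, GrpObj.inv_comp, Category.assoc]
    refine ⟨inferInstance, mono_comp _ _, T₁, inferInstance, i₁ ≫ i,
      GrothLib.Flag27.isMaximalTorus_of_isMaxTorus ⟨inferInstance, mono_comp _ _, hT₁t, fun T' _ j _ _ f hT' hf => ?_⟩, ?_⟩
    · haveI := GrothLib.Flag27.isMonHom_conjBy g j
      haveI : Mono (AGF.conjBy g j) := ⟨fun a b e => by
        rw [GrothLib.Flag27.comp_conjBy', GrothLib.Flag27.comp_conjBy'] at e
        rw [← cancel_mono j]
        have e' := congrArg (AGF.conjBy g⁻¹) e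
        simpa only [GrothLib.Flag27.conjBy_conjBy, inv_mul_cancel, GrothLib.Flag27.conjBy_one] using e'⟩
      haveI : IsIso (φ.inv ≫ f) := hmax T' (AGF.conjBy g j) (φ.inv ≫ f) hT' (by
        rw [GrothLib.Flag27.comp_conjBy', Category.assoc, hf, ← GrothLib.Flag27.comp_conjBy', ← hiT,
          Iso.inv_hom_id_assoc])
      have e := Iso.hom_inv_id_assoc φ f
      rw [← e]; infer_instance
    · refine ⟨inferInstance, mono_comp _ _, fun X x => ⟨?_, fun hx => ?_⟩⟩
      · rintro ⟨z, rfl⟩ X' y h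
        have e := (hc.2.2 X (z ≫ c)).1 ⟨z, rfl⟩ X' y h
        have e' := congrArg (fun m => m ≫ i) e
        simpa only [MonObj.mul_comp, Category.assoc] using e'
      · let a : X ⟶ G := toUnit X ≫ g
        obtain ⟨z, hz⟩ := (hc'.2.2 X (a * x * a⁻¹)).2 fun X' y h => by
          obtain ⟨h₁, rfl⟩ : ∃ h₁ : X' ⟶ T₁, h = h₁ ≫ φ.hom := ⟨h ≫ φ.inv, by simp⟩
          rw [Category.assoc, hiT, GrothLib.Flag27.comp_conjBy']
          have e := hx X' y h₁
          have ea : y ≫ a = toUnit X' ≫ g := by simp [a, ← Category.assoc, toUnit_unique (y ≫ toUnit X) (toUnit X')]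
          have et : h₁ ≫ toUnit T₁ ≫ g = toUnit X' ≫ g := by rw [← Category.assoc, toUnit_unique (h₁ ≫ toUnit T₁) (toUnit X')]
          simp only [MonObj.comp_mul, GrpObj.comp_inv, ea, et, AGF.conjBy]
          generalize toUnit X' ≫ g = p at e ⊢
          generalize y ≫ x = q at e ⊢
          generalize h₁ ≫ i₁ ≫ i = r at e ⊢
          calc (p * q * p⁻¹) * (p * r * p⁻¹) = p * (q * r) * p⁻¹ := by group
            _ = p * (r * q) * p⁻¹ := by rw [e]
            _ = (p * r * p⁻¹) * (p * q * p⁻¹) := by group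
        let x₀ : X ⟶ H := (toUnit X ≫ g₀)⁻¹ * (z ≫ c') * (toUnit X ≫ g₀)
        have hx₀ : x₀ ≫ i = x := by
          have ea : toUnit X ≫ g₀ ≫ i = a := rfl
          simp only [x₀, MonObj.mul_comp, GrpObj.inv_comp, Category.assoc, hz, ea]
          group
        obtain ⟨w, hw⟩ := (hc.2.2 X x₀).2 fun X' y h => by
          rw [← cancel_mono i, MonObj.mul_comp, MonObj.mul_comp, Category.assoc, Category.assoc, hx₀]
          exact hx X' y h
        exact ⟨w, by rw [← Category.assoc, hw, hx₀]⟩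
  · rintro ⟨hcm, hcmono, T, _, iT, hT, hc⟩
    haveI := hcm; haveI := hcmono
    obtain ⟨t, ht, htmax⟩ := step iT c hT hc
    refine ⟨GrothLib.CentMT14.isMonHom_of_comp c i, mono_of_mono c i, T, inferInstance, t, htmax,
      GrothLib.CentMT14.isMonHom_of_comp c i, mono_of_mono c i, fun X x => ⟨?_, fun hx => ?_⟩⟩
    · rintro ⟨z, rfl⟩ X' y h
      have e := (hc.2.2 X (z ≫ c ≫ i)).1 ⟨z, rfl⟩ X' y h
      rw [← cancel_mono i, MonObj.mul_comp, MonObj.mul_comp, Category.assoc h t i, ht]
      simpa only [Category.assoc] using e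
    · obtain ⟨z, hz⟩ := (hc.2.2 X (x ≫ i)).2 fun X' y h => by
        have e := congrArg (fun m => m ≫ i) (hx X' y h)
        simpa only [MonObj.mul_comp, Category.assoc, ht] using e
      exact ⟨z, (cancel_mono i).1 (by rw [Category.assoc, hz])⟩

/-- Let G be an S-group scheme, smooth and of finite presentation over S with connected fibres, and i :
H → G a monomorphism of S-groups with H smooth over S, such that every geometric fibre H_s̄ is
connected and contains a Cartan subgroup of G_s̄ (has the same reductive and nilpotent ranks). Then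
a subgroup scheme C of H is a Cartan subgroup of H if and only if it is a Cartan subgroup of G. -/
theorem result (S : Scheme.{u}) (G : Over S) [GrpObj G]
    [Smooth G.hom] [QuasiCompact G.hom] [QuasiSeparated G.hom] (hconn : ∀ s : S, _root_.IsConnected (G.hom.base ⁻¹' {s}))
    (H : Over S) [GrpObj H] [Smooth H.hom] (i : H ⟶ G) [IsMonHom i] [Mono i]
    (hHconn : ∀ s : S, ConnectedSpace ↥(Red.geomFibre s H).left)
    (hHC : ∀ s : S, ∃ (C' : Over (Spec (CommRingCat.of (AlgebraicClosure (S.residueField s))))) (_ : GrpObj C')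
      (c' : C' ⟶ Red.geomFibre s H), SGA3x.IsCartanOver _ (c' ≫ (Over.pullback (Red.geomPt s)).map i))
    (C : Over S) [GrpObj C] (c : C ⟶ H) :
    SGA3x.IsCartan c ↔ SGA3x.IsCartan (c ≫ i) := by
  have key : ∀ s : S, SGA3x.IsCartanOver (AlgebraicClosure (S.residueField s)) ((Over.pullback (Red.geomPt s)).map c) ↔
      SGA3x.IsCartanOver (AlgebraicClosure (S.residueField s)) ((Over.pullback (Red.geomPt s)).map (c ≫ i)) := fun s => by
    obtain ⟨C', _, c', hc'⟩ := hHC s
    haveI := hHconn s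
    haveI : Smooth (Red.geomFibre s H).hom := MorphismProperty.pullback_snd (P := @Smooth) H.hom (Red.geomPt s) ‹_›
    haveI : Smooth (Red.geomFibre s G).hom := MorphismProperty.pullback_snd (P := @Smooth) G.hom (Red.geomPt s) ‹_›
    haveI : QuasiCompact (Red.geomFibre s H).hom := quasiCompact_connected (Red.geomFibre s H)
    haveI : Mono ((Over.pullback (Red.geomPt s)).map i) := GrothLib.MaxTorBC14.mono_map (Red.geomPt s) i
    rw [(Over.pullback (Red.geomPt s)).map_comp]
    exact cartanOver_iff ((Over.pullback (Red.geomPt s)).map i) _ c' hc'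
  constructor
  · rintro ⟨hm, hmono, hs, hf⟩
    haveI := hm; haveI := hmono
    exact ⟨inferInstance, mono_comp _ _, hs, fun s => (key s).1 (hf s)⟩
  · rintro ⟨hm, hmono, hs, hf⟩
    haveI := hm; haveI := hmono
    exact ⟨GrothLib.CentMT14.isMonHom_of_comp c i, mono_of_mono c i, hs, fun s => (key s).2 (hf s)⟩

end Groth.Agent.S8412
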