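import Groth.Statements.S8419
import Groth.Agent.Lib.MultQuot14.Affine
import Groth.Agent.Lib.MultQuot14.Exists
import Groth.Agent.S16777
-- import your own Groth.Agent.* helpers here

set_option autoImplicit false
universe u
open CategoryTheory MonoidalCategory CartesianMonoidalCategory MonObj GrpObj AlgebraicGeometry
open SGA3x

namespace Groth.Agent.S8419

/-- Let G be a smooth affine algebraic group over a field k and H a subgroup of G of multiplicative type
(and of finite type), with centralizer C and normalizer N. Then the quotients G/C and G/N are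
affine: any k-scheme representing the fppf quotient of G by C (resp. by N) is affine. -/
theorem result (k : Type u) [Field k]
    (G : Over (Spec (CommRingCat.of k))) [GrpObj G] [Smooth G.hom] [QuasiCompact G.hom] [IsAffine G.left]
    (H : Over (Spec (CommRingCat.of k))) [GrpObj H] (h : H ⟶ G) [IsMonHom h] [Mono h] (hH : SGA3x.IsMultTypeFT H)
    (C N : Over (Spec (CommRingCat.of k))) [GrpObj C] [GrpObj N] (c : C ⟶ G) (n : N ⟶ G)
    (hC : Red.IsCentralizerOf h c) (hN : Red.IsNormalizerOf h n) :
    (∀ (Q : Over (Spec (CommRingCat.of k))) (q : G ⟶ Q), RedSub.IsQuotient c q → IsAffine Q.left) ∧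
    (∀ (Q : Over (Spec (CommRingCat.of k))) (q : G ⟶ Q), RedSub.IsQuotient n q → IsAffine Q.left) := by
  haveI : IsAffineHom H.hom := GrothLib.EssFree.isAffineHom_multTypeFT H hH
  haveI : IsAffine H.left := isAffine_of_isAffineHom H.hom
  haveI : IsAffineHom G.hom := isAffineHom_of_isAffine _
  haveI : LocallyOfFinitePresentation G.hom := ((Groth.Agent.S1488.result G.hom).mp ‹_›).1
  haveI := GrothLib.DiagGrp.lfp_of_isMultTypeFT hH
  haveI : QuasiCompact h.left := by
    haveI : QuasiCompact (h.left ≫ G.hom) := by rw [Over.w h]; infer_instance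
    exact QuasiCompact.of_comp h.left G.hom
  haveI : IsClosedImmersion h.left := GrothLib.AffMono14.isClosedImmersion_of_mono h
  obtain ⟨hL, hD⟩ := GrothLib.MultQuot14.levels_of_multType H hH
  obtain ⟨m, hm, hlev⟩ := GrothLib.MultQuot14.exists_level (h := h) hL hD
  obtain ⟨K, _, i, _, _, hK, hKfin, hpts⟩ := hL m hm
  obtain ⟨A, υ, act, pι, hυ, hact, hA, hAt, hι⟩ := GrothLib.MultQuot14.exists_orbit_data hK (i ≫ h)
  have hKc := GrothLib.DiagGrp.hasChartsFpqc_of_isMultTypeFT hK
  obtain ⟨_, hNmono, hNpts⟩ := hN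
  -- the normalizer is a closed subgroup
  haveI : IsClosedImmersion n.left := by
    obtain ⟨T, d, hd, -, hTpts⟩ := Groth.Agent.S16777.result G H H inferInstance inferInstance h hH h inferInstance
      inferInstance
    haveI : IsClosedImmersion d.left := hd
    let d' : T ⟶ G := d ≫ ι[G]
    haveI : IsIso ι[G] := inferInstance
    haveI : IsIso ι[G].left := inferInstanceAs (IsIso ((Over.forget _).map ι[G]))
    haveI : IsClosedImmersion d'.left := by rw [Over.comp_left]; infer_instance
    let w : Limits.pullback d d' ⟶ G := Limits.pullback.fst d d' ≫ d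
    haveI : IsClosedImmersion (Limits.pullback.fst d d').left :=
      MorphismProperty.of_isPullback (((IsPullback.of_hasPullback d d').flip).map (Over.forget _)) ‹IsClosedImmersion d'.left›
    haveI : IsClosedImmersion w.left := by rw [Over.comp_left]; infer_instance
    haveI : Mono w := Over.mono_of_mono_left w
    have hw : ∀ (X : Over (Spec (CommRingCat.of k))) (g : X ⟶ G),
        (∃ z : X ⟶ Limits.pullback d d', z ≫ w = g) ↔ (∃ z : X ⟶ N, z ≫ n = g) := by
      intro X g
      rw [hNpts]
      constructor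
      · rintro ⟨z, rfl⟩ X' x y
        have h1 := (hTpts X (z ≫ w)).1 ⟨z ≫ Limits.pullback.fst d d', by simp [w]⟩ X' x y
        have h2 := (hTpts X (z ≫ w)⁻¹).1 ⟨z ≫ Limits.pullback.snd d d', by
          simp [w, d', Limits.pullback.condition, ← Hom.inv_def, GrpObj.comp_inv]⟩ X' x y
        rw [GrpObj.comp_inv, _root_.inv_inv] at h2
        exact ⟨h1, h2⟩
      · intro hg
        obtain ⟨t₁, ht₁⟩ := (hTpts X g).2 fun X' x y => (hg X' x y).1
        obtain ⟨t₂, ht₂⟩ := (hTpts X g⁻¹).2 fun X' x y => by
          rw [GrpObj.comp_inv, _root_.inv_inv]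
          exact (hg X' x y).2
        exact ⟨Limits.pullback.lift t₁ t₂ (by simp [d', ← Hom.inv_def, GrpObj.comp_inv, ht₁, ht₂]), by
          simp only [w]
          rw [Limits.pullback.lift_fst_assoc, ht₁]⟩
    obtain ⟨a, ha⟩ := (hw N n).2 ⟨𝟙 _, Category.id_comp _⟩
    obtain ⟨b, hb⟩ := (hw _ w).1 ⟨𝟙 _, Category.id_comp _⟩
    haveI : IsIso a := ⟨b, by rw [← cancel_mono n, Category.assoc, hb, ha, Category.id_comp],
      by rw [← cancel_mono w, Category.assoc, ha, hb, Category.id_comp]⟩
    haveI : IsIso a.left := inferInstanceAs (IsIso ((Over.forget _).map a))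
    rw [← ha, Over.comp_left]
    infer_instance
  refine ⟨fun Q q hq => (GrothLib.MultQuot14.exists_embedding hυ hKc hact i hpts hlev hι hC hq).1, fun P p hp => ?_⟩
  -- a quotient by the centralizer exists
  haveI : IsClosedImmersion c.left := by
    obtain ⟨T, d, hd, hdpts⟩ := GrothLib.MultQuot14.exists_fix (h := h) hL hm
    haveI := hd
    haveI : Mono d := Over.mono_of_mono_left d
    have hfix : ∀ (X : Over (Spec (CommRingCat.of k))) (g : X ⟶ G),
        (∃ z : X ⟶ C, z ≫ c = g) ↔ (∃ z : X ⟶ T, z ≫ d = g) := by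
      intro X g
      rw [hdpts, hC.2.2]
      refine ⟨fun hg Y x y _ => by rw [hg Y x y]; group, fun hg => hlev X g hg⟩
    haveI := hC.2.1
    obtain ⟨a, ha⟩ := (hfix C c).1 ⟨𝟙 _, Category.id_comp _⟩
    obtain ⟨b, hb⟩ := (hfix T d).2 ⟨𝟙 _, Category.id_comp _⟩
    haveI : IsIso a := ⟨b, by rw [← cancel_mono c, Category.assoc, hb, ha, Category.id_comp],
      by rw [← cancel_mono d, Category.assoc, ha, hb, Category.id_comp]⟩
    haveI : IsIso a.left := inferInstanceAs (IsIso ((Over.forget _).map a))
    rw [← ha, Over.comp_left]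
    infer_instance
  haveI := hC.1
  haveI := hC.2.1
  haveI : LocallyOfFiniteType C.hom := by rw [← Over.w c]; infer_instance
  obtain ⟨Q, q, hq⟩ := GrothLib.MultQuot14.exists_quotient c
  obtain ⟨hQ, jQ, hjQ, hqj⟩ := GrothLib.MultQuot14.exists_embedding hυ hKc hact i hpts hlev hι hC hq
  exact GrothLib.MultQuot14.isAffine_normalizer inferInstance hK hυ hact i hpts hι hC hq jQ hqj
    ⟨‹_›, hNmono, hNpts⟩ hp

end Groth.Agent.S8419
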