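import Groth.Statements.S8422
import Groth.Agent.Lib.Flag27.BorelTheorem

set_option autoImplicit false
universe u
open CategoryTheory MonoidalCategory CartesianMonoidalCategory MonObj GrpObj AlgebraicGeometry
open SGA3x

namespace Groth.Agent.S8422

/-- Let G be a smooth algebraic group (not necessarily affine) over an algebraically closed field k.
Then the Borel subgroups of G are conjugate; the maximal tori of a Borel subgroup B are maximal tori
of G; and if G is connected, the Cartan subgroups of B are Cartan subgroups of G. (The published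
statement also asserts that G/B is projective; this row omits that assertion.) -/
theorem result (k : Type u) [Field k] [IsAlgClosed k]
    (G : Over (Spec (CommRingCat.of k))) [GrpObj G] [Smooth G.hom] [QuasiCompact G.hom] :
    (∀ (B₁ B₂ : Over (Spec (CommRingCat.of k))) [GrpObj B₁] [GrpObj B₂] (b₁ : B₁ ⟶ G) (b₂ : B₂ ⟶ G),
      Red.IsBorelOver k b₁ → Red.IsBorelOver k b₂ → ∃ g : 𝟙_ (Over (Spec (CommRingCat.of k))) ⟶ G, SGA3x.ConjBy b₁ b₂ g) ∧
    (∀ (B : Over (Spec (CommRingCat.of k))) [GrpObj B] (b : B ⟶ G), Red.IsBorelOver k b →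
      ∀ (T : Over (Spec (CommRingCat.of k))) [GrpObj T] (t : T ⟶ B), Red.IsMaximalTorus t → Red.IsMaximalTorus (t ≫ b)) ∧
    (ConnectedSpace ↥G.left → ∀ (B : Over (Spec (CommRingCat.of k))) [GrpObj B] (b : B ⟶ G), Red.IsBorelOver k b →
      ∀ (C : Over (Spec (CommRingCat.of k))) [GrpObj C] (c : C ⟶ B), SGA3x.IsCartanOver k c → SGA3x.IsCartanOver k (c ≫ b)) := by
  exact ⟨fun _ _ _ _ _ _ h₁ h₂ => GrothLib.Flag27.borel_conj_smooth h₁ h₂,
    fun _ _ _ hB _ _ _ hT => GrothLib.Flag27.isMaximalTorus_comp_borel hB hT,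
    fun hc _ _ _ hB _ _ _ hC => by haveI := hc; exact GrothLib.Flag27.isCartanOver_comp_borel hB hC⟩

end Groth.Agent.S8422
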