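import Groth.Statements.S8424
import Groth.Agent.Lib.Flag27.CartanBorel

set_option autoImplicit false
universe u
open CategoryTheory MonoidalCategory CartesianMonoidalCategory MonObj GrpObj AlgebraicGeometry
open SGA3x

namespace Groth.Agent.S8424

/-- Let G be a smooth algebraic group (not necessarily affine) over an algebraically closed field k, B a
Borel subgroup of G, C a Cartan subgroup of B and N the normalizer of C in G. Then N ∩ B = C: a
point of G with values in a k-scheme factors through N and through B if and only if it factors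
through C. -/
theorem result (k : Type u) [Field k] [IsAlgClosed k]
    (G : Over (Spec (CommRingCat.of k))) [GrpObj G] [Smooth G.hom] [QuasiCompact G.hom]
    (B : Over (Spec (CommRingCat.of k))) [GrpObj B] (b : B ⟶ G) (hB : Red.IsBorelOver k b)
    (C : Over (Spec (CommRingCat.of k))) [GrpObj C] (c : C ⟶ B) (hC : SGA3x.IsCartanOver k c)
    (N : Over (Spec (CommRingCat.of k))) [GrpObj N] (n : N ⟶ G) (hN : Red.IsNormalizerOf (c ≫ b) n)
    (X : Over (Spec (CommRingCat.of k))) (g : X ⟶ G) :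
    ((∃ x : X ⟶ N, x ≫ n = g) ∧ (∃ y : X ⟶ B, y ≫ b = g)) ↔ ∃ z : X ⟶ C, z ≫ c ≫ b = g := by
  obtain ⟨hcm, hcmono, T, _, t, hT, hcen⟩ := hC
  haveI := hcm; haveI := hcmono
  haveI : IsMonHom b := hB.1
  haveI : IsClosedImmersion b.left := hB.2.1
  haveI : Smooth B.hom := hB.2.2.1
  haveI : ConnectedSpace B.left := hB.2.2.2.1
  haveI : Mono b := Over.mono_of_mono_left b
  haveI : QuasiCompact B.hom := by rw [← Over.w b]; infer_instance
  haveI : IsMonHom t := hT.1
  haveI : Mono t := hT.2.1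
  constructor
  · rintro ⟨⟨v, hv⟩, ⟨y, hy⟩⟩
    obtain ⟨z, hz⟩ := GrothLib.Flag27.exists_factor_cartan_solvable hB.2.2.2.2.1 hT.2.2.1 hcen y fun Y p h => by
      obtain ⟨h', e⟩ := ((hN.2.2 X g).1 ⟨v, hv⟩ Y p h).1
      refine ⟨h', ?_⟩
      rw [← cancel_mono b]
      simp only [MonObj.mul_comp, GrpObj.inv_comp, Category.assoc, hy]
      exact e
    exact ⟨z, by rw [← Category.assoc, hz, hy]⟩
  · rintro ⟨z, rfl⟩
    refine ⟨(hN.2.2 X _).2 fun Y p h => ⟨⟨(p ≫ z) * h * (p ≫ z)⁻¹, ?_⟩, ⟨(p ≫ z)⁻¹ * h * (p ≫ z), ?_⟩⟩,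
      z ≫ c, Category.assoc _ _ _⟩ <;>
      simp only [MonObj.mul_comp, GrpObj.inv_comp, Category.assoc]

end Groth.Agent.S8424
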