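import Groth.Statements.S8426
import Groth.Agent.Lib.MultPres14.Basic
import Groth.Agent.Lib.SqLift14.Basic
import Groth.Agent.Lib.QuotTorus14.Split
-- import your own Groth.Agent.* helpers here

set_option autoImplicit false
universe u
open CategoryTheory MonoidalCategory CartesianMonoidalCategory MonObj GrpObj AlgebraicGeometry
open SGA3x

namespace Groth.Agent.S8426

/-- Let S = Spec A be affine, S₀ = Spec(A/J) the closed subscheme defined by an ideal J of square zero,
G an S-group scheme and H₀ a subgroup scheme of G₀ = G ×_S S₀ (a monomorphic homomorphism H₀ → G₀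
which is an immersion) which is smooth and of finite type over S₀ and of multiplicative type. Then G
has a subgroup scheme of multiplicative type (again an immersion) lifting H₀ if and only if G has a
subscheme H′, flat over S, lifting H₀ (H′ ×_S S₀ = H₀ as subschemes of G₀). -/
theorem result (A : Type u) [CommRing A] (J : Ideal A) (hJ : J ^ 2 = ⊥)
    (G : Over (Spec (CommRingCat.of A))) [GrpObj G]
    (H₀ : Over (Spec (CommRingCat.of (A ⧸ J)))) [GrpObj H₀] (j₀ : H₀ ⟶ Red.bc (Spec.map (CommRingCat.ofHom (Ideal.Quotient.mk J))) G) [IsMonHom j₀] [Mono j₀]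
    (hj₀ : IsImmersion j₀.left) [Smooth H₀.hom] [QuasiCompact H₀.hom] (hm₀ : SGA3x.IsMultTypeFT H₀) :
    (∃ (H : Over (Spec (CommRingCat.of A))) (_ : GrpObj H) (j : H ⟶ G), IsMonHom j ∧ Mono j ∧ IsImmersion j.left ∧ SGA3x.IsMultTypeFT H ∧
      ∃ e : Red.bc (Spec.map (CommRingCat.ofHom (Ideal.Quotient.mk J))) H ≅ H₀, e.hom ≫ j₀ = (Over.pullback (Spec.map (CommRingCat.ofHom (Ideal.Quotient.mk J)))).map j) ↔
    (∃ (H' : Scheme.{u}) (h' : H' ⟶ G.left), IsImmersion h' ∧ Flat (h' ≫ G.hom) ∧
      ∃ e : Limits.pullback h' (Limits.pullback.fst G.hom (Spec.map (CommRingCat.ofHom (Ideal.Quotient.mk J)))) ≅ H₀.left,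
        e.hom ≫ j₀.left = Limits.pullback.snd h' (Limits.pullback.fst G.hom (Spec.map (CommRingCat.ofHom (Ideal.Quotient.mk J))))) := by
  let z : Spec (CommRingCat.of (A ⧸ J)) ⟶ Spec (CommRingCat.of A) :=
    Spec.map (CommRingCat.ofHom (Ideal.Quotient.mk J))
  have hnil : IsNilpotent J := ⟨2, hJ⟩
  constructor
  · rintro ⟨H, _, j, hjm, hjmono, hjimm, hH, e, he⟩
    have hch := GrothLib.DiagGrp.hasChartsFpqc_of_isMultTypeFT hH
    haveI : Flat H.hom := GrothLib.DiagGrp.flat_of_charts hch
    have sq := (GrothLib.FibreLocus.isPullback_map_left j z).flip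
    refine ⟨H.left, j.left, hjimm, by rw [Over.w j]; infer_instance,
      sq.isoPullback.symm ≪≫ (Over.forget _).mapIso e, ?_⟩
    have e1 : e.hom.left ≫ j₀.left = ((Over.pullback z).map j).left := congrArg Over.Hom.left he
    show (sq.isoPullback.inv ≫ e.hom.left) ≫ j₀.left = _
    rw [Category.assoc, e1]
    exact sq.isoPullback_inv_snd
  · rintro ⟨H', h', hh', hfl, e, he⟩
    haveI : IsClosedImmersion z := IsClosedImmersion.spec_of_surjective _ Ideal.Quotient.mk_surjective
    haveI : Surjective z := GrothLib.MultHopf14.surjective_specQuot (GrothLib.MultPres14.nil_mem hnil)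
    haveI := hfl
    haveI : Smooth (Limits.pullback.snd h' (Limits.pullback.fst G.hom z) ≫ Limits.pullback.snd G.hom z) := by
      have w : j₀.left ≫ Limits.pullback.snd G.hom z = H₀.hom := Over.w j₀
      erw [← he]
      rw [Category.assoc, w]
      infer_instance
    haveI : Flat ((h' ≫ G.hom) ≫ 𝟙 _) := by rwa [Category.comp_id]
    have hX : Smooth (h' ≫ G.hom) := GrothLib.Deform6.smooth_of_deform (iS := z)
      (GrothLib.MultPres14.isNilpotent_ker_quot hnil) (g := 𝟙 _) (g' := 𝟙 _) (IsPullback.of_vert_isIso ⟨by simp⟩)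
      ((IsPullback.of_hasPullback h' _).paste_vert (IsPullback.of_hasPullback G.hom z))
    obtain ⟨H, iH, hH, ⟨Φ⟩⟩ := GrothLib.MultHopf14.exists_lift_grp J (GrothLib.MultPres14.nil_mem hnil) H₀
      (GrothLib.DiagGrp.hasChartsFpqc_of_isMultTypeFT hm₀)
    haveI : LocallyOfFinitePresentation H.hom := GrothLib.DiagGrp.lfp_of_isMultTypeFT hH
    let φ : Red.bc z H ≅ H₀ := (Grp.forget _).mapIso Φ
    haveI : IsMonHom φ.hom := Φ.hom.hom.isMonHom_hom
    obtain ⟨f, hfm, hf⟩ := GrothLib.SqLift14.exists_hom_lift_of_factor hH J hJ (φ.hom ≫ j₀) h'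
      (GrothLib.AlgSp.isFormallySmoothHom_of_smooth (h' ≫ G.hom))
      (φ.hom.left ≫ e.inv ≫ Limits.pullback.fst h' _) (by
        rw [Category.assoc, Category.assoc, Limits.pullback.condition, Over.comp_left, Category.assoc]
        congr 1
        exact (congrArg (e.inv ≫ · ≫ _) he.symm).trans (by simp))
    haveI : IsIso φ.hom.left := inferInstanceAs (IsIso ((Over.forget _).mapIso φ).hom)
    obtain ⟨himm, hmono⟩ := GrothLib.MultPres14.mono_immersion_of_mod hnil f (by rw [hf, Over.comp_left]; infer_instance)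
    exact ⟨H, iH, f, hfm, hmono, himm, GrothLib.QuotTorus14.isMultTypeFT_of_charts hH, φ, hf.symm⟩

end Groth.Agent.S8426
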