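import Groth.Statements.S8431
import Groth.Agent.Lib.CommTorus14.Basic

set_option autoImplicit false
universe u
open CategoryTheory MonoidalCategory CartesianMonoidalCategory MonObj GrpObj AlgebraicGeometry
open SGA3x

namespace Groth.Agent.S8431

/-- Let G be an algebraic group over a field k and Z a central algebraic subgroup such that G′ = G/Z is
a torus. Then G is commutative. Here q : G → G′ is a homomorphism representing the fppf quotient of
G by Z, and G′ is a k-torus. -/
theorem result (k : Type u) [Field k]
    (G : Over (Spec (CommRingCat.of k))) [GrpObj G] [QuasiCompact G.hom] [LocallyOfFiniteType G.hom]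
    (Z : Over (Spec (CommRingCat.of k))) [GrpObj Z] (z : Z ⟶ G) [IsMonHom z] [Mono z]
    (hz : ∀ (X : Over (Spec (CommRingCat.of k))) (x : X ⟶ Z) (g : X ⟶ G), (x ≫ z) * g = g * (x ≫ z))
    (G' : Over (Spec (CommRingCat.of k))) [GrpObj G'] (q : G ⟶ G') [IsMonHom q] (hq : RedSub.IsQuotient z q) (hT : Red.IsTorus G') :
    ∀ (X : Over (Spec (CommRingCat.of k))) (g h : X ⟶ G), g * h = h * g := by
  exact fun X g h => GrothLib.CommTorus14.comm_of_central_torus z hz q hq hT X g h

end Groth.Agent.S8431
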