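import Groth.Statements.S8434
import Groth.Agent.Lib.BorelCentral14.Basic
import Groth.Agent.S8422
import Groth.Agent.S8430
import Groth.Agent.S4118
import Groth.Agent.S4094
-- import your own Groth.Agent.* helpers here

set_option autoImplicit false
universe u
open CategoryTheory MonoidalCategory CartesianMonoidalCategory MonObj GrpObj AlgebraicGeometry
open SGA3x

namespace Groth.Agent.S8434

set_option backward.isDefEq.respectTransparency false
set_option maxHeartbeats 1600000
set_option synthInstance.maxHeartbeats 200000

open CategoryTheory.Limits in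
/-- A connected smooth group over an algebraically closed field has a Cartan subgroup. -/
theorem exists_cartan {K : Type u} [Field K] [IsAlgClosed K] (B : Over (Spec (CommRingCat.of K))) [GrpObj B]
    [Smooth B.hom] [QuasiCompact B.hom] [ConnectedSpace ↥B.left] :
    ∃ (C : Over (Spec (CommRingCat.of K))) (_ : GrpObj C) (c : C ⟶ B), SGA3x.IsCartanOver K c := by
  haveI : IsSeparated B.hom := GrothLib.GrpSchField.isSeparated B
  obtain ⟨T, gT, t, ht⟩ := Groth.Agent.S12072.exists_maximalTorus B
  obtain ⟨C, gC, c, hc, -⟩ := Groth.Agent.S4118.result _ B T t ht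
  exact ⟨C, gC, c, hc.1, hc.2.1, T, gT, t, ht, hc⟩

/-- Let G, G′ be S-group schemes, smooth and of finite presentation over S with connected fibres, and u
: G → G′ a faithfully flat homomorphism whose kernel is central in G. Then B′ ↦ u⁻¹(B′) sends Borel
subgroups of G′ (subgroup schemes smooth and of finite presentation over S whose geometric fibres
are Borel subgroups) to Borel subgroups of G, and every Borel subgroup of G arises in this way: if
B′ is a Borel subgroup of G′ and B is an S-group scheme with homomorphisms b : B → G and v : B → B′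
making B = G ×_{G′} B′, then B is a Borel subgroup of G; and every Borel subgroup of G is such an
inverse image of some Borel subgroup of G′. (The published statement says that B′ ↦ u⁻¹(B′) is a
bijection; its injectivity, a consequence of faithful flatness of u, is not stated here.) -/
theorem result (S : Scheme.{u}) (G G' : Over S) [GrpObj G] [GrpObj G']
    [Smooth G.hom] [QuasiCompact G.hom] [QuasiSeparated G.hom] [Smooth G'.hom] [QuasiCompact G'.hom] [QuasiSeparated G'.hom]
    (hconn : ∀ s : S, _root_.IsConnected (G.hom.base ⁻¹' {s})) (hconn' : ∀ s : S, _root_.IsConnected (G'.hom.base ⁻¹' {s}))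
    (u : G ⟶ G') [IsMonHom u] [Flat u.left] [Surjective u.left]
    (hker : ∀ (X : Over S) (z : X ⟶ G), z ≫ u = 1 → ∀ (X' : Over S) (x : X' ⟶ X) (g : X' ⟶ G),
      (x ≫ z) * g = g * (x ≫ z)) :
    (∀ (B' : Over S) [GrpObj B'] (b' : B' ⟶ G'), (IsMonHom b' ∧ Mono b' ∧ Smooth B'.hom ∧ QuasiCompact B'.hom ∧
      ∀ s : S, Red.IsBorelOver (AlgebraicClosure (S.residueField s)) ((Over.pullback (Red.geomPt s)).map b')) →
      ∀ (B : Over S) [GrpObj B] (b : B ⟶ G) [IsMonHom b] (v : B ⟶ B') [IsMonHom v], IsPullback b v u b' → (IsMonHom b ∧ Mono b ∧ Smooth B.hom ∧ QuasiCompact B.hom ∧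
      ∀ s : S, Red.IsBorelOver (AlgebraicClosure (S.residueField s)) ((Over.pullback (Red.geomPt s)).map b))) ∧
    (∀ (B : Over S) [GrpObj B] (b : B ⟶ G), (IsMonHom b ∧ Mono b ∧ Smooth B.hom ∧ QuasiCompact B.hom ∧
      ∀ s : S, Red.IsBorelOver (AlgebraicClosure (S.residueField s)) ((Over.pullback (Red.geomPt s)).map b)) →
      ∃ (B' : Over S) (_ : GrpObj B') (b' : B' ⟶ G') (v : B ⟶ B'), (IsMonHom b' ∧ Mono b' ∧ Smooth B'.hom ∧ QuasiCompact B'.hom ∧
      ∀ s : S, Red.IsBorelOver (AlgebraicClosure (S.residueField s)) ((Over.pullback (Red.geomPt s)).map b')) ∧ IsMonHom v ∧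
        IsPullback b v u b') := by
  haveI : LocallyOfFinitePresentation G.hom := inferInstance
  haveI : LocallyOfFiniteType G'.hom := inferInstance
  haveI : LocallyOfFinitePresentation u.left := GrothLib.DiagGrp.lfp_of_comp_of_lft u.left G'.hom
    (by rw [Over.w u]; infer_instance) inferInstance
  have hg : ∀ s : S, Flat ((Over.pullback (Red.geomPt s)).map u).left ∧
      Surjective ((Over.pullback (Red.geomPt s)).map u).left := fun s =>
    ⟨MorphismProperty.baseChange_map (P := @Flat) _ u ‹_›, MorphismProperty.baseChange_map (P := @Surjective) _ u ‹_›⟩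
  have hkerK : ∀ (s : S) (X : Over (Spec (CommRingCat.of (AlgebraicClosure (S.residueField s)))))
      (z : X ⟶ Red.bc (Red.geomPt s) G), z ≫ (Over.pullback (Red.geomPt s)).map u = 1 →
      ∀ g : X ⟶ Red.bc (Red.geomPt s) G, z * g = g * z := fun s X z hz g => by
    let e := fun (H : Over S) [GrpObj H] => GrothLib.DiagGrp.bcPointMulEquiv (Red.geomPt s) H X
    obtain ⟨z, rfl⟩ := (e G).surjective z
    obtain ⟨g, rfl⟩ := (e G).surjective g
    have h1 : z ≫ u = 1 := (e G').injective (by
      rw [map_one, ← hz]
      exact GrothLib.DiagGrp.bcPoint_comp_right _ _ _)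
    rw [← map_mul, ← map_mul, ← Category.id_comp z, hker _ z h1 _ (𝟙 _) g]
  constructor
  · intro B' _ b' hB' B _ b _ v _ sq
    obtain ⟨hb'm, hb'mono, hB's, hB'q, hgeo⟩ := hB'
    haveI := hb'm; haveI := hb'mono; haveI := hB's; haveI := hB'q
    have hH' : ∀ s : S, ∃ (C' : Over (Spec (CommRingCat.of (AlgebraicClosure (S.residueField s))))) (_ : GrpObj C')
        (c' : C' ⟶ Red.geomFibre s B'), SGA3x.IsCartanOver _ (c' ≫ (Over.pullback (Red.geomPt s)).map b') := fun s => by
      haveI : Smooth (Red.geomFibre s B').hom := MorphismProperty.pullback_snd (P := @Smooth) _ _ hB's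
      haveI : QuasiCompact (Red.geomFibre s B').hom := MorphismProperty.pullback_snd (P := @QuasiCompact) _ _ hB'q
      haveI := (hgeo s).2.2.2.1
      obtain ⟨C', gC', c', hc'⟩ := exists_cartan (Red.geomFibre s B')
      haveI : Smooth (Red.geomFibre s G').hom := MorphismProperty.pullback_snd (P := @Smooth) _ _ ‹Smooth G'.hom›
      haveI : QuasiCompact (Red.geomFibre s G').hom := MorphismProperty.pullback_snd (P := @QuasiCompact) _ _ ‹QuasiCompact G'.hom›
      exact ⟨C', gC', c', (Groth.Agent.S8422.result _ (Red.geomFibre s G')).2.2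
        (Groth.Agent.S8430.connectedSpace_geom G' s (hconn' s)) _ _ (hgeo s) C' c' hc'⟩
    obtain ⟨hPs, hPq, -, hPc⟩ := Groth.Agent.S8430.result S G G' hconn u
      (fun s => ⟨MorphismProperty.baseChange_map (P := @Surjective) _ u ‹_›,
        MorphismProperty.baseChange_map (P := @Flat) _ u ‹_›⟩) hker B' b' hH'
    have hP := hPc.2 fun s => Groth.Agent.S8430.isConnected_fibre B' s (hgeo s).2.2.2.1
    let e : B ≅ Limits.pullback b' u := sq.flip.isoPullback
    haveI : IsIso e.hom.left := inferInstanceAs (IsIso ((Over.forget _).mapIso e).hom)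
    haveI : IsIso e.inv.left := inferInstanceAs (IsIso ((Over.forget _).mapIso e).inv)
    haveI := hPs; haveI := hPq
    haveI : Mono b := ⟨fun a c h => sq.hom_ext h ((cancel_mono b').1 (by
      rw [Category.assoc, Category.assoc, ← sq.w, reassoc_of% h]))⟩
    haveI hBs : Smooth B.hom := by rw [← Over.w e.hom]; infer_instance
    have hBq : QuasiCompact B.hom := by rw [← Over.w e.hom]; infer_instance
    have sqL := GrothLib.BorelCentral14.isPullback_left sq
    haveI : Flat v.left := MorphismProperty.of_isPullback (P := @Flat) sqL ‹Flat u.left›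
    haveI : Surjective v.left := MorphismProperty.of_isPullback (P := @Surjective) sqL ‹Surjective u.left›
    refine ⟨inferInstance, inferInstance, hBs, hBq, fun s => ?_⟩
    obtain ⟨hf, hsu⟩ := hg s
    haveI := hf; haveI := hsu
    let g := Red.geomPt s
    haveI : Smooth (Red.bc g G).hom := MorphismProperty.pullback_snd (P := @Smooth) _ _ ‹Smooth G.hom›
    haveI : QuasiCompact (Red.bc g G).hom := MorphismProperty.pullback_snd (P := @QuasiCompact) _ _ ‹QuasiCompact G.hom›
    haveI : Smooth (Red.bc g G').hom := MorphismProperty.pullback_snd (P := @Smooth) _ _ ‹Smooth G'.hom›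
    haveI : QuasiCompact (Red.bc g G').hom := MorphismProperty.pullback_snd (P := @QuasiCompact) _ _ ‹QuasiCompact G'.hom›
    haveI : Smooth (Red.bc g B).hom := MorphismProperty.pullback_snd (P := @Smooth) _ _ hBs
    haveI : Flat ((Over.pullback g).map v).left := MorphismProperty.baseChange_map (P := @Flat) g v ‹_›
    haveI : Surjective ((Over.pullback g).map v).left := MorphismProperty.baseChange_map (P := @Surjective) g v ‹_›
    haveI : ConnectedSpace (Red.bc g B).left := Groth.Agent.S8430.connectedSpace_geom B s (by
      have h := hP s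
      have he : (Limits.pullback b' u).hom.base ⁻¹' {s} = e.hom.left.base '' (B.hom.base ⁻¹' {s}) := by
        rw [show B.hom.base ⁻¹' {s} = e.hom.left.base ⁻¹' ((Limits.pullback b' u).hom.base ⁻¹' {s}) by
          rw [← Over.w e.hom]; rfl, Set.image_preimage_eq _ e.hom.left.surjective]
      have he' : B.hom.base ⁻¹' {s} = e.inv.left.base '' ((Limits.pullback b' u).hom.base ⁻¹' {s}) := by
        rw [he, ← Set.image_comp]
        have h0 : ∀ x, e.inv.left.base (e.hom.left.base x) = x := fun x => by
          rw [← Scheme.Hom.comp_apply, ← Over.comp_left, e.hom_inv_id]; rfl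
        simp only [Function.comp_def, h0, Set.image_id']
      rw [he']
      exact h.image _ e.inv.left.continuous.continuousOn)
    exact GrothLib.BorelCentral14.isBorel_preimage ((Over.pullback g).map u) (hkerK s) ((Over.pullback g).map b)
      ((Over.pullback g).map v) ((Over.pullback g).map b') (sq.map (Over.pullback g)) (hgeo s)
  · intro B _ b hB
    obtain ⟨hbm, hbmono, hBs, hBq, hgeo⟩ := hB
    haveI := hbm; haveI := hbmono; haveI := hBs; haveI := hBq
    obtain ⟨hbc, hbN⟩ := GrothLib.BorelCentral14.closed_normalizer_borel_mono hconn hBs hgeo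
    haveI := hbc
    have hcont : ∀ (X : Over S) (z : X ⟶ G), z ≫ u = 1 → ∃ z' : X ⟶ B, z' ≫ b = z := fun X z hz =>
      (hbN.2.2 X z).2 fun X' x h => by
        have e1 := hker X z hz X' x (h ≫ b)
        exact ⟨⟨h, by rw [e1, mul_inv_cancel_right]⟩, ⟨h, by rw [_root_.mul_assoc, ← e1, inv_mul_cancel_left]⟩⟩
    obtain ⟨z', hz'⟩ := hcont _ (Limits.pullback.fst u η[G']) (by
      rw [Limits.pullback.condition, Hom.one_def, toUnit_unique (Limits.pullback.snd u η[G']) (toUnit _)])
    let k : Limits.pullback u η[G'] ⟶ Limits.pullback (b ≫ u) η[G'] :=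
      Limits.pullback.lift z' (Limits.pullback.snd _ _) (by rw [reassoc_of% hz', Limits.pullback.condition])
    let k' : Limits.pullback (b ≫ u) η[G'] ⟶ Limits.pullback u η[G'] :=
      Limits.pullback.lift (Limits.pullback.fst _ _ ≫ b) (Limits.pullback.snd _ _)
        (by rw [Category.assoc, Limits.pullback.condition])
    haveI : IsIso k' := ⟨k, by
      apply Limits.pullback.hom_ext
      · rw [Category.assoc, Limits.pullback.lift_fst, Category.id_comp, ← cancel_mono b, Category.assoc, hz',
          Limits.pullback.lift_fst]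
      · exact Subsingleton.elim _ _, by
      apply Limits.pullback.hom_ext
      · rw [Category.assoc, Limits.pullback.lift_fst, Limits.pullback.lift_fst_assoc, hz', Category.id_comp]
      · exact Subsingleton.elim _ _⟩
    haveI : IsIso k'.left := inferInstanceAs (IsIso ((Over.forget _).map k'))
    have hKflat : Flat (Limits.pullback u η[G']).hom := by
      rw [← Over.w (Limits.pullback.snd u η[G'])]
      haveI : Flat (Limits.pullback.snd u η[G']).left := MorphismProperty.of_isPullback (P := @Flat)
        (GrothLib.BorelCentral14.isPullback_left (IsPullback.of_hasPullback u η[G'])) ‹Flat u.left›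
      haveI : IsIso (𝟙_ (Over S)).hom := inferInstanceAs (IsIso (𝟙 S))
      infer_instance
    obtain ⟨Q, gQ, p, i, hpm, him, hpi, hps, hpf, hpl, himono, hQl, -⟩ := Groth.Agent.S4094.result S B G' (b ≫ u)
      (by rw [← Over.w k']; infer_instance)
    haveI := hpm; haveI := him; haveI := hps; haveI := hpf; haveI := hpl; haveI := himono; haveI := hQl
    haveI : Smooth Q.hom := GrothLib.FppfSource.fppfSourceDescends_smooth p.left Q.hom hpf hpl hps
      (by rw [Over.w p]; infer_instance)
    haveI : QuasiCompact Q.hom := by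
      haveI : QuasiCompact (p.left ≫ Q.hom) := by rw [Over.w p]; infer_instance
      exact GrothLib.Thickening.quasiCompact_of_comp_surjective p.left Q.hom
    have hlift : ∀ (X : Over S) (g : X ⟶ G) (q : X ⟶ Q), g ≫ u = q ≫ i → ∃ x : X ⟶ B, x ≫ b = g := by
      intro X g q hgq
      let w : Limits.pullback q p ⟶ X := Limits.pullback.fst q p
      let β : Limits.pullback q p ⟶ B := Limits.pullback.snd q p
      have sqw := (GrothLib.BorelCentral14.isPullback_left (IsPullback.of_hasPullback q p)).flip
      haveI : Flat w.left := MorphismProperty.of_isPullback (P := @Flat) sqw hpf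
      haveI : Surjective w.left := MorphismProperty.of_isPullback (P := @Surjective) sqw hps
      haveI : LocallyOfFinitePresentation w.left :=
        MorphismProperty.of_isPullback (P := @LocallyOfFinitePresentation) sqw hpl
      have h0 : ((β ≫ b)⁻¹ * (w ≫ g)) ≫ u = 1 := by
        rw [MonObj.mul_comp, GrpObj.inv_comp, Category.assoc, Category.assoc, hgq, ← hpi,
          ← Category.assoc w q i, Limits.pullback.condition, Category.assoc, inv_mul_cancel]
      obtain ⟨z, hz⟩ := hcont _ _ h0
      have hwb : (β * z) ≫ b = w ≫ g := by rw [MonObj.mul_comp, hz, mul_inv_cancel_left]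
      obtain ⟨x, hx⟩ := GrothLib.QuotTorus14.exists_desc w (β * z) fun R _ pp a a' haa => by
        rw [← cancel_mono b, Category.assoc, Category.assoc, hwb, reassoc_of% haa]
      haveI := GrothLib.QuotTorus14.epi_of_flat_surjective w
      exact ⟨x, (cancel_epi w).1 (by rw [reassoc_of% hx, hwb])⟩
    have sq : IsPullback b p u i := by
      refine ⟨⟨hpi.symm⟩, ⟨Limits.PullbackCone.IsLimit.mk _ (fun c => (hlift _ c.fst c.snd c.condition).choose)
        (fun c => (hlift _ c.fst c.snd c.condition).choose_spec) (fun c => ?_) (fun c m h1 _ => ?_)⟩⟩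
      · rw [← cancel_mono i, Category.assoc, hpi, reassoc_of% (hlift _ c.fst c.snd c.condition).choose_spec,
          c.condition]
      · rw [← cancel_mono b]
        exact h1.trans (hlift _ c.fst c.snd c.condition).choose_spec.symm
    refine ⟨Q, gQ, i, p, ⟨him, himono, inferInstance, inferInstance, fun s => ?_⟩, hpm, sq⟩
    obtain ⟨hf, hsu⟩ := hg s
    haveI := hf; haveI := hsu
    let g := Red.geomPt s
    haveI : Smooth (Red.bc g G).hom := MorphismProperty.pullback_snd (P := @Smooth) _ _ ‹Smooth G.hom›
    haveI : QuasiCompact (Red.bc g G).hom := MorphismProperty.pullback_snd (P := @QuasiCompact) _ _ ‹QuasiCompact G.hom›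
    haveI : Smooth (Red.bc g G').hom := MorphismProperty.pullback_snd (P := @Smooth) _ _ ‹Smooth G'.hom›
    haveI : QuasiCompact (Red.bc g G').hom := MorphismProperty.pullback_snd (P := @QuasiCompact) _ _ ‹QuasiCompact G'.hom›
    haveI : Smooth (Red.bc g Q).hom := MorphismProperty.pullback_snd (P := @Smooth) _ _ ‹Smooth Q.hom›
    haveI : Flat ((Over.pullback g).map p).left := MorphismProperty.baseChange_map (P := @Flat) g p ‹_›
    haveI : Surjective ((Over.pullback g).map p).left := MorphismProperty.baseChange_map (P := @Surjective) g p ‹_›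
    haveI : Mono ((Over.pullback g).map i) := GrothLib.MaxTorBC14.mono_map g i
    exact GrothLib.BorelCentral14.isBorel_image ((Over.pullback g).map u) (hkerK s) ((Over.pullback g).map b)
      ((Over.pullback g).map p) ((Over.pullback g).map i) (sq.map (Over.pullback g)) (hgeo s)

end Groth.Agent.S8434
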