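import Groth.Statements.S8441
import Mathlib.LinearAlgebra.RootSystem.Base

set_option autoImplicit false
universe u v w
open SGA3t2b

namespace Groth.Agent.S8441

/-- Let R be a root system with a system of simple roots a₁, …, aₙ and simple reflections rᵢ, and put θᵢ
= rₙ ⋯ rᵢ₊₁(aᵢ). Then the θᵢ form a basis of the group generated by the roots. Stated for a root
pairing over ℤ (Mathlib) with a base whose support is enumerated by Fin n: the θᵢ are ℤ-linearly
independent and their ℤ-span is the ℤ-span of all roots. -/
theorem result {ι : Type u} {M : Type v} {N : Type w} [AddCommGroup M] [Module ℤ M]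
    [AddCommGroup N] [Module ℤ N] (P : RootPairing ι ℤ M N) (b : P.Base) (n : ℕ) (e : Fin n ≃ ↥b.support) :
    LinearIndependent ℤ (fun i : Fin n =>
      ((List.finRange n).filter (fun j => i < j)).foldl (fun x j => P.reflection (e j : ι) x) (P.root (e i : ι))) ∧
    Submodule.span ℤ (Set.range (fun i : Fin n =>
      ((List.finRange n).filter (fun j => i < j)).foldl (fun x j => P.reflection (e j : ι) x) (P.root (e i : ι)))) =
      Submodule.span ℤ (Set.range P.root) := by
  classical
  obtain rfl : ‹Module ℤ M› = AddCommGroup.toIntModule M := Subsingleton.elim _ _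
  let a : Fin n → M := fun j => P.root (e j : ι)
  have hmem : ∀ (l : List (Fin n)) (i : Fin n), (∀ j ∈ l, i < j) → ∀ x, x - a i ∈ Submodule.span ℤ (a '' Set.Ioi i) →
      l.foldl (fun x j => P.reflection (e j : ι) x) x - a i ∈ Submodule.span ℤ (a '' Set.Ioi i) := by
    intro l i
    induction l with
    | nil => intro _ x hx; exact hx
    | cons j l ih =>
      intro hl x hx
      refine ih (fun m hm => hl m (List.mem_cons_of_mem _ hm)) _ ?_
      change P.reflection (e j : ι) x - a i ∈ _
      rw [RootPairing.reflection_apply, sub_right_comm]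
      refine Submodule.sub_mem _ hx (Submodule.smul_mem _ _ (Submodule.subset_span ⟨j, hl j List.mem_cons_self, rfl⟩))
  let θ : Fin n → M := fun i =>
    ((List.finRange n).filter (fun j => i < j)).foldl (fun x j => P.reflection (e j : ι) x) (P.root (e i : ι))
  have hθ : ∀ i, θ i - a i ∈ Submodule.span ℤ (a '' Set.Ioi i) := fun i =>
    hmem _ i (fun j hj => by simpa using List.of_mem_filter hj) _ (by simp [a])
  have hli : LinearIndependent ℤ a :=
    (b.linearIndepOn_root.linearIndependent.comp e e.injective)
  have hrange : Set.range a = P.root '' (b.support : Set ι) := by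
    ext x
    constructor
    · rintro ⟨j, rfl⟩; exact ⟨e j, (e j).2, rfl⟩
    · rintro ⟨m, hm, rfl⟩; exact ⟨e.symm ⟨m, hm⟩, by simp [a]⟩
  choose f hf1 hf2 using fun i => (Finsupp.mem_span_image_iff_linearCombination ℤ).1 (hθ i)
  have hθe : ∀ i, θ i = a i + ∑ j, f i j • a j := by
    intro i
    rw [← add_sub_cancel (a i) (θ i), ← hf2 i, Finsupp.linearCombination_apply, Finsupp.sum_fintype _ _ (by simp)]
  have hzero : ∀ i j, ¬ i < j → f i j = 0 := fun i j h => by
    by_contra h'
    exact h ((Finsupp.mem_supported ℤ _).1 (hf1 i) (Finsupp.mem_support_iff.2 h'))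
  refine ⟨?_, ?_⟩
  · change LinearIndependent ℤ θ
    rw [Fintype.linearIndependent_iff]
    intro c hc
    have hc' : ∑ j, (c j + ∑ i, c i * f i j) • a j = 0 := by
      rw [← hc]
      simp only [hθe, smul_add, Finset.smul_sum, add_smul, Finset.sum_smul, Finset.sum_add_distrib, mul_zsmul', mul_smul]
      rw [Finset.sum_comm]
    have h2 := Fintype.linearIndependent_iff.1 hli _ hc'
    intro j
    induction j using WellFoundedLT.induction with
    | _ j ih =>
      have h3 : ∑ i, c i * f i j = 0 := Finset.sum_eq_zero fun i _ => by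
        rcases lt_or_ge i j with h | h
        · rw [ih i h, zero_mul]
        · rw [hzero i j (not_lt.2 h), mul_zero]
      simpa [h3] using h2 j
  · change Submodule.span ℤ (Set.range θ) = _
    rw [← b.span_int_root_support, ← hrange]
    refine le_antisymm (Submodule.span_le.2 ?_) (Submodule.span_le.2 ?_)
    · rintro _ ⟨i, rfl⟩
      rw [SetLike.mem_coe, ← add_sub_cancel (a i) (θ i)]
      exact Submodule.add_mem _ (Submodule.subset_span ⟨i, rfl⟩)
        (Submodule.span_mono (Set.image_subset_range _ _) (hθ i))
    · rintro _ ⟨i, rfl⟩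
      induction i using WellFoundedGT.induction with
      | _ i ih =>
        rw [SetLike.mem_coe, ← sub_sub_cancel (θ i) (a i)]
        refine Submodule.sub_mem _ (Submodule.subset_span ⟨i, rfl⟩) ?_
        refine Submodule.span_le.2 ?_ (hθ i)
        rintro _ ⟨j, hj, rfl⟩
        exact ih j hj


end Groth.Agent.S8441
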