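import Groth.Statements.S8443
-- import your own Groth.Agent.* helpers here
import Groth.Agent.Lib.Chev24.CartanTorusMain

set_option autoImplicit false
universe u
open CategoryTheory MonoidalCategory CartesianMonoidalCategory MonObj GrpObj AlgebraicGeometry
open SGA3x

namespace Groth.Agent.S8443

/-- Let G be an S-group scheme, smooth and of finite presentation over S with connected fibres, and i :
H → G a monomorphism of S-groups with H smooth over S whose geometric fibres are connected and
contain a Cartan subgroup of the corresponding geometric fibre of G. If G admits a maximal torus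
locally for the etale topology (resp. for the fpqc topology), then so does H. (The published item
also covers Cartan subgroups; this row states only the maximal-torus halves.) -/
theorem result (S : Scheme.{u}) (G : Over S) [GrpObj G]
    [Smooth G.hom] [QuasiCompact G.hom] [QuasiSeparated G.hom] (hconn : ∀ s : S, _root_.IsConnected (G.hom.base ⁻¹' {s}))
    (H : Over S) [GrpObj H] [Smooth H.hom] (i : H ⟶ G) [IsMonHom i] [Mono i]
    (hHconn : ∀ s : S, ConnectedSpace ↥(Red.geomFibre s H).left)
    (hHC : ∀ s : S, ∃ (C' : Over (Spec (CommRingCat.of (AlgebraicClosure (S.residueField s))))) (_ : GrpObj C')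
      (c' : C' ⟶ Red.geomFibre s H), SGA3x.IsCartanOver _ (c' ≫ (Over.pullback (Red.geomPt s)).map i)) :
    (SGA3x.HasMaxTorusEtaleLocally G → SGA3x.HasMaxTorusEtaleLocally H) ∧
    (SGA3x.HasMaxTorusFpqcLocally G → SGA3x.HasMaxTorusFpqcLocally H) := by
  haveI : LocallyOfFinitePresentation G.hom := inferInstance
  haveI : UniversallyOpen G.hom := inferInstance
  haveI : IsSeparated G.hom := (Groth.Agent.S3025.result S G hconn).1
  refine ⟨fun ⟨S', f, hf, hfs, T, _, iT, hT⟩ => ?_, fun ⟨S', f, hf, hfs, hfq, T, _, iT, hT⟩ => ?_⟩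
  · obtain ⟨S'', f', hf', hfs', R⟩ := GrothLib.Chev24.exists_maxTorus_sub i hHconn hHC f iT hT
    haveI := hf; haveI := hfs; haveI := hf'; haveI := hfs'
    exact ⟨S'', f' ≫ f, inferInstance, inferInstance, R⟩
  · obtain ⟨S'', f', hf', hfs', R⟩ := GrothLib.Chev24.exists_maxTorus_sub i hHconn hHC f iT hT
    haveI := hf; haveI := hfs; haveI := hf'; haveI := hfs'
    refine ⟨S'', f' ≫ f, inferInstance, inferInstance, fun V hV => ?_, R⟩
    obtain ⟨W, hW, hWV⟩ := hfq V hV
    obtain ⟨W', hW', hW'W⟩ := GrothLib.Chev24.exists_compact_cover f' W hW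
    exact ⟨W', hW', by
      rw [← hWV, ← hW'W, ← Set.image_comp]
      rfl⟩

end Groth.Agent.S8443
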