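import Groth.Statements.S8447
import Groth.Agent.Lib.RankComm14.Reductive

set_option backward.isDefEq.respectTransparency false
-- import your own Groth.Agent.* helpers here

set_option autoImplicit false
universe u
open CategoryTheory MonoidalCategory CartesianMonoidalCategory MonObj GrpObj AlgebraicGeometry CategoryTheory.Limits
open Red

namespace Groth.Agent.S8447

/-- Let G be a reductive S-group, i : T ⟶ G a maximal torus, α a character of T non-trivial on every
geometric fibre, and p₊, p₋ : 𝔾_a ⟶ G monomorphisms of groups normalised by T with multipliers α and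
α⁻¹ such that 𝔾_a ×_S T ×_S 𝔾_a ⟶ G, (y, t, x) ↦ p₋(y) i(t) p₊(x), is an open immersion (a rank-one
system: G has semisimple rank 1 and p₊, p₋ trivialise the root groups of α and -α). Then the centre
of G is Ker α: a point g of G with values in an S-scheme X commutes with all points of G after every
base change X' ⟶ X if and only if g = i(t) for some X-point t of T with α(t) = 1. (In particular the
centre is a closed subgroup of multiplicative type; only the equality of points is stated.) -/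
theorem result (S : Scheme.{u}) (G T : Over S) [GrpObj G] [GrpObj T] (i : T ⟶ G) [IsMonHom i] [Mono i] (hG : Red.IsReductive G) (hTm : Red.IsMaximalTorus i)
    (α : T ⟶ Red.Gm S) [IsMonHom α] (hα : ∀ s : S, (Over.pullback (Red.geomPt s)).map α ≠ 1)
    (pp pm : Red.Ga S ⟶ G) [IsMonHom pp] [Mono pp] [IsMonHom pm] [Mono pm]
    (hpp : ∀ (X : Over S) (t : X ⟶ T) (x : X ⟶ Red.Ga S), ∃ x' : X ⟶ Red.Ga S,
      x' ≫ pp = (t ≫ i) * (x ≫ pp) * (t ≫ i)⁻¹ ∧ Red.gaFn x' = Red.gmFn (t ≫ α) * Red.gaFn x)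
    (hpm : ∀ (X : Over S) (t : X ⟶ T) (y : X ⟶ Red.Ga S), ∃ y' : X ⟶ Red.Ga S,
      y' ≫ pm = (t ≫ i) * (y ≫ pm) * (t ≫ i)⁻¹ ∧ Red.gaFn y' * Red.gmFn (t ≫ α) = Red.gaFn y)
    (hΩ : IsOpenImmersion (((pm ⊗ₘ i) ⊗ₘ pp) ≫ (μ[G] ▷ G) ≫ μ[G]).left) (X : Over S) (g : X ⟶ G) :
    (∀ (X' : Over S) (x : X' ⟶ X) (k : X' ⟶ G), (x ≫ g) * k = k * (x ≫ g)) ↔
      ∃ t : X ⟶ T, t ≫ i = g ∧ t ≫ α = 1 := by
  obtain ⟨av, c, H, hΩ'⟩ := GrothLib.RankComm14.exists_hyp hG hTm hα hpp hpm hΩ
  haveI := hΩ'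
  haveI := H.monP
  haveI : Smooth G.hom := hG.2.1
  have hconn : ∀ s : S, ConnectedSpace (Red.geomFibre s G).left := fun s => (hG.2.2 s).2.2.1
  constructor
  · intro hg
    obtain ⟨t, rfl⟩ := GrothLib.RankCell14.torus_of_commute H hTm.2.2.1 hconn Nat.one_pos g
      (fun X' y l => (hg X' y ((H.datum X').C (l ^ 1))).symm)
    refine ⟨t, rfl, ?_⟩
    obtain ⟨x', hx, hx'⟩ := hpp X t (GrothLib.RedPts.gaPt 1)
    have h1 := hg X (𝟙 X) (GrothLib.RedPts.gaPt 1 ≫ pp)
    rw [Category.id_comp] at h1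
    rw [h1, mul_inv_cancel_right, cancel_mono] at hx
    rw [hx, GrothLib.RedPts.gaFn_gaPt, _root_.mul_one] at hx'
    exact GmPts.gmFn_injective (hx'.symm.trans GmPts.gmFn_one.symm)
  · rintro ⟨t, rfl, ht⟩ X' x k
    rw [← Category.assoc]
    have ht' : (x ≫ t) ≫ α = 1 := by rw [Category.assoc, ht, MonObj.comp_one]
    generalize x ≫ t = t' at ht'
    clear x
    have hcell : ∀ {Y : Over S} (g : Y ⟶ G) (t₀ : Y ⟶ T), t₀ ≫ α = 1 →
        (∀ z, g.left.base z ∈ Set.range (GrothLib.RankCell14.cell i ((GrothLib.RankCell14.scaleIso c).hom ≫ pp) pm).left.base) →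
        (t₀ ≫ i) * g = g * (t₀ ≫ i) := by
      intro Y g t₀ h0 hg
      obtain ⟨a, t₁, b, rfl⟩ := GrothLib.RankCell14.exists_coords' H g hg
      have hχ : (H.datum Y).χ t₀ = 1 := Units.ext ((H.χ_eq t₀).symm.trans (by rw [h0, GmPts.gmFn_one]; rfl))
      have hu : (H.datum Y).i t₀ * (H.datum Y).u b = (H.datum Y).u b * (H.datum Y).i t₀ := by
        rw [(H.datum Y).i_u, hχ, Units.val_one, _root_.one_mul]
      have hv : (H.datum Y).i t₀ * (H.datum Y).v a = (H.datum Y).v a * (H.datum Y).i t₀ := by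
        rw [(H.datum Y).i_v, hχ, inv_one, Units.val_one, _root_.one_mul]
      have hc : (H.datum Y).i t₀ * (H.datum Y).i t₁ = (H.datum Y).i t₁ * (H.datum Y).i t₀ := by
        rw [← map_mul, ← map_mul, GrothLib.RankCell14.comm_torus hTm.2.2.1]
      change (H.datum Y).i t₀ * _ = _ * (H.datum Y).i t₀
      rw [← _root_.mul_assoc, ← _root_.mul_assoc, hv, _root_.mul_assoc _ ((H.datum Y).i t₀), hc, ← _root_.mul_assoc,
        _root_.mul_assoc _ ((H.datum Y).i t₀), hu, ← _root_.mul_assoc]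
    have hw : ∀ {Y : Over S} (t₀ : Y ⟶ T), t₀ ≫ α = 1 →
        (t₀ ≫ i) * (H.datum Y).w 1 = (H.datum Y).w 1 * (t₀ ≫ i) := by
      intro Y t₀ h0
      have hχ : (H.datum Y).χ t₀ = 1 := Units.ext ((H.χ_eq t₀).symm.trans (by rw [h0, GmPts.gmFn_one]; rfl))
      have h := (H.datum Y).conj_w t₀ 1
      rw [hχ, _root_.one_mul, mul_inv_eq_iff_eq_mul] at h
      exact h
    let Ω := (GrothLib.RankCell14.cell i ((GrothLib.RankCell14.scaleIso c).hom ≫ pp) pm).left.opensRange
    let V : Bool → X'.left.Opens := fun j => if j then k.left ⁻¹ᵁ Ω else (((H.datum X').w 1)⁻¹ * k).left ⁻¹ᵁ Ω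
    have hV : TopologicalSpace.IsOpenCover V := by
      refine TopologicalSpace.Opens.ext (Set.eq_univ_of_forall fun z => ?_)
      rw [TopologicalSpace.Opens.coe_iSup, Set.mem_iUnion]
      rcases GrothLib.RankCell14.mem_or_mem H hconn k z with h | h
      · exact ⟨true, h⟩
      · exact ⟨false, h⟩
    apply Over.OverMorphism.ext
    refine (Scheme.openCoverOfIsOpenCover X'.left V hV).hom_ext _ _ fun j => ?_
    let o : Over.mk ((V j).ι ≫ X'.hom) ⟶ X' := Over.homMk (V j).ι rfl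
    suffices ho : o ≫ ((t' ≫ i) * k) = o ≫ (k * (t' ≫ i)) from congrArg Over.Hom.left ho
    rw [MonObj.comp_mul, MonObj.comp_mul, ← Category.assoc]
    have h0 : (o ≫ t') ≫ α = 1 := by rw [Category.assoc, ht', MonObj.comp_one]
    cases j with
    | true =>
      refine hcell _ _ h0 fun z => ?_
      rw [Over.comp_left, Scheme.Hom.comp_apply]
      exact z.2
    | false =>
      have hk : o ≫ k = (H.datum _).w 1 * (o ≫ (((H.datum X').w 1)⁻¹ * k)) := by
        rw [MonObj.comp_mul, GrpObj.comp_inv, GrothLib.RankCell14.w1_comp, mul_inv_cancel_left]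
      rw [hk, ← _root_.mul_assoc, hw _ h0, _root_.mul_assoc, hcell _ _ h0 (fun z => ?_), ← _root_.mul_assoc]
      rw [Over.comp_left, Scheme.Hom.comp_apply]
      exact z.2

end Groth.Agent.S8447
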