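import Groth.Statements.S8450
import Groth.Agent.Lib.RankCell14.Inverts

set_option autoImplicit false
universe u
open CategoryTheory MonoidalCategory CartesianMonoidalCategory MonObj GrpObj AlgebraicGeometry CategoryTheory.Limits
open Red

namespace Groth.Agent.S8450

/-- Let G be a reductive S-group, i : T ⟶ G a maximal torus, α a character of T non-trivial on every
geometric fibre, p₊, p₋ : 𝔾_a ⟶ G monomorphisms of groups normalised by T with multipliers α and α⁻¹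
whose cell map (y, t, x) ↦ p₋(y) i(t) p₊(x) is an open immersion 𝔾_a ×_S T ×_S 𝔾_a ⟶ G, and α^* :
𝔾_m ⟶ T the coroot: α ∘ α^* is the squaring map and p₊(x) p₋(y) = p₋(y/(1+xy)) · i(α^*(1+xy)) ·
p₊(x/(1+xy)) whenever 1 + xy is invertible (so p₊ and p₋ are dual to each other). Then for every
integer n ≠ 0 the centralizer in G of the homomorphism n·α^* : z ↦ α^*(z)^n is T: a point g of G
with values in an S-scheme X commutes, after every base change X' ⟶ X, with i(α^*(z))^n for all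
points z of 𝔾_m if and only if g is a point of T. -/
theorem result (S : Scheme.{u}) (G T : Over S) [GrpObj G] [GrpObj T] (i : T ⟶ G) [IsMonHom i] [Mono i] (hG : Red.IsReductive G) (hTm : Red.IsMaximalTorus i)
    (α : T ⟶ Red.Gm S) [IsMonHom α] (hα : ∀ s : S, (Over.pullback (Red.geomPt s)).map α ≠ 1)
    (pp pm : Red.Ga S ⟶ G) [IsMonHom pp] [Mono pp] [IsMonHom pm] [Mono pm]
    (hpp : ∀ (X : Over S) (t : X ⟶ T) (x : X ⟶ Red.Ga S), ∃ x' : X ⟶ Red.Ga S,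
      x' ≫ pp = (t ≫ i) * (x ≫ pp) * (t ≫ i)⁻¹ ∧ Red.gaFn x' = Red.gmFn (t ≫ α) * Red.gaFn x)
    (hpm : ∀ (X : Over S) (t : X ⟶ T) (y : X ⟶ Red.Ga S), ∃ y' : X ⟶ Red.Ga S,
      y' ≫ pm = (t ≫ i) * (y ≫ pm) * (t ≫ i)⁻¹ ∧ Red.gaFn y' * Red.gmFn (t ≫ α) = Red.gaFn y)
    (hΩ : IsOpenImmersion (((pm ⊗ₘ i) ⊗ₘ pp) ≫ (μ[G] ▷ G) ≫ μ[G]).left)
    (av : Red.Gm S ⟶ T) [IsMonHom av] (h2 : av ≫ α = (𝟙 (Red.Gm S)) ^ 2)
    (hF : ∀ (X : Over S) (x y : X ⟶ Red.Ga S), IsUnit (1 + Red.gaFn x * Red.gaFn y) →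
      ∃ (x' y' : X ⟶ Red.Ga S) (z : X ⟶ Red.Gm S), Red.gmFn z = 1 + Red.gaFn x * Red.gaFn y ∧
        Red.gaFn x' * Red.gmFn z = Red.gaFn x ∧ Red.gaFn y' * Red.gmFn z = Red.gaFn y ∧
        (x ≫ pp) * (y ≫ pm) = (y' ≫ pm) * (z ≫ av ≫ i) * (x' ≫ pp))
    (n : ℤ) (hn : n ≠ 0) (X : Over S) (g : X ⟶ G) :
    (∀ (X' : Over S) (y : X' ⟶ X) (z : X' ⟶ Red.Gm S),
        (y ≫ g) * (((z ≫ av) ^ n) ≫ i) = (((z ≫ av) ^ n) ≫ i) * (y ≫ g)) ↔ ∃ t : X ⟶ T, t ≫ i = g := by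
  haveI : IsOpenImmersion (GrothLib.RankCell14.cell i pp pm).left := hΩ
  haveI := GrothLib.RankCell14.lft_of_smooth hG.2.1
  have H : GrothLib.RankOne.Hyp i α pp pm av := ⟨‹_›, ‹_›, ‹_›, ‹_›, ‹_›, hpp, hpm, h2, hF⟩
  have hT : Red.IsTorus T := hTm.2.2.1
  have hconn : ∀ s : S, ConnectedSpace (Red.geomFibre s G).left := fun s => (hG.2.2 s).2.2.1
  constructor
  · intro h
    obtain ⟨N, hN, hC⟩ := GrothLib.RankCell14.exists_nat_pow H hn
      (fun X' c => ∀ y : X' ⟶ X, (y ≫ g) * c = c * (y ≫ g)) (fun X' z y => h X' y z)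
    exact GrothLib.RankCell14.torus_of_commute H hT hconn hN g fun X' y l => (hC X' l y).symm
  · rintro ⟨t, rfl⟩ X' y z
    rw [← Category.assoc y, ← MonObj.mul_comp, ← MonObj.mul_comp, GrothLib.RankCell14.comm_torus hT]

end Groth.Agent.S8450
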