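import Groth.Statements.S8451
import Groth.Agent.Lib.RankCell14.Inverts

set_option autoImplicit false
universe u
open CategoryTheory MonoidalCategory CartesianMonoidalCategory MonObj GrpObj AlgebraicGeometry CategoryTheory.Limits
open Red

namespace Groth.Agent.S8451

/-- Let G be a reductive S-group, i : T ⟶ G a maximal torus, α a character of T non-trivial on every
geometric fibre, p₊, p₋ : 𝔾_a ⟶ G monomorphisms of groups normalised by T with multipliers α and α⁻¹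
whose cell map (y, t, x) ↦ p₋(y) i(t) p₊(x) is an open immersion 𝔾_a ×_S T ×_S 𝔾_a ⟶ G, and α^* :
𝔾_m ⟶ T the coroot: α ∘ α^* is the squaring map and p₊(x) p₋(y) = p₋(y/(1+xy)) · i(α^*(1+xy)) ·
p₊(x/(1+xy)) whenever 1 + xy is invertible (so p₊ and p₋ are dual to each other). Let e₁, em be the
S-points of 𝔾_a with coordinates 1 and -1, u = p₊(e₁) and w₀ = p₊(e₁) p₋(em) p₊(e₁). Let n be a
non-zero integer. If an S-point w of G satisfies w · i(α^*(z))^n · w⁻¹ = i(α^*(z))^{-n} for all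
points z of 𝔾_m (after base change) and w u w⁻¹ = u⁻¹ w u⁻¹, then w = w₀. (The published statement
has the condition (w u)³ = e in place of w u w⁻¹ = u⁻¹ w u⁻¹, and also asserts that w₀ has both
properties. The cube condition does not determine w when the centre of G contains a non-trivial cube
root of unity: for G = GL₂ over a field containing a primitive cube root of unity ζ, the point ζ·w₀
inverts the coroot and satisfies (ζ w₀ u)³ = e. The published proof uses the conjugation identity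
stated here, which is equivalent to (w u)³ = e once w² = i(α^*(-1)).) -/
theorem result (S : Scheme.{u}) (G T : Over S) [GrpObj G] [GrpObj T] (i : T ⟶ G) [IsMonHom i] [Mono i] (hG : Red.IsReductive G) (hTm : Red.IsMaximalTorus i)
    (α : T ⟶ Red.Gm S) [IsMonHom α] (hα : ∀ s : S, (Over.pullback (Red.geomPt s)).map α ≠ 1)
    (pp pm : Red.Ga S ⟶ G) [IsMonHom pp] [Mono pp] [IsMonHom pm] [Mono pm]
    (hpp : ∀ (X : Over S) (t : X ⟶ T) (x : X ⟶ Red.Ga S), ∃ x' : X ⟶ Red.Ga S,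
      x' ≫ pp = (t ≫ i) * (x ≫ pp) * (t ≫ i)⁻¹ ∧ Red.gaFn x' = Red.gmFn (t ≫ α) * Red.gaFn x)
    (hpm : ∀ (X : Over S) (t : X ⟶ T) (y : X ⟶ Red.Ga S), ∃ y' : X ⟶ Red.Ga S,
      y' ≫ pm = (t ≫ i) * (y ≫ pm) * (t ≫ i)⁻¹ ∧ Red.gaFn y' * Red.gmFn (t ≫ α) = Red.gaFn y)
    (hΩ : IsOpenImmersion (((pm ⊗ₘ i) ⊗ₘ pp) ≫ (μ[G] ▷ G) ≫ μ[G]).left)
    (av : Red.Gm S ⟶ T) [IsMonHom av] (h2 : av ≫ α = (𝟙 (Red.Gm S)) ^ 2)
    (hF : ∀ (X : Over S) (x y : X ⟶ Red.Ga S), IsUnit (1 + Red.gaFn x * Red.gaFn y) →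
      ∃ (x' y' : X ⟶ Red.Ga S) (z : X ⟶ Red.Gm S), Red.gmFn z = 1 + Red.gaFn x * Red.gaFn y ∧
        Red.gaFn x' * Red.gmFn z = Red.gaFn x ∧ Red.gaFn y' * Red.gmFn z = Red.gaFn y ∧
        (x ≫ pp) * (y ≫ pm) = (y' ≫ pm) * (z ≫ av ≫ i) * (x' ≫ pp))
    (e₁ em : 𝟙_ (Over S) ⟶ Red.Ga S) (he₁ : Red.gaFn e₁ = 1) (hem : Red.gaFn em = -1)
    (n : ℤ) (hn : n ≠ 0) (w : 𝟙_ (Over S) ⟶ G)
    (hw : ∀ (X : Over S) (z : X ⟶ Red.Gm S),
      (toUnit X ≫ w) * (((z ≫ av) ^ n) ≫ i) * (toUnit X ≫ w)⁻¹ = ((((z ≫ av) ^ n) ≫ i))⁻¹)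
    (hconj : w * (e₁ ≫ pp) * w⁻¹ = (e₁ ≫ pp)⁻¹ * w * (e₁ ≫ pp)⁻¹) :
    w = (e₁ ≫ pp) * (em ≫ pm) * (e₁ ≫ pp) := by
  haveI : IsOpenImmersion (GrothLib.RankCell14.cell i pp pm).left := hΩ
  haveI := GrothLib.RankCell14.lft_of_smooth hG.2.1
  have H : GrothLib.RankOne.Hyp i α pp pm av := ⟨‹_›, ‹_›, ‹_›, ‹_›, ‹_›, hpp, hpm, h2, hF⟩
  have hT : Red.IsTorus T := hTm.2.2.1
  have hconn : ∀ s : S, ConnectedSpace (Red.geomFibre s G).left := fun s => (hG.2.2 s).2.2.1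
  obtain ⟨N, hN, hC⟩ := GrothLib.RankCell14.exists_nat_pow H hn
    (fun X c => (toUnit X ≫ w) * c * (toUnit X ≫ w)⁻¹ = c⁻¹) hw
  obtain ⟨t, rfl⟩ := GrothLib.RankCell14.exists_eq_w_mul H hT hconn hN w hC
  let D := H.datum (𝟙_ (Over S))
  have h1 : e₁ ≫ pp = D.u 1 := by rw [H.u_eq, he₁]
  have hm1 : em ≫ pm = D.v (-1) := by rw [H.v_eq, hem]
  have hw1 : D.w 1 = D.u 1 * D.v (-1) * D.u 1 := by simp [GrothLib.RankOne.Datum.w]
  rw [h1, hm1, ← hw1]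
  suffices t = 1 by rw [this, MonObj.one_comp, _root_.mul_one]
  rw [h1, show t ≫ i = D.i t from rfl] at hconj
  change D.w 1 * D.i t * D.u 1 * (D.w 1 * D.i t)⁻¹ = (D.u 1)⁻¹ * (D.w 1 * D.i t) * (D.u 1)⁻¹ at hconj
  have e := H.w_conj_u (Y := 𝟙_ (Over S)) 1 ((D.χ t : Γ((𝟙_ (Over S)).left, ⊤)))
  simp only [inv_one, Units.val_one, _root_.one_mul] at e
  change D.w 1 * D.u _ * (D.w 1)⁻¹ = D.v _ at e
  have l : D.w 1 * D.i t * D.u 1 * (D.w 1 * D.i t)⁻¹ =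
      D.v (-((D.χ t : Γ((𝟙_ (Over S)).left, ⊤)))) * D.i 1 * D.u 0 := by
    rw [← e, map_one, D.u_zero, _root_.mul_one, _root_.mul_one, _root_.mul_assoc (D.w 1), D.i_u]
    simp only [_root_.mul_one]
    group
  have r : (D.u 1)⁻¹ * (D.w 1 * D.i t) * (D.u 1)⁻¹ =
      D.v (-1) * D.i t * D.u (((D.χ t)⁻¹ : Units Γ((𝟙_ (Over S)).left, ⊤)) * 1 + -1) := by
    rw [hw1, D.u_add, D.u_neg]
    have := D.u_i t 1
    calc _ = D.v (-1) * (D.u 1 * D.i t) * (D.u 1)⁻¹ := by group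
      _ = _ := by rw [this]; group
  rw [l, r] at hconj
  exact (GrothLib.RankCell14.cell_inj' H hconj).2.1.symm

end Groth.Agent.S8451
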