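import Groth.Statements.S8453
import Groth.Agent.Lib.RankGen14.Extend
import Groth.Agent.Lib.RankGen14.Hyp
import Groth.Agent.Lib.RankCell14.Compat
-- import your own Groth.Agent.* helpers here

set_option autoImplicit false
universe u
open CategoryTheory MonoidalCategory CartesianMonoidalCategory MonObj GrpObj AlgebraicGeometry CategoryTheory.Limits
open Red

namespace Groth.Agent.S8453

open GrothLib.RedPts GrothLib.RankOne GrothLib.RankCell14 GrothLib.RankGen14 in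
/-- Isomorphism thm for groups of semisimple rank 1: Let (G, T, α, p₊, p₋, α^*) and (G', T', α', p'₊,
p'₋, α'^*) be two rank-one systems over S: G reductive, i : T ⟶ G a maximal torus, α a character of
T non-trivial on every geometric fibre, p₊, p₋ : 𝔾_a ⟶ G monomorphisms normalised by T with
multipliers α, α⁻¹ whose cell map (y, t, x) ↦ p₋(y) i(t) p₊(x) is an open immersion, α^* : 𝔾_m ⟶ T
with α ∘ α^* the squaring map and p₊(x) p₋(y) = p₋(y/(1+xy)) · i(α^*(1+xy)) · p₊(x/(1+xy)) whenever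
1 + xy is invertible; likewise for the primed data. Let q > 0 be an integer such that x ↦ x^q is
additive on all functions of S-schemes. Let c be an S-point of 𝔾_m (a trivialisation of the
isomorphism (𝔤^α)^{⊗q} ≅ 𝔤'^{α'}) and f_T : T ⟶ T' a homomorphism with α' ∘ f_T = α^q and f_T ∘ α^*
= (α'^*)^q. Then there is exactly one homomorphism f : G ⟶ G' extending f_T (i ∘ f = f_T ∘ i') with
f(p₊(x)) = p'₊(c x^q) for all points x of 𝔾_a; moreover every such f satisfies f(p₋(y)) = p'₋(c⁻¹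
y^q) for all points y. -/
theorem result (S : Scheme.{u}) (G T : Over S) [GrpObj G] [GrpObj T] (i : T ⟶ G) [IsMonHom i] [Mono i] (hG : Red.IsReductive G) (hTm : Red.IsMaximalTorus i)
    (α : T ⟶ Red.Gm S) [IsMonHom α] (hα : ∀ s : S, (Over.pullback (Red.geomPt s)).map α ≠ 1)
    (pp pm : Red.Ga S ⟶ G) [IsMonHom pp] [Mono pp] [IsMonHom pm] [Mono pm]
    (hpp : ∀ (X : Over S) (t : X ⟶ T) (x : X ⟶ Red.Ga S), ∃ x' : X ⟶ Red.Ga S,
      x' ≫ pp = (t ≫ i) * (x ≫ pp) * (t ≫ i)⁻¹ ∧ Red.gaFn x' = Red.gmFn (t ≫ α) * Red.gaFn x)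
    (hpm : ∀ (X : Over S) (t : X ⟶ T) (y : X ⟶ Red.Ga S), ∃ y' : X ⟶ Red.Ga S,
      y' ≫ pm = (t ≫ i) * (y ≫ pm) * (t ≫ i)⁻¹ ∧ Red.gaFn y' * Red.gmFn (t ≫ α) = Red.gaFn y)
    (hΩ : IsOpenImmersion (((pm ⊗ₘ i) ⊗ₘ pp) ≫ (μ[G] ▷ G) ≫ μ[G]).left)
    (av : Red.Gm S ⟶ T) [IsMonHom av] (h2 : av ≫ α = (𝟙 (Red.Gm S)) ^ 2)
    (hF : ∀ (X : Over S) (x y : X ⟶ Red.Ga S), IsUnit (1 + Red.gaFn x * Red.gaFn y) →
      ∃ (x' y' : X ⟶ Red.Ga S) (z : X ⟶ Red.Gm S), Red.gmFn z = 1 + Red.gaFn x * Red.gaFn y ∧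
        Red.gaFn x' * Red.gmFn z = Red.gaFn x ∧ Red.gaFn y' * Red.gmFn z = Red.gaFn y ∧
        (x ≫ pp) * (y ≫ pm) = (y' ≫ pm) * (z ≫ av ≫ i) * (x' ≫ pp))
    (G' T' : Over S) [GrpObj G'] [GrpObj T'] (i' : T' ⟶ G') [IsMonHom i'] [Mono i'] (hG' : Red.IsReductive G') (hTm' : Red.IsMaximalTorus i')
    (α' : T' ⟶ Red.Gm S) [IsMonHom α'] (hα' : ∀ s : S, (Over.pullback (Red.geomPt s)).map α' ≠ 1)
    (pp' pm' : Red.Ga S ⟶ G') [IsMonHom pp'] [Mono pp'] [IsMonHom pm'] [Mono pm']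
    (hpp' : ∀ (X : Over S) (t : X ⟶ T') (x : X ⟶ Red.Ga S), ∃ x' : X ⟶ Red.Ga S,
      x' ≫ pp' = (t ≫ i') * (x ≫ pp') * (t ≫ i')⁻¹ ∧ Red.gaFn x' = Red.gmFn (t ≫ α') * Red.gaFn x)
    (hpm' : ∀ (X : Over S) (t : X ⟶ T') (y : X ⟶ Red.Ga S), ∃ y' : X ⟶ Red.Ga S,
      y' ≫ pm' = (t ≫ i') * (y ≫ pm') * (t ≫ i')⁻¹ ∧ Red.gaFn y' * Red.gmFn (t ≫ α') = Red.gaFn y)
    (hΩ' : IsOpenImmersion (((pm' ⊗ₘ i') ⊗ₘ pp') ≫ (μ[G'] ▷ G') ≫ μ[G']).left)
    (av' : Red.Gm S ⟶ T') [IsMonHom av'] (h2' : av' ≫ α' = (𝟙 (Red.Gm S)) ^ 2)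
    (hF' : ∀ (X : Over S) (x y : X ⟶ Red.Ga S), IsUnit (1 + Red.gaFn x * Red.gaFn y) →
      ∃ (x' y' : X ⟶ Red.Ga S) (z : X ⟶ Red.Gm S), Red.gmFn z = 1 + Red.gaFn x * Red.gaFn y ∧
        Red.gaFn x' * Red.gmFn z = Red.gaFn x ∧ Red.gaFn y' * Red.gmFn z = Red.gaFn y ∧
        (x ≫ pp') * (y ≫ pm') = (y' ≫ pm') * (z ≫ av' ≫ i') * (x' ≫ pp'))
    (q : ℕ) (hq0 : 0 < q) (hq : ∀ (X : Over S) (a b : Γ(X.left, ⊤)), (a + b) ^ q = a ^ q + b ^ q) (c : 𝟙_ (Over S) ⟶ Red.Gm S) (fT : T ⟶ T') [IsMonHom fT]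
    (hfTα : fT ≫ α' = α ^ q) (hfTav : av ≫ fT = av' ^ q) :
    (∃! f : G ⟶ G', IsMonHom f ∧ i ≫ f = fT ≫ i' ∧
        ∀ (X : Over S) (x y : X ⟶ Red.Ga S), Red.gaFn y = Red.gmFn (toUnit X ≫ c) * Red.gaFn x ^ q →
          (x ≫ pp) ≫ f = y ≫ pp') ∧
      ∀ f : G ⟶ G', IsMonHom f → i ≫ f = fT ≫ i' →
        (∀ (X : Over S) (x y : X ⟶ Red.Ga S), Red.gaFn y = Red.gmFn (toUnit X ≫ c) * Red.gaFn x ^ q →
          (x ≫ pp) ≫ f = y ≫ pp') →
        ∀ (X : Over S) (x y : X ⟶ Red.Ga S), Red.gaFn y * Red.gmFn (toUnit X ≫ c) = Red.gaFn x ^ q →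
          (x ≫ pm) ≫ f = y ≫ pm' := by
  haveI : IsOpenImmersion (GrothLib.RankCell14.cell i pp pm).left := hΩ
  haveI : IsOpenImmersion (GrothLib.RankCell14.cell i' pp' pm').left := hΩ'
  haveI : LocallyOfFiniteType G.hom := GrothLib.RankCell14.lft_of_smooth hG.2.1
  haveI := GrothLib.RankCell14.lft_of_smooth hG'.2.1
  have hconn : ∀ s : S, ConnectedSpace (Red.geomFibre s G).left := fun s => (hG.2.2 s).2.2.1
  have hconn' : ∀ s : S, ConnectedSpace (Red.geomFibre s G').left := fun s => (hG'.2.2 s).2.2.1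
  have hT : Red.IsTorus T := hTm.2.2.1
  have hT' : Red.IsTorus T' := hTm'.2.2.1
  have HG : Hyp i α pp pm av := ⟨‹_›, ‹_›, ‹_›, ‹_›, ‹_›, hpp, hpm, h2, hF⟩
  have HP : Hyp i' α' pp' pm' av' := ⟨‹_›, ‹_›, ‹_›, ‹_›, ‹_›, hpp', hpm', h2', hF'⟩
  let Q := Red.gaFn (𝟙 (Red.Ga S)) ^ q
  let fα : Red.Ga S ⟶ G' := gaPt ((cst c (Red.Ga S) : Γ((Red.Ga S).left, ⊤)) * Q) ≫ pp'
  let fm : Red.Ga S ⟶ G' :=
    gaPt ((((cst c (Red.Ga S))⁻¹ : Units Γ((Red.Ga S).left, ⊤)) : Γ((Red.Ga S).left, ⊤)) * Q) ≫ pm'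
  have hu : ∀ {X : Over S} (x : X ⟶ Red.Ga S),
      x ≫ fα = (HP.datum X).u ((cst c X : Γ(X.left, ⊤)) * Red.gaFn x ^ q) := fun x => by
    change x ≫ gaPt _ ≫ pp' = gaPt _ ≫ pp'
    rw [← Category.assoc, gaPt_comp, map_mul, cst_comp, map_pow, ← gaFn_comp, Category.comp_id]
  have hv : ∀ {X : Over S} (x : X ⟶ Red.Ga S),
      x ≫ fm = (HP.datum X).v ((((cst c X)⁻¹ : Units Γ(X.left, ⊤)) : Γ(X.left, ⊤)) * Red.gaFn x ^ q) := fun x => by
    change x ≫ gaPt _ ≫ pm' = gaPt _ ≫ pm'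
    rw [← Category.assoc, gaPt_comp, map_mul, cst_inv_comp, map_pow, ← gaFn_comp, Category.comp_id]
  haveI : IsMonHom fα := isMonHom_of_map_mul _ fun X a b => by
    rw [hu, hu, hu, gaFn_mul, hq, mul_add, Datum.u_add]
  haveI : IsMonHom fm := isMonHom_of_map_mul _ fun X a b => by
    rw [hv, hv, hv, gaFn_mul, hq, mul_add, Datum.v_add]
  have hχ : ∀ {X : Over S} (t : X ⟶ T), (HP.datum X).χ (t ≫ fT) = (HG.datum X).χ t ^ q := fun t => by
    change GmPts.equiv _ ((t ≫ fT) ≫ α') = GmPts.equiv _ (t ≫ α) ^ q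
    rw [Category.assoc, hfTα, MonObj.comp_pow]
    exact map_pow (GmPts.equiv _) _ q
  have H' : Hyp (fT ≫ i') α fα fm av := by
    refine ⟨inferInstance, inferInstance, inferInstance, inferInstance, inferInstance, ?_, ?_, h2, ?_⟩
    · intro X t x
      refine ⟨gaPt (Red.gmFn (t ≫ α) * Red.gaFn x), ?_, gaFn_gaPt _⟩
      rw [hu, hu, gaFn_gaPt, ← Category.assoc t fT i']
      refine Eq.trans ?_ ((HP.datum X).conjU (t ≫ fT) _).symm
      rw [hχ, Units.val_pow_eq_pow_val, mul_pow, mul_left_comm]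
      rfl
    · intro X t y
      obtain ⟨y', -, hy'⟩ := hpm X t y
      refine ⟨y', ?_, hy'⟩
      rw [hv, hv, ← Category.assoc t fT i']
      refine Eq.trans ?_ ((HP.datum X).conjV (t ≫ fT) _).symm
      rw [hχ, ← inv_pow, Units.val_pow_eq_pow_val, mul_left_comm, ← mul_pow]
      congr 3
      rw [← hy']
      change _ = (((HG.datum X).χ t)⁻¹ : Units _) * (_ * ((HG.datum X).χ t : Γ(X.left, ⊤)))
      rw [mul_comm (Red.gaFn y'), Units.inv_mul_cancel_left]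
    · intro X x y hxy
      obtain ⟨x', y', z, hz, hx, hy, -⟩ := hF X x y hxy
      refine ⟨x', y', z, hz, hx, hy, ?_⟩
      have e := (HP.datum X).rule' ((cst c X : Γ(X.left, ⊤)) * Red.gaFn x ^ q)
        ((((cst c X)⁻¹ : Units Γ(X.left, ⊤)) : Γ(X.left, ⊤)) * Red.gaFn y ^ q) (GmPts.unitOfPt z ^ q) (by
          rw [Units.val_pow_eq_pow_val, GmPts.val_unitOfPt, hz, hq, one_pow,
            _root_.mul_mul_mul_comm, Units.mul_inv, _root_.one_mul, mul_pow])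
      rw [hu, hv, hu, hv, e]
      congr 1
      · congr 1
        · congr 1
          rw [← hy, ← inv_pow, Units.val_pow_eq_pow_val, _root_.mul_assoc, ← mul_pow, ← GmPts.val_unitOfPt,
            Units.mul_inv_cancel_right]
        · rw [reassoc_of% hfTav, ← Category.assoc, comp_pow_left, map_pow]
          change _ = postHom i' X ((z ≫ av') ^ q)
          rw [map_pow]
          exact congrArg (· ^ q) ((HP.C_eq' z).symm.trans (Category.assoc z av' i').symm)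
      · congr 1
        rw [← hx, ← inv_pow, Units.val_pow_eq_pow_val, _root_.mul_assoc, ← mul_pow, ← GmPts.val_unitOfPt,
          Units.mul_inv_cancel_right]
  have hlast : ∀ f : G ⟶ G', IsMonHom f → i ≫ f = fT ≫ i' →
      (∀ (X : Over S) (x y : X ⟶ Red.Ga S), Red.gaFn y = Red.gmFn (toUnit X ≫ c) * Red.gaFn x ^ q →
        (x ≫ pp) ≫ f = y ≫ pp') → MapsV HG HP q c f := by
    intro f _ hfi hU0
    have hU : MapsU HG HP q c f := mapsU_iff.mpr hU0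
    have hC : MapsC HG HP q f := mapsC_iff.mpr fun X z => by
      rw [Category.assoc, Category.assoc, hfi, reassoc_of% hfTav, ← Category.assoc, comp_pow_left]
    exact ((tfae (H := HG) (H' := HP) (q := q) (c := c) (f := f) hT' hconn' hq0 hq hU).out 0 2).mp hC
  obtain ⟨f, ⟨hfm, hfi, hfp, -⟩, huniq⟩ := existsUnique_hom HG H' hT hconn
  refine ⟨⟨f, ⟨hfm, hfi, ?_⟩, ?_⟩, fun g hg hgi hgp => mapsV_iff.mp (hlast g hg hgi hgp)⟩
  · intro X x y hy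
    rw [Category.assoc, hfp, hu, cst_val, ← hy]
    exact (HP.u_eq y).symm
  · rintro g ⟨hgm, hgi, hgp⟩
    refine huniq g ⟨hgm, hgi, ?_, ?_⟩
    · have := hgp (Red.Ga S) (𝟙 _) (gaPt ((cst c (Red.Ga S) : Γ((Red.Ga S).left, ⊤)) * Q)) (by
        rw [gaFn_gaPt, ← cst_val])
      rwa [Category.id_comp] at this
    · have := hlast g hgm hgi hgp (Red.Ga S) (Red.gaFn (𝟙 _))
      change (gaPt _ ≫ pm) ≫ g = gaPt _ ≫ pm' at this
      rwa [gaPt_gaFn, Category.id_comp] at this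

end Groth.Agent.S8453
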