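import Groth.Statements.S8455
import Groth.Agent.Lib.RankCell14.Iso

set_option autoImplicit false
universe u
open CategoryTheory MonoidalCategory CartesianMonoidalCategory MonObj GrpObj AlgebraicGeometry CategoryTheory.Limits
open Red

namespace Groth.Agent.S8455

/-- Let (G, T, α, p₊, p₋, α^*) and (G', T', α', p'₊, p'₋, α'^*) be two rank-one systems over S: G
reductive, i : T ⟶ G a maximal torus, α a character of T non-trivial on every geometric fibre, p₊,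
p₋ : 𝔾_a ⟶ G monomorphisms normalised by T with multipliers α, α⁻¹ whose cell map (y, t, x) ↦ p₋(y)
i(t) p₊(x) is an open immersion, α^* : 𝔾_m ⟶ T with α ∘ α^* the squaring map and p₊(x) p₋(y) =
p₋(y/(1+xy)) · i(α^*(1+xy)) · p₊(x/(1+xy)) whenever 1 + xy is invertible; likewise for the primed
data. Let q > 0 be an integer such that x ↦ x^q is additive on all functions of S-schemes. Assume q
= 1: let c be an S-point of 𝔾_m and f_T : T ⟶ T' a homomorphism with α' ∘ f_T = α and f_T ∘ α^* =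
α'^* which is faithfully flat (flat and surjective) with kernel k : Q ⟶ T. Then a homomorphism f : G
⟶ G' extending f_T with f(p₊(x)) = p'₊(c x) for all points x is faithfully flat and quasi-compact,
with kernel Q (through k and i); so G' is the quotient G/Q. -/
theorem result (S : Scheme.{u}) (G T : Over S) [GrpObj G] [GrpObj T] (i : T ⟶ G) [IsMonHom i] [Mono i] (hG : Red.IsReductive G) (hTm : Red.IsMaximalTorus i)
    (α : T ⟶ Red.Gm S) [IsMonHom α] (hα : ∀ s : S, (Over.pullback (Red.geomPt s)).map α ≠ 1)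
    (pp pm : Red.Ga S ⟶ G) [IsMonHom pp] [Mono pp] [IsMonHom pm] [Mono pm]
    (hpp : ∀ (X : Over S) (t : X ⟶ T) (x : X ⟶ Red.Ga S), ∃ x' : X ⟶ Red.Ga S,
      x' ≫ pp = (t ≫ i) * (x ≫ pp) * (t ≫ i)⁻¹ ∧ Red.gaFn x' = Red.gmFn (t ≫ α) * Red.gaFn x)
    (hpm : ∀ (X : Over S) (t : X ⟶ T) (y : X ⟶ Red.Ga S), ∃ y' : X ⟶ Red.Ga S,
      y' ≫ pm = (t ≫ i) * (y ≫ pm) * (t ≫ i)⁻¹ ∧ Red.gaFn y' * Red.gmFn (t ≫ α) = Red.gaFn y)
    (hΩ : IsOpenImmersion (((pm ⊗ₘ i) ⊗ₘ pp) ≫ (μ[G] ▷ G) ≫ μ[G]).left)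
    (av : Red.Gm S ⟶ T) [IsMonHom av] (h2 : av ≫ α = (𝟙 (Red.Gm S)) ^ 2)
    (hF : ∀ (X : Over S) (x y : X ⟶ Red.Ga S), IsUnit (1 + Red.gaFn x * Red.gaFn y) →
      ∃ (x' y' : X ⟶ Red.Ga S) (z : X ⟶ Red.Gm S), Red.gmFn z = 1 + Red.gaFn x * Red.gaFn y ∧
        Red.gaFn x' * Red.gmFn z = Red.gaFn x ∧ Red.gaFn y' * Red.gmFn z = Red.gaFn y ∧
        (x ≫ pp) * (y ≫ pm) = (y' ≫ pm) * (z ≫ av ≫ i) * (x' ≫ pp))
    (G' T' : Over S) [GrpObj G'] [GrpObj T'] (i' : T' ⟶ G') [IsMonHom i'] [Mono i'] (hG' : Red.IsReductive G') (hTm' : Red.IsMaximalTorus i')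
    (α' : T' ⟶ Red.Gm S) [IsMonHom α'] (hα' : ∀ s : S, (Over.pullback (Red.geomPt s)).map α' ≠ 1)
    (pp' pm' : Red.Ga S ⟶ G') [IsMonHom pp'] [Mono pp'] [IsMonHom pm'] [Mono pm']
    (hpp' : ∀ (X : Over S) (t : X ⟶ T') (x : X ⟶ Red.Ga S), ∃ x' : X ⟶ Red.Ga S,
      x' ≫ pp' = (t ≫ i') * (x ≫ pp') * (t ≫ i')⁻¹ ∧ Red.gaFn x' = Red.gmFn (t ≫ α') * Red.gaFn x)
    (hpm' : ∀ (X : Over S) (t : X ⟶ T') (y : X ⟶ Red.Ga S), ∃ y' : X ⟶ Red.Ga S,
      y' ≫ pm' = (t ≫ i') * (y ≫ pm') * (t ≫ i')⁻¹ ∧ Red.gaFn y' * Red.gmFn (t ≫ α') = Red.gaFn y)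
    (hΩ' : IsOpenImmersion (((pm' ⊗ₘ i') ⊗ₘ pp') ≫ (μ[G'] ▷ G') ≫ μ[G']).left)
    (av' : Red.Gm S ⟶ T') [IsMonHom av'] (h2' : av' ≫ α' = (𝟙 (Red.Gm S)) ^ 2)
    (hF' : ∀ (X : Over S) (x y : X ⟶ Red.Ga S), IsUnit (1 + Red.gaFn x * Red.gaFn y) →
      ∃ (x' y' : X ⟶ Red.Ga S) (z : X ⟶ Red.Gm S), Red.gmFn z = 1 + Red.gaFn x * Red.gaFn y ∧
        Red.gaFn x' * Red.gmFn z = Red.gaFn x ∧ Red.gaFn y' * Red.gmFn z = Red.gaFn y ∧
        (x ≫ pp') * (y ≫ pm') = (y' ≫ pm') * (z ≫ av' ≫ i') * (x' ≫ pp'))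
    (c : 𝟙_ (Over S) ⟶ Red.Gm S) (fT : T ⟶ T') [IsMonHom fT] (hfl : Flat fT.left) (hsu : Surjective fT.left)
    (Q : Over S) (k : Q ⟶ T) (hk : AlgGrp.IsKernel k fT)
    (hfTα : fT ≫ α' = α) (hfTav : av ≫ fT = av') (f : G ⟶ G') [IsMonHom f] (hfT : i ≫ f = fT ≫ i')
    (hf : ∀ (X : Over S) (x y : X ⟶ Red.Ga S), Red.gaFn y = Red.gmFn (toUnit X ≫ c) * Red.gaFn x →
      (x ≫ pp) ≫ f = y ≫ pp') :
    Flat f.left ∧ Surjective f.left ∧ QuasiCompact f.left ∧ AlgGrp.IsKernel (k ≫ i) f := by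
  haveI : IsOpenImmersion (GrothLib.RankCell14.cell i pp pm).left := hΩ
  haveI : IsOpenImmersion (GrothLib.RankCell14.cell i' pp' pm').left := hΩ'
  haveI := GrothLib.RankCell14.lft_of_smooth hG.2.1
  haveI := GrothLib.RankCell14.lft_of_smooth hG'.2.1
  have H : GrothLib.RankOne.Hyp i α pp pm av := ⟨‹_›, ‹_›, ‹_›, ‹_›, ‹_›, hpp, hpm, h2, hF⟩
  have H' : GrothLib.RankOne.Hyp i' α' pp' pm' av' := ⟨‹_›, ‹_›, ‹_›, ‹_›, ‹_›, hpp', hpm', h2', hF'⟩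
  have hT : Red.IsTorus T := hTm.2.2.1
  have hT' : Red.IsTorus T' := hTm'.2.2.1
  have hconn : ∀ s : S, ConnectedSpace (Red.geomFibre s G).left := fun s => (hG.2.2 s).2.2.1
  have hconn' : ∀ s : S, ConnectedSpace (Red.geomFibre s G').left := fun s => (hG'.2.2 s).2.2.1
  have hU : GrothLib.RankCell14.MapsU H H' 1 c f := GrothLib.RankCell14.mapsU_iff.mpr fun X x y hy =>
    hf X x y (by rwa [pow_one] at hy)
  have hC : GrothLib.RankCell14.MapsC H H' 1 f := GrothLib.RankCell14.mapsC_iff.mpr fun X z => by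
    rw [pow_one, Category.assoc, Category.assoc, hfT, reassoc_of% hfTav, Category.assoc]
  have h := GrothLib.RankCell14.tfae (H := H) (H' := H') (q := 1) (c := c) (f := f) hT' hconn' one_pos
    (fun X a b => by rw [pow_one, pow_one, pow_one]) hU
  have hW : GrothLib.RankCell14.MapsW H H' 1 c f := (h.out 0 1).mp hC
  have hV : GrothLib.RankCell14.MapsV H H' 1 c f := (h.out 0 2).mp hC
  haveI := hfl
  haveI := hsu
  refine ⟨GrothLib.RankCell14.flat_map fT c f hconn hfT hU hV,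
    GrothLib.RankCell14.surjective_map fT c f hT' hconn' hfT hU hV hW, ?_, ?_⟩
  · haveI : IsAffineHom G.hom := hG.1
    haveI : IsAffineHom G'.hom := hG'.1
    haveI : QuasiCompact (f.left ≫ G'.hom) := by rw [Over.w f]; infer_instance
    exact QuasiCompact.of_comp f.left G'.hom
  · have hw : (k ≫ i) ≫ f = toUnit Q ≫ η[G'] := by
      rw [Category.assoc, hfT, reassoc_of% hk.w, IsMonHom.one_hom i']
    have h1 : ∀ s : PullbackCone f η[G'], ∃ t : s.pt ⟶ T, t ≫ i = s.fst ∧ t ≫ fT = 1 := fun s =>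
      GrothLib.RankCell14.kernel_le fT c f hT' hconn hfT hU hV hW s.fst
        (by rw [s.condition, Hom.one_def, toUnit_unique s.snd (toUnit s.pt)])
    choose t ht ht' using h1
    refine IsPullback.of_isLimit' ⟨hw⟩ (PullbackCone.IsLimit.mk _
      (fun s => hk.lift (t s) (toUnit s.pt) (by rw [ht' s, Hom.one_def])) (fun s => ?_)
      (fun s => toUnit_unique _ _) (fun s m h2 h3 => ?_))
    · rw [← Category.assoc, hk.lift_fst]
      exact ht s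
    · refine hk.hom_ext ?_ (toUnit_unique _ _)
      rw [hk.lift_fst, ← cancel_mono i, Category.assoc, ht s]
      exact h2

end Groth.Agent.S8455
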