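import Groth.Statements.S8456
import Groth.Agent.Lib.RankComm14.Closed

set_option backward.isDefEq.respectTransparency false
-- import your own Groth.Agent.* helpers here

set_option autoImplicit false
universe u
open CategoryTheory MonoidalCategory CartesianMonoidalCategory MonObj GrpObj AlgebraicGeometry CategoryTheory.Limits
open Red

namespace Groth.Agent.S8456

/-- Let G be a reductive S-group, i : T ⟶ G a maximal torus, α a character of T non-trivial on every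
geometric fibre, and p₊, p₋ : 𝔾_a ⟶ G monomorphisms of groups normalised by T with multipliers α and
α⁻¹ such that 𝔾_a ×_S T ×_S 𝔾_a ⟶ G, (y, t, x) ↦ p₋(y) i(t) p₊(x), is an open immersion (a rank-one
system: G has semisimple rank 1 and p₊, p₋ trivialise the root groups of α and -α). Then the
subgroups U_α = im p₊, U_{-α} = im p₋, T·U_α and T·U_{-α} are closed in G: p₊ and p₋ are closed
immersions, and so are the morphisms T ×_S 𝔾_a ⟶ G, (t, x) ↦ i(t) p₊(x) and (t, y) ↦ i(t) p₋(y). -/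
theorem result (S : Scheme.{u}) (G T : Over S) [GrpObj G] [GrpObj T] (i : T ⟶ G) [IsMonHom i] [Mono i] (hG : Red.IsReductive G) (hTm : Red.IsMaximalTorus i)
    (α : T ⟶ Red.Gm S) [IsMonHom α] (hα : ∀ s : S, (Over.pullback (Red.geomPt s)).map α ≠ 1)
    (pp pm : Red.Ga S ⟶ G) [IsMonHom pp] [Mono pp] [IsMonHom pm] [Mono pm]
    (hpp : ∀ (X : Over S) (t : X ⟶ T) (x : X ⟶ Red.Ga S), ∃ x' : X ⟶ Red.Ga S,
      x' ≫ pp = (t ≫ i) * (x ≫ pp) * (t ≫ i)⁻¹ ∧ Red.gaFn x' = Red.gmFn (t ≫ α) * Red.gaFn x)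
    (hpm : ∀ (X : Over S) (t : X ⟶ T) (y : X ⟶ Red.Ga S), ∃ y' : X ⟶ Red.Ga S,
      y' ≫ pm = (t ≫ i) * (y ≫ pm) * (t ≫ i)⁻¹ ∧ Red.gaFn y' * Red.gmFn (t ≫ α) = Red.gaFn y)
    (hΩ : IsOpenImmersion (((pm ⊗ₘ i) ⊗ₘ pp) ≫ (μ[G] ▷ G) ≫ μ[G]).left) :
    IsClosedImmersion pp.left ∧ IsClosedImmersion pm.left ∧
      IsClosedImmersion ((i ⊗ₘ pp) ≫ μ[G]).left ∧ IsClosedImmersion ((i ⊗ₘ pm) ≫ μ[G]).left := by
  obtain ⟨av, c, H, hΩ'⟩ := GrothLib.RankComm14.exists_hyp hG hTm hα hpp hpm hΩ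
  haveI := hΩ'
  haveI : Smooth G.hom := hG.2.1
  have hconn : ∀ s : S, ConnectedSpace (Red.geomFibre s G).left := fun s => (hG.2.2 s).2.2.1
  haveI hm := GrothLib.RankComm14.borel_neg_closed H hTm.2.2.1 hconn
  haveI hp' := GrothLib.RankComm14.borel_closed H hTm.2.2.1 hconn
  haveI hp : IsClosedImmersion ((i ⊗ₘ pp) ≫ μ[G]).left := by
    have e : (i ⊗ₘ pp) ≫ μ[G] =
        (𝟙 T ⊗ₘ (GrothLib.RankCell14.scaleIso c).inv) ≫ (i ⊗ₘ ((GrothLib.RankCell14.scaleIso c).hom ≫ pp)) ≫ μ[G] := by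
      rw [tensorHom_comp_tensorHom_assoc, Category.id_comp, Iso.inv_hom_id_assoc]
    haveI : IsIso (𝟙 T ⊗ₘ (GrothLib.RankCell14.scaleIso c).inv).left :=
      inferInstanceAs (IsIso ((Over.forget S).map (𝟙 T ⊗ₘ (GrothLib.RankCell14.scaleIso c).inv)))
    rw [e, Over.comp_left]
    infer_instance
  exact ⟨GrothLib.RankComm14.root_closed (i := i) hTm.2.2.1 pp, GrothLib.RankComm14.root_closed (i := i) hTm.2.2.1 pm, hp, hm⟩

end Groth.Agent.S8456
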