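import Groth.Statements.S8457
import Groth.Agent.Lib.RankGen14.Extend
import Groth.Agent.Lib.RankGen14.Hyp
import Groth.Agent.Lib.RankCell14.Compat
-- import your own Groth.Agent.* helpers here

set_option autoImplicit false
universe u
open CategoryTheory MonoidalCategory CartesianMonoidalCategory MonObj GrpObj AlgebraicGeometry CategoryTheory.Limits
open Red

namespace Groth.Agent.S8457

open GrothLib.RedPts GrothLib.RankOne GrothLib.RankCell14 GrothLib.RankGen14 in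
/-- Generators and relations for a group of semisimple rank 1: for H an S-group scheme. Let G be a
reductive S-group, i : T ⟶ G a maximal torus, α a character of T non-trivial on every geometric
fibre, p₊, p₋ : 𝔾_a ⟶ G monomorphisms of groups normalised by T with multipliers α and α⁻¹ whose
cell map (y, t, x) ↦ p₋(y) i(t) p₊(x) is an open immersion 𝔾_a ×_S T ×_S 𝔾_a ⟶ G, and α^* : 𝔾_m ⟶ T
the coroot: α ∘ α^* is the squaring map and p₊(x) p₋(y) = p₋(y/(1+xy)) · i(α^*(1+xy)) · p₊(x/(1+xy))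
whenever 1 + xy is invertible (so p₊ and p₋ are dual to each other). Let e₁, em be the S-points of
𝔾_a with coordinates 1, -1 and m the S-point of 𝔾_m with coordinate -1; put u = p₊(e₁) and w =
p₊(e₁) p₋(em) p₊(e₁). Let H be an S-group scheme, f_T : T ⟶ H and f_α : 𝔾_a ⟶ H homomorphisms and h
an S-point of H. Then there is exactly one homomorphism f : G ⟶ H with f ∘ i = f_T, f ∘ p₊ = f_α and
f(w) = h if and only if: (1) f_T(t) f_α(x) f_T(t)⁻¹ = f_α(α(t) x) for all points t of T and x of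
𝔾_a; (2) h f_T(t) h⁻¹ = f_T(t · α^*(α(t))⁻¹) for all points t of T; (3) h² = f_T(α^*(m)); (4) (h ·
f_α(e₁))³ = e. (The published statement allows H to be any fppf sheaf of groups.) -/
theorem result (S : Scheme.{u}) (G T : Over S) [GrpObj G] [GrpObj T] (i : T ⟶ G) [IsMonHom i] [Mono i] (hG : Red.IsReductive G) (hTm : Red.IsMaximalTorus i)
    (α : T ⟶ Red.Gm S) [IsMonHom α] (hα : ∀ s : S, (Over.pullback (Red.geomPt s)).map α ≠ 1)
    (pp pm : Red.Ga S ⟶ G) [IsMonHom pp] [Mono pp] [IsMonHom pm] [Mono pm]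
    (hpp : ∀ (X : Over S) (t : X ⟶ T) (x : X ⟶ Red.Ga S), ∃ x' : X ⟶ Red.Ga S,
      x' ≫ pp = (t ≫ i) * (x ≫ pp) * (t ≫ i)⁻¹ ∧ Red.gaFn x' = Red.gmFn (t ≫ α) * Red.gaFn x)
    (hpm : ∀ (X : Over S) (t : X ⟶ T) (y : X ⟶ Red.Ga S), ∃ y' : X ⟶ Red.Ga S,
      y' ≫ pm = (t ≫ i) * (y ≫ pm) * (t ≫ i)⁻¹ ∧ Red.gaFn y' * Red.gmFn (t ≫ α) = Red.gaFn y)
    (hΩ : IsOpenImmersion (((pm ⊗ₘ i) ⊗ₘ pp) ≫ (μ[G] ▷ G) ≫ μ[G]).left)
    (av : Red.Gm S ⟶ T) [IsMonHom av] (h2 : av ≫ α = (𝟙 (Red.Gm S)) ^ 2)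
    (hF : ∀ (X : Over S) (x y : X ⟶ Red.Ga S), IsUnit (1 + Red.gaFn x * Red.gaFn y) →
      ∃ (x' y' : X ⟶ Red.Ga S) (z : X ⟶ Red.Gm S), Red.gmFn z = 1 + Red.gaFn x * Red.gaFn y ∧
        Red.gaFn x' * Red.gmFn z = Red.gaFn x ∧ Red.gaFn y' * Red.gmFn z = Red.gaFn y ∧
        (x ≫ pp) * (y ≫ pm) = (y' ≫ pm) * (z ≫ av ≫ i) * (x' ≫ pp))
    (e₁ em : 𝟙_ (Over S) ⟶ Red.Ga S) (he₁ : Red.gaFn e₁ = 1) (hem : Red.gaFn em = -1)
    (m : 𝟙_ (Over S) ⟶ Red.Gm S) (hm : Red.gmFn m = -1)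
    (H : Over S) [GrpObj H] (fT : T ⟶ H) [IsMonHom fT] (fα : Red.Ga S ⟶ H) [IsMonHom fα] (h : 𝟙_ (Over S) ⟶ H) :
    (∃! f : G ⟶ H, IsMonHom f ∧ i ≫ f = fT ∧ pp ≫ f = fα ∧ ((e₁ ≫ pp) * (em ≫ pm) * (e₁ ≫ pp)) ≫ f = h) ↔
      ((∀ (X : Over S) (t : X ⟶ T) (x x' : X ⟶ Red.Ga S), Red.gaFn x' = Red.gmFn (t ≫ α) * Red.gaFn x →
          (t ≫ fT) * (x ≫ fα) * (t ≫ fT)⁻¹ = x' ≫ fα) ∧
        (∀ (X : Over S) (t : X ⟶ T), (toUnit X ≫ h) * (t ≫ fT) * (toUnit X ≫ h)⁻¹ = (t * (t ≫ α ≫ av)⁻¹) ≫ fT) ∧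
        h ^ 2 = m ≫ av ≫ fT ∧ (h * (e₁ ≫ fα)) ^ 3 = 1) := by
  classical
  haveI : IsOpenImmersion (GrothLib.RankCell14.cell i pp pm).left := hΩ
  haveI : LocallyOfFiniteType G.hom := GrothLib.RankCell14.lft_of_smooth hG.2.1
  have hconn : ∀ s : S, ConnectedSpace (Red.geomFibre s G).left := fun s => (hG.2.2 s).2.2.1
  have hT : Red.IsTorus T := hTm.2.2.1
  obtain ⟨_, _⟩ := GrothLib.CharFib14.flat_surjective_of_base_changes hT α
    (fun S' g hS' => GrothLib.CharFib14.ne_one_of_geomFibres α hα g hS')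
  have HG : Hyp i α pp pm av := ⟨‹_›, ‹_›, ‹_›, ‹_›, ‹_›, hpp, hpm, h2, hF⟩
  have he : e₁ = gaPt 1 := gaFn_injective (by rw [gaFn_gaPt, he₁])
  have he' : em = gaPt (-1) := gaFn_injective (by rw [gaFn_gaPt, hem])
  have hm' : m = GmPts.ptOfUnit (-1) := GmPts.gmFn_injective (by
    change Red.gmFn m = Red.gmFn (GmPts.ptOfUnit _)
    rw [GmPts.gmFn_ptOfUnit, hm, Units.val_neg, Units.val_one])
  have hwe : (e₁ ≫ pp) * (em ≫ pm) * (e₁ ≫ pp) = (HG.datum (𝟙_ (Over S))).w 1 := by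
    rw [he, he', Datum.w, inv_one, Units.val_one]
    rfl
  rw [hwe]
  constructor
  · rintro ⟨f, ⟨hfm, hfi, hfp, hfw⟩, -⟩
    have hh : ∀ X : Over S, toUnit X ≫ h = (HG.datum X).w 1 ≫ f := fun X => by
      rw [← hfw, ← Category.assoc, w1_comp]
    have hi' : ∀ {X : Over S} (t : X ⟶ T), t ≫ fT = (HG.datum X).i t ≫ f := fun t => by
      rw [← hfi, ← Category.assoc]; rfl
    have hu' : ∀ {X : Over S} (a : Γ(X.left, ⊤)), gaPt a ≫ fα = (HG.datum X).u a ≫ f := fun a => by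
      rw [← hfp, ← Category.assoc]; rfl
    refine ⟨?_, ?_, ?_, ?_⟩
    · intro X t x x' hx
      rw [← gaPt_gaFn x, ← gaPt_gaFn x', hx, hi', hu', hu', ← post_inv, ← post_mul, ← post_mul]
      exact congrArg (· ≫ f) ((HG.datum X).conjU t (Red.gaFn x))
    · intro X t
      rw [hh, hi', hi', ← post_inv, ← post_mul, ← post_mul, (HG.datum X).w_conj_i 1 t]
      refine congrArg (· ≫ f) ?_
      rw [show (HG.datum X).C ((HG.datum X).χ t) = (HG.datum X).i (t ≫ α ≫ av) from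
          (HG.C_eq' (t ≫ α)).symm.trans (by rw [← HG.i_eq]; simp only [Category.assoc]),
        ← map_inv, ← map_mul, comm_torus hT]
    · have hs : h = (HG.datum (𝟙_ (Over S))).w 1 ≫ f := hfw.symm
      rw [pow_two, hm', hs, ← post_mul, Datum.w_sq, ← hfi, ← Category.assoc, ← Category.assoc]
      rfl
    · have hs : h = (HG.datum (𝟙_ (Over S))).w 1 ≫ f := hfw.symm
      have cube := (HG.datum (𝟙_ (Over S))).wu_cube (x := 1) (by
        have := HG.w_conj_u (Y := 𝟙_ (Over S)) 1 1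
        rw [inv_one, Units.val_one, _root_.one_mul, _root_.one_mul] at this
        rw [Units.val_one, this, inv_one, Units.val_one])
      rw [Units.val_one] at cube
      rw [pow_succ, pow_two, he, hs, hu', ← post_mul, ← post_mul, ← post_mul, cube, MonObj.one_comp]
  · rintro ⟨r1, r2, r3, r4⟩
    have hR : ∀ X : Over S, Rels (fun c : Γ(X.left, ⊤) => gaPt c ≫ fα) (postHom fT X)
        ((GmPts.equiv X).toMonoidHom.comp (postHom α X)) ((postHom av X).comp (GmPts.equiv X).symm.toMonoidHom)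
        (toUnit X ≫ h) := fun X =>
      { u_add := fun a b => by rw [gaPt_add, MonObj.mul_comp]
        conjU := fun t a => r1 X t (gaPt a) _ (by rw [gaFn_gaPt, gaFn_gaPt]; rfl)
        χav := (HG.datum X).χav
        hi := fun t => by
          refine (r2 X t).trans (congrArg (· ≫ fT) ?_)
          rw [← Category.assoc]
          congr 2
          exact congrArg (· ≫ av) (GmPts.ptOfUnit_unitOfPt (t ≫ α)).symm
        sq := by
          rw [← MonObj.comp_mul, ← pow_two, r3, hm']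
          change toUnit X ≫ GmPts.ptOfUnit (-1) ≫ av ≫ fT = (GmPts.ptOfUnit (-1) ≫ av) ≫ fT
          rw [← Category.assoc (toUnit X), GmPts.ptOfUnit_comp, Category.assoc]
          congr 2
          apply Units.ext
          simp }
    have hc : ∀ X : Over S, (toUnit X ≫ h) * (gaPt (1 : Γ(X.left, ⊤)) ≫ fα) * ((toUnit X ≫ h) * (gaPt 1 ≫ fα)) *
        ((toUnit X ≫ h) * (gaPt 1 ≫ fα)) = 1 := fun X => by
      have e := congrArg (toUnit X ≫ ·) r4
      simp only [pow_succ, pow_zero, _root_.one_mul, MonObj.comp_mul, MonObj.comp_one, he, ← Category.assoc,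
        gaPt_comp, map_one] at e
      exact e
    obtain ⟨H', hw⟩ := hyp_of_rels fT fα av h2 (fun X => comm_torus hT) h hR hc
    obtain ⟨f, ⟨hfm, hfi, hfp, hfv⟩, huniq⟩ := existsUnique_hom HG H' hT hconn
    refine ⟨f, ⟨hfm, hfi, hfp, ?_⟩, ?_⟩
    · rw [← Category.id_comp h, toUnit_unique (𝟙 _) (toUnit _), ← hw]
      simp only [Datum.w, post_mul, inv_one, Units.val_one]
      change ((gaPt 1 ≫ pp) ≫ f) * ((gaPt (-1) ≫ pm) ≫ f) * ((gaPt 1 ≫ pp) ≫ f) = _
      rw [Category.assoc, Category.assoc, hfp, hfv]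
    · rintro g ⟨hgm, hgi, hgp, hgw⟩
      refine huniq g ⟨hgm, hgi, hgp, ?_⟩
      have key : ∀ (X : Over S) (a : Γ(X.left, ⊤)), (gaPt a ≫ pm) ≫ g = gaPt a ≫ negMor fα h := by
        intro X a
        have e := HG.w_conj_u (Y := X) 1 (-a)
        rw [inv_one, Units.val_one, _root_.one_mul, _root_.one_mul, neg_neg] at e
        rw [show gaPt a ≫ pm = (HG.datum X).v a from rfl, ← e, post_mul, post_mul, post_inv, negMor_apply, negRoot]
        rw [show (HG.datum X).w 1 ≫ g = toUnit X ≫ h by rw [← hgw, ← Category.assoc, w1_comp]]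
        congr 2
        change (gaPt (-a) ≫ pp) ≫ g = _
        rw [Category.assoc, hgp]
      have := key (Red.Ga S) (Red.gaFn (𝟙 _))
      rwa [gaPt_gaFn, Category.id_comp, Category.id_comp] at this

end Groth.Agent.S8457
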