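import Groth.Statements.S8471
import Mathlib.FieldTheory.RatFunc.AsPolynomial
import Mathlib.FieldTheory.IsAlgClosed.AlgebraicClosure
import Mathlib.FieldTheory.IsAlgClosed.Basic
import Mathlib.RingTheory.Localization.Away.Basic
import Mathlib.RingTheory.Localization.FractionRing
import Mathlib.Algebra.MvPolynomial.CommRing

set_option autoImplicit false
open Red

namespace Groth.Agent.S8471


open Polynomial in
/-- The cleared functional equation, specialised at y = z over an algebraic closure. -/
def Spec' (k : Type) [Field k] (P Q : k[X]) : Prop :=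
  ∀ z : AlgebraicClosure k, ∀ W : RatFunc (AlgebraicClosure k),
    (W - RatFunc.X) * aeval RatFunc.X Q = algebraMap (AlgebraicClosure k) _ z * aeval RatFunc.X P →
    aeval W P * (aeval RatFunc.X Q * algebraMap (AlgebraicClosure k) _ (aeval z Q)) =
      aeval W Q * (aeval RatFunc.X P * algebraMap (AlgebraicClosure k) _ (aeval z P))

open Polynomial in
lemma aeval_ratFuncX_ne_zero {k : Type} [Field k] {P : k[X]} (hP : P ≠ 0) :
    aeval (RatFunc.X : RatFunc (AlgebraicClosure k)) P ≠ 0 := by
  rw [← RatFunc.algebraMap_X, aeval_algebraMap_apply, ← Polynomial.aeval_map_algebraMap (AlgebraicClosure k),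
    Polynomial.aeval_X_left_apply]
  simpa [Polynomial.map_ne_zero_iff (algebraMap k (AlgebraicClosure k)).injective] using hP

open Polynomial in
lemma functional_equation (k : Type) [Field k] (P Q : k[X]) (hP : P ≠ 0) (hQ : Q ≠ 0) :
    let L := FractionRing (MvPolynomial (Fin 2) k)
    let x : L := algebraMap (MvPolynomial (Fin 2) k) L (MvPolynomial.X 0)
    let y : L := algebraMap (MvPolynomial (Fin 2) k) L (MvPolynomial.X 1)
    let c := algebraMap k L
    P.eval₂ c (x + y * (P.eval₂ c x / Q.eval₂ c x)) / Q.eval₂ c (x + y * (P.eval₂ c x / Q.eval₂ c x)) =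
      P.eval₂ c x / Q.eval₂ c x * (P.eval₂ c y / Q.eval₂ c y) → Spec' k P Q := by
  intro L x y c h z W hW
  let R := MvPolynomial (Fin 2) k
  let q : R := aeval (MvPolynomial.X 0) Q
  have hinj : ∀ (i : Fin 2) (T : k[X]), T ≠ 0 → (aeval (MvPolynomial.X i) T : R) ≠ 0 := fun i T hT h0 => by
    have := congrArg (MvPolynomial.aeval (fun _ : Fin 2 => (X : k[X]))) h0
    rw [← aeval_algHom_apply, MvPolynomial.aeval_X, aeval_X_left_apply, map_zero] at this
    exact hT this
  let S := Localization.Away q
  have hq : q ≠ 0 := hinj 0 Q hQ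
  let ι : S →ₐ[k] L := IsLocalization.liftAlgHom (M := Submonoid.powers q) (f := IsScalarTower.toAlgHom k R L)
    (by rintro ⟨_, n, rfl⟩; exact IsUnit.mk0 _ (by
      simpa using (map_ne_zero_iff (algebraMap R L) (IsFractionRing.injective R L)).mpr (pow_ne_zero n hq)))
  have hι : Function.Injective ι := by
    intro a b hab
    have : Function.Injective (IsLocalization.lift (M := Submonoid.powers q) (S := S) (g := algebraMap R L)
        (by rintro ⟨_, n, rfl⟩; exact IsUnit.mk0 _ (by
          simpa using (map_ne_zero_iff (algebraMap R L) (IsFractionRing.injective R L)).mpr (pow_ne_zero n hq)))) := by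
      rw [IsLocalization.lift_injective_iff]
      intro u v
      rw [(IsLocalization.injective S (powers_le_nonZeroDivisors_of_noZeroDivisors hq)).eq_iff,
        (IsFractionRing.injective R L).eq_iff]
    exact this hab
  have hιR : ∀ r : R, ι (algebraMap R S r) = algebraMap R L r := fun r => IsLocalization.lift_eq _ r
  let xS : S := algebraMap R S (MvPolynomial.X 0)
  let yS : S := algebraMap R S (MvPolynomial.X 1)
  obtain ⟨qi, hqi⟩ : ∃ qi : S, aeval xS Q * qi = 1 := by
    have : aeval xS Q = algebraMap R S q := aeval_algebraMap_apply S (MvPolynomial.X 0) Q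
    rw [this]
    exact (IsLocalization.Away.algebraMap_isUnit q).exists_right_inv
  let G : S := xS + yS * (aeval xS P * qi)
  have hxS : ι xS = x := hιR _
  have hyS : ι yS = y := hιR _
  have hev : ∀ (s : S) (T : k[X]), T.eval₂ c (ι s) = ι (aeval s T) := fun s T => by
    rw [← aeval_algHom_apply, aeval_def]
  have hne : ∀ (i : Fin 2) (T : k[X]), T ≠ 0 → T.eval₂ c (algebraMap R L (MvPolynomial.X i)) ≠ 0 := fun i T hT => by
    rw [← aeval_def, aeval_algebraMap_apply]
    exact (map_ne_zero_iff _ (IsFractionRing.injective R L)).mpr (hinj i T hT)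
  have hG : x + y * (P.eval₂ c x / Q.eval₂ c x) = ι G := by
    have e : Q.eval₂ c x * ι qi = 1 := by rw [← hxS, hev, ← map_mul, hqi, map_one]
    rw [map_add, map_mul, map_mul, hxS, hyS, ← hev, hxS, div_eq_mul_inv, inv_eq_of_mul_eq_one_right e]
  rw [hG] at h
  have hQG : Q.eval₂ c (ι G) ≠ 0 := fun e => by
    rw [e, div_zero, eq_comm, mul_eq_zero] at h
    rcases h with h | h <;> rw [div_eq_zero_iff] at h
    · exact h.elim (hne 0 P hP) (hne 0 Q hQ)
    · exact h.elim (hne 1 P hP) (hne 1 Q hQ)
  rw [div_mul_div_comm, div_eq_div_iff hQG (mul_ne_zero (hne 0 Q hQ) (hne 1 Q hQ)), ← hxS, ← hyS] at h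
  simp only [show algebraMap R L (MvPolynomial.X 0) = ι xS from (hιR _).symm,
    show algebraMap R L (MvPolynomial.X 1) = ι yS from (hιR _).symm, hev, ← map_mul] at h
  have hS := hι h
  -- specialise
  let M := RatFunc (AlgebraicClosure k)
  let ψR : R →ₐ[k] M := MvPolynomial.aeval ![RatFunc.X, algebraMap (AlgebraicClosure k) M z]
  have hψq : ψR q = aeval (RatFunc.X : M) Q := by
    rw [← aeval_algHom_apply]
    exact congrArg (fun t => aeval t Q) (MvPolynomial.aeval_X _ 0)
  let ψ : S →ₐ[k] M := IsLocalization.liftAlgHom (M := Submonoid.powers q) (f := ψR)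
    (by rintro ⟨_, n, rfl⟩; exact IsUnit.mk0 _ (by
      simpa [hψq] using pow_ne_zero n (aeval_ratFuncX_ne_zero hQ)))
  have hψx : ψ xS = RatFunc.X := (IsLocalization.lift_eq _ _).trans (MvPolynomial.aeval_X _ 0)
  have hψy : ψ yS = algebraMap (AlgebraicClosure k) M z := (IsLocalization.lift_eq _ _).trans (MvPolynomial.aeval_X _ 1)
  have hψG : ψ G = W := by
    have e := congrArg ψ hqi
    rw [map_mul, ← aeval_algHom_apply, hψx, map_one] at e
    rw [map_add, map_mul, map_mul, ← aeval_algHom_apply, hψx, hψy]
    linear_combination (ψ qi) * hW.symm + (W - RatFunc.X) * e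
  have := congrArg ψ hS
  simp only [map_mul, ← aeval_algHom_apply, hψG, hψx, hψy] at this
  rw [aeval_algebraMap_apply, aeval_algebraMap_apply] at this
  linear_combination this

open Polynomial in
lemma degree_bound (k : Type) [Field k] (P Q : k[X]) (hPQ : IsCoprime P Q) (hQ0 : Q.eval 0 ≠ 0)
    (hP0 : P.eval 0 ≠ 0) (h : Spec' k P Q) : Q.natDegree = 0 ∧ P.natDegree ≤ 1 := by
  let K := AlgebraicClosure k
  have hQ : Q ≠ 0 := fun e => hQ0 (by simp [e])
  have hP : P ≠ 0 := fun e => hP0 (by simp [e])
  by_cases hr : ∃ z : K, aeval z P = 0 ∨ aeval z Q = 0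
  swap
  · push_neg at hr
    have : ∀ T : k[X], (∀ z : K, aeval z T ≠ 0) → T.natDegree = 0 := fun T hT => by
      by_contra hd
      obtain ⟨z, hz⟩ := IsAlgClosed.exists_aeval_eq_zero K T (fun e => hd (natDegree_eq_of_degree_eq_some e))
      exact hT z hz
    exact ⟨this Q fun z => (hr z).2, (this P fun z => (hr z).1).le.trans zero_le_one⟩
  obtain ⟨z, hz⟩ := hr
  have hz0 : z ≠ 0 := by
    rintro rfl
    rw [← map_zero (algebraMap k K), aeval_algebraMap_apply, aeval_algebraMap_apply, (algebraMap k K).injective.eq_iff,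
      (algebraMap k K).injective.eq_iff, coe_aeval_eq_eval] at hz
    exact hz.elim hP0 hQ0
  set XM : RatFunc K := RatFunc.X
  set W : RatFunc K := XM + algebraMap K _ z * (aeval XM P / aeval XM Q) with hWdef
  have hQX := aeval_ratFuncX_ne_zero hQ
  have hPX := aeval_ratFuncX_ne_zero hP
  have key := h z W (by rw [hWdef, add_sub_cancel_left, mul_assoc, div_mul_cancel₀ _ hQX])
  have hroot : aeval W P = 0 ∨ aeval W Q = 0 := by
    rcases hz with hz | hz
    · rw [hz, map_zero, mul_zero, mul_zero, mul_eq_zero] at key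
      refine Or.inl (key.resolve_right (mul_ne_zero hQX ((_root_.map_ne_zero _).mpr fun hz' => ?_)))
      exact not_isUnit_of_coprime_root hPQ hz hz'
    · rw [hz, map_zero, mul_zero, mul_zero, eq_comm, mul_eq_zero] at key
      refine Or.inr (key.resolve_right (mul_ne_zero hPX ((_root_.map_ne_zero _).mpr fun hz' => ?_)))
      exact not_isUnit_of_coprime_root hPQ hz' hz
  have hint : IsIntegral K W := by
    have aux : ∀ T : k[X], T ≠ 0 → aeval W T = 0 → IsIntegral K W := fun T hT e =>
      IsAlgebraic.isIntegral ⟨T.map (algebraMap k K), (Polynomial.map_ne_zero_iff (algebraMap k K).injective).mpr hT,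
        by rw [Polynomial.aeval_map_algebraMap]; exact e⟩
    exact hroot.elim (aux P hP) (aux Q hQ)
  obtain ⟨c, hc⟩ : W ∈ (algebraMap K (RatFunc K)).range :=
    minpoly.degree_eq_one_iff.mp (IsAlgClosed.degree_eq_one_of_irreducible K (minpoly.irreducible hint))
  set P' := P.map (algebraMap k K)
  set Q' := Q.map (algebraMap k K)
  have hco : IsCoprime P' Q' := hPQ.map (Polynomial.mapRingHom (algebraMap k K))
  have e : (Polynomial.C c - X) * Q' = Polynomial.C z * P' := by
    apply RatFunc.algebraMap_injective K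
    have hX : ∀ T : k[X], algebraMap K[X] (RatFunc K) (T.map (algebraMap k K)) = aeval XM T := fun T => by
      rw [show XM = algebraMap K[X] (RatFunc K) X from RatFunc.algebraMap_X.symm, aeval_algebraMap_apply,
        ← Polynomial.aeval_map_algebraMap K, Polynomial.aeval_X_left_apply]
    rw [map_mul, map_mul, map_sub, RatFunc.algebraMap_C, RatFunc.algebraMap_C, RatFunc.algebraMap_X, hX, hX,
      ← RatFunc.algebraMap_eq_C, hc, hWdef, add_sub_cancel_left, mul_assoc, div_mul_cancel₀ _ hQX]
  have hdvd : Q' ∣ Polynomial.C z := hco.symm.dvd_of_dvd_mul_right ⟨Polynomial.C c - X, by rw [← e]; ring⟩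
  have hQd : Q'.natDegree = 0 := Nat.le_zero.mp ((natDegree_le_of_dvd hdvd (C_ne_zero.mpr hz0)).trans (natDegree_C z).le)
  refine ⟨by rwa [natDegree_map] at hQd, ?_⟩
  have : P'.natDegree ≤ 1 := by
    rw [← natDegree_C_mul (p := P') hz0, ← e]
    refine natDegree_mul_le.trans ?_
    rw [hQd, add_zero]
    exact (natDegree_sub_le _ _).trans (by simp)
  rwa [natDegree_map] at this
where
  not_isUnit_of_coprime_root {k : Type} [Field k] {P Q : Polynomial k} {z : AlgebraicClosure k}
      (hPQ : IsCoprime P Q) (h1 : Polynomial.aeval z P = 0) (h2 : Polynomial.aeval z Q = 0) : False := by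
    obtain ⟨a, b, hab⟩ := hPQ
    have := congrArg (Polynomial.aeval z) hab
    rw [map_add, map_mul, map_mul, h1, h2, map_one] at this
    simp at this

/-- Let k be a field and F ∈ k(X) a rational function whose denominator does not vanish at 0 and with
F(0) = 1. Suppose that in the field of fractions L of k[X₀, X₁] one has F(X₀ + X₁ · F(X₀)) = F(X₀) ·
F(X₁) (the functional equation F(x + y F(x)) = F(x) F(y)). Then there is a ∈ k with F = 1 + a X.
(The published statement takes the identity on an open neighbourhood of the origin of 𝔾_a × 𝔾_a on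
which all terms are defined; this row takes it as an identity of rational functions in two
variables.) -/
theorem result (k : Type) [Field k] (F : RatFunc k)
    (h0 : F.denom.eval 0 ≠ 0) (h1 : F.num.eval 0 = F.denom.eval 0)
    (hFE : RatFunc.eval (algebraMap k (FractionRing (MvPolynomial (Fin 2) k)))
        (algebraMap (MvPolynomial (Fin 2) k) (FractionRing (MvPolynomial (Fin 2) k)) (MvPolynomial.X 0) +
          algebraMap (MvPolynomial (Fin 2) k) (FractionRing (MvPolynomial (Fin 2) k)) (MvPolynomial.X 1) *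
            RatFunc.eval (algebraMap k (FractionRing (MvPolynomial (Fin 2) k)))
              (algebraMap (MvPolynomial (Fin 2) k) (FractionRing (MvPolynomial (Fin 2) k)) (MvPolynomial.X 0)) F) F =
      RatFunc.eval (algebraMap k (FractionRing (MvPolynomial (Fin 2) k)))
          (algebraMap (MvPolynomial (Fin 2) k) (FractionRing (MvPolynomial (Fin 2) k)) (MvPolynomial.X 0)) F *
        RatFunc.eval (algebraMap k (FractionRing (MvPolynomial (Fin 2) k)))
          (algebraMap (MvPolynomial (Fin 2) k) (FractionRing (MvPolynomial (Fin 2) k)) (MvPolynomial.X 1)) F) :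
    ∃ a : k, F = 1 + RatFunc.C a * RatFunc.X := by
  have hQ0 : F.denom ≠ 0 := F.denom_ne_zero
  have hP0 : F.num ≠ 0 := fun h => h0 (by rw [← h1, h, Polynomial.eval_zero])
  obtain ⟨hQd, hPd⟩ := degree_bound k F.num F.denom F.isCoprime_num_denom h0 (h1 ▸ h0)
    (functional_equation k F.num F.denom hP0 hQ0 hFE)
  have hQ : F.denom = Polynomial.C (F.denom.eval 0) := by
    conv_lhs => rw [Polynomial.eq_C_of_natDegree_eq_zero hQd]
    rw [← Polynomial.coeff_zero_eq_eval_zero]
  have hP : F.num = Polynomial.C (F.num.coeff 1) * Polynomial.X + Polynomial.C (F.denom.eval 0) := by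
    conv_lhs => rw [Polynomial.eq_X_add_C_of_natDegree_le_one hPd]
    rw [Polynomial.coeff_zero_eq_eval_zero, h1]
  refine ⟨F.num.coeff 1 / F.denom.eval 0, ?_⟩
  conv_lhs => rw [← F.num_div_denom, hP, hQ]
  have hc : RatFunc.C (F.denom.eval 0) ≠ 0 := (map_ne_zero _).mpr h0
  simp only [map_add, map_mul, RatFunc.algebraMap_C, RatFunc.algebraMap_X, map_div₀]
  simp only [Polynomial.eval_C]
  field_simp
  ring

end Groth.Agent.S8471
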