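import Groth.Statements.S8473
import Groth.Agent.Lib.FixedEtale.Main
import Groth.Agent.Lib.TorusNorm25.Torus
import Groth.Agent.Lib.CentralTor14.Rigid
import Groth.Agent.Lib.RedPts.Ga

set_option autoImplicit false
universe u
open CategoryTheory MonoidalCategory CartesianMonoidalCategory MonObj GrpObj AlgebraicGeometry CategoryTheory.Limits
open Red

namespace Groth.Agent.S8473

/-- Let k be an algebraically closed field, T a k-torus, α : T ⟶ 𝔾_m a non-trivial character and P the
semi-direct product T ⋉_α 𝔾_a, given as a k-group P with homomorphisms j_T : T ⟶ P and j_U : 𝔾_a ⟶ P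
such that (t, x) ↦ j_T(t) j_U(x) is an isomorphism of schemes T × 𝔾_a ≅ P and j_T(t) j_U(x) j_T(t)⁻¹
= j_U(α(t) x). Let n : N ⟶ P be a normal subgroup scheme which is étale over k and such that N ∩ T
is trivial (a point of N whose image is in j_T(T) is the unit). Then N is the trivial group. -/
theorem result (K : Type u) [Field K] [IsAlgClosed K]
    (T P N : Over (Spec (CommRingCat.of K))) [GrpObj T] [GrpObj P] [GrpObj N] (hT : Red.IsTorus T)
    (α : T ⟶ Red.Gm (Spec (CommRingCat.of K))) [IsMonHom α] (hα : α ≠ 1)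
    (jT : T ⟶ P) [IsMonHom jT] (jU : Red.Ga (Spec (CommRingCat.of K)) ⟶ P) [IsMonHom jU] (hiso : IsIso ((jT ⊗ₘ jU) ≫ μ[P]))
    (hconj : ∀ (X : Over (Spec (CommRingCat.of K))) (t : X ⟶ T) (x x' : X ⟶ Red.Ga (Spec (CommRingCat.of K))), Red.gaFn x' = Red.gmFn (t ≫ α) * Red.gaFn x →
      (t ≫ jT) * (x ≫ jU) * (t ≫ jT)⁻¹ = x' ≫ jU)
    (n : N ⟶ P) [IsMonHom n] [Mono n] (hn : AlgGrp.IsNormalHom n) (het : Etale N.hom)
    (hNT : ∀ (X : Over (Spec (CommRingCat.of K))) (t : X ⟶ T) (m : X ⟶ N), t ≫ jT = m ≫ n → m = 1) :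
    Red.IsTrivialGrp N := by
  classical
  haveI := het
  haveI : Subsingleton ↥(Spec (CommRingCat.of K)) := inferInstanceAs (Subsingleton (PrimeSpectrum K))
  haveI : ConnectedSpace ↥T.left := by
    have h := GrothLib.TorusNorm25.isConnected_fibre_of_isTorus hT (IsLocalRing.closedPoint K)
    refine connectedSpace_iff_univ.mpr ?_
    convert h using 1
    exact (Set.eq_univ_of_forall fun x => Subsingleton.elim _ _).symm
  haveI := hiso
  -- every rational point of `N` is trivial
  have hpt : ∀ m : 𝟙_ (Over (Spec (CommRingCat.of K))) ⟶ N, m = 1 := by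
    intro m
    obtain ⟨φ, hφ⟩ := hn T jT (toUnit T ≫ m)
    have he : η[T] ≫ φ = m := by
      rw [← cancel_mono n, Category.assoc, ← hφ]
      simp only [MonObj.comp_mul, GrpObj.comp_inv, IsMonHom.one_hom jT]
      rw [← Category.assoc, ← Category.assoc, toUnit_unique (η[T] ≫ toUnit T) (𝟙 _), Category.id_comp,
        show η[P] = (1 : 𝟙_ (Over (Spec (CommRingCat.of K))) ⟶ P) by
          rw [Hom.one_def, toUnit_unique (toUnit _) (𝟙 _), Category.id_comp]]
      simp
    have hφm : φ = toUnit T ≫ m := by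
      rw [← he]
      apply Over.OverMorphism.ext
      rw [Over.comp_left, Over.comp_left]
      exact GrothLib.FixedEtale.eq_of_connected T.hom η[T].left (Over.w η[T]) N.hom φ.left (Over.w φ)
    rw [hφm, Category.assoc] at hφ
    -- decompose `m`
    obtain ⟨w, hw⟩ : ∃ w : 𝟙_ (Over (Spec (CommRingCat.of K))) ⟶ T ⊗ Red.Ga (Spec (CommRingCat.of K)),
        w ≫ (jT ⊗ₘ jU) ≫ μ[P] = m ≫ n :=
      ⟨(m ≫ n) ≫ CategoryTheory.inv ((jT ⊗ₘ jU) ≫ μ[P]), by simp⟩
    have hdec : ∀ {X : Over (Spec (CommRingCat.of K))} (p : X ⟶ T) (q : X ⟶ Red.Ga (Spec (CommRingCat.of K))),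
        lift p q ≫ (jT ⊗ₘ jU) ≫ μ[P] = (p ≫ jT) * (q ≫ jU) := by
      intro X p q
      rw [← Category.assoc, lift_map, ← Hom.mul_def]
    obtain ⟨t, x, hmx⟩ : ∃ (t : 𝟙_ (Over (Spec (CommRingCat.of K))) ⟶ T) (x : 𝟙_ (Over (Spec (CommRingCat.of K))) ⟶
        Red.Ga (Spec (CommRingCat.of K))), m ≫ n = (t ≫ jT) * (x ≫ jU) :=
      ⟨w ≫ fst _ _, w ≫ snd _ _, by rw [← hw, ← hdec, ← comp_lift, lift_fst_snd, Category.comp_id]⟩
    let a := toUnit T ≫ t
    let b := toUnit T ≫ x
    let b' : T ⟶ Red.Ga (Spec (CommRingCat.of K)) := GrothLib.RedPts.gaPt (Red.gmFn α * Red.gaFn b)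
    have hb' : Red.gaFn b' = Red.gmFn (𝟙 T ≫ α) * Red.gaFn b := by
      rw [Category.id_comp]; exact GrothLib.RedPts.gaFn_gaPt _
    have hM : toUnit T ≫ m ≫ n = (a ≫ jT) * (b ≫ jU) := by
      rw [hmx, MonObj.comp_mul]; simp only [a, b, Category.assoc]
    have hC : ((𝟙 T * a * (𝟙 T)⁻¹) ≫ jT) * (b' ≫ jU) = (a ≫ jT) * (b ≫ jU) := by
      rw [← hconj T (𝟙 T) b b' hb', MonObj.mul_comp, MonObj.mul_comp, GrpObj.inv_comp, Category.id_comp, ← hM, ← hφ, hM]
      group
    rw [← hdec, ← hdec, cancel_mono] at hC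
    have hb : b' = b := by
      have := congrArg (fun z => z ≫ snd T (Red.Ga (Spec (CommRingCat.of K)))) hC
      simpa using this
    have hfix : Red.gmFn α * T.hom.appTop (Red.gaFn x) = T.hom.appTop (Red.gaFn x) := by
      have h := congrArg Red.gaFn hb
      rw [GrothLib.RedPts.gaFn_gaPt] at h
      simp only [b, GrothLib.RedPts.gaFn_comp, Over.toUnit_left] at h
      exact h
    have hx : Red.gaFn x = 0 := by
      by_contra hne
      have hu : IsUnit (Red.gaFn x) := by
        let e : Γ((𝟙_ (Over (Spec (CommRingCat.of K)))).left, ⊤) ≃+* K :=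
          (Scheme.ΓSpecIso (CommRingCat.of K)).commRingCatIsoToRingEquiv
        rw [← e.symm_apply_apply (Red.gaFn x)]
        exact (IsUnit.mk0 (e (Red.gaFn x)) fun h => hne (e.injective (h.trans e.map_zero.symm))).map e.symm
      exact hα (GmPts.gmFn_injective (((hu.map T.hom.appTop.hom).mul_eq_right.mp hfix).trans GmPts.gmFn_one.symm))
    refine hNT _ t m ?_
    rw [hmx, show x = 1 from GrothLib.RedPts.gaFn_injective (hx.trans GrothLib.RedPts.gaFn_one.symm),
      MonObj.one_comp, _root_.mul_one]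
  -- the unit section is an isomorphism
  haveI : IsClosedImmersion η[N].left := isClosedImmersion_of_comp_eq_id N.hom η[N].left (Over.w η[N])
  haveI : Etale η[N].left := by
    haveI : Etale (η[N].left ≫ N.hom) := by rw [Over.w η[N]]; exact inferInstanceAs (Etale (𝟙 _))
    exact Etale.of_comp η[N].left N.hom
  haveI : IsOpenImmersion η[N].left := IsOpenImmersion.of_flat_of_mono _
  haveI : Surjective η[N].left := by
    refine ⟨fun z => ?_⟩
    by_contra hz
    obtain ⟨y, hy, hyU⟩ := GrothLib.CentralTor14.exists_pt N.hom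
      ⟨(Set.range η[N].left)ᶜ, η[N].left.isClosedEmbedding.isClosed_range.isOpen_compl⟩ ⟨z, hz⟩
    have h1 := congrArg Over.Hom.left (hpt (Over.homMk y hy))
    rw [Hom.one_def, toUnit_unique (toUnit _) (𝟙 _), Category.id_comp] at h1
    exact hyU ⟨IsLocalRing.closedPoint K, by rw [← h1]; rfl⟩
  haveI : IsIso η[N].left := by
    rw [isIso_iff_isOpenImmersion_and_surjective]; exact ⟨inferInstance, inferInstance⟩
  haveI : IsIso (η[N].left ≫ N.hom) := by rw [Over.w η[N]]; exact inferInstanceAs (IsIso (𝟙 _))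
  exact IsIso.of_isIso_comp_left η[N].left N.hom

end Groth.Agent.S8473
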