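import Groth.Statements.S8474
import Groth.Agent.Lib.MonoSemi14.Basic
import Groth.Agent.Lib.FibreLocus.Hom
import Groth.Agent.Lib.CharFibL14.Basic
import Mathlib.LinearAlgebra.SymmetricAlgebra.Basis
import Mathlib.RingTheory.Smooth.Basic
import Groth.Agent.Lib.TorusNorm25.Torus
import Groth.Agent.Lib.EssFree.Transporter
import Groth.Agent.Lib.RedPts.Ga
import Groth.Prelude.Def_GmPts
-- import your own Groth.Agent.* helpers here

set_option autoImplicit false
universe u
open CategoryTheory MonoidalCategory CartesianMonoidalCategory MonObj GrpObj AlgebraicGeometry CategoryTheory.Limits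
open Red

namespace Groth.Agent.S8474

open GrothLib

theorem smooth_Ga (S : Scheme.{u}) : Smooth (Red.Ga S).hom := by
  haveI : Algebra.Smooth (ULift.{u} ℤ) (MvPolynomial Unit (ULift.{u} ℤ)) := ⟨inferInstance, inferInstance⟩
  haveI h0 : Algebra.Smooth (ULift.{u} ℤ) (SymmetricAlgebra (ULift.{u} ℤ) (ULift.{u} ℤ)) :=
    Algebra.Smooth.of_equiv (SymmetricAlgebra.equivMvPolynomial
      (Module.Basis.singleton Unit (ULift.{u} ℤ))).symm
  haveI : Smooth Red.GaZ.{u}.hom :=
    (HasRingHomProperty.Spec_iff (P := @Smooth)).mpr (RingHom.smooth_algebraMap.mpr h0)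
  exact MorphismProperty.of_isPullback (P := @Smooth)
    (IsPullback.of_hasPullback Red.GaZ.{u}.hom (Limits.IsTerminal.from specULiftZIsTerminal S)) ‹_›

theorem isMultTypeFT_of_isTorus {S : Scheme.{u}} {T : Over S} [GrpObj T] (hT : Red.IsTorus T) :
    SGA3x.IsMultTypeFT T := by
  obtain ⟨S', f, h1, h2, h3, h4⟩ := hT
  exact ⟨S', f, h1, h2, h3, fun s' => by
    obtain ⟨U, hU, r, e⟩ := h4 s'
    exact ⟨U, hU, _, _, DiagGrp.fg_int_pi r, e⟩⟩

section

variable {S : Scheme.{u}} {G T P : Over S} [GrpObj G] [GrpObj T] [GrpObj P]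
  (α : T ⟶ Red.Gm S) (jT : T ⟶ P) (jU : Red.Ga S ⟶ P) (f : P ⟶ G)

theorem lift_prod {X : Over S} (t : X ⟶ T) (y : X ⟶ Red.Ga S) :
    lift t y ≫ ((jT ⊗ₘ jU) ≫ μ[P]) = (t ≫ jT) * (y ≫ jU) := by
  rw [← Category.assoc, lift_map, Hom.mul_def]

theorem exists_char_value (L : Type u) [Field L] [IsAlgClosed L] (σ : Spec (CommRingCat.of L) ⟶ S)
    [Surjective α.left] [LocallyOfFiniteType α.left] (c : Γ((Over.mk σ).left, ⊤)ˣ) :
    ∃ t : Over.mk σ ⟶ T, Red.gmFn (t ≫ α) = c := by
  let p : Over.mk σ ⟶ Red.Gm S := GmPts.ptOfUnit c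
  let q : Limits.pullback α.left p.left ⟶ Spec (CommRingCat.of L) := Limits.pullback.snd α.left p.left
  haveI : LocallyOfFiniteType q := MorphismProperty.pullback_snd (P := @LocallyOfFiniteType) _ _ ‹_›
  haveI : Surjective q := MorphismProperty.pullback_snd (P := @Surjective) _ _ ‹_›
  haveI : JacobsonSpace ↥(Limits.pullback α.left p.left) := LocallyOfFiniteType.jacobsonSpace q
  obtain ⟨z, -⟩ := q.surjective (IsLocalRing.closedPoint L)
  obtain ⟨z₀, -, hz₀⟩ := nonempty_inter_closedPoints (Z := (Set.univ : Set ↥(Limits.pullback α.left p.left)))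
    ⟨z, trivial⟩ isClosed_univ.isLocallyClosed
  let s := pointOfClosedPoint q z₀ hz₀
  have hs : (s ≫ Limits.pullback.fst α.left p.left) ≫ α.left = p.left := by
    rw [Category.assoc, Limits.pullback.condition, pointOfClosedPoint_comp_assoc]
  let t : Over.mk σ ⟶ T := Over.homMk (s ≫ Limits.pullback.fst α.left p.left) (by
    rw [← Over.w α, ← Category.assoc, hs]
    exact Over.w p)
  have ht : t ≫ α = p := Over.OverMorphism.ext hs
  exact ⟨t, by rw [ht]; exact GmPts.gmFn_ptOfUnit c⟩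

variable [IsMonHom jT] [IsMonHom jU] [IsMonHom f]

theorem kernel_trivial (hiso : IsIso ((jT ⊗ₘ jU) ≫ μ[P]))
    (hconj : ∀ (X : Over S) (t : X ⟶ T) (x x' : X ⟶ Red.Ga S), Red.gaFn x' = Red.gmFn (t ≫ α) * Red.gaFn x →
      (t ≫ jT) * (x ≫ jU) * (t ≫ jT)⁻¹ = x' ≫ jU)
    (hcomm : ∀ (X : Over S) (a b : X ⟶ T), a * b = b * a)
    [Surjective α.left] [LocallyOfFiniteType α.left] [Mono (jT ≫ f)]
    (L : Type u) [Field L] [IsAlgClosed L] (σ : Spec (CommRingCat.of L) ⟶ S)
    (hfin : {x : Over.mk σ ⟶ P | x ≫ f = 1}.Finite) (x : Over.mk σ ⟶ P) (hx : x ≫ f = 1) : x = 1 := by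
  let m := (jT ⊗ₘ jU) ≫ μ[P]
  let e : Γ((Over.mk σ).left, ⊤) ≃+* L := (Scheme.ΓSpecIso (CommRingCat.of L)).commRingCatIsoToRingEquiv
  -- the kernel meets the unipotent part trivially
  have hU : ∀ z : Over.mk σ ⟶ Red.Ga S, z ≫ jU ≫ f = 1 → z = 1 := by
    intro z hz
    by_contra hne
    have ha : e (Red.gaFn z) ≠ 0 := fun h => hne (RedPts.gaFn_injective (by
      rw [RedPts.gaFn_one]
      exact e.map_eq_zero_iff.mp h))
    have hfinU : {z : Over.mk σ ⟶ Red.Ga S | z ≫ jU ≫ f = 1}.Finite := by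
      refine Set.Finite.of_finite_image (f := fun z => z ≫ jU)
        (hfin.subset ?_) (fun z₁ _ z₂ _ h => ?_)
      · rintro _ ⟨w, hw, rfl⟩
        exact (Category.assoc _ _ _).trans hw
      · have h' : lift (1 : Over.mk σ ⟶ T) z₁ ≫ m = lift (1 : Over.mk σ ⟶ T) z₂ ≫ m := by
          rw [lift_prod jT jU, lift_prod jT jU, MonObj.one_comp, _root_.one_mul, _root_.one_mul]
          exact h
        haveI : IsIso m := hiso
        have h2 := congrArg (· ≫ snd T (Red.Ga S)) ((cancel_mono m).mp h')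
        simpa using h2
    let F : L → (Over.mk σ ⟶ Red.Ga S) := fun c => RedPts.gaPt (e.symm c * Red.gaFn z)
    have hF : Function.Injective F := fun c c' h => by
      have h1 := congrArg Red.gaFn h
      simp only [F, RedPts.gaFn_gaPt] at h1
      have h2 := congrArg e h1
      rw [map_mul, map_mul, RingEquiv.apply_symm_apply, RingEquiv.apply_symm_apply] at h2
      exact mul_right_cancel₀ ha h2
    refine Set.infinite_range_of_injective hF (hfinU.subset ?_)
    rintro _ ⟨c, rfl⟩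
    rcases eq_or_ne c 0 with rfl | hc
    · have h0 : F 0 = 1 := RedPts.gaFn_injective (by
        simp only [F, RedPts.gaFn_gaPt, map_zero, zero_mul, RedPts.gaFn_one])
      change F 0 ≫ jU ≫ f = 1
      rw [h0, MonObj.one_comp]
    · obtain ⟨t, ht⟩ := exists_char_value α L σ ((isUnit_iff_ne_zero.mpr hc).map e.symm).unit
      have hc' := hconj _ t z (F c) (by rw [RedPts.gaFn_gaPt, ht, IsUnit.unit_spec])
      change F c ≫ jU ≫ f = 1
      rw [← Category.assoc, ← hc', MonObj.mul_comp, MonObj.mul_comp, Category.assoc z, hz, _root_.mul_one,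
        GrpObj.inv_comp, mul_inv_cancel]
  haveI : IsIso m := hiso
  let t : Over.mk σ ⟶ T := x ≫ inv m ≫ fst T (Red.Ga S)
  let y : Over.mk σ ⟶ Red.Ga S := x ≫ inv m ≫ snd T (Red.Ga S)
  have hxy : x = (t ≫ jT) * (y ≫ jU) := by
    rw [← lift_prod jT jU]
    have : lift t y = x ≫ inv m := by
      apply CartesianMonoidalCategory.hom_ext
      · rw [lift_fst, Category.assoc]
      · rw [lift_snd, Category.assoc]
    rw [this, Category.assoc, IsIso.inv_hom_id, Category.comp_id]
  obtain ⟨c, hc⟩ := Set.Finite.exists_notMem (Set.toFinite ({0, 1} : Set L))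
  simp only [Set.mem_insert_iff, Set.mem_singleton_iff, not_or] at hc
  obtain ⟨t', ht'⟩ := exists_char_value α L σ ((isUnit_iff_ne_zero.mpr hc.1).map e.symm).unit
  rw [IsUnit.unit_spec] at ht'
  let y' : Over.mk σ ⟶ Red.Ga S := RedPts.gaPt (e.symm c * Red.gaFn y)
  have hconj' := hconj _ t' y y' (by rw [RedPts.gaFn_gaPt, ht'])
  have hx' : ((t ≫ jT) * (y' ≫ jU)) ≫ f = 1 := by
    have h1 : (t' ≫ jT) * x * (t' ≫ jT)⁻¹ = (t ≫ jT) * (y' ≫ jU) := by
      have hc2 : (t' ≫ jT) * (t ≫ jT) = (t ≫ jT) * (t' ≫ jT) := by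
        rw [← MonObj.mul_comp, ← MonObj.mul_comp, hcomm]
      rw [hxy, ← hconj', ← _root_.mul_assoc (t' ≫ jT), hc2]
      simp only [_root_.mul_assoc]
    rw [← h1, MonObj.mul_comp, MonObj.mul_comp, hx, _root_.mul_one, GrpObj.inv_comp, mul_inv_cancel]
  rw [hxy] at hx
  rw [MonObj.mul_comp] at hx hx'
  have hyy : (y ≫ jU) ≫ f = (y' ≫ jU) ≫ f := mul_left_cancel (hx.trans hx'.symm)
  have hz := hU (y⁻¹ * y') (by
    rw [← Category.assoc, MonObj.mul_comp, GrpObj.inv_comp, MonObj.mul_comp, GrpObj.inv_comp, hyy, inv_mul_cancel])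
  have hy : y = 1 := by
    apply RedPts.gaFn_injective
    rw [RedPts.gaFn_one]
    have h1 : (y' : Over.mk σ ⟶ Red.Ga S) = y := (inv_mul_eq_one.mp hz).symm
    have h2 := congrArg (fun w => e (Red.gaFn w)) h1
    simp only [y', RedPts.gaFn_gaPt, map_mul, RingEquiv.apply_symm_apply] at h2
    exact e.map_eq_zero_iff.mp ((mul_left_eq_self₀.mp h2).resolve_left hc.2)
  rw [hy, MonObj.one_comp, MonObj.one_comp, _root_.mul_one, Category.assoc] at hx
  have ht : t = 1 := (cancel_mono (jT ≫ f)).mp (by rw [hx, MonObj.one_comp])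
  rw [hxy, ht, hy, MonObj.one_comp, MonObj.one_comp, _root_.one_mul]

end

/-- Let G be an S-group scheme of finite presentation over S, T an S-torus, α : T ⟶ 𝔾_m a character
non-trivial on every geometric fibre, and P = T ⋉_α 𝔾_a, given as an S-group P with homomorphisms
j_T : T ⟶ P, j_U : 𝔾_a ⟶ P such that (t, x) ↦ j_T(t) j_U(x) is an isomorphism of schemes T ×_S 𝔾_a ≅
P and j_T(t) j_U(x) j_T(t)⁻¹ = j_U(α(t) x). Let s₀ be a point of S and f : P ⟶ G a homomorphism
whose base change to the fibre at s₀ is a monomorphism and whose restriction j_T ∘ f to T is a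
monomorphism. Then there is an open neighbourhood U of s₀ over which f is a monomorphism. -/
theorem result (S : Scheme.{u}) (G T P : Over S) [GrpObj G] [GrpObj T] [GrpObj P]
    [LocallyOfFinitePresentation G.hom] [QuasiCompact G.hom] [QuasiSeparated G.hom] (hT : Red.IsTorus T)
    (α : T ⟶ Red.Gm S) [IsMonHom α] (hα : ∀ s : S, (Over.pullback (Red.geomPt s)).map α ≠ 1)
    (jT : T ⟶ P) [IsMonHom jT] (jU : Red.Ga S ⟶ P) [IsMonHom jU] (hiso : IsIso ((jT ⊗ₘ jU) ≫ μ[P]))
    (hconj : ∀ (X : Over S) (t : X ⟶ T) (x x' : X ⟶ Red.Ga S), Red.gaFn x' = Red.gmFn (t ≫ α) * Red.gaFn x →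
      (t ≫ jT) * (x ≫ jU) * (t ≫ jT)⁻¹ = x' ≫ jU)
    (s₀ : S) (f : P ⟶ G) [IsMonHom f] [Mono ((Over.pullback (S.fromSpecResidueField s₀)).map f)] [Mono (jT ≫ f)] :
    ∃ U : S.Opens, s₀ ∈ U ∧ Mono ((Over.pullback U.ι).map f) := by
  haveI := hiso
  haveI hTs : Smooth T.hom := TorusNorm25.smooth_of_isTorus hT
  haveI hTa : IsAffineHom T.hom := EssFree.isAffineHom_multTypeFT T
    (isMultTypeFT_of_isTorus hT)
  haveI : Smooth (Red.Ga S).hom := smooth_Ga S
  haveI : IsAffineHom (Red.Ga S).hom := MorphismProperty.of_isPullback (P := @IsAffineHom)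
    (IsPullback.of_hasPullback Red.GaZ.{u}.hom (Limits.IsTerminal.from specULiftZIsTerminal S))
    (inferInstanceAs (IsAffineHom (Spec.map _)))
  let e := asIso ((jT ⊗ₘ jU) ≫ μ[P])
  have hP : P.hom = e.inv.left ≫ (Limits.pullback.fst T.hom (Red.Ga S).hom ≫ T.hom) := (Over.w e.inv).symm
  haveI : IsIso e.inv.left := inferInstanceAs (IsIso ((Over.forget S).map e.inv))
  haveI : Smooth P.hom := by rw [hP]; infer_instance
  haveI : QuasiCompact P.hom := by rw [hP]; infer_instance
  haveI : LocallyOfFinitePresentation f.left := FibreLocus.lfp_left f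
  haveI : QuasiCompact f.left := by
    haveI : QuasiCompact (f.left ≫ G.hom) := by rw [Over.w f]; infer_instance
    exact QuasiCompact.of_comp f.left G.hom
  haveI : LocallyOfFiniteType α.left := by
    haveI : LocallyOfFiniteType (α.left ≫ (Red.Gm S).hom) := by rw [Over.w α]; infer_instance
    exact locallyOfFiniteType_of_comp α.left (Red.Gm S).hom
  haveI : Surjective α.left := (CharFibL14.flat_surjective_of_base_changes hT α
    fun S' g h => CharFibL14.ne_one_of_geomFibres α hα g h).2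
  obtain ⟨hopen, hZ⟩ := FibreLocus.unramified_locus f (fun s => FibreLocus.lft_fibres s)
  let U : S.Opens := ⟨_, hopen⟩
  have hs₀ : s₀ ∈ U := by
    haveI : Mono ((Over.pullback (S.fromSpecResidueField s₀)).map f).left :=
      inferInstanceAs (Mono ((Over.forget _).map ((Over.pullback (S.fromSpecResidueField s₀)).map f)))
    change FormallyUnramified ((Over.pullback (S.fromSpecResidueField s₀)).map f).left
    infer_instance
  refine ⟨U, hs₀, ?_⟩
  set fU := (Over.pullback U.ι).map f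
  have sq := FibreLocus.isPullback_map_left f U.ι
  haveI : IsZariskiLocalAtSource (@FormallyUnramified : MorphismProperty Scheme.{u}) :=
    HasRingHomProperty.instIsZariskiLocalAtSource
  haveI : FormallyUnramified ((P.hom ⁻¹ᵁ U).ι ≫ f.left) := by
    have hx : ∀ z : (P.hom ⁻¹ᵁ U : Scheme.{u}),
        ∃ V : P.left.Opens, z.1 ∈ V ∧ FormallyUnramified (V.ι ≫ f.left) := fun z => by
      show z.1 ∈ {x : P.left | ∃ W : P.left.Opens, x ∈ W ∧ FormallyUnramified (W.ι ≫ f.left)}
      rw [hZ]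
      exact z.2
    choose V hzV hV using hx
    rw [IsZariskiLocalAtSource.iff_of_iSup_eq_top (P := @FormallyUnramified) (fun z => (P.hom ⁻¹ᵁ U).ι ⁻¹ᵁ V z)
      (top_le_iff.mp fun z _ => TopologicalSpace.Opens.mem_iSup.mpr ⟨z, hzV z⟩)]
    intro z
    haveI := hV z
    rw [← morphismRestrict_ι_assoc]
    exact MorphismProperty.comp_mem @FormallyUnramified _ _ inferInstance ‹_›
  haveI : FormallyUnramified fU.left := by
    haveI : FormallyUnramified (fU.left ≫ Limits.pullback.fst G.hom U.ι) := by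
      rw [sq.w, ← pullbackRestrictIsoRestrict_hom_ι P.hom U, Category.assoc,
        MorphismProperty.cancel_left_of_respectsIso @FormallyUnramified]
      infer_instance
    exact FormallyUnramified.of_comp fU.left (Limits.pullback.fst G.hom U.ι)
  haveI : LocallyOfFiniteType fU.left :=
    MorphismProperty.of_isPullback (P := @LocallyOfFiniteType) sq.flip inferInstance
  haveI : QuasiCompact fU.left :=
    MorphismProperty.of_isPullback (P := @QuasiCompact) sq.flip inferInstance
  haveI : LocallyOfFiniteType (Red.bc U.ι P).hom :=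
    inferInstanceAs (LocallyOfFiniteType (Limits.pullback.snd P.hom U.ι))
  refine MonoSemi14.mono_of_geom_points fU fun L _ _ σ x hx => ?_
  let Φ := DiagGrp.bcPointMulEquiv U.ι P (Over.mk σ)
  let Ψ := DiagGrp.bcPointMulEquiv U.ι G (Over.mk σ)
  have hker : ∀ a, a ≫ f = 1 ↔ Φ a ≫ fU = 1 := fun a => by
    have h1 : Ψ (a ≫ f) = Φ a ≫ fU := DiagGrp.bcPoint_comp_right U.ι a f
    rw [← h1, ← map_one Ψ, Ψ.injective.eq_iff]
  obtain ⟨a, rfl⟩ := Φ.surjective x
  have hfin : {a : (Over.map U.ι).obj (Over.mk σ) ⟶ P | a ≫ f = 1}.Finite := by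
    have h := (MonoSemi14.finite_kernel_points fU L σ).preimage (Φ.injective.injOn)
    exact h.subset fun b hb => (hker b).mp hb
  rw [show a = 1 from kernel_trivial α jT jU f hiso hconj
    (DiagGrp.mul_comm_of_charts (DiagGrp.hasChartsFpqc_of_isTorus_any hT)) L (σ ≫ U.ι) hfin a ((hker a).mpr hx),
    map_one]

end Groth.Agent.S8474
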