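import Groth.Statements.S8476
import Groth.Agent.Lib.RankOne.Concrete

set_option autoImplicit false
universe u
open CategoryTheory MonoidalCategory CartesianMonoidalCategory MonObj GrpObj AlgebraicGeometry CategoryTheory.Limits
open Red

namespace Groth.Agent.S8476

/-- The product of two elements of the big cell: Let G be an S-group scheme, i : T ⟶ G a torus of G (a
monomorphism of groups), α : T ⟶ 𝔾_m and α^* : 𝔾_m ⟶ T homomorphisms with α ∘ α^* the squaring map,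
and p₊, p₋ : 𝔾_a ⟶ G homomorphisms normalised by T with multipliers α and α⁻¹ which satisfy the
rank-one commutation rule: whenever 1 + xy is invertible, p₊(x) p₋(y) = p₋(y/(1+xy)) · i(α^*(1+xy))
· p₊(x/(1+xy)) (the situation of any reductive group of semisimple rank 1 with trivialised root
groups, where α^* is the coroot). Let y, t, x, y', t', x' be points (of 𝔾_a, T, 𝔾_a, ...) with u = 1
+ x y' invertible. Then p₋(y) i(t) p₊(x) · p₋(y') i(t') p₊(x') = p₋(y + y'/(u α(t))) · i(t α^*(u)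
t') · p₊(x/(u α(t')) + x'). (The published statement is for a reductive group of semisimple rank one
with a maximal torus and a root, and also asserts that the product lies in the big cell only if u is
invertible; this row assumes only the commutation rule, the normalisation of p₊, p₋ by T and α ∘ α^*
the squaring map, which is all the published proof uses for the product formula, and does not assert
the converse membership statement.) -/
theorem result (S : Scheme.{u}) (G T : Over S) [GrpObj G] [GrpObj T] (i : T ⟶ G) [IsMonHom i] [Mono i] (hT : Red.IsTorus T)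
    (α : T ⟶ Red.Gm S) [IsMonHom α]
    (pp pm : Red.Ga S ⟶ G) [IsMonHom pp] [IsMonHom pm]
    (hpp : ∀ (X : Over S) (t : X ⟶ T) (x : X ⟶ Red.Ga S), ∃ x' : X ⟶ Red.Ga S,
      x' ≫ pp = (t ≫ i) * (x ≫ pp) * (t ≫ i)⁻¹ ∧ Red.gaFn x' = Red.gmFn (t ≫ α) * Red.gaFn x)
    (hpm : ∀ (X : Over S) (t : X ⟶ T) (y : X ⟶ Red.Ga S), ∃ y' : X ⟶ Red.Ga S,
      y' ≫ pm = (t ≫ i) * (y ≫ pm) * (t ≫ i)⁻¹ ∧ Red.gaFn y' * Red.gmFn (t ≫ α) = Red.gaFn y)
    (av : Red.Gm S ⟶ T) [IsMonHom av] (h2 : av ≫ α = (𝟙 (Red.Gm S)) ^ 2)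
    (hF : ∀ (X : Over S) (x y : X ⟶ Red.Ga S), IsUnit (1 + Red.gaFn x * Red.gaFn y) →
      ∃ (x' y' : X ⟶ Red.Ga S) (z : X ⟶ Red.Gm S), Red.gmFn z = 1 + Red.gaFn x * Red.gaFn y ∧
        Red.gaFn x' * Red.gmFn z = Red.gaFn x ∧ Red.gaFn y' * Red.gmFn z = Red.gaFn y ∧
        (x ≫ pp) * (y ≫ pm) = (y' ≫ pm) * (z ≫ av ≫ i) * (x' ≫ pp))
    (X : Over S) (x y x' y' y₂ x₂ : X ⟶ Red.Ga S) (t t' : X ⟶ T) (z : X ⟶ Red.Gm S)
    (hz : Red.gmFn z = 1 + Red.gaFn x * Red.gaFn y')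
    (hy₂ : (Red.gaFn y₂ - Red.gaFn y) * Red.gmFn z * Red.gmFn (t ≫ α) = Red.gaFn y')
    (hx₂ : (Red.gaFn x₂ - Red.gaFn x') * Red.gmFn z * Red.gmFn (t' ≫ α) = Red.gaFn x) :
    ((y ≫ pm) * (t ≫ i) * (x ≫ pp)) * ((y' ≫ pm) * (t' ≫ i) * (x' ≫ pp)) =
      (y₂ ≫ pm) * ((t * (z ≫ av) * t') ≫ i) * (x₂ ≫ pp) := by
  have H : GrothLib.RankOne.Hyp i α pp pm av := ⟨‹_›, ‹_›, ‹_›, ‹_›, ‹_›, hpp, hpm, h2, hF⟩
  simp only [H.v_eq, H.u_eq, H.i_eq]
  have hz' : (GmPts.unitOfPt z : Γ(X.left, ⊤)) = 1 + Red.gaFn x * Red.gaFn y' := hz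
  have hav : z ≫ av = (H.datum X).av (GmPts.unitOfPt z) := by
    change z ≫ av = GmPts.ptOfUnit (GmPts.unitOfPt z) ≫ av
    rw [GmPts.ptOfUnit_unitOfPt]
  rw [(H.datum X).cell_mul _ _ _ _ _ _ _ hz', hav]
  have hzinv := (GmPts.unitOfPt z).inv_mul
  have hzz : (GmPts.unitOfPt z : Γ(X.left, ⊤)) = Red.gmFn z := rfl
  rw [hzz] at hzinv
  congr
  · have ht := ((H.datum X).χ t).inv_mul
    rw [← H.χ_eq] at ht
    rw [← hy₂]
    linear_combination (Red.gaFn y₂ - Red.gaFn y) * ((GmPts.unitOfPt z)⁻¹ : Units Γ(X.left, ⊤)).val * Red.gmFn z * ht +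
      (Red.gaFn y₂ - Red.gaFn y) * hzinv
  · have ht := ((H.datum X).χ t').inv_mul
    rw [← H.χ_eq] at ht
    rw [← hx₂]
    linear_combination (Red.gaFn x₂ - Red.gaFn x') * ((GmPts.unitOfPt z)⁻¹ : Units Γ(X.left, ⊤)).val * Red.gmFn z * ht +
      (Red.gaFn x₂ - Red.gaFn x') * hzinv

end Groth.Agent.S8476
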