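import Groth.Statements.S8489
import Groth.Agent.Lib.RankCell14.Weight

set_option autoImplicit false
universe u
open CategoryTheory MonoidalCategory CartesianMonoidalCategory MonObj GrpObj AlgebraicGeometry CategoryTheory.Limits
open Red

namespace Groth.Agent.S8489

/-- At the level of root homomorphisms. Let G be a reductive S-group, i : T ⟶ G a maximal torus, α a
character of T non-trivial on every geometric fibre, and p₊, p₋ : 𝔾_a ⟶ G monomorphisms of groups
normalised by T with multipliers α and α⁻¹ such that 𝔾_a ×_S T ×_S 𝔾_a ⟶ G, (y, t, x) ↦ p₋(y) i(t)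
p₊(x), is an open immersion (a rank-one system: G has semisimple rank 1 and p₊, p₋ trivialise the
root groups of α and -α). Then every monomorphism of groups p : 𝔾_a ⟶ G normalised by T with
multiplier α is a rescaling of p₊ by a unit: there is exactly one S-point c of 𝔾_m with p(x) = p₊(c
x) for all points x of 𝔾_a. (The published statement is a bijection between the nowhere-vanishing
sections of the root line bundle and such monomorphisms; this row states it after fixing p₊.) -/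
theorem result (S : Scheme.{u}) (G T : Over S) [GrpObj G] [GrpObj T] (i : T ⟶ G) [IsMonHom i] [Mono i] (hG : Red.IsReductive G) (hTm : Red.IsMaximalTorus i)
    (α : T ⟶ Red.Gm S) [IsMonHom α] (hα : ∀ s : S, (Over.pullback (Red.geomPt s)).map α ≠ 1)
    (pp pm : Red.Ga S ⟶ G) [IsMonHom pp] [Mono pp] [IsMonHom pm] [Mono pm]
    (hpp : ∀ (X : Over S) (t : X ⟶ T) (x : X ⟶ Red.Ga S), ∃ x' : X ⟶ Red.Ga S,
      x' ≫ pp = (t ≫ i) * (x ≫ pp) * (t ≫ i)⁻¹ ∧ Red.gaFn x' = Red.gmFn (t ≫ α) * Red.gaFn x)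
    (hpm : ∀ (X : Over S) (t : X ⟶ T) (y : X ⟶ Red.Ga S), ∃ y' : X ⟶ Red.Ga S,
      y' ≫ pm = (t ≫ i) * (y ≫ pm) * (t ≫ i)⁻¹ ∧ Red.gaFn y' * Red.gmFn (t ≫ α) = Red.gaFn y)
    (hΩ : IsOpenImmersion (((pm ⊗ₘ i) ⊗ₘ pp) ≫ (μ[G] ▷ G) ≫ μ[G]).left)
    (p : Red.Ga S ⟶ G) [IsMonHom p] [Mono p]
    (hp : ∀ (X : Over S) (t : X ⟶ T) (x : X ⟶ Red.Ga S), ∃ x' : X ⟶ Red.Ga S,
      x' ≫ p = (t ≫ i) * (x ≫ p) * (t ≫ i)⁻¹ ∧ Red.gaFn x' = Red.gmFn (t ≫ α) * Red.gaFn x) :
    ∃! c : 𝟙_ (Over S) ⟶ Red.Gm S, ∀ (X : Over S) (x y : X ⟶ Red.Ga S),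
      Red.gaFn y = Red.gmFn (toUnit X ≫ c) * Red.gaFn x → x ≫ p = y ≫ pp := by
  haveI : IsOpenImmersion (GrothLib.RankCell14.cell i pp pm).left := hΩ
  obtain ⟨ν, hν, huniq⟩ := GrothLib.RankCell14.existsUnique_weight i hTm.2.2.1 (𝟙 T) hTm.2.2.1 α
    (fun s => by rw [Category.id_comp]; exact hα s) pp pm hpp hpm 1 p (fun X t x x' hx' => by
      obtain ⟨y, hy, hy'⟩ := hp X t x
      rw [Category.id_comp] at hx'
      rw [show x' = y from GrothLib.RedPts.gaFn_injective (hx'.trans hy'.symm), hy, Category.id_comp, pow_one])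
  have hu : IsUnit (Red.gaFn ν) := by
    refine RingedSpace.isUnit_of_isUnit_germ (X := (𝟙_ (Over S)).left.toLocallyRingedSpace.toRingedSpace) ⊤
      (Red.gaFn ν) fun s _ => ?_
    by_contra hs
    let P : Over S := Over.mk (Red.geomPt (S := S) s)
    let g : P ⟶ 𝟙_ (Over S) := toUnit P
    have hz : Red.gaFn (g ≫ ν) = 0 := by
      rcases GrothLib.RankCell14.isUnit_or_eq_zero (K := AlgebraicClosure (S.residueField s)) (Red.gaFn (g ≫ ν)) with h | h
      · exfalso
        apply hs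
        have h2 : IsLocalRing.closedPoint (AlgebraicClosure (S.residueField s)) ∈
            g.left ⁻¹ᵁ (𝟙_ (Over S)).left.basicOpen (Red.gaFn ν) := by
          rw [Scheme.preimage_basicOpen_top, ← GrothLib.RedPts.gaFn_comp, Scheme.basicOpen_of_isUnit _ h]
          trivial
        have h3 : g.left.base (IsLocalRing.closedPoint (AlgebraicClosure (S.residueField s))) = s := by
          change (Red.geomPt s).base _ = s
          rw [Scheme.Hom.comp_apply]; exact Scheme.fromSpecResidueField_apply s _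
        exact (Scheme.mem_basicOpen_top _ _ _).mp (h3 ▸ h2)
      · exact h
    have e := hν P (GrothLib.RedPts.gaPt 1) 1 (by rw [GrothLib.RedPts.gaFn_one, hz, zero_mul])
    rw [MonObj.one_comp, ← MonObj.one_comp p, cancel_mono] at e
    have e' := congrArg Red.gaFn e
    rw [GrothLib.RedPts.gaFn_gaPt, GrothLib.RedPts.gaFn_one] at e'
    exact one_ne_zero (α := AlgebraicClosure (S.residueField s))
      (by simpa using congrArg (Scheme.ΓSpecIso (CommRingCat.of (AlgebraicClosure (S.residueField s)))).hom e')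
  obtain ⟨c, hc⟩ : ∃ c : 𝟙_ (Over S) ⟶ Red.Gm S, Red.gmFn c = Red.gaFn ν :=
    ⟨GmPts.ptOfUnit hu.unit, GmPts.gmFn_ptOfUnit _⟩
  refine ⟨c, fun X x y hy => hν X x y ?_, fun d hd => GmPts.gmFn_injective ?_⟩
  · rw [hy, GmPts.gmFn_comp, hc, GrothLib.RedPts.gaFn_comp, pow_one]
  · have e := huniq (GrothLib.RedPts.gaPt (Red.gmFn d)) (fun X x y hy => hd X x y (by
      rw [hy, pow_one, GrothLib.RedPts.gaFn_comp, GrothLib.RedPts.gaFn_gaPt, GmPts.gmFn_comp]))
    change Red.gmFn d = Red.gmFn c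
    rw [hc, ← e, GrothLib.RedPts.gaFn_gaPt]

end Groth.Agent.S8489
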