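import Groth.Statements.S8509
import Groth.Agent.Lib.Torsor21.SmoothSection
import Groth.Agent.Lib.AlgSp.FppfDescent
import Groth.Agent.Lib.EtLocal.HenselPart
import Groth.Agent.Lib.EtBasicB.OverField

set_option autoImplicit false
open CategoryTheory MonoidalCategory CartesianMonoidalCategory MonObj GrpObj AlgebraicGeometry
universe u
open RedSub

namespace Groth.Agent.S8509

/-- Let A be a henselian local ring, S = Spec A, and G an S-group scheme which is smooth and affine over
S. Then every torsor P under G (a representable principal homogeneous bundle) is isotrivial: there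
is a finite etale surjective morphism S' ⟶ S such that P_{S'} has a section. (The published
statement asks only that every finite set of points of G lie in an affine open; this row takes G
affine over S.) -/
theorem result (A : Type u) [CommRing A] [HenselianLocalRing A]
    {G P : Over (Spec (CommRingCat.of A))} [GrpObj G] [Smooth G.hom] [IsAffineHom G.hom] (a : AlgGrp.Action G P)
    (ha : RedSub.IsTorsor a) :
    ∃ (S' : Scheme.{u}) (f : S' ⟶ Spec (CommRingCat.of A)), IsFinite f ∧ Etale f ∧ Surjective f ∧
      RedSub.HasSection (Red.bc f P) := by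
  obtain ⟨hs, hf, hlfp, hiso⟩ := ha
  haveI := hs; haveI := hf; haveI := hlfp; haveI := hiso
  haveI : Smooth (snd G P).left := MorphismProperty.pullback_snd (P := @Smooth) G.hom P.hom ‹_›
  haveI : Smooth (snd P P).left := by
    rw [show snd P P = inv (lift a.act (snd G P)) ≫ snd G P by rw [IsIso.eq_inv_comp, lift_snd]]
    haveI : IsIso (inv (lift a.act (snd G P))).left :=
      inferInstanceAs (IsIso ((Over.forget _).map (inv (lift a.act (snd G P)))))
    exact MorphismProperty.RespectsIso.precomp @Smooth _ _ ‹_›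
  haveI : Smooth P.hom := GrothLib.AlgSp.fppfDescends_smooth P.hom P.hom (fst P P).left (snd P P).left
    (IsPullback.of_hasPullback P.hom P.hom) hf hlfp hs ‹_›
  let S := Spec (CommRingCat.of A)
  let s : S := IsLocalRing.closedPoint A
  obtain ⟨x, hx⟩ := P.hom.surjective s
  haveI : Nonempty (P.hom.fiber s) := ⟨(P.hom.fiberHomeo s).symm ⟨x, hx⟩⟩
  obtain ⟨L, _, _, hfd, hsep, c, hc⟩ := @GrothLib.Torsor21.exists_separable_point (S.residueField s) _ _
    (P.hom.fiberToSpecResidueField s) (MorphismProperty.pullback_snd _ _ inferInstance) ‹_›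
  obtain ⟨U, p, v, hv, het⟩ := GrothLib.SmoothSection.exists_etale_quasiSection P.hom s (c ≫ P.hom.fiberι s)
    (by rw [Category.assoc, ← hc, Category.assoc]; exact congrArg (c ≫ ·) Limits.pullback.condition)
  let z : U := v (IsLocalRing.closedPoint L)
  have hz : (p ≫ P.hom) z = s := by
    rw [← Scheme.Hom.comp_apply, reassoc_of% hv, Scheme.Hom.comp_apply, Scheme.Hom.comp_apply]
    have h : P.hom.fiberι s (c (IsLocalRing.closedPoint L)) ∈ Set.range (P.hom.fiberι s) := ⟨_, rfl⟩
    rwa [Scheme.Hom.range_fiberι] at h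
  obtain ⟨V, hV, hzV, -⟩ := exists_isAffineOpen_mem_and_subset (X := U) (x := z) (U := ⊤) trivial
  haveI : IsAffine (V : Scheme) := hV
  let f := V.ι ≫ p ≫ P.hom
  haveI : Etale f := inferInstance
  haveI : LocallyQuasiFinite f := GrothLib.EtBasicB.locallyQuasiFinite_of_unramified f
  obtain ⟨W, ⟨hWc, hWf, hW⟩, -⟩ := GrothLib.EtLocal.existsUnique_isFinitePart f
  haveI := hWf
  let e := W.ι ≫ f
  haveI : Etale e := inferInstance
  let w : V.toScheme := ⟨z, hzV⟩
  have hsmem : s ∈ Set.range e := ⟨⟨w, hW w (by simpa [f, s] using hz)⟩, by simpa [e, f] using hz⟩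
  have hsurj : Surjective e := ⟨fun t => ((IsLocalRing.specializes_closedPoint t).mem_open
    e.isOpenMap.isOpen_range hsmem)⟩
  exact ⟨_, e, hWf, inferInstance, hsurj, ⟨Over.homMk (Limits.pullback.lift (W.ι ≫ V.ι ≫ p) (𝟙 _)
    (by simp [e, f])) (Limits.pullback.lift_snd _ _ _)⟩⟩

end Groth.Agent.S8509
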