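import Groth.Statements.S8513
import Mathlib.CategoryTheory.Limits.Shapes.Pullback.IsPullback.Basic
import Mathlib.CategoryTheory.Monoidal.Cartesian.Grp
import Mathlib.AlgebraicGeometry.Morphisms.Smooth
import Mathlib.CategoryTheory.Limits.Constructions.Over.Connected
-- import your own Groth.Agent.* helpers here

set_option autoImplicit false
open CategoryTheory MonoidalCategory CartesianMonoidalCategory MonObj GrpObj AlgebraicGeometry
universe u
open Par

namespace Groth.Agent.S8513

open CategoryTheory.Limits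

/-- Let G be a reductive S-group and P, Q two parabolic subgroups of G in transversal position (the
multiplication morphism P ×_S Q ⟶ G is smooth). Then P ∩ Q (a fibre product of P and Q over G) is
smooth over S. -/
theorem result {S : Scheme.{u}} {G P Q I : Over S} [GrpObj G] [GrpObj P] [GrpObj Q]
    (hG : Red.IsReductive G) (p : P ⟶ G) (q : Q ⟶ G) (hP : Red.IsParabolic p) (hQ : Red.IsParabolic q)
    (htr : Smooth ((p ⊗ₘ q) ≫ μ[G]).left) (m : I ⟶ P) (m' : I ⟶ Q) (hI : IsPullback m m' p q) :
    Smooth I.hom := by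
  have := hG
  haveI : IsMonHom q := hQ.1
  let f : P ⊗ Q ⟶ G := (p ⊗ₘ q) ≫ μ[G]
  have hf : ∀ {T : Over S} (a : T ⟶ P) (b : T ⟶ Q), lift a b ≫ f = (a ≫ p) * (b ≫ q) := by
    intro T a b
    rw [CategoryTheory.Hom.mul_def, ← Category.assoc, lift_map]
  have hone : ∀ (T : Over S), toUnit T ≫ η[G] = (1 : T ⟶ G) := fun T => by
    rw [CategoryTheory.Hom.one_def]
  have hinv : ∀ {T : Over S} (b : T ⟶ Q), (b⁻¹) ≫ q = (b ≫ q)⁻¹ := fun {T} b => GrpObj.inv_comp b q
  have hP : IsPullback (lift m m'⁻¹) (toUnit I) f η[G] := by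
    refine IsPullback.of_isLimit' ⟨?_⟩ (PullbackCone.IsLimit.mk _
      (fun s => hI.lift (s.fst ≫ fst P Q) (s.fst ≫ snd P Q)⁻¹ ?_) (fun s => ?_) (fun s => ?_) fun s l h1 _ => ?_)
    · rw [hf, hinv, hI.w, mul_inv_cancel, hone]
    · have h := s.condition
      have e1 : s.fst ≫ f = (s.fst ≫ fst P Q) ≫ p * ((s.fst ≫ snd P Q) ≫ q) := by
        refine Eq.trans ?_ (hf (s.fst ≫ fst P Q) (s.fst ≫ snd P Q))
        exact congrArg (· ≫ f) (CartesianMonoidalCategory.hom_ext _ _ (lift_fst _ _).symm (lift_snd _ _).symm)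
      rw [e1, show s.snd = toUnit _ from toUnit_unique _ _, hone] at h
      rw [hinv, eq_inv_iff_mul_eq_one]
      exact h
    · apply CartesianMonoidalCategory.hom_ext
      · simp
      · refine (Category.assoc _ _ _).trans ((congrArg (_ ≫ ·) (lift_snd m m'⁻¹)).trans ?_)
        refine (GrpObj.comp_inv _ m').trans ((congrArg (·⁻¹) (hI.lift_snd _ _ _)).trans ?_)
        exact _root_.inv_inv _
    · exact toUnit_unique _ _
    · refine hI.hom_ext ?_ ?_
      · refine Eq.trans ?_ (hI.lift_fst _ _ _).symm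
        exact (congrArg (l ≫ ·) (lift_fst m m'⁻¹).symm).trans ((Category.assoc _ _ _).symm.trans (congrArg (· ≫ fst P Q) h1))
      · refine Eq.trans ?_ (hI.lift_snd _ _ _).symm
        refine (_root_.inv_inv (l ≫ m')).symm.trans (congrArg (·⁻¹) ?_)
        refine (GrpObj.comp_inv _ m').symm.trans ?_
        exact (congrArg (l ≫ ·) (lift_snd m m'⁻¹).symm).trans ((Category.assoc _ _ _).symm.trans (congrArg (· ≫ snd P Q) h1))
  have hP' := hP.map (Over.forget S)
  have h : Smooth (toUnit I).left := MorphismProperty.of_isPullback (P := @Smooth) hP' htr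
  have e : (toUnit I).left = I.hom := by simpa using Over.w (toUnit I)
  rwa [e] at h

end Groth.Agent.S8513
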