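import Groth.Statements.S8517
import Groth.Agent.Lib.RootDatum.Weyl
import Mathlib.Data.Set.Card
import Mathlib.Order.Bounds.Basic

set_option autoImplicit false
open CategoryTheory MonoidalCategory CartesianMonoidalCategory MonObj GrpObj AlgebraicGeometry
universe u
open RedSub

namespace Groth.Agent.S8517

section helpers

variable {idx M N : Type} [Finite idx] [AddCommGroup M] [AddCommGroup N] {P : RootPairing idx ℤ M N}

theorem map_closure_image {A : Type} [AddCommGroup A] (e : A ≃ₗ[ℤ] A) {f : idx → A} {σ : idx → idx}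
    (hf : ∀ i, f (σ i) = e (f i)) (s : Set idx) (x : A) :
    x ∈ AddSubmonoid.closure (f '' (σ '' s)) ↔ e.symm x ∈ AddSubmonoid.closure (f '' s) := by
  have : f '' (σ '' s) = e '' (f '' s) := by
    rw [Set.image_image, Set.image_image]; exact Set.image_congr fun i _ => hf i
  rw [this]
  have h := AddMonoidHom.map_mclosure e.toLinearMap.toAddMonoidHom (f '' s)
  refine ⟨fun hx => ?_, fun hx => ?_⟩
  · have hx' : x ∈ (AddSubmonoid.closure (f '' s)).map e.toLinearMap.toAddMonoidHom := h.symm ▸ hx
    obtain ⟨y, hy, rfl⟩ := hx'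
    simpa using hy
  · have : x ∈ (AddSubmonoid.closure (f '' s)).map e.toLinearMap.toAddMonoidHom := ⟨_, hx, by simp⟩
    exact h ▸ this

/-- The base reflected in a root. -/
noncomputable def reflBase (b : P.Base) (a : idx) : P.Base :=
  haveI : DecidableEq idx := Classical.decEq idx
  { support := b.support.image (P.reflectionPerm a)
    linearIndepOn_root := by
      rw [Finset.coe_image]
      refine LinearIndepOn.image_of_comp _ _ ?_
      rw [show P.root ∘ P.reflectionPerm a = P.reflection a ∘ P.root from funext fun i => P.root_reflectionPerm a i]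
      exact b.linearIndepOn_root.map (f := (P.reflection a).toLinearMap) (by simp)
    linearIndepOn_coroot := by
      rw [Finset.coe_image]
      refine LinearIndepOn.image_of_comp _ _ ?_
      rw [show P.coroot ∘ P.reflectionPerm a = P.coreflection a ∘ P.coroot from funext fun i => P.coroot_reflectionPerm a i]
      exact b.linearIndepOn_coroot.map (f := (P.coreflection a).toLinearMap) (by simp)
    root_mem_or_neg_mem := fun i => by
      rw [Finset.coe_image]
      simp only [map_closure_image (P.reflection a) (fun j => P.root_reflectionPerm a j), map_neg,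
        show (P.reflection a).symm = P.reflection a from P.reflection_inv a, ← P.root_reflectionPerm a i]
      exact b.root_mem_or_neg_mem _
    coroot_mem_or_neg_mem := fun i => by
      rw [Finset.coe_image]
      simp only [map_closure_image (P.coreflection a) (fun j => P.coroot_reflectionPerm a j), map_neg,
        show (P.coreflection a).symm = P.coreflection a from P.coreflection_inv a, ← P.coroot_reflectionPerm a i]
      exact b.coroot_mem_or_neg_mem _ }

theorem mem_posRoots_reflBase (b : P.Base) (a k : idx) :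
    k ∈ RedSub.posRoots P (reflBase b a) ↔ P.reflectionPerm a k ∈ RedSub.posRoots P b := by
  classical
  change P.root k ∈ AddSubmonoid.closure (P.root '' (↑(b.support.image (P.reflectionPerm a)) : Set idx)) ↔
    P.root (P.reflectionPerm a k) ∈ AddSubmonoid.closure _
  rw [Finset.coe_image, map_closure_image (P.reflection a) (fun j => P.root_reflectionPerm a j),
    show (P.reflection a).symm = P.reflection a from P.reflection_inv a, P.root_reflectionPerm]

variable (P) in
theorem exists_max_base (R : Set idx) (b₀ : P.Base) :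
    ∃ b : P.Base, ∀ b' : P.Base, (RedSub.posRoots P b' ∩ R).ncard ≤ (RedSub.posRoots P b ∩ R).ncard := by
  have hfin : (Set.range fun b : P.Base => RedSub.posRoots P b).Finite := Set.toFinite _
  obtain ⟨_, ⟨b, rfl⟩, hb⟩ := hfin.exists_maximalFor (fun T => (T ∩ R).ncard) _ ⟨_, b₀, rfl⟩
  exact ⟨b, fun b' => not_lt.mp fun h => h.not_ge (hb ⟨b', rfl⟩ h.le)⟩

variable (P) in
theorem ncard_lt (R : Set idx) (hcl : ∀ a b c : idx, a ∈ R → b ∈ R → P.root a + P.root b = P.root c → c ∈ R)
    (b : P.Base) {a : idx} (ha : a ∈ b.support) (hna : a ∉ R) (hnn : P.reflectionPerm a a ∈ R) :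
    (RedSub.posRoots P b ∩ R).ncard < (RedSub.posRoots P (reflBase b a) ∩ R).ncard := by
  have hs := GrothLib.RootDatum.IsSimple.of_base P b
  have hpos : ∀ k, k ∈ RedSub.posRoots P b → k ∈ R → P.reflectionPerm a k ∈ RedSub.posRoots P b := by
    intro k hk hkR
    refine hs.refl_smul_mem_posOf ha hk (fun e => hna (e ▸ hkR)) fun e => hna ?_
    refine hcl k (P.reflectionPerm a a) a hkR hnn ?_
    simp [e, two_smul]
  have haS : a ∈ RedSub.posRoots P b := AddSubmonoid.subset_closure ⟨a, ha, rfl⟩
  have h1 : P.reflectionPerm a a ∈ RedSub.posRoots P (reflBase b a) ∩ R := by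
    refine ⟨(mem_posRoots_reflBase b a _).mpr ?_, hnn⟩
    rw [P.reflectionPerm_self a]
    exact haS
  have h2 : P.reflectionPerm a a ∉ RedSub.posRoots P b ∩ R := fun h => by
    have h' : P.reflectionPerm a a ∈ RootD.posOf P (b.support : Set idx) := h.1
    have := hs.ht_pos h'
    have := hs.ht_of_mem ha
    have := hs.ht_nr a
    simp only [GrothLib.RootDatum.nr] at *
    omega
  refine Set.ncard_lt_ncard ⟨fun k hk => ⟨(mem_posRoots_reflBase b a k).mpr (hpos k hk.1 hk.2), hk.2⟩,
    fun h => h2 (h h1)⟩ (Set.toFinite _)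

end helpers

/-- Let R be the set of roots of a root pairing over ℤ with finitely many roots, and R₁, R₂ two closed
subsets of R (if a, b ∈ Rᵢ and root a + root b is a root c then c ∈ Rᵢ), each containing a system of
positive roots (the positive roots of some base). If R₁ ∪ R₂ = R, then R₁ ∩ (−R₂) (the roots of R₁
whose negative is a root in R₂) contains a system of positive roots. -/
theorem result {idx M N : Type} [Finite idx] [AddCommGroup M] [AddCommGroup N] (P : RootPairing idx ℤ M N) (R₁ R₂ : Set idx)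
    (h₁ : ∀ a b c : idx, a ∈ R₁ → b ∈ R₁ → P.root a + P.root b = P.root c → c ∈ R₁)
    (h₂ : ∀ a b c : idx, a ∈ R₂ → b ∈ R₂ → P.root a + P.root b = P.root c → c ∈ R₂)
    (hb₁ : ∃ b : P.Base, RedSub.posRoots P b ⊆ R₁) (hb₂ : ∃ b : P.Base, RedSub.posRoots P b ⊆ R₂)
    (hunion : R₁ ∪ R₂ = Set.univ) :
    ∃ b : P.Base, RedSub.posRoots P b ⊆ {a | a ∈ R₁ ∧ ∃ c ∈ R₂, P.root a = -P.root c} := by
  classical
  let R₃ : Set idx := {a | a ∈ R₁ ∧ ∃ c ∈ R₂, P.root a = -P.root c}
  change ∃ b : P.Base, RedSub.posRoots P b ⊆ R₃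
  have hneg : ∀ a : idx, P.root (P.reflectionPerm a a) = -P.root a := fun a => by simp
  have hcl : ∀ a b c : idx, a ∈ R₃ → b ∈ R₃ → P.root a + P.root b = P.root c → c ∈ R₃ := by
    rintro a b c ⟨ha, a', ha', hea⟩ ⟨hb, b', hb', heb⟩ hc
    exact ⟨h₁ a b c ha hb hc, P.reflectionPerm c c,
      h₂ a' b' _ ha' hb' (by rw [hneg, ← hc, hea, heb]; abel), by rw [hneg, neg_neg]⟩
  obtain ⟨b₁, hb₁⟩ := hb₁
  obtain ⟨b₂, hb₂⟩ := hb₂
  have hcov : ∀ (b : P.Base) (R : Set idx), RedSub.posRoots P b ⊆ R → ∀ a, a ∈ R ∨ P.reflectionPerm a a ∈ R := by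
    intro b R hR a
    refine (b.root_mem_or_neg_mem a).imp (fun h => hR h) (fun h => hR ?_)
    simp only [RedSub.posRoots, Set.mem_ofPred_eq, Set.mem_setOf_eq, hneg]
    exact h
  have hpar : ∀ a, a ∈ R₃ ∨ P.reflectionPerm a a ∈ R₃ := by
    intro a
    have hu : ∀ x, x ∈ R₁ ∨ x ∈ R₂ := fun x => (Set.ext_iff.mp hunion x).mpr trivial
    by_cases h : a ∈ R₁ ∧ P.reflectionPerm a a ∈ R₂
    · exact Or.inl ⟨h.1, _, h.2, by rw [hneg, neg_neg]⟩
    · refine Or.inr ⟨?_, a, ?_, hneg a⟩
      · rcases hcov b₁ R₁ hb₁ a with h1 | h1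
        · exact (hu _).resolve_right fun h2 => h ⟨h1, h2⟩
        · exact h1
      · rcases hu a with h1 | h1
        · exact (hcov b₂ R₂ hb₂ a).resolve_right fun h2 => h ⟨h1, h2⟩
        · exact h1
  obtain ⟨b, hb⟩ := exists_max_base P R₃ b₁
  refine ⟨b, fun k hk => ?_⟩
  have hsimple : ∀ a ∈ b.support, a ∈ R₃ := fun a ha => by
    by_contra hna
    exact absurd (hb (reflBase b a)) (not_le.mpr (ncard_lt P R₃ hcl b ha hna ((hpar a).resolve_left hna)))
  refine GrothLib.RootDatum.mem_of_closed_of_mem_natSpan (P := P) (S := R₃) (fun i j k hi hj e => hcl i j k hi hj e.symm) ?_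
  exact AddSubmonoid.closure_mono (Set.image_mono fun a ha => hsimple a ha) hk

end Groth.Agent.S8517
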