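import Groth.Statements.S8525
import Groth.Agent.Lib.EtBasicB.Supports
-- import your own Groth.Agent.* helpers here

set_option autoImplicit false
universe u
open CategoryTheory CategoryTheory.Limits AlgebraicGeometry Opposite
open EtAcyc

namespace Groth.Agent.S8525

/-- Let L be a set of primes and F an abelian sheaf on the small etale site of a scheme X. Then F is an
L-torsion sheaf if and only if for every geometric point ξ of X every element of the stalk F_ξ is
killed by a positive integer all of whose prime factors lie in L. -/
theorem result {X : Scheme.{u}} (L : Set ℕ) (F : EtCoh.Ab X) :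
    EtAcyc.IsLTorsion L F ↔
      ∀ (Ω : Type u) [Field Ω] [IsSepClosed Ω] (ξ : Spec (CommRingCat.of Ω) ⟶ X)
        (t : (EtCoh.stalk ξ).obj F), ∃ m : ℕ, EtAcyc.PrimesIn L m ∧ m • t = 0 := GrothLib.EtBasicB.isLTorsion_iff_stalks L F

end Groth.Agent.S8525
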