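import Groth.Statements.S8528
import Groth.Agent.Lib.UnibrConst18.Basic
-- import your own Groth.Agent.* helpers here

set_option autoImplicit false
universe u
open CategoryTheory CategoryTheory.Limits AlgebraicGeometry Opposite
open EtPBC

namespace Groth.Agent.S8528

/-- Let X be an irreducible scheme all of whose strict localizations are irreducible (for every point x
and every strict henselization R of the local ring at x, Spec R is irreducible; that is, X is
geometrically unibranch), and M a torsion-free abelian group. Then H^1(X, M_X) = 0 for the constant
sheaf M_X on the small etale site. -/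
theorem result (X : Scheme.{u}) [IrreducibleSpace X]
    (hX : ∀ (x : X) (R : Type u) [CommRing R] [IsLocalRing R] [Algebra (X.presheaf.stalk x) R]
      [IsLocalHom (algebraMap (X.presheaf.stalk x) R)] [Hensel.IsStrictHenselization (X.presheaf.stalk x) R],
      IrreducibleSpace (PrimeSpectrum R))
    (M : Type) [AddCommGroup M] [IsAddTorsionFree M] :
    Subsingleton (EtCoh.H X (EtCoh.const X M) 1) := by
  haveI : Subsingleton (Spec (X.residueField (genericPoint X))) :=
    inferInstanceAs (Subsingleton (PrimeSpectrum (X.residueField (genericPoint X))))
  haveI : Finite (Spec (X.residueField (genericPoint X))) := Finite.of_subsingleton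
  haveI : QuasiCompact (X.fromSpecResidueField (genericPoint X)) := GrothLib.EtDer.quasiCompact_of_finite _
  refine GrothLib.UnibrConst18.subsingleton_H_one M (X.fromSpecResidueField (genericPoint X)) ?_
    (GrothLib.UnibrConst18.exists_generic_etale hX) (GrothLib.EtTrace21.subsingleton_H_one_const _ M)
  rw [Scheme.range_fromSpecResidueField]; exact rfl

end Groth.Agent.S8528
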