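import Groth.Statements.S8532
import Groth.Agent.Lib.EtTrace21.Basic
import Groth.Agent.Lib.EtTrace21.Killed
import Groth.Agent.Lib.Chev28.SepDegSum
-- import your own Groth.Agent.* helpers here

set_option autoImplicit false
universe u
open CategoryTheory CategoryTheory.Limits AlgebraicGeometry Opposite
open EtAcyc

namespace Groth.Agent.S8532

/-- Let f : X' → X be finite etale of constant degree d (every geometric fibre has exactly d points), L
a set of primes such that no prime in L divides d, F an abelian L-torsion sheaf on the small etale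
site of X, and q a natural number. If H^q(X', f⁻¹F) = 0, then H^q(X, F) = 0. -/
theorem result {X X' : Scheme.{u}} (f : X' ⟶ X) [IsFinite f] [Etale f]
    (d : ℕ) (hd : ∀ (Ω : Type u) [Field Ω] [IsSepClosed Ω] (ξ : Spec (CommRingCat.of Ω) ⟶ X),
      Nat.card ↥(pullback f ξ) = d)
    (L : Set ℕ) (hL : ∀ p : ℕ, p.Prime → p ∈ L → ¬ p ∣ d) (F : EtCoh.Ab X) (hF : EtAcyc.IsLTorsion L F)
    [PreservesFiniteLimits (EtCoh.pull f)] (q : ℕ)
    (h : Subsingleton (EtCoh.H X' ((EtCoh.pull f).obj F) q)) :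
    Subsingleton (EtCoh.H X F q) := by
  haveI := GrothLib.Constructible.jcont f
  have hcop : ∀ m, EtAcyc.PrimesIn L m → Nat.Coprime m d := fun m hm =>
    Nat.coprime_of_dvd fun p hp hpm hpd => hL p hp (hm.2 p hp hpm) hpd
  haveI : Mono (d • 𝟙 F) := by
    refine Preadditive.mono_of_cancel_zero _ fun {G} a ha => ?_
    refine ObjectProperty.hom_ext _ (NatTrans.ext (funext fun V => ?_))
    ext t
    let s : EtCoh.sect F V.unop := a.hom.app V t
    have hds : d • s = 0 := by
      rw [Preadditive.comp_nsmul, Category.comp_id] at ha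
      have e := map_nsmul (AddMonoidHom.mk' (fun q : G ⟶ F => q.hom.app V t) (fun _ _ => rfl)) d a
      exact e.symm.trans (congrArg (fun q : G ⟶ F => q.hom.app V t) ha)
    change s = 0
    let R : Sieve V.unop :=
      { arrows := fun W g => F.obj.map g.op s = 0
        downward_closed := fun {W W' g} hg k => by
          show F.obj.map (k ≫ g).op s = 0
          rw [op_comp, Functor.map_comp_apply, hg, map_zero] }
    refine ((isSheaf_iff_isSheaf_of_type _ _).1
      ((sheafCompose X.smallEtaleTopology (forget AddCommGrpCat.{u + 1})).obj F).property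
      R ?_).isSeparatedFor.ext fun W g (hg : F.obj.map g.op s = 0) => ?_
    · rw [GrothLib.EtSite.mem_topology_iff]
      intro x
      obtain ⟨W, g, m, ⟨w, hw⟩, hm, hms⟩ := hF V.unop s x
      refine ⟨W, g, w, ?_, hw⟩
      have h1 : d • F.obj.map g.op s = 0 := (map_nsmul _ d s).symm.trans ((congrArg _ hds).trans (map_zero _))
      refine AddMonoid.addOrderOf_eq_one_iff.1 (Nat.dvd_one.1 ?_)
      rw [← Nat.coprime_iff_gcd_eq_one.1 (hcop m hm)]
      exact Nat.dvd_gcd (addOrderOf_dvd_of_nsmul_eq_zero hms) (addOrderOf_dvd_of_nsmul_eq_zero h1)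
    · change F.obj.map g.op s = F.obj.map g.op 0
      rw [hg, map_zero]
  haveI : Epi (d • 𝟙 F) := by
    haveI : Sheaf.IsLocallySurjective (d • 𝟙 F) := ⟨fun {V} s => by
      rw [GrothLib.EtSite.mem_topology_iff]
      intro x
      obtain ⟨W, g, m, ⟨w, hw⟩, hm, hms⟩ := hF V s x
      refine ⟨W, g, w, ⟨(Nat.gcdB m d) • F.obj.map g.op s, ?_⟩, hw⟩
      have hbez : ((m : ℤ) * Nat.gcdA m d + d * Nat.gcdB m d) = 1 := by
        rw [← Nat.gcd_eq_gcd_ab, Nat.coprime_iff_gcd_eq_one.1 (hcop m hm), Nat.cast_one]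
      have e := map_nsmul (AddMonoidHom.mk' (fun q : F ⟶ F => q.hom.app (op W) ((Nat.gcdB m d) • F.obj.map g.op s))
        (fun _ _ => rfl)) d (𝟙 F)
      refine e.trans ?_
      show d • (Nat.gcdB m d • F.obj.map g.op s) = F.obj.map g.op s
      conv_rhs => rw [← one_zsmul (F.obj.map g.op s), ← hbez, add_zsmul, mul_comm (m : ℤ), mul_zsmul,
        natCast_zsmul, hms, zsmul_zero, zero_add, mul_zsmul, natCast_zsmul]⟩
    exact Sheaf.epi_of_isLocallySurjective _
  haveI : IsIso (d • 𝟙 F) := isIso_of_mono_of_epi _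
  have hn : ∀ (Ω : Type u) [Field Ω] [IsAlgClosed Ω] (ξ : Spec (CommRingCat.of Ω) ⟶ X),
      Nat.card (GrothLib.ExtZero.Pts f ξ) = d := fun Ω _ _ ξ => by
    rw [← hd Ω ξ]
    exact (congrArg ENat.toNat (GrothLib.Chev28.card_pullback_eq_geomPts f ξ)).symm
  refine subsingleton_of_forall_eq 0 fun α => ?_
  have h0 := GrothLib.EtTrace21.nsmul_eq_zero_of_Hpull_eq_zero f F q d hn α (Subsingleton.elim _ _)
  rw [← GrothLib.EtTrace21.comp_nsmul_id] at h0
  exact (GrothLib.EtDer.bijective_comp_mk₀ (asIso (d • 𝟙 F)) q).1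
    (h0.trans (CategoryTheory.Abelian.Ext.zero_comp _ _ _ _ (add_zero q)).symm)

end Groth.Agent.S8532
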