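import Groth.Statements.S8534
import Groth.Agent.Lib.AcyFib18.Main
-- import your own Groth.Agent.* helpers here

set_option autoImplicit false
universe u
open CategoryTheory CategoryTheory.Limits AlgebraicGeometry Opposite
open EtAcyc

namespace Groth.Agent.S8534

/-- Let g : X → Y be quasi-compact and quasi-separated, L a set of primes containing at least one prime,
and n a natural number, and suppose g is n-acyclic for L. Then for every point y of Y and every
separably closed field Ω algebraic over κ(y), the geometric fibre X ×_Y Spec Ω is an n-acyclic
scheme for L (nonempty, connected, with H^q(-, Z/ℓ) = 0 for ℓ ∈ L and 1 ≤ q ≤ n). (The published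
statement allows L empty, for which every morphism is n-acyclic while geometric fibres may be empty;
this row assumes L contains a prime.) -/
theorem result {X Y : Scheme.{u}} (g : X ⟶ Y) [QuasiCompact g] [QuasiSeparated g]
    (L : Set ℕ) (hL : ∃ ℓ ∈ L, ℓ.Prime) (n : ℕ) (hg : EtAcyc.IsAcyclicN g L n) :
    EtAcyc.GeomFibresAcyclicN L n g := by
  exact GrothLib.AcyFib18.geomFibres g L hL n hg

end Groth.Agent.S8534
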