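import Groth.Statements.S8536
import Groth.Agent.Lib.EtDer.HpullSeq
-- import your own Groth.Agent.* helpers here

set_option autoImplicit false
universe u
open CategoryTheory CategoryTheory.Limits AlgebraicGeometry Opposite
open EtAcyc

namespace Groth.Agent.S8536

/-- Let h : Y → X be a morphism of quasi-compact quasi-separated schemes, L a set of primes and n a
natural number, and suppose that for every abelian L-torsion sheaf on X the pullback map on etale
cohomology along h is bijective in degrees ≤ n and injective in degree n + 1. Let u : F → G be a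
monomorphism of abelian L-torsion sheaves on X and ξ a class in H^{n+1}(Y, h⁻¹F) whose image in
H^{n+1}(Y, h⁻¹G) comes from H^{n+1}(X, G). Then ξ comes from H^{n+1}(X, F). -/
theorem result {X Y : Scheme.{u}} [CompactSpace X] [QuasiSeparatedSpace X]
    [CompactSpace Y] [QuasiSeparatedSpace Y] (h : Y ⟶ X) (L : Set ℕ) (n : ℕ) (hc : EtAcyc.CompN h L n)
    [PreservesFiniteLimits (EtCoh.pull h)] {F G : EtCoh.Ab X} (u : F ⟶ G) [Mono u]
    (hF : EtAcyc.IsLTorsion L F) (hG : EtAcyc.IsLTorsion L G)
    (ξ : EtCoh.H Y ((EtCoh.pull h).obj F) (n + 1))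
    (hξ : (EtCoh.HF Y (n + 1)).map ((EtCoh.pull h).map u) ξ ∈ Set.range (EtCore.Hpull h G (n + 1))) :
    ξ ∈ Set.range (EtCore.Hpull h F (n + 1)) := by
  have hS : (ShortComplex.mk u (cokernel.π u) (cokernel.condition _)).ShortExact :=
    { exact := ShortComplex.exact_of_g_is_cokernel _ (cokernelIsCokernel _) }
  have hQ := GrothLib.EtDer.isLTorsion_of_epi L (cokernel.π u) hG
  exact GrothLib.EtDer.mem_range_Hpull_of_mono h hS n (hc _ hQ).2 ((hc _ hQ).1 n le_rfl).2 ξ hξ

end Groth.Agent.S8536
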