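import Groth.Statements.S8537
import Groth.Agent.Lib.CompPull13.Points
import Groth.Agent.Lib.CompPull13.Tors
import Groth.Agent.Lib.BCQLES13.Et
import Groth.Agent.Lib.AcyN18.Main
-- import your own Groth.Agent.* helpers here

set_option autoImplicit false
universe u
open CategoryTheory CategoryTheory.Limits AlgebraicGeometry
open EtBC

namespace Groth.Agent.S8537

open CategoryTheory.Abelian

theorem step {A B : Scheme.{u}} (h : B ⟶ A) [PreservesFiniteLimits (EtCoh.pull h)]
    {S : ShortComplex (EtCoh.Ab A)} (hS : S.ShortExact) (i : ℕ)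
    (hG : Subsingleton (EtCoh.H A S.X₂ (i + 1)))
    (hG' : Function.Surjective (EtCore.Hpull h S.X₂ i))
    (hQ : Function.Bijective (EtCore.Hpull h S.X₃ i)) :
    Function.Injective (EtCore.Hpull h S.X₁ (i + 1)) ∧
      (Subsingleton (EtCoh.H B ((EtCoh.pull h).obj S.X₂) (i + 1)) →
        Function.Surjective (EtCore.Hpull h S.X₁ (i + 1))) := by
  have hS' := hS.map_of_exact (EtCoh.pull h)
  refine ⟨(injective_iff_map_eq_zero _).2 fun x hx => ?_, fun hB ξ => ?_⟩
  · obtain ⟨y, rfl⟩ := Ext.covariant_sequence_exact₁ _ hS x (@Subsingleton.elim _ hG _ _) rfl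
    rw [GrothLib.EtDer.Hpull_extClass] at hx
    obtain ⟨z, hz⟩ := Ext.covariant_sequence_exact₃ _ hS' (EtCore.Hpull h S.X₃ i y) rfl hx
    obtain ⟨z', rfl⟩ := hG' z
    have : y = Ext.comp z' (Ext.mk₀ S.g) (add_zero i) :=
      hQ.1 (hz.symm.trans (GrothLib.EtDer.Hpull_mk₀ h S.g i z').symm)
    rw [this, Ext.comp_assoc_of_second_deg_zero, hS.comp_extClass, Ext.comp_zero]
  · obtain ⟨w, rfl⟩ := Ext.covariant_sequence_exact₁ _ hS' ξ (@Subsingleton.elim _ hB _ _) rfl
    obtain ⟨y, rfl⟩ := hQ.2 w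
    exact ⟨Ext.comp y hS.extClass rfl, GrothLib.EtDer.Hpull_extClass h hS i y⟩

theorem isIso_baseChange0 {X S S' X' : Scheme.{u}} (f : X ⟶ S) (g : S' ⟶ S) (f' : X' ⟶ S') (g' : X' ⟶ X)
    (w : g' ≫ f = f' ≫ g) [PreservesFiniteLimits (EtCoh.pull g')] (F : EtCoh.Ab X)
    (H : IsIso (EtBC.bcQ f g f' g' w 0 F)) : IsIso (EtCoh.baseChange0 f g f' g' w F) := by
  have h := EtBC.bcQ_zero_compat f g f' g' w F
  haveI : IsIso ((EtCoh.push f).toRightDerivedZero.app F) := inferInstance
  haveI : IsIso ((EtCoh.push f').toRightDerivedZero.app ((EtCoh.pull g').obj F)) := inferInstance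
  haveI : IsIso (EtCoh.baseChange0 f g f' g' w F ≫
      (EtCoh.push f').toRightDerivedZero.app ((EtCoh.pull g').obj F)) := h ▸ inferInstance
  exact IsIso.of_isIso_comp_right _ ((EtCoh.push f').toRightDerivedZero.app ((EtCoh.pull g').obj F))

theorem bijective_zero {X Y Xb Yb : Scheme.{u}} (h : Y ⟶ X) (p : Xb ⟶ X) (hb : Yb ⟶ Xb) (pY : Yb ⟶ Y)
    (w : hb ≫ p = pY ≫ h) [PreservesFiniteLimits (EtCoh.pull h)] [PreservesFiniteLimits (EtCoh.pull hb)]
    (F : EtCoh.Ab Xb) (hbc : IsIso (EtCoh.baseChange0 p h pY hb w F))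
    (hH : Function.Bijective (EtCore.Hpull h ((EtCoh.push p).obj F) 0)) :
    Function.Bijective (EtCore.Hpull hb F 0) := by
  haveI := GrothLib.AcyN18.pushAdd h
  haveI := hbc
  let u := (EtCoh.pullPushAdj hb).unit.app F
  let θ := EtCoh.baseChange0 p h pY hb w F
  let σ := (EtCoh.pushComp p hb).hom.app ((EtCoh.pull hb).obj F) ≫ (EtCoh.pushCongr w).hom.app _ ≫
    (EtCoh.pushComp h pY).inv.app _
  have e : (EtCoh.push p).map u ≫ σ = (EtCoh.pullPushAdj h).unit.app _ ≫ (EtCoh.push h).map θ :=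
    (((EtCoh.pullPushAdj h).homEquiv _ _).apply_symm_apply _).symm.trans (Adjunction.homEquiv_unit _ _ _ _)
  apply GrothLib.EtDer.Hpull_zero_bijective
  rw [← ConcreteCategory.isIso_iff_bijective]
  haveI : IsIso ((EtCore.gsec X).map ((EtCoh.pullPushAdj h).unit.app ((EtCoh.push p).obj F))) :=
    (ConcreteCategory.isIso_iff_bijective _).2 (GrothLib.AcyN18.bijective_unit_top h _ hH)
  haveI : IsIso ((EtCore.gsec X).map ((EtCoh.push p).map u) ≫ (EtCore.gsec X).map σ) := by
    rw [← Functor.map_comp, e, Functor.map_comp]; infer_instance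
  haveI : IsIso σ := inferInstance
  haveI : IsIso ((EtCore.gsec X).map ((EtCoh.push p).map u)) :=
    IsIso.of_isIso_comp_right _ ((EtCore.gsec X).map σ)
  exact (NatIso.isIso_map_iff (EtCore.pushGsecIso p) u).1 (inferInstanceAs (IsIso ((EtCore.gsec X).map ((EtCoh.push p).map u))))

/-- Let h : Y → X and p : X̄ → X be morphisms of schemes with X, Y, X̄ quasi-compact and quasi-separated
(p need not be surjective), Ȳ = Y ×_X X̄ with projections h̄ : Ȳ → X̄ and p_Y : Ȳ → Y, L a set of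
primes and n a natural number. Suppose that pullback along h is bijective on the etale cohomology of
every abelian L-torsion sheaf on X in degrees ≤ n and injective in degree n + 1, and that for every
abelian L-torsion sheaf F̄ on X̄ the degree-i base change morphism h⁻¹ R^i p_* F̄ → R^i p_{Y*} h̄⁻¹
F̄ is an isomorphism for i ≤ n and a monomorphism for i = n + 1. Then pullback along h̄ is bijective
on the etale cohomology of every abelian L-torsion sheaf on X̄ in degrees ≤ n and injective in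
degree n + 1. -/
theorem result {X Y Xb Yb : Scheme.{u}} [CompactSpace X] [QuasiSeparatedSpace X]
    [CompactSpace Y] [QuasiSeparatedSpace Y] [CompactSpace Xb] [QuasiSeparatedSpace Xb]
    (h : Y ⟶ X) (p : Xb ⟶ X) (hb : Yb ⟶ Xb) (pY : Yb ⟶ Y) (sq : IsPullback hb pY p h)
    (L : Set ℕ) (n : ℕ) (hh : EtAcyc.CompN h L n) [PreservesFiniteLimits (EtCoh.pull hb)]
    (hbc : ∀ Fb : EtCoh.Ab Xb, EtAcyc.IsLTorsion L Fb →
      (∀ i : ℕ, i ≤ n → IsIso (EtBC.bcQ p h pY hb sq.w i Fb)) ∧ Mono (EtBC.bcQ p h pY hb sq.w (n + 1) Fb)) :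
    EtAcyc.CompN hb L n := by
  haveI := GrothLib.EtSite.pull_preservesFiniteLimits h
  haveI := GrothLib.EtSite.pull_preservesFiniteLimits pY
  haveI := GrothLib.AcyN18.pushAdd pY
  haveI : QuasiCompact (p ≫ terminal.from X) := by
    rw [terminal.comp_from]; exact (compactSpace_iff_quasiCompact Xb).1 inferInstance
  haveI : QuasiSeparated (p ≫ terminal.from X) := by
    rw [terminal.comp_from]; exact (quasiSeparatedSpace_iff_quasiSeparated Xb).1 inferInstance
  haveI : QuasiSeparated (terminal.from X) := (quasiSeparatedSpace_iff_quasiSeparated X).1 inferInstance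
  haveI : QuasiCompact p := QuasiCompact.of_comp p (terminal.from X)
  haveI : QuasiSeparated p := QuasiSeparated.of_comp p (terminal.from X)
  haveI : QuasiCompact pY := MorphismProperty.of_isPullback sq ‹QuasiCompact p›
  haveI : QuasiSeparated pY := MorphismProperty.of_isPullback sq ‹QuasiSeparated p›
  haveI : CompactSpace Yb := QuasiCompact.compactSpace_of_compactSpace pY
  haveI : QuasiSeparatedSpace Yb := quasiSeparatedSpace_of_quasiSeparated pY
  refine GrothLib.CompPull13.compN_of_killed hb L n fun m hm => ?_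
  have hT : ∀ {Z : Scheme.{u}} (G : EtCoh.Ab Z), EtCoh.KilledBy m G → EtAcyc.IsLTorsion L G :=
    fun {Z} G hG U s x => ⟨U, 𝟙 U, m, ⟨x, rfl⟩, hm, (congrArg (m • ·) (by simp)).trans (hG U s)⟩
  have h0 : ∀ F : EtCoh.Ab Xb, EtCoh.KilledBy m F → Function.Bijective (EtCore.Hpull hb F 0) := fun F hF =>
    bijective_zero h p hb pY sq.w F (isIso_baseChange0 p h pY hb sq.w F ((hbc F (hT F hF)).1 0 n.zero_le))
      ((hh _ (hT _ (GrothLib.KPi18.killedBy_push p hF))).1 0 n.zero_le)
  have hvan : ∀ G : EtCoh.Ab Xb, EtCoh.KilledBy m G → (∀ q : ℕ, 1 ≤ q → IsZero ((EtCoh.Rpush p q).obj G)) →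
      (∀ k : ℕ, 1 ≤ k → Subsingleton (EtCoh.H X ((EtCoh.push p).obj G) k)) →
      ∀ k : ℕ, 1 ≤ k → k ≤ n → Subsingleton (EtCoh.H Yb ((EtCoh.pull hb).obj G) k) := by
    intro G hG hR hH k hk hkn
    haveI := isIso_baseChange0 p h pY hb sq.w G ((hbc G (hT G hG)).1 0 n.zero_le)
    have hR' : ∀ r : ℕ, r < k → IsZero (((EtCoh.push pY).rightDerived (r + 1)).obj ((EtCoh.pull hb).obj G)) :=
      fun r hr => by
        haveI := (hbc G (hT G hG)).1 (r + 1) (by omega)
        exact ((EtCoh.pull h).map_isZero (hR (r + 1) r.succ_pos)).of_iso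
          (asIso (EtBC.bcQ p h pY hb sq.w (r + 1) G)).symm
    haveI : Subsingleton (EtCoh.H Y ((EtCoh.pull h).obj ((EtCoh.push p).obj G)) k) :=
      haveI := hH k hk
      ((hh _ (hT _ (GrothLib.KPi18.killedBy_push p hG))).1 k hkn).2.subsingleton
    haveI : Subsingleton (Ext.{u + 1} (EtCoh.const Y ℤ) ((EtCoh.push pY).obj ((EtCoh.pull hb).obj G)) k) :=
      (GrothLib.EtDer.bijective_comp_mk₀ (asIso (EtCoh.baseChange0 p h pY hb sq.w G)) k).2.subsingleton
    haveI : Subsingleton (Ext.{u + 1} ((EtCoh.pull pY).obj (EtCoh.const Y ℤ)) ((EtCoh.pull hb).obj G) k) :=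
      (GrothLib.AcyN18.adjMap_range (EtCoh.pullPushAdj pY) _ k _ hR').1.2.subsingleton
    exact (GrothLib.AcyN18.bijective_preMk₀ (EtCore.pullConst pY ℤ).symm k).2.subsingleton
  have main : ∀ i : ℕ, i ≤ n → ∀ F : EtCoh.Ab Xb, EtCoh.KilledBy m F →
      Function.Bijective (EtCore.Hpull hb F i) := by
    intro i
    induction i with
    | zero => exact fun _ => h0
    | succ i ih =>
      intro hi F hF
      obtain ⟨G, ι, _, hG, hXb, hpush⟩ := GrothLib.CompPull13.exists_efface_H F hF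
      have hS : (ShortComplex.mk ι (cokernel.π ι) (cokernel.condition _)).ShortExact :=
        { exact := ShortComplex.exact_of_g_is_cokernel _ (cokernelIsCokernel _) }
      have hst := step hb hS i (hXb _ i.succ_pos) (ih (by omega) G hG).2
        (ih (by omega) _ (GrothLib.BCQLES.killedBy_of_epi (cokernel.π ι) hG))
      exact ⟨hst.1, hst.2 (hvan G hG (hpush p).1 (hpush p).2 _ i.succ_pos hi)⟩
  intro F hF
  refine ⟨fun i hi => main i hi F hF, ?_⟩
  obtain ⟨G, ι, _, hG, hXb, -⟩ := GrothLib.CompPull13.exists_efface_H F hF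
  have hS : (ShortComplex.mk ι (cokernel.π ι) (cokernel.condition _)).ShortExact :=
    { exact := ShortComplex.exact_of_g_is_cokernel _ (cokernelIsCokernel _) }
  exact (step hb hS n (hXb _ n.succ_pos) (main n le_rfl G hG).2
    (main n le_rfl _ (GrothLib.BCQLES.killedBy_of_epi (cokernel.π ι) hG))).1

end Groth.Agent.S8537
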