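import Groth.Statements.S8539
import Groth.Agent.Lib.SHClosedPt18.Basic
-- import your own Groth.Agent.* helpers here

set_option autoImplicit false
universe u
open CategoryTheory CategoryTheory.Limits AlgebraicGeometry Opposite
open EtCd

namespace Groth.Agent.S8539

/-- Let X be a scheme of finite type over a field k, x a point of X and A a strict henselization of the
local ring of X at x. Then there are a separably closed field k', a scheme X' of finite type over k'
and a closed point x' of X' such that A is (isomorphic to) a strict henselization of the local ring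
of X' at x': some local algebra structure over that local ring makes A a strict henselization of it. -/
theorem result (k : Type u) [Field k] {X : Scheme.{u}}
    (f : X ⟶ Spec (CommRingCat.of k)) [LocallyOfFiniteType f] [QuasiCompact f] (x : X)
    (A : Type u) [CommRing A] [IsLocalRing A] [Algebra (X.presheaf.stalk x) A]
    [IsLocalHom (algebraMap (X.presheaf.stalk x) A)] [Hensel.IsStrictHenselization (X.presheaf.stalk x) A] :
    ∃ (k' : Type u) (_ : Field k') (_ : IsSepClosed k') (X' : Scheme.{u}) (f' : X' ⟶ Spec (CommRingCat.of k'))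
      (_ : LocallyOfFiniteType f') (_ : QuasiCompact f') (x' : X') (_ : IsClosed ({x'} : Set X'))
      (_ : Algebra (X'.presheaf.stalk x') A) (_ : IsLocalHom (algebraMap (X'.presheaf.stalk x') A)),
      Hensel.IsStrictHenselization (X'.presheaf.stalk x') A := by
  obtain ⟨_, ⟨U, hU, rfl⟩, hxU, -⟩ := X.isBasis_affineOpens.exists_subset_of_mem_open (Set.mem_univ x) isOpen_univ
  have hU : IsAffineOpen U := hU
  let B : Type u := Γ(X, U)
  obtain ⟨φ, hφ⟩ := Spec.map_surjective (hU.fromSpec ≫ f)
  letI : Algebra k B := φ.hom.toAlgebra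
  haveI : Algebra.FiniteType k B := by
    have h1 : LocallyOfFiniteType (Spec.map φ) := hφ ▸ inferInstance
    exact HasRingHomProperty.Spec_iff.mp h1
  let P : Ideal B := (hU.primeIdealOf ⟨x, hxU⟩).asIdeal
  letI : Algebra B (X.presheaf.stalk x) := TopCat.Presheaf.algebra_section_stalk X.presheaf (⟨x, hxU⟩ : U)
  haveI : IsLocalization.AtPrime (X.presheaf.stalk x) P := hU.isLocalization_stalk ⟨x, hxU⟩
  obtain ⟨k', _, _, G, _, _, _, m, hm, hSH⟩ :=
    GrothLib.SHClosedPt18.exists_closed_point (k := k) P (X.presheaf.stalk x) A
  let z : PrimeSpectrum G := ⟨m, hm.isPrime⟩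
  letI : Algebra G ((Spec (CommRingCat.of G)).presheaf.stalk z) := StructureSheaf.stalkAlgebra G z
  haveI : IsLocalization.AtPrime ((Spec (CommRingCat.of G)).presheaf.stalk z) m :=
    (StructureSheaf.IsLocalization.to_stalk G z :)
  obtain ⟨_, _, hA⟩ := hSH ((Spec (CommRingCat.of G)).presheaf.stalk z)
  let f' : Spec (CommRingCat.of G) ⟶ Spec (CommRingCat.of k') := Spec.map (CommRingCat.ofHom (algebraMap k' G))
  refine ⟨k', inferInstance, inferInstance, Spec (CommRingCat.of G), f', ?_, inferInstance, z, ?_, _, _, hA⟩
  · exact (HasRingHomProperty.Spec_iff (P := @LocallyOfFiniteType)).2 (RingHom.finiteType_algebraMap.2 inferInstance)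
  · exact (PrimeSpectrum.isClosed_singleton_iff_isMaximal z).2 hm

end Groth.Agent.S8539
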