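import Groth.Statements.S8541
import Groth.Agent.Lib.ProjThick9.Main
import Groth.Agent.Lib.ProjIso26.Basic

set_option autoImplicit false
set_option linter.all false
universe u
open CategoryTheory CategoryTheory.Limits AlgebraicGeometry Opposite
open EtCd

namespace Groth.Agent.S8541

/-- Let A be a Noetherian local ring, S = Spec A, and X a closed subscheme of the projective space P^N_S
(closed immersion i) whose fibres over S all have dimension at most n. Then there is a closed
subscheme Z of P^N_S which is flat over S with all fibres of dimension at most n and which contains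
X: a closed immersion j : Z → P^N_S with Z → S flat of relative dimension ≤ n and a closed immersion
g : X → Z with g ≫ j = i. -/
theorem result (A : Type u) [CommRing A] [IsNoetherianRing A] [IsLocalRing A]
    (N n : ℕ) {X : Scheme.{u}} (i : X ⟶ CohB1.ProjSpaceOver N (Spec (CommRingCat.of A))) [IsClosedImmersion i]
    (hdim : ∀ s : ↥(Spec (CommRingCat.of A)),
      topologicalKrullDim ↥((i ≫ CohB1.ProjSpaceOver.toBase N (Spec (CommRingCat.of A))).fiber s) ≤ n) :
    ∃ (Z : Scheme.{u}) (j : Z ⟶ CohB1.ProjSpaceOver N (Spec (CommRingCat.of A))) (g : X ⟶ Z),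
      IsClosedImmersion j ∧ IsClosedImmersion g ∧ g ≫ j = i ∧
      Flat (j ≫ CohB1.ProjSpaceOver.toBase N (Spec (CommRingCat.of A))) ∧
      ∀ s : ↥(Spec (CommRingCat.of A)),
        topologicalKrullDim ↥((j ≫ CohB1.ProjSpaceOver.toBase N (Spec (CommRingCat.of A))).fiber s) ≤ n := by
  haveI := GrothLib.ProjIso26.isIso_toProjSpace N A
  let θ : CohB1.ProjSpaceOver N (Spec (CommRingCat.of A)) ⟶ Proj (CohB1.polyGrading N A) := GrothLib.Ample.ProjMap.toProjSpace N A
  haveI : IsIso θ := GrothLib.ProjIso26.isIso_toProjSpace N A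
  have hθ : θ ≫ CohB1.ProjSpace.toSpec N A = CohB1.ProjSpaceOver.toBase N (Spec (CommRingCat.of A)) :=
    GrothLib.Ample.ProjMap.toProjSpace_toSpec N A
  have hdim' : ∀ s : ↥(Spec (CommRingCat.of A)),
      topologicalKrullDim ↥(((i ≫ θ) ≫ CohB1.ProjSpace.toSpec N A).fiber s) ≤ n := by
    rw [Category.assoc, hθ]
    exact hdim
  haveI : IsClosedImmersion θ := GrothLib.Ample.ProjMap.isClosedImmersion_toProjSpace N A
  haveI hc : IsClosedImmersion (i ≫ θ) := inferInstance
  obtain ⟨Z, j, g, hj, hg, hgj, hflat, hZ⟩ := @GrothLib.ProjThick9.exists_thickening A _ _ _ N n X (i ≫ θ) hc hdim'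
  have e : (j ≫ inv θ) ≫ CohB1.ProjSpaceOver.toBase N (Spec (CommRingCat.of A)) =
      j ≫ CohB1.ProjSpace.toSpec N A := by
    rw [Category.assoc, ← hθ, IsIso.inv_hom_id_assoc]
  haveI := hj
  refine ⟨Z, j ≫ inv θ, g, inferInstance, hg, ?_, ?_, ?_⟩
  · rw [reassoc_of% hgj, IsIso.hom_inv_id, Category.comp_id]
  · rw [e]; exact hflat
  · rw [e]; exact hZ

end Groth.Agent.S8541
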