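import Groth.Statements.S8542
import Groth.Agent.Lib.EtSite.SetPoints
-- import your own Groth.Agent.* helpers here

set_option autoImplicit false
universe u
open CategoryTheory CategoryTheory.Limits AlgebraicGeometry Opposite
open EtBC

namespace Groth.Agent.S8542

lemma mono_pullSh_map {X Y : Scheme.{u}} (h : Y ⟶ X) {F G : EtDesc.Sh X} (u : F ⟶ G) [Mono u] :
    Mono ((EtDesc.pullSh h).map u) := by
  apply GrothLib.EtSite.mono_of_stalksSh
  intro y
  let Ω := AlgebraicClosure (Y.residueField y)
  let ξ : Spec (CommRingCat.of Ω) ⟶ Y :=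
    Spec.map (CommRingCat.ofHom (algebraMap (Y.residueField y) Ω)) ≫ Y.fromSpecResidueField y
  refine ⟨Ω, inferInstance, inferInstance, ξ, ?_, ?_⟩
  · rw [Scheme.Hom.comp_apply, Scheme.fromSpecResidueField_apply]
  · have e := GrothLib.EtSite.pullStalkShIso ξ h
    have h1 : Mono ((GrothLib.EtSite.stalkSh (ξ ≫ h)).map u) := inferInstance
    have h2 : (GrothLib.EtSite.stalkSh ξ).map ((EtDesc.pullSh h).map u) =
        e.hom.app F ≫ (GrothLib.EtSite.stalkSh (ξ ≫ h)).map u ≫ e.inv.app G := by
      rw [← Category.assoc, ← e.hom.naturality, Category.assoc, Iso.hom_inv_id_app, Category.comp_id]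
      rfl
    rw [h2]
    exact (mono_iff_injective _).mp inferInstance

lemma secPull_natural {X Y : Scheme.{u}} (h : Y ⟶ X) {F G : EtDesc.Sh X} (m : F ⟶ G)
    (s : EtDesc.sect F (EtCoh.top X)) :
    EtDesc.secPull h G (m.hom.app (op (EtCoh.top X)) s) =
      ((EtDesc.pullSh h).map m).hom.app (op (EtCoh.top Y)) (EtDesc.secPull h F s) := by
  have h1 := congrArg (fun t => t.hom.app (op (EtCoh.top X)) s) ((EtDesc.adjSh h).unit.naturality m)
  dsimp only [EtDesc.secPull]
  refine (congrArg _ h1).trans ?_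
  exact (NatTrans.naturality_apply ((EtDesc.pullSh h).map m).hom _ _).symm

/-- Let h : Y → X be a morphism of quasi-compact quasi-separated schemes such that for every sheaf of
sets F on the small etale site of X the pullback map Γ(X, F) → Γ(Y, h^*F) is injective. Let u : F →
G be a monomorphism of sheaves of sets on X and ξ ∈ Γ(Y, h^*F) a section whose image in Γ(Y, h^*G)
lies in the image of Γ(X, G). Then ξ lies in the image of Γ(X, F). -/
theorem result {X Y : Scheme.{u}} [CompactSpace X] [QuasiSeparatedSpace X]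
    [CompactSpace Y] [QuasiSeparatedSpace Y] (h : Y ⟶ X)
    (hinj : ∀ F : EtDesc.Sh X, Function.Injective (EtDesc.secPull h F))
    {F G : EtDesc.Sh X} (u : F ⟶ G) [Mono u] (ξ : EtDesc.sect ((EtDesc.pullSh h).obj F) (EtCoh.top Y))
    (hξ : ((EtDesc.pullSh h).map u).hom.app (op (EtCoh.top Y)) ξ ∈ Set.range (EtDesc.secPull h G)) :
    ξ ∈ Set.range (EtDesc.secPull h F) := by
  haveI := mono_pullSh_map h u
  let H := pushout u u
  let i₁ : G ⟶ H := pushout.inl u u
  let i₂ : G ⟶ H := pushout.inr u u
  obtain ⟨g, hg⟩ := hξ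
  have hcond : u ≫ i₁ = u ≫ i₂ := pushout.condition
  have h12 : i₁.hom.app (op (EtCoh.top X)) g = i₂.hom.app (op (EtCoh.top X)) g := by
    apply hinj H
    rw [secPull_natural, secPull_natural, hg]
    exact congrArg (fun t => t.hom.app (op (EtCoh.top Y)) ξ)
      (((EtDesc.pullSh h).map_comp u i₁).symm.trans
        ((congrArg (EtDesc.pullSh h).map hcond).trans ((EtDesc.pullSh h).map_comp u i₂)))
  have hpb : IsPullback u u i₁ i₂ :=
    Adhesive.isPullback_of_isPushout_of_mono_left (IsPushout.of_hasPushout u u)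
  obtain ⟨f, hf, -⟩ := Types.exists_of_isPullback
    ((hpb.map (sheafToPresheaf _ _)).map ((evaluation _ _).obj (op (EtCoh.top X)))) g g h12
  refine ⟨f, ?_⟩
  have hm : Mono ((sheafToPresheaf _ _).map ((EtDesc.pullSh h).map u)) := inferInstance
  apply (mono_iff_injective _).mp ((NatTrans.mono_iff_mono_app _).mp hm (op (EtCoh.top Y)))
  refine (secPull_natural h u f).symm.trans ?_
  exact (congrArg (EtDesc.secPull h G) hf).trans hg

end Groth.Agent.S8542
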