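import Groth.Statements.S8543
import Groth.Agent.Lib.SHClosedPt18.Dvr
-- import your own Groth.Agent.* helpers here

set_option autoImplicit false
universe u
open CategoryTheory CategoryTheory.Limits AlgebraicGeometry Opposite
open EtCd

namespace Groth.Agent.S8543

/-- Let R be a discrete valuation ring, X a scheme of finite type over Spec R, x a point of X over the
closed point of Spec R, and A a strict henselization of the local ring of X at x. Then there are a
strictly henselian discrete valuation ring R' (henselian, with separably closed residue field), a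
scheme X' of finite type over Spec R', a closed point x' of X' over the closed point of Spec R', and
a local algebra structure over the local ring of X' at x' for which A is a strict henselization of
that local ring. -/
theorem result (R : Type u) [CommRing R] [IsDomain R]
    [IsDiscreteValuationRing R] {X : Scheme.{u}} (f : X ⟶ Spec (CommRingCat.of R)) [LocallyOfFiniteType f]
    [QuasiCompact f] (x : X)
    (hx : f.base x = ((IsLocalRing.closedPoint R : PrimeSpectrum R) : ↥(Spec (CommRingCat.of R))))
    (A : Type u) [CommRing A] [IsLocalRing A] [Algebra (X.presheaf.stalk x) A]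
    [IsLocalHom (algebraMap (X.presheaf.stalk x) A)] [Hensel.IsStrictHenselization (X.presheaf.stalk x) A] :
    ∃ (R' : Type u) (_ : CommRing R') (_ : IsDomain R') (_ : IsDiscreteValuationRing R') (_ : HenselianLocalRing R')
      (_ : IsSepClosed (IsLocalRing.ResidueField R'))
      (X' : Scheme.{u}) (f' : X' ⟶ Spec (CommRingCat.of R')) (_ : LocallyOfFiniteType f') (_ : QuasiCompact f')
      (x' : X') (_ : IsClosed ({x'} : Set X'))
      (_ : f'.base x' = ((IsLocalRing.closedPoint R' : PrimeSpectrum R') : ↥(Spec (CommRingCat.of R'))))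
      (_ : Algebra (X'.presheaf.stalk x') A) (_ : IsLocalHom (algebraMap (X'.presheaf.stalk x') A)),
      Hensel.IsStrictHenselization (X'.presheaf.stalk x') A := by
  obtain ⟨_, ⟨U, hU, rfl⟩, hxU, -⟩ := X.isBasis_affineOpens.exists_subset_of_mem_open (Set.mem_univ x) isOpen_univ
  have hU : IsAffineOpen U := hU
  let B : Type u := Γ(X, U)
  obtain ⟨φ, hφ⟩ := Spec.map_surjective (hU.fromSpec ≫ f)
  letI : Algebra R B := φ.hom.toAlgebra
  haveI : Algebra.FiniteType R B := by
    have h1 : LocallyOfFiniteType (Spec.map φ) := hφ ▸ inferInstance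
    exact HasRingHomProperty.Spec_iff.mp h1
  let q : PrimeSpectrum B := hU.primeIdealOf ⟨x, hxU⟩
  let P : Ideal B := q.asIdeal
  have hP : P.comap (algebraMap R B) = IsLocalRing.maximalIdeal R := by
    have h1 : (Spec.map φ).base q = ((IsLocalRing.closedPoint R : PrimeSpectrum R) : ↥(Spec (CommRingCat.of R))) := by
      rw [hφ, Scheme.Hom.comp_apply, ← hx]
      exact congrArg f.base (hU.fromSpec_primeIdealOf ⟨x, hxU⟩)
    exact congrArg PrimeSpectrum.asIdeal h1
  letI : Algebra B (X.presheaf.stalk x) := TopCat.Presheaf.algebra_section_stalk X.presheaf (⟨x, hxU⟩ : U)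
  haveI : IsLocalization.AtPrime (X.presheaf.stalk x) P := hU.isLocalization_stalk ⟨x, hxU⟩
  obtain ⟨R', _, _, _, _, _, G, _, _, _, m, hm, hm', hSH⟩ :=
    GrothLib.SHClosedPt18.exists_closed_point_dvr (R := R) P hP (X.presheaf.stalk x) A
  let z : PrimeSpectrum G := ⟨m, hm.isPrime⟩
  letI : Algebra G ((Spec (CommRingCat.of G)).presheaf.stalk z) := StructureSheaf.stalkAlgebra G z
  haveI : IsLocalization.AtPrime ((Spec (CommRingCat.of G)).presheaf.stalk z) m :=
    (StructureSheaf.IsLocalization.to_stalk G z :)
  obtain ⟨_, _, hA⟩ := hSH ((Spec (CommRingCat.of G)).presheaf.stalk z)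
  let f' : Spec (CommRingCat.of G) ⟶ Spec (CommRingCat.of R') := Spec.map (CommRingCat.ofHom (algebraMap R' G))
  refine ⟨R', inferInstance, inferInstance, inferInstance, inferInstance, inferInstance,
    Spec (CommRingCat.of G), f', ?_, inferInstance, z, ?_, ?_, _, _, hA⟩
  · exact (HasRingHomProperty.Spec_iff (P := @LocallyOfFiniteType)).2 (RingHom.finiteType_algebraMap.2 inferInstance)
  · exact (PrimeSpectrum.isClosed_singleton_iff_isMaximal z).2 hm
  · exact PrimeSpectrum.ext hm'

end Groth.Agent.S8543
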