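import Groth.Statements.S8544
import Groth.Agent.Lib.Partition6.Model
import Groth.Agent.Lib.Partition6.Pieces
import Groth.Agent.Lib.Constr.Basic
import Groth.Agent.Lib.OX.AffineExtend
-- import your own Groth.Agent.* helpers here

set_option autoImplicit false
universe u
open CategoryTheory CategoryTheory.Limits AlgebraicGeometry Opposite
open EtPBC

namespace Groth.Agent.S8544

set_option linter.style.haveILetI false

open Topology

/-- A piece with its cover and section. -/
structure Piece {X Y : Scheme.{u}} (f : X ⟶ Y) where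
  T : Scheme.{u}
  T' : Scheme.{u}
  T'' : Scheme.{u}
  e : T ⟶ Y
  hh : T' ⟶ T
  gg : T'' ⟶ T'
  s : T'' ⟶ X
  he : IsImmersion e ∧ LocallyOfFinitePresentation e ∧ QuasiCompact e
  hhh : IsFinite hh ∧ Surjective hh ∧ Etale hh
  hgg : IsFinite gg ∧ Surjective gg ∧ Flat gg ∧ LocallyOfFinitePresentation gg ∧ UniversallyInjective gg
  comm : s ≫ f = gg ≫ hh ≫ e

/-- The restriction of a piece along an immersion of finite presentation. -/
noncomputable def Piece.restrict {X Y : Scheme.{u}} {f : X ⟶ Y} (P : Piece f) {T₀ : Scheme.{u}} (j : T₀ ⟶ P.T)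
    (h1 : IsImmersion j) (h2 : LocallyOfFinitePresentation j) (h3 : QuasiCompact j) : Piece f where
  T := T₀
  T' := pullback j P.hh
  T'' := pullback (pullback.snd j P.hh) P.gg
  e := j ≫ P.e
  hh := pullback.fst j P.hh
  gg := pullback.fst (pullback.snd j P.hh) P.gg
  s := pullback.snd (pullback.snd j P.hh) P.gg ≫ P.s
  he := by
    obtain ⟨a, b, c⟩ := P.he
    exact ⟨inferInstance, inferInstance, inferInstance⟩
  hhh := by
    obtain ⟨a, b, c⟩ := P.hhh
    exact ⟨MorphismProperty.of_isPullback (IsPullback.of_hasPullback _ _).flip a, MorphismProperty.of_isPullback (IsPullback.of_hasPullback _ _).flip b,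
      MorphismProperty.of_isPullback (IsPullback.of_hasPullback _ _).flip c⟩
  hgg := by
    obtain ⟨a, b, c, d, e⟩ := P.hgg
    exact ⟨MorphismProperty.of_isPullback (IsPullback.of_hasPullback _ _).flip a, MorphismProperty.of_isPullback (IsPullback.of_hasPullback _ _).flip b,
      MorphismProperty.of_isPullback (IsPullback.of_hasPullback _ _).flip c, MorphismProperty.of_isPullback (IsPullback.of_hasPullback _ _).flip d, MorphismProperty.of_isPullback (IsPullback.of_hasPullback _ _).flip e⟩
  comm := by
    rw [Category.assoc, P.comm, pullback.condition_assoc, pullback.condition_assoc]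

/-- The map cutting out `D(a) ∩ V(I)`. -/
noncomputable def pieceMap {R : Type u} [CommRing R] (a : R) (I : Ideal R) :
    Spec (CommRingCat.of (GrothLib.Partition6.PieceRing a I)) ⟶ Spec (CommRingCat.of R) :=
  Spec.map (CommRingCat.ofHom (algebraMap R (GrothLib.Partition6.PieceRing a I)))

theorem pieceMap_props {R : Type u} [CommRing R] (a : R) (I : Ideal R) (hI : I.FG) :
    IsImmersion (pieceMap a I) ∧ LocallyOfFinitePresentation (pieceMap a I) ∧ QuasiCompact (pieceMap a I) ∧
      Set.range (pieceMap a I).base = PrimeSpectrum.zeroLocus (I : Set R) \ PrimeSpectrum.zeroLocus {a} := by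
  let q : CommRingCat.of R ⟶ CommRingCat.of (R ⧸ I) := CommRingCat.ofHom (Ideal.Quotient.mk I)
  let l : CommRingCat.of (R ⧸ I) ⟶ CommRingCat.of (GrothLib.Partition6.PieceRing a I) :=
    CommRingCat.ofHom (algebraMap (R ⧸ I) (GrothLib.Partition6.PieceRing a I))
  have e : pieceMap a I = Spec.map l ≫ Spec.map q := by
    rw [← Spec.map_comp, pieceMap]
    congr 1
  haveI : IsClosedImmersion (Spec.map q) := IsClosedImmersion.spec_of_surjective _ Ideal.Quotient.mk_surjective
  haveI : IsOpenImmersion (Spec.map l) := IsOpenImmersion.of_isLocalization (Ideal.Quotient.mk I a)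
  haveI : LocallyOfFinitePresentation (Spec.map q) := by
    rw [HasRingHomProperty.Spec_iff (P := @LocallyOfFinitePresentation)]
    exact RingHom.FinitePresentation.of_surjective _ Ideal.Quotient.mk_surjective
      (by rw [CommRingCat.hom_ofHom, Ideal.mk_ker]; exact hI)
  refine ⟨by rw [e]; infer_instance, by rw [e]; infer_instance, by rw [e]; infer_instance, ?_⟩
  rw [e]
  show Set.range ((PrimeSpectrum.comap (Ideal.Quotient.mk I)) ∘
    (PrimeSpectrum.comap (algebraMap (R ⧸ I) (GrothLib.Partition6.PieceRing a I)))) = _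
  rw [Set.range_comp, PrimeSpectrum.localization_away_comap_range _ (Ideal.Quotient.mk I a)]
  ext x
  constructor
  · rintro ⟨y, hy, rfl⟩
    refine ⟨fun r hr => ?_, fun h => ?_⟩
    · show Ideal.Quotient.mk I r ∈ y.asIdeal
      rw [Ideal.Quotient.eq_zero_iff_mem.2 hr]
      exact zero_mem _
    · exact hy (h rfl)
  · rintro ⟨hx, ha⟩
    have hmem : x ∈ Set.range (PrimeSpectrum.comap (Ideal.Quotient.mk I)) := by
      rw [range_comap_of_surjective _ _ Ideal.Quotient.mk_surjective, Ideal.mk_ker]
      exact hx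
    obtain ⟨y, rfl⟩ := hmem
    exact ⟨y, fun h => ha (Set.singleton_subset_iff.2 h), rfl⟩

theorem exists_piece_at {X Y : Scheme.{u}} (f : X ⟶ Y) [Surjective f] [LocallyOfFinitePresentation f]
    [CompactSpace Y] [QuasiSeparatedSpace Y] (y : Y) :
    ∃ (R : CommRingCat.{u}) (em : Spec R ⟶ Y) (_ : IsOpenImmersion em) (_ : QuasiCompact em) (a : R) (I : Ideal R)
      (_ : I.FG) (P : Piece f) (iso : P.T ≅ Spec (CommRingCat.of (GrothLib.Partition6.PieceRing a I))),
      P.e = iso.hom ≫ pieceMap a I ≫ em ∧ y ∈ Set.range P.e.base := by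
  obtain ⟨x, rfl⟩ := f.surjective y
  obtain ⟨V, hV, hyV, -⟩ := exists_isAffineOpen_mem_and_subset (x := f x) (U := ⊤) trivial
  obtain ⟨W, hW, hxW, hWV⟩ := exists_isAffineOpen_mem_and_subset (x := x) (U := f ⁻¹ᵁ V) hyV
  letI : Algebra Γ(Y, V) Γ(X, W) := (f.appLE V W hWV).hom.toAlgebra
  haveI : Algebra.FinitePresentation Γ(Y, V) Γ(X, W) := f.finitePresentation_appLE hV hW hWV
  let p := hV.primeIdealOf ⟨f x, hyV⟩
  obtain ⟨a, I, hI, hap, hIp, R₂, R₃, _, _, _, _, ψ, h1, h2, h3, h4, h5, h6, h7, h8, h9⟩ :=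
    GrothLib.Partition6.exists_piece (B := Γ(X, W)) p
      ⟨hW.primeIdealOf ⟨x, hxW⟩, IsAffineOpen.comap_primeIdealOf_appLE V hV W hW hWV hxW⟩
  haveI : QuasiCompact hV.fromSpec := by
    haveI : QuasiCompact V.ι := GrothLib.OX.quasiCompact_of_isCompact_range V.ι
      (by rw [Scheme.Opens.range_ι]; exact hV.isCompact)
    rw [← IsAffineOpen.isoSpec_inv_ι]
    infer_instance
  obtain ⟨p1, p2, p3, p4⟩ := pieceMap_props a I hI
  let R₁ := GrothLib.Partition6.PieceRing a I
  let hh : Spec (CommRingCat.of R₂) ⟶ Spec (CommRingCat.of R₁) := Spec.map (CommRingCat.ofHom (algebraMap R₁ R₂))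
  let gg : Spec (CommRingCat.of R₃) ⟶ Spec (CommRingCat.of R₂) := Spec.map (CommRingCat.ofHom (algebraMap R₂ R₃))
  let P : Piece f :=
    { T := _
      T' := _
      T'' := _
      e := pieceMap a I ≫ hV.fromSpec
      hh := hh
      gg := gg
      s := Spec.map (CommRingCat.ofHom ψ) ≫ hW.fromSpec
      he := ⟨inferInstance, inferInstance, inferInstance⟩
      hhh := ⟨(IsFinite.SpecMap_iff _).2 (RingHom.finite_algebraMap.2 h1), ⟨h3⟩,
        (HasRingHomProperty.Spec_iff (P := @Etale)).2 (RingHom.etale_algebraMap.2 h2)⟩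
      hgg := ⟨(IsFinite.SpecMap_iff _).2 (RingHom.finite_algebraMap.2 h4), ⟨h7⟩,
        (HasRingHomProperty.Spec_iff (P := @Flat)).2 (RingHom.flat_algebraMap_iff.2 h6),
        (HasRingHomProperty.Spec_iff (P := @LocallyOfFinitePresentation)).2 (RingHom.finitePresentation_algebraMap.2 h5),
        h8⟩
      comm := by
        simp only [hh, gg, pieceMap]
        rw [Category.assoc, ← IsAffineOpen.SpecMap_appLE_fromSpec f hV hW hWV, ← Spec.map_comp_assoc,
          ← Spec.map_comp_assoc, ← Spec.map_comp_assoc]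
        congr 2
        exact CommRingCat.hom_ext h9 }
  refine ⟨Γ(Y, V), hV.fromSpec, inferInstance, inferInstance, a, I, hI, P, Iso.refl _,
    (Category.id_comp _).symm, ?_⟩
  have hp : p ∈ Set.range (pieceMap a I).base := by
    rw [p4]
    exact ⟨fun r hr => hIp hr, fun h => hap (h rfl)⟩
  obtain ⟨t, ht⟩ := hp
  refine ⟨t, ?_⟩
  show hV.fromSpec ((pieceMap a I) t) = f x
  rw [ht]
  exact hV.fromSpec_primeIdealOf _

theorem exists_disjoint_restrict {X Y : Scheme.{u}} {f : X ⟶ Y} (P : Piece f) {A : CommRingCat.{u}}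
    (iso : P.T ≅ Spec A) (C : Set Y) (hC : Topology.IsConstructible ((iso.inv ≫ P.e).base ⁻¹' C)) :
    ∃ (n : ℕ) (Q : Fin n → Piece f), Pairwise (fun i j => Disjoint (Set.range (Q i).e.base) (Set.range (Q j).e.base)) ∧
      (⋃ i, Set.range (Q i).e.base) = Set.range P.e.base ∩ C := by
  obtain ⟨n, D, hD, hU⟩ := GrothLib.Partition6.isDisjUnion_of_isConstructible hC
  let j : ∀ i, Spec (CommRingCat.of (GrothLib.Partition6.PieceRing (D i).f (Ideal.span (Set.range (D i).g)))) ⟶ P.T :=
    fun i => pieceMap _ _ ≫ iso.inv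
  have hp := fun i => pieceMap_props (D i).f (Ideal.span (Set.range (D i).g)) (Submodule.fg_span (Set.finite_range _))
  haveI := fun i => (hp i).1
  haveI := fun i => (hp i).2.1
  haveI := fun i => (hp i).2.2.1
  let Q : Fin n → Piece f := fun i => P.restrict (j i) inferInstance inferInstance inferInstance
  have hr : ∀ i, Set.range (Q i).e.base = (iso.inv ≫ P.e).base '' (D i).toSet := fun i => by
    show Set.range ((iso.inv ≫ P.e).base ∘ (pieceMap _ _).base) = _
    rw [Set.range_comp, (hp i).2.2.2, PrimeSpectrum.zeroLocus_span]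
    rfl
  haveI := P.he.1
  have hinj : Function.Injective (iso.inv ≫ P.e).base := (iso.inv ≫ P.e).isEmbedding.injective
  refine ⟨n, Q, fun i k hik => ?_, ?_⟩
  · simp only [hr]
    exact (hD hik).image (Set.injOn_of_injective hinj) (Set.subset_univ _) (Set.subset_univ _)
  · refine (Set.iUnion_congr hr).trans ?_
    refine Eq.trans (Set.image_iUnion (f := (iso.inv ≫ P.e).base) (s := fun i => (D i).toSet)).symm ?_
    refine Eq.trans (congrArg (fun S => (iso.inv ≫ P.e).base '' S) hU) ?_
    show (iso.inv ≫ P.e).base '' ((iso.inv ≫ P.e).base ⁻¹' C) = _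
    rw [Set.image_preimage_eq_range_inter]
    congr 1
    show Set.range (P.e.base ∘ iso.inv.base) = _
    exact iso.inv.surjective.range_comp _

/-- Let f : X → Y be a surjective morphism locally of finite presentation, with Y quasi-compact and
quasi-separated. Then there are a finite partition of Y by subschemes Y_i of finite presentation
over Y (immersions e_i of finite presentation with pairwise disjoint images covering Y) and, for
each i, finite surjective morphisms g_i : Y_i'' → Y_i' and h_i : Y_i' → Y_i with h_i etale and g_i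
flat, of finite presentation and radicial (universally injective), together with a Y-morphism s_i :
Y_i'' → X, i.e. s_i followed by f equals g_i, h_i, e_i composed. -/
theorem result {X Y : Scheme.{u}} (f : X ⟶ Y) [Surjective f]
    [LocallyOfFinitePresentation f] [CompactSpace Y] [QuasiSeparatedSpace Y] :
    ∃ (m : ℕ) (T T' T'' : Fin m → Scheme.{u}) (e : ∀ i, T i ⟶ Y) (hh : ∀ i, T' i ⟶ T i) (gg : ∀ i, T'' i ⟶ T' i)
      (s : ∀ i, T'' i ⟶ X),
      (∀ i, IsImmersion (e i) ∧ LocallyOfFinitePresentation (e i) ∧ QuasiCompact (e i)) ∧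
      Pairwise (fun i j => Disjoint (Set.range (e i).base) (Set.range (e j).base)) ∧
      (⋃ i, Set.range (e i).base) = Set.univ ∧
      (∀ i, IsFinite (hh i) ∧ Surjective (hh i) ∧ Etale (hh i)) ∧
      (∀ i, IsFinite (gg i) ∧ Surjective (gg i) ∧ Flat (gg i) ∧ LocallyOfFinitePresentation (gg i) ∧
        UniversallyInjective (gg i)) ∧
      ∀ i, s i ≫ f = gg i ≫ hh i ≫ e i := by
  classical
  choose R em hem1 hem2 a I hI P iso he hmem using exists_piece_at f
  have hE : ∀ y, Topology.IsConstructible (Set.range (P y).e.base) := fun y => by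
    haveI := hem1 y
    haveI := hem2 y
    have h : Set.range (P y).e.base =
        (em y).base '' (PrimeSpectrum.zeroLocus (I y : Set (R y)) \ PrimeSpectrum.zeroLocus {a y}) := by
      refine Eq.trans ?_ (congrArg (fun S => (em y).base '' S) (pieceMap_props (a y) (I y) (hI y)).2.2.2)
      rw [← Set.range_comp, he]
      exact (iso y).hom.surjective.range_comp ((pieceMap (a y) (I y) ≫ em y).base)
    rw [h]
    obtain ⟨S, hS⟩ := hI y
    refine Topology.IsConstructible.image_of_isOpenEmbedding (em y).isOpenEmbedding ?_ ?_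
    · intro U hU hUc
      rw [← Set.image_preimage_eq_range_inter]
      exact (QuasiCompact.isCompact_preimage (f := em y) U hUc hU).image (em y).continuous
    · rw [← hS, PrimeSpectrum.zeroLocus_span]
      have h' := PrimeSpectrum.ConstructibleSetData.isConstructible_toSet
        ({⟨a y, S.card, fun i => (S.equivFin.symm i).1⟩} : PrimeSpectrum.ConstructibleSetData (R y))
      simp only [PrimeSpectrum.ConstructibleSetData.toSet, Finset.mem_singleton, Set.iUnion_iUnion_eq_left,
        PrimeSpectrum.BasicConstructibleSetData.toSet] at h'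
      have hr : Set.range (fun i => ((S.equivFin.symm i).1 : R y)) = (S : Set (R y)) := Set.ext fun r => by
        simp [← S.equivFin.exists_congr_right]
      rw [hr] at h'
      exact h'
  obtain ⟨t, ht⟩ := @IsCompact.elim_finite_subcover Y (constructibleTopology Y) Set.univ _
    (@CompactSpace.isCompact_univ Y (constructibleTopology Y) GrothLib.Constr.compactSpace_constructibleTopology)
    (fun y => Set.range (P y).e.base)
    (fun y => (GrothLib.Constr.isOpen_constructibleTopology_of_isConstructible (hE y)).1)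
    (fun y _ => Set.mem_iUnion.2 ⟨y, hmem y⟩)
  let ys : Fin t.card → Y := fun i => (t.equivFin.symm i).1
  have hcov : ∀ z, ∃ i, z ∈ Set.range (P (ys i)).e.base := fun z => by
    obtain ⟨y, hy, hz⟩ := Set.mem_iUnion₂.1 (ht (Set.mem_univ z))
    exact ⟨t.equivFin ⟨y, hy⟩, (congrArg (fun w => z ∈ Set.range (P w).e.base)
      (show ys (t.equivFin ⟨y, hy⟩) = y by simp [ys])).mpr hz⟩
  let C : Fin t.card → Set Y := fun i => ⋂ j ∈ Finset.univ.filter (· < i), (Set.range (P (ys j)).e.base)ᶜ
  have hC : ∀ i, Topology.IsConstructible (((iso (ys i)).inv ≫ (P (ys i)).e).base ⁻¹' C i) := fun i => by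
    have hcC : Topology.IsConstructible (C i) := by
      refine Finset.induction_on (Finset.univ.filter (· < i)) ?_ ?_ (motive := fun s =>
        Topology.IsConstructible (⋂ j ∈ s, (Set.range (P (ys j)).e.base)ᶜ))
      · simp
      · intro j s _ hs
        rw [Finset.set_biInter_insert]
        exact (hE _).compl.inter hs
    haveI := (P (ys i)).he.2.2
    exact hcC.preimage ((iso (ys i)).inv ≫ (P (ys i)).e).continuous fun W hW hWc =>
      (QuasiCompact.isCompact_preimage (f := (iso (ys i)).inv ≫ (P (ys i)).e) W hW hWc.isCompact).isRetrocompact (hW.preimage ((iso (ys i)).inv ≫ (P (ys i)).e).continuous)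
  choose n Q hQd hQu using fun i => exists_disjoint_restrict (P (ys i)) (iso (ys i)) (C i) (hC i)
  let e := (Fintype.equivFin ((i : Fin t.card) × Fin (n i))).symm
  let Z : Fin (Fintype.card ((i : Fin t.card) × Fin (n i))) → Piece f := fun k => Q (e k).1 (e k).2
  refine ⟨_, fun k => (Z k).T, fun k => (Z k).T', fun k => (Z k).T'', fun k => (Z k).e, fun k => (Z k).hh,
    fun k => (Z k).gg, fun k => (Z k).s, fun k => (Z k).he, fun k l hkl => ?_, ?_, fun k => (Z k).hhh,
    fun k => (Z k).hgg, fun k => (Z k).comm⟩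
  · have hne : e k ≠ e l := e.injective.ne hkl
    have hsub : ∀ q : (i : Fin t.card) × Fin (n i),
        Set.range (Q q.1 q.2).e.base ⊆ Set.range (P (ys q.1)).e.base ∩ C q.1 := fun q => by
      rw [← hQu q.1]
      exact Set.subset_iUnion (fun i => Set.range (Q q.1 i).e.base) q.2
    show Disjoint (Set.range (Q (e k).1 (e k).2).e.base) (Set.range (Q (e l).1 (e l).2).e.base)
    generalize e k = q, e l = r at hne
    rcases lt_trichotomy q.1 r.1 with h | h | h
    · refine Set.disjoint_left.2 fun z hz hz' => ?_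
      exact (Set.mem_iInter₂.1 (hsub r hz').2 q.1 (by simp [h])) (hsub q hz).1
    · obtain ⟨i, a⟩ := q
      obtain ⟨i', b⟩ := r
      obtain rfl : i = i' := h
      exact hQd i fun hab : a = b => hne (by rw [hab])
    · refine Set.disjoint_left.2 fun z hz hz' => ?_
      exact (Set.mem_iInter₂.1 (hsub q hz).2 r.1 (by simp [h])) (hsub r hz').1
  · refine Set.eq_univ_of_forall fun z => ?_
    let i := Finset.min' (Finset.univ.filter fun i => z ∈ Set.range (P (ys i)).e.base)
      (by obtain ⟨i, hi⟩ := hcov z; exact ⟨i, Finset.mem_filter.2 ⟨Finset.mem_univ _, hi⟩⟩)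
    have hi : z ∈ Set.range (P (ys i)).e.base :=
      (Finset.mem_filter.1 (Finset.min'_mem (Finset.univ.filter fun i => z ∈ Set.range (P (ys i)).e.base) _)).2
    have hzC : z ∈ C i := Set.mem_iInter₂.2 fun j hj hz => by
      have h1 : i ≤ j := Finset.min'_le _ _ (Finset.mem_filter.2 ⟨Finset.mem_univ j, hz⟩)
      exact (Finset.mem_filter.1 hj).2.not_ge h1
    have : z ∈ ⋃ k, Set.range (Q i k).e.base := by rw [hQu]; exact ⟨hi, hzC⟩
    obtain ⟨k, hk⟩ := Set.mem_iUnion.1 this
    refine Set.mem_iUnion.2 ⟨e.symm ⟨i, k⟩, ?_⟩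
    show z ∈ Set.range (Q (e (e.symm ⟨i, k⟩)).1 (e (e.symm ⟨i, k⟩)).2).e.base
    rw [Equiv.apply_symm_apply]
    exact hk

end Groth.Agent.S8544
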