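import Groth.Statements.S8547

-- import your own Groth.Agent.* helpers here

set_option autoImplicit false
universe u
open CategoryTheory CategoryTheory.Limits AlgebraicGeometry Opposite
open EtBC

namespace Groth.Agent.S8547

/-- morphisms into the terminal object are unique -/
lemma hom_bcTop_ext {X Y : Scheme.{u}} (f : X ⟶ Y) {U : X.Etale} (a b : U ⟶ (EtCoh.bc f).obj (EtCoh.top Y)) :
    a = b :=
  (EtCore.bcTopIsTerminal f).hom_ext a b

set_option backward.isDefEq.respectTransparency.types false in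
theorem sq_eq {X Y Xb Yb : Scheme.{u}} (h : Y ⟶ X) (p : Xb ⟶ X) (hb : Yb ⟶ Xb) (pY : Yb ⟶ Y)
    (w : hb ≫ p = pY ≫ h) (Fb : EtDesc.Sh Xb) (s : EtDesc.sect ((EtDesc.pushSh p).obj Fb) (EtCoh.top X)) :
    (EtBC.baseChange0Sh p h pY hb w Fb).hom.app (op (EtCoh.top Y))
        (EtDesc.secPull h ((EtDesc.pushSh p).obj Fb) s) =
      ((EtDesc.pullSh hb).obj Fb).obj.map (EtCore.bcTopIso pY).hom.op
        (EtDesc.secPull hb Fb (Fb.obj.map (EtCore.bcTopIso p).inv.op s)) := by
  set φ := EtBC.baseChange0Sh p h pY hb w Fb with hφ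
  have hu : (EtDesc.adjSh h).unit.app ((EtDesc.pushSh p).obj Fb) ≫ (EtDesc.pushSh h).map φ =
      (EtDesc.pushSh p).map ((EtDesc.adjSh hb).unit.app Fb) ≫ (EtDesc.pushCompSh p hb).hom.app _ ≫
        (EtBC.pushCongrSh w).hom.app _ ≫ (EtDesc.pushCompSh h pY).inv.app _ := by
    exact ((EtDesc.adjSh h).homEquiv_unit _ _ φ).symm.trans (Equiv.apply_symm_apply _ _)
  have hs := congrArg (fun t => t.hom.app (op (EtCoh.top X)) s) hu
  dsimp only [EtDesc.secPull]
  simp only [EtDesc.pushCompSh, EtBC.pushCongrSh] at hs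
  erw [NatTrans.naturality_apply φ.hom]
  erw [hs]
  erw [NatTrans.naturality_apply ((EtDesc.adjSh hb).unit.app Fb).hom]
  show ((EtDesc.pullSh hb).obj Fb).obj.map _ (((EtDesc.pullSh hb).obj Fb).obj.map _
      (((EtDesc.pullSh hb).obj Fb).obj.map _ (((EtDesc.pullSh hb).obj Fb).obj.map _ _))) =
    ((EtDesc.pullSh hb).obj Fb).obj.map _ (((EtDesc.pullSh hb).obj Fb).obj.map _
      (((EtDesc.pullSh hb).obj Fb).obj.map _ _))
  simp only [← CategoryTheory.Functor.map_comp_apply]
  refine congrFun (congrArg DFunLike.coe (congrArg ConcreteCategory.hom (congrArg _ ?_))) _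
  apply Quiver.Hom.unop_inj
  exact (IsTerminal.isTerminalObj (EtCoh.bc hb) _ (EtCore.bcTopIsTerminal p)).hom_ext _ _

set_option backward.isDefEq.respectTransparency.types false in
theorem sq_key {X Y Xb Yb : Scheme.{u}} (h : Y ⟶ X) (p : Xb ⟶ X) (hb : Yb ⟶ Xb) (pY : Yb ⟶ Y)
    (w : hb ≫ p = pY ≫ h) (Fb : EtDesc.Sh Xb) :
    (Function.Injective (EtDesc.secPull h ((EtDesc.pushSh p).obj Fb)) →
      Function.Injective ((EtBC.baseChange0Sh p h pY hb w Fb).hom.app (op (EtCoh.top Y))) →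
        Function.Injective (EtDesc.secPull hb Fb)) ∧
    (Function.Bijective (EtDesc.secPull h ((EtDesc.pushSh p).obj Fb)) →
      Function.Bijective ((EtBC.baseChange0Sh p h pY hb w Fb).hom.app (op (EtCoh.top Y))) →
        Function.Bijective (EtDesc.secPull hb Fb)) := by
  let e₁ := (Fb.obj.mapIso (EtCore.bcTopIso p).op).toEquiv
  let e₂ := (((EtDesc.pullSh hb).obj Fb).obj.mapIso (EtCore.bcTopIso pY).op).toEquiv
  have key : ∀ t, (EtBC.baseChange0Sh p h pY hb w Fb).hom.app (op (EtCoh.top Y))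
      (EtDesc.secPull h ((EtDesc.pushSh p).obj Fb) (e₁ t)) = e₂ (EtDesc.secPull hb Fb t) := by
    intro t
    refine (sq_eq h p hb pY w Fb _).trans ?_
    have := e₁.symm_apply_apply t
    exact congrArg (fun z => e₂ (EtDesc.secPull hb Fb z)) this
  refine ⟨fun i1 i2 a b hab => e₁.injective (i1 (i2 ?_)), fun b1 b2 => ?_⟩
  · exact (key a).trans ((congrArg e₂ hab).trans (key b).symm)
  · have hc : EtDesc.secPull hb Fb = e₂.symm ∘ (EtBC.baseChange0Sh p h pY hb w Fb).hom.app (op (EtCoh.top Y)) ∘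
        EtDesc.secPull h ((EtDesc.pushSh p).obj Fb) ∘ e₁ := by
      funext t
      simp only [Function.comp_apply, key, Equiv.symm_apply_apply]
    rw [hc]
    exact e₂.symm.bijective.comp (b2.comp (b1.comp e₁.bijective))

/-- Let h : Y → X and p : X̄ → X be morphisms of schemes with X, Y, X̄ quasi-compact and quasi-separated
(p need not be surjective), and Ȳ = Y ×_X X̄ with projections h̄ : Ȳ → X̄ and p_Y : Ȳ → Y. If the
pullback map on global sections Γ(X, F) → Γ(Y, h^*F) is injective for every sheaf of sets F on X and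
the base change morphism h^* p_* F̄ → p_{Y*} h̄^* F̄ is a monomorphism for every sheaf of sets F̄ on
X̄, then Γ(X̄, F̄) → Γ(Ȳ, h̄^*F̄) is injective for every F̄. If the maps for h are bijective and the
base change morphisms are isomorphisms, then the maps for h̄ are bijective. -/
theorem result {X Y Xb Yb : Scheme.{u}} [CompactSpace X]
    [QuasiSeparatedSpace X] [CompactSpace Y] [QuasiSeparatedSpace Y] [CompactSpace Xb] [QuasiSeparatedSpace Xb]
    (h : Y ⟶ X) (p : Xb ⟶ X) (hb : Yb ⟶ Xb) (pY : Yb ⟶ Y) (sq : IsPullback hb pY p h) :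
    ((∀ F : EtDesc.Sh X, Function.Injective (EtDesc.secPull h F)) →
      (∀ Fb : EtDesc.Sh Xb, Mono (EtBC.baseChange0Sh p h pY hb sq.w Fb)) →
      ∀ Fb : EtDesc.Sh Xb, Function.Injective (EtDesc.secPull hb Fb)) ∧
    ((∀ F : EtDesc.Sh X, Function.Bijective (EtDesc.secPull h F)) →
      (∀ Fb : EtDesc.Sh Xb, IsIso (EtBC.baseChange0Sh p h pY hb sq.w Fb)) →
      ∀ Fb : EtDesc.Sh Xb, Function.Bijective (EtDesc.secPull hb Fb)) := by
  have appinj : ∀ {Z : Scheme.{u}} {A B : EtDesc.Sh Z} (m : A ⟶ B) [Mono m] (W : (Z.Etale)ᵒᵖ),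
      Function.Injective (m.hom.app W) := by
    intro Z A B m _ W
    have h1 : Mono ((sheafToPresheaf _ _).map m) := inferInstance
    have h2 := (NatTrans.mono_iff_mono_app _).mp h1 W
    exact (mono_iff_injective _).mp h2
  have appbij : ∀ {Z : Scheme.{u}} {A B : EtDesc.Sh Z} (m : A ⟶ B) [IsIso m] (W : (Z.Etale)ᵒᵖ),
      Function.Bijective (m.hom.app W) := by
    intro Z A B m _ W
    have h1 : IsIso ((sheafToPresheaf _ _).map m) := inferInstance
    have h2 : IsIso (((sheafToPresheaf _ _).map m).app W) := inferInstance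
    exact (isIso_iff_bijective _).mp h2
  exact ⟨fun h1 h2 Fb => (sq_key h p hb pY sq.w Fb).1 (h1 _) (haveI := h2 Fb; appinj _ _),
    fun h1 h2 Fb => (sq_key h p hb pY sq.w Fb).2 (h1 _) (haveI := h2 Fb; appbij _ _)⟩

end Groth.Agent.S8547
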