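import Groth.Statements.S8554
import Groth.Agent.Lib.NonAb21.Godement

set_option backward.isDefEq.respectTransparency false
set_option backward.isDefEq.respectTransparency.types false

set_option autoImplicit false
universe u
open CategoryTheory CategoryTheory.Limits AlgebraicGeometry Opposite
open NonAbH1

namespace Groth.Agent.S8554

/-- Every sheaf of groups F on the small etale site of a scheme X embeds into a sheaf of groups G with
vanishing first non-abelian cohomology on every etale X-scheme: there are G and a morphism u : F ⟶
G, injective on sections over every object of the site, such that for every etale X-scheme U every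
torsor under the restriction of G to the induced site over U is trivial, i.e. H¹(U, G) is reduced to
its base point. (The published statement adds that the first higher direct images of G along any
morphism of schemes then vanish as pointed sheaves; that clause follows from this one and is not
stated here.) -/
theorem result {X : Scheme.{u}}
    (F : Sheaf X.smallEtaleTopology GrpCat.{u + 1}) :
    ∃ (G : Sheaf X.smallEtaleTopology GrpCat.{u + 1}) (φ : F ⟶ G),
      (∀ U : X.Etaleᵒᵖ, Function.Injective (φ.hom.app U)) ∧
      ∀ (U : X.Etale) (P : NonAbH1.Torsor (G.over U)), P.IsTrivial := by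
  let Φ : X → GrothendieckTopology.Point.{u} X.smallEtaleTopology := fun x =>
    Scheme.pointSmallEtale (GrothLib.EtSite.gpt x)
  refine ⟨GrothLib.NonAb21.god Φ (fun x => GrothLib.NonAb21.stalkG F (Φ x)), GrothLib.NonAb21.toGod F Φ, ?_,
    fun U P => GrothLib.NonAb21.isTrivial_torsor_god Φ _ U P⟩
  refine GrothLib.NonAb21.toGod_injective F Φ fun V R h => ?_
  rw [GrothLib.EtSite.mem_topology_iff]
  intro v
  obtain ⟨t, ht⟩ := GrothLib.EtSite.exists_fib (GrothLib.EtSite.gpt (V.hom.base v)) (U := V) v
    (GrothLib.EtSite.gpt_default _).symm
  obtain ⟨W, g, τ, hg, hτ⟩ := h (V.hom.base v) t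
  exact ⟨W, g, _, hg, (GrothLib.EtSite.base_fiber_map _ g τ t hτ).trans ht⟩

end Groth.Agent.S8554
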