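import Groth.Statements.S8560
import Groth.Agent.Lib.EtLimit.KilledCoh
-- import your own Groth.Agent.* helpers here

set_option autoImplicit false
universe u
open CategoryTheory CategoryTheory.Limits AlgebraicGeometry Opposite
open EtAcyc

namespace Groth.Agent.S8560

/-- For the etale sites of schemes and a set of primes L: if f : X ⟶ Y is a quasi-compact and
quasi-separated morphism of schemes and F is an abelian L-torsion sheaf on the small etale site of X
(every section is, etale-locally around each point, killed by a positive integer all of whose prime
factors lie in L), then each higher direct image R^q f_* F is an L-torsion sheaf on Y. (The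
published statement, for topoi, asks only that the morphism be quasi-compact; this row also assumes
f quasi-separated: for the spectrum of a polynomial ring in countably many variables over a
separably closed field glued to a copy of itself along the complement of the origin, and the direct
sum of the skyscraper sheaves ℤ/pⁿ at the points where exactly the n-th variable is 1, the structure
morphism to the field is quasi-compact but H¹ contains a class of infinite order.) -/
theorem result {X Y : Scheme.{u}} (f : X ⟶ Y) [QuasiCompact f] [QuasiSeparated f]
    [EtCoh.BCCont f] (L : Set ℕ) (F : EtCoh.Ab X) (hF : EtAcyc.IsLTorsion L F) (q : ℕ) :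
    EtAcyc.IsLTorsion L ((EtCoh.Rpush f q).obj F) := by
  have h1 : EtAcyc.PrimesIn L 1 := ⟨one_pos, fun p hp h => absurd (Nat.dvd_one.1 h) hp.ne_one⟩
  have hmul : ∀ a b, EtAcyc.PrimesIn L a → EtAcyc.PrimesIn L b → EtAcyc.PrimesIn L (a * b) :=
    fun a b ha hb => ⟨Nat.mul_pos ha.1 hb.1, fun p hp h => (hp.dvd_mul.1 h).elim (ha.2 p hp) (hb.2 p hp)⟩
  have hF' : GrothLib.EtLimit.LocKilled (EtAcyc.PrimesIn L) F := fun U s x => by
    obtain ⟨V, g, m, hv, hm, h⟩ := hF U s x
    exact ⟨V, g, hv, m, hm, h⟩
  intro U s x
  obtain ⟨V, g, hv, m, hm, h⟩ := GrothLib.EtLimit.locKilled_Rpush h1 hmul f hF' q U s x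
  exact ⟨V, g, m, hv, hm, h⟩

end Groth.Agent.S8560
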