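import Groth.Statements.S8562
import Groth.Agent.Lib.EtSite.Points

set_option autoImplicit false
universe u
open CategoryTheory CategoryTheory.Limits AlgebraicGeometry Opposite
open NonAbH1

namespace Groth.Agent.S8562

/-- Exactness of the sequence 0 → H¹(Y, f_*F) → H¹(X, F) → H⁰(Y, R¹f_*F) at its middle term, in terms of
torsors: let f : X ⟶ Y be a morphism of schemes, F a sheaf of groups on the small etale site of X,
f_*F its direct image on Y (sections over an etale Y-scheme V are the sections of F over X ×_Y V),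
and Q an F-torsor. Then Q is the image of a class in H¹(Y, f_*F), in the sense that there are an
f_*F-torsor P on Y and a morphism of sheaves of sets from P to the direct image of the sheaf
underlying Q which is equivariant for the actions of f_*F, if and only if the class of Q is locally
trivial over Y: there is a jointly surjective family of etale Y-schemes Y_i such that Q has a
section over every X ×_Y Y_i. -/
theorem result {X Y : Scheme.{u}} (f : X ⟶ Y)
    [EtCoh.BCCont f] (F : Sheaf X.smallEtaleTopology GrpCat.{u + 1}) (Q : NonAbH1.Torsor F) :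
    (∃ (P : NonAbH1.Torsor (((EtCoh.bc f).sheafPushforwardContinuous GrpCat.{u + 1}
        Y.smallEtaleTopology X.smallEtaleTopology).obj F))
      (φ : P.P ⟶ ((EtCoh.bc f).sheafPushforwardContinuous (Type (u + 1))
        Y.smallEtaleTopology X.smallEtaleTopology).obj Q.P),
      ∀ (V : Y.Etaleᵒᵖ) (g : F.obj.obj (op ((EtCoh.bc f).obj V.unop))) (s : P.P.obj.obj V),
        φ.hom.app V (P.smul g s) = Q.smul g (φ.hom.app V s)) ↔
    ∃ (ι : Type u) (V : ι → Y.Etale), EtCoh.Covers V ∧
      ∀ i, Nonempty (Q.P.obj.obj (op ((EtCoh.bc f).obj (V i)))) := by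
  constructor
  · rintro ⟨P, φ, -⟩
    obtain ⟨S, hS, hne⟩ := P.isTorsor.2 (EtCoh.top Y)
    have h := (GrothLib.EtSite.mem_topology_iff S).1 hS
    choose W g w hg hw using h
    refine ⟨Y, W, fun y => ⟨y, w y, ?_⟩, fun y => ?_⟩
    · have e : (g y).left = (W y).hom := (Category.comp_id _).symm.trans (Over.w (g y).hom)
      rw [← e]
      exact hw y
    · obtain ⟨s⟩ := hne (g y) (hg y)
      exact ⟨φ.hom.app _ s⟩
  · rintro ⟨ι, V, hV, hne⟩
    let P : NonAbH1.GSheaf (((EtCoh.bc f).sheafPushforwardContinuous GrpCat.{u + 1}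
        Y.smallEtaleTopology X.smallEtaleTopology).obj F) :=
      { P := ((EtCoh.bc f).sheafPushforwardContinuous (Type (u + 1))
          Y.smallEtaleTopology X.smallEtaleTopology).obj Q.P
        smul := fun {U} g s => Q.smul (U := op ((EtCoh.bc f).obj U.unop)) g s
        one_smul := fun {U} p => Q.one_smul (U := op ((EtCoh.bc f).obj U.unop)) p
        mul_smul := fun {U} g h p => Q.mul_smul (U := op ((EtCoh.bc f).obj U.unop)) g h p
        map_smul := fun {U U'} a g p => Q.map_smul ((EtCoh.bc f).map a.unop).op g p }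
    refine ⟨⟨P, fun U p q => Q.isTorsor.1 (op ((EtCoh.bc f).obj U.unop)) p q, fun U => ?_⟩, 𝟙 _,
      fun _ _ _ => rfl⟩
    refine ⟨⟨fun W _ => ∃ i, Nonempty (W ⟶ V i), ?_⟩, ?_, ?_⟩
    · rintro W W' _ ⟨i, ⟨a⟩⟩ b
      exact ⟨i, ⟨b ≫ a⟩⟩
    · refine (GrothLib.EtSite.mem_topology_iff _).2 fun x => ?_
      obtain ⟨i, y, hy⟩ := hV (U.hom.base x)
      haveI : Etale U.hom := U.prop
      haveI : Etale (V i).hom := (V i).prop
      obtain ⟨z, hz1, hz2⟩ := Scheme.Pullback.exists_preimage_pullback (f := U.hom) (g := (V i).hom) x y hy.symm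
      refine ⟨Scheme.Etale.mk (pullback.fst U.hom (V i).hom ≫ U.hom),
        MorphismProperty.Over.homMk (pullback.fst U.hom (V i).hom) rfl trivial, z, ⟨i,
        ⟨MorphismProperty.Over.homMk (pullback.snd U.hom (V i).hom) pullback.condition.symm trivial⟩⟩, hz1⟩
    · rintro W a ⟨i, ⟨b⟩⟩
      obtain ⟨s⟩ := hne i
      exact ⟨Q.P.obj.map ((EtCoh.bc f).map b).op s⟩

end Groth.Agent.S8562
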