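import Groth.Statements.S8563
import Groth.Agent.Lib.Chow.Projective
import Groth.Agent.Lib.Ample.ProjSpace

set_option autoImplicit false
universe u
open CategoryTheory CategoryTheory.Limits AlgebraicGeometry
open RelProj

namespace Groth.Agent.S8563

theorem isIso_imageι_restrict {X : Scheme.{u}} (U : X.Opens) [QuasiCompact U.ι] :
    IsIso (U.ι.imageι ∣_ U) := by
  let τ := U.ι.toImage
  let Z' : U.ι.image.Opens := U.ι.imageι ⁻¹ᵁ U
  have hpre : τ ⁻¹ᵁ Z' = ⊤ := by
    rw [← Scheme.Hom.comp_preimage, U.ι.toImage_imageι, Scheme.Opens.ι_preimage_self]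
  haveI : IsSchemeTheoreticallyDominant τ := GrothLib.Chow.stdDominant_toImage U.ι
  haveI := GrothLib.Chow.stdDominant_restrict τ Z'
  haveI : IsIso ((τ ∣_ Z') ≫ (U.ι.imageι ∣_ U)) := by
    have : (τ ∣_ Z') ≫ (U.ι.imageι ∣_ U) = (τ ⁻¹ᵁ Z').ι := by
      rw [← cancel_mono U.ι, Category.assoc, morphismRestrict_ι, morphismRestrict_ι_assoc,
        U.ι.toImage_imageι]
    rw [this, hpre, ← Scheme.topIso_hom]
    infer_instance
  haveI : IsClosedImmersion (τ ∣_ Z') := IsClosedImmersion.of_comp (τ ∣_ Z') (U.ι.imageι ∣_ U)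
  haveI : IsIso (τ ∣_ Z') := IsClosedImmersion.isIso_iff_ker_eq_bot.mpr (Scheme.Hom.ker_eq_bot _)
  exact IsIso.of_isIso_comp_left (τ ∣_ Z') (U.ι.imageι ∣_ U)

theorem exists_modification_nonempty {X S : Scheme.{u}} (f : X ⟶ S)
    [CompactSpace S] [QuasiSeparatedSpace S] [IsSeparated f] [LocallyOfFiniteType f] [QuasiCompact f]
    [Nonempty X] :
    ∃ (Xbar : Scheme.{u}) (M : ℕ) (π : Xbar ⟶ X) (i : Xbar ⟶ CohB1.ProjSpaceOver M S)
      (_ : IsImmersion i) (_ : i ≫ CohB1.ProjSpaceOver.toBase M S = π ≫ f) (_ : IsProper π)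
      (U : X.Opens), (U : Set X).Nonempty ∧ IsIso (π ∣_ U) := by
  classical
  haveI : CompactSpace X := QuasiCompact.compactSpace_of_compactSpace f
  haveI : QuasiSeparatedSpace X := quasiSeparatedSpace_of_quasiSeparated f
  choose V hV hxV _hsub using fun x : X =>
    exists_isAffineOpen_mem_and_subset (x := x) (U := ⊤) trivial
  obtain ⟨t, ht⟩ := isCompact_univ.elim_finite_subcover (fun x => (V x : Set X))
    (fun x => (V x).isOpen) (fun x _ => Set.mem_iUnion.mpr ⟨x, hxV x⟩)
  -- a point lying in a maximal family of the opens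
  let g : X → Finset ↥t := fun x => Finset.univ.filter fun u : ↥t => x ∈ V u.1
  obtain ⟨J, hJ⟩ := (Set.toFinite (Set.range g)).exists_maximal (Set.range_nonempty g)
  obtain ⟨x₀, hx₀⟩ := hJ.1
  obtain ⟨U, hUa, hx₀U, hU⟩ := exists_isAffineOpen_mem_and_subset (X := X) (x := x₀)
    (U := (J.inf fun u => V u.1)) (by
      change x₀ ∈ ((J.inf fun u => V u.1 : X.Opens) : Set X)
      rw [TopologicalSpace.Opens.coe_finset_inf, Finset.inf_set_eq_iInter, Set.mem_iInter₂]
      intro u hu
      rw [← hx₀] at hu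
      exact (Finset.mem_filter.mp hu).2)
  have hUV : ∀ u ∈ J, U ≤ V u.1 := fun u hu => hU.trans (Finset.inf_le hu : (J.inf fun u => V u.1) ≤ V u.1)
  have hUdisj : ∀ u, u ∉ J → Disjoint (U : Set X) (V u.1 : Set X) := by
    intro u hu
    rw [Set.disjoint_left]
    intro y hyU hyV
    have hsub : J ≤ g y := fun v hv => Finset.mem_filter.mpr ⟨Finset.mem_univ _, hUV v hv hyU⟩
    exact hu (hJ.2 ⟨y, rfl⟩ hsub (Finset.mem_filter.mpr ⟨Finset.mem_univ _, hyV⟩))
  haveI : CompactSpace U.toScheme := isCompact_iff_compactSpace.mp hUa.isCompact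
  haveI : QuasiCompact U.ι := quasiCompact_of_compactSpace U.ι
  let ιZ := U.ι.imageι
  haveI : CompactSpace U.ι.image := QuasiCompact.compactSpace_of_compactSpace ιZ
  haveI : QuasiSeparatedSpace U.ι.image := quasiSeparatedSpace_of_quasiSeparated ιZ
  let V' : Fin J.card → U.ι.image.Opens := fun k => ιZ ⁻¹ᵁ V (J.equivFin.symm k).1.1
  obtain ⟨N, j, hji, hjb⟩ := GrothLib.Chow.exists_immersions (ιZ ≫ f) V' (fun k => (hV _).preimage ιZ)
  let U' : U.ι.image.Opens := ιZ ⁻¹ᵁ U
  haveI hisoZ : IsIso (ιZ ∣_ U) := isIso_imageι_restrict U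
  have hrange : Set.range ιZ.base ⊆ closure (U : Set X) := by
    rintro _ ⟨z, rfl⟩
    haveI : IsSchemeTheoreticallyDominant U.ι.toImage := GrothLib.Chow.stdDominant_toImage U.ι
    refine closure_mono ?_ (map_mem_closure ιZ.continuous
      ((Scheme.Hom.denseRange U.ι.toImage).closure_range.ge (Set.mem_univ z)) (Set.mapsTo_image _ _))
    rintro _ ⟨_, ⟨w, rfl⟩, rfl⟩
    rw [← Scheme.Hom.comp_apply, U.ι.toImage_imageι]
    exact w.2
  have hcov : ⨆ k, V' k = ⊤ := by
    refine top_le_iff.mp fun z _ => ?_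
    obtain ⟨y, hy, hxy⟩ := Set.mem_iUnion₂.mp (ht (Set.mem_univ (ιZ.base z)))
    have hyJ : (⟨y, hy⟩ : ↥t) ∈ J := by
      by_contra h
      exact Set.disjoint_left.mp ((hUdisj _ h).closure_left (V y).isOpen) (hrange ⟨z, rfl⟩) hxy
    exact TopologicalSpace.Opens.mem_iSup.mpr ⟨J.equivFin ⟨_, hyJ⟩, by simpa [V'] using hxy⟩
  haveI : CompactSpace U'.toScheme := isCompact_iff_compactSpace.mp (ιZ.isCompact_preimage hUa.isCompact)
  haveI : QuasiCompact U'.ι := quasiCompact_of_compactSpace U'.ι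
  obtain ⟨M, X', π, i, hi, hib, hπ, hiso, -, -, -⟩ :=
    GrothLib.Chow.exists_modification (ιZ ≫ f) N V' hcov j hji hjb U'
      (fun k => ιZ.preimage_mono (hUV _ (J.equivFin.symm k).2))
  refine ⟨X', M, π ≫ ιZ, i, hi, by rw [hib, Category.assoc], inferInstance, U, ⟨x₀, hx₀U⟩, ?_⟩
  haveI : IsIso (π ∣_ (ιZ ⁻¹ᵁ U)) := hiso
  rw [morphismRestrict_comp]
  haveI : IsIso (ιZ ∣_ U) := hisoZ
  exact @IsIso.comp_isIso _ _ _ _ _ _ _ hiso hisoZ

/-- A variant of Chow's lemma free of Noetherian and irreducibility hypotheses: let S be a quasi-compact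
and quasi-separated scheme and f : X ⟶ S a separated morphism of finite type with X nonempty. Then
there are a scheme X̄ and a morphism π : X̄ ⟶ X such that π is projective (X̄ is, over X, the
homogeneous spectrum of a quasi-coherent graded algebra generated by its degree-one part, of finite
type in degree one), the composite π ≫ f is quasi-projective (of finite type with a relatively ample
invertible sheaf), and π induces an isomorphism from the inverse image of U onto U for some nonempty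
open subset U of X. (No density of U and no surjectivity of π are asserted.) -/
theorem result {X S : Scheme.{u}} (f : X ⟶ S)
    [CompactSpace S] [QuasiSeparatedSpace S] [IsSeparated f] [LocallyOfFiniteType f] [QuasiCompact f]
    [Nonempty X] :
    ∃ (Xbar : Scheme.{u}) (π : Xbar ⟶ X), RelProj.IsProjective π ∧ RelProj.IsQuasiProjective (π ≫ f) ∧
      ∃ U : X.Opens, (U : Set X).Nonempty ∧ IsIso (π ∣_ U) := by
  haveI : CompactSpace X := QuasiCompact.compactSpace_of_compactSpace f
  haveI : QuasiSeparatedSpace X := quasiSeparatedSpace_of_quasiSeparated f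
  obtain ⟨Xbar, M, π, i, hi, hib, hπ, U, hU, hiso⟩ := exists_modification_nonempty f
  exact ⟨Xbar, π,
    GrothLib.ProjAlg.isProjective_of_isHProjective (GrothLib.Chow.isHProjective_modification f π i hib),
    GrothLib.Ample.isQuasiProjective_of_isImmersion (π ≫ f) i hib, U, hU, hiso⟩

end Groth.Agent.S8563
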