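import Groth.Statements.S8564
import Groth.Agent.Lib.CechFree.Acyclic
-- import your own Groth.Agent.* helpers here

set_option autoImplicit false
open CategoryTheory CategoryTheory.Limits
universe u
open CohCx

namespace Groth.Agent.S8564

/-- Let (F_t) be a family of abelian sheaves on a small site, indexed by a small set, such that each F_t
is totally acyclic, i.e. H^p(K, F_t) = 0 for every sheaf of sets K and every p > 0. Then the product
sheaf of the family is totally acyclic. (The published statement is for modules over a ringed topos;
this row is the case of abelian sheaves.) -/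
theorem result {C : Type u} [SmallCategory C] (J : GrothendieckTopology C)
    {T : Type u} (F : T → Sheaf J AddCommGrpCat.{u}) (hF : ∀ t, CohCx.IsTotallyAcyclic (F t)) :
    CohCx.IsTotallyAcyclic (∏ᶜ F) := by
  refine GrothLib.CechFree.isTotallyAcyclic_of_cechVanish _ fun K' K f hf q φ hφ => ?_
  have h := fun t => GrothLib.CechFree.cechVanish_of_totallyAcyclic _ (hF t) K' K f hf q (φ ≫ Pi.π F t)
    (by rw [reassoc_of% hφ, zero_comp])
  choose χ hχ using h
  exact ⟨Pi.lift χ, Pi.hom_ext _ _ fun t => by rw [hχ t, Category.assoc, Pi.lift_π]⟩

end Groth.Agent.S8564
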