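import Groth.Statements.S8565
import Groth.Agent.Lib.CoskFin25.Basic
import Mathlib.AlgebraicTopology.SimplexCategory.Basic
-- import your own Groth.Agent.* helpers here

set_option autoImplicit false
open CategoryTheory CategoryTheory.Limits Opposite
universe v u
open Hyper

namespace Groth.Agent.S8565

open SimplexCategory in
/-- `f` and `g` agree after a non-identity structure map. -/
theorem map_comp_eq {E : Type u} [Category.{v} E] (n : ℕ) {X X' : SimplicialObject E} (f g : X ⟶ X')
    (hfg : ∀ p : ℕ, p < n → f.app (op (SimplexCategory.mk p)) = g.app (op (SimplexCategory.mk p)))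
    {a b : SimplexCategory} (ψ : b ⟶ a) (hb : b.len ≤ n) (ha : a.len ≤ n)
    (hne : ¬ ∃ e : b = a, ψ = eqToHom e) :
    X.map ψ.op ≫ f.app (op b) = X.map ψ.op ≫ g.app (op b) := by
  obtain ⟨a, rfl⟩ : ∃ p, a = SimplexCategory.mk p := ⟨a.len, (SimplexCategory.mk_len a).symm⟩
  obtain ⟨b, rfl⟩ : ∃ p, b = SimplexCategory.mk p := ⟨b.len, (SimplexCategory.mk_len b).symm⟩
  simp only [SimplexCategory.len_mk] at ha hb
  rcases lt_or_eq_of_le hb with hb | rfl
  · rw [hfg b hb]
  rcases lt_or_eq_of_le ha with ha | rfl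
  · rw [f.naturality, g.naturality, hfg a ha]
  have hsurj : ¬ Function.Surjective ψ.toOrderHom := fun hs => by
    have : Epi ψ := SimplexCategory.epi_iff_surjective.2 hs
    exact hne ⟨rfl, by rw [eqToHom_refl]; exact SimplexCategory.eq_id_of_epi ψ⟩
  rcases a with _ | p
  · exact absurd (fun y => ⟨0, Subsingleton.elim (α := Fin 1) _ _⟩) hsurj
  obtain ⟨j, θ, rfl⟩ := SimplexCategory.eq_comp_δ_of_not_surjective ψ hsurj
  rw [op_comp, Functor.map_comp, Category.assoc, Category.assoc, f.naturality, g.naturality,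
    hfg p (Nat.lt_succ_self p)]

theorem last_succAbove_le {p : ℕ} (x : Fin (p + 1)) :
    (Fin.last (p + 1)).succAbove x ≤ (Fin.last p).castSucc := by
  rw [Fin.succAbove_last]
  exact Fin.castSucc_le_castSucc_iff.2 (Fin.le_last x)

theorem zero_lt_succAbove {p : ℕ} (x : Fin (p + 1)) :
    (0 : Fin (p + 1)).castSucc < (0 : Fin (p + 2)).succAbove x := by
  rw [Fin.succAbove_zero, Fin.castSucc_zero]
  exact Fin.succ_pos x

section

variable {E : Type u} [Category.{v} E] [HasFiniteLimits E] (n : ℕ)
  [∀ (F : (SimplexCategory.Truncated n)ᵒᵖ ⥤ E), (SimplexCategory.Truncated.inclusion n).op.HasRightKanExtension F]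

/-- The counit of the coskeleton. -/
noncomputable def ε (X : SimplicialObject E) :
    (SimplexCategory.Truncated.inclusion n).op ⋙ (SimplicialObject.cosk n).obj X ⟶ (SimplicialObject.truncation n).obj X :=
  (SimplexCategory.Truncated.inclusion n).op.ranCounit.app _

/-- Projections of the coskeleton. -/
noncomputable def pr (X : SimplicialObject E) (m : SimplexCategory) (j : SimplexCategory.Truncated n)
    (θ : j.obj ⟶ m) : ((SimplicialObject.cosk n).obj X).obj (op m) ⟶ X.obj (op j.obj) :=
  ((SimplicialObject.cosk n).obj X).map θ.op ≫ (ε n X).app (op j)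

theorem map_pr (X : SimplicialObject E) {m m' : SimplexCategory} (u : m' ⟶ m)
    (j : SimplexCategory.Truncated n) (θ : j.obj ⟶ m') :
    ((SimplicialObject.cosk n).obj X).map u.op ≫ pr n X m' j θ = pr n X m j (θ ≫ u) := by
  rw [pr, pr, op_comp, Functor.map_comp, Category.assoc]

theorem pr_w (X : SimplicialObject E) (m : SimplexCategory) {j j' : SimplexCategory.Truncated n}
    (ψ : j' ⟶ j) (θ : j.obj ⟶ m) :
    pr n X m j θ ≫ X.map ψ.hom.op = pr n X m j' (ψ.hom ≫ θ) := by
  rw [← map_pr n X θ j' ψ.hom, pr, pr, Category.assoc]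
  congr 1
  exact ((ε n X).naturality ψ.op).symm

theorem app_pr {X X' : SimplicialObject E} (φ : X ⟶ X') (m : SimplexCategory)
    (j : SimplexCategory.Truncated n) (θ : j.obj ⟶ m) :
    ((SimplicialObject.cosk n).map φ).app (op m) ≫ pr n X' m j θ = pr n X m j θ ≫ φ.app (op j.obj) := by
  have h := congrArg (fun t => NatTrans.app t (op j))
    ((SimplexCategory.Truncated.inclusion n).op.ranCounit.naturality ((SimplicialObject.truncation n).map φ))
  rw [pr, pr, ← NatTrans.naturality_assoc, Category.assoc]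
  exact congrArg (_ ≫ ·) h

/-- The coskeleton is a limit. -/
theorem exists_isLimit (X : SimplicialObject E) (m : SimplexCategory) :
    Nonempty (IsLimit ((Functor.RightExtension.mk _ (ε n X)).coneAt (op m))) := by
  have := GrothLib.CoskFin25.hasPointwiseRightKanExtension n ((SimplicialObject.truncation n).obj X)
  have : ((SimplicialObject.cosk n).obj X).IsRightKanExtension (ε n X) :=
    inferInstanceAs (((SimplexCategory.Truncated.inclusion n).op.ran.obj _).IsRightKanExtension
      ((SimplexCategory.Truncated.inclusion n).op.ranCounit.app _))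
  exact ⟨Functor.isPointwiseRightKanExtensionOfIsRightKanExtension _ (ε n X) (op m)⟩

theorem pr_ext {X : SimplicialObject E} {m : SimplexCategory} {W : E}
    {a b : W ⟶ ((SimplicialObject.cosk n).obj X).obj (op m)}
    (h : ∀ j θ, a ≫ pr n X m j θ = b ≫ pr n X m j θ) : a = b :=
  (exists_isLimit n X m).some.hom_ext fun A => h A.right.unop A.hom.unop

theorem exists_lift (X : SimplicialObject E) (m : SimplexCategory) (W : E)
    (t : ∀ (j : SimplexCategory.Truncated n), (j.obj ⟶ m) → (W ⟶ X.obj (op j.obj)))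
    (ht : ∀ {j j' : SimplexCategory.Truncated n} (ψ : j' ⟶ j) (θ : j.obj ⟶ m),
      t j θ ≫ X.map ψ.hom.op = t j' (ψ.hom ≫ θ)) :
    ∃ l : W ⟶ ((SimplicialObject.cosk n).obj X).obj (op m), ∀ j θ, l ≫ pr n X m j θ = t j θ := by
  let c : Cone (StructuredArrow.proj (op m) (SimplexCategory.Truncated.inclusion n).op ⋙
      (SimplicialObject.truncation n).obj X) :=
    { pt := W
      π :=
        { app := fun A => t A.right.unop A.hom.unop
          naturality := fun A B φ => by
            have hw := congrArg Quiver.Hom.unop (StructuredArrow.w φ)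
            refine (Category.id_comp _).trans (Eq.trans ?_ (ht φ.right.unop A.hom.unop).symm)
            exact congrArg (t B.right.unop) hw.symm } }
  let hl := (exists_isLimit n X m).some
  exact ⟨hl.lift c, fun j θ => hl.fac c (StructuredArrow.mk (Y := op j) θ.op)⟩

end

/-- Let E be a category with finite limits, n a natural number and f, g : X ⟶ X' two morphisms of
simplicial objects of E whose components agree in every degree p < n. Then there is a simplicial
homotopy between the morphisms cosk_n(f) and cosk_n(g) of n-coskeleta (cosk_n = right Kan extension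
of the n-truncation; Mathlib's combinatorial simplicial homotopies). For n = 0 the hypothesis is
empty. -/
theorem result {E : Type u} [Category.{v} E] [HasFiniteLimits E] (n : ℕ)
    [∀ (F : (SimplexCategory.Truncated n)ᵒᵖ ⥤ E), (SimplexCategory.Truncated.inclusion n).op.HasRightKanExtension F]
    {X X' : SimplicialObject E} (f g : X ⟶ X')
    (hfg : ∀ p : ℕ, p < n → f.app (op (SimplexCategory.mk p)) = g.app (op (SimplexCategory.mk p))) :
    Nonempty (SimplicialObject.Homotopy ((SimplicialObject.cosk n).map f) ((SimplicialObject.cosk n).map g)) := by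
  classical
  have hex : ∀ (m : SimplexCategory) (c : Fin (m.len + 1) → Prop),
      ∃ l, ∀ (j : SimplexCategory.Truncated n) (θ : j.obj ⟶ m),
      l ≫ pr n X' m j θ =
        pr n X m j θ ≫ if ∀ x, c (θ.toOrderHom x) then g.app (op j.obj) else f.app (op j.obj) := by
    intro m c
    refine exists_lift n X' m _ _ fun {j j'} ψ θ => ?_
    rw [Category.assoc, ← pr_w n X m ψ θ, Category.assoc]
    congr 1
    by_cases hψ : ∃ e : j'.obj = j.obj, ψ.hom = eqToHom e
    · obtain ⟨e, he⟩ := hψ
      obtain rfl : j' = j := ObjectProperty.FullSubcategory.ext e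
      rw [eqToHom_refl] at he
      rw [he, Category.id_comp]
      simp
    · have key := map_comp_eq n f g hfg ψ.hom j'.property j.property hψ
      split_ifs <;> simp only [← NatTrans.naturality, key]
  choose H hH using hex
  have nat : ∀ {m m' : SimplexCategory} (u : m' ⟶ m) (c : Fin (m.len + 1) → Prop),
      ((SimplicialObject.cosk n).obj X).map u.op ≫ H m' (fun x => c (u.toOrderHom x)) =
        H m c ≫ ((SimplicialObject.cosk n).obj X').map u.op := fun u c => pr_ext n fun j θ => by
    rw [Category.assoc, Category.assoc, hH, map_pr, hH, ← Category.assoc, map_pr]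
    rfl
  have h1 : ∀ (m : SimplexCategory) (c : Fin (m.len + 1) → Prop), (∀ x, c x) →
      H m c = ((SimplicialObject.cosk n).map g).app (op m) := fun m c hc => pr_ext n fun j θ => by
    rw [hH, app_pr, if_pos fun x => hc _]
  have h0 : ∀ (m : SimplexCategory) (c : Fin (m.len + 1) → Prop), (∀ x, ¬ c x) →
      H m c = ((SimplicialObject.cosk n).map f).app (op m) := fun m c hc => pr_ext n fun j θ => by
    rw [hH, app_pr, if_neg fun h => hc _ (h 0)]
  let C := (SimplicialObject.cosk n).obj X
  let C' := (SimplicialObject.cosk n).obj X'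
  let h : ∀ {p : ℕ} (i : Fin (p + 1)), C.obj (op (SimplexCategory.mk p)) ⟶ C'.obj (op (SimplexCategory.mk (p + 1))) :=
    fun {p} i => C.σ i ≫ H (SimplexCategory.mk (p + 1)) (fun x => i.castSucc < x)
  have hd : ∀ {p : ℕ} (i : Fin (p + 1)) (j : Fin (p + 2)), h i ≫ C'.δ j =
      (C.σ i ≫ C.δ j) ≫ H (SimplexCategory.mk p) (fun x => i.castSucc < j.succAbove x) := fun i j => by
    have hn := nat (SimplexCategory.δ j) (fun x => i.castSucc < x)
    simp only [h, Category.assoc]
    exact congrArg (C.σ i ≫ ·) hn.symm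
  have hs : ∀ {p : ℕ} (i : Fin (p + 1)) (j : Fin (p + 2)), h i ≫ C'.σ j =
      (C.σ i ≫ C.σ j) ≫ H (SimplexCategory.mk (p + 2)) (fun x => i.castSucc < j.predAbove x) := fun i j => by
    have hn := nat (SimplexCategory.σ j) (fun x => i.castSucc < x)
    simp only [h, Category.assoc]
    exact congrArg (C.σ i ≫ ·) hn.symm
  have hc : ∀ {m : SimplexCategory} {c c' : Fin (m.len + 1) → Prop}, (∀ x, c x ↔ c' x) → H m c = H m c' :=
    fun hcc => by rw [funext fun x => propext (hcc x)]
  refine ⟨{
    h := h
    h_zero_comp_δ_zero := fun p => ?_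
    h_last_comp_δ_last := fun p => ?_
    h_succ_comp_δ_castSucc_of_lt := fun {p} i j hij => ?_
    h_succ_comp_δ_castSucc_succ := fun {p} j => ?_
    h_castSucc_comp_δ_succ_of_lt := fun {p} i j hji => ?_
    h_comp_σ_castSucc_of_le := fun {p} i j hij => ?_
    h_comp_σ_succ_of_lt := fun {p} i j hji => ?_ }⟩
  · rw [hd, h1 _ _ fun x => zero_lt_succAbove x]
    exact (congrArg (· ≫ _) (C.δ_comp_σ_self' (by simp))).trans (Category.id_comp _)
  · rw [hd, h0 _ _ fun x => not_lt.2 (last_succAbove_le x)]
    exact (congrArg (· ≫ _) (C.δ_comp_σ_succ' (Fin.succ_last p).symm)).trans (Category.id_comp _)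
  · rw [hd, C.δ_comp_σ_of_le hij]
    change (C.δ i ≫ C.σ j) ≫ _ = C.δ i ≫ C.σ j ≫ _
    rw [Category.assoc]
    refine congrArg (C.δ i ≫ C.σ j ≫ ·) (hc fun x => ?_)
    simp only [Fin.succAbove, Fin.lt_def, Fin.le_def, Fin.val_castSucc, Fin.val_succ] at *
    split_ifs <;> simp <;> omega
  · rw [hd, hd, C.δ_comp_σ_succ' rfl, C.δ_comp_σ_self' (Fin.succ_castSucc j)]
    refine congrArg (𝟙 _ ≫ ·) (hc fun x => ?_)
    simp only [Fin.succAbove, Fin.lt_def, Fin.val_castSucc, Fin.val_succ] at *
    split_ifs <;> simp <;> omega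
  · rw [hd, C.δ_comp_σ_of_gt hji]
    change (C.δ i ≫ C.σ j) ≫ _ = C.δ i ≫ C.σ j ≫ _
    rw [Category.assoc]
    refine congrArg (C.δ i ≫ C.σ j ≫ ·) (hc fun x => ?_)
    simp only [Fin.succAbove, Fin.lt_def, Fin.val_castSucc, Fin.val_succ] at *
    split_ifs <;> simp <;> omega
  · rw [hs, C.σ_comp_σ hij]
    change (C.σ i ≫ C.σ j.succ) ≫ _ = C.σ i ≫ C.σ j.succ ≫ _
    rw [Category.assoc]
    refine congrArg (C.σ i ≫ C.σ j.succ ≫ ·) (hc fun x => ?_)
    simp only [Fin.predAbove, Fin.lt_def, Fin.le_def, Fin.val_castSucc, Fin.val_succ] at *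
    split_ifs <;> simp <;> omega
  · rw [hs, ← C.σ_comp_σ hji]
    change (C.σ i ≫ C.σ j.castSucc) ≫ _ = C.σ i ≫ C.σ j.castSucc ≫ _
    rw [Category.assoc]
    refine congrArg (C.σ i ≫ C.σ j.castSucc ≫ ·) (hc fun x => ?_)
    simp only [Fin.predAbove, Fin.lt_def, Fin.le_def, Fin.val_castSucc, Fin.val_succ] at *
    split_ifs <;> simp <;> omega

end Groth.Agent.S8565
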