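import Groth.Statements.S8566
import Groth.Agent.Lib.TotalRows19.Basic

set_option autoImplicit false
open CategoryTheory CategoryTheory.Limits
universe v u
open CohDer

namespace Groth.Agent.S8566

/-- Let A be an abelian category, K and L double complexes in A with integer bidegrees whose terms
vanish in every bidegree (p, q) with p < a or q < b, and φ : K ⟶ L a morphism which is a
quasi-isomorphism when K and L are viewed as complexes (first index) with values in the abelian
category of complexes (second index). Then the morphism of total complexes induced by φ is a
quasi-isomorphism; in words, the simple (total) complex functor preserves quasi-isomorphisms. (The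
published statement is for bounded below complexes of bounded below complexes; this row takes the
two bounds uniform, so that every term of the total complex is a finite sum.) -/
theorem result {A : Type u} [Category.{v} A] [Abelian A]
    (K L : HomologicalComplex₂ A (ComplexShape.up ℤ) (ComplexShape.up ℤ)) (φ : K ⟶ L) (a b : ℤ)
    (hK : ∀ p q : ℤ, p < a ∨ q < b → IsZero ((K.X p).X q))
    (hL : ∀ p q : ℤ, p < a ∨ q < b → IsZero ((L.X p).X q))
    [K.HasTotal (ComplexShape.up ℤ)] [L.HasTotal (ComplexShape.up ℤ)] [QuasiIso φ] :
    QuasiIso (HomologicalComplex₂.total.map φ (ComplexShape.up ℤ)) := by
  exact GrothLib.TotalRows19.quasiIso_total_map φ a b hK hL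

end Groth.Agent.S8566
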