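import Groth.Statements.S8567
import Groth.Agent.Lib.PBC25.Flasque
-- import your own Groth.Agent.* helpers here

set_option autoImplicit false
open CategoryTheory TopologicalSpace Opposite
universe u
open CohTop

namespace Groth.Agent.S8567

/-- Let X be a topological space, K ⊆ X a compact subset such that any two distinct points of K have
disjoint neighbourhoods in X, and F a flasque abelian sheaf on X. Then the inverse image F|K of F on
the subspace K is a soft sheaf: for every closed subset A of K, every section of (F|K)|A over A is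
the restriction of a section of F|K over K (the restriction map is the unit of the inverse image /
direct image adjunction for the inclusion A → K, taken on global sections). -/
theorem result {X : TopCat.{u}} {K : Set X} (hK : IsCompact K)
    (hsep : ∀ x ∈ K, ∀ y ∈ K, x ≠ y → ∃ U V : Set X, IsOpen U ∧ IsOpen V ∧ x ∈ U ∧ y ∈ V ∧ Disjoint U V)
    (F : CohTop.Ab X) [TopCat.Sheaf.IsFlasque F] {A : Set K} (hA : IsClosed A) :
    Function.Surjective
      ((((TopCat.Sheaf.pullbackPushforwardAdjunction AddCommGrpCat.{u}
        (TopCat.ofHom ⟨((↑) : A → K), continuous_subtype_val⟩ : TopCat.of A ⟶ TopCat.of K)).unit.app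
        ((CohTop.pull (TopCat.ofHom ⟨((↑) : K → X), continuous_subtype_val⟩ : TopCat.of K ⟶ X)).obj F)).hom.app
        (op ⊤)).hom) := by
  let i : TopCat.of K ⟶ X := TopCat.ofHom ⟨((↑) : K → X), continuous_subtype_val⟩
  let j : TopCat.of A ⟶ TopCat.of K := TopCat.ofHom ⟨((↑) : A → K), continuous_subtype_val⟩
  have hi : GrothLib.PBC25.Separates i := fun x y hxy => by
    obtain ⟨U, V, hU, hV, hxU, hyV, hd⟩ := hsep x x.2 y y.2 (fun e => hxy (Subtype.ext e))
    exact ⟨⟨U, hU⟩, ⟨V, hV⟩, hxU, hyV, hd⟩
  have : CompactSpace (TopCat.of K) := isCompact_iff_compactSpace.1 hK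
  have := hi.t2 i
  have : CompactSpace (TopCat.of A) := isCompact_iff_compactSpace.1 hA.isCompact
  have hj : GrothLib.PBC25.Separates j := fun x y hxy => by
    obtain ⟨U, V, hU, hV, hxU, hyV, hd⟩ := t2_separation (fun e => hxy (Subtype.ext e) : (j x) ≠ j y)
    exact ⟨⟨U, hU⟩, ⟨V, hV⟩, hxU, hyV, hd⟩
  intro t
  obtain ⟨t₀, ht⟩ := GrothLib.PBC25.global_of_near j ((CohTop.pull i).obj F) hj
    (GrothLib.PBC25.isSoft_pull_of_flasque i F hi) (by
      rw [show Set.range j = A from Subtype.range_coe]
      exact hA) t
  refine ⟨t₀, Eq.trans ?_ ht⟩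
  exact (GrothLib.PBC25.res_self ((CohTop.pull j).obj ((CohTop.pull i).obj F)) le_rfl _).symm

end Groth.Agent.S8567
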