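import Groth.Statements.S8569
import Groth.Agent.Lib.Topos.LexReflective
import Mathlib.CategoryTheory.Functor.Currying
import Mathlib.CategoryTheory.Adjunction.Whiskering
import Mathlib.CategoryTheory.Products.Basic
import Mathlib.CategoryTheory.Limits.Preserves.FunctorCategory

set_option autoImplicit false
open CategoryTheory CategoryTheory.Limits Opposite
universe v u
open SGA4

namespace Groth.Agent.S8569

/-- Let E be a topos (a category equivalent to the category of sheaves of sets on a small site, for the
universe u) and D a u-small category. Then the category of functors D ⥤ E, which is the category of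
sections of the constant D-topos with value E, is a topos. (The published statement is for an
arbitrary D-topos, i.e. a category bifibred in topoi over D; this row is the case of a constant
one.) -/
theorem result {E : Type v} [Category.{u} E] (hE : SGA4.IsTopos E)
    (D : Type u) [SmallCategory D] : SGA4.IsTopos (D ⥤ E) := by
  obtain ⟨C, _, J, ⟨e⟩⟩ := hE
  let e₁ : (Cᵒᵖ × D ⥤ Type u) ≌ ((C × Dᵒᵖ)ᵒᵖ ⥤ Type u) :=
    (((prodOpEquiv C).trans (CategoryTheory.Equivalence.prod CategoryTheory.Equivalence.refl (opOpEquivalence D))).symm).congrLeft
  let e₂ : (D ⥤ Cᵒᵖ ⥤ Type u) ≌ ((C × Dᵒᵖ)ᵒᵖ ⥤ Type u) := (Functor.flipping.trans Functor.currying).trans e₁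
  let adj := e₂.symm.toAdjunction.comp ((sheafificationAdjunction J (Type u)).whiskerRight D)
  have : PreservesFiniteLimits e₂.symm.functor := inferInstance
  have : PreservesFiniteLimits ((Functor.whiskeringRight D _ _).obj (presheafToSheaf J (Type u))) :=
    ⟨fun K _ _ => inferInstance⟩
  have : PreservesFiniteLimits (e₂.symm.functor ⋙ (Functor.whiskeringRight D _ _).obj (presheafToSheaf J (Type u))) :=
    comp_preservesFiniteLimits _ _
  obtain ⟨C', _, J', ⟨e'⟩⟩ := GrothLib.Topos.LexReflective.isTopos adj
  exact ⟨C', _, J', ⟨(Equivalence.congrRight e).trans e'⟩⟩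

end Groth.Agent.S8569
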