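import Groth.Statements.S8579
import Groth.Agent.Lib.PullH25.Nerve
import Groth.Agent.Lib.GrothSS.Degenerate
import Groth.Agent.Lib.PullH25.Const
-- import your own Groth.Agent.* helpers here

set_option autoImplicit false
open CategoryTheory CategoryTheory.Limits TopologicalSpace
universe u
open CohTop

namespace Groth.Agent.S8579
open GrothLib


/-- In the setting of topological spaces and abelian sheaves (where every continuous map is flat for the
inverse image of sheaves), let f : X → S be a continuous map with a continuous section s, f ∘ s =
id, and F an abelian sheaf on S. Then f is of universal cohomological descent, and the descent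
spectral sequence reads, in existence form: there is a bounded spectral sequence of abelian groups
starting at page one with E_1^{p,q} isomorphic, for p, q ≥ 0, to H^q(X_p, F|X_p), where X_p is the
(p+1)-fold fibre product of X over S and F|X_p the inverse image of F along its projection to S, and
zero otherwise, together with abutment data whose filtrations are finite on H^n(S, F) for n ≥ 0
(zero for n < 0). (The E_1 identifications and the abutment isomorphisms are asserted to exist only;
the differentials are not part of this statement.) -/
theorem result {X S : TopCat.{u}} (f : X ⟶ S) (s : S ⟶ X)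
    (hs : s ≫ f = 𝟙 S) (F : CohTop.Ab S) :
    ∃ (E : CohomologicalSpectralSequence AddCommGrpCat.{u} 1)
      (a : SpSeq.Abutment E (fun n : ℤ =>
        if 0 ≤ n then AddCommGrpCat.of (CohTop.H F n.toNat) else AddCommGrpCat.of PUnit.{u + 1})),
      (∀ n, a.IsFinite n) ∧ SpSeq.IsBounded E ∧
      ∀ p q : ℤ, Nonempty ((E.page 1 le_rfl).X (p, q) ≅
        (if 0 ≤ p ∧ 0 ≤ q then
          AddCommGrpCat.of (CohTop.H ((CohTop.pull
            (WidePullback.base (fun _ : Fin (p.toNat + 1) => f) :
              widePullback S (fun _ : Fin (p.toNat + 1) => X) (fun _ => f) ⟶ S)).obj F) q.toNat)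
         else AddCommGrpCat.of PUnit.{u + 1})) := by
  have : ∀ Y : TopCat.{u}, HasExt.{u} (CohTop.Ab Y) := fun Y => inferInstance
  let Z := AddCommGrpCat.of (ULift.{u} ℤ)
  let G := fun q => PullH25.pullExtFun (CohTop.const S (ULift.{u} ℤ)) F q
  obtain ⟨E, a, h1, h2, h3⟩ := GrothSS.exists_of_natRows (fun q => PullH25.cochainG f (G q))
    (fun q => AddCommGrpCat.of (CohTop.H F q)) (AddCommGrpCat.of PUnit.{u + 1})
    (AddCommGrpCat.isZero_of_subsingleton _) (fun p q => PullH25.isZero_homology_succ f (G q) s hs p)
    (fun q => ⟨PullH25.homologyZeroG f (G q) s hs ≪≫ ((PullH25.nonempty_pullExt_H (𝟙 S) F q).some.trans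
      (PullH25.nonempty_H_pull_id F q).some).toAddCommGrpIso⟩)
    (fun p q => AddCommGrpCat.of (CohTop.H ((CohTop.pull
      (WidePullback.base (fun _ : Fin (p + 1) => f) :
        widePullback S (fun _ : Fin (p + 1) => X) (fun _ => f) ⟶ S)).obj F) q))
    (fun p q => ⟨eqToIso (PullH25.cochainG_X f (G q) p) ≪≫ (PullH25.nonempty_pullExt_H _ F q).some.toAddCommGrpIso⟩)
  exact ⟨E, a, h1, h2, h3⟩

end Groth.Agent.S8579
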