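import Groth.Statements.S8580
import Groth.Agent.Lib.EtDesc19.Nerve
import Groth.Agent.Lib.EtDesc19.BigH
import Groth.Agent.Lib.GrothSS.Degenerate
import Groth.Agent.S6687
-- import your own Groth.Agent.* helpers here

set_option autoImplicit false
open CategoryTheory CategoryTheory.Limits AlgebraicGeometry
universe u
open EtDesc

namespace Groth.Agent.S8580

open GrothLib in
/-- Base change along the identity. -/
noncomputable def bcIdIso (Y : Scheme.{u}) : EtCoh.bc (𝟙 Y) ≅ 𝟭 _ :=
  NatIso.ofComponents
    (fun U => MorphismProperty.Over.isoMk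
      ({ hom := pullback.fst U.hom (𝟙 Y)
         inv := pullback.lift (𝟙 U.left) U.hom (by simp)
         hom_inv_id := pullback.hom_ext
           (by rw [Category.assoc, pullback.lift_fst]; exact (Category.comp_id _).trans (Category.id_comp _).symm)
           (by rw [Category.assoc, pullback.lift_snd]
               exact (pullback.condition.trans (Category.comp_id _)).trans (Category.id_comp _).symm)
         inv_hom_id := pullback.lift_fst _ _ _ } : pullback U.hom (𝟙 Y) ≅ U.left)
      (pullback.condition.trans (Category.comp_id _)))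
    (fun g => MorphismProperty.Over.Hom.ext (by
      exact pullback.lift_fst _ _ _))

/-- Cohomology of the pullback along the identity. -/
noncomputable def pullIdIso (Y : Scheme.{u}) : EtCoh.pull (𝟙 Y) ≅ 𝟭 _ :=
  Adjunction.leftAdjointUniq
    ((EtCoh.pullPushAdj (𝟙 Y)).ofNatIsoRight
      (Functor.sheafPushforwardContinuousId' (bcIdIso Y) AddCommGrpCat.{u + 1} Y.smallEtaleTopology))
    Adjunction.id

/-- In the setting of schemes and abelian sheaves on their small etale sites (where every morphism is
flat for the inverse image of sheaves), let f : X → Y be a morphism of schemes with a section s, s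
followed by f being the identity, and F any abelian sheaf on the small etale site of Y. Then f is of
universal cohomological descent, and the descent spectral sequence reads, in existence form: there
is a bounded spectral sequence of abelian groups starting at page one with E_1^{p,q} isomorphic, for
p, q ≥ 0, to the etale cohomology group H^q(X_p, F|X_p), where X_p is the (p+1)-fold fibre product
of X over Y and F|X_p the inverse image of F along its projection to Y, and zero otherwise, together
with abutment data whose filtrations are finite on H^n(Y_et, F) for n ≥ 0 (zero for n < 0). (The E_1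
identifications and the abutment isomorphisms are asserted to exist only; the differentials are not
part of this statement.) -/
theorem result {X Y : Scheme.{u}} (f : X ⟶ Y) (s : Y ⟶ X)
    (hs : s ≫ f = 𝟙 Y) (F : EtCoh.Ab Y) :
    ∃ (E : CohomologicalSpectralSequence AddCommGrpCat.{u + 1} 1)
      (a : SpSeq.Abutment E (fun n : ℤ =>
        if 0 ≤ n then AddCommGrpCat.of (EtCoh.H Y F n.toNat) else AddCommGrpCat.of PUnit.{u + 2})),
      (∀ n, a.IsFinite n) ∧ SpSeq.IsBounded E ∧
      ∀ p q : ℤ, Nonempty ((E.page 1 le_rfl).X (p, q) ≅
        (if 0 ≤ p ∧ 0 ≤ q then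
          AddCommGrpCat.of (EtCoh.H (widePullback Y (fun _ : Fin (p.toNat + 1) => X) (fun _ => f))
            ((EtCoh.pull (WidePullback.base (fun _ : Fin (p.toNat + 1) => f) :
              widePullback Y (fun _ : Fin (p.toNat + 1) => X) (fun _ => f) ⟶ Y)).obj F) q.toNat)
         else AddCommGrpCat.of PUnit.{u + 2})) := by
  let P := (BigSite.piEtPull Scheme.etalePrecoverage Y).obj F
  let G := fun q => GrothLib.EtDesc19.cohPsh Scheme.etalePrecoverage P q
  have hG : ∀ (q : ℕ) (T : Scheme.{u}) (t : T ⟶ Y),
      Nonempty ((G q).obj (Opposite.op (Over.mk t)) ≅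
        AddCommGrpCat.of (EtCoh.H T ((EtCoh.pull t).obj F) q)) := fun q T t =>
    ⟨((GrothLib.EtDesc19.nonempty_cohPsh_equiv Scheme.etalePrecoverage P q (Over.mk t)).some.trans
      (Groth.Agent.S6687.result t q F).some).toAddCommGrpIso⟩
  obtain ⟨E, a, h1, h2, h3⟩ := GrothLib.GrothSS.exists_of_natRows
    (fun q => GrothLib.EtDesc19.cochainG f (G q))
    (fun q => AddCommGrpCat.of (EtCoh.H Y F q)) (AddCommGrpCat.of PUnit.{u + 2})
    (AddCommGrpCat.isZero_of_subsingleton _)
    (fun p q => GrothLib.EtDesc19.isZero_homology_succ f (G q) s hs p)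
    (fun q => ⟨GrothLib.EtDesc19.homologyZeroG f (G q) s hs ≪≫ (hG q Y (𝟙 Y)).some ≪≫
      (EtCoh.HF Y q).mapIso ((pullIdIso Y).app F)⟩)
    (fun p q => AddCommGrpCat.of (EtCoh.H (widePullback Y (fun _ : Fin (p + 1) => X) (fun _ => f))
      ((EtCoh.pull (WidePullback.base (fun _ : Fin (p + 1) => f) :
        widePullback Y (fun _ : Fin (p + 1) => X) (fun _ => f) ⟶ Y)).obj F) q))
    (fun p q => ⟨eqToIso (GrothLib.EtDesc19.cochainG_X f (G q) p) ≪≫ (hG q _ _).some⟩)
  exact ⟨E, a, h1, h2, h3⟩

end Groth.Agent.S8580
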