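import Groth.Statements.S8586
import Groth.Agent.Lib.SopChain.Basic
-- import your own Groth.Agent.* helpers here

set_option autoImplicit false
universe u
open CAlg

namespace Groth.Agent.S8586

/-- Suppose A is a Cohen–Macaulay local ring whose Krull dimension is d, and consider two systems of
parameters u = (u_1, ..., u_d) and v = (v_1, ..., v_d) of A (that is, d-tuples of elements of the
maximal ideal m such that the ideal they generate has radical m). Then one can find a finite
sequence w_0 = u, w_1, ..., w_m = v, each term a system of parameters of A, where w_{k+1} arises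
from w_k by altering just one coordinate. -/
theorem result (A : Type u) [CommRing A] [LocCoh.IsCohenMacaulayLocalRing A]
    (d : ℕ) (hd : ringKrullDim A = d) (u v : Fin d → A)
    (hu : ∀ i, u i ∈ IsLocalRing.maximalIdeal A) (hu' : IsLocalRing.maximalIdeal A ≤ (Ideal.span (Set.range u)).radical)
    (hv : ∀ i, v i ∈ IsLocalRing.maximalIdeal A) (hv' : IsLocalRing.maximalIdeal A ≤ (Ideal.span (Set.range v)).radical) :
    ∃ (m : ℕ) (w : Fin (m + 1) → Fin d → A), w 0 = u ∧ w (Fin.last m) = v ∧
      (∀ k : Fin (m + 1), (∀ i, w k i ∈ IsLocalRing.maximalIdeal A) ∧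
        IsLocalRing.maximalIdeal A ≤ (Ideal.span (Set.range (w k))).radical) ∧
      (∀ k : Fin m, ∃ i : Fin d, ∀ i' : Fin d, i' ≠ i → w k.castSucc i' = w k.succ i') := by
  have hgood : ∀ w : Fin d → A, (∀ i, w i ∈ IsLocalRing.maximalIdeal A) →
      IsLocalRing.maximalIdeal A ≤ (Ideal.span (Set.range w)).radical →
      GrothLib.SopChain.Good (⊥ : Ideal A) w := fun w h h' => ⟨h, by rwa [bot_sup_eq]⟩
  obtain ⟨m, w, h0, hl, hg, hs⟩ := GrothLib.SopChain.exists_seq (hgood u hu hu')
    (GrothLib.SopChain.reflTransGen_step d ⊥ u v (hgood u hu hu') (hgood v hv hv'))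
  exact ⟨m, w, h0, hl, fun k => ⟨(hg k).1, by simpa using (hg k).2⟩, hs⟩

end Groth.Agent.S8586
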