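import Groth.Statements.S8591
import Mathlib
-- import your own Groth.Agent.* helpers here

set_option autoImplicit false
universe u
open CAlg

namespace Groth.Agent.S8591

section
open Polynomial

variable {k : Type u} [CommRing k]

lemma det_sub_scalar {ι : Type*} [Fintype ι] [DecidableEq ι] (A : Matrix ι ι k) (a : k) :
    (Polynomial.aeval A (X - C a)).det = (-1) ^ Fintype.card ι * A.charpoly.eval a := by
  rw [Matrix.eval_charpoly, ← Matrix.det_neg, map_sub, aeval_X, aeval_C, neg_sub]
  rfl

lemma det_aeval_eq_of_splits {ι κ : Type*} [Fintype ι] [DecidableEq ι] [Fintype κ] [DecidableEq κ]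
    (A : Matrix ι ι k) (B : Matrix κ κ k) (hc : Fintype.card ι = Fintype.card κ)
    (h : A.charpoly = B.charpoly) {P : k[X]} (hP : P.Monic) (hs : P.Splits) :
    (Polynomial.aeval A P).det = (Polynomial.aeval B P).det := by
  obtain ⟨m, hm⟩ := Polynomial.splits_iff_exists_multiset.1 hs
  rw [hP.leadingCoeff, map_one, one_mul] at hm
  subst hm
  clear hP hs
  induction m using Multiset.induction with
  | empty => simp
  | cons a m ih =>
    simp only [Multiset.map_cons, Multiset.prod_cons, map_mul, Matrix.det_mul]
    rw [det_sub_scalar, det_sub_scalar, ih, hc, h]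

lemma det_aeval_eq {ι κ : Type*} [Fintype ι] [DecidableEq ι] [Fintype κ] [DecidableEq κ]
    [Nontrivial k]
    (A : Matrix ι ι k) (B : Matrix κ κ k) (hc : Fintype.card ι = Fintype.card κ)
    (h : A.charpoly = B.charpoly) {P : k[X]} (hP : P.Monic) :
    (Polynomial.aeval A P).det = (Polynomial.aeval B P).det := by
  obtain ⟨S, _, _, _, _, _, hS⟩ := hP.exists_splits_map
  apply FaithfulSMul.algebraMap_injective k S
  have key := det_aeval_eq_of_splits (A.map (algebraMap k S)) (B.map (algebraMap k S)) hc
    (by rw [Matrix.charpoly_map, Matrix.charpoly_map, h]) (hP.map (algebraMap k S)) hS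
  rw [aeval_map_algebraMap, aeval_map_algebraMap] at key
  rw [RingHom.map_det, RingHom.map_det]
  have eA : aeval (A.map (algebraMap k S)) P = (algebraMap k S).mapMatrix (aeval A P) :=
    aeval_algHom_apply (Algebra.ofId k S).mapMatrix A P
  have eB : aeval (B.map (algebraMap k S)) P = (algebraMap k S).mapMatrix (aeval B P) :=
    aeval_algHom_apply (Algebra.ofId k S).mapMatrix B P
  rw [← eA, ← eB]
  exact key

end

/-- Let k be a commutative ring, M a finite free k-module, u an endomorphism of M with characteristic
polynomial χ, and P a polynomial over k. Then the norm, from the k-algebra k[T]/(χ) (free of rank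
the rank of M) down to k, of the class of P(T) equals det(P(u)). (The published statement writes the
quotient by det(u - T), which generates the same ideal as χ(T) = det(T - u).) -/
theorem result (k : Type u) [CommRing k] (M : Type u) [AddCommGroup M] [Module k M]
    [Module.Free k M] [Module.Finite k M] (u : M →ₗ[k] M) (P : Polynomial k) :
    Algebra.norm k (AdjoinRoot.mk u.charpoly P) = LinearMap.det (Polynomial.aeval u P) := by
  classical
  cases subsingleton_or_nontrivial k
  · exact Subsingleton.elim _ _
  set χ := u.charpoly with hχ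
  have hm : χ.Monic := LinearMap.charpoly_monic u
  -- replace `P` by a monic polynomial congruent to it
  set Q := P + χ * Polynomial.X ^ (P.natDegree + 1) with hQdef
  have hQ : Q.Monic := by
    refine (hm.mul (Polynomial.monic_X_pow _)).add_of_right ?_
    refine lt_of_le_of_lt Polynomial.degree_le_natDegree ?_
    rw [Polynomial.degree_eq_natDegree (hm.mul (Polynomial.monic_X_pow _)).ne_zero,
      hm.natDegree_mul (Polynomial.monic_X_pow _), Polynomial.natDegree_X_pow]
    exact_mod_cast (by omega : P.natDegree < χ.natDegree + (P.natDegree + 1))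
  have h1 : AdjoinRoot.mk χ P = AdjoinRoot.mk χ Q := by simp [Q]
  have h2 : Polynomial.aeval u P = Polynomial.aeval u Q := by
    simp [Q, χ, LinearMap.aeval_self_charpoly]
  rw [h1, h2]
  let b := Module.Free.chooseBasis k M
  let pb := AdjoinRoot.powerBasis' hm
  let A := LinearMap.toMatrixAlgEquiv b u
  let B := Algebra.leftMulMatrix pb.basis pb.gen
  have hA : A.charpoly = χ := by
    rw [hχ, ← LinearMap.charpoly_toMatrix u b]
    rfl
  have hdim : pb.dim = χ.natDegree := rfl
  have hB : B.charpoly = χ := by
    refine Polynomial.eq_of_monic_of_dvd_of_natDegree_le hm B.charpoly_monic ?_ ?_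
    · rw [← AdjoinRoot.mk_eq_zero, ← AdjoinRoot.aeval_eq]
      apply Algebra.leftMulMatrix_injective pb.basis
      rw [← Polynomial.aeval_algHom_apply, map_zero]
      exact Matrix.aeval_self_charpoly B
    · rw [Matrix.charpoly_natDegree_eq_dim, Fintype.card_fin, hdim]
  have hc : Fintype.card (Fin pb.dim) = Fintype.card (Module.Free.ChooseBasisIndex k M) := by
    rw [Fintype.card_fin, hdim, ← hA, Matrix.charpoly_natDegree_eq_dim]
  rw [Algebra.norm_eq_matrix_det pb.basis, ← AdjoinRoot.aeval_eq, ← LinearMap.det_toMatrix b]
  change (Algebra.leftMulMatrix pb.basis (Polynomial.aeval pb.gen Q)).det =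
    (LinearMap.toMatrixAlgEquiv b (Polynomial.aeval u Q)).det
  rw [← Polynomial.aeval_algHom_apply, ← Polynomial.aeval_algHom_apply]
  exact det_aeval_eq B A hc (hB.trans hA.symm) hQ

end Groth.Agent.S8591
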