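import Groth.Statements.S8596
import Groth.Agent.Lib.FlatFP.TorShift
import Groth.Agent.Lib.FibreExact19.Basic
-- import your own Groth.Agent.* helpers here

set_option autoImplicit false
universe u
open CategoryTheory CategoryTheory.Limits
open CAlg

namespace Groth.Agent.S8596

/-- Case of a complex reduced to a single module in degree 0: let A be a commutative Noetherian ring, M
an A-module (not necessarily finitely generated) and n ≥ 0. Then M has tor-dimension at most n —
Tor_i^A(N, M) = 0 for every A-module N and every i > n, the Tor being the left derived functors of N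
⊗ - evaluated at M — if and only if Tor_i^A(k(x), M) = 0 for every prime ideal x of A, with residue
field k(x), and every i > n. (The published statement gives the equivalence for bounded-above
complexes K and the derived tensor product K ⊗^L k(x); this is the case K = M[0].) -/
theorem result (A : Type u) [CommRing A] [IsNoetherianRing A]
    (M : ModuleCat.{u} A) (n : ℕ) :
    (∀ (N : ModuleCat.{u} A) (i : ℕ), n < i → IsZero (((Tor (ModuleCat.{u} A) i).obj N).obj M)) ↔
    (∀ (x : Ideal A) [x.IsPrime] (i : ℕ), n < i →
      IsZero (((Tor (ModuleCat.{u} A) i).obj (ModuleCat.of A x.ResidueField)).obj M)) := by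
  let P := projectiveResolution M
  let Q : ℕ → Type u := fun j => P.complex.X (n + j)
  let d : ∀ j, Q (j + 1) →ₗ[A] Q j := fun j => (P.complex.d (n + j + 1) (n + j)).hom
  haveI hflat : ∀ j, Module.Flat A (Q j) := fun j =>
    haveI : Module.Projective A (P.complex.X (n + j)) :=
      (IsProjective.iff_projective _).2 (P.projective (n + j))
    (inferInstance : Module.Flat A (P.complex.X (n + j)))
  have hdd : ∀ j, d j ∘ₗ d (j + 1) = 0 := fun j =>
    congrArg ModuleCat.Hom.hom (P.complex.d_comp_d (n + j + 1 + 1) (n + j + 1) (n + j))
  have hiff : ∀ (N : ModuleCat.{u} A) (j : ℕ),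
      IsZero (((Tor (ModuleCat.{u} A) (n + j + 1)).obj N).obj M) ↔
        Function.Exact ((d (j + 1)).lTensor N) ((d j).lTensor N) := by
    intro N j
    rw [GrothLib.FlatFP.isZero_tor_iff, ← HomologicalComplex.exactAt_iff_isZero_homology,
      HomologicalComplex.exactAt_iff' _ (n + j + 1 + 1) (n + j + 1) (n + j) (by simp) (by simp),
      ShortComplex.ShortExact.moduleCat_exact_iff_function_exact]
    rfl
  constructor
  · intro h x _ i hi
    exact h _ i hi
  · intro h N i hi
    obtain ⟨j, rfl⟩ : ∃ j, i = n + j + 1 := ⟨i - n - 1, by omega⟩
    refine (hiff N j).2 (GrothLib.FibreExact19.exAt_of_residueField hdd ?_ N j)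
    intro x _ j'
    exact (hiff (ModuleCat.of A x.ResidueField) j').1 (h x (n + j' + 1) (by omega))

end Groth.Agent.S8596
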