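import Groth.Statements.S8597
import Groth.Agent.Lib.FibreExact19.Cone
-- import your own Groth.Agent.* helpers here

set_option autoImplicit false
universe u
open CategoryTheory CategoryTheory.Limits
open CAlg

namespace Groth.Agent.S8597

/-- Case of modules placed in degree 0: let A be a commutative Noetherian ring and u : M -> N a
homomorphism of A-modules such that for every prime ideal x of A, with residue field k(x), and every
i ≥ 0, the induced map Tor_i^A(k(x), M) -> Tor_i^A(k(x), N) (left derived functors of k(x) ⊗ -) is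
an isomorphism. Then u is an isomorphism. (The published statement is for a morphism of
bounded-above complexes and the derived tensor products with k(x); this is the case of two modules.) -/
theorem result (A : Type u) [CommRing A] [IsNoetherianRing A]
    {M N : ModuleCat.{u} A} (u : M ⟶ N)
    (h : ∀ (x : Ideal A) [x.IsPrime] (i : ℕ),
      IsIso (((Tor (ModuleCat.{u} A) i).obj (ModuleCat.of A x.ResidueField)).map u)) :
    IsIso u := by
  let P := projectiveResolution M
  let P' := projectiveResolution N
  let ψ : P.complex ⟶ P'.complex := ProjectiveResolution.lift u P P'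
  have hψ0 : ψ.f 0 ≫ P'.π.f 0 = P.π.f 0 ≫ u := ProjectiveResolution.lift_commutes_zero u P P'
  haveI hflatX : ∀ k, Module.Flat A ((fun k => P.complex.X k) k) := fun k =>
    haveI : Module.Projective A (P.complex.X k) := (IsProjective.iff_projective _).2 (P.projective k)
    (inferInstance : Module.Flat A (P.complex.X k))
  haveI hflatY : ∀ k, Module.Flat A ((fun k => P'.complex.X k) k) := fun k =>
    haveI : Module.Projective A (P'.complex.X k) := (IsProjective.iff_projective _).2 (P'.projective k)
    (inferInstance : Module.Flat A (P'.complex.X k))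
  let dX := fun k => (P.complex.d (k + 1) k).hom
  let dY := fun k => (P'.complex.d (k + 1) k).hom
  let φ := fun k => (ψ.f k).hom
  let c := GrothLib.FibreExact19.coneD (X := fun k => P.complex.X k) (Y := fun k => P'.complex.X k) dX dY φ
  haveI : ∀ k, Module.Flat A (GrothLib.FibreExact19.ConeX (fun k => P.complex.X k) (fun k => P'.complex.X k) k) :=
    fun k => GrothLib.FibreExact19.flat_cone k
  have hX : ∀ k, dX k ∘ₗ dX (k + 1) = 0 := fun k =>
    congrArg ModuleCat.Hom.hom (P.complex.d_comp_d (k + 1 + 1) (k + 1) k)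
  have hY : ∀ k, dY k ∘ₗ dY (k + 1) = 0 := fun k =>
    congrArg ModuleCat.Hom.hom (P'.complex.d_comp_d (k + 1 + 1) (k + 1) k)
  have hφ : ∀ k, φ k ∘ₗ dX k = dY k ∘ₗ φ (k + 1) := fun k =>
    congrArg ModuleCat.Hom.hom (ψ.comm (k + 1) k).symm
  have hc := GrothLib.FibreExact19.exAt_of_residueField
    (d := c) (GrothLib.FibreExact19.coneD_comp dX dY φ hX hY hφ) (fun x _ => by
      refine GrothLib.FibreExact19.exAt_of_qisAt hX hY hφ
        (GrothLib.FibreExact19.qisAt_of_quasiIso ψ (ModuleCat.of A x.ResidueField) fun i => ?_)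
      rw [quasiIsoAt_iff_isIso_homologyMap]
      let F := (MonoidalCategory.tensoringLeft (ModuleCat.{u} A)).obj (ModuleCat.of A x.ResidueField)
      have hnat := ProjectiveResolution.isoLeftDerivedObj_hom_naturality u P P' ψ hψ0 F i
      haveI : IsIso ((F.leftDerived i).map u) := h x i
      have heq : (F.mapHomologicalComplex _ ⋙ HomologicalComplex.homologyFunctor _ _ i).map ψ =
          (P.isoLeftDerivedObj F i).inv ≫ (F.leftDerived i).map u ≫ (P'.isoLeftDerivedObj F i).hom := by
        rw [hnat, Iso.inv_hom_id_assoc]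
      show IsIso ((F.mapHomologicalComplex _ ⋙ HomologicalComplex.homologyFunctor _ _ i).map ψ)
      rw [heq]
      infer_instance) A
  have hcR : ∀ k z, c k z = 0 → ∃ w, c (k + 1) w = z := by
    intro k z hz
    obtain ⟨w, hw⟩ := (hc k (1 ⊗ₜ z)).1 (by rw [LinearMap.lTensor_tmul, hz, TensorProduct.tmul_zero])
    refine ⟨TensorProduct.lid A _ w, ?_⟩
    have h1 : ∀ w, c (k + 1) (TensorProduct.lid A _ w) = TensorProduct.lid A _ ((c (k + 1)).lTensor A w) := by
      intro w
      induction w using TensorProduct.induction_on with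
      | zero => simp
      | tmul a b => simp
      | add a b ha hb => simp only [map_add, ha, hb]
    rw [h1, hw, TensorProduct.lid_tmul, one_smul]
  have hπ : Function.Surjective (P.π.f 0).hom := (ModuleCat.epi_iff_surjective _).1 inferInstance
  have hπ' : Function.Surjective (P'.π.f 0).hom := (ModuleCat.epi_iff_surjective _).1 inferInstance
  have hcomm : ∀ a, (P'.π.f 0).hom (φ 0 a) = u.hom ((P.π.f 0).hom a) := fun a =>
    congrArg (fun f => f.hom a) hψ0
  have hzero : ∀ w, (P.π.f 0).hom (dX 0 w) = 0 := fun w =>
    congrArg (fun f => f.hom w) P.complex_d_comp_π_f_zero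
  have hzero' : ∀ w, (P'.π.f 0).hom (dY 0 w) = 0 := fun w =>
    congrArg (fun f => f.hom w) P'.complex_d_comp_π_f_zero
  rw [ConcreteCategory.isIso_iff_bijective]
  constructor
  · rw [injective_iff_map_eq_zero]
    intro m hm
    obtain ⟨x, rfl⟩ := hπ m
    obtain ⟨w, hw⟩ := (ShortComplex.moduleCat_exact_iff _).1 P'.exact₀ (φ 0 x) ((hcomm x).trans hm)
    obtain ⟨⟨a, b⟩, hab⟩ := hcR 1 (x, -w) (Prod.ext
      (by show -((0 : _ →ₗ[A] _) x) = 0; exact neg_eq_zero.2 (LinearMap.zero_apply x))
      (by
        show φ 0 x + dY 0 (-w) = 0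
        rw [map_neg, show dY 0 w = φ 0 x from hw, add_neg_cancel]))
    change P.complex.X (0 + 1) at a
    have h1 : -(dX 0 a) = x := congrArg Prod.fst hab
    rw [← h1, map_neg, hzero, neg_zero]
    rfl
  · intro y
    obtain ⟨y', rfl⟩ := hπ' y
    obtain ⟨⟨a, b⟩, hab⟩ := hcR 0 (PUnit.unit, y') (Prod.ext rfl rfl)
    change P.complex.X 0 at a
    change P'.complex.X (0 + 1) at b
    have h1 : φ 0 a + dY 0 b = y' := congrArg Prod.snd hab
    exact ⟨(P.π.f 0).hom a, by rw [← h1, map_add, hzero', add_zero, hcomm]⟩

end Groth.Agent.S8597
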