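import Groth.Statements.S8598
import Mathlib.AlgebraicGeometry.Sites.Etale

set_option autoImplicit false
set_option backward.isDefEq.respectTransparency false
set_option backward.isDefEq.respectTransparency.types false
universe u
open CategoryTheory CategoryTheory.Limits AlgebraicGeometry Opposite
open EtDl

namespace Groth.Agent.S8598

/-- Let u : X -> Y be an etale, separated morphism of finite type that is surjective, and F an abelian
sheaf on Y_et. The sheaves F_n = (u_n)_! u_n^* F built from the iterated fibre powers of X over Y
form a left resolution of F; in particular (the part stated here) the augmentation u_! u^* F -> F,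
which is the counit of the adjunction between extension by zero u_! and restriction u^*, is an
epimorphism. (The continuity of V ↦ (V -> X -> Y) between the small etale sites is carried as an
instance hypothesis, the prelude's convention for extension by zero along an etale morphism.) -/
theorem result {X Y : Scheme.{u}} (u : X ⟶ Y) [Etale u] [IsSeparated u]
    [LocallyOfFiniteType u] [QuasiCompact u] [Surjective u] [EtShriek.JCont u] (F : EtCoh.Ab Y) :
    Epi ((EtShriek.extZeroAdj u).counit.app F) := by
  refine ⟨fun {G} g h e => ?_⟩
  have e1 : (EtShriek.restrAlong u).map g = (EtShriek.restrAlong u).map h := by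
    have := congrArg ((EtShriek.extZeroAdj u).homEquiv _ G) e
    simpa [Adjunction.homEquiv_unit] using this
  apply CategoryTheory.Sheaf.hom_ext
  ext V s
  obtain ⟨V, rfl⟩ : ∃ V', V = Opposite.op V' := ⟨V.unop, rfl⟩
  let W : X.Etale := (EtCoh.bc u).obj V
  let p : (EtShriek.compEtale u).obj W ⟶ V :=
    MorphismProperty.Over.homMk (pullback.fst V.hom u) pullback.condition trivial
  have hp : Sieve.generate (Presieve.singleton p) ∈ Y.smallEtaleTopology V := by
    rw [Scheme.smallEtaleTopology, Scheme.smallGrothendieckTopology_eq_toGrothendieck_smallPretopology _ le_rfl]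
    refine (Scheme.mem_toGrothendieck_smallPretopology (P := @Etale) (Q := @Etale) (S := Y) V _).2 fun x => ?_
    have : Surjective (pullback.fst V.hom u) := inferInstance
    obtain ⟨y, hy⟩ := (pullback.fst V.hom u).surjective x
    exact ⟨(EtShriek.compEtale u).obj W, p, y, Sieve.le_generate (Presieve.singleton p) _ _ (Presieve.singleton_self p),
      (inferInstanceAs (Etale (pullback.fst V.hom u)) : Etale p.left), hy⟩
  have hsep := ((isSheaf_iff_isSheaf_of_type _ _).1
    ((Presheaf.isSheaf_iff_isSheaf_forget _ _ (forget AddCommGrpCat.{u + 1})).1 G.property) _ hp).isSeparatedFor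
  refine hsep.ext fun Z φ hφ => ?_
  obtain ⟨Z', k, q, ⟨⟩, rfl⟩ := hφ
  change G.obj.map (k ≫ p).op (g.hom.app _ s) = G.obj.map (k ≫ p).op (h.hom.app _ s)
  rw [op_comp, Functor.map_comp, ConcreteCategory.comp_apply, ConcreteCategory.comp_apply]
  refine congrArg _ ?_
  rw [← NatTrans.naturality_apply, ← NatTrans.naturality_apply]
  exact ConcreteCategory.congr_hom (congrArg (fun t => t.hom.app (Opposite.op W)) e1) (F.obj.map p.op s)

end Groth.Agent.S8598
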