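import Groth.Statements.S8599
import Groth.Agent.Lib.EtShriek.BC3
-- import your own Groth.Agent.* helpers here

set_option autoImplicit false
universe u
open CategoryTheory CategoryTheory.Limits AlgebraicGeometry Opposite
open EtDl

namespace Groth.Agent.S8599

/-- Let f : X -> S be separated and locally of finite type, g : S' -> S any morphism, X' = X x_S S' with
projections g' : X' -> X and f' : X' -> S', and F an abelian sheaf on X_et. Then there is a base
change isomorphism g^* f_! F ≅ f'_! g'^* F (f_! = sections of f_* with proper support over the base)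
compatible with the inclusions f_! -> f_*, f'_! -> f'_* and the base change map g^* f_* F -> f'_*
g'^* F: the square formed by these four maps commutes. (Since f'_! g'^* F -> f'_* g'^* F is
injective, such an isomorphism is unique.) -/
theorem result {X S X' S' : Scheme.{u}} (f : X ⟶ S) [IsSeparated f]
    [LocallyOfFiniteType f] (g : S' ⟶ S) (f' : X' ⟶ S') (g' : X' ⟶ X) (h : IsPullback g' f' f g)
    (F : EtCoh.Ab X) :
    ∃ φ : (EtCoh.pull g).obj ((EtShriek.lowerShriek f).obj F) ≅ (EtShriek.lowerShriek f').obj ((EtCoh.pull g').obj F),
      φ.hom ≫ EtShriek.lowerShriekToPush f' ((EtCoh.pull g').obj F) =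
        (EtCoh.pull g).map (EtShriek.lowerShriekToPush f F) ≫ EtCoh.baseChange0 f g f' g' h.w F := by
  have : IsSeparated f' := MorphismProperty.of_isPullback (P := @IsSeparated) h inferInstance
  have : LocallyOfFiniteType f' :=
    MorphismProperty.of_isPullback (P := @LocallyOfFiniteType) h inferInstance
  exact ⟨GrothLib.EtShriek.lowerShriekBC f g f' g' h F, GrothLib.EtShriek.lowerShriekBC_compat f g f' g' h F⟩

end Groth.Agent.S8599
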