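import Groth.Statements.S8600
import Groth.Agent.Lib.EtShriek.ColimApp
-- import your own Groth.Agent.* helpers here

set_option autoImplicit false
universe u
open CategoryTheory CategoryTheory.Limits AlgebraicGeometry Opposite
open EtDl

namespace Groth.Agent.S8600

/-- Let f : X -> S be separated and locally of finite type. Then the functor f_! (sections of f_* with
proper support over the base) on abelian etale sheaves is left exact — it preserves finite limits —
and commutes with filtered colimits (indexed by small filtered categories). -/
theorem result {X S : Scheme.{u}} (f : X ⟶ S) [IsSeparated f]
    [LocallyOfFiniteType f] :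
    PreservesFiniteLimits (EtShriek.lowerShriek f) ∧
      PreservesFilteredColimitsOfSize.{u, u} (EtShriek.lowerShriek f) := ⟨GrothLib.EtShriek.preservesFiniteLimits_lowerShriek f,
    GrothLib.EtShriek.preservesFilteredColimits_lowerShriek f⟩

end Groth.Agent.S8600
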