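import Groth.Statements.S8607

-- import your own Groth.Agent.* helpers here

set_option autoImplicit false
universe u
open CategoryTheory CategoryTheory.Limits AlgebraicGeometry Opposite
open DEt

namespace Groth.Agent.S8607

/-- The equalizing half of 'the category of compactifications of f is cofiltering': let f : X -> Y be a
morphism of quasi-compact quasi-separated schemes, (Xbar_1, j_1, fbar_1) and (Xbar_2, j_2, fbar_2)
two compactifications of f, and r, s : Xbar_1 -> Xbar_2 two morphisms of compactifications (r ∘ j_1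
= j_2 = s ∘ j_1 and fbar_2 ∘ r = fbar_1 = fbar_2 ∘ s). Then there are a compactification (Xbar, j,
fbar) of f and a proper morphism t : Xbar -> Xbar_1 of compactifications (t ∘ j = j_1, fbar_1 ∘ t =
fbar) with r ∘ t = s ∘ t. -/
theorem result {X Y : Scheme.{u}} [CompactSpace ↥X] [QuasiSeparatedSpace ↥X]
    [CompactSpace ↥Y] [QuasiSeparatedSpace ↥Y] {f : X ⟶ Y} (c₁ c₂ : DEt.Compactification f)
    (r s : c₁.Xbar ⟶ c₂.Xbar) (hr : c₁.j ≫ r = c₂.j) (hs : c₁.j ≫ s = c₂.j)
    (hr' : r ≫ c₂.fbar = c₁.fbar) (hs' : s ≫ c₂.fbar = c₁.fbar) :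
    ∃ (c : DEt.Compactification f) (t : c.Xbar ⟶ c₁.Xbar), IsProper t ∧ c.j ≫ t = c₁.j ∧ t ≫ c₁.fbar = c.fbar ∧
      t ≫ r = t ≫ s := by
  let d := pullback.diagonal c₂.fbar
  let p : c₁.Xbar ⟶ pullback c₂.fbar c₂.fbar := pullback.lift r s (hr'.trans hs'.symm)
  let t := pullback.fst p d
  haveI : IsClosedImmersion t := MorphismProperty.pullback_fst _ _ inferInstance
  let j' : X ⟶ pullback p d := pullback.lift c₁.j c₂.j (pullback.hom_ext
    (by simp only [p, d, Category.assoc, pullback.lift_fst, pullback.diagonal_fst, Category.comp_id, hr])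
    (by simp only [p, d, Category.assoc, pullback.lift_snd, pullback.diagonal_snd, Category.comp_id, hs]))
  have hj : j' ≫ t = c₁.j := pullback.lift_fst _ _ _
  have sq : IsPullback j' (𝟙 X) t c₁.j := IsPullback.of_isLimit' ⟨hj.trans (Category.id_comp _).symm⟩
    (PullbackCone.IsLimit.mk _ (fun c => c.snd)
      (fun c => (cancel_mono t).1 ((Category.assoc _ _ _).trans
        ((congrArg (c.snd ≫ ·) hj).trans c.condition.symm)))
      (fun c => Category.comp_id _)
      (fun c m _ hm => (Category.comp_id m).symm.trans hm))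
  haveI : IsOpenImmersion j' := MorphismProperty.of_isPullback sq.flip c₁.isOpenImmersion
  refine ⟨⟨pullback p d, j', t ≫ c₁.fbar, inferInstance, inferInstance,
    (Category.assoc _ _ _).symm.trans ((congrArg (· ≫ c₁.fbar) hj).trans c₁.fac)⟩, t, inferInstance, hj, rfl, ?_⟩
  have hr2 : t ≫ r = pullback.snd p d := by
    have h := congrArg (· ≫ pullback.fst c₂.fbar c₂.fbar) (pullback.condition (f := p) (g := d))
    simpa only [t, p, d, Category.assoc, pullback.lift_fst, pullback.diagonal_fst, Category.comp_id] using h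
  have hs2 : t ≫ s = pullback.snd p d := by
    have h := congrArg (· ≫ pullback.snd c₂.fbar c₂.fbar) (pullback.condition (f := p) (g := d))
    simpa only [t, p, d, Category.assoc, pullback.lift_snd, pullback.diagonal_snd, Category.comp_id] using h
  exact hr2.trans hs2.symm

end Groth.Agent.S8607
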