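import Groth.Statements.S8611
import Groth.Agent.Lib.DeltaF.Ab

set_option autoImplicit false
universe w v u
open CategoryTheory CategoryTheory.Limits
open SGA4h

namespace Groth.Agent.S8611

open GrothLib.DeltaF

/-- Let C be an abelian category, T and T' cohomological delta-functors on C in degrees ≥ 0 with values
in abelian groups, both left exact in degree 0, with T effaceable in every degree q > 0 (every
element of T^q(A) is killed by T^q(u) for some monomorphism u : A → M, depending on the element),
and φ : T → T' a morphism of delta-functors. Let E be a class of objects such that every object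
admits a monomorphism into a member of E. Then the following are equivalent: (i) φ^q(A) is bijective
for all q and all A; (ii) φ^0(M) is bijective and φ^q(M) is surjective for q > 0, for all M in E;
(iii) φ^0(A) is bijective for all A and T' is effaceable in every degree > 0 (in the same
element-wise sense). Stated as (i) ⇔ (ii) together with (i) ⇔ (iii). -/
theorem result {C : Type u} [Category.{v} C] [Abelian C]
    (T T' : DeltaF.CohDeltaFunctor C AddCommGrpCat.{w} ℕ) (hT0 : T.ZeroMono) (hT'0 : T'.ZeroMono)
    (hT : ∀ (q : ℕ) (A : C) (α : (T.F (q + 1)).obj A),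
      ∃ (M : C) (u : A ⟶ M), Mono u ∧ (T.F (q + 1)).map u α = 0)
    (φ : T ⟶ T') (E : ObjectProperty C)
    (hE : ∀ A : C, ∃ (M : C) (i : A ⟶ M), Mono i ∧ E M) :
    ((∀ (q : ℕ) (A : C), IsIso ((φ.app q).app A)) ↔
      ((∀ M : C, E M → IsIso ((φ.app 0).app M)) ∧
        ∀ (q : ℕ) (M : C), E M → Epi ((φ.app (q + 1)).app M))) ∧
    ((∀ (q : ℕ) (A : C), IsIso ((φ.app q).app A)) ↔
      ((∀ A : C, IsIso ((φ.app 0).app A)) ∧
        ∀ (q : ℕ) (A : C) (α : (T'.F (q + 1)).obj A),
          ∃ (M : C) (u : A ⟶ M), Mono u ∧ (T'.F (q + 1)).map u α = 0)) := by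
  have hmonoStep : ∀ (q : ℕ), (∀ A, IsIso ((φ.app q).app A)) → ∀ A, Function.Injective ((φ.app (q + 1)).app A) :=
    fun q h A => app_succ_injective φ fun α _ => by
      obtain ⟨M, u, hu, h0⟩ := hT q A α
      exact ⟨M, u, hu, h0, surjective_of_iso φ q (h M), injective_of_iso φ q (h _)⟩
  constructor
  · refine ⟨fun h => ⟨fun M _ => h 0 M, fun q M _ => haveI := h (q + 1) M; inferInstance⟩, ?_⟩
    rintro ⟨h0, he⟩ q
    induction q with
    | zero =>
      have hinj : ∀ A, Function.Injective ((φ.app 0).app A) := fun A => by
        obtain ⟨M, i, hi, hM⟩ := hE A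
        exact app_zero_injective φ hT0 i (injective_of_iso φ 0 (h0 M hM))
      intro A
      obtain ⟨M, i, hi, hM⟩ := hE A
      exact isIso_of_injective_surjective _ (hinj A)
        (app_zero_surjective φ hT'0 i (surjective_of_iso φ 0 (h0 M hM)) (hinj _))
    | succ q ih =>
      intro A
      obtain ⟨M, i, hi, hM⟩ := hE A
      exact isIso_of_injective_surjective _ (hmonoStep q ih A)
        (app_succ_surjective φ i ((AddCommGrpCat.epi_iff_surjective _).mp (he q M hM))
          (surjective_of_iso φ q (ih _)) (hmonoStep q ih _))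
  · refine ⟨fun h => ⟨fun A => h 0 A, fun q A α => ?_⟩, ?_⟩
    · obtain ⟨x, hx⟩ := surjective_of_iso φ (q + 1) (h (q + 1) A) α
      obtain ⟨M, u, hu, h0⟩ := hT q A x
      exact ⟨M, u, hu, by rw [← hx, ← app_natural, h0, map_zero]⟩
    · rintro ⟨h0, he⟩ q
      induction q with
      | zero => exact h0
      | succ q ih =>
        intro A
        refine isIso_of_injective_surjective _ (hmonoStep q ih A) fun y => ?_
        obtain ⟨M, u, hu, hy⟩ := he q A y
        exact exists_preimage_of_killed φ u (surjective_of_iso φ q (ih _)) y hy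

end Groth.Agent.S8611
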