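import Groth.Statements.S8612
import Groth.Agent.Lib.DeltaF.Ab

set_option autoImplicit false
universe w v u
open CategoryTheory CategoryTheory.Limits
open SGA4h

namespace Groth.Agent.S8612

open GrothLib.DeltaF

/-- Let C be an abelian category with filtered colimits, T and T' cohomological delta-functors on C in
degrees ≥ 0 with values in abelian groups, both left exact in degree 0 and commuting with filtered
colimits in every degree, and φ : T → T' a morphism of delta-functors. Let D and E be classes of
objects such that (a) every object of C is a filtered colimit of objects of D and (b) every object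
of D admits a monomorphism into a member of E. Then φ^q(A) is bijective for all q and all A if and
only if φ^q(M) is bijective for all q and all M in E. -/
theorem result {C : Type u} [Category.{v} C] [Abelian C]
    [HasFilteredColimitsOfSize.{v, v} C]
    (T T' : DeltaF.CohDeltaFunctor C AddCommGrpCat.{w} ℕ) (hT0 : T.ZeroMono) (hT'0 : T'.ZeroMono)
    [∀ n, PreservesFilteredColimitsOfSize.{v, v} (T.F n)] [∀ n, PreservesFilteredColimitsOfSize.{v, v} (T'.F n)]
    (φ : T ⟶ T') (D E : ObjectProperty C)
    (hD : ∀ A : C, ∃ (J : Type v) (_ : SmallCategory J) (_ : IsFiltered J) (K : J ⥤ C) (c : Cocone K)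
      (_ : IsColimit c), (∀ j, D (K.obj j)) ∧ Nonempty (c.pt ≅ A))
    (hE : ∀ A : C, D A → ∃ (M : C) (i : A ⟶ M), Mono i ∧ E M) :
    (∀ (q : ℕ) (A : C), IsIso ((φ.app q).app A)) ↔
      ∀ (q : ℕ) (M : C), E M → IsIso ((φ.app q).app M) := by
  refine ⟨fun h q M _ => h q M, fun hiso => ?_⟩
  have extendInj : ∀ q, (∀ A, D A → Function.Injective ((φ.app q).app A)) →
      ∀ A, Function.Injective ((φ.app q).app A) := by
    intro q h A
    obtain ⟨J, _, _, K, c, hc, hK, ⟨e⟩⟩ := hD A
    have hinj := app_injective_of_isColimit φ hc q fun j => h _ (hK j)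
    intro x y hxy
    have := hinj (a₁ := (T.F q).map e.inv x) (a₂ := (T.F q).map e.inv y) (by rw [app_natural, app_natural, hxy])
    have h2 := congrArg ((T.F q).map e.hom) this
    simpa only [← CategoryTheory.comp_apply, ← Functor.map_comp, Iso.inv_hom_id, CategoryTheory.Functor.map_id,
      CategoryTheory.id_apply] using h2
  have extendSurj : ∀ q, (∀ A, D A → Function.Surjective ((φ.app q).app A)) →
      ∀ A, Function.Surjective ((φ.app q).app A) := by
    intro q h A y
    obtain ⟨J, _, _, K, c, hc, hK, ⟨e⟩⟩ := hD A
    obtain ⟨x, hx⟩ := app_surjective_of_isColimit φ hc q (fun j => h _ (hK j)) ((T'.F q).map e.inv y)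
    refine ⟨(T.F q).map e.hom x, ?_⟩
    rw [app_natural, hx, ← CategoryTheory.comp_apply, ← Functor.map_comp, Iso.inv_hom_id,
      CategoryTheory.Functor.map_id, CategoryTheory.id_apply]
  intro q
  induction q with
  | zero =>
    have hinj := extendInj 0 fun A hA => by
      obtain ⟨M, i, hi, hM⟩ := hE A hA
      exact app_zero_injective φ hT0 i (injective_of_iso φ 0 (hiso 0 M hM))
    have hsurj := extendSurj 0 fun A hA => by
      obtain ⟨M, i, hi, hM⟩ := hE A hA
      exact app_zero_surjective φ hT'0 i (surjective_of_iso φ 0 (hiso 0 M hM)) (hinj _)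
    exact fun A => isIso_of_injective_surjective _ (hinj A) (hsurj A)
  | succ q ih =>
    have hinj := extendInj (q + 1) fun A hA => app_succ_injective φ fun α hα => by
      obtain ⟨M, i, hi, hM⟩ := hE A hA
      refine ⟨M, i, hi, injective_of_iso φ (q + 1) (hiso (q + 1) M hM) ?_, surjective_of_iso φ q (ih M),
        injective_of_iso φ q (ih _)⟩
      rw [app_natural, hα, map_zero, map_zero]
    have hsurj := extendSurj (q + 1) fun A hA => by
      obtain ⟨M, i, hi, hM⟩ := hE A hA
      exact app_succ_surjective φ i (surjective_of_iso φ (q + 1) (hiso (q + 1) M hM))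
        (surjective_of_iso φ q (ih _)) (hinj _)
    exact fun A => isIso_of_injective_surjective _ (hinj A) (hsurj A)

end Groth.Agent.S8612
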