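import Groth.Statements.S8615
import Groth.Agent.S0088
import Groth.Agent.Lib.EtColim.Cohomology
import Groth.Agent.Lib.EtDesc19.IntegralSS
import Groth.Agent.Lib.CohDer19.Good
import Mathlib.FieldTheory.IsSepClosed
import Mathlib.AlgebraicGeometry.AlgClosed.Basic

set_option autoImplicit false
universe u
open CategoryTheory CategoryTheory.Limits AlgebraicGeometry
open SGA4h

namespace Groth.Agent.S8615

/-- Let k be an algebraically closed field and X a connected smooth proper curve over k. For the family,
indexed by the closed points x of X, of direct images i_{x*} ℤ of the constant sheaf ℤ along i_x :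
Spec κ(x) → X, any coproduct (given as a colimit cofan) has vanishing etale cohomology in every
degree q > 0. -/
theorem result {k : Type u} [Field k] [IsAlgClosed k]
    {X : Scheme.{u}} (f : X ⟶ Spec (CommRingCat.of k)) [IsProper f] [SmoothOfRelativeDimension 1 f]
    [ConnectedSpace ↥X]
    (c : Cofan fun x : {x : X // IsClosed ({x} : Set X)} =>
      (EtCoh.push (X.fromSpecResidueField x.1)).obj (EtCoh.const (Spec (X.residueField x.1)) ℤ))
    (hc : IsColimit c) (q : ℕ) (hq : 0 < q) :
    Subsingleton (EtCoh.H X c.pt q) := by
  haveI : CompactSpace ↥X := QuasiCompact.compactSpace_of_compactSpace f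
  haveI : QuasiSeparatedSpace ↥X := quasiSeparatedSpace_of_quasiSeparated f
  let α := {x : ↥X // IsClosed ({x} : Set ↥X)}
  haveI : PreservesColimitsOfShape (Finset (Discrete α)) (EtCoh.HF X q) :=
    GrothLib.EtColim.preservesColimitsOfShape_HF_small q _
  haveI : PreservesColimitsOfShape (Discrete α) (EtCoh.HF X q) :=
    GrothLib.CohDer19.preservesColimitsOfShape_discrete _
  have hzero : ∀ x : α, IsZero ((EtCoh.HF X q).obj
      ((EtCoh.push (X.fromSpecResidueField x.1)).obj (EtCoh.const (Spec (X.residueField x.1)) ℤ))) := by
    intro x
    haveI : IsClosedImmersion (X.fromSpecResidueField x.1) :=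
      .of_isPreimmersion _ (by rw [Scheme.range_fromSpecResidueField]; exact x.2)
    obtain ⟨e⟩ := GrothLib.EtDesc19.nonempty_H_push_addEquiv (X.fromSpecResidueField x.1)
      (EtCoh.const (Spec (X.residueField x.1)) ℤ) q
    have hsub : Subsingleton (EtCoh.H (Spec (X.residueField x.1)) (EtCoh.const (Spec (X.residueField x.1)) ℤ) q) := by
      refine Groth.Agent.S0088.result _ (fun s => ?_) (fun s => ?_) _ q hq
      · haveI : Subsingleton ↥(Spec (X.residueField x.1)) :=
          inferInstanceAs (Subsingleton (PrimeSpectrum (X.residueField x.1)))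
        rw [show ({s} : Set ↥(Spec (X.residueField x.1))) = Set.univ from Set.eq_univ_of_forall fun t => Subsingleton.elim t s]
        exact isClosed_univ
      · let j := X.fromSpecResidueField x.1 ≫ f
        have hs : IsClosed ({s} : Set ↥(Spec (X.residueField x.1))) := by
          haveI : Subsingleton ↥(Spec (X.residueField x.1)) :=
            inferInstanceAs (Subsingleton (PrimeSpectrum (X.residueField x.1)))
          rw [show ({s} : Set ↥(Spec (X.residueField x.1))) = Set.univ from Set.eq_univ_of_forall fun t => Subsingleton.elim t s]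
          exact isClosed_univ
        haveI : IsAlgClosed ((Spec (X.residueField x.1)).residueField s) :=
          IsAlgClosed.of_ringEquiv k _ (residueFieldIsoBase j s hs).commRingCatIsoToRingEquiv.symm
        infer_instance
    haveI : Subsingleton ((EtCoh.HF X q).obj
        ((EtCoh.push (X.fromSpecResidueField x.1)).obj (EtCoh.const (Spec (X.residueField x.1)) ℤ))) :=
      @Equiv.subsingleton _ _ e.symm.toEquiv hsub
    exact AddCommGrpCat.isZero_of_subsingleton _
  have hT := isColimitOfPreserves (EtCoh.HF X q) hc
  have hz : IsZero ((EtCoh.HF X q).obj c.pt) :=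
    (IsZero.iff_id_eq_zero _).2 (hT.hom_ext fun j => (hzero j.as).eq_of_src _ _)
  exact AddCommGrpCat.subsingleton_of_isZero hz

end Groth.Agent.S8615
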