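import Groth.Statements.S8618
import Mathlib
import Groth.Agent.Lib.SigmaLin.AlgClosed

set_option autoImplicit false
set_option linter.all false
universe u
open SGA4h

namespace Groth.Agent.S8618

open TensorProduct GrothLib.SigmaLin

theorem commute_iterate {k : Type u} [Field k] {σ : k →+* k} {V : Type u} [AddCommGroup V] [Module k V]
    (φ : V →ₛₗ[σ] V) (n : ℕ) (v : V) : φ ((⇑φ)^[n] v) = (⇑φ)^[n] (φ v) :=
  ((Function.Commute.refl (⇑φ)).iterate_right n) v

theorem core {p : ℕ} [Fact p.Prime] (k : Type u) [Field k] [Fintype k] [CharP k p] (f : ℕ) (hf : 0 < f)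
    (K : Type u) [Field K] [Algebra k K] [IsAlgClosed K] [CharP K p]
    (V : Type u) [AddCommGroup V] [Module k V] [FiniteDimensional k V]
    (φ : V →ₛₗ[frobenius k p] V) (F : V →ₗ[k] V) (hF : ∀ x, F x = (⇑φ)^[f] x)
    (φK : K ⊗[k] V →+ K ⊗[k] V) (hφK : ∀ (μ : K) (v : V), φK (μ ⊗ₜ[k] v) = (μ ^ p) ⊗ₜ[k] φ v) :
    ∃ (d : ℕ) (b : Fin d → K ⊗[k] V), LinearIndependent K b ∧ (∀ i, φK (b i) = b i) ∧
      (∀ z, φK z = z → ∃ c : Fin d → K, (∀ i, c i ^ p = c i) ∧ z = ∑ i, c i • b i) ∧
      ∀ a : Matrix (Fin d) (Fin d) K, (∀ j, F.baseChange K (b j) = ∑ i, a i j • b i) →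
        algebraMap k K (LinearMap.trace k V F) = a.trace := by
  classical
  have hσ : Function.Surjective (frobenius k p) := Finite.surjective_of_injective (frobenius k p).injective
  have hc := isCompl_nil_ess φ hσ
  obtain ⟨e, hedef⟩ : ∃ e : V →ₗ[k] V, ∀ v, e v = Submodule.linearProjOfIsCompl (ess φ) (nil φ) hc.symm v :=
    ⟨(ess φ).subtype ∘ₗ Submodule.linearProjOfIsCompl (ess φ) (nil φ) hc.symm, fun v => rfl⟩
  have hmem : ∀ v, e v ∈ ess φ := fun v => hedef v ▸ (Submodule.linearProjOfIsCompl (ess φ) (nil φ) hc.symm v).2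
  have hee : ∀ v ∈ ess φ, e v = v := fun v hv => (hedef v).trans <|
    congrArg Subtype.val (Submodule.linearProjOfIsCompl_apply_left hc.symm ⟨v, hv⟩)
  have hnil : ∀ v, v - e v ∈ nil φ := fun v => by
    rw [← Submodule.linearProjOfIsCompl_ker hc.symm, LinearMap.mem_ker, map_sub, sub_eq_zero, hedef]
    exact (Submodule.linearProjOfIsCompl_apply_left hc.symm _).symm
  obtain ⟨N, hN⟩ := exists_nil_bound φ
  have hen : ∀ v ∈ nil φ, e v = 0 := fun v hv => by
    rw [hedef]
    exact congrArg Subtype.val (Submodule.linearProjOfIsCompl_apply_right hc.symm ⟨v, hv⟩)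
  have heφ : ∀ v, e (φ v) = φ (e v) := fun v => by
    have h1 : φ v = φ (v - e v) + φ (e v) := by rw [← map_add, sub_add_cancel]
    have h2 : φ (v - e v) ∈ nil φ := by
      obtain ⟨n, hn⟩ := hnil v
      exact ⟨n, by rw [← commute_iterate, hn, map_zero]⟩
    rw [h1, map_add, hen _ h2, zero_add, hee _ (map_mem_ess φ (hmem v))]
  have hFe : ∀ v, F (e v) ∈ ess φ := fun v => by rw [hF]; exact iterate_mem_ess φ f (hmem v)
  have hFE : ∀ v, F (e v) = e (F v) := fun v => by
    have hit : ∀ (m : ℕ) (v : V), e ((⇑φ)^[m] v) = (⇑φ)^[m] (e v) := fun m v =>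
      (Function.Commute.iterate_right (f := ⇑e) (g := ⇑φ) heφ m) v
    rw [hF, hF, hit]
  have htr : LinearMap.trace k V F = LinearMap.trace k V (F ∘ₗ e) := by
    have h : IsNilpotent (F - F ∘ₗ e) := by
      refine ⟨N + 1, LinearMap.ext fun v => ?_⟩
      have hrec : ∀ m, ((F - F ∘ₗ e) ^ (m + 1)) v = (⇑φ)^[f * (m + 1)] (v - e v) := by
        intro m
        induction m with
        | zero =>
          rw [pow_one, LinearMap.sub_apply, LinearMap.comp_apply, ← map_sub, hF, zero_add, mul_one]
        | succ m ih =>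
          have h0 : e ((⇑φ)^[f * (m + 1)] (v - e v)) = 0 := by
            refine hen _ ?_
            obtain ⟨n, hn⟩ := hnil v
            exact ⟨n, by rw [← Function.iterate_add_apply, add_comm, Function.iterate_add_apply, hn, iterate_zero']⟩
          rw [pow_succ', Module.End.mul_apply, ih, LinearMap.sub_apply, LinearMap.comp_apply, h0, map_zero, sub_zero, hF,
            ← Function.iterate_add_apply]
          congr 1
          ring
      rw [hrec, LinearMap.zero_apply]
      have hle : N ≤ f * (N + 1) := le_trans (Nat.le_succ N) (Nat.le_mul_of_pos_left _ hf)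
      obtain ⟨c, hc⟩ := Nat.exists_eq_add_of_le hle
      rw [hc, add_comm, Function.iterate_add_apply, hN _ (hnil v), iterate_zero']
    have := (LinearMap.isNilpotent_trace_of_isNilpotent h).eq_zero
    rwa [map_sub, sub_eq_zero] at this
  -- over K
  have hsm : ∀ (μ : K) (z : K ⊗[k] V), φK (μ • z) = μ ^ p • φK z := fun μ z => by
    induction z using TensorProduct.induction_on with
    | zero => simp
    | tmul a v => rw [smul_tmul', smul_eq_mul, hφK, hφK, mul_pow, smul_tmul', smul_eq_mul]
    | add a b ha hb => rw [smul_add, map_add, ha, hb, map_add, smul_add]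
  let Ψ : K ⊗[k] V →ₛₗ[frobenius K p] K ⊗[k] V :=
    { toFun := φK, map_add' := map_add φK, map_smul' := hsm }
  let E : Submodule K (K ⊗[k] V) := LinearMap.range (e.baseChange K)
  have heK : ∀ z, φK (e.baseChange K z) = e.baseChange K (φK z) := fun z => by
    induction z using TensorProduct.induction_on with
    | zero => simp
    | tmul a v => rw [LinearMap.baseChange_tmul, hφK, hφK, LinearMap.baseChange_tmul, heφ]
    | add a b ha hb => simp only [map_add, ha, hb]
  have hidem : ∀ z, e.baseChange K (e.baseChange K z) = e.baseChange K z := fun z => by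
    rw [← LinearMap.comp_apply, ← LinearMap.baseChange_comp]
    congr 2
    exact LinearMap.ext fun v => hee _ (hmem v)
  have hEmap : ∀ z ∈ E, Ψ z ∈ E := by
    rintro _ ⟨z, rfl⟩
    exact ⟨φK z, (heK z).symm⟩
  let T : E →ₛₗ[frobenius K p] E :=
    { toFun := fun z => ⟨Ψ z, hEmap z z.2⟩
      map_add' := fun a b => Subtype.ext (map_add Ψ a.1 b.1)
      map_smul' := fun r a => Subtype.ext (Ψ.map_smulₛₗ r a.1) }
  have hspan : Submodule.span K (Set.range ⇑T) = ⊤ := by
    rw [eq_top_iff]
    rintro ⟨_, z, rfl⟩ -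
    induction z using TensorProduct.induction_on with
    | zero => simp only [map_zero]; exact zero_mem _
    | tmul a v =>
      have key : ∀ w ∈ Submodule.span k (φ '' (ess φ : Set V)), ∃ y ∈ Submodule.span K (Set.range ⇑T),
          (y : K ⊗[k] V) = (1 : K) ⊗ₜ[k] w := by
        intro w hw
        induction hw using Submodule.span_induction with
        | mem x hx =>
          obtain ⟨y, hy, rfl⟩ := hx
          refine ⟨T ⟨(1 : K) ⊗ₜ y, (1 : K) ⊗ₜ y, by rw [LinearMap.baseChange_tmul, hee y hy]⟩,
            Submodule.subset_span ⟨_, rfl⟩, ?_⟩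
          show φK _ = _
          rw [hφK, one_pow]
        | zero => exact ⟨0, zero_mem _, by simp⟩
        | add x y _ _ hx hy =>
          obtain ⟨a, ha, ha'⟩ := hx
          obtain ⟨b, hb, hb'⟩ := hy
          exact ⟨a + b, add_mem ha hb, by rw [Submodule.coe_add, ha', hb', tmul_add]⟩
        | smul r x _ hx =>
          obtain ⟨a, ha, ha'⟩ := hx
          exact ⟨algebraMap k K r • a, Submodule.smul_mem _ _ ha, by
            rw [Submodule.coe_smul, ha', algebraMap_smul, tmul_smul]⟩
      obtain ⟨y, hy, hy'⟩ := key (e v) ((span_image_ess φ).symm ▸ hmem v)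
      convert Submodule.smul_mem _ a hy using 1
      apply Subtype.ext
      rw [Submodule.coe_smul, hy', smul_tmul', smul_eq_mul, mul_one]
      exact LinearMap.baseChange_tmul e a v
    | add x y hx hy =>
      convert add_mem hx hy using 1
      apply Subtype.ext
      exact map_add _ _ _
  have hL := langHyp_frobenius (k := K) p
  obtain ⟨⟨b, hb⟩, -⟩ := exists_fixed_basis (k := K) (σ := frobenius K p) (V := ↥E) T hspan hL.h2 hL.h3
  refine ⟨_, fun i => (b i : K ⊗[k] V), b.linearIndependent.map' E.subtype E.ker_subtype,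
    fun i => congrArg Subtype.val (hb i), fun z hz => ?_, fun a ha => ?_⟩
  · have hzero : ∀ w, (⇑φK)^[N] (w - e.baseChange K w) = 0 := fun w => by
      induction w using TensorProduct.induction_on with
      | zero => simp
      | tmul a v =>
        rw [LinearMap.baseChange_tmul, ← tmul_sub]
        have hit : ∀ (m : ℕ) (a : K) (x : V), (⇑φK)^[m] (a ⊗ₜ x) = (a ^ p ^ m) ⊗ₜ ((⇑φ)^[m] x) := by
          intro m
          induction m with
          | zero => simp
          | succ m ih => intro a x; rw [Function.iterate_succ_apply', ih, hφK, ← pow_mul, ← pow_succ,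
              Function.iterate_succ_apply']
        rw [hit, hN _ (hnil v), tmul_zero]
      | add x y hx hy =>
        rw [map_add, add_sub_add_comm, iterate_map_add, hx, hy, add_zero]
    have hzE : z = e.baseChange K z := by
      have h := hzero z
      rwa [Function.iterate_fixed (by rw [map_sub, heK, hz]), sub_eq_zero] at h
    obtain ⟨zz, hzz⟩ : ∃ zz : E, (zz : K ⊗[k] V) = z := ⟨⟨z, z, hzE.symm⟩, rfl⟩
    have h1 : T zz = zz := Subtype.ext (by show φK _ = _; rw [hzz, hz])
    refine ⟨fun i => b.repr zz i, fun i => ?_, ?_⟩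
    · rw [← b.sum_repr zz, map_sum] at h1
      simp only [LinearMap.map_smulₛₗ, hb] at h1
      have := congrArg (fun x => b.repr x i) h1
      simp only [Module.Basis.repr_sum_self, frobenius_def] at this
      exact this
    · conv_lhs => rw [← hzz, ← b.sum_repr zz]
      simp only [Submodule.coe_sum, Submodule.coe_smul]
  · have hG : ∀ z, (F ∘ₗ e).baseChange K z ∈ E := fun z =>
      ⟨F.baseChange K z, by
        rw [← LinearMap.comp_apply, ← LinearMap.baseChange_comp,
          show e ∘ₗ F = F ∘ₗ e from LinearMap.ext fun v => (hFE v).symm]⟩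
    rw [htr, ← LinearMap.trace_baseChange, ← LinearMap.trace_restrict_eq_of_forall_mem E _ hG,
      LinearMap.trace_eq_matrix_trace K b]
    congr 1
    refine Matrix.ext fun i j => ?_
    rw [LinearMap.toMatrix_apply]
    have h2 : ((F ∘ₗ e).baseChange K).restrict (fun z _ => hG z) (b j) = ∑ i, a i j • b i := by
      apply Subtype.ext
      rw [Submodule.coe_sum, LinearMap.restrict_apply]
      obtain ⟨w, hw⟩ := (b j).2
      show (F ∘ₗ e).baseChange K (b j : K ⊗[k] V) = _
      rw [LinearMap.baseChange_comp, LinearMap.comp_apply, ← hw, hidem, hw, ha j]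
      rfl
    rw [h2, Module.Basis.repr_sum_self]


theorem finish {R K M : Type*} [Field R] [Field K] [AddCommGroup M] [Module R M] [Module K M]
    (g : R →+* K) (hsmul : ∀ (c : R) (z : M), c • z = g c • z) (W : Submodule R M) {d : ℕ} (b : Fin d → M)
    (hli : LinearIndependent K b) (hbW : ∀ i, b i ∈ W)
    (hfix : ∀ z ∈ W, ∃ c : Fin d → R, z = ∑ i, g (c i) • b i) (FK : M → M) :
    Module.Finite R W ∧ ∀ G : W →ₗ[R] W, (∀ y : W, (G y : M) = FK y) →
      ∃ a : Matrix (Fin d) (Fin d) K, (∀ j, FK (b j) = ∑ i, a i j • b i) ∧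
        g (LinearMap.trace R W G) = a.trace := by
  classical
  let bW : Fin d → W := fun i => ⟨b i, hbW i⟩
  have hliW : LinearIndependent R bW := by
    refine Fintype.linearIndependent_iff.2 fun c hc i => ?_
    have h := congrArg Subtype.val hc
    simp only [bW, Submodule.coe_sum, Submodule.coe_smul, ZeroMemClass.coe_zero, hsmul] at h
    exact g.injective (by rw [Fintype.linearIndependent_iff.1 hli _ h i, map_zero])
  have hspW : ⊤ ≤ Submodule.span R (Set.range bW) := by
    rintro ⟨z, hz⟩ -
    obtain ⟨c, rfl⟩ := hfix z hz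
    rw [show (⟨_, hz⟩ : W) = ∑ i, c i • bW i from Subtype.ext (by simp [bW, hsmul])]
    exact Submodule.sum_mem _ fun i _ => Submodule.smul_mem _ _ (Submodule.subset_span ⟨i, rfl⟩)
  let B := Module.Basis.mk hliW hspW
  refine ⟨Module.Finite.of_basis B, fun G hG => ⟨Matrix.of fun i j => g (LinearMap.toMatrix B B G i j), fun j => ?_, ?_⟩⟩
  · have h : G (bW j) = ∑ i, LinearMap.toMatrix B B G i j • bW i := by
      conv_lhs => rw [← B.sum_repr (G (bW j))]
      simp only [LinearMap.toMatrix_apply, B, Module.Basis.mk_apply]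
    have h' := congrArg Subtype.val h
    simp only [Submodule.coe_sum, Submodule.coe_smul, hsmul] at h'
    exact (hG (bW j)).symm.trans h'
  · rw [LinearMap.trace_eq_matrix_trace R B, Matrix.trace, Matrix.trace, map_sum]
    rfl

set_option maxHeartbeats 1000000 in
open TensorProduct in
/-- Let k be a finite field with q = p^f elements, F₀ ⊂ k its prime field, K an algebraically closed
extension of k, V a finite-dimensional k-vector space and φ a p-linear endomorphism of V (φ(λx) =
λ^p φ(x)); let F = φ^f, a k-linear endomorphism, F_K its K-linear extension to K ⊗_k V and φ_K the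
p-linear extension of φ (φ_K(μ ⊗ v) = μ^p ⊗ φ(v)). Then F_K preserves the F₀-subspace W = Ker(φ_K -
1) of K ⊗_k V, W is finite-dimensional over F₀, and the trace of F_K on W (an element of F₀) equals
the trace of F on V. -/
theorem result {p : ℕ} [Fact p.Prime] (k : Type u) [Field k] [Fintype k]
    [CharP k p] (f : ℕ) (hq : Fintype.card k = p ^ f) (K : Type u) [Field K] [Algebra k K] [IsAlgClosed K]
    (V : Type u) [AddCommGroup V] [Module k V] [FiniteDimensional k V]
    (φ : V →ₛₗ[frobenius k p] V) (F : V →ₗ[k] V) (hF : ∀ x, F x = (⇑φ)^[f] x)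
    (φK : K ⊗[k] V →+ K ⊗[k] V) (hφK : ∀ (μ : K) (v : V), φK (μ ⊗ₜ[k] v) = (μ ^ p) ⊗ₜ[k] φ v)
    (W : Submodule (↥(⊥ : Subfield k)) (K ⊗[k] V)) (hW : ∀ y, y ∈ W ↔ φK y = y) :
    (∀ y, φK y = y → φK (F.baseChange K y) = F.baseChange K y) ∧
    Module.Finite (↥(⊥ : Subfield k)) ↥W ∧
    ∀ (G : ↥W →ₗ[↥(⊥ : Subfield k)] ↥W), (∀ y : ↥W, (↑(G y) : K ⊗[k] V) = F.baseChange K ↑y) →
      algebraMap k K (algebraMap (↥(⊥ : Subfield k)) k (LinearMap.trace (↥(⊥ : Subfield k)) ↥W G)) =
        algebraMap k K (LinearMap.trace k V F) := by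
  classical
  have hp : p.Prime := Fact.out
  have hf : 0 < f := by
    rcases Nat.eq_zero_or_pos f with rfl | h
    · rw [pow_zero] at hq
      exact absurd hq (Fintype.one_lt_card (α := k)).ne'
    · exact h
  have : CharP K p := charP_of_injective_algebraMap (algebraMap k K).injective p
  obtain ⟨d, b, hli, hb, hfix, htr⟩ := core k f hf K V φ F hF φK hφK
  have hcomm : ∀ y, φK (F.baseChange K y) = F.baseChange K (φK y) := fun y => by
    induction y using TensorProduct.induction_on with
    | zero => simp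
    | tmul a v => rw [LinearMap.baseChange_tmul, hφK, hφK, LinearMap.baseChange_tmul, hF, hF, commute_iterate]
    | add a b ha hb => simp only [map_add, ha, hb]
  have hbot : ∀ x : K, x ^ p = x → ∃ c : (⊥ : Subfield k), algebraMap k K c = x := fun x hx => by
    have : x ∈ (⊥ : Subfield K) := (Subfield.mem_bot_iff_pow_eq_self K p).2 hx
    rw [← Subfield.map_bot (algebraMap k K)] at this
    obtain ⟨c, hc, rfl⟩ := this
    exact ⟨⟨c, hc⟩, rfl⟩
  have hsmul : ∀ (c : (⊥ : Subfield k)) (z : K ⊗[k] V), c • z = algebraMap k K c • z := fun c z => by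
    rw [algebraMap_smul]; rfl
  obtain ⟨hfin, hG⟩ := finish ((algebraMap k K).comp (algebraMap (↥(⊥ : Subfield k)) k)) hsmul W b hli
    (fun i => (hW _).2 (hb i)) (fun z hz => by
      obtain ⟨c, hc, rfl⟩ := hfix z ((hW z).1 hz)
      choose c' hc' using fun i => hbot (c i) (hc i)
      exact ⟨c', Finset.sum_congr rfl fun i _ => by rw [← hc' i]; rfl⟩) (F.baseChange K)
  refine ⟨fun y hy => by rw [hcomm, hy], hfin, fun G hG' => ?_⟩
  obtain ⟨a, ha, htra⟩ := hG G hG'
  rw [htr a ha, ← htra]
  rfl


end Groth.Agent.S8618
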