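import Groth.Statements.S8625
import Mathlib.Algebra.Group.Conj
import Mathlib.Tactic.Group

set_option autoImplicit false
universe u
open SGA4h

namespace Groth.Agent.S8625

variable {G : Type*} [Group G] (F : G →* G)

theorem fix_iff (x : G) : x ∈ F.eqLocus (MonoidHom.id G) ↔ F x = x := Iff.rfl

theorem right_fixed (g : G) (h : F (F g * g⁻¹) = F g * g⁻¹) : F (g⁻¹ * F g) = g⁻¹ * F g := by
  rw [map_mul, map_inv] at h ⊢
  have e : F (F g) = F g * g⁻¹ * F g := mul_inv_eq_iff_eq_mul.mp h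
  rw [e]; group

theorem left_fixed (g : G) (h : F (g⁻¹ * F g) = g⁻¹ * F g) : F (F g * g⁻¹) = F g * g⁻¹ := by
  rw [map_mul, map_inv] at h ⊢
  have e : F (F g) = F g * (g⁻¹ * F g) := inv_mul_eq_iff_eq_mul.mp h
  rw [e]; group

theorem factor (g g' c : G) (hc : F c = c) (h : F g' * g'⁻¹ = c * (F g * g⁻¹) * c⁻¹) :
    ∃ z, F z = z ∧ g' = c * g * z := by
  refine ⟨(c * g)⁻¹ * g', ?_, by group⟩
  have e : F g' = c * (F g * g⁻¹) * c⁻¹ * g' := mul_inv_eq_iff_eq_mul.mp h
  simp only [map_mul, map_inv, hc, e]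
  group

theorem factor' (g g' z : G) (hz : F z = z) (h : g'⁻¹ * F g' = z⁻¹ * (g⁻¹ * F g) * z) :
    ∃ c, F c = c ∧ g' = c * g * z := by
  refine ⟨g' * (g * z)⁻¹, ?_, by group⟩
  have e : F g' = g' * (z⁻¹ * (g⁻¹ * F g) * z) := inv_mul_eq_iff_eq_mul.mp h
  simp only [map_mul, map_inv, hz, e]
  group

theorem lang_left (g z c : G) (hc : F c = c) (hz : F z = z) :
    F (c * g * z) * (c * g * z)⁻¹ = c * (F g * g⁻¹) * c⁻¹ := by
  simp only [map_mul, hc, hz]; group

theorem lang_right (g z c : G) (hc : F c = c) (hz : F z = z) :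
    (c * g * z)⁻¹ * F (c * g * z) = z⁻¹ * (g⁻¹ * F g) * z := by
  simp only [map_mul, hc, hz]; group

theorem mk_eq {H : Subgroup G} (a b : H) :
    ConjClasses.mk a = ConjClasses.mk b ↔ ∃ c : H, (b : G) = c * a * (c : G)⁻¹ := by
  rw [ConjClasses.mk_eq_mk_iff_isConj, isConj_iff]
  exact exists_congr fun c => by rw [Subtype.ext_iff]; simp [eq_comm]

/-- Let G be a group with an endomorphism F, and assume the Lang map g ↦ F(g)g⁻¹ is surjective (for
instance the geometric points of a connected algebraic group over F_q with its Frobenius, where the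
surjectivity is the classical result of Lang; the other Lang map g ↦ g⁻¹F(g) is then surjective too,
by g ↦ g⁻¹). Let G^F be the subgroup of fixed points of F. (i) If F(g)g⁻¹ is fixed by F then so is
g⁻¹F(g). (ii), (iii) There is a bijection of the set of conjugacy classes of G^F with itself
sending, for every g with F(g)g⁻¹ ∈ G^F, the class of F(g)g⁻¹ to the class of g⁻¹F(g) (in particular
the latter class depends only on the former). -/
theorem result {G : Type u} [Group G] (F : G →* G)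
    (hL : Function.Surjective fun g : G => F g * g⁻¹) :
    (∀ g : G, F (F g * g⁻¹) = F g * g⁻¹ → F (g⁻¹ * F g) = g⁻¹ * F g) ∧
    ∃ φ : ConjClasses ↥(F.eqLocus (MonoidHom.id G)) → ConjClasses ↥(F.eqLocus (MonoidHom.id G)),
      Function.Bijective φ ∧
      ∀ (g : G) (h : F (F g * g⁻¹) = F g * g⁻¹) (h' : F (g⁻¹ * F g) = g⁻¹ * F g),
        φ (ConjClasses.mk (⟨F g * g⁻¹, h⟩ : ↥(F.eqLocus (MonoidHom.id G)))) =
          ConjClasses.mk (⟨g⁻¹ * F g, h'⟩ : ↥(F.eqLocus (MonoidHom.id G))) := by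
  classical
  refine ⟨fun g => right_fixed F g, ?_⟩
  choose sec hsec using hL
  have hfix : ∀ a : ↥(F.eqLocus (MonoidHom.id G)), F (F (sec a) * (sec a)⁻¹) = F (sec a) * (sec a)⁻¹ := fun a => by
    simp only [hsec]; exact a.2
  let f : ↥(F.eqLocus (MonoidHom.id G)) → ConjClasses ↥(F.eqLocus (MonoidHom.id G)) := fun a =>
    ConjClasses.mk ⟨(sec a)⁻¹ * F (sec a), right_fixed F _ (hfix a)⟩
  have key : ∀ (a : ↥(F.eqLocus (MonoidHom.id G))) (g : G) (h' : F (g⁻¹ * F g) = g⁻¹ * F g)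
      (c : ↥(F.eqLocus (MonoidHom.id G))), F g * g⁻¹ = c * a * (c : G)⁻¹ → f a = ConjClasses.mk ⟨g⁻¹ * F g, h'⟩ := by
    intro a g h' c e
    obtain ⟨z, hz, rfl⟩ := factor F (sec a) g c c.2 (by rw [e]; simp only [hsec])
    refine (mk_eq _ _).mpr ⟨⟨z, hz⟩⁻¹, ?_⟩
    show _ = (↑(⟨z, hz⟩⁻¹ : ↥(F.eqLocus (MonoidHom.id G))) : G) * _ * (↑(⟨z, hz⟩⁻¹ : ↥(F.eqLocus (MonoidHom.id G))) : G)⁻¹
    show (c * sec a * z : G)⁻¹ * F (c * sec a * z) = _
    rw [lang_right F _ z c c.2 hz]; simp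
  have hwd : ∀ a b, IsConj a b → f a = f b := by
    intro a b hab
    obtain ⟨c, hc⟩ := isConj_iff.mp hab
    refine key a (sec b) _ c ?_
    simp only [hsec]
    rw [← hc]; simp
  refine ⟨Quotient.lift f hwd, ⟨?_, ?_⟩, ?_⟩
  · intro A B
    refine Quotient.inductionOn₂ A B fun a b hab => ?_
    obtain ⟨z, hz⟩ := (mk_eq _ _).mp hab
    obtain ⟨c, hc, e⟩ := factor' F (sec a) (sec b) (z⁻¹ : ↥(F.eqLocus (MonoidHom.id G))) (z⁻¹).2 (by simpa using hz)
    refine (mk_eq a b).mpr ⟨⟨c, hc⟩, ?_⟩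
    have := lang_left F (sec a) (z⁻¹ : ↥(F.eqLocus (MonoidHom.id G))) c hc (z⁻¹).2
    rw [← e] at this
    simpa [hsec] using this
  · intro B
    refine Quotient.inductionOn B fun b => ?_
    let g := (sec (b : G)⁻¹)⁻¹
    have hg : g⁻¹ * F g = b := by
      have := hsec (b : G)⁻¹
      simp only [g, map_inv, inv_inv]
      simp only at this
      apply inv_injective
      rw [mul_inv_rev, inv_inv]; exact this
    have h' : F (g⁻¹ * F g) = g⁻¹ * F g := by rw [hg]; exact b.2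
    refine ⟨ConjClasses.mk ⟨F g * g⁻¹, left_fixed F g h'⟩, ?_⟩
    refine (key ⟨F g * g⁻¹, left_fixed F g h'⟩ g h' 1 (by simp)).trans ?_
    show ConjClasses.mk _ = ConjClasses.mk b
    congr 1; ext; exact hg
  · intro g h h'
    exact key ⟨F g * g⁻¹, h⟩ g h' 1 (by simp)

end Groth.Agent.S8625
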