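import Groth.Statements.S8626
-- import your own Groth.Agent.* helpers here

set_option autoImplicit false
universe v v' u u'
open CategoryTheory CategoryTheory.Limits
open SGA4h

namespace Groth.Agent.S8626

section

variable {A : Type u} [Category.{v} A] [Abelian A] (𝒪 : ObjectProperty A)
  (h2 : ∀ X : A, ∃ (Y : A) (i : X ⟶ Y), 𝒪 Y ∧ Mono i)
  {X : A} (I : InjectiveResolution X)

/-- cycles of the injective resolution -/
noncomputable abbrev Cy (i : ℕ) : A := kernel (I.cocomplex.d i (i + 1))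

noncomputable abbrev pr (i : ℕ) : I.cocomplex.X i ⟶ Cy I (i + 1) :=
  kernel.lift _ (I.cocomplex.d i (i + 1)) (I.cocomplex.d_comp_d _ _ _)

instance epi_pr (i : ℕ) : Epi (pr I i) := (I.exact_succ i).epi_kernelLift

/-- An object retracting onto the cycles. -/
structure St (i : ℕ) where
  Cp : A
  a : Cy I i ⟶ Cp
  b : Cp ⟶ Cy I i
  hab : a ≫ b = 𝟙 _

variable {I}

/-- An embedding into the class, compatible with the retraction. -/
structure Ext {i : ℕ} (s : St I i) where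
  Y : A
  mem : 𝒪 Y
  κ : s.Cp ⟶ Y
  mono : Mono κ
  ψ : I.cocomplex.X i ⟶ Y
  r : Y ⟶ I.cocomplex.X i
  hψ : kernel.ι _ ≫ ψ = s.a ≫ κ
  hr : κ ≫ r = s.b ≫ kernel.ι _
  hψr : ψ ≫ r = 𝟙 _

attribute [instance] Ext.mono

include h2 in
theorem nonempty_ext {i : ℕ} (s : St I i) : Nonempty (Ext 𝒪 s) := by
  let ι := kernel.ι (I.cocomplex.d i (i + 1))
  let g : pushout ι s.a ⟶ I.cocomplex.X i :=
    pushout.desc (𝟙 _) (s.b ≫ ι) (by rw [Category.comp_id, reassoc_of% s.hab])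
  obtain ⟨Y, j, hY, hj⟩ := h2 (pushout ι s.a)
  haveI := hj
  exact ⟨{ Y := Y, mem := hY, κ := pushout.inr ι s.a ≫ j, mono := mono_comp _ _
           ψ := pushout.inl ι s.a ≫ j, r := Injective.factorThru g j
           hψ := by rw [pushout.condition_assoc]
           hr := by rw [Category.assoc, Injective.comp_factorThru]; exact pushout.inr_desc _ _ _
           hψr := by rw [Category.assoc, Injective.comp_factorThru]; exact pushout.inl_desc _ _ _ }⟩

/-- The next step. -/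
noncomputable def next {i : ℕ} (s : St I i) (e : Ext 𝒪 s) : St I (i + 1) where
  Cp := cokernel e.κ
  a := Abelian.epiDesc (pr I i) (e.ψ ≫ cokernel.π e.κ) (by
    have hz : kernel.ι (pr I i) ≫ I.cocomplex.d i (i + 1) = 0 := by
      rw [← kernel.lift_ι (I.cocomplex.d (i + 1) (i + 1 + 1)) (I.cocomplex.d i (i + 1)) (I.cocomplex.d_comp_d _ _ _),
        kernel.condition_assoc, zero_comp]
    rw [← kernel.lift_ι (I.cocomplex.d i (i + 1)) (kernel.ι (pr I i)) hz, Category.assoc, reassoc_of% e.hψ]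
    simp)
  b := cokernel.desc e.κ (e.r ≫ pr I i) (by
    rw [reassoc_of% e.hr]
    have : kernel.ι (I.cocomplex.d i (i + 1)) ≫ pr I i = 0 := by
      rw [← cancel_mono (kernel.ι _)]; simp
    rw [this, comp_zero])
  hab := by
    rw [← cancel_epi (pr I i), Abelian.comp_epiDesc_assoc, Category.assoc, cokernel.π_desc, reassoc_of% e.hψr,
      Category.comp_id]

noncomputable def st0 : St I 0 where
  Cp := X
  a := (I.isLimitKernelFork.conePointUniqueUpToIso (kernelIsKernel (I.cocomplex.d 0 1))).inv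
  b := (I.isLimitKernelFork.conePointUniqueUpToIso (kernelIsKernel (I.cocomplex.d 0 1))).hom
  hab := Iso.inv_hom_id _

variable (I)

noncomputable def st : ∀ i, St I i
  | 0 => st0
  | i + 1 => next 𝒪 (st i) (nonempty_ext 𝒪 h2 (st i)).some

noncomputable def ext' (i : ℕ) : Ext 𝒪 (st 𝒪 h2 I i) := (nonempty_ext 𝒪 h2 (st 𝒪 h2 I i)).some

/-- The objects of the resolution. -/
noncomputable def Km : ℕ → A
  | 0 => X
  | j + 1 => (ext' 𝒪 h2 I j).Y

noncomputable def em : ∀ j, Km 𝒪 h2 I j ⟶ (st 𝒪 h2 I j).Cp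
  | 0 => 𝟙 X
  | j + 1 => cokernel.π (ext' 𝒪 h2 I j).κ

instance epi_em : ∀ j, Epi (em 𝒪 h2 I j)
  | 0 => inferInstanceAs (Epi (𝟙 X))
  | j + 1 => inferInstanceAs (Epi (cokernel.π (ext' 𝒪 h2 I j).κ))

noncomputable def dK (j : ℕ) : Km 𝒪 h2 I j ⟶ Km 𝒪 h2 I (j + 1) := em 𝒪 h2 I j ≫ (ext' 𝒪 h2 I j).κ

theorem dK_comp (j : ℕ) : dK 𝒪 h2 I j ≫ dK 𝒪 h2 I (j + 1) = 0 := by
  change (_ ≫ (ext' 𝒪 h2 I j).κ) ≫ cokernel.π (ext' 𝒪 h2 I j).κ ≫ _ = 0
  simp

theorem exact_dK (j : ℕ) : (ShortComplex.mk _ _ (dK_comp 𝒪 h2 I j)).Exact := by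
  let T := ShortComplex.mk (ext' 𝒪 h2 I j).κ (cokernel.π (ext' 𝒪 h2 I j).κ) (cokernel.condition _)
  have hT : T.Exact := ShortComplex.exact_cokernel _
  let M := ShortComplex.mk (dK 𝒪 h2 I j) (cokernel.π (ext' 𝒪 h2 I j).κ) (by
    exact (Category.assoc _ _ _).trans ((congrArg (em 𝒪 h2 I j ≫ ·) (cokernel.condition _)).trans comp_zero))
  let φ : M ⟶ T := ShortComplex.homMk (em 𝒪 h2 I j) (𝟙 _) (𝟙 _) (Category.comp_id _).symm (by
    change 𝟙 _ ≫ _ = _ ≫ 𝟙 _; simp; rfl)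
  haveI : Epi φ.τ₁ := epi_em 𝒪 h2 I j
  haveI : IsIso φ.τ₂ := inferInstanceAs (IsIso (𝟙 _))
  haveI : Mono φ.τ₃ := inferInstanceAs (Mono (𝟙 _))
  let ψ : M ⟶ ShortComplex.mk _ _ (dK_comp 𝒪 h2 I j) :=
    ShortComplex.homMk (𝟙 _) (𝟙 _) (ext' 𝒪 h2 I (j + 1)).κ (by simp [M]) (by
      change 𝟙 _ ≫ (cokernel.π _ ≫ _) = _; simp; rfl)
  haveI : Epi ψ.τ₁ := inferInstanceAs (Epi (𝟙 _))
  haveI : IsIso ψ.τ₂ := inferInstanceAs (IsIso (𝟙 _))
  haveI : Mono ψ.τ₃ := (ext' 𝒪 h2 I (j + 1)).mono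
  exact (ShortComplex.exact_iff_of_epi_of_isIso_of_mono ψ).1
    ((ShortComplex.exact_iff_of_epi_of_isIso_of_mono φ).2 hT)

/-- The resolution of `X` in the class. -/
noncomputable def Kc : CochainComplex A ℕ := CochainComplex.of (Km 𝒪 h2 I) (dK 𝒪 h2 I) (dK_comp 𝒪 h2 I)

theorem Kc_d (j : ℕ) : (Kc 𝒪 h2 I).d j (j + 1) = dK 𝒪 h2 I j :=
  CochainComplex.of_d (Km 𝒪 h2 I) (dK 𝒪 h2 I) j

theorem acyclic_Kc : (Kc 𝒪 h2 I).Acyclic := by
  intro j
  rcases j with _ | j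
  · rw [HomologicalComplex.exactAt_iff' _ 0 0 1 (by simp) (by simp)]
    rw [ShortComplex.exact_iff_mono _ ((Kc 𝒪 h2 I).shape 0 0 (by simp))]
    change Mono ((Kc 𝒪 h2 I).d 0 1)
    rw [show (Kc 𝒪 h2 I).d 0 1 = dK 𝒪 h2 I 0 from Kc_d 𝒪 h2 I 0]
    change Mono (𝟙 X ≫ _)
    rw [Category.id_comp]
    exact (ext' 𝒪 h2 I 0).mono
  · rw [HomologicalComplex.exactAt_iff' _ j (j + 1) (j + 2) (by simp) (by simp)]
    refine ShortComplex.exact_of_iso ?_ (exact_dK 𝒪 h2 I j)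
    exact ShortComplex.isoMk (Iso.refl _) (Iso.refl _) (Iso.refl _)
      ((Category.id_comp _).trans ((Kc_d 𝒪 h2 I j).trans (Category.comp_id _).symm))
      ((Category.id_comp _).trans ((Kc_d 𝒪 h2 I (j + 1)).trans (Category.comp_id _).symm))

theorem ψ_comm (i : ℕ) : (ext' 𝒪 h2 I i).ψ ≫ dK 𝒪 h2 I (i + 1) =
    I.cocomplex.d i (i + 1) ≫ (ext' 𝒪 h2 I (i + 1)).ψ := by
  change (ext' 𝒪 h2 I i).ψ ≫ cokernel.π _ ≫ (ext' 𝒪 h2 I (i + 1)).κ = _
  have h : (st 𝒪 h2 I (i + 1)).a ≫ (ext' 𝒪 h2 I (i + 1)).κ = kernel.ι _ ≫ (ext' 𝒪 h2 I (i + 1)).ψ :=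
    (ext' 𝒪 h2 I (i + 1)).hψ.symm
  have h' : pr I i ≫ (st 𝒪 h2 I (i + 1)).a = (ext' 𝒪 h2 I i).ψ ≫ cokernel.π _ :=
    Abelian.comp_epiDesc _ _ _
  exact (Category.assoc _ _ _).symm.trans ((congrArg (· ≫ (ext' 𝒪 h2 I (i + 1)).κ) h'.symm).trans
    ((Category.assoc _ _ _).trans ((congrArg (pr I i ≫ ·) h).trans (kernel.lift_ι_assoc _ _ _ _))))

theorem r_comm (i : ℕ) : (ext' 𝒪 h2 I i).r ≫ I.cocomplex.d i (i + 1) =
    dK 𝒪 h2 I (i + 1) ≫ (ext' 𝒪 h2 I (i + 1)).r := by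
  have h' : cokernel.π (ext' 𝒪 h2 I i).κ ≫ (st 𝒪 h2 I (i + 1)).b = (ext' 𝒪 h2 I i).r ≫ pr I i :=
    cokernel.π_desc _ _ _
  refine Eq.trans ?_ (Category.assoc _ _ _).symm
  change _ = cokernel.π _ ≫ _
  exact ((congrArg (cokernel.π (ext' 𝒪 h2 I i).κ ≫ ·) (ext' 𝒪 h2 I (i + 1)).hr).trans
    ((Category.assoc _ _ _).symm.trans ((congrArg (· ≫ kernel.ι _) h').trans
      ((Category.assoc _ _ _).trans (congrArg ((ext' 𝒪 h2 I i).r ≫ ·) (kernel.lift_ι _ _ _)))))).symm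

end

/-- Acyclicity assertion; A with enough injectives so that R^n f is the usual right derived functor: let
f : A → B be an additive functor between abelian categories and 𝒪 a class of objects of A, stable
under binary direct sums, such that (1) f carries every acyclic bounded-below cochain complex of
objects of 𝒪 (indexed by ℕ, exact in every degree, in degree 0 meaning the first differential is a
monomorphism) to an acyclic complex, and (2) every object of A admits a monomorphism into a member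
of 𝒪. Then every member of 𝒪 is right f-acyclic: R^n f(X) = 0 for all n > 0. -/
theorem result {A : Type u} [Category.{v} A] [Abelian A] [EnoughInjectives A]
    {B : Type u'} [Category.{v'} B] [Abelian B] (f : A ⥤ B) [f.Additive] (𝒪 : ObjectProperty A)
    (h0 : ∀ X Y : A, 𝒪 X → 𝒪 Y → 𝒪 (X ⊞ Y))
    (h1 : ∀ K : CochainComplex A ℕ, (∀ i, 𝒪 (K.X i)) → K.Acyclic →
      ((f.mapHomologicalComplex (ComplexShape.up ℕ)).obj K).Acyclic)
    (h2 : ∀ X : A, ∃ (Y : A) (i : X ⟶ Y), 𝒪 Y ∧ Mono i)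
    (X : A) (hX : 𝒪 X) (n : ℕ) (hn : 0 < n) :
    IsZero ((f.rightDerived n).obj X) := by
  obtain ⟨m, rfl⟩ : ∃ m, n = m + 1 := ⟨n - 1, by omega⟩
  let I := injectiveResolution X
  have hK := h1 (Kc 𝒪 h2 I) (fun i => by
    cases i with
    | zero => exact hX
    | succ j => exact (ext' 𝒪 h2 I j).mem) (acyclic_Kc 𝒪 h2 I) (m + 2)
  rw [HomologicalComplex.exactAt_iff' _ (m + 1) (m + 2) (m + 3) (by simp) (by simp)] at hK
  refine IsZero.of_iso ?_ (I.isoRightDerivedObj f (m + 1))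
  change IsZero (((f.mapHomologicalComplex _).obj I.cocomplex).homology (m + 1))
  rw [← HomologicalComplex.exactAt_iff_isZero_homology,
    HomologicalComplex.exactAt_iff' _ m (m + 1) (m + 2) (by simp) (by simp), ShortComplex.exact_iff_isZero_homology]
  rw [ShortComplex.exact_iff_isZero_homology] at hK
  let e : ∀ j, Ext 𝒪 (st 𝒪 h2 I j) := ext' 𝒪 h2 I
  let up : ((f.mapHomologicalComplex _).obj I.cocomplex).sc' m (m + 1) (m + 2) ⟶
      ((f.mapHomologicalComplex _).obj (Kc 𝒪 h2 I)).sc' (m + 1) (m + 2) (m + 3) :=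
    ShortComplex.homMk (f.map (e m).ψ) (f.map (e (m + 1)).ψ) (f.map (e (m + 2)).ψ)
      (by
        change f.map _ ≫ f.map ((Kc 𝒪 h2 I).d (m + 1) (m + 2)) = f.map _ ≫ f.map _
        rw [← f.map_comp, ← f.map_comp]
        exact congrArg f.map ((congrArg _ (CochainComplex.of_d _ _ (m + 1))).trans (ψ_comm 𝒪 h2 I m)))
      (by
        change f.map _ ≫ f.map ((Kc 𝒪 h2 I).d (m + 2) (m + 3)) = f.map _ ≫ f.map _
        rw [← f.map_comp, ← f.map_comp]
        exact congrArg f.map ((congrArg _ (CochainComplex.of_d _ _ (m + 2))).trans (ψ_comm 𝒪 h2 I (m + 1))))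
  let down : ((f.mapHomologicalComplex _).obj (Kc 𝒪 h2 I)).sc' (m + 1) (m + 2) (m + 3) ⟶
      ((f.mapHomologicalComplex _).obj I.cocomplex).sc' m (m + 1) (m + 2) :=
    ShortComplex.homMk (f.map (e m).r) (f.map (e (m + 1)).r) (f.map (e (m + 2)).r)
      (by
        change f.map _ ≫ f.map _ = f.map ((Kc 𝒪 h2 I).d (m + 1) (m + 2)) ≫ f.map _
        rw [← f.map_comp, ← f.map_comp]
        exact congrArg f.map ((r_comm 𝒪 h2 I m).trans (congrArg (· ≫ _) (CochainComplex.of_d _ _ (m + 1)).symm)))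
      (by
        change f.map _ ≫ f.map _ = f.map ((Kc 𝒪 h2 I).d (m + 2) (m + 3)) ≫ f.map _
        rw [← f.map_comp, ← f.map_comp]
        exact congrArg f.map ((r_comm 𝒪 h2 I (m + 1)).trans (congrArg (· ≫ _) (CochainComplex.of_d _ _ (m + 2)).symm)))
  have hud : up ≫ down = 𝟙 _ := by
    refine ShortComplex.hom_ext _ _ ?_ ?_ ?_
    all_goals
      change f.map _ ≫ f.map _ = 𝟙 _
      exact ((f.map_comp _ _).symm.trans (congrArg f.map (e _).hψr)).trans (f.map_id _)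
  have h : ShortComplex.homologyMap (up ≫ down) = ShortComplex.homologyMap (𝟙 _) := by rw [hud]
  erw [ShortComplex.homologyMap_comp, ShortComplex.homologyMap_id] at h
  rw [hK.eq_of_tgt (ShortComplex.homologyMap up) 0, zero_comp] at h
  exact (IsZero.iff_id_eq_zero _).2 h.symm

end Groth.Agent.S8626
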