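import Groth.Statements.S8637

set_option autoImplicit false
open Zeta

namespace Groth.Agent.S8637

/-- First assertion, for a finite family: let (f_i) be finitely many formal power series with real
coefficients, each with constant term 1 and all coefficients ≥ 0, and let f be their product. Then
for every i and every n the n-th coefficient of f_i is at most the n-th coefficient of f (so the
radius of absolute convergence of f_i is at least that of f). (Stated for a finite family; for an
infinite product whose factors f_i - 1 have orders tending to infinity each coefficient is that of a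
finite sub-product, so the same inequality holds.) -/
theorem result {ι : Type} (s : Finset ι) (f : ι → PowerSeries ℝ)
    (h0 : ∀ i ∈ s, PowerSeries.constantCoeff (f i) = 1)
    (hpos : ∀ i ∈ s, ∀ n : ℕ, 0 ≤ PowerSeries.coeff n (f i)) (i : ι) (hi : i ∈ s) (n : ℕ) :
    PowerSeries.coeff n (f i) ≤ PowerSeries.coeff n (∏ j ∈ s, f j) := by
  classical
  suffices H : ∀ t : Finset ι, t ⊆ s → PowerSeries.constantCoeff (∏ j ∈ t, f j) = 1 ∧
      ∀ m, 0 ≤ PowerSeries.coeff m (∏ j ∈ t, f j) by
    obtain ⟨h1, h2⟩ := H (s.erase i) (Finset.erase_subset _ _)
    rw [← Finset.mul_prod_erase s f hi, PowerSeries.coeff_mul]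
    refine le_of_eq_of_le ?_ (Finset.single_le_sum (fun p _ => mul_nonneg (hpos i hi p.1) (h2 p.2))
      (show (n, 0) ∈ Finset.antidiagonal n by simp))
    rw [PowerSeries.coeff_zero_eq_constantCoeff_apply, h1, mul_one]
  intro t
  induction t using Finset.induction with
  | empty =>
    intro _
    refine ⟨by simp, fun m => ?_⟩
    rw [Finset.prod_empty, PowerSeries.coeff_one]
    split_ifs <;> norm_num
  | insert a t ha ih =>
    intro hs
    rw [Finset.insert_subset_iff] at hs
    obtain ⟨h1, h2⟩ := ih hs.2
    rw [Finset.prod_insert ha]
    refine ⟨by rw [map_mul, h0 a hs.1, h1, one_mul], fun m => ?_⟩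
    rw [PowerSeries.coeff_mul]
    exact Finset.sum_nonneg fun p _ => mul_nonneg (hpos a hs.1 p.1) (h2 p.2)

end Groth.Agent.S8637
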