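import Groth.Statements.S8650
import Groth.Agent.Lib.Lambda.Basic

set_option autoImplicit false
universe u
open Finset
open LambdaRing

namespace Groth.Agent.S8650

/-- Let K be a pre-λ-ring (λ^0 = 1, λ^1 = id, additive formula) in which λ^k(1) = 0 for all k ≥ 2. Then
for every x ∈ K and every n, λ^n(x + n − 1) = (−1)^n Σ_{i=0}^{n} (−1)^i λ^i(x + n). (The published
statement is for a λ-ring; its proof uses only additivity and λ_t(1) = 1 + t, the hypotheses taken
here.) -/
theorem result (K : Type u) [CommRing K] [LambdaRing.LambdaOps K]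
    (h1 : ∀ k : ℕ, 2 ≤ k → LambdaRing.LambdaOps.lam k (1 : K) = 0) (n : ℕ) (x : K) :
    LambdaRing.LambdaOps.lam n (x + (n : K) - 1) =
      (-1 : K) ^ n * ∑ i ∈ range (n + 1), (-1 : K) ^ i * LambdaRing.LambdaOps.lam i (x + (n : K)) := by
  have key : ∀ y : K, ∀ m : ℕ,
      ∑ i ∈ range (m + 1), (-1 : K) ^ i * LambdaRing.LambdaOps.lam i (y + 1) =
        (-1) ^ m * LambdaRing.LambdaOps.lam m y := by
    intro y m
    induction m with
    | zero => simp [LambdaRing.LambdaOps.lam_zero]
    | succ m ih =>
      rw [sum_range_succ, ih, LambdaRing.LambdaOps.lam_add (m + 1) y 1, sum_range_succ,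
        sum_range_succ, sum_eq_zero, Nat.sub_self, Nat.add_sub_cancel_left,
        LambdaRing.LambdaOps.lam_zero, LambdaRing.LambdaOps.lam_one, pow_succ]
      · ring
      · intro i hi
        rw [Finset.mem_range] at hi
        rw [h1 (m + 1 - i) (by omega), mul_zero]
  have h := key (x + (n : K) - 1) n
  rw [sub_add_cancel] at h
  rw [h, ← mul_assoc, ← mul_pow, neg_one_mul, neg_neg, one_pow, one_mul]

end Groth.Agent.S8650
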