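import Groth.Statements.S8661
import Groth.Agent.Lib.LCI6.Koszul
-- import your own Groth.Agent.* helpers here

set_option autoImplicit false
universe u
open CategoryTheory CategoryTheory.Limits AlgebraicGeometry
open Synt

namespace Groth.Agent.S8661

/-- Let f : X ⟶ Y and g : Y ⟶ Z be local complete intersection morphisms in the factorisation sense
(around each point, locally of finite type and factoring as a Koszul-regular immersion followed by a
smooth morphism). Then f ≫ g is a local complete intersection morphism in the same sense. -/
theorem result {X Y Z : Scheme.{u}} (f : X ⟶ Y) (g : Y ⟶ Z)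
    (hf : ∀ x : X, Synt.IsKoszulAt f x) (hg : ∀ y : Y, Synt.IsKoszulAt g y) : ∀ x : X, Synt.IsKoszulAt (f ≫ g) x := by
  rw [GrothLib.LCI6.inLocus_iff_of_isKoszul] at hf hg ⊢
  exact fun x => GrothLib.LCI6.inLocus_comp (hf x) (hg _)

end Groth.Agent.S8661
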