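import Groth.Statements.S8664
import Groth.Agent.Lib.TwistPush20.Basic

set_option autoImplicit false
set_option maxHeartbeats 1000000
set_option linter.style.haveILetI false
set_option backward.isDefEq.respectTransparency false
universe v u
open CategoryTheory CategoryTheory.Limits AlgebraicGeometry
attribute [local instance] HasDerivedCategory.standard
open SGA6

namespace Groth.Agent.S8664

/-- Let S be a quasi-compact scheme, f : P = P^r_S ⟶ S the projection, and F a finitely presented
O_P-module which is flat over S (all stalks of F flat over the corresponding local rings of S). Then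
there is n₀ such that for all n ≥ n₀ one has R^q f_*(F(n)) = 0 for every q ≥ 1 (higher direct images
of the underlying abelian sheaf) and f_*(F(n)) is finite locally free on S, with F(n) = O_P(n) ⊗ F.
(The published statement is for the projective bundle of any finite locally free O_S-module and also
asserts (iii) that ⊕_{n ≥ n₀} f_*(F(n)) is a finitely presented graded module over the symmetric
algebra; this row takes the trivial bundle and states (i), (ii) only.) -/
theorem result (S : Scheme.{u}) [CompactSpace ↥S] (r : ℕ)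
    (F : (KRR.PY r S).Modules) (hF : CohB1.IsFP F) (hfl : FlatMod.IsFlatOver (KRR.pr r S) F) :
    ∃ n₀ : ℕ, ∀ n : ℕ, n₀ ≤ n →
      (∀ q : ℕ, 1 ≤ q → IsZero ((Coh.RpushAb (KRR.pr r S) q).obj (Coh.toAb (KRR.twF r S (n : ℤ) F)))) ∧
      FlatMod.IsFinLocFree ((Scheme.Modules.pushforward (KRR.pr r S)).obj (KRR.twF r S (n : ℤ) F)) := by
  obtain ⟨n₀, hn₀⟩ := GrothLib.TwistPush20.exists_bundle0 r F hF hfl
  refine ⟨n₀, fun n hn => ⟨fun q hq => ?_, ?_⟩⟩
  · obtain ⟨e⟩ := GrothLib.SiteDer.nonempty_homology_Rres_single (f := GrothLib.OX.rmor (KRR.pr r S))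
      (KRR.twF r S (n : ℤ) F) q
    exact GrothLib.CohPullLib.isZero_RpushAb_of_isZero_Rpush (KRR.pr r S) _ q
      (((hn₀ n hn).1 q (by omega)).of_iso e.symm)
  · obtain ⟨e⟩ := GrothLib.SiteDer.nonempty_homology_Rres_single (f := GrothLib.OX.rmor (KRR.pr r S))
      (KRR.twF r S (n : ℤ) F) 0
    exact GrothLib.DCoh.isFinLocFree_of_iso
      (e ≪≫ (Scheme.Modules.pushforward (KRR.pr r S)).rightDerivedZeroIsoSelf.app _) (hn₀ n hn).2

end Groth.Agent.S8664
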