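import Groth.Statements.S8666
import Mathlib
-- import your own Groth.Agent.* helpers here

set_option autoImplicit false
universe u
open CAlg

namespace Groth.Agent.S8666

/-- Let A be a Noetherian ring, M an invertible A-module and p_1, …, p_k finitely many primes of A
(points of Spec A). Then there is a single element s ∈ M whose image generates M_{p_i} as an
A_{p_i}-module for every i, i.e. s is a basis of the stalk of M at each of the given points. -/
theorem result (A : Type u) [CommRing A] [IsNoetherianRing A]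
    (M : Type u) [AddCommGroup M] [Module A M] [Module.Invertible A M] (ι : Type) [Finite ι] (p : ι → PrimeSpectrum A) :
    ∃ s : M, ∀ i : ι, Submodule.span (Localization.AtPrime (p i).asIdeal)
      {LocalizedModule.mkLinearMap (p i).asIdeal.primeCompl M s} = ⊤ := by
  classical
  have hloc : ∀ x : PrimeSpectrum A, Nonempty (LocalizedModule x.asIdeal.primeCompl M ≃ₗ[Localization.AtPrime x.asIdeal] Localization.AtPrime x.asIdeal) := fun x ↦ by
    haveI : Module.Free (Localization.AtPrime x.asIdeal) (LocalizedModule x.asIdeal.primeCompl M) := Module.free_of_flat_of_isLocalRing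
    exact Module.Invertible.free_iff_linearEquiv.mp inferInstance
  let v : ∀ x : PrimeSpectrum A, M →ₗ[A] Localization.AtPrime x.asIdeal := fun x ↦
    ((hloc x).some.toLinearMap.restrictScalars A) ∘ₗ LocalizedModule.mkLinearMap x.asIdeal.primeCompl M
  suffices h : ∃ s, ∀ i, IsUnit (v (p i) s) by
    obtain ⟨s, hs⟩ := h
    refine ⟨s, fun i ↦ top_le_iff.mp fun z _ ↦ ?_⟩
    obtain ⟨c, hc⟩ := (hs i).exists_left_inv
    refine Submodule.mem_span_singleton.mpr ⟨(hloc (p i)).some z * c, (hloc (p i)).some.injective ?_⟩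
    rw [map_smul, smul_eq_mul, mul_assoc]
    show _ * (c * v (p i) s) = _
    rw [hc, mul_one]
  have hone : ∀ x, ∃ m, IsUnit (v x m) := fun x ↦ by
    obtain ⟨z, hz⟩ := (hloc x).some.surjective 1
    induction z using LocalizedModule.induction_on with
    | _ m t =>
      refine ⟨m, ?_⟩
      have h1 : t.1 • (LocalizedModule.mk m t) = LocalizedModule.mkLinearMap x.asIdeal.primeCompl M m := by
        rw [LocalizedModule.smul'_mk, LocalizedModule.mkLinearMap_apply]
        exact LocalizedModule.mk_cancel t m
      have h2 : v x m = t.1 • (hloc x).some (LocalizedModule.mk m t) := by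
        show ((hloc x).some.toLinearMap.restrictScalars A) _ = _
        rw [← h1, map_smul]; rfl
      rw [h2, hz, Algebra.smul_def, mul_one]
      exact IsLocalization.map_units _ t
  have := Fintype.ofFinite ι
  suffices key : ∀ (N : ℕ) (T : Finset (PrimeSpectrum A)), T.card = N → ∃ s, ∀ x ∈ T, IsUnit (v x s) by
    obtain ⟨s, hs⟩ := key _ (Finset.univ.image p) rfl
    exact ⟨s, fun i ↦ hs _ (Finset.mem_image_of_mem p (Finset.mem_univ i))⟩
  intro N
  induction N with
  | zero => exact fun T hT ↦ ⟨0, by simp [Finset.card_eq_zero.mp hT]⟩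
  | succ N ih =>
  intro T hT
  obtain ⟨q, hq, hqmin⟩ := T.exists_minimal (Finset.card_pos.mp (by omega))
  obtain ⟨s, hs⟩ := ih (T.erase q) (by rw [Finset.card_erase_of_mem hq, hT]; omega)
  by_cases h0 : IsUnit (v q s)
  · exact ⟨s, fun x hx ↦ if h : x = q then h ▸ h0 else hs x (Finset.mem_erase.mpr ⟨h, hx⟩)⟩
  obtain ⟨a, ha, ha'⟩ : ∃ a ∈ (T.erase q).inf (fun x ↦ x.asIdeal), a ∉ q.asIdeal := by
    refine SetLike.not_le_iff_exists.mp fun hle ↦ ?_
    obtain ⟨x, hx, hle'⟩ := q.2.inf_le'.mp hle
    exact Finset.ne_of_mem_erase hx (le_antisymm hle' (hqmin (Finset.mem_of_mem_erase hx) hle'))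
  obtain ⟨m, hm⟩ := hone q
  refine ⟨s + a • m, fun x hx ↦ ?_⟩
  rw [map_add, map_smul, Algebra.smul_def]
  by_cases h : x = q
  · subst h
    by_contra hc
    have hu : IsUnit (algebraMap A (Localization.AtPrime x.asIdeal) a * v x m) :=
      (IsLocalization.map_units _ (⟨a, ha'⟩ : x.asIdeal.primeCompl)).mul hm
    have hn : v x s ∈ IsLocalRing.maximalIdeal (Localization.AtPrime x.asIdeal) := h0
    have hc' : v x s + _ ∈ IsLocalRing.maximalIdeal (Localization.AtPrime x.asIdeal) := hc
    exact ((Submodule.add_mem_iff_right _ hn).mp hc') hu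
  · by_contra hc
    have hx' := Finset.mem_erase.mpr ⟨h, hx⟩
    have hn : algebraMap A (Localization.AtPrime x.asIdeal) a ∈ IsLocalRing.maximalIdeal (Localization.AtPrime x.asIdeal) :=
      (IsLocalization.AtPrime.to_map_mem_maximal_iff _ x.asIdeal a).mpr (Submodule.mem_finsetInf.mp ha x hx')
    have hc' : v x s + _ ∈ IsLocalRing.maximalIdeal (Localization.AtPrime x.asIdeal) := hc
    exact (Submodule.add_mem_iff_left _ (Ideal.mul_mem_right _ _ hn)).mp hc' (hs x hx')

end Groth.Agent.S8666
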