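import Groth.Statements.S8669
-- import your own Groth.Agent.* helpers here
import Groth.Agent.Lib.PBFree17.TrivFree


set_option autoImplicit false
universe v u
open CategoryTheory CategoryTheory.Limits AlgebraicGeometry
attribute [local instance] HasDerivedCategory.standard
open SGA6

namespace Groth.Agent.S8669

/-- Let S be a quasi-compact scheme, f : P = P^r_S ⟶ S the projection, and F, G finite locally free
O_P-modules whose classes in K₀ of finite locally free O_P-modules coincide. Then there is n₀ such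
that for every n ≥ n₀ the modules f_*(F(n)) and f_*(G(n)) are finite locally free on S and have the
same class in K₀ of finite locally free O_S-modules, where F(n) = O_P(n) ⊗ F. (The published
statement is for the projective bundle of any finite locally free module of rank r + 1; this row
takes the trivial bundle.) -/
theorem result (S : Scheme.{u}) [CompactSpace ↥S] (r : ℕ)
    (F G : (KRR.PY r S).Modules) (hF : FlatMod.IsFinLocFree F) (hG : FlatMod.IsFinLocFree G)
    (h : KRR.cl (KRR.PY r S) F = KRR.cl (KRR.PY r S) G) :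
    ∃ n₀ : ℕ, ∀ n : ℕ, n₀ ≤ n →
      FlatMod.IsFinLocFree ((Scheme.Modules.pushforward (KRR.pr r S)).obj (KRR.twF r S (n : ℤ) F)) ∧
      FlatMod.IsFinLocFree ((Scheme.Modules.pushforward (KRR.pr r S)).obj (KRR.twF r S (n : ℤ) G)) ∧
      KRR.cl S ((Scheme.Modules.pushforward (KRR.pr r S)).obj (KRR.twF r S (n : ℤ) F)) =
        KRR.cl S ((Scheme.Modules.pushforward (KRR.pr r S)).obj (KRR.twF r S (n : ℤ) G)) := by
  obtain ⟨o⟩ := GrothLib.PBFree17.nonempty_ops (n := r) (Y := S)
  obtain ⟨a, ha⟩ := GrothLib.PBFree17.evReg F hF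
  obtain ⟨b, hb⟩ := GrothLib.PBFree17.evReg G hG
  have key : ∀ (M : (KRR.PY r S).Modules), FlatMod.IsFinLocFree M → ∀ c : ℕ,
      KRR.IsRegSheaf r S (KRR.twF r S (c : ℤ) M) → ∀ n : ℕ, c ≤ n →
      GrothLib.RegSheaf.regP r S (KRR.twF r S (n : ℤ) M) := fun M hM c hc n hn => by
    obtain ⟨d, rfl⟩ : ∃ d, n = d + c := ⟨n - c, by omega⟩
    have h1 := GrothLib.RegSheaf.regP_twF (M := KRR.twF r S (c : ℤ) M)
      ⟨GrothLib.RegSheaf.isFinLocFree_twF hM _, hc⟩ d
    exact ⟨GrothLib.RegSheaf.isFinLocFree_twF hM _, GrothLib.RegSheaf.isRegSheaf_of_iso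
      (GrothLib.RegSheaf.nonempty_twF_twF (show (d : ℤ) + (c : ℤ) = ((d + c : ℕ) : ℤ) by push_cast; ring) M).some h1.2⟩
  refine ⟨a + b, fun n hn => ?_⟩
  have h1 := key F hF a ha n (by omega)
  have h2 := key G hG b hb n (by omega)
  refine ⟨GrothLib.RegSheaf.isFinLocFree_push_reg h1, GrothLib.RegSheaf.isFinLocFree_push_reg h2, ?_⟩
  rw [← o.hP _ h1, ← o.hP _ h2, ← o.hτ _ F hF, ← o.hτ _ G hG, h]

end Groth.Agent.S8669
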