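import Groth.Statements.S8670
-- import your own Groth.Agent.* helpers here
import Groth.Agent.Lib.BlowK17.Perf
import Groth.Agent.Lib.BlowK17.RpushInD
import Groth.Agent.Lib.BlowCoh8.LocFree
import Groth.Agent.Lib.ResProp22.Ample
import Groth.Agent.S1028

set_option autoImplicit false
universe v u
open CategoryTheory CategoryTheory.Limits AlgebraicGeometry
attribute [local instance] HasDerivedCategory.standard
open SGA6

namespace Groth.Agent.S8670

/-- Let X be a scheme carrying an ample invertible O_X-module, i : Y ⟶ X a Koszul-regular closed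
immersion whose image is nowhere dense in X (the complement of the image is dense, i.e. Y has
codimension ≥ 1 in X at each of its points) and f : X' ⟶ X the blowing up of X along Y. On K^• = K₀
of perfect complexes let f^* be induced by Lf^* and f_* by Rf_* (both total derived functors assumed
to exist, with their triangulated structures carried as instance hypotheses, and to preserve perfect
complexes, hypotheses hpull and hpush). Then f_* ∘ f^* is the identity of K^•(X). (The published
statement has no codimension condition: where Y contains a nonempty open subset of X the blowing up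
is empty over it and f_* f^* is not the identity — for X a point and Y = X, K^•(X') = 0 while [O_X]
≠ 0; the published proof rests on f_*(1) = 1, i.e. R f_* O_{X'} = O_X, which holds when the image of
i is nowhere dense and fails over any nonempty open subset of X contained in Y; this row assumes the
image nowhere dense.) -/
theorem result {X Y X' : Scheme.{u}} (L : X.Modules) (hL : CohB1.IsAmple L)
    (i : Y ⟶ X) [IsClosedImmersion i] (hi : RegImm.IsRegularImmersion .koszul i) (hdense : Dense (Set.range i)ᶜ)
    (f : X' ⟶ X) (hf : BlowUp.IsBlowUp f i.ker)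
    [DCoh.HasLpull f] [(DCoh.Lpull f).CommShift ℤ] [(DCoh.Lpull f).IsTriangulated]
    (hpull : ∀ K : DCoh.D X, DCoh.IsPerfect K → DCoh.IsPerfect ((DCoh.Lpull f).obj K))
    [DCoh.HasRpush f] [(DCoh.Rpush f).CommShift ℤ] [(DCoh.Rpush f).IsTriangulated]
    (hpush : ∀ K : DCoh.D X', DCoh.IsPerfect K → DCoh.IsPerfect ((DCoh.Rpush f).obj K)) (x : SGA6.Kperf X) :
    SGA6.mapTr (DCoh.Rpush f) (SGA6.perfP X') (SGA6.perfP X) hpush (SGA6.mapTr (DCoh.Lpull f) (SGA6.perfP X) (SGA6.perfP X') hpull x) = x := by
  haveI : CompactSpace X := hL.2.1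
  haveI := GrothLib.Ample.quasiSeparatedSpace_of_isAmple hL
  obtain ⟨φ, hφ⟩ := Groth.Agent.S1028.result X (GrothLib.ResProp22.hasResolutionProperty_of_isAmple hL)
  have hJ := GrothLib.BlowCoh8.isLocSeq_of_dense i hi hdense
  haveI := GrothLib.BlowCoh8.hasInjectiveResolutions X'
  obtain ⟨c, rfl⟩ := φ.surjective x
  let A := (SGA6.mapTr (DCoh.Rpush f) (SGA6.perfP X') (SGA6.perfP X) hpush).comp
    ((SGA6.mapTr (DCoh.Lpull f) (SGA6.perfP X) (SGA6.perfP X') hpull).comp φ.toAddMonoidHom)
  suffices h : A = φ.toAddMonoidHom by exact DFunLike.congr_fun h c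
  refine GrothLib.K0Sub.hom_ext (P := fun M : X.Modules => FlatMod.IsFinLocFree M) fun E hE => ?_
  have hP := GrothLib.BlowK17.isPerfect_inD_vb hE
  show SGA6.mapTr (DCoh.Rpush f) (SGA6.perfP X') (SGA6.perfP X) hpush
    (SGA6.mapTr (DCoh.Lpull f) (SGA6.perfP X) (SGA6.perfP X') hpull (φ (KZero.clSub _ E))) = φ (KZero.clSub _ E)
  rw [hφ E hE]
  change SGA6.mapTr (DCoh.Rpush f) (SGA6.perfP X') (SGA6.perfP X) hpush
    (SGA6.mapTr (DCoh.Lpull f) (SGA6.perfP X) (SGA6.perfP X') hpull (KZero.clTr (SGA6.perfP X) (DCoh.inD X E))) =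
      KZero.clTr (SGA6.perfP X) (DCoh.inD X E)
  rw [GrothLib.BlowK17.mapTr_clTr (DCoh.Lpull f) hpull hP,
    GrothLib.BlowK17.mapTr_clTr (DCoh.Rpush f) hpush (hpull _ hP)]
  refine GrothLib.BlowK17.clTr_congr ?_
  refine (DCoh.Rpush f).mapIso (GrothLib.BlowK17.nonempty_lpull_inD f hE).some ≪≫ ?_
  refine (GrothLib.BlowK17.nonempty_rpush_inD f _ fun q hq =>
    (GrothLib.BlowCoh8.isZero_RpushAb_iff (f := f) _ q).1
      (GrothLib.BlowCoh8.isZero_RpushAb_locFree hJ hf hE q (by omega))).some ≪≫ ?_
  haveI := GrothLib.BlowCoh8.isIso_unit_locFree hJ hf hE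
  exact (DerivedCategory.singleFunctor X.Modules 0).mapIso
    (asIso ((Scheme.Modules.pullbackPushforwardAdjunction f).unit.app E)).symm

end Groth.Agent.S8670
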