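import Groth.Statements.S8673
-- import your own Groth.Agent.* helpers here
import Groth.Agent.Lib.ModelK.AmpleElt

set_option autoImplicit false
universe v u
open CategoryTheory CategoryTheory.Limits AlgebraicGeometry
attribute [local instance] HasDerivedCategory.standard
open scoped TensorProduct
open KRR

namespace Groth.Agent.S8673

/-- Let X be a connected quasi-compact scheme with an ample invertible O_X-module, (K, P, φ) a model of
the λ-ring K(X) of finite locally free modules (augmentation ε = rank), and A a commutative ring.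
Then y ∈ A ⊗_ℤ K(X) is invertible if and only if (id ⊗ ε)(y) ∈ A ⊗_ℤ ℤ is invertible; in particular
the class of a nowhere-zero bundle is invertible in K(X) ⊗ ℚ. (The published statement allows X
disconnected, with ε valued in H^0(X, ℤ); this row takes X connected, as the model requires.) -/
theorem result (X : Scheme.{u}) [ConnectedSpace ↥X] (L : X.Modules) (hL : CohB1.IsAmple L)
    (K : Type v) [CommRing K] [LambdaRing.LambdaOps K] (P : LambdaRing.PosStructure K) (φ : SGA6.Kvb X →+ K) (hK : KRR.IsModel X K P φ)
    (A : Type v) [CommRing A] (y : A ⊗[ℤ] K) :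
    IsUnit y ↔ IsUnit (Algebra.TensorProduct.map (AlgHom.id ℤ A) P.aug.toIntAlgHom y) := by
  let f := Algebra.TensorProduct.map (AlgHom.id ℤ A) P.aug.toIntAlgHom
  let s : A ⊗[ℤ] ℤ →ₐ[ℤ] A ⊗[ℤ] K :=
    Algebra.TensorProduct.map (AlgHom.id ℤ A) (Int.castRingHom K).toIntAlgHom
  refine ⟨fun h => h.map f, fun h => ?_⟩
  have key : IsNilpotent (y - s (f y)) := by
    clear h
    induction y using TensorProduct.induction_on with
    | zero => simp
    | tmul a x =>
      have hn : IsNilpotent (x - ((P.aug x : ℤ) : K)) :=
        GrothLib.ModelK.isNilpotent_of_isAmple hK hL (by simp)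
      have he : a ⊗ₜ[ℤ] x - s (f (a ⊗ₜ[ℤ] x)) =
          (a ⊗ₜ[ℤ] (1 : K)) * ((1 : A) ⊗ₜ[ℤ] (x - ((P.aug x : ℤ) : K))) := by
        rw [Algebra.TensorProduct.tmul_mul_tmul, mul_one, one_mul, TensorProduct.tmul_sub]
        rfl
      rw [he]
      refine (Commute.all _ _).isNilpotent_mul_left ?_
      exact hn.map (Algebra.TensorProduct.includeRight : K →ₐ[ℤ] A ⊗[ℤ] K)
    | add a b ha hb =>
      rw [map_add, map_add, add_sub_add_comm]
      exact (Commute.all _ _).isNilpotent_add ha hb
  have := key.isUnit_add_left_of_commute (h.map s) (Commute.all _ _)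
  rwa [add_sub_cancel] at this


end Groth.Agent.S8673
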