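import Groth.Statements.S8674
-- import your own Groth.Agent.* helpers here
import Groth.Agent.Lib.Mero.ZeroDiv
import Groth.Agent.Lib.Snapper.Positive
import Groth.Agent.Lib.Ample.Criterion
import Groth.Agent.Lib.QCohTwist9.Basic
import Groth.Agent.Lib.ParaPair.Pair
import Groth.Agent.Lib.Kodaira.Tensor
import Groth.Agent.Lib.OX.TensorAssoc

set_option autoImplicit false
universe v u
open CategoryTheory CategoryTheory.Limits AlgebraicGeometry
attribute [local instance] HasDerivedCategory.standard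
open KRR

open CategoryTheory CategoryTheory.Limits AlgebraicGeometry TopologicalSpace GrothLib
open GrothLib.InvExt (mres IsGen)
open GrothLib.Mero.Zero (gsecOf gsecOf_mres)
open GrothLib.Ample (Cocycle)

namespace GrothAux.S8674

variable {X : Scheme.{u}}

theorem genLocus_le_comp {M N : X.Modules} (s : Coh.structureModule X ⟶ M) (e : M ≅ N) :
    CohB1.genLocus M s ≤ CohB1.genLocus N (s ≫ e.hom) :=
  sSup_le fun U hU => le_sSup (show IsIso ((Scheme.Modules.restrictFunctor U.ι).map (s ≫ e.hom)) by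
    have : IsIso ((Scheme.Modules.restrictFunctor U.ι).map s) := hU
    rw [Functor.map_comp]; infer_instance)

theorem genLocus_comp {M N : X.Modules} (s : Coh.structureModule X ⟶ M) (e : M ≅ N) :
    CohB1.genLocus N (s ≫ e.hom) = CohB1.genLocus M s := by
  refine le_antisymm ?_ (genLocus_le_comp s e)
  have := genLocus_le_comp (s ≫ e.hom) e.symm
  simpa using this

theorem exists_chart {L : X.Modules} (hL : PicF.IsInvertible L) (s : Coh.structureModule X ⟶ L) (x : X) :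
    ∃ (U : X.Opens) (e : Γ(L, U)) (c : Γ(X, U)), x ∈ U ∧ IsGen L U e ∧ gsecOf s U = c • e := by
  obtain ⟨U, e, hx, he⟩ := InvExt.exists_gen_nhd hL x
  obtain ⟨c, hc⟩ := he.exists_smul_eq le_rfl (gsecOf s U)
  exact ⟨U, e, c, hx, he, by rw [hc, InvExt.mres_self]⟩

theorem genLocus_tmul {M N : X.Modules} (hM : PicF.IsInvertible M) (hN : PicF.IsInvertible N)
    (a : Coh.structureModule X ⟶ M) (b : Coh.structureModule X ⟶ N) (x : X) :
    x ∈ CohB1.genLocus _ (SecTwist.tmulHom a b) ↔ x ∈ CohB1.genLocus M a ∧ x ∈ CohB1.genLocus N b := by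
  obtain ⟨U1, e1, c1, hx1, he1, hc1⟩ := exists_chart hM a x
  obtain ⟨U2, e2, c2, hx2, he2, hc2⟩ := exists_chart hN b x
  let U := U1 ⊓ U2
  have hU1 : U ≤ U1 := inf_le_left
  have hU2 : U ≤ U2 := inf_le_right
  have hx : x ∈ U := ⟨hx1, hx2⟩
  let d1 : Γ(X, U) := InvExt.fres X hU1 c1
  let d2 : Γ(X, U) := InvExt.fres X hU2 c2
  have h1 : gsecOf a U = d1 • mres M hU1 e1 := by rw [← gsecOf_mres a hU1, hc1, InvExt.mres_smul]
  have h2 : gsecOf b U = d2 • mres N hU2 e2 := by rw [← gsecOf_mres b hU2, hc2, InvExt.mres_smul]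
  have h3 : gsecOf (SecTwist.tmulHom a b) U = (d1 * d2) • GrothLib.VA.tm (mres M hU1 e1) (mres N hU2 e2) := by
    refine (SecTwist.val_tmulHom a b U).trans ?_
    change GrothLib.VA.tm (gsecOf a U) (gsecOf b U) = _
    rw [h1, h2, GrothLib.VA.tm_smul_left, GrothLib.VA.tm_smul_right, smul_smul]
  rw [QCohTwist9.mem_genLocus_iff _ (VA.isGen_tm (he1.restrict hU1) (he2.restrict hU2)) h3 hx,
    QCohTwist9.mem_genLocus_iff _ (he1.restrict hU1) h1 hx, QCohTwist9.mem_genLocus_iff _ (he2.restrict hU2) h2 hx,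
    map_mul, IsUnit.mul_iff]

/-- A sum generates where exactly one summand does. -/
theorem exists_sum {L : X.Modules} (hL : PicF.IsInvertible L) (P : Finset X) (y : X → (Coh.structureModule X ⟶ L)) :
    ∃ s : Coh.structureModule X ⟶ L, ∀ π ∈ P, π ∈ CohB1.genLocus L (y π) →
      (∀ z ∈ P, z ≠ π → π ∉ CohB1.genLocus L (y z)) → π ∈ CohB1.genLocus L s := by
  classical
  obtain ⟨s, hs⟩ := (ParaPair.eval_top_bijective L).2 (∑ z ∈ P, gsecOf (y z) ⊤)
  refine ⟨s, fun π hπ h1 h2 => ?_⟩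
  obtain ⟨U, e, hxU, he⟩ := InvExt.exists_gen_nhd hL π
  choose c hc using fun z => he.exists_smul_eq le_rfl (gsecOf (y z) U)
  have hc' : ∀ z, gsecOf (y z) U = c z • e := fun z => by rw [hc z, InvExt.mres_self]
  have hsU : gsecOf s U = (∑ z ∈ P, c z) • e := by
    rw [← gsecOf_mres s le_top, show gsecOf s ⊤ = ∑ z ∈ P, gsecOf (y z) ⊤ from hs, Finset.sum_smul]
    show (L.presheaf.map (homOfLE (le_top : U ≤ ⊤)).op).hom _ = _
    rw [map_sum]
    refine Finset.sum_congr rfl fun z _ => ?_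
    show mres L le_top (gsecOf (y z) ⊤) = _
    rw [gsecOf_mres, hc' z]
  rw [QCohTwist9.mem_genLocus_iff (y π) he (hc' π) hxU] at h1
  rw [QCohTwist9.mem_genLocus_iff s he hsU hxU, map_sum, ← Finset.add_sum_erase _ _ hπ]
  have hrest : ∑ z ∈ P.erase π, X.presheaf.germ U π hxU (c z) ∈ IsLocalRing.maximalIdeal (X.presheaf.stalk π) :=
    Ideal.sum_mem _ fun z hz => by
      obtain ⟨hne, hzP⟩ := Finset.mem_erase.1 hz
      have := h2 z hzP hne
      rw [QCohTwist9.mem_genLocus_iff (y z) he (hc' z) hxU] at this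
      exact (IsLocalRing.mem_maximalIdeal _).2 this
  by_contra hu
  exact IsLocalRing.notMem_maximalIdeal.2 h1 ((Submodule.add_mem_iff_left _ hrest).1 ((IsLocalRing.mem_maximalIdeal _).2 hu))

end GrothAux.S8674

namespace Groth.Agent.S8674

/-- Let X be a Noetherian scheme with an ample invertible O_X-module L, E an invertible O_X-module and
x_1, …, x_k finitely many points of X. Then there is an integer n such that for every k ≥ 1 there is
a global section s : O_X ⟶ E ⊗ L^{⊗ kn} which is a basis of E ⊗ L^{⊗ kn} at every x_i (each x_i lies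
in the largest open over which s is an isomorphism). -/
theorem result (X : Scheme.{u}) [IsNoetherian X] (L : X.Modules) (hL : CohB1.IsAmple L)
    (E : X.Modules) (hE : PicF.IsInvertible E) (ι : Type) [Finite ι] (x : ι → ↥X) :
    ∃ n : ℕ, ∀ k : ℕ, 1 ≤ k → ∃ s : Coh.structureModule X ⟶ CohB1.tensorMod E (CohB1.tensorPow L (k * n)),
      ∀ i : ι, x i ∈ CohB1.genLocus (CohB1.tensorMod E (CohB1.tensorPow L (k * n))) s := by
  open GrothAux.S8674 in
  classical
  haveI := hL.2.1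
  haveI : Fintype ι := Fintype.ofFinite ι
  obtain ⟨c, ⟨eL⟩⟩ := Ample.exists_cocycle hL.1
  obtain ⟨d, ⟨eE⟩⟩ := Ample.exists_cocycle hE
  have hc := ((c.isAmple_iff eL).mp hL).2
  obtain ⟨j₀, hj₀⟩ := c.eventually_isGenerated d hc
  let T : Finset X := Finset.univ.image x
  let P := T.filter fun η => ∀ η' ∈ T, η ⤳ η' → η' = η
  have hP : ∀ η ∈ T, ∃ π ∈ P, η ⤳ π := by
    intro η hη
    obtain ⟨π, hπ, hmin⟩ := (T.filter fun z => η ⤳ z).exists_min_image
      (fun x => (T.filter fun z => x ⤳ z).card) ⟨η, Finset.mem_filter.2 ⟨hη, specializes_rfl⟩⟩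
    obtain ⟨hπT, hηπ⟩ := Finset.mem_filter.1 hπ
    refine ⟨π, Finset.mem_filter.2 ⟨hπT, fun z hz hπz => ?_⟩, hηπ⟩
    by_contra hne
    have hle := hmin z (Finset.mem_filter.2 ⟨hz, hηπ.trans hπz⟩)
    refine absurd hle (not_le.2 (Finset.card_lt_card ⟨fun y hy => ?_, fun hsub => hne ?_⟩))
    · simp only [Finset.mem_filter] at hy ⊢
      exact ⟨hy.1, hπz.trans hy.2⟩
    · have := Finset.mem_filter.1 (hsub (Finset.mem_filter.2 ⟨hπT, specializes_rfl⟩))
      exact (this.2.antisymm hπz).eq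
  have hw : ∀ η ∈ P, ∃ (e : ℕ) (w : c.sect (e + 1) ⊤), η ∈ c.locus w ∧ ∀ η' ∈ P, η' ≠ η → η' ∉ c.locus w := by
    intro η hη
    let C : Set X := ⋃ η' ∈ P.erase η, closure {η'}
    have hC : IsClosed C := isClosed_biUnion_finset fun _ _ => isClosed_closure
    have hηC : η ∉ C := fun hmem => by
      obtain ⟨η', hη', hcl⟩ := Set.mem_iUnion₂.1 hmem
      obtain ⟨hne, hη'P⟩ := Finset.mem_erase.1 hη'
      exact hne ((Finset.mem_filter.1 hη'P).2 η (Finset.mem_filter.1 hη).1 (specializes_iff_mem_closure.2 hcl)).symm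
    obtain ⟨e, w, h1, h2, -⟩ := c.exists_affine_locus_le hc (O := ⟨Cᶜ, hC.isOpen_compl⟩) hηC
    exact ⟨e, w, h1, fun η' hη' hne hmem => h2 hmem
      (Set.mem_iUnion₂.2 ⟨η', Finset.mem_erase.2 ⟨hne, hη'⟩, subset_closure rfl⟩)⟩
  choose! e w hw₁ hw₂ using hw
  let D : ℕ := ∏ η ∈ P, (e η + 1)
  have hD : 0 < D := Finset.prod_pos fun η _ => Nat.succ_pos _
  refine ⟨D + j₀, fun k hk => ?_⟩
  set m := k * (D + j₀) with hm
  have hmle : D + j₀ ≤ m := Nat.le_mul_of_pos_left _ hk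
  let M := CohB1.tensorMod E (CohB1.tensorPow L m)
  have hM : PicF.IsInvertible M := by
    obtain ⟨p⟩ := c.nonempty_tensorPow_iso_pow eL m
    obtain ⟨q⟩ := (c.pow m).nonempty_tensor_prod d 1
    exact ParaPair.isInvertible_of_iso (Ample.LineData.tensorModMapIso eE p ≪≫ GrTilde.tensorModComm _ _ ≪≫ q)
      (((c.pow m).prod d).isInvertible_twist 1)
  have hy : ∀ η ∈ P, ∃ y : Coh.structureModule X ⟶ M, η ∈ CohB1.genLocus M y ∧
      ∀ η' ∈ P, η' ≠ η → η' ∉ CohB1.genLocus M y := by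
    intro η hη
    obtain ⟨r, hr⟩ : e η + 1 ∣ D := Finset.dvd_prod_of_mem _ hη
    have hr0 : 0 < r := by
      rcases Nat.eq_zero_or_pos r with h | h
      · simp [h] at hr; omega
      · exact h
    obtain ⟨B, hB⟩ := hj₀ (m - D) (by omega) η
    let Tc := (c.pow (m - D)).prod d
    obtain ⟨pj⟩ := c.nonempty_tensorPow_iso_pow eL (m - D)
    obtain ⟨q⟩ := (c.pow (m - D)).nonempty_tensor_prod d 1
    let eA : Tc.twist 1 ≅ CohB1.tensorMod E (CohB1.tensorPow L (m - D)) :=
      q.symm ≪≫ GrTilde.tensorModComm _ _ ≪≫ Ample.LineData.tensorModMapIso eE.symm pj.symm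
    let σ := Tc.hom B ≫ eA.hom
    have hA : PicF.IsInvertible (CohB1.tensorMod E (CohB1.tensorPow L (m - D))) :=
      ParaPair.isInvertible_of_iso eA.symm (Tc.isInvertible_twist 1)
    obtain ⟨pD⟩ := c.nonempty_tensorPow_iso eL D
    let a0 := c.sectCast (show (e η + 1) * r = D by omega) (c.sectPow (w η) r)
    let a := c.hom a0 ≫ pD.inv
    have hB' : PicF.IsInvertible (CohB1.tensorPow L D) := ParaPair.isInvertible_of_iso pD (c.isInvertible_twist D)
    obtain ⟨padd⟩ := Snapper.nonempty_tensorPow_add L (m - D) D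
    let eM : CohB1.tensorMod (CohB1.tensorMod E (CohB1.tensorPow L (m - D))) (CohB1.tensorPow L D) ≅ M :=
      OX.tensorAssoc _ _ _ ≪≫ Ample.LineData.tensorModMapIso (Iso.refl E) padd.symm ≪≫
        eqToIso (by rw [show m - D + D = m by omega])
    refine ⟨SecTwist.tmulHom σ a ≫ eM.hom, ?_, fun η' hη' hne hmem => ?_⟩
    · rw [genLocus_comp, genLocus_tmul hA hB', genLocus_comp (Tc.hom B) eA, Tc.genLocus_hom]
      refine ⟨hB, ?_⟩
      show η ∈ CohB1.genLocus _ (c.hom a0 ≫ pD.symm.hom)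
      rw [genLocus_comp, c.genLocus_hom, c.locus_sectCast, c.locus_sectPow _ hr0]
      exact hw₁ η hη
    · rw [genLocus_comp, genLocus_tmul hA hB'] at hmem
      have h2 : η' ∈ CohB1.genLocus _ (c.hom a0 ≫ pD.symm.hom) := hmem.2
      rw [genLocus_comp, c.genLocus_hom, c.locus_sectCast, c.locus_sectPow _ hr0] at h2
      exact hw₂ η hη η' hη' hne h2
  choose! y hy₁ hy₂ using hy
  obtain ⟨s, hs⟩ := exists_sum hM P y
  refine ⟨s, fun i => ?_⟩
  obtain ⟨π, hπ, hsp⟩ := hP (x i) (Finset.mem_image_of_mem _ (Finset.mem_univ i))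
  exact hsp.mem_open (CohB1.genLocus M s).2 (hs π hπ (hy₁ π hπ) fun z hz hne => hy₂ z hz π hπ (Ne.symm hne))

end Groth.Agent.S8674
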