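import Groth.Statements.S8678
import Groth.Agent.Lib.Lambda.Basic

set_option autoImplicit false
universe u
open Finset
open LambdaRing

namespace Groth.Agent.S8678

/-- As the identity it proves in the pre-λ-ring K(Y') of the exceptional divisor: let K be a pre-λ-ring
(λ^0 = 1, λ^1 = id, additive formula) with λ^k(1) = 0 for all k ≥ 2, let d ≥ 2, and let F, L, N' ∈ K
satisfy λ^j(L) = 0 for j ≥ 2 (L is the class of an invertible module), λ^i(N') = 0 for i ≥ d − 1 (N'
is the class of a bundle of rank d − 2) and F + L = N' + 2 (for the blowing up of a regular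
immersion of codimension d: on the exceptional divisor the pulled-back conormal class is F + L, and
N = N' + 2). Then 1 − L divides λ_{−1}(F) = Σ_{i<d} (−1)^i λ^i(F). (The published proof uses only
additivity of λ_t and λ_t(1) = 1 + t, the hypotheses taken here.) -/
theorem result (K : Type u) [CommRing K] [LambdaRing.LambdaOps K]
    (h1 : ∀ k : ℕ, 2 ≤ k → LambdaRing.LambdaOps.lam k (1 : K) = 0) (d : ℕ) (hd : 2 ≤ d) (F L N' : K)
    (hL : ∀ j : ℕ, 2 ≤ j → LambdaRing.LambdaOps.lam j L = 0) (hN' : ∀ i : ℕ, d - 1 ≤ i → LambdaRing.LambdaOps.lam i N' = 0)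
    (hrel : F + L = N' + 2) :
    (1 - L) ∣ ∑ i ∈ range d, (-1 : K) ^ i * LambdaRing.LambdaOps.lam i F := by
  set q := Ideal.Quotient.mk (Ideal.span {1 - L}) with hq
  have hL1 : q L = 1 := by
    have h : q (1 - L) = 0 :=
      Ideal.Quotient.eq_zero_iff_mem.2 (Ideal.mem_span_singleton.2 dvd_rfl)
    rw [map_sub, map_one, sub_eq_zero] at h
    exact h.symm
  have line : ∀ (u : K), (∀ j, 2 ≤ j → LambdaRing.LambdaOps.lam j u = 0) → ∀ (x : K) (i : ℕ),
      LambdaRing.LambdaOps.lam (i + 1) (x + u) =
        LambdaRing.LambdaOps.lam (i + 1) x + LambdaRing.LambdaOps.lam i x * u := by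
    intro u hu x i
    rw [LambdaRing.LambdaOps.lam_add, sum_range_succ, sum_range_succ, sum_eq_zero, Nat.sub_self,
      Nat.add_sub_cancel_left, LambdaRing.LambdaOps.lam_zero, LambdaRing.LambdaOps.lam_one]
    · ring
    · intro k hk
      rw [Finset.mem_range] at hk
      rw [hu (i + 1 - k) (by omega), mul_zero]
  have hF : ∀ i, q (LambdaRing.LambdaOps.lam i F) = q (LambdaRing.LambdaOps.lam i (N' + 1)) := by
    intro i
    induction i with
    | zero => simp [LambdaRing.LambdaOps.lam_zero]
    | succ i ih =>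
      have e := congr_arg q (line L hL F i)
      rw [hrel, show N' + 2 = N' + 1 + 1 by ring, line 1 h1, mul_one, map_add, map_add, map_mul,
        hL1, mul_one, ih, add_right_cancel_iff] at e
      exact e.symm
  have key : ∀ m : ℕ, ∑ i ∈ range (m + 1), (-1 : K) ^ i * LambdaRing.LambdaOps.lam i (N' + 1) =
        (-1) ^ m * LambdaRing.LambdaOps.lam m N' := by
    intro m
    induction m with
    | zero => simp [LambdaRing.LambdaOps.lam_zero]
    | succ m ih =>
      rw [sum_range_succ, ih, line 1 h1, pow_succ]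
      ring
  rw [← Ideal.mem_span_singleton, ← Ideal.Quotient.eq_zero_iff_mem]
  obtain ⟨m, rfl⟩ : ∃ m, d = m + 1 := ⟨d - 1, by omega⟩
  rw [map_sum]
  simp only [← hq, map_mul, hF]
  simp only [← map_mul, ← map_sum]
  rw [key m, hN' m (by omega), mul_zero, map_zero]

end Groth.Agent.S8678
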