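import Groth.Statements.S8691
import Groth.Agent.Lib.Lambda.Extract

set_option autoImplicit false
universe u
open Finset
open LambdaRing

namespace Groth.Agent.S8691

/-- Let K be a λ-ring in the strict sense, d a natural number and N ∈ K with λ^i(N) = 0 for every i > d;
put λ_{−1}(N) = Σ_{i=0}^{d} (−1)^i λ^i(N). Then for every p ≥ 1 and every x ∈ K the element λ^p(x ·
λ_{−1}(N)) is divisible by λ_{−1}(N). (The published statement is for the λ-ring generated over the
integers by N and x subject to λ^i(N) = 0 for i > d, a polynomial ring; the divisibility passes to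
any λ-ring along the λ-homomorphism sending the generators to N and x, which is the substituted form
stated here.) The hypotheses hP and hQ, existence of the universal polynomials, are true statements
carried so that the identities of K can be used at every index. -/
theorem result (K : Type u) [CommRing K] [LambdaRing.LambdaOps K]
    (hK : LambdaRing.IsSpecial K)
    (hP : ∀ n : ℕ, ∃ P : MvPolynomial (Fin n ⊕ Fin n) ℤ, LambdaRing.IsMulPoly n P)
    (hQ : ∀ i j : ℕ, ∃ Q : MvPolynomial (Fin (i * j)) ℤ, LambdaRing.IsCompPoly i j Q)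
    (d : ℕ) (N : K) (hN : ∀ i : ℕ, d < i → LambdaRing.LambdaOps.lam i N = 0)
    (p : ℕ) (hp : 1 ≤ p) (x : K) :
    (∑ i ∈ range (d + 1), (-1 : K) ^ i * LambdaRing.LambdaOps.lam i N) ∣
      LambdaRing.LambdaOps.lam p (x * ∑ i ∈ range (d + 1), (-1 : K) ^ i * LambdaRing.LambdaOps.lam i N) := by
  letI : LambdaRing.LambdaOps ℤ := LambdaRing.binomialLambdaOps ℤ
  have hZ : LambdaRing.IsBinomial ℤ := fun _ _ => rfl
  set E := ∑ i ∈ range (d + 1), (-1 : K) ^ i * LambdaRing.LambdaOps.lam i N with hE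
  rcases Nat.eq_zero_or_pos d with rfl | hd
  · have : E = 1 := by simp [hE, LambdaRing.LambdaOps.lam_zero]
    rw [this]
    exact one_dvd _
  obtain ⟨n, rfl⟩ : ∃ n, d = n + 1 := ⟨d - 1, by omega⟩
  obtain ⟨q, rfl⟩ : ∃ q, p = q + 1 := ⟨p - 1, by omega⟩
  let v : Option Unit → K := fun o => o.elim (N - ((n + 1 : ℕ) : K)) fun _ => x
  have hcomm := GrothLib.Lambda.commutes_liftG hZ hK (GrothLib.Lambda.isLambdaAlg_int hZ hK) v
  let g : MvPolynomial (GrothLib.Lambda.GVar (Option Unit)) ℤ := MvPolynomial.X ⟨none, n⟩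
  let Z : MvPolynomial (GrothLib.Lambda.GVar (Option Unit)) ℤ :=
    MvPolynomial.X ⟨some (), 0⟩ * ((-1) ^ (n + 1) * g)
  have hEg : E = (-1) ^ (n + 1) * LambdaRing.gamma (n + 1) (v none) :=
    GrothLib.Lambda.lamAlt_eq_gamma hK.lam_one_eq_zero (n + 1) N
  have hvZ : GrothLib.Lambda.liftG v Z = x * E := by
    simp only [Z, g, map_mul, map_pow, map_neg, map_one, GrothLib.Lambda.liftG_gen,
      GrothLib.Lambda.liftG_X, hEg, Nat.zero_add, GrothLib.Lambda.gamma_one']
    rfl
  have hker : ∀ M : Option Unit → ℕ, M none = n →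
      GrothLib.Lambda.piG M (LambdaRing.LambdaOps.lam (q + 1) Z) = 0 := fun M hM => by
    have hg : GrothLib.Lambda.piG (K := ℤ) M g = 0 :=
      GrothLib.Lambda.piG_X_eq_zero M ⟨none, n⟩ hM.le
    refine ((GrothLib.Lambda.commutes_piG hZ M) (q + 1) Z).trans ?_
    change LambdaRing.LambdaOps.lam (q + 1) (GrothLib.Lambda.piG M Z) = 0
    simp only [Z, map_mul, hg, mul_zero, GrothLib.Lambda.lam_succ_zero]
  obtain ⟨Y, -, hY⟩ := GrothLib.Lambda.exists_eq_gamma_mul none v
    (fun k hk => GrothLib.Lambda.gamma_sub_natCast_eq_zero hK.lam_one_eq_zero hN hk)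
    (GrothLib.Lambda.mem_wtIdeal_zero _) hker
  have hc : GrothLib.Lambda.liftG v (LambdaRing.LambdaOps.lam (q + 1) Z) =
      LambdaRing.LambdaOps.lam (q + 1) (x * E) := (hcomm (q + 1) Z).trans (congr_arg _ hvZ)
  rw [← hc, hY, hEg]
  exact Dvd.dvd.mul_right ((isUnit_one.neg.pow (n + 1)).mul_left_dvd.2 dvd_rfl) _

end Groth.Agent.S8691
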