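import Groth.Statements.S8693
-- import your own Groth.Agent.* helpers here
import Groth.Agent.Lib.ModelK.AmpleElt

set_option autoImplicit false
universe v u
open CategoryTheory CategoryTheory.Limits AlgebraicGeometry
attribute [local instance] HasDerivedCategory.standard
open KRR

namespace Groth.Agent.S8693

/-- Let X be a connected quasi-compact scheme with an ample invertible O_X-module L, (K, P, φ) a model
of the λ-ring K(X) of finite locally free modules with its positive structure (augmentation ε =
rank), and E_1, …, E_k finite locally free O_X-modules. Let R ⊆ K(X) be the subring generated by the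
elements λ^j[E_i] for all i and j, which is the sub-λ-ring generated by the classes [E_i]. Then the
ideal R ∩ Ker ε of R is nilpotent: there is n such that every product of n elements of R of
augmentation zero vanishes; and R is finitely generated as an abelian group. (The published
statement allows X disconnected, with R a module of finite type over R ∩ H^0(X, ℤ), and also asserts
that the λ-ring filtration of R is discrete; this row takes X connected, as the model requires, and
states the nilpotency and the finite generation over the integers.) -/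
theorem result (X : Scheme.{u}) [ConnectedSpace ↥X] (L : X.Modules) (hL : CohB1.IsAmple L)
    (K : Type v) [CommRing K] [LambdaRing.LambdaOps K] (P : LambdaRing.PosStructure K) (φ : SGA6.Kvb X →+ K)
    (hK : KRR.IsModel X K P φ)
    (k : ℕ) (E : Fin k → X.Modules) (hE : ∀ i : Fin k, FlatMod.IsFinLocFree (E i)) :
    (∃ n : ℕ, ∀ f : Fin n → K,
      (∀ t : Fin n, f t ∈ Subring.closure {y : K | ∃ (i : Fin k) (j : ℕ), y = LambdaRing.LambdaOps.lam j (φ (KRR.cl X (E i)))} ∧ P.aug (f t) = 0) →
        ∏ t, f t = 0) ∧
    (Subring.closure {y : K | ∃ (i : Fin k) (j : ℕ), y = LambdaRing.LambdaOps.lam j (φ (KRR.cl X (E i)))}).toAddSubgroup.FG := by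
  choose r hr using fun i => GrothLib.ModelK.exists_rank_connected (hE i)
  set S := {y : K | ∃ (i : Fin k) (j : ℕ), y = LambdaRing.LambdaOps.lam j (φ (KRR.cl X (E i)))} with hS
  have hfin : S.Finite := by
    have hsub : S ⊆ insert 0 (⋃ i : Fin k, (fun j => LambdaRing.LambdaOps.lam j (φ (KRR.cl X (E i)))) ''
        Set.Iic (r i)) := by
      rintro _ ⟨i, j, rfl⟩
      rcases Nat.lt_or_ge (r i) j with hj | hj
      · left
        rcases Nat.eq_zero_or_pos (r i) with h0 | h0
        · rw [show KRR.cl X (E i) = 0 from GrothLib.K0Sub.clSub_isZero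
            (GrothLib.ModelK.isZero_of_rank_zero' (h0 ▸ hr i)), map_zero, GrothLib.Lambda.lam_zero_right,
            if_neg (by omega)]
        · exact P.lam_eq_zero _ ((hK.mem_pos_iff _).2 ⟨r i, E i, h0, hr i, rfl⟩) j
            (by rw [hK.aug_cl _ _ (hr i)]; exact_mod_cast hj)
      · exact Or.inr (Set.mem_iUnion.2 ⟨i, j, hj, rfl⟩)
    exact ((Set.finite_iUnion fun i => (Set.finite_Iic _).image _).insert 0).subset hsub
  have hnil : ∀ g : K, IsNilpotent (g - (P.aug g : K)) := fun g =>
    GrothLib.ModelK.isNilpotent_of_isAmple hK hL (by simp)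
  refine ⟨?_, ?_⟩
  · let J : Ideal K := Ideal.span ((fun g : K => g - (P.aug g : K)) '' S)
    have hJ : IsNilpotent J := by
      refine (Ideal.FG.isNilpotent_iff_le_nilradical
        (Submodule.fg_span (hfin.image _))).2 (Ideal.span_le.2 ?_)
      rintro _ ⟨g, -, rfl⟩
      exact mem_nilradical.2 (hnil g)
    obtain ⟨n, hn⟩ := hJ
    have hmem : ∀ y ∈ Subring.closure S, y - (P.aug y : K) ∈ J := by
      intro y hy
      induction hy using Subring.closure_induction with
      | mem g hg => exact Ideal.subset_span ⟨g, hg, rfl⟩
      | zero => simp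
      | one => simp
      | add a b _ _ ha hb =>
        rw [map_add, Int.cast_add, add_sub_add_comm]
        exact add_mem ha hb
      | neg a _ ha =>
        rw [map_neg, Int.cast_neg, show -a - -((P.aug a : ℤ) : K) = -(a - (P.aug a : K)) by ring]
        exact neg_mem ha
      | mul a b _ _ ha hb =>
        rw [map_mul, Int.cast_mul, show a * b - (P.aug a : K) * (P.aug b : K) =
          a * (b - (P.aug b : K)) + (P.aug b : K) * (a - (P.aug a : K)) by ring]
        exact add_mem (J.mul_mem_left _ hb) (J.mul_mem_left _ ha)
    refine ⟨n, fun f hf => ?_⟩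
    have h : ∏ t, f t ∈ ∏ _t : Fin n, J := Ideal.prod_mem_prod fun t _ => by
      have := hmem _ (hf t).1
      rwa [(hf t).2, Int.cast_zero, sub_zero] at this
    rw [Finset.prod_const, Finset.card_univ, Fintype.card_fin, hn] at h
    exact h
  · have hfg : (Algebra.adjoin ℤ S).toSubmodule.FG := fg_adjoin_of_finite hfin fun g _ => by
      obtain ⟨N, hN⟩ := hnil g
      refine ⟨(Polynomial.X - Polynomial.C (P.aug g)) ^ N, (Polynomial.monic_X_sub_C _).pow N, ?_⟩
      rw [Polynomial.eval₂_pow, Polynomial.eval₂_sub, Polynomial.eval₂_X, Polynomial.eval₂_C]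
      exact hN
    rw [Submodule.fg_iff_addSubgroup_fg] at hfg
    have he : (Algebra.adjoin ℤ S).toSubmodule.toAddSubgroup = (Subring.closure S).toAddSubgroup := by
      ext y
      rw [Algebra.adjoin_int]
      exact Iff.rfl
    rwa [he] at hfg


end Groth.Agent.S8693
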