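import Groth.Statements.S8695
import Groth.Agent.Lib.Lambda.Extract

set_option autoImplicit false
universe u v
open Finset nonZeroDivisors
open LambdaRing

namespace Groth.Agent.S8695

/-- In the case where λ_{−1}(N) is a non-zero-divisor: let K be a binomial ring with its binomial
λ-structure, A a λ-ring in the strict sense which is an augmented K-λ-algebra with augmentation ε,
and Fil^n A the γ-filtration (the ideal generated by products of γ^{i}(z) with ε(z) = 0 of total
weight ≥ n; all of A for n = 0). Let d ≥ 1 and N ∈ A be of rank d, that is λ^k(N) = 0 for all k > d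
and ε(N) = d; put λ_{−1}(N) = Σ_{i ≤ d} (−1)^i λ^i(N), and suppose λ_{−1}(N) is a non-zero-divisor.
Then for p ≥ 1 and x ∈ A, the unique y with y · λ_{−1}(N) = γ^p(x · λ_{−1}(N)) — when it exists —
lies in Fil^{p−d} A. (The published statement is γ^p(N, x) ∈ Fil^{p−d} A for the element γ^p(N, x)
defined by substitution from the universal λ-ring, where it is characterised by γ^p(N, x) ·
λ_{−1}(N) = γ^p(x · λ_{−1}(N)); this row covers the case in which that identity determines the
element, λ_{−1}(N) being a non-zero-divisor. The published statement also omits the condition ε(N) =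
d, which its proof uses when it maps the universal generator to N − d compatibly with the
augmentations; without it N = 0, d = 1, x = 1, p = 2 in the integers gives γ^2(1) = 1 outside Fil^1
= 0, so ε(N) = d is assumed here, as is the standing assumption d ≥ 1.) The hypotheses hP and hQ,
existence of the universal polynomials, are true statements carried so that the identities of A can
be used at every index. -/
theorem result
    (K : Type u) [CommRing K] [LambdaRing.LambdaOps K] [BinomialRing K] (hKb : LambdaRing.IsBinomial K)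
    (hK : LambdaRing.IsSpecial K)
    (A : Type v) [CommRing A] [LambdaRing.LambdaOps A] [Algebra K A] (hA : LambdaRing.IsSpecial A)
    (hP : ∀ n : ℕ, ∃ P : MvPolynomial (Fin n ⊕ Fin n) ℤ, LambdaRing.IsMulPoly n P)
    (hQ : ∀ i j : ℕ, ∃ Q : MvPolynomial (Fin (i * j)) ℤ, LambdaRing.IsCompPoly i j Q)
    (ε : A →ₐ[K] K) (hε : LambdaRing.IsAugLambdaAlg K A ε)
    (d : ℕ) (hd : 1 ≤ d) (N : A) (hN : ∀ k : ℕ, d < k → LambdaRing.LambdaOps.lam k N = 0) (hNε : ε N = (d : K))
    (hnzd : (∑ j ∈ range (d + 1), (-1 : A) ^ j * LambdaRing.LambdaOps.lam j N) ∈ A⁰)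
    (p : ℕ) (hp : 1 ≤ p) (x y : A)
    (hy : y * (∑ j ∈ range (d + 1), (-1 : A) ^ j * LambdaRing.LambdaOps.lam j N) = LambdaRing.gamma p (x * (∑ j ∈ range (d + 1), (-1 : A) ^ j * LambdaRing.LambdaOps.lam j N))) :
    y ∈ LambdaRing.gammaFil (ε : A →+* K) (p - d) := by
  obtain ⟨n, rfl⟩ : ∃ n, d = n + 1 := ⟨d - 1, by omega⟩
  set E := ∑ j ∈ range (n + 1 + 1), (-1 : A) ^ j * LambdaRing.LambdaOps.lam j N with hE
  let v : Option {a : A // ε a = 0} → A :=
    fun o => o.elim (N - ((n + 1 : ℕ) : A)) fun a => a.1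
  have hv : ∀ o, ε (v o) = 0 := by
    rintro (_ | a)
    · change ε (N - ((n + 1 : ℕ) : A)) = 0
      rw [map_sub, map_natCast, hNε, sub_self]
    · exact a.2
  have hsurj := GrothLib.Lambda.surjective_liftG_of_ker ε v fun a ha => ⟨some ⟨a, ha⟩, rfl⟩
  have hcomm := GrothLib.Lambda.commutes_liftG hKb hA hε.isLambdaAlg v
  let g : MvPolynomial (GrothLib.Lambda.GVar (Option {a : A // ε a = 0})) K :=
    MvPolynomial.X ⟨none, n⟩
  have hg : g ∈ GrothLib.Lambda.gIdeal (n + 1) := GrothLib.Lambda.X_mem_wtIdeal le_rfl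
  have hEg : E = (-1) ^ (n + 1) * LambdaRing.gamma (n + 1) (v none) :=
    GrothLib.Lambda.lamAlt_eq_gamma hA.lam_one_eq_zero (n + 1) N
  have hsgn : ((-1 : A) ^ (n + 1)) * (-1) ^ (n + 1) = 1 := by
    rw [← mul_pow, neg_one_mul, neg_neg, one_pow]
  have hdiv : ∀ (a y : A), a * E = LambdaRing.gamma (n + 1) (v none) * y →
      a = (-1) ^ (n + 1) * y := fun a y ha => by
    refine mul_cancel_right_mem_nonZeroDivisors hnzd |>.1 (ha.trans ?_)
    change _ = _ * E
    rw [hEg, show (-1 : A) ^ (n + 1) * y * ((-1) ^ (n + 1) * LambdaRing.gamma (n + 1) (v none)) =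
      (-1 : A) ^ (n + 1) * (-1) ^ (n + 1) * (LambdaRing.gamma (n + 1) (v none) * y) by ring,
      hsgn, one_mul]
  obtain ⟨X, rfl⟩ := hsurj x
  let Z := X * ((-1) ^ (n + 1) * g)
  have hvZ : GrothLib.Lambda.liftG v Z = GrothLib.Lambda.liftG v X * E := by
    simp only [Z, g, map_mul, map_pow, map_neg, map_one, GrothLib.Lambda.liftG_X, hEg]
  have hZ1 : Z ∈ GrothLib.Lambda.gIdeal 1 :=
    GrothLib.Lambda.wtIdeal_mono (by omega) (Ideal.mul_mem_left _ _ (Ideal.mul_mem_left _ _ hg))
  have hker : ∀ M, M none = n →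
      GrothLib.Lambda.piG M (LambdaRing.gamma p Z) = 0 := fun M hM => by
    have hg0 : GrothLib.Lambda.piG (K := K) M g = 0 :=
      GrothLib.Lambda.piG_X_eq_zero M ⟨none, n⟩ hM.le
    refine ((GrothLib.Lambda.commutes_piG hKb M).gamma p Z).trans ?_
    change LambdaRing.gamma p (GrothLib.Lambda.piG M Z) = 0
    obtain ⟨r, rfl⟩ : ∃ r, p = r + 1 := ⟨p - 1, by omega⟩
    simp only [Z, map_mul, hg0, mul_zero, GrothLib.Lambda.gamma_succ_zero]
  obtain ⟨Y, hY, hD⟩ := GrothLib.Lambda.exists_eq_gamma_mul none v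
    (fun k hk => GrothLib.Lambda.gamma_sub_natCast_eq_zero hA.lam_one_eq_zero hN hk)
    (GrothLib.Lambda.gamma_mem_gIdeal hKb hZ1 p) hker
  have hc : GrothLib.Lambda.liftG v (LambdaRing.gamma p Z) = y * E :=
    ((hcomm.gamma p Z).trans (congr_arg _ hvZ)).trans hy.symm
  rw [hdiv y _ (hc.symm.trans hD)]
  exact Ideal.mul_mem_left _ _ (GrothLib.Lambda.liftG_mem_gammaFil ε v hv hY)

end Groth.Agent.S8695
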