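import Groth.Statements.S8696
import Groth.Agent.Lib.Lambda.Extract

set_option autoImplicit false
universe u v
open Finset nonZeroDivisors
open LambdaRing

namespace Groth.Agent.S8696

/-- In the case where λ_{−1}(N) is a non-zero-divisor: let K be a binomial ring with its binomial
λ-structure, R a λ-ring in the strict sense which is an augmented K-λ-algebra with augmentation ε
and γ-filtration Fil^n R, d ≥ 1, N ∈ R of rank d (λ^k(N) = 0 for all k > d and ε(N) = d), λ_{−1}(N)
= Σ_{i ≤ d} (−1)^i λ^i(N) a non-zero-divisor, i a natural number and x ∈ Fil^i R. If y ∈ R satisfies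
y · λ_{−1}(N) = γ^{d+i}(x · λ_{−1}(N)), then y − (−1)^{d+i−1} (d+i−1)! · x ∈ Fil^{i+1} R. (The
published statement is about the element γ^{d+i}(N, x) defined by substitution from the universal
λ-ring, characterised there by γ^{q}(N, x) · λ_{−1}(N) = γ^{q}(x · λ_{−1}(N)); this row covers the
case in which that identity determines the element. The published statement also omits ε(N) = d,
which its proof uses when it maps the universal generator to N − d compatibly with the
augmentations; it is assumed here, together with the standing assumption d ≥ 1.) The hypotheses hP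
and hQ, existence of the universal polynomials, are true statements carried so that the identities
of R can be used at every index. -/
theorem result
    (K : Type u) [CommRing K] [LambdaRing.LambdaOps K] [BinomialRing K] (hKb : LambdaRing.IsBinomial K)
    (hK : LambdaRing.IsSpecial K)
    (A : Type v) [CommRing A] [LambdaRing.LambdaOps A] [Algebra K A] (hA : LambdaRing.IsSpecial A)
    (hP : ∀ n : ℕ, ∃ P : MvPolynomial (Fin n ⊕ Fin n) ℤ, LambdaRing.IsMulPoly n P)
    (hQ : ∀ i j : ℕ, ∃ Q : MvPolynomial (Fin (i * j)) ℤ, LambdaRing.IsCompPoly i j Q)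
    (ε : A →ₐ[K] K) (hε : LambdaRing.IsAugLambdaAlg K A ε)
    (d : ℕ) (hd : 1 ≤ d) (N : A) (hN : ∀ k : ℕ, d < k → LambdaRing.LambdaOps.lam k N = 0) (hNε : ε N = (d : K))
    (hnzd : (∑ j ∈ range (d + 1), (-1 : A) ^ j * LambdaRing.LambdaOps.lam j N) ∈ A⁰)
    (i : ℕ) (x : A) (hx : x ∈ LambdaRing.gammaFil (ε : A →+* K) i) (y : A)
    (hy : y * (∑ j ∈ range (d + 1), (-1 : A) ^ j * LambdaRing.LambdaOps.lam j N) = LambdaRing.gamma (d + i) (x * (∑ j ∈ range (d + 1), (-1 : A) ^ j * LambdaRing.LambdaOps.lam j N))) :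
    y - (-1 : A) ^ (d + i - 1) * ((d + i - 1).factorial : A) * x ∈ LambdaRing.gammaFil (ε : A →+* K) (i + 1) := by
  obtain ⟨n, rfl⟩ : ∃ n, d = n + 1 := ⟨d - 1, by omega⟩
  set E := ∑ j ∈ range (n + 1 + 1), (-1 : A) ^ j * LambdaRing.LambdaOps.lam j N with hE
  let v : Option {a : A // ε a = 0} → A :=
    fun o => o.elim (N - ((n + 1 : ℕ) : A)) fun a => a.1
  have hv : ∀ o, ε (v o) = 0 := by
    rintro (_ | a)
    · change ε (N - ((n + 1 : ℕ) : A)) = 0
      rw [map_sub, map_natCast, hNε, sub_self]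
    · exact a.2
  have hsurj := GrothLib.Lambda.surjective_liftG_of_ker ε v fun a ha => ⟨some ⟨a, ha⟩, rfl⟩
  have hcomm := GrothLib.Lambda.commutes_liftG hKb hA hε.isLambdaAlg v
  let g : MvPolynomial (GrothLib.Lambda.GVar (Option {a : A // ε a = 0})) K :=
    MvPolynomial.X ⟨none, n⟩
  have hg : g ∈ GrothLib.Lambda.gIdeal (n + 1) := GrothLib.Lambda.X_mem_wtIdeal le_rfl
  have hEg : E = (-1) ^ (n + 1) * LambdaRing.gamma (n + 1) (v none) :=
    GrothLib.Lambda.lamAlt_eq_gamma hA.lam_one_eq_zero (n + 1) N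
  have hsgn : ((-1 : A) ^ (n + 1)) * (-1) ^ (n + 1) = 1 := by
    rw [← mul_pow, neg_one_mul, neg_neg, one_pow]
  have hdiv : ∀ (a y : A), a * E = LambdaRing.gamma (n + 1) (v none) * y →
      a = (-1) ^ (n + 1) * y := fun a y ha => by
    refine mul_cancel_right_mem_nonZeroDivisors hnzd |>.1 (ha.trans ?_)
    change _ = _ * E
    rw [hEg, show (-1 : A) ^ (n + 1) * y * ((-1) ^ (n + 1) * LambdaRing.gamma (n + 1) (v none)) =
      (-1 : A) ^ (n + 1) * (-1) ^ (n + 1) * (LambdaRing.gamma (n + 1) (v none) * y) by ring,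
      hsgn, one_mul]
  rw [GrothLib.Lambda.gammaFil_eq_map ε v hKb hA hε hv hsurj] at hx
  obtain ⟨X, hX, rfl⟩ := (Ideal.mem_map_iff_of_surjective _ hsurj).1 hx
  let Z := X * ((-1) ^ (n + 1) * g)
  have hvZ : GrothLib.Lambda.liftG v Z = GrothLib.Lambda.liftG v X * E := by
    simp only [Z, g, map_mul, map_pow, map_neg, map_one, GrothLib.Lambda.liftG_X, hEg]
  have hq : n + 1 + i = (n + i) + 1 := by omega
  have hZ : Z ∈ GrothLib.Lambda.gIdeal (n + i + 1) :=
    GrothLib.Lambda.wtIdeal_mono (by omega)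
      (GrothLib.Lambda.mul_mem_wtIdeal hX (Ideal.mul_mem_left _ _ hg))
  rw [hq] at hy ⊢
  rw [Nat.add_sub_cancel]
  have hker : ∀ M, M none = n → GrothLib.Lambda.piG M (LambdaRing.gamma (n + i + 1) Z -
      (-1) ^ (n + i) * ((n + i).factorial : MvPolynomial (GrothLib.Lambda.GVar (Option {a : A // ε a = 0})) K) * Z) = 0 := fun M hM => by
    have hg0 : GrothLib.Lambda.piG (K := K) M g = 0 :=
      GrothLib.Lambda.piG_X_eq_zero M ⟨none, n⟩ hM.le
    have hZ0 : GrothLib.Lambda.piG M Z = 0 := by simp only [Z, map_mul, hg0, mul_zero]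
    have e : GrothLib.Lambda.piG M (LambdaRing.gamma (n + i + 1) Z) =
        LambdaRing.gamma (n + i + 1) (GrothLib.Lambda.piG M Z) :=
      (GrothLib.Lambda.commutes_piG hKb M).gamma _ Z
    rw [map_sub, map_mul, e, hZ0, mul_zero, GrothLib.Lambda.gamma_succ_zero, sub_self]
  obtain ⟨Y, hY, hD⟩ := GrothLib.Lambda.exists_eq_gamma_mul none v
    (fun k hk => GrothLib.Lambda.gamma_sub_natCast_eq_zero hA.lam_one_eq_zero hN hk)
    (GrothLib.Lambda.gamma_congr_gIdeal hKb hZ) hker
  have hc : GrothLib.Lambda.liftG v (LambdaRing.gamma (n + i + 1) Z) = y * E :=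
    ((hcomm.gamma _ Z).trans (congr_arg _ hvZ)).trans hy.symm
  simp only [map_sub, map_mul, map_pow, map_neg, map_one, map_natCast, hc, hvZ] at hD
  rw [hdiv (y - _) _ (by rw [← hD]; ring)]
  exact Ideal.mul_mem_left _ _ (GrothLib.Lambda.gammaFil_antitone (by omega)
    (GrothLib.Lambda.liftG_mem_gammaFil ε v hv hY))

end Groth.Agent.S8696
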