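import Groth.Statements.S8697
import Groth.Agent.Lib.Lambda.Extract

set_option autoImplicit false
universe u v
open Finset
open LambdaRing

namespace Groth.Agent.S8697

/-- Let K be a binomial ring with its binomial λ-structure and B a λ-ring in the strict sense which is
an augmented K-λ-algebra with augmentation ε. Let x ∈ B satisfy ε(x) = 0 and γ^k(x) = 0 for every k
> n, and assume that γ^1(x), …, γ^n(x) are algebraically independent over K and generate B as a
K-algebra — so B is the K-λ-algebra generated by one element subject to the relations γ^k = 0 for k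
> n, a polynomial ring K[γ^1 x, …, γ^n x]. Then for every k, the k-th ideal Fil^k B of the
γ-filtration (generated by the products of γ^{i}(z), ε(z) = 0, of total weight ≥ k) is the ideal
generated by the monomials ∏_j (γ^j x)^{e_j} with Σ_j j·e_j ≥ k: the λ-ring filtration is the
filtration by the weight in the γ^j x. (With λ in place of γ — relations λ^k x = 0 for k > n and
weights in the λ^j x — the assertion fails already for n = 1, where γ^i(x) = x for all i ≥ 1 puts x
in every Fil^k while x is not in the ideal (x²); the form with γ stated here is the one the proof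
establishes.) The hypotheses hP and hQ, existence of the universal polynomials, are true statements
carried so that the identities of B can be used at every index. -/
theorem result
    (K : Type u) [CommRing K] [LambdaRing.LambdaOps K] [BinomialRing K] (hKb : LambdaRing.IsBinomial K)
    (hK : LambdaRing.IsSpecial K)
    (B : Type v) [CommRing B] [LambdaRing.LambdaOps B] [Algebra K B] (hB : LambdaRing.IsSpecial B)
    (hP : ∀ n : ℕ, ∃ P : MvPolynomial (Fin n ⊕ Fin n) ℤ, LambdaRing.IsMulPoly n P)
    (hQ : ∀ i j : ℕ, ∃ Q : MvPolynomial (Fin (i * j)) ℤ, LambdaRing.IsCompPoly i j Q)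
    (ε : B →ₐ[K] K) (hε : LambdaRing.IsAugLambdaAlg K B ε)
    (n : ℕ) (x : B) (hx : ε x = 0) (hγ : ∀ k : ℕ, n < k → LambdaRing.gamma k x = 0)
    (hind : AlgebraicIndependent K (fun j : Fin n => LambdaRing.gamma ((j : ℕ) + 1) x))
    (hgen : Algebra.adjoin K (Set.range fun j : Fin n => LambdaRing.gamma ((j : ℕ) + 1) x) = ⊤)
    (k : ℕ) :
    LambdaRing.gammaFil (ε : B →+* K) k =
      Ideal.span {m : B | ∃ e : Fin n → ℕ, k ≤ ∑ j : Fin n, ((j : ℕ) + 1) * e j ∧
        m = ∏ j : Fin n, LambdaRing.gamma ((j : ℕ) + 1) x ^ e j} := by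
  let v : Unit → B := fun _ => x
  set I : ℕ → Ideal B := fun k => Ideal.span {m : B | ∃ e : Fin n → ℕ,
    k ≤ ∑ j : Fin n, ((j : ℕ) + 1) * e j ∧
    m = ∏ j : Fin n, LambdaRing.gamma ((j : ℕ) + 1) x ^ e j} with hI
  have hsurj : Function.Surjective (GrothLib.Lambda.liftG (K := K) v) := fun b => by
    have hb : b ∈ Algebra.adjoin K (Set.range fun j : Fin n => LambdaRing.gamma ((j : ℕ) + 1) x) :=
      hgen ▸ Algebra.mem_top
    refine (Algebra.adjoin_le (S := (GrothLib.Lambda.liftG (K := K) v).range) ?_ hb)
    rintro _ ⟨j, rfl⟩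
    exact ⟨MvPolynomial.X ⟨(), j⟩, GrothLib.Lambda.liftG_X v _⟩
  refine le_antisymm ?_ (Ideal.span_le.2 ?_)
  · rw [GrothLib.Lambda.gammaFil_eq_map ε v hKb hB hε (fun _ => hx) hsurj]
    refine Ideal.map_le_iff_le_comap.2 fun p hp => ?_
    change GrothLib.Lambda.liftG v p ∈ I k
    refine GrothLib.Lambda.liftG_mem_of_family v I ?_ ?_ ?_ ?_ hp
    · exact Ideal.subset_span ⟨0, Nat.zero_le _, by simp⟩
    · exact fun a b hab => Ideal.span_mono fun m ⟨e, he, hm⟩ => ⟨e, hab.trans he, hm⟩
    · intro a b y z hy hz
      have hle : I a * I b ≤ I (a + b) := by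
        simp only [hI, Ideal.span_mul_span']
        refine Ideal.span_mono ?_
        rintro _ ⟨_, ⟨e, he, rfl⟩, _, ⟨f, hf, rfl⟩, rfl⟩
        refine ⟨e + f, ?_, ?_⟩
        · simp only [Pi.add_apply, mul_add, Finset.sum_add_distrib]; omega
        · simp only [Pi.add_apply, pow_add, Finset.prod_mul_distrib]
      exact hle (Ideal.mul_mem_mul hy hz)
    · intro _ r
      by_cases hr : r < n
      · refine Ideal.subset_span ⟨Pi.single ⟨r, hr⟩ 1, ?_, ?_⟩
        · rw [Finset.sum_eq_single_of_mem ⟨r, hr⟩ (Finset.mem_univ _) fun j _ hj => by simp [hj]]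
          simp
        · rw [Finset.prod_eq_single_of_mem ⟨r, hr⟩ (Finset.mem_univ _) fun j _ hj => by simp [hj]]
          simp [v]
      · rw [show LambdaRing.gamma (r + 1) (v ()) = 0 from hγ _ (by omega)]
        exact zero_mem _
  · rintro _ ⟨e, he, rfl⟩
    refine GrothLib.Lambda.gammaFil_antitone he ?_
    have key : ∀ s : Finset (Fin n), ∏ j ∈ s, LambdaRing.gamma ((j : ℕ) + 1) x ^ e j ∈
        LambdaRing.gammaFil (ε : B →+* K) (∑ j ∈ s, ((j : ℕ) + 1) * e j) := by
      intro s
      induction s using Finset.induction with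
      | empty => simp [GrothLib.Lambda.gammaFil_zero]
      | insert a s ha ih =>
        rw [Finset.prod_insert ha, Finset.sum_insert ha]
        refine GrothLib.Lambda.mul_mem_gammaFil ?_ ih
        clear ih
        induction e a with
        | zero => simp [GrothLib.Lambda.gammaFil_zero]
        | succ m ihm =>
          rw [pow_succ, Nat.mul_succ]
          exact GrothLib.Lambda.mul_mem_gammaFil ihm
            (GrothLib.Lambda.gamma_mem_gammaFil (ε := (ε : B →+* K)) hx _)
    exact key Finset.univ

end Groth.Agent.S8697
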