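import Groth.Statements.S8698
import Groth.Agent.Lib.Lambda.Extract

set_option autoImplicit false
universe u v w
open Finset
open LambdaRing

namespace Groth.Agent.S8698

/-- Let K be a binomial ring with its binomial λ-structure, A a λ-ring in the strict sense which is an
augmented K-λ-algebra with augmentation ε_A, and B a λ-ring in the strict sense which is at once an
augmented K-λ-algebra with augmentation ε_B and an A-algebra compatibly with the K-structures, the
structure map A → B commuting with the λ^n and ε_B restricting to ε_A on A. Let x ∈ B with ε_B(x) =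
0, and assume that the family (γ^{j+1} x)_{j ∈ ℕ} is algebraically independent over A and generates
B as an A-algebra: B is the free λ-ring A[X, γ^2 X, γ^3 X, …] on one generator over A, augmented by
X ↦ 0. Then for every k the k-th ideal Fil^k B of the γ-filtration of B is the ideal generated by
the products a · m where m = ∏_j (γ^{j+1} x)^{e_j} is a monomial of weight i = Σ_j (j+1) e_j and a
lies in (the image of) Fil^{k−i} A, with Fil^s A = A for s ≤ 0; that is, Fil^k B = Fil^k A +
Fil^{k−1} A·M_1 + ⋯ + Fil^0 A·M_k + (monomials of weight > k), M_i denoting the monomials of weight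
i. The hypotheses hP and hQ, existence of the universal polynomials, are true statements carried so
that the identities of A and B can be used at every index. -/
theorem result
    (K : Type u) [CommRing K] [LambdaRing.LambdaOps K] [BinomialRing K] (hKb : LambdaRing.IsBinomial K)
    (hK : LambdaRing.IsSpecial K)
    (A : Type v) [CommRing A] [LambdaRing.LambdaOps A] [Algebra K A] (hA : LambdaRing.IsSpecial A)
    (εA : A →ₐ[K] K) (hεA : LambdaRing.IsAugLambdaAlg K A εA)
    (B : Type w) [CommRing B] [LambdaRing.LambdaOps B] [Algebra K B] [Algebra A B] [IsScalarTower K A B]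
    (hB : LambdaRing.IsSpecial B) (hAB : LambdaRing.IsLambdaAlg A B)
    (εB : B →ₐ[K] K) (hεB : LambdaRing.IsAugLambdaAlg K B εB) (hεAB : ∀ a : A, εB (algebraMap A B a) = εA a)
    (hP : ∀ n : ℕ, ∃ P : MvPolynomial (Fin n ⊕ Fin n) ℤ, LambdaRing.IsMulPoly n P)
    (hQ : ∀ i j : ℕ, ∃ Q : MvPolynomial (Fin (i * j)) ℤ, LambdaRing.IsCompPoly i j Q)
    (x : B) (hx : εB x = 0)
    (hind : AlgebraicIndependent A (fun j : ℕ => LambdaRing.gamma (j + 1) x))
    (hgen : Algebra.adjoin A (Set.range fun j : ℕ => LambdaRing.gamma (j + 1) x) = ⊤)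
    (k : ℕ) :
    LambdaRing.gammaFil (εB : B →+* K) k =
      Ideal.span {b : B | ∃ (e : ℕ →₀ ℕ) (a : A),
        a ∈ LambdaRing.gammaFil (εA : A →+* K) (k - e.sum fun j n => (j + 1) * n) ∧
        b = algebraMap A B a * e.prod fun j n => LambdaRing.gamma (j + 1) x ^ n} := by
  let v : {a : A // εA a = 0} ⊕ Unit → B := Sum.elim (fun a => algebraMap A B a.1) fun _ => x
  have hv : ∀ i, εB (v i) = 0 := by
    rintro (a | u)
    · exact (hεAB _).trans a.2
    · exact hx
  set wt : (ℕ →₀ ℕ) → ℕ := fun e => e.sum fun j n => (j + 1) * n with hwt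
  set mon : (ℕ →₀ ℕ) → B := fun e => e.prod fun j n => LambdaRing.gamma (j + 1) x ^ n with hmon
  have wt_add : ∀ e f, wt (e + f) = wt e + wt f := fun e f =>
    Finsupp.sum_add_index' (fun j => by simp) (fun j a b => by ring)
  have mon_add : ∀ e f, mon (e + f) = mon e * mon f := fun e f =>
    Finsupp.prod_add_index' (fun j => by simp) (fun j a b => by simp [pow_add])
  set I : ℕ → Ideal B := fun k => Ideal.span {b : B | ∃ (e : ℕ →₀ ℕ) (a : A),
    a ∈ LambdaRing.gammaFil (εA : A →+* K) (k - wt e) ∧ b = algebraMap A B a * mon e} with hI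
  have hsurj : Function.Surjective (GrothLib.Lambda.liftG (K := K) v) := by
    intro b
    have hb : b ∈ Algebra.adjoin A (Set.range fun j : ℕ => LambdaRing.gamma (j + 1) x) :=
      hgen ▸ Algebra.mem_top
    induction hb using Algebra.adjoin_induction with
    | mem b hb =>
      obtain ⟨j, rfl⟩ := hb
      exact ⟨MvPolynomial.X ⟨Sum.inr (), j⟩, GrothLib.Lambda.liftG_X v _⟩
    | algebraMap a =>
      refine ⟨MvPolynomial.C (εA a) +
        MvPolynomial.X ⟨Sum.inl ⟨a - algebraMap K A (εA a), by simp⟩, 0⟩, ?_⟩
      rw [map_add, GrothLib.Lambda.liftG_gen, ← MvPolynomial.algebraMap_eq, AlgHom.commutes,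
        IsScalarTower.algebraMap_apply K A B]
      simp [v]
    | add p q _ _ hp hq =>
      obtain ⟨P, rfl⟩ := hp
      obtain ⟨Q, rfl⟩ := hq
      exact ⟨P + Q, map_add _ P Q⟩
    | mul p q _ _ hp hq =>
      obtain ⟨P, rfl⟩ := hp
      obtain ⟨Q, rfl⟩ := hq
      exact ⟨P * Q, map_mul _ P Q⟩
  have hone : ∀ k, (k = 0 → (1 : A) ∈ LambdaRing.gammaFil (εA : A →+* K) k) := by
    rintro k rfl
    simp [GrothLib.Lambda.gammaFil_zero]
  change LambdaRing.gammaFil (εB : B →+* K) k = I k
  refine le_antisymm ?_ (Ideal.span_le.2 ?_)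
  · rw [GrothLib.Lambda.gammaFil_eq_map εB v hKb hB hεB hv hsurj]
    refine Ideal.map_le_iff_le_comap.2 fun p hp => ?_
    change GrothLib.Lambda.liftG v p ∈ I k
    refine GrothLib.Lambda.liftG_mem_of_family v I ?_ ?_ ?_ ?_ hp
    · exact Ideal.subset_span ⟨0, 1, hone _ (by simp [hwt]), by simp [hmon]⟩
    · exact fun a b hab => Ideal.span_mono fun m ⟨e, c, hc, hm⟩ =>
        ⟨e, c, GrothLib.Lambda.gammaFil_antitone (by omega) hc, hm⟩
    · intro a b y z hy hz
      have hle : I a * I b ≤ I (a + b) := by
        simp only [hI, Ideal.span_mul_span']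
        refine Ideal.span_mono ?_
        rintro _ ⟨_, ⟨e, c, hc, rfl⟩, _, ⟨f, c', hc', rfl⟩, rfl⟩
        refine ⟨e + f, c * c', GrothLib.Lambda.gammaFil_antitone (by rw [wt_add]; omega)
          (GrothLib.Lambda.mul_mem_gammaFil hc hc'), ?_⟩
        rw [mon_add, map_mul]
        ring
      exact hle (Ideal.mul_mem_mul hy hz)
    · rintro (a | u) r
      · refine Ideal.subset_span ⟨0, LambdaRing.gamma (r + 1) a.1,
          GrothLib.Lambda.gammaFil_antitone (Nat.sub_le _ _)
            (GrothLib.Lambda.gamma_mem_gammaFil (ε := (εA : A →+* K)) a.2 _), ?_⟩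
        rw [show mon 0 = 1 by simp [hmon], mul_one]
        exact (GrothLib.Lambda.Commutes.gamma (f := algebraMap A B) hAB (r + 1) a.1).symm
      · exact Ideal.subset_span ⟨Finsupp.single r 1, 1,
          hone _ (by simp [hwt]), by simp [hmon, v]⟩
  · rintro _ ⟨e, a, ha, rfl⟩
    have hle : (LambdaRing.gammaFil (εA : A →+* K) (k - wt e)).map (algebraMap A B) ≤
        LambdaRing.gammaFil (εB : B →+* K) (k - wt e) := by
      refine (Ideal.map_le_iff_le_comap.2 (Ideal.span_le.2 ?_))
      rintro _ ⟨l, hl, hl', rfl⟩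
      refine Ideal.subset_span ⟨l.map fun p => (p.1, algebraMap A B p.2), ?_, ?_, ?_⟩
      · intro p hp
        obtain ⟨q, hq, rfl⟩ := List.mem_map.1 hp
        exact (hεAB q.2).trans (hl q hq)
      · simpa [List.map_map, Function.comp_def] using hl'
      · rw [map_list_prod, List.map_map, List.map_map]
        exact congr_arg List.prod (List.map_congr_left fun p _ =>
          GrothLib.Lambda.Commutes.gamma (f := algebraMap A B) hAB p.1 p.2)
    refine GrothLib.Lambda.gammaFil_antitone (b := (k - wt e) + wt e) (by omega)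
      (GrothLib.Lambda.mul_mem_gammaFil (hle (Ideal.mem_map_of_mem _ ha)) ?_)
    clear ha hle
    induction e using Finsupp.induction with
    | zero => simp [hwt, hmon, GrothLib.Lambda.gammaFil_zero]
    | single_add j m e _ hm ih =>
      clear hm
      rw [mon_add, wt_add]
      refine GrothLib.Lambda.mul_mem_gammaFil ?_ ih
      rw [show mon (Finsupp.single j m) = LambdaRing.gamma (j + 1) x ^ m by simp [hmon],
        show wt (Finsupp.single j m) = (j + 1) * m by simp [hwt]]
      clear ih
      induction m with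
      | zero => simp [GrothLib.Lambda.gammaFil_zero]
      | succ l ihl =>
        rw [pow_succ, Nat.mul_succ]
        exact GrothLib.Lambda.mul_mem_gammaFil ihl
          (GrothLib.Lambda.gamma_mem_gammaFil (ε := (εB : B →+* K)) hx _)

end Groth.Agent.S8698
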