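import Groth.Statements.S8704
import Groth.Agent.Lib.Lambda.Basic

set_option autoImplicit false
universe u v
open LambdaRing

namespace Groth.Agent.S8704

/-- Let K and A be λ-rings in the strict sense, A an augmented K-λ-algebra with augmentation ε : A → K,
and Fil^n A its γ-filtration, the ideal generated by the products γ^{i_1}(x_1) ⋯ γ^{i_k}(x_k) with
i_1 + ⋯ + i_k ≥ n and all ε(x_r) = 0. If a subset S generates A as an abelian group, then Fil^n A,
as a K-submodule of A, is generated over K by the products γ^{i_1}(s_1 − ε(s_1)) ⋯ γ^{i_k}(s_k −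
ε(s_k)) with s_r ∈ S and i_1 + ⋯ + i_k ≥ n. -/
theorem result
    (K : Type u) [CommRing K] [LambdaRing.LambdaOps K] (hK : LambdaRing.IsSpecial K)
    (A : Type v) [CommRing A] [LambdaRing.LambdaOps A] [Algebra K A] (hA : LambdaRing.IsSpecial A)
    (ε : A →ₐ[K] K) (hε : LambdaRing.IsAugLambdaAlg K A ε)
    (S : Set A) (hS : AddSubgroup.closure S = ⊤) (n : ℕ) :
    (LambdaRing.gammaFil (ε : A →+* K) n).restrictScalars K =
      Submodule.span K {y : A | ∃ l : List (ℕ × A), (∀ p ∈ l, p.2 ∈ S) ∧ n ≤ (l.map Prod.fst).sum ∧
        y = (l.map fun p => LambdaRing.gamma p.1 (p.2 - algebraMap K A (ε p.2))).prod} := by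
  set G : ℕ → Set A := fun m => {y : A | ∃ l : List (ℕ × A), (∀ p ∈ l, p.2 ∈ S) ∧
    m ≤ (l.map Prod.fst).sum ∧
    y = (l.map fun p => LambdaRing.gamma p.1 (p.2 - algebraMap K A (ε p.2))).prod} with hG
  set M : ℕ → Submodule K A := fun m => Submodule.span K (G m) with hM
  have hmul : ∀ a b (x y : A), x ∈ M a → y ∈ M b → x * y ∈ M (a + b) := by
    intro a b x y hx hy
    have h : M a * M b ≤ M (a + b) := by
      simp only [hM, Submodule.span_mul_span]
      refine Submodule.span_mono ?_
      rintro _ ⟨u, ⟨l, hl, hle, rfl⟩, v, ⟨l', hl', hle', rfl⟩, rfl⟩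
      refine ⟨l ++ l', fun p hp => (List.mem_append.1 hp).elim (hl p) (hl' p), ?_, ?_⟩
      · simp only [List.map_append, List.sum_append]; omega
      · simp [List.map_append, List.prod_append]
    exact h (Submodule.mul_mem_mul hx hy)
  have hmono : ∀ a b, a ≤ b → M b ≤ M a := fun a b hab => Submodule.span_mono fun y hy => by
    obtain ⟨l, hl, hle, rfl⟩ := hy
    exact ⟨l, hl, hab.trans hle, rfl⟩
  have hone : (1 : A) ∈ M 0 :=
    Submodule.subset_span ⟨[], by simp, Nat.zero_le _, by simp⟩
  -- the γ-operations of the augmented elements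
  have hgam : ∀ (x : A) (r : ℕ), LambdaRing.gamma r (x - algebraMap K A (ε x)) ∈ M r := by
    intro x
    induction (hS.symm ▸ AddSubgroup.mem_top x : x ∈ AddSubgroup.closure S) using
      AddSubgroup.closure_induction with
    | mem s hs =>
      intro r
      exact Submodule.subset_span ⟨[(r, s)], by simpa using hs, by simp, by simp⟩
    | zero =>
      intro r
      rw [map_zero, map_zero, sub_zero]
      rcases r with _ | r
      · rw [GrothLib.Lambda.gamma_zero_left]; exact hone
      · rw [GrothLib.Lambda.gamma_succ_zero]; exact zero_mem _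
    | add u v _ _ hu hv =>
      intro r
      rw [show u + v - algebraMap K A (ε (u + v)) =
        (u - algebraMap K A (ε u)) + (v - algebraMap K A (ε v)) by simp only [map_add]; abel,
        GrothLib.Lambda.gamma_add']
      refine Submodule.sum_mem _ fun i hi => ?_
      rw [Finset.mem_range] at hi
      have := hmul i (r - i) _ _ (hu i) (hv (r - i))
      rwa [Nat.add_sub_cancel' (by omega)] at this
    | neg u _ hu =>
      intro r
      rw [show -u - algebraMap K A (ε (-u)) = -(u - algebraMap K A (ε u)) by
        simp only [map_neg]; abel]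
      induction r using Nat.strong_induction_on with
      | _ r ih =>
        rcases r with _ | r
        · rw [GrothLib.Lambda.gamma_zero_left]; exact hone
        · rw [GrothLib.Lambda.gamma_neg_succ]
          refine Submodule.neg_mem _ (Submodule.sum_mem _ fun i hi => ?_)
          rw [Finset.mem_range] at hi
          have := hmul i (r + 1 - i) _ _ (ih i (by omega)) (hu (r + 1 - i))
          rwa [Nat.add_sub_cancel' (by omega)] at this
  have htop : ∀ a : A, a ∈ M 0 := by
    intro a
    have h1 := hmono 0 1 (by omega) (hgam a 1)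
    rw [GrothLib.Lambda.gamma_one'] at h1
    have h2 : algebraMap K A (ε a) ∈ M 0 := by
      rw [Algebra.algebraMap_eq_smul_one]
      exact Submodule.smul_mem _ _ hone
    have := Submodule.add_mem _ h1 h2
    rwa [sub_add_cancel] at this
  have hprod : ∀ l : List (ℕ × A), (∀ p ∈ l, (ε : A →+* K) p.2 = 0) →
      (l.map fun p => LambdaRing.gamma p.1 p.2).prod ∈ M (l.map Prod.fst).sum := by
    intro l
    induction l with
    | nil => intro _; simpa using hone
    | cons p l ih =>
      intro hl
      simp only [List.map_cons, List.prod_cons, List.sum_cons]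
      have hp : ε p.2 = 0 := hl p List.mem_cons_self
      have h1 := hgam p.2 p.1
      rw [hp, map_zero, sub_zero] at h1
      exact hmul _ _ _ _ h1 (ih fun q hq => hl q (List.mem_cons_of_mem p hq))
  refine le_antisymm ?_ ?_
  · intro y hy
    rw [Submodule.restrictScalars_mem] at hy
    induction hy using Submodule.span_induction with
    | mem y hy =>
      obtain ⟨l, hl, hle, rfl⟩ := hy
      exact hmono _ _ hle (hprod l hl)
    | zero => exact zero_mem _
    | add u v _ _ hu hv => exact add_mem hu hv
    | smul a u _ hu =>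
      have := hmul 0 n a u (htop a) hu
      rwa [Nat.zero_add] at this
  · refine Submodule.span_le.2 ?_
    rintro y ⟨l, hl, hle, rfl⟩
    refine Ideal.subset_span ⟨l.map fun p => (p.1, p.2 - algebraMap K A (ε p.2)), ?_, ?_, ?_⟩
    · intro p hp
      obtain ⟨q, _, rfl⟩ := List.mem_map.1 hp
      change ε (q.2 - algebraMap K A (ε q.2)) = 0
      rw [map_sub, AlgHom.commutes, Algebra.algebraMap_self_apply, sub_self]
    · simpa [List.map_map, Function.comp_def] using hle
    · simp [List.map_map, Function.comp_def]

end Groth.Agent.S8704
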