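import Groth.Statements.S8705
import Mathlib.LinearAlgebra.Quotient.Basic
import Mathlib.LinearAlgebra.Finsupp.LinearCombination
import Mathlib.Tactic.Abel
import Mathlib.Tactic.Ring

set_option autoImplicit false
universe u
open SGA7

namespace Groth.Agent.S8705

section
variable {P : Type u} [AddCommGroup P] {Q : Type u} [AddCommGroup Q]

/-- The extension of `P` by `Q` given by a symmetric cocycle. -/
@[ext]
structure CocExt (c : P → P → Q) : Type u where
  fst : Q
  snd : P

/-- A symmetric cocycle. -/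
structure IsSymCocycle (c : P → P → Q) : Prop where
  symm : ∀ p q, c p q = c q p
  coc : ∀ p q r, c (p + q) r + c p q = c p (q + r) + c q r

theorem IsSymCocycle.zero_right {c : P → P → Q} (h : IsSymCocycle c) (p : P) : c p 0 = c 0 0 := by
  have := h.coc p 0 0
  simpa using this

/-- The group structure on the extension. -/
@[instance_reducible]
def cocExtGroup {c : P → P → Q} (h : IsSymCocycle c) : AddCommGroup (CocExt c) where
  add x y := ⟨x.fst + y.fst + c x.snd y.snd, x.snd + y.snd⟩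
  zero := ⟨- c 0 0, 0⟩
  neg x := ⟨- x.fst - c x.snd (-x.snd) - c 0 0, -x.snd⟩
  add_assoc x y z := by
    ext
    · show x.fst + y.fst + c x.snd y.snd + z.fst + c (x.snd + y.snd) z.snd =
        x.fst + (y.fst + z.fst + c y.snd z.snd) + c x.snd (y.snd + z.snd)
      have := h.coc x.snd y.snd z.snd
      rw [show x.fst + y.fst + c x.snd y.snd + z.fst + c (x.snd + y.snd) z.snd =
        x.fst + y.fst + z.fst + (c (x.snd + y.snd) z.snd + c x.snd y.snd) by abel, this]
      abel
    · exact add_assoc x.snd y.snd z.snd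
  zero_add x := by
    ext
    · show - c 0 0 + x.fst + c 0 x.snd = x.fst
      rw [h.symm 0 x.snd, h.zero_right x.snd]; abel
    · exact zero_add x.snd
  add_zero x := by
    ext
    · show x.fst + - c 0 0 + c x.snd 0 = x.fst
      rw [h.zero_right x.snd]; abel
    · exact add_zero x.snd
  nsmul := letI : Add (CocExt c) := ⟨fun x y => ⟨x.fst + y.fst + c x.snd y.snd, x.snd + y.snd⟩⟩
    letI : Zero (CocExt c) := ⟨⟨- c 0 0, 0⟩⟩
    nsmulRec
  zsmul := letI : Add (CocExt c) := ⟨fun x y => ⟨x.fst + y.fst + c x.snd y.snd, x.snd + y.snd⟩⟩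
    letI : Zero (CocExt c) := ⟨⟨- c 0 0, 0⟩⟩
    letI : Neg (CocExt c) := ⟨fun x => ⟨- x.fst - c x.snd (-x.snd) - c 0 0, -x.snd⟩⟩
    zsmulRec
  neg_add_cancel x := by
    ext
    · show - x.fst - c x.snd (-x.snd) - c 0 0 + x.fst + c (-x.snd) x.snd = - c 0 0
      rw [h.symm (-x.snd)]; abel
    · exact neg_add_cancel x.snd
  add_comm x y := by
    ext
    · show x.fst + y.fst + c x.snd y.snd = y.fst + x.fst + c y.snd x.snd
      rw [h.symm y.snd]; abel
    · exact add_comm x.snd y.snd

end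

/-- In the case of the punctual topos (ordinary abelian groups): let P be an abelian group and consider
the complex of free abelian groups Z[P × P × P] ⊕ Z[P × P] → Z[P × P] → Z[P], augmented to P by [p]
↦ p, with d₀[p, q] = [p + q] − [p] − [q], with d₁ on the first summand given by [p, q, r] ↦ [p + q,
r] − [p, q + r] + [p, q] − [q, r] and on the second summand by [p, q] ↦ [p, q] − [q, p]. Then the
augmentation is surjective with kernel the image of d₀ (so H₀ is P), and the kernel of d₀ is the sum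
of the images of the two components of d₁ (so H₁ vanishes). (The published statement is for abelian
sheaves on an arbitrary topos; this row is its case of a one-point space.) -/
theorem result (P : Type u) [AddCommGroup P] :
    letI ε : (P →₀ ℤ) →ₗ[ℤ] P := Finsupp.linearCombination ℤ (fun p : P => p)
    letI d₀ : (P × P →₀ ℤ) →ₗ[ℤ] (P →₀ ℤ) := Finsupp.linearCombination ℤ
      (fun pq : P × P => Finsupp.single (pq.1 + pq.2) 1 - Finsupp.single pq.1 1 - Finsupp.single pq.2 1)
    letI d₁ : (P × P × P →₀ ℤ) →ₗ[ℤ] (P × P →₀ ℤ) := Finsupp.linearCombination ℤ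
      (fun t : P × P × P => Finsupp.single (t.1 + t.2.1, t.2.2) 1 - Finsupp.single (t.1, t.2.1 + t.2.2) 1
        + Finsupp.single (t.1, t.2.1) 1 - Finsupp.single (t.2.1, t.2.2) 1)
    letI d₁' : (P × P →₀ ℤ) →ₗ[ℤ] (P × P →₀ ℤ) := Finsupp.linearCombination ℤ
      (fun pq : P × P => Finsupp.single pq 1 - Finsupp.single (pq.2, pq.1) 1)
    Function.Surjective ε ∧ LinearMap.ker ε = LinearMap.range d₀ ∧
      LinearMap.ker d₀ = LinearMap.range d₁ ⊔ LinearMap.range d₁' := by
  let ε : (P →₀ ℤ) →ₗ[ℤ] P := Finsupp.linearCombination ℤ (fun p : P => p)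
  let d₀ : (P × P →₀ ℤ) →ₗ[ℤ] (P →₀ ℤ) := Finsupp.linearCombination ℤ
    (fun pq : P × P => Finsupp.single (pq.1 + pq.2) 1 - Finsupp.single pq.1 1 - Finsupp.single pq.2 1)
  let d₁ : (P × P × P →₀ ℤ) →ₗ[ℤ] (P × P →₀ ℤ) := Finsupp.linearCombination ℤ
    (fun t : P × P × P => Finsupp.single (t.1 + t.2.1, t.2.2) 1 - Finsupp.single (t.1, t.2.1 + t.2.2) 1
      + Finsupp.single (t.1, t.2.1) 1 - Finsupp.single (t.2.1, t.2.2) 1)
  let d₁' : (P × P →₀ ℤ) →ₗ[ℤ] (P × P →₀ ℤ) := Finsupp.linearCombination ℤ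
    (fun pq : P × P => Finsupp.single pq 1 - Finsupp.single (pq.2, pq.1) 1)
  show Function.Surjective ε ∧ LinearMap.ker ε = LinearMap.range d₀ ∧
      LinearMap.ker d₀ = LinearMap.range d₁ ⊔ LinearMap.range d₁'
  have hε : ∀ p : P, ε (Finsupp.single p 1) = p := fun p => by simp [ε]
  have hd₀ : ∀ p q : P, d₀ (Finsupp.single (p, q) 1) =
      Finsupp.single (p + q) 1 - Finsupp.single p 1 - Finsupp.single q 1 := fun p q => by simp [d₀]
  have hd₁ : ∀ p q r : P, d₁ (Finsupp.single (p, q, r) 1) = Finsupp.single (p + q, r) 1 -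
      Finsupp.single (p, q + r) 1 + Finsupp.single (p, q) 1 - Finsupp.single (q, r) 1 := fun p q r => by simp [d₁]
  have hd₁' : ∀ p q : P, d₁' (Finsupp.single (p, q) 1) =
      Finsupp.single (p, q) 1 - Finsupp.single (q, p) 1 := fun p q => by simp [d₁']
  refine ⟨fun p => ⟨_, hε p⟩, le_antisymm ?_ ?_, le_antisymm ?_ ?_⟩
  · let f : P →ₗ[ℤ] (P →₀ ℤ) ⧸ LinearMap.range d₀ :=
      (AddMonoidHom.mk' (fun p => Submodule.Quotient.mk (Finsupp.single p (1 : ℤ))) fun p q => by
        rw [← Submodule.Quotient.mk_add, Submodule.Quotient.eq]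
        exact ⟨Finsupp.single (p, q) 1, by rw [hd₀]; abel⟩).toIntLinearMap
    have e : f ∘ₗ ε = (LinearMap.range d₀).mkQ := by
      refine Finsupp.lhom_ext' fun p => LinearMap.ext_ring ?_
      show f (ε (Finsupp.single p 1)) = _
      rw [hε]; rfl
    intro x hx
    rw [LinearMap.mem_ker] at hx
    rw [← Submodule.Quotient.mk_eq_zero, ← Submodule.mkQ_apply, ← e, LinearMap.comp_apply, hx, map_zero]
  · rintro _ ⟨x, rfl⟩
    rw [LinearMap.mem_ker]
    refine LinearMap.congr_fun (show ε ∘ₗ d₀ = 0 from Finsupp.lhom_ext' fun t => LinearMap.ext_ring ?_) x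
    obtain ⟨p, q⟩ := t
    show ε (d₀ (Finsupp.single (p, q) 1)) = 0
    rw [hd₀, map_sub, map_sub, hε, hε, hε]; abel
  · let R := LinearMap.range d₁ ⊔ LinearMap.range d₁'
    let c : P → P → (P × P →₀ ℤ) ⧸ R := fun p q => Submodule.Quotient.mk (Finsupp.single (p, q) 1)
    have hc : IsSymCocycle c := by
      constructor
      · intro p q
        show Submodule.Quotient.mk _ = Submodule.Quotient.mk _
        rw [Submodule.Quotient.eq]
        exact Submodule.mem_sup_right ⟨_, hd₁' p q⟩
      · intro p q r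
        show Submodule.Quotient.mk _ + Submodule.Quotient.mk _ = Submodule.Quotient.mk _ + Submodule.Quotient.mk _
        rw [← Submodule.Quotient.mk_add, ← Submodule.Quotient.mk_add, Submodule.Quotient.eq]
        exact Submodule.mem_sup_left ⟨Finsupp.single (p, q, r) 1, by rw [hd₁]; abel⟩
    letI := cocExtGroup hc
    let φ : (P →₀ ℤ) →ₗ[ℤ] CocExt c :=
      Finsupp.linearCombination ℤ fun p => (⟨0, p⟩ : CocExt c)
    let ι : ((P × P →₀ ℤ) ⧸ R) →ₗ[ℤ] CocExt c :=
      (AddMonoidHom.mk' (fun x => (⟨x - c 0 0, 0⟩ : CocExt c)) fun x y => by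
        refine CocExt.ext ?_ (show (0 : P) = 0 + 0 by simp)
        show x + y - c 0 0 = x - c 0 0 + (y - c 0 0) + c 0 0
        abel).toIntLinearMap
    have e : φ ∘ₗ d₀ = - (ι ∘ₗ R.mkQ) := by
      refine Finsupp.lhom_ext' fun t => LinearMap.ext_ring ?_
      obtain ⟨p, q⟩ := t
      show φ (d₀ (Finsupp.single (p, q) 1)) = - ι (Submodule.Quotient.mk (Finsupp.single (p, q) 1))
      rw [hd₀, map_sub, map_sub]
      simp only [φ, Finsupp.linearCombination_single, one_smul]
      rw [eq_neg_iff_add_eq_zero, sub_sub, ← sub_eq_zero, sub_zero, sub_add_eq_add_sub, sub_eq_zero]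
      refine CocExt.ext ?_ (show p + q + 0 = p + q by simp)
      show 0 + (c p q - c 0 0) + c (p + q) 0 = 0 + 0 + c p q
      rw [hc.zero_right (p + q)]; abel
    intro x hx
    rw [LinearMap.mem_ker] at hx
    have h := LinearMap.congr_fun e x
    rw [LinearMap.comp_apply, hx, map_zero, LinearMap.neg_apply, LinearMap.comp_apply] at h
    have h' : ι (R.mkQ x) = 0 := neg_eq_zero.mp h.symm
    have h'' : R.mkQ x - c 0 0 = - c 0 0 := congrArg CocExt.fst h'
    rw [sub_eq_neg_self] at h''
    exact (Submodule.Quotient.mk_eq_zero R).mp h''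
  · refine sup_le ?_ ?_
    · rintro _ ⟨x, rfl⟩
      rw [LinearMap.mem_ker]
      refine LinearMap.congr_fun (show d₀ ∘ₗ d₁ = 0 from Finsupp.lhom_ext' fun t => LinearMap.ext_ring ?_) x
      obtain ⟨p, q, r⟩ := t
      show d₀ (d₁ (Finsupp.single (p, q, r) 1)) = 0
      rw [hd₁, map_sub, map_add, map_sub, hd₀, hd₀, hd₀, hd₀, add_assoc p q r]; abel
    · rintro _ ⟨x, rfl⟩
      rw [LinearMap.mem_ker]
      refine LinearMap.congr_fun (show d₀ ∘ₗ d₁' = 0 from Finsupp.lhom_ext' fun t => LinearMap.ext_ring ?_) x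
      obtain ⟨p, q⟩ := t
      show d₀ (d₁' (Finsupp.single (p, q) 1)) = 0
      rw [hd₁', map_sub, hd₀, hd₀, add_comm q p]; abel

end Groth.Agent.S8705
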