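import Groth.Statements.S8709
import Groth.Agent.Lib.UnitProd.Scheme
import Mathlib.FieldTheory.IsAlgClosed.AlgebraicClosure

set_option autoImplicit false
universe u
open CategoryTheory CategoryTheory.Limits MonoidalCategory CartesianMonoidalCategory MonObj AlgebraicGeometry
open SGA7

namespace Groth.Agent.S8709

open Limits GrothLib.UnitProd

section Aux

theorem isUnit_tgen : IsUnit (MonoidAlgebra.of (ULift.{u} ℤ) (Multiplicative ℤ) (Multiplicative.ofAdd 1)) :=
  (Group.isUnit _).map _

/-- The coordinate of a morphism from `Spec K` to `Spec ℤ[t,t⁻¹]`. -/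
noncomputable def coordFn : Γ(Spec (CommRingCat.of (MonoidAlgebra (ULift.{u} ℤ) (Multiplicative ℤ))), ⊤) :=
  (Scheme.ΓSpecIso _).inv (MonoidAlgebra.of (ULift.{u} ℤ) (Multiplicative ℤ) (Multiplicative.ofAdd 1))

theorem isUnit_coordFn : IsUnit coordFn.{u} := isUnit_tgen.map (Scheme.ΓSpecIso _).inv.hom

theorem ext_of_coordFn {K : Type u} [Field K]
    (g h : Spec (CommRingCat.of K) ⟶ Spec (CommRingCat.of (MonoidAlgebra (ULift.{u} ℤ) (Multiplicative ℤ))))
    (H : value coordFn g = value coordFn h) : g = h := by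
  obtain ⟨a, rfl⟩ := Spec.map_surjective g
  obtain ⟨b, rfl⟩ := Spec.map_surjective h
  congr 1
  rw [← Category.comp_id (Spec.map a), ← Category.comp_id (Spec.map b), value_comp_specMap,
    value_comp_specMap] at H
  simp only [Scheme.Hom.id_appTop, CommRingCat.id_apply, coordFn] at H
  simp only [Iso.inv_hom_id_apply] at H
  refine CommRingCat.hom_ext (MonoidAlgebra.ringHom_ext (fun r => ?_) fun g => ?_)
  · have hr : r = ((r.down : ℤ) : ULift.{u} ℤ) := ULift.ext _ _ (by simp)
    show (a.hom.comp MonoidAlgebra.singleOneRingHom) r = (b.hom.comp MonoidAlgebra.singleOneRingHom) r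
    rw [hr, map_intCast, map_intCast]
  · have : a.hom.toMonoidHom.comp (MonoidAlgebra.of (ULift.{u} ℤ) (Multiplicative ℤ)) =
        b.hom.toMonoidHom.comp (MonoidAlgebra.of (ULift.{u} ℤ) (Multiplicative ℤ)) :=
      MonoidHom.ext_mint (by simpa using H)
    exact DFunLike.congr_fun this g

end Aux

/-- Let k be a field and X, Y two k-schemes of finite type which are geometrically reduced and
geometrically connected, with rational points e_X and e_Y. Then every k-morphism u from X ×_k Y to
the multiplicative group whose restrictions to X × e_Y and to e_X × Y are trivial is trivial.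
(Morphisms to the multiplicative group over k form a group; trivial means equal to its unit
element.) -/
theorem result (k : Type u) [Field k]
    (X Y : Over (Spec (CommRingCat.of k)))
    [LocallyOfFiniteType X.hom] [QuasiCompact X.hom] [GeometricallyReduced X.hom] [GeometricallyConnected X.hom]
    [LocallyOfFiniteType Y.hom] [QuasiCompact Y.hom] [GeometricallyReduced Y.hom] [GeometricallyConnected Y.hom]
    (eX : 𝟙_ (Over (Spec (CommRingCat.of k))) ⟶ X) (eY : 𝟙_ (Over (Spec (CommRingCat.of k))) ⟶ Y)
    (u : X ⊗ Y ⟶ Red.Gm (Spec (CommRingCat.of k)))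
    (huX : lift (𝟙 X) (toUnit X ≫ eY) ≫ u = 1) (huY : lift (toUnit Y ≫ eX) (𝟙 Y) ≫ u = 1) :
    u = 1 := by
  let K := AlgebraicClosure k
  let c : Spec (CommRingCat.of K) ⟶ Spec (CommRingCat.of k) := Spec.map (CommRingCat.ofHom (algebraMap k K))
  let PK : Over (Spec (CommRingCat.of k)) := Over.mk c
  let XK := pullback X.hom c
  let YK := pullback Y.hom c
  let p : XK ⟶ Spec (CommRingCat.of K) := pullback.snd _ _
  let q : YK ⟶ Spec (CommRingCat.of K) := pullback.snd _ _
  have : ConnectedSpace XK :=
    GeometricallyConnected.geometrically_connectedSpace c _ _ (IsPullback.of_hasPullback _ _)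
  have : ConnectedSpace YK :=
    GeometricallyConnected.geometrically_connectedSpace c _ _ (IsPullback.of_hasPullback _ _)
  have : CompactSpace XK := QuasiCompact.compactSpace_of_compactSpace p
  have : CompactSpace YK := QuasiCompact.compactSpace_of_compactSpace q
  let W : Over (Spec (CommRingCat.of k)) := Over.mk (pullback.fst p q ≫ p ≫ c)
  let a : W ⟶ X := Over.homMk (pullback.fst p q ≫ pullback.fst X.hom c) (by
    show (pullback.fst p q ≫ pullback.fst X.hom c) ≫ X.hom = pullback.fst p q ≫ p ≫ c
    rw [Category.assoc, pullback.condition])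
  let b : W ⟶ Y := Over.homMk (pullback.snd p q ≫ pullback.fst Y.hom c) (by
    show (pullback.snd p q ≫ pullback.fst Y.hom c) ≫ Y.hom = pullback.fst p q ≫ p ≫ c
    rw [Category.assoc, pullback.condition, ← pullback.condition_assoc])
  let G := Red.Gm (Spec (CommRingCat.of k))
  let pr : G.left ⟶ _ := pullback.fst (Red.diag (ULift.{u} ℤ) ℤ).hom
    (Limits.IsTerminal.from specULiftZIsTerminal (Spec (CommRingCat.of k)))
  let w : Γ(pullback p q, ⊤) := ((lift a b ≫ u).left ≫ pr).appTop coordFn
  have hw : IsUnit w := isUnit_coordFn.map ((lift a b ≫ u).left ≫ pr).appTop.hom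
  let toPt : ∀ (Z : Over (Spec (CommRingCat.of k))) (x : PK ⟶ Z), Pt (pullback.snd Z.hom c) := fun Z x =>
    ⟨pullback.lift x.left (𝟙 _) (by rw [Over.w x]; exact (Category.id_comp c).symm), pullback.lift_snd _ _ _⟩
  let cfun : (PK ⟶ G) → K := fun g => value coordFn (g.left ≫ pr)
  have hval : ∀ (x : PK ⟶ X) (y : PK ⟶ Y),
      pairValue w (toPt X x) (toPt Y y) = cfun (lift x y ≫ u) := by
    intro x y
    let m : PK ⟶ W := Over.homMk (pullback.lift (toPt X x).1 (toPt Y y).1
      ((toPt X x).2.trans (toPt Y y).2.symm)) (by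
        show pullback.lift _ _ _ ≫ pullback.fst p q ≫ p ≫ c = c
        rw [pullback.lift_fst_assoc, ← Category.assoc, (toPt X x).2, Category.id_comp])
    have ha : m ≫ a = x := by
      ext : 1
      show pullback.lift _ _ _ ≫ pullback.fst p q ≫ pullback.fst X.hom c = x.left
      rw [pullback.lift_fst_assoc]
      exact pullback.lift_fst _ _ _
    have hb : m ≫ b = y := by
      ext : 1
      show pullback.lift _ _ _ ≫ pullback.snd p q ≫ pullback.fst Y.hom c = y.left
      rw [pullback.lift_snd_assoc]
      exact pullback.lift_fst _ _ _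
    have : lift x y ≫ u = m ≫ lift a b ≫ u := by rw [comp_lift_assoc, ha, hb]
    simp only [cfun, this]
    rfl
  have hcfun : ∀ g h : PK ⟶ G, cfun g = cfun h → g = h := by
    intro g h H
    ext : 1
    apply pullback.hom_ext
    · exact ext_of_coordFn _ _ H
    · exact (Over.w g).trans (Over.w h).symm
  have hcne : ∀ g : PK ⟶ G, cfun g ≠ 0 := fun g => (isUnit_value isUnit_coordFn _).ne_zero
  have hpt : ∀ (x : PK ⟶ X) (y : PK ⟶ Y), lift x y ≫ u = 1 := by
    intro x y
    let x₀ : PK ⟶ X := toUnit PK ≫ eX
    let y₀ : PK ⟶ Y := toUnit PK ≫ eY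
    have h1 : ∀ x' : PK ⟶ X, lift x' y₀ ≫ u = 1 := fun x' => by
      have := congrArg (x' ≫ ·) huX
      simp only [comp_lift_assoc, Category.comp_id, MonObj.comp_one, ← Category.assoc, comp_toUnit] at this
      simpa [y₀] using this
    have h2 : ∀ y' : PK ⟶ Y, lift x₀ y' ≫ u = 1 := fun y' => by
      have := congrArg (y' ≫ ·) huY
      simp only [comp_lift_assoc, Category.comp_id, MonObj.comp_one, ← Category.assoc, comp_toUnit] at this
      simpa [x₀] using this
    have h := rect_of_connected hw (toPt X x) (toPt X x₀) (toPt Y y) (toPt Y y₀)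
    unfold Rect at h
    rw [hval, hval, hval, hval, h1 x, h2 y, h1 x₀] at h
    exact hcfun _ _ (mul_right_cancel₀ (hcne 1) h)
  have : IsReduced Y.left := GeometricallyReduced.isReduced_of_flat_of_isLocallyNoetherian Y.hom
  have : IsLocallyNoetherian Y.left := LocallyOfFiniteType.isLocallyNoetherian Y.hom
  have : IsReduced (X ⊗ Y).left := inferInstanceAs (IsReduced (pullback X.hom Y.hom))
  have : LocallyOfFiniteType (X ⊗ Y).hom := by dsimp; infer_instance
  have : JacobsonSpace (X ⊗ Y).left := LocallyOfFiniteType.jacobsonSpace (Y := Spec _) (X ⊗ Y).hom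
  have : IsSeparated G.hom := by
    have : IsAffine (Red.diag (ULift.{u} ℤ) ℤ).left := inferInstanceAs (IsAffine (Spec _))
    have : IsAffineHom (Red.diag (ULift.{u} ℤ) ℤ).hom := isAffineHom_of_isAffine _
    have : IsAffineHom G.hom := MorphismProperty.pullback_snd _ _ this
    infer_instance
  ext : 1
  refine ext_of_fromSpecResidueField_eq _ _ G.hom (closedPoints (X ⊗ Y).left)
    (dense_iff_closure_eq.mpr closure_closedPoints) (fun z hz => ?_) ((Over.w u).trans (Over.w 1).symm)
  let f := (X ⊗ Y).left.fromSpecResidueField z ≫ (X ⊗ Y).hom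
  have hf : IsFinite f := by
    have := isClosed_singleton_iff_isClosedImmersion.mp hz
    rw [isFinite_iff_locallyOfFiniteType_of_jacobsonSpace]
    infer_instance
  obtain ⟨φ, hφ⟩ : ∃ φ, Spec.map φ = f := ⟨_, Spec.map_preimage f⟩
  letI : Algebra k ((X ⊗ Y).left.residueField z) := φ.hom.toAlgebra
  have : Algebra.IsIntegral k ((X ⊗ Y).left.residueField z) := by
    constructor
    have : φ.hom.IsIntegral := by
      rw [← IsIntegralHom.SpecMap_iff, hφ]
      infer_instance
    exact this
  let emb : (X ⊗ Y).left.residueField z →ₐ[k] K := IsAlgClosed.lift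
  let s : PK ⟶ X ⊗ Y := Over.homMk (Spec.map (CommRingCat.ofHom emb.toRingHom) ≫
    (X ⊗ Y).left.fromSpecResidueField z) (by
      show (Spec.map _ ≫ _) ≫ (X ⊗ Y).hom = Spec.map _
      rw [Category.assoc]
      show Spec.map _ ≫ f = _
      rw [← hφ, ← Spec.map_comp]
      congr 1
      ext r
      exact emb.commutes r)
  have hs : s ≫ u = s ≫ 1 := by
    have : s = lift (s ≫ fst X Y) (s ≫ snd X Y) := by ext1 <;> simp
    rw [MonObj.comp_one, this, hpt]
  have hdom : IsDominant (Spec.map (CommRingCat.ofHom emb.toRingHom)) := by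
    constructor
    intro x
    rw [Subsingleton.elim x (Spec.map (CommRingCat.ofHom emb.toRingHom) (IsLocalRing.closedPoint K))]
    exact subset_closure ⟨_, rfl⟩
  refine ext_of_isDominant_of_isSeparated G.hom ?_ (Spec.map (CommRingCat.ofHom emb.toRingHom)) ?_
  · rw [Category.assoc, Category.assoc, Over.w u, Over.w 1]
  · rw [← Category.assoc, ← Category.assoc]
    exact congrArg CommaMorphism.left hs

end Groth.Agent.S8709
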