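import Groth.Statements.S8710
import Groth.Agent.Lib.FlatFP.TorShift

set_option autoImplicit false
universe u
open CategoryTheory CategoryTheory.Limits
open SGA7

namespace Groth.Agent.S8710

open GrothLib.FlatFP

variable {R : Type u} [CommRing R]

theorem isZero_mid (S : ShortComplex (ModuleCat.{u} R)) (hS : S.ShortExact)
    (N : ModuleCat.{u} R) (i : ℕ)
    (h1 : IsZero (((Tor (ModuleCat.{u} R) i).obj S.X₁).obj N))
    (h3 : IsZero (((Tor (ModuleCat.{u} R) i).obj S.X₃).obj N)) :
    IsZero (((Tor (ModuleCat.{u} R) i).obj S.X₂).obj N) := by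
  rw [isZero_tor_iff] at h1 h3 ⊢
  exact ((torSeq_shortExact S hS N).homology_exact₂ i).isZero_X₂
    (h1.eq_of_src _ _) (h3.eq_of_tgt _ _)

theorem isZero_left (S : ShortComplex (ModuleCat.{u} R)) (hS : S.ShortExact)
    (N : ModuleCat.{u} R) (i : ℕ)
    (h2 : IsZero (((Tor (ModuleCat.{u} R) i).obj S.X₂).obj N))
    (h3 : IsZero (((Tor (ModuleCat.{u} R) (i + 1)).obj S.X₃).obj N)) :
    IsZero (((Tor (ModuleCat.{u} R) i).obj S.X₁).obj N) := by
  rw [isZero_tor_iff] at h2 h3 ⊢
  exact ((torSeq_shortExact S hS N).homology_exact₁ (i + 1) i (by simp)).isZero_X₂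
    (h3.eq_of_src _ _) (h2.eq_of_tgt _ _)

/-- Let f : B' → B be a surjective map of R-algebras with B' flat over R, g : C → B a map of R-algebras,
P = B' ×_B C their fibre product (the equalizer of f ∘ pr₁ and g ∘ pr₂ in B' × C), S an R-algebra
and n a natural number. If Tor_i^R(C, S) = 0 for 0 < i < n and Tor_i^R(B, S) = 0 for 0 < i ≤ n, then
Tor_i^R(P, S) = 0 for 0 < i < n. Here Tor_i^R(M, S) is the i-th left derived functor of M ⊗_R − on
R-modules, evaluated at S. (The published statement asks the vanishing for B only in degrees 0 < i <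
n; the published proof and the corollary following it use it in degrees 0 < i ≤ n, which this row
assumes.) -/
theorem result (R B' B C S : Type u) [CommRing R] [CommRing B'] [CommRing B]
    [CommRing C] [CommRing S] [Algebra R B'] [Algebra R B] [Algebra R C] [Algebra R S]
    (f : B' →ₐ[R] B) (hf : Function.Surjective f) (g : C →ₐ[R] B) [Module.Flat R B'] (n : ℕ)
    (hC : ∀ i : ℕ, 0 < i → i < n →
      IsZero (((Tor (ModuleCat.{u} R) i).obj (ModuleCat.of R C)).obj (ModuleCat.of R S)))
    (hB : ∀ i : ℕ, 0 < i → i ≤ n →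
      IsZero (((Tor (ModuleCat.{u} R) i).obj (ModuleCat.of R B)).obj (ModuleCat.of R S))) :
    letI P := AlgHom.equalizer (f.comp (AlgHom.fst R B' C)) (g.comp (AlgHom.snd R B' C))
    ∀ i : ℕ, 0 < i → i < n →
      IsZero (((Tor (ModuleCat.{u} R) i).obj (ModuleCat.of R ↥P)).obj (ModuleCat.of R S)) := by
  intro i h0 hn
  let P := AlgHom.equalizer (f.comp (AlgHom.fst R B' C)) (g.comp (AlgHom.snd R B' C))
  let ι : P →ₗ[R] B' × C := P.toSubmodule.subtype
  let π : (B' × C) →ₗ[R] B := f.toLinearMap.comp (LinearMap.fst R B' C) -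
    g.toLinearMap.comp (LinearMap.snd R B' C)
  have hπι : π.comp ι = 0 := LinearMap.ext fun x => sub_eq_zero.2 x.2
  let T₁ : ShortComplex (ModuleCat.{u} R) :=
    ShortComplex.mk (ModuleCat.ofHom ι) (ModuleCat.ofHom π) (ModuleCat.hom_ext hπι)
  have hT₁ : T₁.ShortExact :=
    { exact := (ShortComplex.moduleCat_exact_iff _).2 fun x hx =>
        ⟨⟨x, sub_eq_zero.1 hx⟩, rfl⟩
      mono_f := (ModuleCat.mono_iff_injective _).2 Subtype.val_injective
      epi_g := (ModuleCat.epi_iff_surjective _).2 fun b => by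
        obtain ⟨b', hb'⟩ := hf b
        exact ⟨(b', 0), by simp [π, T₁, hb']⟩ }
  let T₂ : ShortComplex (ModuleCat.{u} R) :=
    ShortComplex.mk (ModuleCat.ofHom (LinearMap.inl R B' C)) (ModuleCat.ofHom (LinearMap.snd R B' C))
      (ModuleCat.hom_ext (LinearMap.ext fun x => rfl))
  have hT₂ : T₂.ShortExact :=
    { exact := (ShortComplex.moduleCat_exact_iff _).2 fun x hx =>
        ⟨x.1, Prod.ext rfl hx.symm⟩
      mono_f := (ModuleCat.mono_iff_injective _).2 LinearMap.inl_injective
      epi_g := (ModuleCat.epi_iff_surjective _).2 LinearMap.snd_surjective }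
  have h2 : IsZero (((Tor (ModuleCat.{u} R) i).obj T₂.X₂).obj (ModuleCat.of R S)) := by
    refine isZero_mid T₂ hT₂ _ i ?_ (hC i h0 hn)
    obtain ⟨k, rfl⟩ : ∃ k, i = k + 1 := ⟨i - 1, by omega⟩
    exact isZero_tor_succ_of_flat (ModuleCat.of R B') _ k
  exact isZero_left T₁ hT₁ _ i h2 (hB (i + 1) (by omega) (by omega))

end Groth.Agent.S8710
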