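import Groth.Statements.S8712
import Groth.Agent.Lib.TorsorTriv19.Lattice
-- import your own Groth.Agent.* helpers here

set_option autoImplicit false
universe u
open CategoryTheory CategoryTheory.Limits MonoidalCategory CartesianMonoidalCategory MonObj AlgebraicGeometry
open SGA7

namespace Groth.Agent.S8712

/-- The vanishing of Ext¹(P, M) proved there: let S be a scheme, P a commutative S-group scheme which is
smooth and of finite presentation over S (smooth, quasi-compact, quasi-separated) with geometrically
connected fibres, M a commutative S-group scheme which is a twisted constant group with fibres Z^r: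
after a flat surjective base change S' → S which is an fpqc covering, Zariski-locally on S', M
becomes the constant group scheme of Z^r for some r (allowed to vary), and u : M → E, v : E → P
homomorphisms of commutative S-group schemes forming a sequence 1 → M → E → P → 1 exact for the fppf
topology. Then every homomorphism P → M is trivial, and the extension E of P by M is trivial: there
is a homomorphism s : P → E with s followed by v equal to the identity of P. -/
theorem result (S : Scheme.{u})
    (P E M : Over S) [GrpObj P] [GrpObj E] [GrpObj M] [IsCommMonObj P] [IsCommMonObj E] [IsCommMonObj M]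
    [Smooth P.hom] [QuasiCompact P.hom] [QuasiSeparated P.hom] [GeometricallyConnected P.hom]
    (hM : TwC.Locally S TwC.Topology.fpqc (fun S' f =>
      ∃ (r : ℕ) (e : Red.bc f M ≅ TwC.const S' (Multiplicative (Fin r → ℤ))),
        TwC.IsConstGrp (Multiplicative (Fin r → ℤ)) (Red.bc f M) e))
    (u : M ⟶ E) (v : E ⟶ P) (hex : NonAbH1.IsExactSeq Scheme.fppfPrecoverage u v) :
    (∀ φ : P ⟶ M, IsMonHom φ → φ = 1) ∧ ∃ s : P ⟶ E, IsMonHom s ∧ s ≫ v = 𝟙 P := GrothLib.TorsorTriv19.splits_lattice hM u v hex

end Groth.Agent.S8712
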