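import Groth.Statements.S8715
import Groth.Agent.Lib.TorusFactor19.Basic
-- import your own Groth.Agent.* helpers here

set_option autoImplicit false
universe u
open CategoryTheory CategoryTheory.Limits AlgebraicGeometry MonObj
open SGA7
open MonoidalCategory CartesianMonoidalCategory GrpObj
set_option linter.all false
set_option maxHeartbeats 1000000
set_option synthInstance.maxHeartbeats 200000
set_option backward.isDefEq.respectTransparency false

namespace Groth.Agent.S8715

/-- Let R be a discrete valuation ring with fraction field K and closed point s, A and C commutative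
group schemes over Spec R which are Néron models of their generic fibres A_K and C_K, both abelian
varieties (proper and geometrically integral over K), and u : C → A a homomorphism which is an
isogeny up to the Néron property: there are a homomorphism v : A → C and an integer n > 0 with u ∘ v
and v ∘ u both equal to multiplication by n (for Néron models of abelian varieties this is the same
as asking the generic fibre u_K to be an isogeny, since v_K extends uniquely). Let T_A → A_s and T_C
→ C_s be maximal tori of the special fibres. Then the homomorphism u_s induced on special fibres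
carries T_C into T_A through a homomorphism T_C → T_A which is an isogeny. (The companion
assertions, that u also induces isogenies on the fixed parts of the ℓ-adic Tate modules of the
generic fibres, on the ℓ-adic Tate modules of the neutral components of the special fibres, and on
the abelian parts of the special fibres over a perfect extension of the residue field, are not
stated.) -/
theorem result (R K : Type u) [CommRing R] [IsDomain R]
    [IsDiscreteValuationRing R] [Field K] [Algebra R K] [IsFractionRing R K]
    (A C : Over (Spec (CommRingCat.of R))) [GrpObj A] [GrpObj C] [IsCommMonObj A] [IsCommMonObj C]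
    (hA : SGA7.IsNeron R K A) (hC : SGA7.IsNeron R K C)
    [IsProper ((SGA7.genFib R K).obj A).hom] [GeometricallyIntegral ((SGA7.genFib R K).obj A).hom]
    [IsProper ((SGA7.genFib R K).obj C).hom] [GeometricallyIntegral ((SGA7.genFib R K).obj C).hom]
    (u : C ⟶ A) [IsMonHom u] (v : A ⟶ C) [IsMonHom v] (n : ℕ) (hn : 0 < n)
    (huv : u ≫ v = (𝟙 C : C ⟶ C) ^ n) (hvu : v ≫ u = (𝟙 A : A ⟶ A) ^ n)
    (TA TC : Over (Spec ((Spec (CommRingCat.of R)).residueField (IsLocalRing.closedPoint R))))
    [GrpObj TA] [GrpObj TC]
    (iA : TA ⟶ Red.bc ((Spec (CommRingCat.of R)).fromSpecResidueField (IsLocalRing.closedPoint R)) A)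
    (iC : TC ⟶ Red.bc ((Spec (CommRingCat.of R)).fromSpecResidueField (IsLocalRing.closedPoint R)) C)
    (hiA : Red.IsMaximalTorus iA) (hiC : Red.IsMaximalTorus iC) :
    ∃ w : TC ⟶ TA, IsMonHom w ∧ w ≫ iA = iC ≫ (Over.pullback ((Spec (CommRingCat.of R)).fromSpecResidueField (IsLocalRing.closedPoint R))).map u ∧
      SGA7.IsIsogenyOver w := by
  let q := (Spec (CommRingCat.of R)).fromSpecResidueField (IsLocalRing.closedPoint R)
  haveI : Smooth A.hom := hA.1
  haveI : Smooth C.hom := hC.1
  haveI : Smooth (Red.bc q A).hom := MorphismProperty.pullback_snd A.hom q ‹_›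
  haveI : Smooth (Red.bc q C).hom := MorphismProperty.pullback_snd C.hom q ‹_›
  obtain ⟨hmA, hmonoA, hTA, -⟩ := id hiA
  obtain ⟨hmC, hmonoC, hTC, -⟩ := id hiC
  haveI := hmA; haveI := hmonoA; haveI := hmC; haveI := hmonoC
  have comm : ∀ (X : Over (Spec ((Spec (CommRingCat.of R)).residueField (IsLocalRing.closedPoint R)))) (Z : Over (Spec (CommRingCat.of R))) [GrpObj Z] [IsCommMonObj Z] (g h : X ⟶ Red.bc q Z),
      g * h = h * g := fun X Z _ _ g h => by
    haveI : IsCommMonObj (Red.bc q Z) := inferInstance
    haveI : IsMulCommutative (X ⟶ Red.bc q Z) := (isCommMonObj_iff_isMulCommutative _).1 ‹_› _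
    exact mul_comm' g h
  obtain ⟨w, hw, hwA⟩ := GrothLib.TorusFactor19.exists_factor (fun X => comm X A) hiA (iC ≫ (Over.pullback q).map u) hTC
  obtain ⟨w', hw', hwC⟩ := GrothLib.TorusFactor19.exists_factor (fun X => comm X C) hiC (iA ≫ (Over.pullback q).map v) hTA
  have e1 : w ≫ w' = (𝟙 TC : TC ⟶ TC) ^ n := by
    rw [← cancel_mono iC, Category.assoc, hwC, ← Category.assoc, hwA, Category.assoc, ← Functor.map_comp, huv]
    rw [MonObj.pow_comp, Category.id_comp]
    exact (congrArg (fun t => iC ≫ t) (GrothLib.NormQF14.map_id_pow q C n)).trans (by rw [MonObj.comp_pow, Category.comp_id])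
  have e2 : w' ≫ w = (𝟙 TA : TA ⟶ TA) ^ n := by
    rw [← cancel_mono iA, Category.assoc, hwA, ← Category.assoc, hwC, Category.assoc, ← Functor.map_comp, hvu]
    rw [MonObj.pow_comp, Category.id_comp]
    exact (congrArg (fun t => iA ≫ t) (GrothLib.NormQF14.map_id_pow q A n)).trans (by rw [MonObj.comp_pow, Category.comp_id])
  refine ⟨w, hw, hwA, ?_, fun N i hi => ?_⟩
  · haveI : Surjective (w'.left ≫ w.left) := by
      rw [← Over.comp_left, e2]; exact GrothLib.TorusFactor19.surjective_pow hTA hn
    exact Surjective.of_comp w'.left w.left
  · haveI := GrothLib.NormQF14.isFinite_pow TC (GrothLib.UnipFix19.isMultTypeFT_of_isTorus hTC) n hn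
    haveI : IsFinite (w.left ≫ w'.left) := by rw [← Over.comp_left, e1]; infer_instance
    haveI := GrothLib.EssFree.isAffineHom_multTypeFT TA (GrothLib.UnipFix19.isMultTypeFT_of_isTorus hTA)
    haveI : IsSeparated w'.left := by
      haveI : IsSeparated (w'.left ≫ TC.hom) := by rw [Over.w w']; infer_instance
      exact IsSeparated.of_comp w'.left TC.hom
    haveI : IsFinite w.left := IsFinite.of_comp w.left w'.left
    have hsq := (hi.map (Over.forget _))
    haveI : IsFinite (toUnit N).left := MorphismProperty.of_isPullback (P := @IsFinite) hsq ‹_›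
    rw [← Over.w (toUnit N)]
    show IsFinite ((toUnit N).left ≫ 𝟙 _)
    infer_instance

end Groth.Agent.S8715
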