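import Groth.Statements.S8719
import Groth.Agent.Lib.QuadSeries.Basic

set_option autoImplicit false
universe u
open VanCyc

namespace Groth.Agent.S8719

/-- The formal computation carried out in its proof: let k be a field and f a power series in k[[x_0,
..., x_n]] with vanishing constant and linear terms whose degree-two part is a non-degenerate
quadratic form (the Gram determinant of its polar bilinear form is a unit). Then the partial
derivatives of f generate the maximal ideal of k[[x_0, ..., x_n]] (so f together with its partial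
derivatives cut out the origin with multiplicity one). -/
theorem result (k : Type u) [Field k] (n : ℕ)
    (f : MvPowerSeries (Fin (n + 1)) k) (hf : VanCyc.NondegQuadSeries f) :
    Ideal.span (Set.range fun i : Fin (n + 1) => MvPowerSeries.pderiv k i f) =
      IsLocalRing.maximalIdeal (MvPowerSeries (Fin (n + 1)) k) := by
  classical
  let P := MvPowerSeries (Fin (n + 1)) k
  let M := VanCyc.polarMatrix (VanCyc.quadPart f)
  let g : Fin (n + 1) → P := fun i => MvPowerSeries.pderiv k i f
  have hg0 : ∀ i, MvPowerSeries.constantCoeff (g i) = 0 := fun i => by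
    rw [GrothLib.QuadSeries.constantCoeff_pderiv]; exact hf.1.2 i
  have hcoef : ∀ i j, MvPowerSeries.coeff (Finsupp.single j 1) (g i) = M i j := by
    intro i j
    rw [GrothLib.QuadSeries.coeff_single_pderiv]
    simp only [M, VanCyc.polarMatrix, VanCyc.quadPart]
    rcases lt_trichotomy i j with h | h | h
    · simp [h, h.ne, h.ne', add_comm (Finsupp.single j 1)]
    · subst h
      simp [← Finsupp.single_add, mul_comm]
    · simp [h, h.ne, h.ne', not_lt.2 h.le]
  refine le_antisymm (Ideal.span_le.2 ?_) ?_
  · rintro _ ⟨i, rfl⟩
    exact GrothLib.QuadSeries.mem_max.2 (hg0 i)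
  · refine Submodule.le_of_le_smul_of_le_jacobson_bot (IsNoetherian.noetherian _)
      (IsLocalRing.maximalIdeal_le_jacobson _) ?_
    rw [smul_eq_mul, ← sq]
    conv_lhs => rw [GrothLib.QuadSeries.maximalIdeal_eq]
    refine Ideal.span_le.2 ?_
    rintro _ ⟨l, rfl⟩
    let L : Fin (n + 1) → P := fun i => ∑ j, MvPowerSeries.C (M i j) * MvPowerSeries.X j
    have hL : ∀ i, L i ∈ Ideal.span (Set.range g) ⊔ IsLocalRing.maximalIdeal P ^ 2 := fun i => by
      have h := GrothLib.QuadSeries.sub_linear_mem_sq (hg0 i)
      simp only [hcoef] at h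
      rw [show L i = g i - (g i - L i) by abel]
      exact sub_mem (Ideal.mem_sup_left (Ideal.subset_span ⟨i, rfl⟩)) (Ideal.mem_sup_right h)
    have hX : (MvPowerSeries.X l : P) = ∑ i, MvPowerSeries.C (M⁻¹ l i) * L i := by
      simp only [L, Finset.mul_sum, ← mul_assoc, ← map_mul]
      rw [Finset.sum_comm]
      simp only [← Finset.sum_mul, ← map_sum, ← Matrix.mul_apply]
      have hdet : IsUnit M.det := hf.2
      rw [Matrix.nonsing_inv_mul M hdet]
      simp [Matrix.one_apply, apply_ite MvPowerSeries.C, ite_mul, P]
    rw [SetLike.mem_coe, hX]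
    exact Ideal.sum_mem _ fun i _ => Ideal.mul_mem_left _ _ (hL i)

end Groth.Agent.S8719
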