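import Groth.Statements.S8720
import Groth.Agent.Lib.QuadSeries.Basic

set_option autoImplicit false
universe u
open VanCyc

namespace Groth.Agent.S8720

/-- The formal computation carried out in its proof: let k be a field of characteristic 2, m a natural
number, and f a power series over k in the variables x_0 and x_i, x_i' (i = 1, ..., m) whose terms
of degree less than 3 are exactly those of x_0^2 + x_1 x_1' + ... + x_m x_m'. Then the ideal
generated by f and all its partial derivatives is the ideal generated by x_0^2 and the x_i, x_i',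
and the quotient of the power series ring by this ideal is two-dimensional over k. (Characteristic 2
is what makes the derivative in x_0 lose its linear term.) -/
theorem result (k : Type u) [Field k] [CharP k 2] (m : ℕ)
    (f : MvPowerSeries (Option (Fin m ⊕ Fin m)) k)
    (hf : ∀ d : Option (Fin m ⊕ Fin m) →₀ ℕ, d.degree < 3 →
      MvPowerSeries.coeff d f = MvPowerSeries.coeff d
        (MvPowerSeries.X none ^ 2 +
          ∑ i : Fin m, MvPowerSeries.X (some (Sum.inl i)) * MvPowerSeries.X (some (Sum.inr i)))) :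
    Ideal.span ({f} ∪ Set.range fun i : Option (Fin m ⊕ Fin m) => MvPowerSeries.pderiv k i f) =
      Ideal.span ({MvPowerSeries.X none ^ 2} ∪
        Set.range fun j : Fin m ⊕ Fin m => (MvPowerSeries.X (some j) : MvPowerSeries (Option (Fin m ⊕ Fin m)) k)) ∧
    Module.finrank k (MvPowerSeries (Option (Fin m ⊕ Fin m)) k ⧸
      Ideal.span ({MvPowerSeries.X none ^ 2} ∪
        Set.range fun j : Fin m ⊕ Fin m => (MvPowerSeries.X (some j) : MvPowerSeries (Option (Fin m ⊕ Fin m)) k))) = 2 := by
  classical
  let σ := Option (Fin m ⊕ Fin m)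
  let P := MvPowerSeries σ k
  let mx := IsLocalRing.maximalIdeal P
  let X : σ → P := MvPowerSeries.X
  let J : Ideal P := Ideal.span ({X none ^ 2} ∪ Set.range fun j : Fin m ⊕ Fin m => X (some j))
  let I : Ideal P := Ideal.span ({f} ∪ Set.range fun i : σ => MvPowerSeries.pderiv k i f)
  have hXm : ∀ i, X i ∈ mx := fun i => GrothLib.QuadSeries.mem_max.2 (MvPowerSeries.constantCoeff_X i)
  have hx0 : X none ^ 2 ∈ J := Ideal.subset_span (Or.inl rfl)
  have hxs : ∀ j, X (some j) ∈ J := fun j => Ideal.subset_span (Or.inr ⟨j, rfl⟩)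
  have hm2 : mx ^ 2 ≤ Ideal.span {X none ^ 2} ⊔ mx * J := by
    have e : mx = Ideal.span (Set.range X) := GrothLib.QuadSeries.maximalIdeal_eq
    conv_lhs => rw [e, sq, Ideal.span_mul_span']
    refine Ideal.span_le.2 ?_
    rintro _ ⟨_, ⟨a, rfl⟩, _, ⟨b, rfl⟩, rfl⟩
    rcases b with _ | b
    · rcases a with _ | a
      · exact Ideal.mem_sup_left (Ideal.subset_span (pow_two (X none)).symm)
      · change X (some a) * X none ∈ _
        rw [mul_comm (X (some a)) (X none)]
        exact Ideal.mem_sup_right (Ideal.mul_mem_mul (hXm _) (hxs a))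
    · exact Ideal.mem_sup_right (Ideal.mul_mem_mul (hXm _) (hxs b))
  have hm2J : mx ^ 2 ≤ J := hm2.trans (sup_le ((Ideal.span_singleton_le_iff_mem _).2 hx0) Ideal.mul_le_right)
  have hm3 : mx ^ 3 ≤ mx * J := by
    rw [pow_succ' mx 2]; exact Ideal.mul_mono_right hm2J
  let q : P := X none ^ 2 + ∑ i : Fin m, X (some (Sum.inl i)) * X (some (Sum.inr i))
  have hdm : f - q ∈ mx ^ 3 := GrothLib.QuadSeries.mem_max_pow fun d hd => by
    rw [map_sub, hf d hd, sub_self]
  have hqJ : q - X none ^ 2 ∈ mx * J := by
    simp only [q, add_sub_cancel_left]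
    exact Ideal.sum_mem _ fun i _ => Ideal.mul_mem_mul (hXm _) (hxs _)
  have hfJ : f - X none ^ 2 ∈ mx * J := by
    rw [show f - X none ^ 2 = (f - q) + (q - X none ^ 2) by abel]
    exact add_mem (hm3 hdm) hqJ
  -- derivatives
  have hd : ∀ i, MvPowerSeries.pderiv k i f - MvPowerSeries.pderiv k i q ∈ mx ^ 2 := fun i => by
    rw [← map_sub]
    refine GrothLib.QuadSeries.mem_max_pow fun d hd' => ?_
    rw [MvPowerSeries.coeff_pderiv, map_sub, hf _ (by simp only [map_add, Finsupp.degree_single]; omega), sub_self, zero_mul]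
  have hdX : ∀ a b : σ, MvPowerSeries.pderiv k a (X b) = if a = b then 1 else 0 := fun a b => by
    rcases eq_or_ne a b with rfl | h
    · simp [X, MvPowerSeries.pderiv_X_self]
    · simp [X, h, MvPowerSeries.pderiv_X_of_ne h.symm]
  have h2 : (2 : P) = 0 := by
    rw [show (2 : P) = MvPowerSeries.C (2 : k) from (map_ofNat _ 2).symm, CharTwo.two_eq_zero, map_zero]
  have hdq : ∀ i, MvPowerSeries.pderiv k i q =
      match i with
      | none => 0
      | some (Sum.inl a) => X (some (Sum.inr a))
      | some (Sum.inr a) => X (some (Sum.inl a)) := by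
    intro i
    simp only [q, map_add, map_sum, Derivation.leibniz, smul_eq_mul, hdX, sq]
    rcases i with _ | a | a <;>
      simp [σ, P, ← two_mul, h2, Finset.sum_add_distrib, mul_ite]
  have hIJ : I ≤ J := by
    refine Ideal.span_le.2 ?_
    rintro y (hy | ⟨i, rfl⟩)
    · rw [show y = f from hy, SetLike.mem_coe, ← sub_add_cancel f (X none ^ 2)]
      exact add_mem (Ideal.mul_le_right hfJ) hx0
    · beta_reduce
      rw [SetLike.mem_coe, ← sub_add_cancel (MvPowerSeries.pderiv k i f) (MvPowerSeries.pderiv k i q)]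
      refine add_mem (hm2J (hd i)) ?_
      rw [hdq]
      rcases i with _ | a | a
      exacts [zero_mem _, hxs _, hxs _]
  have hsq : X none ^ 2 ∈ I ⊔ mx * J := by
    rw [show X none ^ 2 = f - (f - X none ^ 2) by abel]
    exact sub_mem (Ideal.mem_sup_left (Ideal.subset_span (Or.inl rfl))) (Ideal.mem_sup_right hfJ)
  have hm2I : mx ^ 2 ≤ I ⊔ mx * J :=
    hm2.trans (sup_le ((Ideal.span_singleton_le_iff_mem _).2 hsq) le_sup_right)
  have hlin : ∀ i, MvPowerSeries.pderiv k i q ∈ I ⊔ mx * J := fun i => by
    rw [← sub_sub_self (MvPowerSeries.pderiv k i f) (MvPowerSeries.pderiv k i q)]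
    exact sub_mem (Ideal.mem_sup_left (Ideal.subset_span (Or.inr ⟨i, rfl⟩))) (hm2I (hd i))
  have hJI : J ≤ I := by
    refine Submodule.le_of_le_smul_of_le_jacobson_bot (IsNoetherian.noetherian _)
      (IsLocalRing.maximalIdeal_le_jacobson _) ?_
    rw [smul_eq_mul]
    refine Ideal.span_le.2 ?_
    rintro _ (rfl | ⟨a, rfl⟩)
    · exact hsq
    · rcases a with a | a
      · simpa [hdq] using hlin (some (Sum.inr a))
      · simpa [hdq] using hlin (some (Sum.inl a))
  refine ⟨le_antisymm hIJ hJI, ?_⟩
  -- the quotient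
  let e0 : σ →₀ ℕ := Finsupp.single none 1
  let φ : P →ₗ[k] k × k :=
    (MvPowerSeries.coeff (R := k) (0 : σ →₀ ℕ)).prod (MvPowerSeries.coeff (R := k) e0)
  have hsurj : Function.Surjective φ := fun ⟨a, b⟩ => ⟨MvPowerSeries.C a + MvPowerSeries.C b * X none, by
    simp only [φ, LinearMap.prod_apply, Pi.prod, map_add, X, MvPowerSeries.coeff_C_mul, MvPowerSeries.coeff_C, MvPowerSeries.coeff_X, e0]
    simp [σ, P, MvPowerSeries.coeff_C, MvPowerSeries.coeff_C_mul, MvPowerSeries.coeff_X, eq_comm (a := (0 : σ →₀ ℕ))]⟩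
  have hle : ∀ g ∈ J, ∀ d ≤ e0, MvPowerSeries.coeff d g = 0 := by
    intro g hg
    induction hg using Submodule.span_induction with
    | mem y hy =>
      intro d hd'
      rcases hy with rfl | ⟨j, rfl⟩
      · rw [MvPowerSeries.coeff_X_pow, if_neg fun e => ?_]
        have := hd' none
        simp [e, e0] at this
      · change MvPowerSeries.coeff d (MvPowerSeries.X _) = 0
        rw [MvPowerSeries.coeff_X, if_neg fun e => ?_]
        have := hd' (some j)
        simp [e, e0] at this
    | zero => intro d _; simp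
    | add a b _ _ ha hb => intro d hd'; rw [map_add, ha d hd', hb d hd', add_zero]
    | smul a g _ ih =>
      intro d hd'
      rw [smul_eq_mul, MvPowerSeries.coeff_mul]
      refine Finset.sum_eq_zero fun x hx => ?_
      rw [ih x.2 (le_trans (le_of_le_of_eq le_add_self (Finset.mem_antidiagonal.1 hx)) hd'), mul_zero]
  have hker : LinearMap.ker φ = J.restrictScalars k := by
    ext g
    rw [LinearMap.mem_ker, Submodule.restrictScalars_mem]
    constructor
    · intro hg
      have h0 : MvPowerSeries.constantCoeff g = 0 := congrArg Prod.fst hg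
      have h1 : MvPowerSeries.coeff e0 g = 0 := congrArg Prod.snd hg
      rw [show g = (g - ∑ j, MvPowerSeries.C (MvPowerSeries.coeff (Finsupp.single j 1) g) * X j) +
        ∑ j, MvPowerSeries.C (MvPowerSeries.coeff (Finsupp.single j 1) g) * X j by abel]
      refine add_mem (hm2J (GrothLib.QuadSeries.sub_linear_mem_sq h0)) (Ideal.sum_mem _ fun j _ => ?_)
      rcases j with _ | j
      · rw [h1, map_zero, zero_mul]; exact zero_mem _
      · exact Ideal.mul_mem_left _ _ (hxs j)
    · intro hg
      exact Prod.ext (hle g hg 0 bot_le) (hle g hg e0 le_rfl)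
  have e : (P ⧸ J) ≃ₗ[k] k × k :=
    (Submodule.Quotient.restrictScalarsEquiv k J).symm.trans
      ((Submodule.quotEquivOfEq _ _ hker.symm).trans (φ.quotKerEquivOfSurjective hsurj))
  rw [e.finrank_eq, Module.finrank_prod, Module.finrank_self]

end Groth.Agent.S8720
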