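import Groth.Statements.S8721
import Groth.Agent.Lib.FrobSep.Basic
import Mathlib.Algebra.CharP.Basic

set_option autoImplicit false
universe u v
open SGA7II

namespace Groth.Agent.S8721

/-- Let k be a separably closed field of characteristic p > 0, q = p^r with r >= 1, V a
finite-dimensional k-vector space and phi : V -> V additive with phi(c v) = c^q phi(v). Let V_ss be
the intersection, over n >= 1, of the k-subspaces spanned by the images of the iterates phi^n (the
semisimple part of V). Then V_ss has a k-basis consisting of phi-fixed vectors, and every phi-fixed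
vector of V is a linear combination of this basis with coefficients c satisfying c^q = c; that is,
V_ss is obtained from the F_q-space of fixed vectors by extension of scalars. -/
theorem result (k : Type u) [Field k] [IsSepClosed k] (p : ℕ)
    [Fact p.Prime] [CharP k p] (r : ℕ) (hr : 0 < r) (V : Type v) [AddCommGroup V] [Module k V]
    [FiniteDimensional k V] (φ : V →+ V) (hφ : ∀ (c : k) (v : V), φ (c • v) = c ^ (p ^ r) • φ v) :
    let Vss : Submodule k V := ⨅ n : ℕ, Submodule.span k (Set.range (φ^[n + 1]))
    ∃ b : Module.Basis (Fin (Module.finrank k ↥Vss)) k ↥Vss, (∀ i, φ (b i : V) = (b i : V)) ∧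
      ∀ v : V, φ v = v → ∃ c : Fin (Module.finrank k ↥Vss) → k,
        (∀ i, c i ^ (p ^ r) = c i) ∧ v = ∑ i, c i • (b i : V) := by
  intro Vss
  have hp := (Fact.out : p.Prime)
  have hq : 2 ≤ p ^ r := hp.two_le.trans (Nat.le_self_pow (by omega) p)
  have hq0 : ((p ^ r : ℕ) : k) = 0 := by
    rw [Nat.cast_pow, CharP.cast_eq_zero, zero_pow (by omega)]
  have hanti : ∀ a b : ℕ, a ≤ b → Submodule.span k (Set.range (φ^[b])) ≤ Submodule.span k (Set.range (φ^[a])) := by
    intro a b hab
    refine Submodule.span_mono ?_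
    rintro _ ⟨x, rfl⟩
    exact ⟨φ^[b - a] x, by rw [← Function.iterate_add_apply, Nat.add_sub_cancel' hab]⟩
  let U : ℕ →o (Submodule k V)ᵒᵈ :=
    ⟨fun m => OrderDual.toDual (Submodule.span k (Set.range (φ^[m]))), fun a b hab => hanti a b hab⟩
  obtain ⟨N, hN⟩ := IsArtinian.monotone_stabilizes U
  have hV : ∀ m, N ≤ m → Vss = Submodule.span k (Set.range (φ^[m + 1])) := fun m hm => by
    refine le_antisymm (iInf_le _ m) (le_iInf fun j => ?_)
    rcases le_total j m with h | h
    · exact hanti _ _ (by omega)
    · exact (hN (m + 1) (by omega)).symm.trans (hN (j + 1) (by omega)) |>.ge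
  have hW : ∀ v ∈ Vss, φ v ∈ Vss := fun v hv => by
    rw [hV (N + 1) (by omega)]
    rw [hV N le_rfl] at hv
    induction hv using Submodule.span_induction with
    | mem x hx =>
      obtain ⟨y, rfl⟩ := hx
      exact Submodule.subset_span ⟨y, Function.iterate_succ_apply' φ (N + 1) y⟩
    | zero => simp
    | add x y _ _ hx hy => rw [map_add]; exact add_mem hx hy
    | smul c x _ hx => rw [hφ]; exact Submodule.smul_mem _ _ hx
  let ψ : Vss →+ Vss := (φ.comp Vss.subtype.toAddMonoidHom).codRestrict Vss.toAddSubgroup fun v => hW v v.2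
  have hψss : Submodule.span k (Set.range ψ) = ⊤ := by
    apply Submodule.map_injective_of_injective Vss.subtype_injective
    rw [Submodule.map_span, Submodule.map_top, Submodule.range_subtype]
    refine le_antisymm (Submodule.span_le.2 ?_) ?_
    · rintro _ ⟨x, -, rfl⟩; exact x.2
    · refine (hV (N + 1) (by omega)).le.trans (Submodule.span_mono ?_)
      rintro _ ⟨v, rfl⟩
      exact ⟨ψ ⟨φ^[N + 1] v, by rw [hV N le_rfl]; exact Submodule.subset_span ⟨v, rfl⟩⟩, ⟨_, rfl⟩,
        (Function.iterate_succ_apply' φ (N + 1) v).symm⟩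
  obtain ⟨b, hb, hb'⟩ := GrothLib.FrobSep.exists_basis_fixed hq hq0 ψ (fun a v => Subtype.ext (hφ a v)) hψss
  refine ⟨b, fun i => congrArg Subtype.val (hb i), fun v hv => ?_⟩
  have hmem : v ∈ Vss := by
    rw [hV N le_rfl]
    exact Submodule.subset_span ⟨v, Function.iterate_fixed hv (N + 1)⟩
  refine ⟨fun i => b.repr ⟨v, hmem⟩ i, hb' ⟨v, hmem⟩ (Subtype.ext hv), ?_⟩
  have := congrArg Vss.subtype (b.sum_repr ⟨v, hmem⟩)
  simp only [map_sum, map_smul, Submodule.coe_subtype] at this
  exact this.symm

end Groth.Agent.S8721
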