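import Groth.Statements.S8722
import Groth.Agent.Lib.FrobSep.Basic
import Mathlib.Algebra.CharP.Basic

set_option autoImplicit false
universe u v
open SGA7II

namespace Groth.Agent.S8722

/-- Let k be a separably closed field of characteristic p > 0, q = p^r with r >= 1, V a
finite-dimensional k-vector space and phi : V -> V additive with phi(c v) = c^q phi(v), semisimple
in the sense that its image spans V. Then for n >= 1 the fixed vectors of the n-th iterate of phi
are exactly the finite linear combinations of phi-fixed vectors with coefficients c satisfying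
c^(q^n) = c; that is, the fixed space of phi^n is obtained from the F_q-space of phi-fixed vectors
by extending scalars to F_{q^n}. -/
theorem result (k : Type u) [Field k] [IsSepClosed k] (p : ℕ)
    [Fact p.Prime] [CharP k p] (r : ℕ) (hr : 0 < r) (V : Type v) [AddCommGroup V] [Module k V]
    [FiniteDimensional k V] (φ : V →+ V) (hφ : ∀ (c : k) (v : V), φ (c • v) = c ^ (p ^ r) • φ v)
    (hss : Submodule.span k (Set.range φ) = ⊤) (n : ℕ) (hn : 0 < n) (v : V) :
    φ^[n] v = v ↔ ∃ (s : Finset V) (c : V → k), (∀ w ∈ s, φ w = w) ∧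
      (∀ w ∈ s, c w ^ ((p ^ r) ^ n) = c w) ∧ v = ∑ w ∈ s, c w • w := by
  classical
  have hp := (Fact.out : p.Prime)
  have hq : 2 ≤ p ^ r := hp.two_le.trans (Nat.le_self_pow (by omega) p)
  have hq0 : ((p ^ r : ℕ) : k) = 0 := by
    rw [Nat.cast_pow, CharP.cast_eq_zero, zero_pow (by omega)]
  have hit : ∀ (m : ℕ) (c : k) (x : V), φ^[m] (c • x) = c ^ ((p ^ r) ^ m) • φ^[m] x := by
    intro m
    induction m with
    | zero => intro c x; simp
    | succ m ih => intro c x; rw [Function.iterate_succ_apply', ih, hφ, ← pow_mul, ← pow_succ, Function.iterate_succ_apply']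
  have hfix : ∀ (m : ℕ) (w : V), φ w = w → φ^[m] w = w := fun m w hw => Function.iterate_fixed hw m
  have hsum : ∀ {ι : Type v} (s : Finset ι) (f : ι → V), φ^[n] (∑ i ∈ s, f i) = ∑ i ∈ s, φ^[n] (f i) := by
    intro ι s f
    induction s using Finset.induction_on with
    | empty => simp [Function.iterate_fixed (map_zero φ)]
    | insert a t ha ih => rw [Finset.sum_insert ha, Finset.sum_insert ha, iterate_map_add, ih]
  constructor
  · intro hv
    obtain ⟨b, hb, -⟩ := GrothLib.FrobSep.exists_basis_fixed hq hq0 φ hφ hss
    let c : V → k := Function.extend b (fun i => b.repr v i) 0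
    have hc : ∀ i, c (b i) = b.repr v i := fun i => b.injective.extend_apply _ _ i
    have hvs : v = ∑ w ∈ Finset.univ.image b, c w • w := by
      rw [Finset.sum_image fun x _ y _ h => b.injective h]
      simp only [hc, b.sum_repr]
    refine ⟨Finset.univ.image b, c, ?_, ?_, hvs⟩
    · intro w hw
      obtain ⟨i, -, rfl⟩ := Finset.mem_image.1 hw
      exact hb i
    · intro w hw
      obtain ⟨i, -, rfl⟩ := Finset.mem_image.1 hw
      have h1 : v = ∑ j, (b.repr v j) ^ ((p ^ r) ^ n) • b j := by
        conv_lhs => rw [← hv, hvs, hsum]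
        rw [Finset.sum_image fun x _ y _ h => b.injective h]
        exact Finset.sum_congr rfl fun j _ => by rw [hit, hfix n _ (hb j), hc]
      have h2 := congrArg (fun z => b.repr z i) h1
      simp only [b.repr_sum_self] at h2
      rw [hc]
      exact h2.symm
  · rintro ⟨s, c, h1, h2, rfl⟩
    rw [hsum]
    exact Finset.sum_congr rfl fun w hw => by rw [hit, hfix n w (h1 w hw), h2 w hw]

end Groth.Agent.S8722
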