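import Groth.Statements.S8723
import Groth.Agent.Lib.ArSurf29.FibreField
import Groth.Agent.Lib.ArSurf29.FibreComponents
import Groth.Agent.Lib.ArSurf29.InsepLength
import Groth.Agent.Lib.ArSurf29.Horizontal

set_option autoImplicit false
set_option backward.isDefEq.respectTransparency false
universe u
open CategoryTheory CategoryTheory.Limits AlgebraicGeometry
open ArSurf

namespace Groth.Agent.S8723

/-- Let R be a discrete valuation ring with residue field k and X an integral regular scheme of Krull
dimension 2, proper and flat over Spec R by f (a regular proper flat model whose fibres are curves).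
Write X_s for the special fibre and X_sbar for its base change to an algebraic closure of k. Assume
that X_s is geometrically connected (its base change to every field extension of k is connected) and
that the multiplicities of the irreducible components of X_sbar, i.e. the lengths of the local rings
of X_sbar at its maximal points, have greatest common divisor 1 (no prime divides all of them). Then
the canonical map k -> H^0(X_s, O_{X_s}) is bijective (X is cohomologically flat over R in degree
0). -/
theorem result (R : Type u) [CommRing R] [IsDomain R]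
    [IsDiscreteValuationRing R] {X : Scheme.{u}} (f : X ⟶ Spec (CommRingCat.of R)) [IsProper f] [Flat f]
    [IsIntegral X] (hreg : ∀ x : X, IsRegularLocalRing (X.presheaf.stalk x))
    (hdim : topologicalKrullDim X = 2)
    (hconn : ∀ (K : Type u) [Field K] [Algebra (IsLocalRing.ResidueField R) K],
      ConnectedSpace ↥(pullback f (Spec.map (CommRingCat.ofHom
        ((algebraMap (IsLocalRing.ResidueField R) K).comp (IsLocalRing.residue R))))))
    (hd : letI Xb := pullback f (Spec.map (CommRingCat.ofHom
        ((algebraMap (IsLocalRing.ResidueField R) (AlgebraicClosure (IsLocalRing.ResidueField R))).comp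
          (IsLocalRing.residue R))))
      ∀ ℓ : ℕ, ℓ.Prime → ∃ x : ↥Xb, (∀ y : ↥Xb, y ⤳ x → y = x) ∧
        ¬ (ℓ ∣ (Module.length (Xb.presheaf.stalk x) (Xb.presheaf.stalk x)).toNat)) :
    Function.Bijective
      (pullback.snd f (Spec.map (CommRingCat.ofHom (IsLocalRing.residue R)))).appTop.hom := by
  classical
  let k := IsLocalRing.ResidueField R
  let K := AlgebraicClosure k
  let φ := Spec.map (CommRingCat.ofHom (IsLocalRing.residue R))
  let ψ := Spec.map (CommRingCat.ofHom (algebraMap k K))
  haveI : IsClosedImmersion φ := IsClosedImmersion.spec_of_surjective _ IsLocalRing.residue_surjective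
  let Y : Over (Spec (CommRingCat.of R)) := Over.mk f
  haveI : IsProper Y.hom := (inferInstance : IsProper f)
  haveI : Flat Y.hom := (inferInstance : Flat f)
  haveI : IsIntegral Y.left := (inferInstance : IsIntegral X)
  haveI : IsLocallyNoetherian Y.left := LocallyOfFiniteType.isLocallyNoetherian Y.hom
  have hY : Models.IsRegularScheme Y.left := hreg
  obtain ⟨n, Γ, hΓ⟩ := GrothLib.ArSurf29.exists_componentList (X := Y) hdim
  let i := pullback.fst f φ
  have hkeri : i.ker = Models.specialFibreIdeal R Y := GrothLib.ArSurf29.ker_fst_residue (X := Y)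
  have hrange : Set.range i = Models.specialFibreSet R Y := by
    rw [← GrothLib.ArSurf29.support_fibre, ← hkeri, Scheme.Hom.support_ker]
    exact i.isClosedEmbedding.isClosed_range.closure_eq.symm
  have eΨ : ψ ≫ φ = Spec.map (CommRingCat.ofHom ((algebraMap k K).comp (IsLocalRing.residue R))) :=
    (Spec.map_comp _ _).symm
  letI : (pullback f φ).Over (Spec (CommRingCat.of k)) := ⟨pullback.snd f φ⟩
  haveI : IsProper (pullback f φ ↘ Spec (CommRingCat.of k)) := inferInstanceAs (IsProper (pullback.snd f φ))
  haveI : ConnectedSpace ↥(pullback f φ) := hconn k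
  have hpre : _root_.IsPreconnected (Models.specialFibreSet R Y) := hrange ▸ isPreconnected_range i.continuous
  obtain ⟨x₀⟩ := (inferInstance : Nonempty ↥(pullback f φ))
  haveI : Nonempty (Fin n) :=
    ⟨(GrothLib.ArSurf29.exists_mem_range hΓ (hrange.le ⟨x₀, rfl⟩)).choose⟩
  -- multiplicities
  have hmult : ∀ z : ↥(pullback f φ), (∀ y, y ⤳ z → y = z) → ∃ j,
      (Module.length ((pullback f φ).presheaf.stalk z) ((pullback f φ).presheaf.stalk z)).toNat = Models.mult R Y (Γ j) := by
    intro z hz
    obtain ⟨j, hj⟩ := GrothLib.ArSurf29.exists_mem_range hΓ (hrange.le ⟨z, rfl⟩)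
    obtain ⟨y, hy⟩ := hrange.ge (GrothLib.ArSurf29.genPt_mem_fibre (Γ j))
    have hyz : y ⤳ z := i.isEmbedding.isInducing.specializes_iff.1 (hy ▸ (GrothLib.ArSurf29.mem_range_iff (Γ j)).1 hj)
    refine ⟨j, ?_⟩
    obtain rfl := hz y hyz
    letI := (i.stalkMap y).hom.toAlgebra
    have hs : Function.Surjective (algebraMap (X.presheaf.stalk (i y)) ((pullback f φ).presheaf.stalk y)) := i.stalkMap_surjective y
    rw [← Module.length_eq_of_surjective (S := X.presheaf.stalk (i y)) (M := (pullback f φ).presheaf.stalk y) hs]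
    have hk : RingHom.ker (i.stalkMap y).hom = (IsLocalRing.maximalIdeal R).map (Models.stalkHom R Y (i y)) := by
      rw [GrothLib.ArSurf29.ker_stalkMap_eq_stalkIdeal, hkeri]
      exact GrothLib.ArSurf29.st_fibre (X := Y) (i y)
    rw [← (Ideal.quotientKerAlgEquivOfSurjective (f := Algebra.ofId (X.presheaf.stalk (i y)) ((pullback f φ).presheaf.stalk y)) hs).toLinearEquiv.length_eq]
    show (Module.length (X.presheaf.stalk (i y)) (X.presheaf.stalk (i y) ⧸ RingHom.ker (i.stalkMap y).hom)).toNat = _
    rw [hk]
    have h2 : ∀ v : X, v = Models.genPtOf R Y (Γ j) → (Module.length (X.presheaf.stalk v) (X.presheaf.stalk v ⧸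
        (IsLocalRing.maximalIdeal R).map (Models.stalkHom R Y v))).toNat = Models.mult R Y (Γ j) := by
      rintro v rfl
      rfl
    exact h2 _ hy
  obtain ⟨Xb', p, q, sq, ⟨e⟩⟩ := GrothLib.GlobalConst.exists_equiv_baseChange k (X := pullback f φ)
  have sq' : IsPullback p q (pullback.snd f φ) ψ := sq
  let Xb := pullback f (Spec.map (CommRingCat.ofHom ((algebraMap k K).comp (IsLocalRing.residue R))))
  have sq2 : IsPullback (p ≫ i) q f (ψ ≫ φ) := sq'.paste_horiz (IsPullback.of_hasPullback f φ)
  rw [eΨ] at sq2
  let eb : Xb' ≅ Xb := sq2.isoPullback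
  haveI : Flat ψ := inferInstance
  haveI : Flat p := MorphismProperty.of_isPullback (P := @Flat) sq'.flip inferInstance
  haveI : ConnectedSpace ↥Xb' := by
    haveI : ConnectedSpace ↥Xb := hconn K
    exact eb.inv.homeomorph.surjective.connectedSpace eb.inv.continuous
  -- lengths at maximal points of the geometric fibre
  have hb : ∀ ℓ : ℕ, ℓ.Prime → ∃ x : ↥Xb', (∀ y, y ⤳ x → y = x) ∧
      ¬ ℓ ∣ (Module.length (Xb'.presheaf.stalk x) (Xb'.presheaf.stalk x)).toNat := by
    intro ℓ hℓ
    obtain ⟨x, hx, hl⟩ := hd ℓ hℓ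
    obtain ⟨x', rfl⟩ := eb.hom.homeomorph.surjective x
    refine ⟨x', fun y hy => eb.hom.homeomorph.injective (hx _ (hy.map eb.hom.continuous)), ?_⟩
    have e2 : (Xb.presheaf.stalk (eb.hom x')) ≃+* (Xb'.presheaf.stalk x') := (asIso (eb.hom.stalkMap x')).commRingCatIsoToRingEquiv
    intro h
    refine hl ?_
    letI := e2.toRingHom.toAlgebra
    have h3 := Module.length_eq_of_surjective (S := Xb.presheaf.stalk (eb.hom x')) (M := Xb'.presheaf.stalk x') e2.surjective
    rw [← (LinearEquiv.ofBijective (Algebra.linearMap (Xb.presheaf.stalk (eb.hom x')) (Xb'.presheaf.stalk x')) e2.bijective).length_eq] at h3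
    rwa [← h3] at h
  have hgcd : Models.multGcd R Y Γ = 1 := by
    rw [Nat.eq_one_iff_not_exists_prime_dvd]
    intro ℓ hℓ hdvd
    obtain ⟨x, hx, hl⟩ := hb ℓ hℓ
    obtain ⟨j, hj⟩ := hmult (p x) fun y hy => by
      obtain ⟨y', hy', rfl⟩ := Flat.generalizingMap p hy
      rw [hx y' hy']
    refine hl ?_
    letI := (p.stalkMap x).hom.toAlgebra
    haveI : Module.Flat ((pullback f φ).presheaf.stalk (p x)) (Xb'.presheaf.stalk x) := Flat.stalkMap p x
    haveI : IsLocalHom (algebraMap ((pullback f φ).presheaf.stalk (p x)) (Xb'.presheaf.stalk x)) :=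
      inferInstanceAs (IsLocalHom (p.stalkMap x).hom)
    have h := IsLocalRing.length_baseChange ((pullback f φ).presheaf.stalk (p x)) (Xb'.presheaf.stalk x) ((pullback f φ).presheaf.stalk (p x))
    rw [(TensorProduct.AlgebraTensorModule.rid ((pullback f φ).presheaf.stalk (p x)) (Xb'.presheaf.stalk x) (Xb'.presheaf.stalk x)).length_eq] at h
    rw [h, ENat.toNat_mul, hj]
    exact dvd_mul_of_dvd_left (hdvd.trans (Finset.gcd_dvd (Finset.mem_univ j))) _
  -- the field of constants
  have hF := GrothLib.ArSurf29.isField_pullback (X := Y) hY hΓ hpre hgcd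
  replace hF : IsField Γ(pullback f φ, ⊤) := hF
  letI := GrothLib.GlobalConst.algΓ k (X := pullback f φ)
  haveI := GrothLib.GlobalConst.finite_algΓ k (X := pullback f φ)
  letI := hF.toField
  haveI : IsPurelyInseparable k Γ(pullback f φ, ⊤) :=
    GrothLib.GlobalConst.isPurelyInseparable_of_idempotents k Γ(pullback f φ, ⊤) fun a ha =>
      (GrothLib.GlobalConst.eq_zero_or_one_of_connected (e a) (ha.map e)).imp
        (fun h => e.injective (h.trans (map_zero e).symm)) (fun h => e.injective (h.trans (map_one e).symm))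
  have hπ : (pullback f φ).toSpecΓ ≫ Spec.map (CommRingCat.ofHom (algebraMap k Γ(pullback f φ, ⊤))) = pullback.snd f φ := by
    have h1 : CommRingCat.ofHom (algebraMap k Γ(pullback f φ, ⊤)) =
        (Scheme.ΓSpecIso (CommRingCat.of k)).inv ≫ (pullback.snd f φ).appTop := rfl
    rw [h1, Spec.map_comp, ← Category.assoc, ← Scheme.toSpecΓ_naturality, Category.assoc, toSpecΓ_SpecMap_ΓSpecIso_inv, Category.comp_id]
  have hone : Module.finrank k Γ(pullback f φ, ⊤) = 1 := by
    rw [Nat.eq_one_iff_not_exists_prime_dvd]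
    intro ℓ hℓ hdvd
    obtain ⟨x, -, hl⟩ := hb ℓ hℓ
    refine hl (hdvd.trans (GrothLib.ArSurf29.finrank_dvd_length (k := k) (κ := Γ(pullback f φ, ⊤)) (K := K)
      (pullback f φ).toSpecΓ (p := p) (q := q) ?_ x))
    rw [hπ]
    exact sq'
  have hbij : Function.Bijective (algebraMap k Γ(pullback f φ, ⊤)) :=
    ⟨(algebraMap k Γ(pullback f φ, ⊤)).injective, fun b => by
      obtain ⟨c, hc⟩ := (finrank_eq_one_iff_of_nonzero' (1 : Γ(pullback f φ, ⊤)) one_ne_zero).1 hone b
      exact ⟨c, (Algebra.algebraMap_eq_smul_one c).trans hc⟩⟩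
  have hcoe : (⇑(algebraMap k Γ(pullback f φ, ⊤))) =
      (pullback.snd f φ).appTop.hom ∘ (Scheme.ΓSpecIso (CommRingCat.of k)).inv := rfl
  rw [hcoe] at hbij
  exact (Function.Bijective.of_comp_iff _ (Scheme.ΓSpecIso (CommRingCat.of k)).commRingCatIsoToRingEquiv.symm.bijective).1 hbij

end Groth.Agent.S8723
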