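import Groth.Statements.S8724
import Mathlib.Algebra.Ring.GeomSum
import Mathlib.Data.Nat.Choose.Sum
import Mathlib.Algebra.BigOperators.Intervals

set_option autoImplicit false
open LefPen

namespace Groth.Agent.S8724

/-- The algebraic identity established in its proof: let a >= 1 and work in Z[y, z]. Then (1+y)^(a-1) -
(1+z)^(a-1) = (y - z) * (sum over i, j >= 0 with i + j + 1 <= a - 1 of C(a-1, i+j+1) y^i z^j), and
(1+y)^a z - (1+z)^a y = (y - z) * (-1 + sum over i, j >= 1 with i + j <= a of C(a, i+j) y^i z^j).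
Consequently the rational function -((1+y)^(a-1) - (1+z)^(a-1)) / ((1+y)^a z - (1+z)^a y), the
generating series of the primitive middle Hodge numbers of smooth hypersurfaces of degree a, equals
(sum_{i,j >= 0} C(a-1, i+j+1) y^i z^j) / (1 - sum_{i,j >= 1} C(a, i+j) y^i z^j). -/
theorem result (a : ℕ) (ha : 1 ≤ a) :
    let y : MvPolynomial (Fin 2) ℤ := MvPolynomial.X 0
    let z : MvPolynomial (Fin 2) ℤ := MvPolynomial.X 1
    ((1 + y) ^ (a - 1) - (1 + z) ^ (a - 1) =
      (y - z) * ∑ i ∈ Finset.range a, ∑ j ∈ Finset.range a,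
        if i + j + 1 ≤ a - 1 then ((a - 1).choose (i + j + 1) : MvPolynomial (Fin 2) ℤ) * y ^ i * z ^ j else 0) ∧
    ((1 + y) ^ a * z - (1 + z) ^ a * y =
      (y - z) * (-1 + ∑ i ∈ Finset.range (a + 1), ∑ j ∈ Finset.range (a + 1),
        if 1 ≤ i ∧ 1 ≤ j ∧ i + j ≤ a then (a.choose (i + j) : MvPolynomial (Fin 2) ℤ) * y ^ i * z ^ j else 0)) := by
  intro y z
  have gen : ∀ (N : ℕ) (c : ℕ → MvPolynomial (Fin 2) ℤ), (∀ m, N ≤ m → c m = 0) →
      (y - z) * ∑ i ∈ Finset.range N, ∑ j ∈ Finset.range N, c (i + j) * y ^ i * z ^ j =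
        ∑ m ∈ Finset.range N, c m * (y ^ (m + 1) - z ^ (m + 1)) := by
    intro N c hc
    have h1 : ∀ i ∈ Finset.range N, ∑ j ∈ Finset.range N, c (i + j) * y ^ i * z ^ j =
        ∑ j ∈ Finset.range (N - i), c (i + j) * y ^ i * z ^ j := by
      intro i _
      refine (Finset.sum_subset (Finset.range_subset_range.2 (Nat.sub_le N i)) fun j _ hj => ?_).symm
      rw [Finset.mem_range, not_lt] at hj
      rw [hc _ (by omega)]; ring
    rw [Finset.sum_congr rfl h1, ← Finset.sum_range_diag_flip N (fun i j => c (i + j) * y ^ i * z ^ j),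
      Finset.mul_sum]
    refine Finset.sum_congr rfl fun m _ => ?_
    rw [← geom_sum₂_mul, Finset.mul_sum, Finset.sum_mul, Finset.mul_sum]
    refine Finset.sum_congr rfl fun i hi => ?_
    rw [Finset.mem_range] at hi
    rw [Nat.add_sub_cancel' (Nat.lt_succ_iff.1 hi), show m + 1 - 1 - i = m - i by omega]
    ring
  obtain ⟨n, rfl⟩ : ∃ n, a = n + 1 := ⟨a - 1, by omega⟩
  constructor
  · have hsum := gen (n + 1) (fun m => (n.choose (m + 1) : MvPolynomial (Fin 2) ℤ)) fun m hm => by
      simp [Nat.choose_eq_zero_of_lt (show n < m + 1 by omega)]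
    rw [Nat.add_sub_cancel]
    have he : ∀ i j : ℕ, (if i + j + 1 ≤ n then (n.choose (i + j + 1) : MvPolynomial (Fin 2) ℤ) * y ^ i * z ^ j else 0)
        = (n.choose (i + j + 1) : MvPolynomial (Fin 2) ℤ) * y ^ i * z ^ j := by
      intro i j; split_ifs with h
      · rfl
      · simp [Nat.choose_eq_zero_of_lt (not_le.1 h)]
    simp only [he]
    rw [hsum, Finset.sum_range_succ, add_comm 1 y, add_comm 1 z, add_pow, add_pow, Finset.sum_range_succ',
      Finset.sum_range_succ' (fun m => z ^ m * 1 ^ (n - m) * (n.choose m : MvPolynomial (Fin 2) ℤ))]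
    simp [mul_sub, Finset.sum_sub_distrib, mul_comm, mul_left_comm]
  · have hsum := gen (n + 1) (fun m => ((n + 1).choose (m + 2) : MvPolynomial (Fin 2) ℤ)) fun m hm => by
      simp [Nat.choose_eq_zero_of_lt (show n + 1 < m + 2 by omega)]
    have hS : (∑ i ∈ Finset.range (n + 1 + 1), ∑ j ∈ Finset.range (n + 1 + 1),
        if 1 ≤ i ∧ 1 ≤ j ∧ i + j ≤ n + 1 then ((n + 1).choose (i + j) : MvPolynomial (Fin 2) ℤ) * y ^ i * z ^ j else 0)
        = y * z * ∑ i ∈ Finset.range (n + 1), ∑ j ∈ Finset.range (n + 1),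
          ((n + 1).choose (i + j + 2) : MvPolynomial (Fin 2) ℤ) * y ^ i * z ^ j := by
      rw [Finset.sum_range_succ', Finset.mul_sum]
      rw [Finset.sum_eq_zero (s := Finset.range (n + 1 + 1)) (fun j _ => if_neg (by omega)), add_zero]
      refine Finset.sum_congr rfl fun i _ => ?_
      rw [Finset.sum_range_succ', Finset.mul_sum, if_neg (by omega), add_zero]
      refine Finset.sum_congr rfl fun j _ => ?_
      rw [show i + 1 + (j + 1) = i + j + 2 by omega]
      split_ifs with h
      · ring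
      · simp [Nat.choose_eq_zero_of_lt (show n + 1 < i + j + 2 by omega)]
    rw [hS, mul_add, ← mul_assoc, mul_comm (y - z) (y * z), mul_assoc, hsum]
    have hbin : ∀ w : MvPolynomial (Fin 2) ℤ, (1 + w) ^ (n + 1) = 1 + ((n : MvPolynomial (Fin 2) ℤ) + 1) * w +
        ∑ m ∈ Finset.range (n + 1), ((n + 1).choose (m + 2) : MvPolynomial (Fin 2) ℤ) * w ^ (m + 2) := by
      intro w
      rw [add_comm 1 w, add_pow, Finset.sum_range_succ', Finset.sum_range_succ', Finset.sum_range_succ]
      simp [Nat.choose_eq_zero_of_lt (show n + 1 < n + 2 by omega), mul_comm]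
      ring
    rw [hbin, hbin, Finset.mul_sum]
    simp only [add_mul, Finset.sum_mul]
    have hdiff : (∑ m ∈ Finset.range (n + 1), y * z * (((n + 1).choose (m + 2) : MvPolynomial (Fin 2) ℤ) *
        (y ^ (m + 1) - z ^ (m + 1)))) =
        (∑ m ∈ Finset.range (n + 1), ((n + 1).choose (m + 2) : MvPolynomial (Fin 2) ℤ) * y ^ (m + 2) * z) -
        ∑ m ∈ Finset.range (n + 1), ((n + 1).choose (m + 2) : MvPolynomial (Fin 2) ℤ) * z ^ (m + 2) * y := by
      rw [← Finset.sum_sub_distrib]
      exact Finset.sum_congr rfl fun m _ => by ring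
    rw [hdiff]
    ring

end Groth.Agent.S8724
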