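import Groth.Statements.S8725
import Groth.Agent.Lib.CdP18.Card
-- import your own Groth.Agent.* helpers here

set_option autoImplicit false
universe u
open CategoryTheory CategoryTheory.Limits AlgebraicGeometry
open SGA7II

namespace Groth.Agent.S8725

/-- In the form statable without the Frobenius action: let k be a separably closed field of
characteristic p > 0 and X a proper k-scheme. Then for every i the etale cohomology group H^i(X_et,
Z/p) is finite, of order at most p^(dim_k H^i(X, O_X)). (The published statement identifies
H^i(X_et, Z/p) with the Frobenius-fixed vectors of H^i(X, O_X); this row states only the resulting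
finiteness and order bound.) -/
theorem result (k : Type u) [Field k] [IsSepClosed k] (p : ℕ)
    [Fact p.Prime] [CharP k p] (X : Scheme.{u}) [X.Over (Spec (CommRingCat.of k))]
    [IsProper (X ↘ Spec (CommRingCat.of k))] (i : ℕ) :
    Finite (EtCoh.H X (EtCoh.const X (ZMod p)) i) ∧
      Nat.card (EtCoh.H X (EtCoh.const X (ZMod p)) i) ≤
        p ^ Module.finrank k (Coh.HH X (Coh.structureModule X) i) := GrothLib.CdP18.card_H_const_le p (X ↘ Spec (CommRingCat.of k)) i

end Groth.Agent.S8725
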