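import Groth.Statements.S8730
import Groth.Agent.Lib.ArSurf29.Form

set_option autoImplicit false
universe u
open CategoryTheory CategoryTheory.Limits AlgebraicGeometry
open ArSurf

namespace Groth.Agent.S8730

/-- For two distinct vertical prime divisors: let R be a discrete valuation ring, X an arithmetic
surface over Spec R (regular, integral, of dimension 2, flat and projective), Γ_1 ≠ Γ_2 vertical
prime divisors of X over the closed point, and L_1, L_2 O_X-modules with L_i ⊗ I(Γ_i) ≅ O_X (L_i =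
O_X(Γ_i)). Then the intersection number is symmetric: deg_k(L_2|_{Γ_1}) = deg_k(L_1|_{Γ_2}), both
being the length over k of the scheme-theoretic intersection Γ_1 ∩ Γ_2. -/
theorem result (R : Type u) [CommRing R] [IsDomain R] [IsDiscreteValuationRing R]
    (X : Over (Spec (CommRingCat.of R))) (hX : ArSurf.IsArithSurface R X) (Γ₁ Γ₂ : ArSurf.VertComp R X)
    (hne : Set.range Γ₁.ι.base ≠ Set.range Γ₂.ι.base)
    (L₁ L₂ : X.left.Modules) (h₁ : ClSub.IsInverseOf L₁ (ClSub.idealMod Γ₁.ι.ker))
    (h₂ : ClSub.IsInverseOf L₂ (ClSub.idealMod Γ₂.ι.ker)) :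
    ArSurf.inter R X L₂ Γ₁ = ArSurf.inter R X L₁ Γ₂ := by
  haveI := GrothLib.ArSurf29.isProper_of_isArithSurface hX
  haveI := GrothLib.ArSurf29.isLocallyNoetherian_of_isArithSurface hX
  haveI : Flat X.hom := hX.2.2.2.1
  exact GrothLib.ArSurf29.inter_symm_of_ne hX.1 (GrothLib.ArSurf29.isMaxComp_of_isArithSurface hX Γ₁)
    (GrothLib.ArSurf29.isMaxComp_of_isArithSurface hX Γ₂) hne h₁ h₂

end Groth.Agent.S8730
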