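import Groth.Statements.S8731
import Groth.Agent.Lib.HypCI12.Dim

set_option autoImplicit false
set_option maxHeartbeats 800000
set_option linter.style.haveILetI false
set_option backward.isDefEq.respectTransparency false
universe u
open CategoryTheory CategoryTheory.Limits AlgebraicGeometry
open LefPen

namespace Groth.Agent.S8731

/-- (iv), the assertions on the structure sheaf: let k be an algebraically closed field, n >= 1, and Q a
quadratic form in n + 2 variables whose zero scheme X = V(Q) ⊂ P^{n+1}_k is smooth over k of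
relative dimension n (a smooth quadric of dimension n). Then H^i(X, O_X) = 0 for every i >= 1, and
the structure map identifies k with H^0(X, O_X). (The published item also computes H^1(X, O_X(1)),
the canonical sheaf and the Picard group, not stated here.) -/
theorem result (k : Type u) [Field k] [IsAlgClosed k] (n : ℕ) (hn : 1 ≤ n)
    (Q : LefPen.Form (n + 1) k 2)
    [SmoothOfRelativeDimension n ((LefPen.hypIdeal Q).subschemeι ≫ CohB1.ProjSpace.toSpec (n + 1) k)] :
    (∀ i : ℕ, 1 ≤ i → Subsingleton (Coh.HH (LefPen.hypIdeal Q).subscheme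
        (Coh.structureModule (LefPen.hypIdeal Q).subscheme) i)) ∧
      Function.Bijective ((LefPen.hypIdeal Q).subschemeι ≫ CohB1.ProjSpace.toSpec (n + 1) k).appTop.hom := by
  have hI : LefPen.ciIdeal (fun _ : Fin 1 => Q) = LefPen.hypIdeal Q := iSup_const
  have hQ : Q ≠ 0 := by
    intro h0
    haveI : SmoothOfRelativeDimension n
        ((LefPen.ciIdeal fun _ : Fin 1 => Q).subschemeι ≫ CohB1.ProjSpace.toSpec (n + 1) k) := by
      rw [hI]; infer_instance
    have hd := GrothLib.HypCI12.dim_of_smooth (fun _ : Fin 1 => Q) (by omega : 1 ≤ n + 1) (fun _ => one_le_two) n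
    rw [GrothLib.CI20.dim_eq] at hd
    have huniv : ProjectiveSpectrum.zeroLocus (CohB1.polyGrading (n + 1) k)
        (Ideal.span (Set.range fun _ : Fin 1 => (Q : MvPolynomial (Fin (n + 1 + 1)) k)) :
          Set (MvPolynomial (Fin (n + 1 + 1)) k)) = Set.univ := by
      rw [ProjectiveSpectrum.zeroLocus_span, Set.eq_univ_iff_forall]
      intro x
      rw [ProjectiveSpectrum.mem_zeroLocus]
      rintro _ ⟨_, rfl⟩
      subst h0
      exact x.asHomogeneousIdeal.toIdeal.zero_mem
    rw [huniv] at hd
    have h1 := topologicalKrullDim_subspace_le (ProjectiveSpectrum (CohB1.polyGrading (n + 1) k))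
      (closure {(GrothLib.ProjDim.botPt : ProjectiveSpectrum (CohB1.polyGrading (n + 1) k))})
    rw [GrothLib.ProjDim.dim_closure_botPt] at h1
    rw [(Homeomorph.Set.univ _).isEmbedding.isInducing.topologicalKrullDim_le.antisymm
      (Homeomorph.Set.univ _).symm.isEmbedding.isInducing.topologicalKrullDim_le] at hd
    rw [hd] at h1
    have : n + 1 ≤ n := by exact_mod_cast h1
    omega
  have hdim := GrothLib.HypCI12.dim_hyp (n := n) one_le_two Q hQ
  obtain ⟨eI⟩ := GrothLib.CI20.nonempty_idealMod_hyp Q hQ
  refine ⟨fun i hi => ?_, ?_⟩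
  · let j := (LefPen.hypIdeal Q).subschemeι
    letI : (LefPen.hypIdeal Q).subscheme.Over (Spec (CommRingCat.of k)) := ⟨j ≫ CohB1.ProjSpace.toSpec (n + 1) k⟩
    let M := (Scheme.Modules.pullback j).obj (Twist.twistProjSpace (n + 1) k 0)
    haveI : M.IsQuasicoherent := GrothLib.InvExt.isQuasicoherent_of_isInvertible
      (GrothLib.RelProjK.isInvertible_pullback j (GrothLib.CMReg.isInvertible_twist (n := n + 1) (k := k) 0))
    obtain ⟨e⟩ := GrothLib.Snapper.nonempty_HH_linearEquiv_pushforward (A := k) j rfl M i
    obtain ⟨e3⟩ := GrothLib.CI20.nonempty_projection j 0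
    obtain ⟨e0⟩ := GrothLib.GrTilde.nonempty_structureModule_iso_twist_zero (CohB1.polyGrading (n + 1) k)
    let e0' : Coh.structureModule (CohB1.ProjSpace (n + 1) k) ≅ Twist.twistProjSpace (n + 1) k 0 := e0
    let eM : M ≅ Coh.structureModule (LefPen.hypIdeal Q).subscheme :=
      (Scheme.Modules.pullback j).mapIso e0'.symm ≪≫ GrothLib.OX.pullUnitIso j
    haveI hP : Subsingleton (Coh.HH (CohB1.ProjSpace (n + 1) k)
        (CohB1.tensorMod (ClSub.quotMod (LefPen.hypIdeal Q)) (Twist.twistProjSpace (n + 1) k 0)) i) := by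
      obtain ⟨hv, -, hfin, htop⟩ := GrothLib.CI20.cohomology_hypersurface _ eI hn 0
      by_cases hin : i = n
      · subst hin
        haveI := hfin
        rw [Nat.choose_eq_zero_of_lt (by omega : (-0 - 1 : ℤ).toNat < i + 1),
          Nat.choose_eq_zero_of_lt (by omega : (-(0 - ((2 : ℕ) : ℤ)) - 1).toNat < i + 1), add_zero] at htop
        exact Module.finrank_zero_iff.mp htop
      · exact hv i (by omega) hin
    exact ((GrothLib.Euler.hhEquiv (A := k) eM i).symm.trans
      (e.trans (GrothLib.Euler.hhEquiv (A := k) e3 i).symm)).toEquiv.subsingleton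
  · suffices H : ∀ I : (CohB1.ProjSpace (n + 1) k).IdealSheafData, I = LefPen.ciIdeal (fun _ : Fin 1 => Q) →
        Function.Bijective (I.subschemeι ≫ CohB1.ProjSpace.toSpec (n + 1) k).appTop.hom from H _ hI.symm
    intro I hI'
    subst hI'
    have h := GrothLib.CI20.bijective_const (fun _ : Fin 1 => Q) (fun _ => one_le_two) (by omega : 1 ≤ n + 1)
      (by rw [Nat.add_sub_cancel]; exact hdim) (by omega)
    exact (Function.Bijective.of_comp_iff _ (ConcreteCategory.bijective_of_isIso
      (Scheme.ΓSpecIso (CommRingCat.of k)).inv)).1 h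

end Groth.Agent.S8731
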