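import Groth.Statements.S8733
import Groth.Agent.Lib.OmegaPn27.BottField
-- import your own Groth.Agent.* helpers here

set_option autoImplicit false
universe u
open CategoryTheory CategoryTheory.Limits AlgebraicGeometry
open LefPen

namespace Groth.Agent.S8733

/-- Over a field: let k be a field, r >= 1, P = P^r_k projective space with structure map to Spec k, Ω =
Ω^1_{P/k} its sheaf of relative differentials (the conormal sheaf of the diagonal) and L an
O_P-module which is a j-th exterior power of Ω. Then H^i(P, L) = H^i(P^r, Ω^j) is zero whenever i ≠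
j or i > r, and for i = j <= r it is a one-dimensional k-vector space. (The published statement
names the generator, the i-th power of the Hodge class of a hyperplane; this row states the
dimension only.) -/
theorem result (k : Type u) [Field k] (r : ℕ) (hr : 1 ≤ r) (j : ℕ)
    (L : (CohB1.ProjSpace r k).Modules)
    (hL : ExtPow.IsExtPow j (Omega.sheaf (CohB1.ProjSpace.toSpec r k)) L) :
    (∀ i : ℕ, (i ≠ j ∨ r < i) → Subsingleton (Coh.HH (CohB1.ProjSpace r k) L i)) ∧
      (j ≤ r → Module.finrank k (Coh.HH (CohB1.ProjSpace r k) L j) = 1) := by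
  haveI := GrothLib.Chow.isProper_toSpec r k
  haveI : QuasiSeparated (CohB1.ProjSpace.toSpec r k) := inferInstance
  obtain ⟨a⟩ := GrothLib.ExtPowX.nonempty_iso hL
    (GrothLib.ExtPowX.isExtPow_wedge (GrothLib.OmegaPn27.isFinLocFree_omegaP r k) j) (Iso.refl _)
  obtain ⟨b⟩ := GrothLib.OmegaPn27.nonempty_Wt_zero_right r k j
  refine ⟨fun i hi => GrothLib.OmegaPn27.subsingleton_iso r k (a ≪≫ b) ?_, fun hj => ?_⟩
  · rcases eq_or_ne j i with rfl | hji
    · exact GrothLib.OmegaPn27.subsingleton_Wt_of_isZero r k (hi.resolve_left (fun h => h rfl)) 0 j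
    · exact GrothLib.OmegaPn27.subsingleton_untwisted r k j i hji
  · obtain ⟨c⟩ := GrothLib.OmegaPn27.nonempty_untwisted r k j hj
    rw [(GrothLib.Euler.hhEquiv (A := k) (a ≪≫ b) j ≪≫ₗ c).finrank_eq, Module.finrank_self]

end Groth.Agent.S8733
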