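import Groth.Statements.S8737
import Groth.Agent.Lib.EvenClifford4.Main
import Groth.Agent.Lib.Cliff28.Structure
-- import your own Groth.Agent.* helpers here

set_option autoImplicit false
set_option linter.all false
set_option backward.isDefEq.respectTransparency false
universe u v
open SGA7II

namespace Groth.Agent.S8737

/-- Let A be a commutative ring, V a free A-module of rank 2m with m >= 1, and Q a quadratic form on V
which is non-degenerate in the sense that its polar bilinear form induces a bijection V -> Hom_A(V,
A). Let Z be the centre of the even Clifford algebra C^+(Q), and regard C^+(Q) as a Z-algebra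
through the inclusion of the centre. Then Z is an etale A-algebra which is finitely generated
projective of rank 2 at every prime of A, and C^+(Q) is an Azumaya algebra over Z. (The published
statement allows V locally free of rank 2m; this row takes V free.) -/
theorem result (A : Type u) [CommRing A] (V : Type v) [AddCommGroup V] [Module A V]
    [Module.Free A V] [Module.Finite A V] (m : ℕ) (hm : 1 ≤ m) (hV : Module.finrank A V = 2 * m)
    (Q : QuadraticForm A V) (hQ : Function.Bijective (QuadraticMap.polarBilin Q)) :
    letI : Algebra ↥(Subalgebra.center A ↥(CliffordAlgebra.even Q)) ↥(CliffordAlgebra.even Q) :=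
      (Subalgebra.center A ↥(CliffordAlgebra.even Q)).val.toRingHom.toAlgebra'
        (fun c x => (Subalgebra.mem_center_iff.mp c.2 x).symm)
    Algebra.Etale A ↥(Subalgebra.center A ↥(CliffordAlgebra.even Q)) ∧
      Module.Finite A ↥(Subalgebra.center A ↥(CliffordAlgebra.even Q)) ∧
      Module.Projective A ↥(Subalgebra.center A ↥(CliffordAlgebra.even Q)) ∧
      (∀ p : PrimeSpectrum A, Module.rankAtStalk ↥(Subalgebra.center A ↥(CliffordAlgebra.even Q)) p = 2) ∧
      IsAzumaya ↥(Subalgebra.center A ↥(CliffordAlgebra.even Q)) ↥(CliffordAlgebra.even Q) := by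
  classical
  haveI : Nontrivial A := by
    rw [← not_subsingleton_iff_nontrivial]
    intro h
    haveI := h
    rw [Module.finrank, rank_subsingleton] at hV
    simp at hV
    omega
  let f : (Fin (2 * m) → A) ≃ₗ[A] V := (Module.finBasisOfFinrankEq A V hV).equivFun.symm
  let Q' : QuadraticForm A (Fin (2 * m) → A) := Q.comp f.toLinearMap
  let ie : Q'.IsometryEquiv Q := { f with map_app' := fun x => rfl }
  have hQ' : QuadGrp.IsRegular Q' := by
    have h : ⇑(QuadraticMap.polarBilin Q') = ⇑f.dualMap ∘ ⇑(QuadraticMap.polarBilin Q) ∘ ⇑f := by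
      funext x
      apply LinearMap.ext
      intro y
      simp [Q', QuadraticMap.polarBilin_comp, LinearEquiv.dualMap_apply]
    show Function.Bijective (QuadraticMap.polarBilin Q')
    rw [h]
    exact f.dualMap.bijective.comp (hQ.comp f.bijective)
  obtain ⟨B, _, _, hff, -, -, ⟨e⟩⟩ :=
    GrothLib.Cliff28.exists_fppf_matrix_even (Pi.basisFun A (Fin (2 * m))) hm hQ'
  let C := ↥(CliffordAlgebra.even Q)
  let ε : ↥(CliffordAlgebra.even Q) ≃ₐ[A] ↥(CliffordAlgebra.even Q') :=
    (GrothLib.Cliff28.evenEquivOfIsometry ie).symm
  let e' := (Algebra.TensorProduct.congr (AlgEquiv.refl (R := B) (A₁ := B)) ε).trans e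
  haveI : Module.Finite B (TensorProduct A B ↥(CliffordAlgebra.even Q)) := Module.Finite.equiv e'.symm.toLinearEquiv
  haveI : Module.Projective B (TensorProduct A B ↥(CliffordAlgebra.even Q)) :=
    Module.Projective.of_equiv e'.symm.toLinearEquiv
  obtain ⟨h1, h2⟩ := GrothLib.Azu.finite_projective_of_baseChange (R := A) B ↥(CliffordAlgebra.even Q)
  exact GrothLib.EvenClifford4.main (2 ^ (m - 1)) Nat.one_le_two_pow e'

end Groth.Agent.S8737
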