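import Groth.Statements.S8738
import Mathlib.RingTheory.Derivation.Basic
import Mathlib.Tactic.NoncommRing
import Mathlib.Algebra.TrivSqZeroExt.Basic
import Mathlib.RingTheory.IntegralClosure.IsIntegralClosure.Basic
import Mathlib.RingTheory.IntegralClosure.Algebra.Basic
import Mathlib.RingTheory.Localization.FractionRing
import Mathlib.RingTheory.Localization.Integer
import Mathlib.RingTheory.Noetherian.Basic
import Mathlib.Tactic.LinearCombination

set_option autoImplicit false
universe u
open SGA7II

namespace Groth.Agent.S8738

section Helpers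

variable {k A Q : Type u} [Field k] [CommRing A] [CommRing Q] [Algebra k A] [Algebra k Q] [Algebra A Q]
  [IsScalarTower k A Q]

theorem exists_ext [IsFractionRing A Q] (D : Derivation k A A) :
    ∃ E : Derivation k Q Q, ∀ a, E (algebraMap A Q a) = algebraMap A Q (D a) := by
  let g : A →+* TrivSqZeroExt Q Q :=
    { toFun := fun a => TrivSqZeroExt.inl (algebraMap A Q a) + TrivSqZeroExt.inr (algebraMap A Q (D a))
      map_one' := by ext <;> simp
      map_mul' := fun a b => by
        ext
        · simp
        · simp [mul_comm]
      map_zero' := by ext <;> simp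
      map_add' := fun a b => by ext <;> simp }
  have hg : ∀ y : nonZeroDivisors A, IsUnit (g y) := fun y => by
    rw [TrivSqZeroExt.isUnit_iff_isUnit_fst]
    simpa [g] using IsLocalization.map_units Q y
  let h : Q →+* TrivSqZeroExt Q Q := IsLocalization.lift hg
  have hh : ∀ a, h (algebraMap A Q a) = g a := IsLocalization.lift_eq hg
  have hfst : ∀ q, (h q).fst = q := by
    intro q
    have e : ((TrivSqZeroExt.fstHom Q Q Q).toRingHom.comp h) = RingHom.id Q :=
      IsLocalization.ringHom_ext (nonZeroDivisors A) (by ext a; simp [hh, g])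
    exact congrFun (congrArg DFunLike.coe e) q
  have hk : ∀ r : k, (h (algebraMap k Q r)).snd = 0 := fun r => by
    rw [IsScalarTower.algebraMap_apply k A Q, hh]; simp [g]
  let L : Q →ₗ[k] Q :=
    { toFun := fun q => (h q).snd
      map_add' := fun a b => by simp
      map_smul' := fun r q => by
        simp [Algebra.smul_def, hfst, hk] }
  refine ⟨Derivation.mk' L (fun a b => ?_), fun a => ?_⟩
  · show (h (a * b)).snd = a * (h b).snd + b * (h a).snd
    rw [map_mul, TrivSqZeroExt.snd_mul, hfst, hfst]
    simp only [smul_eq_mul, op_smul_eq_mul]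
    ring
  · simp [L, hh, g]

theorem iterate_mem (E : Derivation k Q Q) (D : Derivation k A A)
    (hE : ∀ a, E (algebraMap A Q a) = algebraMap A Q (D a)) (m : ℕ) {q : Q}
    (hq : q ∈ (algebraMap A Q).range) : (E.toLinearMap ^ m) q ∈ (algebraMap A Q).range := by
  induction m with
  | zero => simpa using hq
  | succ m ih =>
    rw [pow_succ', Module.End.mul_apply]
    obtain ⟨a, ha⟩ := ih
    exact ⟨D a, by rw [← ha]; exact (hE a).symm⟩

theorem seidenberg (E : Derivation k Q Q) (D : Derivation k A A)
    (hE : ∀ a, E (algebraMap A Q a) = algebraMap A Q (D a)) (x c : Q)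
    (hc : ∀ i : ℕ, c * x ^ i ∈ (algebraMap A Q).range) (m : ℕ) :
    (m.factorial : Q) * (c * c * E x ^ m) ∈ (algebraMap A Q).range := by
  let X : Module.End k Q := LinearMap.mulLeft k x
  let Y : Module.End k Q := -(LinearMap.mulLeft k (E x))
  let Dl : Module.End k Q := E.toLinearMap
  let ad : Module.End k Q → Module.End k Q := fun P => X * P - P * X
  have adD : X * Dl - Dl * X = Y := by
    ext q
    simp only [LinearMap.sub_apply, Module.End.mul_apply, X, Y, Dl, LinearMap.neg_apply,
      LinearMap.mulLeft_apply, Derivation.coeFn_coe, Derivation.leibniz, smul_eq_mul]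
    ring
  have hXY : X * Y = Y * X := by
    ext q; simp [X, Y, mul_left_comm]
  have ad_mul : ∀ (n : ℕ) (P : Module.End k Q),
      ad^[n + 1] (Dl * P) = Dl * ad^[n + 1] P + ((n + 1 : ℕ) : Module.End k Q) * (Y * ad^[n] P) := by
    intro n P
    induction n with
    | zero =>
      simp only [zero_add, Function.iterate_one, Function.iterate_zero, id_eq, Nat.cast_one, one_mul, ad]
      rw [← adD]; simp only [mul_sub, sub_mul, mul_assoc]; abel
    | succ n ih =>
      rw [Function.iterate_succ_apply' ad (n + 1) (Dl * P), ih, Function.iterate_succ_apply' ad (n + 1) P]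
      have hu : ad^[n + 1] P = ad (ad^[n] P) := Function.iterate_succ_apply' ad n P
      rw [hu]
      generalize ad^[n] P = R
      simp only [ad, Nat.cast_add, Nat.cast_one]
      have hn : ∀ T : Module.End k Q, X * ((n : Module.End k Q) * T) = (n : Module.End k Q) * (X * T) :=
        fun T => by rw [← mul_assoc, (Nat.cast_commute n X).symm.eq, mul_assoc]
      have e1 : ∀ T, X * (Dl * T) = Dl * (X * T) + Y * T := fun T => by
        rw [← adD]; simp only [sub_mul, mul_assoc]; abel
      have e2 : ∀ T, X * (Y * T) = Y * (X * T) := fun T => by rw [← mul_assoc, hXY, mul_assoc]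
      simp only [mul_add, add_mul, mul_sub, sub_mul, mul_assoc, hn, e1, e2, one_mul]
      abel
  have main : ∀ j : ℕ, (∀ n, j < n → ad^[n] (Dl ^ j) = 0) ∧
      ad^[j] (Dl ^ j) = (j.factorial : Module.End k Q) * Y ^ j := by
    intro j
    induction j with
    | zero =>
      refine ⟨fun n hn => ?_, by simp⟩
      obtain ⟨n, rfl⟩ : ∃ n', n = n' + 1 := ⟨n - 1, by omega⟩
      rw [Function.iterate_succ_apply]
      have : ad (Dl ^ 0) = 0 := by simp [ad]
      rw [this]
      exact Function.iterate_fixed (by simp [ad]) n
    | succ j ih =>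
      refine ⟨fun n hn => ?_, ?_⟩
      · obtain ⟨n, rfl⟩ : ∃ n', n = n' + 1 := ⟨n - 1, by omega⟩
        rw [pow_succ', ad_mul, ih.1 _ (by omega), ih.1 _ (by omega)]
        simp
      · rw [pow_succ', ad_mul, ih.1 _ (by omega), ih.2, mul_zero, zero_add, Nat.factorial_succ, Nat.cast_mul,
          ← mul_assoc Y, (Nat.cast_commute j.factorial Y).symm.eq, mul_assoc, ← pow_succ', mul_assoc]
  let good : Module.End k Q → Prop := fun P =>
    ∀ i l : ℕ, c * x ^ l * P (c * x ^ i) ∈ (algebraMap A Q).range
  have hgood : ∀ n, good (ad^[n] (Dl ^ m)) := by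
    intro n
    induction n with
    | zero => exact fun i l => mul_mem (hc l) (iterate_mem E D hE m (hc i))
    | succ n ih =>
      intro i l
      rw [Function.iterate_succ_apply']
      generalize ad^[n] (Dl ^ m) = P at ih
      have : c * x ^ l * ad P (c * x ^ i) =
          c * x ^ (l + 1) * P (c * x ^ i) - c * x ^ l * P (c * x ^ (i + 1)) := by
        simp only [ad, X, LinearMap.sub_apply, Module.End.mul_apply, LinearMap.mulLeft_apply]
        rw [mul_sub, show x * (c * x ^ i) = c * x ^ (i + 1) by ring]
        ring
      rw [this]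
      exact sub_mem (ih _ _) (ih _ _)
  have hfin := hgood m 0 0
  rw [(main m).2] at hfin
  have hYpow : ∀ j : ℕ, ∀ q : Q, (Y ^ j) q = (-1) ^ j * E x ^ j * q := by
    intro j
    induction j with
    | zero => simp
    | succ j ih =>
      intro q
      rw [pow_succ', Module.End.mul_apply, ih]
      simp only [Y, LinearMap.neg_apply, LinearMap.mulLeft_apply]
      ring
  simp only [pow_zero, mul_one, Module.End.mul_apply, hYpow, Module.End.natCast_apply, nsmul_eq_mul] at hfin
  have h2 := mul_mem ((algebraMap A Q).range.pow_mem (neg_mem (one_mem _)) m) hfin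
  convert h2 using 1
  have : ((-1 : Q) ^ m) * (-1) ^ m = 1 := by rw [← mul_pow]; simp
  linear_combination -((m.factorial : Q) * (c * c * E x ^ m)) * this

end Helpers

/-- Let k be a field of characteristic zero and A a reduced Noetherian local k-algebra of Krull
dimension one, essentially of finite type over k (the local ring of a reduced curve over k at one of
its points), and let A' be the integral closure of A in its total ring of fractions (the
normalization). Then every k-derivation D of A extends to a k-derivation D' of A', i.e. D' agrees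
with D on the image of A. -/
theorem result (k : Type u) [Field k] [CharZero k] (A : Type u) [CommRing A]
    [Algebra k A] [IsReduced A] [IsNoetherianRing A] [IsLocalRing A] [Algebra.EssFiniteType k A]
    (hdim : ringKrullDim A = 1) (D : Derivation k A A) :
    ∃ D' : Derivation k ↥(integralClosure A (FractionRing A)) ↥(integralClosure A (FractionRing A)),
      ∀ a : A, (D' (algebraMap A ↥(integralClosure A (FractionRing A)) a) : FractionRing A) =
        algebraMap A (FractionRing A) (D a) := by
  set Q := FractionRing A
  obtain ⟨E, hE⟩ := exists_ext (Q := Q) D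
  have key : ∀ x : Q, IsIntegral A x → IsIntegral A (E x) := by
    intro x hx
    obtain ⟨s, hs⟩ := hx.fg_adjoin_singleton
    obtain ⟨b, hb⟩ := IsLocalization.exist_integer_multiples_of_finset (nonZeroDivisors A) s
    let c : Q := algebraMap A Q b
    have hall : ∀ q ∈ (Algebra.adjoin A {x}).toSubmodule, c * q ∈ (algebraMap A Q).range := by
      intro q hq
      rw [← hs] at hq
      induction hq using Submodule.span_induction with
      | mem y hy =>
        have := hb y hy
        rw [Algebra.smul_def] at this
        exact this
      | zero => rw [mul_zero]; exact zero_mem _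
      | add y z _ _ hy hz => rw [mul_add]; exact add_mem hy hz
      | smul a y _ hy => rw [Algebra.smul_def, mul_left_comm]; exact mul_mem ⟨a, rfl⟩ hy
    have hc : ∀ i : ℕ, c * x ^ i ∈ (algebraMap A Q).range :=
      fun i => hall _ (pow_mem (Algebra.self_mem_adjoin_singleton A x) i)
    have hS := seidenberg E D hE x c hc
    have hcc : ∀ m : ℕ, c * c * E x ^ m ∈ (algebraMap A Q).range := by
      intro m
      have hne : (m.factorial : k) ≠ 0 := Nat.cast_ne_zero.mpr m.factorial_ne_zero
      have h1 : algebraMap k Q (m.factorial : k)⁻¹ ∈ (algebraMap A Q).range :=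
        ⟨algebraMap k A _, (IsScalarTower.algebraMap_apply k A Q _).symm⟩
      have h2 := mul_mem h1 (hS m)
      rwa [← mul_assoc, ← map_natCast (algebraMap k Q), ← map_mul, inv_mul_cancel₀ hne, map_one, one_mul] at h2
    obtain ⟨u, hu⟩ : IsUnit (c * c) :=
      (IsLocalization.map_units Q b).mul (IsLocalization.map_units Q b)
    let M : Submodule A Q := LinearMap.range (LinearMap.toSpanSingleton A Q ((u⁻¹ : Qˣ) : Q))
    have hle : (Algebra.adjoin A {E x}).toSubmodule ≤ M := by
      rw [Algebra.adjoin_eq_span, Submodule.span_le]
      intro q hq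
      obtain ⟨m, rfl⟩ := Submonoid.mem_closure_singleton.mp hq
      obtain ⟨a, ha⟩ := hcc m
      refine ⟨a, ?_⟩
      rw [LinearMap.toSpanSingleton_apply, Algebra.smul_def, ha, ← hu, mul_comm, ← mul_assoc,
        Units.inv_mul, one_mul]
    have hMfg : M.FG := by
      show (LinearMap.range _).FG
      rw [LinearMap.range_eq_map]
      exact (Module.Finite.fg_top).map _
    exact IsIntegral.of_mem_of_fg (Algebra.adjoin A {E x}) (hMfg.of_le hle)
      _ (Algebra.self_mem_adjoin_singleton A (E x))
  refine ⟨Derivation.mk'
    { toFun := fun x => ⟨E (x : Q), key _ x.2⟩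
      map_add' := fun x y => Subtype.ext (map_add E (x : Q) (y : Q))
      map_smul' := fun r x => Subtype.ext (E.map_smul r (x : Q)) }
    (fun x y => Subtype.ext (E.leibniz (x : Q) (y : Q))), fun a => hE a⟩

end Groth.Agent.S8738
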