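import Groth.Statements.S8739
import Groth.Agent.Lib.Adeq20.Filtered

set_option autoImplicit false
set_option linter.style.haveILetI false
universe u
open CategoryTheory Limits
open Adeq

namespace Groth.Agent.S8739

/-- An adequate functor `F` on `A`-algebras commutes with filtered colimits: for a filtered colimit `B =
colim B_i` of `A`-algebras one has `F(B) = colim F(B_i)`, in the sense that the image under `F` of a
colimit cocone of a filtered diagram of algebras is a colimit cocone of abelian groups. -/
theorem result (A : Type u) [CommRing A] (F : Adeq.MVF A)
    (hF : Adeq.adequate A F) {J : Type u} [SmallCategory J] [IsFiltered J] (D : J ⥤ Adeq.Alg A)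
    (c : Cocone D) (hc : IsColimit c) : Nonempty (IsColimit (F.toAb.mapCocone c)) := by
  exact GrothLib.Adeq20.adequate_filtered hF c hc

end Groth.Agent.S8739
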