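import Groth.Statements.S8741
import Groth.Agent.Lib.Adeq20.Closure
import Mathlib.RingTheory.Finiteness.Basic

set_option autoImplicit false
set_option linter.style.haveILetI false
universe u
open CategoryTheory Limits
open Adeq

namespace Groth.Agent.S8741

/-- An adequate functor `F` on `A`-algebras admits a surjection `L → F` from a direct sum `L` of
linearly adequate functors: there are linearly adequate `L_i`, a coproduct cocone of the family
which is a colimit, and an epimorphism from its point onto `F`. -/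
theorem result (A : Type u) [CommRing A] (F : Adeq.MVF A) (hF : Adeq.adequate A F) :
    ∃ (ι : Type (u + 1)) (L : ι → Adeq.MVF A), (∀ i, Adeq.linAdequate A (L i)) ∧
      ∃ (c : Cofan L) (_ : IsColimit c) (π : c.pt ⟶ F), Epi π := by
  classical
  obtain ⟨K, T, i, τ, hinj, hrange⟩ := GrothLib.Adeq20.exists_range_of_adequate hF
  obtain ⟨e, he⟩ := GrothLib.Adeq20.exists_iso_kernel i ((Adeq.underline A).map τ) hinj hrange
  let L : GrothLib.Adeq20.CoverIdx τ → Adeq.MVF A := fun x => kernel ((Adeq.underline A).map x.2.2.1)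
  have w : ∀ x : GrothLib.Adeq20.CoverIdx τ, (kernel.ι ((Adeq.underline A).map x.2.2.1) ≫ (Adeq.underline A).map x.2.2.2.1) ≫
      (Adeq.underline A).map τ = 0 := fun x => GrothLib.Adeq20.hom_ext' fun B z =>
    x.2.2.2.2 B _ (GrothLib.Adeq20.kernelι_appL ((Adeq.underline A).map x.2.2.1) B z)
  let π : ∀ x : GrothLib.Adeq20.CoverIdx τ, L x ⟶ F := fun x => kernel.lift _ _ (w x) ≫ e.inv
  have hπ : ∀ x : GrothLib.Adeq20.CoverIdx τ, π x ≫ i = kernel.ι ((Adeq.underline A).map x.2.2.1) ≫ (Adeq.underline A).map x.2.2.2.1 :=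
    fun x => by
      rw [← he]
      simp [π]
  refine ⟨_, L, fun (x : GrothLib.Adeq20.CoverIdx τ) => ⟨_, _, x.2.2.1,
    Module.Finite.equiv ULift.moduleEquiv.symm, Module.Free.of_basis (GrothLib.Adeq20.stdBasis A _),
    Module.Finite.equiv ULift.moduleEquiv.symm, Module.Free.of_basis (GrothLib.Adeq20.stdBasis A _),
    ⟨Iso.refl _⟩⟩, colimit.cocone _, colimit.isColimit _, Sigma.desc π,
    GrothLib.Adeq20.epi_of_surjective' _ fun B v => ?_⟩
  obtain ⟨n, m, a, μ, hμ, z, hz, hzx⟩ := GrothLib.Adeq20.exists_lin_lift τ B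
    (GrothLib.Adeq20.appL i B v) ((hrange B _).2 ⟨v, rfl⟩)
  let x : GrothLib.Adeq20.CoverIdx τ := ⟨n, m, a, μ, hμ⟩
  obtain ⟨z', hz'⟩ := GrothLib.Adeq20.mem_range_kernelι ((Adeq.underline A).map a) B z hz
  refine ⟨GrothLib.Adeq20.appL (Sigma.ι L x) B z', hinj B ?_⟩
  rw [← GrothLib.Adeq20.comp_appL, ← GrothLib.Adeq20.comp_appL, Sigma.ι_desc_assoc]
  refine (congrArg (fun f => GrothLib.Adeq20.appL f B z') (hπ x)).trans ?_
  exact (congrArg (μ.hom.baseChange (B : Type u)) hz').trans hzx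

end Groth.Agent.S8741
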