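import Groth.Statements.S8751
import Groth.Agent.Lib.Adeq20.Descent

set_option autoImplicit false
set_option linter.style.haveILetI false
universe u
open CategoryTheory Limits
open Adeq

namespace Groth.Agent.S8751

/-- Let `A → A'` be a ring map and `F` a module-valued functor on `A`-algebras. If the restriction of
`F` to `A'`-algebras is adequate and for every `A`-algebra `B` the sequence `0 → F(B) → F(A' ⊗_A B)
→ F(A' ⊗_A A' ⊗_A B)` is exact (the first map injective with image the equalizer of the two coface
maps), then `F` is adequate. -/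
theorem result (A A' : Type u) [CommRing A] [CommRing A'] [Algebra A A']
    (F : Adeq.MVF A) (h₁ : Adeq.adequate A' ((Adeq.restr A A').obj F))
    (h₂ : ∀ B : Adeq.Alg A, Function.Injective (F.map (Adeq.ptHom (Adeq.Alg.unit A A' B))) ∧
      ∀ y : F.obj (Adeq.pt ((Adeq.Alg.restr A A').obj ((Adeq.Alg.baseChange A A').obj B))),
        F.map (Adeq.ptHom (Adeq.Alg.unit A A' ((Adeq.Alg.restr A A').obj ((Adeq.Alg.baseChange A A').obj B)))) y =
          F.map (Adeq.ptHom ((Adeq.Alg.restr A A').map ((Adeq.Alg.baseChange A A').map (Adeq.Alg.unit A A' B)))) y →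
        y ∈ Set.range (F.map (Adeq.ptHom (Adeq.Alg.unit A A' B)))) :
    Adeq.adequate A F := by
  exact GrothLib.Adeq20.adequate_descent A A' F h₁ h₂

end Groth.Agent.S8751
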