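import Groth.Statements.S8754
import Mathlib.Algebra.Category.ModuleCat.EnoughInjectives
import Mathlib.Algebra.Category.ModuleCat.Presheaf.EpiMono
import Mathlib.Algebra.Module.Injective
-- import your own Groth.Agent.* helpers here

set_option autoImplicit false
universe u
open CategoryTheory Limits
open Adeq

namespace Groth.Agent.S8754

open CategoryTheory Opposite

section

variable {A : Type u} [CommRing A] (N : ∀ B : Adeq.Alg A, ModuleCat.{u + 1} B)

/-- The coinduced value at `B'`: families indexed by maps out of `B'`. -/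
def Coind (B' : Adeq.Alg A) : Type (u + 1) := ∀ p : (Σ B : Adeq.Alg A, (B' ⟶ B)), N p.1

instance (B' : Adeq.Alg A) : AddCommGroup (Coind N B') :=
  inferInstanceAs (AddCommGroup (∀ p : (Σ B : Adeq.Alg A, (B' ⟶ B)), N p.1))

instance (B' : Adeq.Alg A) : Module B' (Coind N B') where
  smul b x p := p.2.hom b • x p
  one_smul x := funext fun p => by
    change p.2.hom 1 • x p = x p
    rw [map_one, one_smul]
  mul_smul a b x := funext fun p => by
    change p.2.hom (a * b) • x p = p.2.hom a • p.2.hom b • x p
    rw [map_mul, mul_smul]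
  smul_zero a := funext fun p => smul_zero (p.2.hom a)
  smul_add a x y := funext fun p => smul_add (p.2.hom a) (x p) (y p)
  add_smul a b x := funext fun p => by
    change p.2.hom (a + b) • x p = p.2.hom a • x p + p.2.hom b • x p
    rw [map_add, add_smul]
  zero_smul x := funext fun p => by
    change p.2.hom 0 • x p = 0
    rw [map_zero, zero_smul]

/-- The underlying functor of the coinduced object. -/
noncomputable abbrev coindAb : (Adeq.Alg A)ᵒᵖᵒᵖ ⥤ Ab.{u + 1} where
  obj X := AddCommGrpCat.of (Coind N X.unop.unop)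
  map {X Y} f := AddCommGrpCat.ofHom
    { toFun := fun x p => x ⟨p.1, f.unop.unop ≫ p.2⟩
      map_zero' := rfl
      map_add' := fun _ _ => rfl }
  map_id X := by
    refine AddCommGrpCat.hom_ext (AddMonoidHom.ext fun x => funext fun p => ?_)
    change x ⟨p.1, 𝟙 _ ≫ p.2⟩ = x p
    rw [Category.id_comp]
  map_comp {X Y Z} f g := by
    refine AddCommGrpCat.hom_ext (AddMonoidHom.ext fun x => funext fun p => ?_)
    change x ⟨p.1, (f.unop.unop ≫ g.unop.unop) ≫ p.2⟩ = x ⟨p.1, f.unop.unop ≫ g.unop.unop ≫ p.2⟩
    rw [Category.assoc]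

/-- The coinduced module-valued functor. -/
noncomputable def coind : Adeq.MVF A :=
  PresheafOfModules.ofPresheaf (coindAb N) fun {X Y} f r x => funext fun p => by
    change (f.unop.unop ≫ p.2).hom r • x ⟨p.1, f.unop.unop ≫ p.2⟩ = p.2.hom (f.unop.unop.hom r) • _
    rw [CommAlgCat.hom_comp]
    rfl

variable {N}

/-- The morphism to the coinduced object given by components. -/
noncomputable def toCoind {M : Adeq.MVF A} (e : ∀ B : Adeq.Alg A, M.obj (Adeq.pt B) ⟶ N B) : M ⟶ coind N where
  app X := ModuleCat.ofHom (Y := Coind N X.unop.unop)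
    { toFun := fun x p => e p.1 (M.map p.2.op.op x)
      map_add' := fun x y => funext fun p =>
        (congrArg (e p.1) (map_add (M.map p.2.op.op).hom x y)).trans ((e p.1).hom.map_add _ _)
      map_smul' := fun r x => funext fun p => by
        change e p.1 (M.map p.2.op.op (r • x)) = p.2.hom r • e p.1 (M.map p.2.op.op x)
        rw [M.map_smul]
        exact (e p.1).hom.map_smul _ _ }
  naturality {X Y} f := by
    refine ModuleCat.hom_ext (LinearMap.ext fun x => funext fun p => ?_)
    change e p.1 (M.map p.2.op.op (M.map f x)) = e p.1 (M.map (f.unop.unop ≫ p.2).op.op x)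
    rw [← PresheafOfModules.map_comp_apply]
    rfl

theorem coind_injective (hN : ∀ B, Injective (N B)) : Injective (coind N) := by
  refine ⟨fun {P Q} g f hf => ?_⟩
  have := hN
  let pr : ∀ B : Adeq.Alg A, P.obj (Adeq.pt B) ⟶ N B := fun B => ModuleCat.ofHom
    { toFun := fun x => (show Coind N B from g.app (Adeq.pt B) x) ⟨B, 𝟙 B⟩
      map_add' := fun x y => by rw [map_add]; rfl
      map_smul' := fun r x => by rw [map_smul]; rfl }
  have hm : ∀ B : Adeq.Alg A, Mono (f.app (Adeq.pt B)) := fun B =>
    (ModuleCat.mono_iff_injective _).2 (PresheafOfModules.injective_of_mono f _)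
  refine ⟨toCoind fun B => Injective.factorThru (pr B) (f.app (Adeq.pt B)), ?_⟩
  refine PresheafOfModules.hom_ext fun X => ModuleCat.hom_ext (LinearMap.ext fun x => funext fun p => ?_)
  change Injective.factorThru (pr p.1) (f.app (Adeq.pt p.1)) (Q.map p.2.op.op (f.app X x)) = _
  rw [← PresheafOfModules.naturality_apply]
  have h2 := ConcreteCategory.congr_hom (Injective.comp_factorThru (pr p.1) (f.app (Adeq.pt p.1))) (P.map p.2.op.op x)
  refine Eq.trans h2 ?_
  change (show Coind N p.1 from g.app (Adeq.pt p.1) (P.map p.2.op.op x)) ⟨p.1, 𝟙 _⟩ = _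
  rw [PresheafOfModules.naturality_apply]
  change (show Coind N X.unop.unop from g.app X x) ⟨p.1, p.2 ≫ 𝟙 _⟩ = _
  rw [Category.comp_id]

end

/-- The category of module-valued functors on `A`-algebras has enough injectives (it is a category of
presheaves of modules). -/
theorem result (A : Type u) [CommRing A] : EnoughInjectives (Adeq.MVF A) :=
  ⟨fun M => by
  have hE : ∀ B : Adeq.Alg A, Nonempty (InjectivePresentation (M.obj (Adeq.pt B))) := fun B =>
    EnoughInjectives.presentation _
  let P := fun B => (hE B).some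
  refine ⟨⟨coind fun B => (P B).J, coind_injective fun B => (P B).injective, toCoind fun B => (P B).f,
    PresheafOfModules.mono_of_injective fun X x y hxy => ?_⟩⟩
  have h2 := congrFun hxy ⟨X.unop.unop, 𝟙 _⟩
  change (P X.unop.unop).f (M.map (𝟙 X.unop.unop).op.op x) = (P X.unop.unop).f (M.map (𝟙 X.unop.unop).op.op y) at h2
  have hid : ∀ z, M.map (𝟙 X.unop.unop).op.op z = z := fun z => by
    refine (PresheafOfModules.congr_map_apply M (g := 𝟙 X) rfl z).trans ?_
    rw [M.map_id]
    rfl
  rw [hid, hid] at h2
  exact (ModuleCat.mono_iff_injective _).1 (P X.unop.unop).mono h2⟩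

end Groth.Agent.S8754
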