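import Groth.Statements.S8753
import Groth.Agent.Lib.Adeq20.Coreflect
import Groth.Agent.S8754
import Mathlib.CategoryTheory.Preadditive.Injective.Basic

set_option autoImplicit false
set_option linter.style.haveILetI false
universe u
open CategoryTheory Limits
open Adeq

namespace Groth.Agent.S8753

/-- The category of adequate functors on `A`-algebras has enough injectives. -/
theorem result (A : Type u) [CommRing A] : EnoughInjectives (Adeq.Adequate A) := by
  haveI : (Adeq.adequate A).ι.IsLeftAdjoint := GrothLib.Adeq20.isLeftAdjoint_ι
  let R := (Adeq.adequate A).ι.rightAdjoint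
  let adj : (Adeq.adequate A).ι ⊣ R := Adjunction.ofIsLeftAdjoint _
  haveI : (Adeq.adequate A).ι.PreservesMonomorphisms := ⟨fun {X Y} m hm => by
    refine Preadditive.mono_of_cancel_zero _ fun {Z} g hg => ?_
    have hK : Adeq.adequate A (kernel m.hom) := GrothLib.Adeq20.adequate_kernel m.hom X.2 Y.2
    let k : (⟨kernel m.hom, hK⟩ : Adeq.Adequate A) ⟶ X := ObjectProperty.homMk (kernel.ι m.hom)
    have hk : k = 0 := by
      rw [← cancel_mono m, zero_comp]
      exact ObjectProperty.hom_ext _ (kernel.condition m.hom)
    have hk' : kernel.ι m.hom = 0 := congrArg (fun t => t.hom) hk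
    rw [← kernel.lift_ι m.hom g hg, hk', comp_zero]⟩
  haveI := Groth.Agent.S8754.result A
  refine ⟨fun X => ⟨?_⟩⟩
  let J := Injective.under X.1
  haveI : Mono (Injective.ι X.1) := InjectivePresentation.mono _
  haveI : Injective (R.obj J) := adj.map_injective J inferInstance
  let g : X ⟶ R.obj J := adj.homEquiv X J (Injective.ι X.1)
  haveI : Mono g := by
    apply (Adeq.adequate A).ι.mono_of_mono_map
    have e : (Adeq.adequate A).ι.map g ≫ adj.counit.app J = Injective.ι X.1 := by
      have h := (adj.homEquiv X J).symm_apply_apply (Injective.ι X.1)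
      rw [Adjunction.homEquiv_counit] at h
      exact h
    exact mono_of_mono_fac e
  exact { J := R.obj J, f := g }

end Groth.Agent.S8753
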