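import Groth.Statements.S8755
import Groth.Agent.Lib.AdeqMod20.Pull

set_option autoImplicit false
set_option linter.style.haveILetI false
universe u
open CategoryTheory Limits AlgebraicGeometry
open Adeq

namespace Groth.Agent.S8755

/-- If `M` is an adequate `O`-module on the big fppf site of a scheme `S`, then for every affine scheme
`Spec R` over `S` the module-valued functor `B ↦ M(Spec B)` on `R`-algebras is adequate. -/
theorem result (S : Scheme.{u}) (M : BigSite.Mod Scheme.fppfPrecoverage S)
    (hM : Adeq.adequateMod Scheme.fppfPrecoverage S M) (R : CommRingCat.{u}) (a : Spec R ⟶ S) :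
    Adeq.adequate R ((Adeq.toMVF Scheme.fppfPrecoverage a).obj M) := by
  exact GrothLib.AdeqMod20.adequate_of_adequateMod a M hM

end Groth.Agent.S8755
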