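import Groth.Statements.S8768
import Groth.Agent.Lib.AdeqMod20.Local
import Groth.Agent.Lib.Adeq20.Desc

set_option autoImplicit false
set_option linter.style.haveILetI false
set_option backward.isDefEq.respectTransparency false
universe u
open CategoryTheory Limits AlgebraicGeometry
open scoped TensorProduct
open Adeq

namespace Groth.Agent.S8768

/-- For an adequate `O`-module `M` on the big fppf site of `S` and a faithfully flat map of affine
schemes `Spec B → Spec R` over `S`, the sequence `0 → M(Spec R) → M(Spec B) → M(Spec (B ⊗_R B))` is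
exact: the first map is injective and its image is the equalizer of the two maps induced by `b ↦ b ⊗
1` and `b ↦ 1 ⊗ b`. (The published statement asserts exactness of the whole extended Cech complex
and the fpqc sheaf property; this row covers the first two degrees.) -/
theorem result (S : Scheme.{u}) (M : BigSite.Mod Scheme.fppfPrecoverage S)
    (hM : Adeq.adequateMod Scheme.fppfPrecoverage S M) (R : CommRingCat.{u}) (a : Spec R ⟶ S)
    (B : Type u) [CommRing B] [Algebra R B] [Module.FaithfullyFlat R B] :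
    Function.Injective (((Adeq.toMVF Scheme.fppfPrecoverage a).obj M).map
        (Adeq.ptHom (CommAlgCat.ofHom (Algebra.ofId R B) : Adeq.algOf R R ⟶ Adeq.algOf R B))) ∧
      ∀ y : ((Adeq.toMVF Scheme.fppfPrecoverage a).obj M).obj (Adeq.pt (Adeq.algOf R B)),
        ((Adeq.toMVF Scheme.fppfPrecoverage a).obj M).map (Adeq.ptHom (CommAlgCat.ofHom
            (Algebra.TensorProduct.includeLeft : B →ₐ[R] B ⊗[R] B) : Adeq.algOf R B ⟶ Adeq.algOf R (B ⊗[R] B))) y =
          ((Adeq.toMVF Scheme.fppfPrecoverage a).obj M).map (Adeq.ptHom (CommAlgCat.ofHom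
            (Algebra.TensorProduct.includeRight : B →ₐ[R] B ⊗[R] B) : Adeq.algOf R B ⟶ Adeq.algOf R (B ⊗[R] B))) y →
        y ∈ Set.range (((Adeq.toMVF Scheme.fppfPrecoverage a).obj M).map
          (Adeq.ptHom (CommAlgCat.ofHom (Algebra.ofId R B) : Adeq.algOf R R ⟶ Adeq.algOf R B))) := by
  classical
  let F := (Adeq.toMVF Scheme.fppfPrecoverage a).obj M
  have hF : Adeq.adequate R F := GrothLib.AdeqMod20.adequate_of_adequateMod a M hM
  let ι : Adeq.algOf R R ⟶ Adeq.algOf R B := CommAlgCat.ofHom (Algebra.ofId R B)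
  let f : PUnit.{u + 1} → (Adeq.algOf R R ⟶ Adeq.algOf R B) := fun _ => ι
  have hflat : ∀ j, (f j).hom.toRingHom.Flat := fun _ => RingHom.flat_algebraMap_iff.2 inferInstance
  have hsurj : ∀ p : PrimeSpectrum R, ∃ _j : PUnit.{u + 1}, ∃ q : PrimeSpectrum B,
      PrimeSpectrum.comap (algebraMap R B) q = p := fun p =>
    ⟨PUnit.unit, PrimeSpectrum.comap_surjective_of_faithfullyFlat p⟩
  refine ⟨(injective_iff_map_eq_zero (GrothLib.Adeq20.mapA F ι)).2 fun x hx =>
    GrothLib.Adeq20.adequate_separated f hflat hF hsurj x fun _ => hx, fun y hy => ?_⟩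
  have hglue : ∀ i j : PUnit.{u + 1},
      GrothLib.Adeq20.mapA F (GrothLib.Adeq20.overlapL f i j) y =
        GrothLib.Adeq20.mapA F (GrothLib.Adeq20.overlapR f i j) y := fun i j => by
    let l : Adeq.algOf R B ⟶ Adeq.algOf R (B ⊗[R] B) :=
      CommAlgCat.ofHom (Algebra.TensorProduct.includeLeft : B →ₐ[R] B ⊗[R] B)
    let r : Adeq.algOf R B ⟶ Adeq.algOf R (B ⊗[R] B) :=
      CommAlgCat.ofHom (Algebra.TensorProduct.includeRight : B →ₐ[R] B ⊗[R] B)
    let φ : B ⊗[R] B →ₐ[R] (GrothLib.Adeq20.overlap f i j : Type u) := Algebra.TensorProduct.lift (GrothLib.Adeq20.overlapL f i j).hom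
        (GrothLib.Adeq20.overlapR f i j).hom fun _ _ => Commute.all _ _
    let ψ : Adeq.algOf R (B ⊗[R] B) ⟶ GrothLib.Adeq20.overlap f i j :=
      ConcreteCategory.ofHom (C := CommAlgCat R) φ
    have hL : GrothLib.Adeq20.overlapL f i j = l ≫ ψ := ConcreteCategory.hom_ext _ _ fun b =>
      (DFunLike.congr_fun (Algebra.TensorProduct.lift_comp_includeLeft (GrothLib.Adeq20.overlapL f i j).hom
        (GrothLib.Adeq20.overlapR f i j).hom fun _ _ => Commute.all _ _) b).symm
    have hR : GrothLib.Adeq20.overlapR f i j = r ≫ ψ := ConcreteCategory.hom_ext _ _ fun b =>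
      (DFunLike.congr_fun (Algebra.TensorProduct.lift_comp_includeRight (GrothLib.Adeq20.overlapL f i j).hom
        (GrothLib.Adeq20.overlapR f i j).hom fun _ _ => Commute.all _ _) b).symm
    exact (GrothLib.Adeq20.map_congr F hL y).trans ((GrothLib.Adeq20.map_comp' F l ψ y).symm.trans
      ((congrArg (GrothLib.Adeq20.mapA F ψ) hy).trans ((GrothLib.Adeq20.map_comp' F r ψ y).trans
        (GrothLib.Adeq20.map_congr F hR y).symm)))
  obtain ⟨x, hx⟩ := GrothLib.Adeq20.adequate_glue f hflat hF hsurj (fun _ => y) hglue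
  exact ⟨x, hx PUnit.unit⟩

end Groth.Agent.S8768
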