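import Groth.Statements.S8770
import Groth.Agent.Lib.PureExt.Basic

set_option autoImplicit false
universe u
open PureExt

namespace Groth.Agent.S8770

/-- For every `R`-module `M` there is a universally exact sequence `0 → N → P → M → 0` with `P` pure
projective; this row takes `P` to be a direct sum of finitely presented modules, which is pure
projective: there is a surjection from such a direct sum onto `M` whose kernel inclusion is
universally injective. -/
theorem result (R : Type u) [CommRing R]
    (M : Type u) [AddCommGroup M] [Module R M] :
    ∃ (ι : Type u) (Q : ι → Type u) (_ : ∀ i, AddCommGroup (Q i)) (_ : ∀ i, Module R (Q i)),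
      (∀ i, Module.FinitePresentation R (Q i)) ∧
      ∃ g : (Π₀ i, Q i) →ₗ[R] M, Function.Surjective g ∧
        CAlgX.UniversallyInjective R (LinearMap.ker g).subtype := by
  exact GrothLib.PureExt.exists_cover M

end Groth.Agent.S8770
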