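import Groth.Statements.S8778
import Groth.Agent.Lib.PureExt.Resolution

set_option autoImplicit false
universe u
open CategoryTheory
open PureExt

namespace Groth.Agent.S8778

/-- Let `M → N` be a map of `R`-modules, `M → M'` a universally exact resolution (the coaugmentation is
a quasi-isomorphism after tensoring with any module) and `N → I` a coaugmented cochain complex of
pure injective modules. Then there is a map of complexes `M' → I` inducing the given map `M → N` on
the coaugmentations. -/
theorem result (R : Type u) [CommRing R] {M N : ModuleCat.{u} R}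
    (f : M ⟶ N) (M' I : CochainComplex (ModuleCat.{u} R) ℕ)
    (η : (CochainComplex.single₀ (ModuleCat.{u} R)).obj M ⟶ M')
    (ε : (CochainComplex.single₀ (ModuleCat.{u} R)).obj N ⟶ I)
    (hM' : ∀ T : ModuleCat.{u} R,
      QuasiIso (((MonoidalCategory.tensorRight T).mapHomologicalComplex (ComplexShape.up ℕ)).map η))
    (hI : ∀ n : ℕ, (∀ ⦃K L : Type u⦄ [AddCommGroup K] [Module R K] [AddCommGroup L] [Module R L] (g : K →ₗ[R] L),
          CAlgX.UniversallyInjective R g → ∀ φ : K →ₗ[R] I.X n, ∃ ψ : L →ₗ[R] I.X n, ψ ∘ₗ g = φ)) :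
    ∃ φ : M' ⟶ I, η ≫ φ = (CochainComplex.single₀ (ModuleCat.{u} R)).map f ≫ ε := by
  exact GrothLib.PureExt.exists_cochainMap f I ε hI ((GrothLib.PureExt.isPureCores_iff η).1 hM')

end Groth.Agent.S8778
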