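import Groth.Statements.S8779
import Groth.Agent.Lib.PureExt.Resolution

set_option autoImplicit false
universe u
open CategoryTheory
open PureExt

namespace Groth.Agent.S8779

/-- With `M → N` a map of `R`-modules, `M → M'` a universally exact resolution and `N → I` a coaugmented
cochain complex of pure injective modules, two maps of complexes `M' → I` inducing the same map `M →
N` are homotopic. -/
theorem result (R : Type u) [CommRing R] {M N : ModuleCat.{u} R}
    (f : M ⟶ N) (M' I : CochainComplex (ModuleCat.{u} R) ℕ)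
    (η : (CochainComplex.single₀ (ModuleCat.{u} R)).obj M ⟶ M')
    (ε : (CochainComplex.single₀ (ModuleCat.{u} R)).obj N ⟶ I)
    (hM' : ∀ T : ModuleCat.{u} R,
      QuasiIso (((MonoidalCategory.tensorRight T).mapHomologicalComplex (ComplexShape.up ℕ)).map η))
    (hI : ∀ n : ℕ, (∀ ⦃K L : Type u⦄ [AddCommGroup K] [Module R K] [AddCommGroup L] [Module R L] (g : K →ₗ[R] L),
          CAlgX.UniversallyInjective R g → ∀ φ : K →ₗ[R] I.X n, ∃ ψ : L →ₗ[R] I.X n, ψ ∘ₗ g = φ))
    (α β : M' ⟶ I) (hα : η ≫ α = (CochainComplex.single₀ (ModuleCat.{u} R)).map f ≫ ε)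
    (hβ : η ≫ β = (CochainComplex.single₀ (ModuleCat.{u} R)).map f ≫ ε) : Nonempty (Homotopy α β) := by
  obtain ⟨h⟩ := GrothLib.PureExt.exists_homotopy_zero' I hI ((GrothLib.PureExt.isPureCores_iff η).1 hM') (α - β)
    (by rw [Preadditive.comp_sub, hα, hβ, sub_self])
  exact ⟨Homotopy.equivSubZero.symm h⟩

end Groth.Agent.S8779
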