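import Groth.Statements.S8780
import Groth.Agent.Lib.Adeq20.Tangent

set_option autoImplicit false
set_option linter.style.haveILetI false
universe u
open CategoryTheory Limits
open AdeqTF

namespace Groth.Agent.S8780

/-- Take `I` injective in the category of module-valued functors on `A`-algebras. For every `A`-algebra
`B` and every short exact sequence `0 → N₁ → N → N₂ → 0` of `B`-modules, the induced map of tangent
modules `TI(B, N) → TI(B, N₂)` is surjective (`TI(B, N)` is the kernel of `I(B[N]) → I(B)`, `B[N]`
the trivial square-zero extension). (The published statement asserts that `TI(B, N₁) → TI(B, N) →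
TI(B, N₂) → 0` is exact; exactness at the middle term is false: for `A = B = ℚ`, the split sequence
`0 → ℚ → ℚ² → ℚ → 0` and the injective functor `D ↦ Map(Hom(D, ℚ[ε]/(ε²)), E)` with `E` an injective
hull of `ℚ[ε]/(ε²)`, the indicator function of the first coordinate form lies in the kernel of
`TI(B, ℚ²) → TI(B, ℚ)` and not in the image of `TI(B, ℚ) → TI(B, ℚ²)`. This row keeps the
surjectivity, which the published argument does establish.) -/
theorem result (A : Type u) [CommRing A] (I : Adeq.MVF A) [Injective I]
    (B : Adeq.Alg A) (S : ShortComplex (ModuleCat.{u} B)) (hS : S.ShortExact) :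
    Function.Surjective (AdeqTF.tangentMap B I S.g) := by
  have hg : Function.Surjective S.g := by
    haveI := hS.epi_g
    exact (ModuleCat.epi_iff_surjective _).1 inferInstance
  haveI : Epi (AdeqTF.map B S.g) := ⟨fun {Z} a b e => ConcreteCategory.hom_ext _ _ fun z => by
    obtain ⟨n, hn⟩ := hg z.snd
    have hz : (AdeqTF.map B S.g).hom (TrivSqZeroExt.inl z.fst + TrivSqZeroExt.inr n) = z := by
      refine TrivSqZeroExt.ext ?_ ?_
      · refine (TrivSqZeroExt.fst_map S.g.hom _).trans ?_
        simp
      · refine (TrivSqZeroExt.snd_map S.g.hom _).trans ?_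
        simpa using hn
    rw [← hz]
    exact ConcreteCategory.congr_hom e _⟩
  intro y
  obtain ⟨x, hx⟩ := GrothLib.Adeq20.injective_surjective (AdeqTF.ext B S.X₂) I (AdeqTF.map B S.g) y.1
  exact ⟨GrothLib.Adeq20.toTangent B I x, (GrothLib.Adeq20.tangentMap_toTangent B I S.g x).trans
    (by rw [hx, GrothLib.Adeq20.toTangent_coe])⟩

end Groth.Agent.S8780
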