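import Groth.Statements.S8781
import Groth.Agent.Lib.Adeq20.Tangent

set_option autoImplicit false
set_option linter.style.haveILetI false
universe u
open CategoryTheory Limits
open AdeqTF

namespace Groth.Agent.S8781

/-- Say a module-valued functor `F` on `A`-algebras has right exact tangent functors if for every
`A`-algebra `B` and every short exact sequence `0 → N₁ → N → N₂ → 0` of `B`-modules the sequence
`TF(B, N₁) → TF(B, N) → TF(B, N₂) → 0` is exact. If `0 → F → G → H → 0` is a short exact sequence of
module-valued functors and `F`, `G` have right exact tangent functors, so does `H`. -/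
theorem result (A : Type u) [CommRing A] (C : ShortComplex (Adeq.MVF A))
    (hC : C.ShortExact)
    (h₁ : (∀ (B : Adeq.Alg A) (S : ShortComplex (ModuleCat.{u} B)), S.ShortExact →
        Function.Surjective (AdeqTF.tangentMap B C.X₁ S.g) ∧
          (AdeqTF.tangentMap B C.X₁ S.g).ker = (AdeqTF.tangentMap B C.X₁ S.f).range))
    (h₂ : (∀ (B : Adeq.Alg A) (S : ShortComplex (ModuleCat.{u} B)), S.ShortExact →
        Function.Surjective (AdeqTF.tangentMap B C.X₂ S.g) ∧
          (AdeqTF.tangentMap B C.X₂ S.g).ker = (AdeqTF.tangentMap B C.X₂ S.f).range)) :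
    (∀ (B : Adeq.Alg A) (S : ShortComplex (ModuleCat.{u} B)), S.ShortExact →
        Function.Surjective (AdeqTF.tangentMap B C.X₃ S.g) ∧
          (AdeqTF.tangentMap B C.X₃ S.g).ker = (AdeqTF.tangentMap B C.X₃ S.f).range) := by
  exact fun B S hS => GrothLib.Adeq20.rightExact_right B hC S (h₁ B S hS) (h₂ B S hS)

end Groth.Agent.S8781
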