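import Groth.Statements.S8783
import Groth.Agent.Lib.Adeq20.Tangent

set_option autoImplicit false
set_option linter.style.haveILetI false
universe u
open CategoryTheory Limits
open AdeqTF

namespace Groth.Agent.S8783

/-- Let `F` be a module-valued functor on `A`-algebras with right exact tangent functors (for every
`A`-algebra `B` and short exact `0 → N₁ → N → N₂ → 0` of `B`-modules, `TF(B, N₁) → TF(B, N) → TF(B,
N₂) → 0` is exact). Then `TF(B, N₁ ⊕ N₂) = TF(B, N₁) ⊕ TF(B, N₂)`: the map from the product induced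
by the two inclusions is bijective. -/
theorem result (A : Type u) [CommRing A] (F : Adeq.MVF A)
    (hF : (∀ (B : Adeq.Alg A) (S : ShortComplex (ModuleCat.{u} B)), S.ShortExact →
        Function.Surjective (AdeqTF.tangentMap B F S.g) ∧
          (AdeqTF.tangentMap B F S.g).ker = (AdeqTF.tangentMap B F S.f).range))
    (B : Adeq.Alg A) (N₁ N₂ : ModuleCat.{u} B) :
    Function.Bijective ((AdeqTF.tangentMap B F (biprod.inl : N₁ ⟶ N₁ ⊞ N₂)).coprod
      (AdeqTF.tangentMap B F (biprod.inr : N₂ ⟶ N₁ ⊞ N₂))) := by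
  obtain ⟨hsurj, hker⟩ := hF B _
    (ShortComplex.Splitting.ofHasBinaryBiproduct N₁ N₂).shortExact
  have h1 : ∀ x, AdeqTF.tangentMap B F (biprod.fst : N₁ ⊞ N₂ ⟶ N₁)
      (AdeqTF.tangentMap B F (biprod.inl : N₁ ⟶ N₁ ⊞ N₂) x) = x := fun x => by
    rw [GrothLib.Adeq20.tangentMap_comp, biprod.inl_fst, GrothLib.Adeq20.tangentMap_id]
  have h2 : ∀ x, AdeqTF.tangentMap B F (biprod.snd : N₁ ⊞ N₂ ⟶ N₂)
      (AdeqTF.tangentMap B F (biprod.inr : N₂ ⟶ N₁ ⊞ N₂) x) = x := fun x => by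
    rw [GrothLib.Adeq20.tangentMap_comp, biprod.inr_snd, GrothLib.Adeq20.tangentMap_id]
  constructor
  · refine (injective_iff_map_eq_zero _).2 fun v hv => ?_
    rw [AddMonoidHom.coprod_apply] at hv
    have a1 := congrArg (AdeqTF.tangentMap B F (biprod.fst : N₁ ⊞ N₂ ⟶ N₁)) hv
    rw [map_add, h1, map_zero, GrothLib.Adeq20.tangentMap_comp, biprod.inr_fst,
      GrothLib.Adeq20.tangentMap_zero, add_zero] at a1
    have a2 := congrArg (AdeqTF.tangentMap B F (biprod.snd : N₁ ⊞ N₂ ⟶ N₂)) hv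
    rw [map_add, h2, map_zero, GrothLib.Adeq20.tangentMap_comp, biprod.inl_snd,
      GrothLib.Adeq20.tangentMap_zero, zero_add] at a2
    exact Prod.ext a1 a2
  · intro y
    let z := AdeqTF.tangentMap B F (biprod.snd : N₁ ⊞ N₂ ⟶ N₂) y
    obtain ⟨x, hx⟩ := hker.le (show y - AdeqTF.tangentMap B F (biprod.inr : N₂ ⟶ N₁ ⊞ N₂) z ∈
      (AdeqTF.tangentMap B F (biprod.snd : N₁ ⊞ N₂ ⟶ N₂)).ker by
        rw [AddMonoidHom.mem_ker, map_sub, h2, sub_self])
    refine ⟨(x, z), ?_⟩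
    rw [AddMonoidHom.coprod_apply]
    exact (congrArg (· + _) hx).trans (sub_add_cancel _ _)

end Groth.Agent.S8783
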