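import Groth.Statements.S8784
import Groth.Agent.Lib.AdeqMod20.Parasitic

set_option autoImplicit false
set_option linter.style.haveILetI false
universe u
open CategoryTheory Limits AlgebraicGeometry
open Adeq

namespace Groth.Agent.S8784

/-- The parasitic adequate `O`-modules form a Serre subcategory of the category of adequate `O`-modules
on the big fppf site of a scheme `S`; concretely, if `M₁ → M₂ → M₃` is a complex of adequate
`O`-modules, exact at `M₂` (exactness taken in the category of all `O`-modules, which agrees with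
exactness among adequate modules), and `M₁`, `M₃` are parasitic, then `M₂` is parasitic. (The
published statement also identifies the quotient by this Serre subcategory with the category of
quasi-coherent modules on `S`; that part is not included here.) -/
theorem result (S : Scheme.{u}) (C : ShortComplex (BigSite.Mod Scheme.fppfPrecoverage S))
    (hC : C.Exact) (h₁ : Adeq.adequateMod Scheme.fppfPrecoverage S C.X₁) (h₂ : Adeq.adequateMod Scheme.fppfPrecoverage S C.X₂)
    (h₃ : Adeq.adequateMod Scheme.fppfPrecoverage S C.X₃) (p₁ : Adeq.parasitic Scheme.fppfPrecoverage S C.X₁)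
    (p₃ : Adeq.parasitic Scheme.fppfPrecoverage S C.X₃) :
    Adeq.parasitic Scheme.fppfPrecoverage S C.X₂ := by
  intro U hU
  refine subsingleton_of_forall_eq 0 fun x => ?_
  obtain ⟨T, hT, hy⟩ := GrothLib.AdeqMod20.exists_local_preimage C hC x ((p₃ U hU).elim _ _)
  obtain ⟨R₀, hR₀, hsub⟩ := GrothLib.AdeqMod20.exists_covering_sub hT
  let T' : Sieve U := (Sieve.overEquiv U).symm (Sieve.generate R₀)
  have hT' : T' ∈ QuotSh.J Scheme.fppfPrecoverage S U := by
    rw [GrothendieckTopology.mem_over_iff, OrderIso.apply_symm_apply]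
    exact Precoverage.generate_mem_toGrothendieck hR₀
  refine GrothLib.AdeqMod20.eq_zero_of_sieve C.X₂ hT' x fun V g hg => ?_
  rw [Sieve.overEquiv_symm_iff] at hg
  obtain ⟨W, w, v, hv, hw⟩ := hg
  haveI : Flat v := (hR₀.2 hv).1
  haveI := hU
  have hflat : Flat (v ≫ U.hom) := inferInstance
  obtain ⟨y, hy'⟩ := hy _ (hsub v hv)
  let h : V ⟶ Over.mk (v ≫ U.hom) := Over.homMk w ((Category.assoc w v U.hom).symm.trans
    ((congrArg (· ≫ U.hom) hw).trans (Over.w g)))
  have hg' : g = h ≫ Over.homMk v rfl := Over.OverMorphism.ext hw.symm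
  have h0 : C.X₂.val.presheaf.map (Over.homMk v rfl : Over.mk (v ≫ U.hom) ⟶ U).op x = 0 :=
    hy'.symm.trans ((congrArg _ ((p₁ (Over.mk (v ≫ U.hom)) hflat).elim y 0)).trans
      (map_zero (C.f.val.app (Opposite.op (Over.mk (v ≫ U.hom)))).hom))
  rw [hg', CategoryTheory.op_comp, Functor.map_comp]
  exact (congrArg _ h0).trans (map_zero (C.X₂.val.presheaf.map h.op).hom)

end Groth.Agent.S8784
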