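import Groth.Statements.S8794
import Groth.Agent.Lib.KillCompl3.Depth
-- import your own Groth.Agent.* helpers here

set_option autoImplicit false
universe u
open CategoryTheory
attribute [local instance] HasDerivedCategory.standard
open LocCoh

namespace Groth.Agent.S8794

/-- Let (A, m) be a Noetherian local ring with a dualizing complex, I an ideal and d a natural with
cd(A, I) ≤ d, M a finite A-module, p a prime of A and s a natural with depth(M_p) + dim(A/p) > d +
s. Assume the total right derived functor RΓ_m and derived I-adic completion exist on D(A). Then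
there is f ∈ A with f ∉ p annihilating the cohomology modules H^i of the derived I-adic completion
of RΓ_m(M) for all i ≤ s. -/
theorem result (A : Type u) [CommRing A] [IsNoetherianRing A] [IsLocalRing A] (hdc : ∃ ω : Dual.D A, Dual.IsDualizing A ω) (I : Ideal A) [DRing.HasRgammaI (IsLocalRing.maximalIdeal A)] [DRing.HasDerivedCompletion I] (M : Type u) [AddCommGroup M] [Module A M] [Module.Finite A M] (p : PrimeSpectrum A) (s d : ℕ) (h2 : LocCoh.CdLE A I d) (h3 : (((d + s : ℕ) : ℕ∞) : WithBot ℕ∞) < ((LocCoh.depth (Localization.AtPrime p.asIdeal) (LocalizedModule p.asIdeal.primeCompl M) : ℕ∞) : WithBot ℕ∞) + ringKrullDim (A ⧸ p.asIdeal)) : ∃ f : A, f ∉ p.asIdeal ∧ ∀ i : ℤ, i ≤ s → ∀ x : Dual.HD A ((DRing.derivedCompletion I).obj ((DRing.RgammaI (IsLocalRing.maximalIdeal A)).obj (Dual.inD A M))).obj i, f • x = 0 := by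
  obtain ⟨ω, hω⟩ := hdc
  obtain ⟨f, hfp, hf⟩ := GrothLib.KillCompl3.exists_notMem_killing hω (IsLocalRing.maximalIdeal A ⊔ I) M p (s + d)
    fun r hr q hrq hq => by
      obtain rfl : q = IsLocalRing.closedPoint A := PrimeSpectrum.ext
        (le_antisymm (IsLocalRing.le_maximalIdeal q.2.ne_top) (le_sup_left.trans hq))
      exact GrothLib.KillCompl3.lt_depth_add_of_le hω M hr (s + d) (by rw [Nat.add_comm]; exact h3)
  obtain ⟨N, hN⟩ := GrothLib.KillCompl3.exists_pow_killing_completion I (IsLocalRing.maximalIdeal A) M s d h2 f hf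
  exact ⟨f ^ N, fun h => hfp (p.isPrime.mem_of_pow_mem N h), hN⟩

end Groth.Agent.S8794
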