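import Groth.Statements.S8798
import Groth.Agent.Lib.BootUnif3.Uniform
-- import your own Groth.Agent.* helpers here

set_option autoImplicit false
universe u
open CategoryTheory
open Dual2

namespace Groth.Agent.S8798

/-- Let A be a Noetherian ring with a dualizing complex, I an ideal with cd(A, I) ≤ d, M a finite
A-module, T ⊆ V(I) stable under specialization and s a natural, satisfying: (4) for primes p ⊆ r ⊆ q
with p ∉ V(I), r ∈ V(I) ∖ T and q ∈ T, either depth(M_p) ≥ s or depth(M_p) + dim((A/p)_q) > d + s;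
(6) for q ∈ T, writing A', I', M' for the I-adic completions of A_q, IA_q, M_q, one has
depth(M'_{p'}) > s for every prime p' of A' not containing I' such that the only primes containing
both p' and I' are maximal. Then for i ≤ s the inverse system of local cohomology modules
H^i_T(I^nM), with transition maps induced by the inclusions I^mM ⊆ I^nM, is pro-zero: for every n
there is m ≥ n with H^i_T(I^mM) → H^i_T(I^nM) zero. Moreover there is m₀ such that for every m ≥ m₀
there is m' ≥ m such that for all k ≥ m' the image of H^{s+1}_T(I^kM) in H^{s+1}_T(I^mM) maps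
injectively to H^{s+1}_T(I^{m₀}M). -/
theorem result (A : Type u) [CommRing A] [IsNoetherianRing A] (hdc : ∃ ω : Dual.D A, Dual.IsDualizing A ω) (I : Ideal A) (d : ℕ) (hcd : LocCoh.CdLE A I d) (M : Type u) [AddCommGroup M] [Module A M] [Module.Finite A M] (T : Set (PrimeSpectrum A)) (hTI : T ⊆ PrimeSpectrum.zeroLocus (I : Set A)) (hT : StableUnderSpecialization T) (s : ℕ) (h4 : ∀ p r q : PrimeSpectrum A, p ≤ r → r ≤ q → ¬ I ≤ p.asIdeal → I ≤ r.asIdeal → r ∉ T → q ∈ T → (s : ℕ∞) ≤ LocCoh.depth (Localization.AtPrime p.asIdeal) (LocalizedModule p.asIdeal.primeCompl M) ∨ ((d + s : ℕ) : WithBot ℕ∞) < (LocCoh.depth (Localization.AtPrime p.asIdeal) (LocalizedModule p.asIdeal.primeCompl M) : WithBot ℕ∞) + Formal2.dimBetween A p.asIdeal q.asIdeal) (h6 : ∀ q : PrimeSpectrum A, q ∈ T → ∀ p' : PrimeSpectrum (AdicCompletion (I.map (algebraMap A (Localization.AtPrime q.asIdeal))) (Localization.AtPrime q.asIdeal)), ¬ (I.map (algebraMap A (AdicCompletion (I.map (algebraMap A (Localization.AtPrime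 q.asIdeal))) (Localization.AtPrime q.asIdeal)))) ≤ p'.asIdeal → (∀ q' : PrimeSpectrum (AdicCompletion (I.map (algebraMap A (Localization.AtPrime q.asIdeal))) (Localization.AtPrime q.asIdeal)), p' ≤ q' → (I.map (algebraMap A (AdicCompletion (I.map (algebraMap A (Localization.AtPrime q.asIdeal))) (Localization.AtPrime q.asIdeal)))) ≤ q'.asIdeal → q'.asIdeal.IsMaximal) → (s : ℕ∞) < LocCoh.depth (Localization.AtPrime p'.asIdeal) (LocalizedModule p'.asIdeal.primeCompl (AdicCompletion (I.map (algebraMap A (Localization.AtPrime q.asIdeal))) (LocalizedModule q.asIdeal.primeCompl M)))) : (∀ i : ℕ, i ≤ s → ∀ n : ℕ, ∃ (m : ℕ) (hnm : n ≤ m), ∀ x : Dual2.HT T i ↥(I ^ m • (⊤ : Submodule A M) : Submodule A M), (localCohomology.ofDiagram (Dual2.idealsInDiagram T) i).map (ModuleCat.ofHom (Submodule.inclusion (Submodule.smul_mono_left (Ideal.pow_le_pow_right (hnm)) : (I ^ m • (⊤ : Submodule A M) : Submodule A M) ≤ (I ^ n • (⊤ : Submodule A M) : Submodule A M)))) x = 0) ∧ ∃ m₀ : ℕ, ∀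 (m : ℕ) (hm : m₀ ≤ m), ∃ (m' : ℕ) (hm' : m ≤ m'), ∀ (k : ℕ) (hk : m' ≤ k), ∀ x : Dual2.HT T (s + 1) ↥(I ^ k • (⊤ : Submodule A M) : Submodule A M), (localCohomology.ofDiagram (Dual2.idealsInDiagram T) (s + 1)).map (ModuleCat.ofHom (Submodule.inclusion (Submodule.smul_mono_left (Ideal.pow_le_pow_right (hm.trans (hm'.trans hk))) : (I ^ k • (⊤ : Submodule A M) : Submodule A M) ≤ (I ^ m₀ • (⊤ : Submodule A M) : Submodule A M)))) x = 0 → (localCohomology.ofDiagram (Dual2.idealsInDiagram T) (s + 1)).map (ModuleCat.ofHom (Submodule.inclusion (Submodule.smul_mono_left (Ideal.pow_le_pow_right (hm'.trans hk)) : (I ^ k • (⊤ : Submodule A M) : Submodule A M) ≤ (I ^ m • (⊤ : Submodule A M) : Submodule A M)))) x = 0 := by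
  obtain ⟨ω, hω⟩ := hdc
  have S : GrothLib.BootUnif3.Cond I d s M T := ⟨hcd, hTI, hT, h4, h6⟩
  refine ⟨fun i hi n => ?_, 0, fun m hm => ?_⟩
  · obtain ⟨m, h, hz⟩ := GrothLib.BootUnif3.exists_HT_map_zero hω S i (by omega) n
    exact ⟨m, h, fun x => hz m le_rfl x⟩
  · obtain ⟨m', h, hz⟩ := GrothLib.BootUnif3.exists_HT_map_zero hω S (s + 1) le_rfl m
    exact ⟨m', h, fun k hk x _ => hz k hk x⟩

end Groth.Agent.S8798
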