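import Groth.Statements.S8800
import Groth.Agent.Lib.AdicLim.Noeth

set_option autoImplicit false
universe u v
open AdicRing

namespace Groth.Agent.S8800

/-- Let A be a Noetherian ring and I an ideal of A. Let B be an A-algebra which is complete for the
IB-adic topology and such that B/IB is an A-algebra of finite type. Then B is a Noetherian ring. -/
theorem result (A : Type u) [CommRing A] [IsNoetherianRing A] (I : Ideal A) (B : Type v) [CommRing B] [Algebra A B] [IsAdicComplete (I.map (algebraMap A B)) B] (hB : Algebra.FiniteType A (B ⧸ I.map (algebraMap A B))) : IsNoetherianRing B := by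
  have : IsNoetherianRing (B ⧸ I.map (algebraMap A B)) := Algebra.FiniteType.isNoetherianRing A _
  exact GrothLib.AdicLim.isNoetherianRing_of_complete
    (I := I.map (algebraMap A B)) (Ideal.FG.map (IsNoetherian.noetherian I) _)

end Groth.Agent.S8800
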