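import Groth.Statements.S8801
import Groth.Agent.Lib.Hensel.PairFP
import Groth.Agent.Lib.Hensel.Noetherian
import Groth.Agent.Lib.CplNbhd10.Basic
import Mathlib.RingTheory.FiniteType
import Mathlib.RingTheory.Etale.Basic

set_option autoImplicit false
universe u
open AdicRing

namespace Groth.Agent.S8801

theorem bij_congr {A B P : Type*} [CommRing A] [CommRing B] [CommRing P] [Algebra A B] [Algebra A P] [Algebra B P]
    [IsScalarTower A B P] {K : Ideal B} {L L' : Ideal P} (h : L = L') (hle : K ≤ L.comap (IsScalarTower.toAlgHom A B P))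
    {hle' : K ≤ L'.comap (algebraMap B P)}
    (hb : Function.Bijective (Ideal.quotientMap L' (algebraMap B P) hle')) :
    Function.Bijective (Ideal.quotientMapₐ L (IsScalarTower.toAlgHom A B P) hle) := by
  subst h
  exact hb


/-- Let A be a Noetherian ring and I an ideal. Let C be an A-algebra of finite type and Cʰ a
henselization of the pair (C, IC), viewed as an A-algebra through C, and let J be an ideal of Cʰ.
Then there is an A-algebra B of finite type whose IB-adic completion is isomorphic as an A-algebra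
to the I(Cʰ/J)-adic completion of Cʰ/J (existence of an isomorphism only; the published statement
names no particular map). -/
theorem result (A : Type u) [CommRing A] [IsNoetherianRing A] (I : Ideal A) (C : Type u) [CommRing C] [Algebra A C] [Algebra.FiniteType A C] (Ch : Type u) [CommRing Ch] [Algebra C Ch] [Algebra A Ch] [IsScalarTower A C Ch] (hCh : Hens2.IsPairHenselization C (I.map (algebraMap A C)) Ch) (J : Ideal Ch) : ∃ (B : Type u) (_ : CommRing B) (_ : Algebra A B), Algebra.FiniteType A B ∧ Nonempty (AdicCompletion (I.map (algebraMap A B)) B ≃ₐ[A] AdicCompletion (I.map (algebraMap A (Ch ⧸ J))) (Ch ⧸ J)) := by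
  classical
  haveI : IsNoetherianRing C := Algebra.FiniteType.isNoetherianRing A C
  haveI : IsNoetherianRing Ch := GrothLib.Hensel.IsPairHenselization.isNoetherianRing hCh
  obtain ⟨s, hs⟩ := IsNoetherian.noetherian J
  obtain ⟨N, _, _, _, _, _, -, hN, hmem⟩ := GrothLib.Hensel.IsPairHenselization.exists_stage hCh s
  let J' : Ideal N := J.comap (algebraMap N Ch)
  have hJ : J'.map (algebraMap N Ch) = J := by
    refine le_antisymm Ideal.map_comap_le ?_
    conv_lhs => rw [← hs]
    refine Submodule.span_le.2 fun x hx => ?_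
    obtain ⟨y, rfl⟩ := hmem x hx
    exact Ideal.mem_map_of_mem _ (show algebraMap N Ch y ∈ J from hs ▸ Submodule.subset_span hx)
  letI : Algebra A N := ((algebraMap C N).comp (algebraMap A C)).toAlgebra
  haveI : IsScalarTower A C N := IsScalarTower.of_algebraMap_eq' rfl
  haveI : IsScalarTower A N Ch := IsScalarTower.of_algebraMap_eq' (by
    rw [IsScalarTower.algebraMap_eq A C N, ← RingHom.comp_assoc, ← IsScalarTower.algebraMap_eq,
      ← IsScalarTower.algebraMap_eq])
  haveI : Algebra.FiniteType A N := Algebra.FiniteType.trans (S := C) inferInstance inferInstance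
  let φ : Ch →ₐ[N] Ch ⧸ J := Ideal.Quotient.mkₐ N J
  letI : Algebra (N ⧸ J') (Ch ⧸ J) := (Ideal.quotientMap J (algebraMap N Ch) le_rfl).toAlgebra
  haveI : IsScalarTower N (N ⧸ J') (Ch ⧸ J) := IsScalarTower.of_algebraMap_eq' rfl
  haveI : IsScalarTower A (N ⧸ J') (Ch ⧸ J) := IsScalarTower.of_algebraMap_eq fun a => by
    rw [IsScalarTower.algebraMap_apply A N (N ⧸ J'), ← IsScalarTower.algebraMap_apply N (N ⧸ J') (Ch ⧸ J),
      ← IsScalarTower.algebraMap_apply A N (Ch ⧸ J)]
  have hP := GrothLib.Hensel.isPairHenselization_of_surjective (R' := N ⧸ J') hN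
    (Ideal.Quotient.mk_surjective (I := J')) φ (Ideal.Quotient.mkₐ_surjective N J) (by
      intro x hx
      have hx' : x ∈ J := Ideal.Quotient.eq_zero_iff_mem.1 hx
      rw [show RingHom.ker (algebraMap N (N ⧸ J')) = J' from Ideal.mk_ker, hJ]
      exact hx')
  have hK : ((I.map (algebraMap A C)).map (algebraMap C N)).map (algebraMap N (N ⧸ J')) =
      I.map (algebraMap A (N ⧸ J')) := by
    rw [Ideal.map_map, Ideal.map_map, IsScalarTower.algebraMap_eq A N (N ⧸ J')]
    rfl
  rw [hK] at hP
  refine ⟨N ⧸ J', inferInstance, inferInstance, inferInstance, ?_⟩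
  have hpow : ∀ n : ℕ, (I.map (algebraMap A (Ch ⧸ J))) ^ n =
      ((I.map (algebraMap A (N ⧸ J'))) ^ n).map (algebraMap (N ⧸ J') (Ch ⧸ J)) := fun n => by
    rw [Ideal.map_pow, Ideal.map_map, ← IsScalarTower.algebraMap_eq]
  refine GrothLib.CplNbhd10.nonempty_algEquiv _ _ (fun n => AlgEquiv.ofBijective
    (Ideal.quotientMapₐ _ (IsScalarTower.toAlgHom A (N ⧸ J') (Ch ⧸ J))
      (by rw [hpow]; exact Ideal.le_comap_map)) ?_) ?_
  · have := GrothLib.Hensel.IsPairHenselization.quotientMap_pow_bijective hP n
    exact bij_congr (hpow n) _ this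
  · intro m n h x
    obtain ⟨x, rfl⟩ := Ideal.Quotient.mk_surjective x
    rfl

end Groth.Agent.S8801
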