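import Groth.Statements.S8802
import Groth.Agent.Lib.CanExt7.Split
import Groth.Agent.Lib.CanExt7.QReg

set_option autoImplicit false
universe u
open CategoryTheory AlgebraicGeometry Opposite
open Algz

namespace Groth.Agent.S8802

/-- Let A be a Noetherian ring, I ⊆ 𝔞 ideals, U the complement of V(𝔞) in Spec A, and (F_n) an object of
Coh(U, IO_U), indexed here from 0. Assume: (1) there are f_1, …, f_d ∈ I such that for every point y
of U lying in V(I) the ideal IO_{U,y} is generated by the images of f_1, …, f_d and f_1, …, f_d form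
a regular sequence on the completed stalk F^∧_y over the completed local ring; (2) writing F_0 for
the first term of the system, both cohomology groups H^1(U, F_0) and H^0(U, F_0) are finitely
generated over A. Under these hypotheses the system (F_n) admits a canonical extension to all of
Spec A. -/
theorem result (A : Type u) [CommRing A] [IsNoetherianRing A] (I 𝔞 : Ideal A) (hI𝔞 : I ≤ 𝔞) (G : ℕᵒᵖ ⥤ (↑(LocCoh.puncturedOpen A 𝔞) : Scheme.{u}).Modules) (hG : Formal.IsCohFormal I G) (d : ℕ) (f : Fin d → A) (hfI : ∀ j, f j ∈ I) (h1 : ∀ (y : (↑(LocCoh.puncturedOpen A 𝔞) : Scheme.{u})), (LocCoh.puncturedOpen A 𝔞).ι.base y ∈ PrimeSpectrum.zeroLocus (R := A) I → Algz.stalkIdeal I y = Ideal.span (Set.range (fun j => Algz.toStalk A (↑(LocCoh.puncturedOpen A 𝔞) : Scheme.{u}) y (f j))) ∧ RingTheory.Sequence.IsRegular ↥(Algz.hatStalk I G y) (List.ofFn (fun j => algebraMap ((↑(LocCoh.puncturedOpen A 𝔞) : Scheme.{u}).presheaf.stalk y) (Algz.hatRing I y) (Algz.toStalk A (↑(LocCoh.puncturedOpen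 A 𝔞) : Scheme.{u}) y (f j))))) (h2 : Module.Finite A (Coh.HH (↑(LocCoh.puncturedOpen A 𝔞) : Scheme.{u}) (G.obj (op 0)) 0) ∧ Module.Finite A (Coh.HH (↑(LocCoh.puncturedOpen A 𝔞) : Scheme.{u}) (G.obj (op 0)) 1)) : Algz.CanonicallyExtends A I (LocCoh.puncturedOpen A 𝔞) G := by
  obtain ⟨h0, h1'⟩ := h2
  refine GrothLib.CanExt7.canonicallyExtends_of_coeff hI𝔞 G hG h0 h1' fun n => ?_
  obtain ⟨N, w, hw⟩ := GrothLib.CanExt7.exists_words.{u} d (n + 1)
  refine ⟨N, fun k => ((w k).map f).prod, fun k => ?_, fun x hxI => ?_⟩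
  · refine Ideal.pow_right_mono (Ideal.span_le.2 ?_) (n + 1) ((hw A f).1.le (Ideal.subset_span ⟨k, rfl⟩))
    rintro _ ⟨j, rfl⟩; exact hfI j
  obtain ⟨hs, hr⟩ := h1 x (show (I : Set A) ⊆ x.1.asIdeal from hxI)
  let U := LocCoh.puncturedOpen A 𝔞
  let t := Algz.toStalk A (U : Scheme.{u}) x
  let μ := algebraMap ((U : Scheme.{u}).presheaf.stalk x) (Algz.hatRing I x)
  have hmap : ∀ k, t ((w k).map f).prod = ((w k).map fun j => t (f j)).prod := fun k => by
    rw [map_list_prod, List.map_map]; rfl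
  have hmap' : ∀ k, μ (t ((w k).map f).prod) = ((w k).map fun j => μ (t (f j))).prod := fun k => by
    rw [hmap, map_list_prod, List.map_map]; rfl
  refine ⟨?_, fun z hz k => ?_⟩
  · rw [hs]
    refine Eq.trans ?_ (hw _ fun j => t (f j)).1
    exact congrArg Ideal.span (congrArg Set.range (funext hmap))
  · have hJ : Ideal.span (Set.range fun j => μ (t (f j))) = Algz.hatIdeal I x := by
      refine Eq.trans ?_ (congrArg (Ideal.map μ) hs).symm; rw [Ideal.map_span, ← Set.range_comp]; rfl
    rw [← hJ]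
    refine (hw _ fun j => μ (t (f j))).2 _ hr.toIsWeaklyRegular z ?_ k
    simp only [← hmap']
    exact hz

end Groth.Agent.S8802
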