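import Groth.Statements.S8803
import Groth.Agent.Lib.LC.TopNonzero
import Mathlib.Algebra.Category.ModuleCat.Subobject

set_option autoImplicit false
universe u
open CategoryTheory
open LocCoh Opposite CategoryTheory.Limits

namespace Groth.Agent.S8803

/-- Let (A, m) be a Noetherian local ring and (M_n) an inverse system of finite A-modules. Then for
every i the inverse system H^i_m(M_n) of local cohomology modules satisfies the Mittag-Leffler
condition. -/
theorem result (A : Type u) [CommRing A] [IsNoetherianRing A] [IsLocalRing A] (Msys : ℕᵒᵖ ⥤ ModuleCat.{u} A) (hfin : ∀ n : ℕᵒᵖ, Module.Finite A (Msys.obj n)) (i : ℕ) : ARSys.IsML (Msys ⋙ localCohomology (IsLocalRing.maximalIdeal A) i) := by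
  intro n
  haveI := hfin (op n)
  haveI : IsArtinian A ((localCohomology (IsLocalRing.maximalIdeal A) i).obj (Msys.obj (op n))) :=
    GrothLib.LC.isArtinian_H_maximal i (Msys.obj (op n))
  set Y := Msys ⋙ localCohomology (IsLocalRing.maximalIdeal A) i with hY
  haveI : IsArtinian A (Y.obj (op n)) := this
  haveI : WellFoundedLT (Subobject (Y.obj (op n))) :=
    ⟨(InvImage.wf (ModuleCat.subobjectModule (Y.obj (op n))) wellFounded_lt).mono fun a b h =>
      (ModuleCat.subobjectModule (Y.obj (op n))).lt_iff_lt.2 h⟩
  let f : ℕ →o (Subobject (Y.obj (op n)))ᵒᵈ :=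
    ⟨fun s => OrderDual.toDual (imageSubobject (ARSys.shiftMap Y s n)), fun r s hrs => by
      change imageSubobject (ARSys.shiftMap Y s n) ≤ imageSubobject (ARSys.shiftMap Y r n)
      have : ARSys.shiftMap Y s n = Y.map (homOfLE (Nat.add_le_add_left hrs n)).op ≫ ARSys.shiftMap Y r n := by
        refine Eq.trans ?_ (Y.map_comp _ _)
        exact congrArg Y.map (Subsingleton.elim _ _)
      rw [this]
      exact imageSubobject_comp_le _ _⟩
  obtain ⟨r, hr⟩ := WellFoundedGT.monotone_chain_condition f
  exact ⟨r, fun s hs => (hr s hs).symm⟩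

end Groth.Agent.S8803
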