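import Groth.Statements.S8804
import Groth.Agent.Lib.AdicLim.Finite
import Groth.Agent.Lib.AdicLim.Equiv
import Mathlib.RingTheory.Henselian
import Mathlib.RingTheory.Ideal.KrullsHeightTheorem
import Mathlib.RingTheory.Ideal.IdempotentFG
import Mathlib.RingTheory.KrullDimension.Basic
import Mathlib.RingTheory.Ideal.MinimalPrime.Noetherian
import Mathlib.Tactic.TFAE
import Mathlib.Tactic.LinearCombination
-- import your own Groth.Agent.* helpers here

set_option autoImplicit false
universe u
open AdicRing

namespace Groth.Agent.S8804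

/-- Let A be a Noetherian ring which is complete for the adic topology of an ideal I, and let q be a
prime ideal of A. The following are equivalent: (1) I ⊄ q and q is maximal among the primes not
containing I; (5) dim(A/q) = 1 and I ⊄ q; (8) A/q is a one-dimensional complete local ring whose
maximal ideal is the radical of the image of I (stated as: the Krull dimension of A/q is 1, every
maximal ideal of A/q equals the radical of I(A/q), and A/q is adically complete for that radical).
(The other equivalent forms, for other ideals of definition or for the induced topology, are not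
stated.) -/
theorem result (A : Type u) [CommRing A] [IsNoetherianRing A] (I : Ideal A) [IsAdicComplete I A] (q : PrimeSpectrum A) : List.TFAE [¬ I ≤ q.asIdeal ∧ ∀ q' : PrimeSpectrum A, q ≤ q' → ¬ I ≤ q'.asIdeal → q' = q, ringKrullDim (A ⧸ q.asIdeal) = 1 ∧ ¬ I ≤ q.asIdeal, ringKrullDim (A ⧸ q.asIdeal) = 1 ∧ (∀ m : Ideal (A ⧸ q.asIdeal), m.IsMaximal → m = (I.map (Ideal.Quotient.mk q.asIdeal)).radical) ∧ IsAdicComplete (I.map (Ideal.Quotient.mk q.asIdeal)).radical (A ⧸ q.asIdeal)] := by
  classical
  let R := A ⧸ q.asIdeal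
  let π : A →+* R := Ideal.Quotient.mk q.asIdeal
  let J : Ideal R := I.map π
  have hJc : IsAdicComplete J R :=
    (IsAdicComplete.map_algebraMap_iff I R).2 (GrothLib.AdicLim.isAdicComplete_of_finite I R)
  have hJjac : J ≤ (⊥ : Ideal R).jacobson := IsAdicComplete.le_jacobson_bot J
  have hJmax : ∀ m : Ideal R, m.IsMaximal → J ≤ m := fun m hm => hJjac.trans (sInf_le ⟨bot_le, hm⟩)
  have hJbot : ∀ h : ¬ I ≤ q.asIdeal, J ≠ ⊥ := fun h e => h fun x hx => by
    rw [← Ideal.Quotient.eq_zero_iff_mem, ← Ideal.mem_bot, ← e]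
    exact Ideal.mem_map_of_mem π hx
  tfae_have 2 → 1 := fun ⟨hd, hI⟩ => by
    have : Ring.KrullDimLE 1 R := Ring.krullDimLE_iff.2 hd.le
    refine ⟨hI, fun q' hle hI' => ?_⟩
    by_contra hne
    have hker : RingHom.ker π ≤ q'.asIdeal := by rw [Ideal.mk_ker]; exact hle
    have hcom : (q'.asIdeal.map π).comap π = q'.asIdeal := by
      rw [Ideal.comap_map_of_surjective π Ideal.Quotient.mk_surjective, ← RingHom.ker_eq_comap_bot]
      exact sup_eq_left.2 hker
    have : (q'.asIdeal.map π).IsPrime := Ideal.map_isPrime_of_surjective Ideal.Quotient.mk_surjective hker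
    have hbot : q'.asIdeal.map π ≠ ⊥ := fun e => hne (le_antisymm (fun x hx => by
      rw [← Ideal.Quotient.eq_zero_iff_mem, ← Ideal.mem_bot, ← e]
      exact Ideal.mem_map_of_mem π hx) hle)
    refine hI' ((Ideal.map_le_iff_le_comap.1 (hJmax _ (Ideal.isMaximal_of_isPrime_of_ne_bot _ hbot))).trans hcom.le)
  tfae_have 1 → 2 := fun ⟨hI, hmax⟩ => by
    refine ⟨le_antisymm (Ring.krullDimLE_iff.1 (Ring.krullDimLE_one_iff_of_noZeroDivisors.2 ?_)) ?_, hI⟩
    · have hprime : ∀ P : Ideal R, P.IsPrime → P ≠ ⊥ → J ≤ P := by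
        intro P hP hP0
        by_contra hJP
        have h1 := hmax ⟨P.comap π, inferInstance⟩ (fun x hx => by
          show π x ∈ P
          rw [Ideal.Quotient.eq_zero_iff_mem.2 hx]; exact zero_mem _)
          fun h => hJP (Ideal.map_le_iff_le_comap.2 h)
        have h2 : P.comap π = q.asIdeal := congrArg PrimeSpectrum.asIdeal h1
        apply hP0
        rw [← Ideal.map_comap_of_surjective π Ideal.Quotient.mk_surjective P, h2, Ideal.map_quotient_self]
      obtain ⟨x, hxJ, hx0⟩ := Submodule.exists_mem_ne_zero_of_ne_bot (hJbot hI)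
      have hxP : ∀ P : Ideal R, P.IsPrime → P ≠ ⊥ → x ∈ P := fun P hP h0 => hprime P hP h0 hxJ
      have hS := Ideal.finite_minimalPrimes_of_isNoetherianRing R (Ideal.span {x})
      have hmin : ∀ Q : Ideal R, Q.IsPrime → Q ≠ ⊥ → Q ∈ (Ideal.span {x}).minimalPrimes := by
        intro Q hQ hQ0
        have hsub : (Q : Set R) ⊆ ⋃ i ∈ (↑hS.toFinset : Set (Ideal R)), (i : Set R) := by
          intro y hy
          by_cases hy0 : y = 0
          · obtain ⟨P, hP, -⟩ := Ideal.exists_minimalPrimes_le
              (show Ideal.span {x} ≤ Q by simpa [Ideal.span_le] using hxP Q hQ hQ0)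
            exact Set.mem_iUnion₂.2 ⟨P, by simpa using hP, hy0 ▸ zero_mem P⟩
          · obtain ⟨P', hP', hP'Q⟩ := Ideal.exists_minimalPrimes_le
              (show Ideal.span {y} ≤ Q by simpa [Ideal.span_le] using hy)
            have := hP'.isPrime
            have hyP' : y ∈ P' := hP'.le (Ideal.mem_span_singleton_self y)
            have hP'0 : P' ≠ ⊥ := fun e => hy0 (by simpa [e] using hyP')
            obtain ⟨P, hP, hPP'⟩ := Ideal.exists_minimalPrimes_le
              (show Ideal.span {x} ≤ P' by simpa [Ideal.span_le] using hxP P' this hP'0)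
            refine Set.mem_iUnion₂.2 ⟨P, by simpa using hP, ?_⟩
            have := hP.isPrime
            suffices P = P' by rwa [SetLike.mem_coe, this]
            by_contra hne
            have h1 := Ideal.height_le_one_of_isPrincipal_of_mem_minimalPrimes _ _ hP'
            have hP0 : (⊥ : Ideal R) < P :=
              bot_lt_iff_ne_bot.2 fun e => hx0 (by simpa [e] using hP.le (Ideal.mem_span_singleton_self x))
            have h2 := Ideal.height_strict_mono_of_isPrime_of_isPrime hP0
            have h3 := Ideal.height_strict_mono_of_isPrime_of_isPrime (lt_of_le_of_ne hPP' hne)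
            have h4 : P.height = 0 := Order.lt_one_iff.1 (lt_of_lt_of_le h3 h1)
            exact not_lt_bot (h4 ▸ h2)
        obtain ⟨P, hP, hQP⟩ := (Ideal.subset_union_prime ⊥ ⊥ fun P hP _ _ =>
          (by simpa using hP : P ∈ (Ideal.span {x}).minimalPrimes).isPrime).1 hsub
        have hP' : P ∈ (Ideal.span {x}).minimalPrimes := by simpa using hP
        rwa [le_antisymm hQP (hP'.2 ⟨hQ, by simpa [Ideal.span_le] using hxP Q hQ hQ0⟩ hQP)]
      intro Q hQ0 hQ
      obtain ⟨m, hm, hQm⟩ := Q.exists_le_maximal hQ.ne_top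
      have h1 := hmin m hm.isPrime fun e => hQ0 (le_bot_iff.1 (e ▸ hQm))
      have h2 := hmin Q hQ hQ0
      rwa [le_antisymm hQm (h1.2 h2.1 hQm)]
    · have hnf : ¬ IsField R := fun hF => by
        let _ := hF.toField
        exact hJbot hI (le_bot_iff.1 (hJmax ⊥ Ideal.bot_isMaximal))
      have : Nontrivial R := inferInstance
      obtain ⟨m, hm⟩ := Ideal.exists_maximal R
      have := hm.isPrime
      have hm0 : (⊥ : Ideal R) < m :=
        bot_lt_iff_ne_bot.2 fun e => hnf (Ring.isField_iff_maximal_bot.2 (e ▸ hm))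
      have h1 : (1 : ℕ∞) ≤ m.height :=
        Order.one_le_iff_pos.2 (lt_of_le_of_lt bot_le (Ideal.height_strict_mono_of_isPrime_of_isPrime hm0))
      exact le_trans (by exact_mod_cast h1) (Ideal.height_le_ringKrullDim_of_ne_top hm.ne_top)
  tfae_have 3 → 2 := fun ⟨hd, hm, _⟩ => by
    refine ⟨hd, fun hI => ?_⟩
    have hJ0 : J = ⊥ := by
      rw [eq_bot_iff, Ideal.map_le_iff_le_comap]
      exact fun x hx => by simpa using Ideal.Quotient.eq_zero_iff_mem.2 (hI hx)
    obtain ⟨m, hm'⟩ := Ideal.exists_maximal R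
    have h1 : m = ⊥ := by
      rw [hm m hm', show I.map (Ideal.Quotient.mk q.asIdeal) = ⊥ from hJ0]
      exact Ideal.radical_bot_of_noZeroDivisors
    have h0 : Ring.KrullDimLE 0 R := Ring.krullDimLE_zero_iff.2 fun P hP => by
      rwa [← (h1 ▸ hm' : (⊥ : Ideal R).IsMaximal).eq_of_le hP.ne_top bot_le, ← h1]
    have h2 := Ring.krullDimLE_iff.1 h0
    rw [show ringKrullDim R = 1 from hd] at h2
    exact absurd h2 (by decide)
  tfae_have 2 → 3 := fun ⟨hd, hI⟩ => by
    have : Ring.KrullDimLE 1 R := Ring.krullDimLE_iff.2 hd.le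
    have hJ0 := hJbot hI
    let Q := R ⧸ J
    have hidem : ∀ e : Q, IsIdempotentElem e → e = 0 ∨ e = 1 := by
      intro e he
      obtain ⟨e0, rfl⟩ := Ideal.Quotient.mk_surjective e
      have hmem : e0 * e0 - e0 ∈ J := by rw [← Ideal.Quotient.eq, map_mul]; exact he
      have hunit : IsUnit (Ideal.Quotient.mk J (2 * e0 - 1)) := by
        refine IsUnit.of_mul_eq_one (Ideal.Quotient.mk J (2 * e0 - 1)) ?_
        rw [← map_mul, ← map_one (Ideal.Quotient.mk J), Ideal.Quotient.eq,
          show (2 * e0 - 1) * (2 * e0 - 1) - 1 = 4 * (e0 * e0 - e0) by ring]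
        exact Ideal.mul_mem_left _ _ hmem
      obtain ⟨a, ha, hae⟩ := HenselianRing.is_henselian (I := J) (Polynomial.X ^ 2 - Polynomial.X)
        (Polynomial.monic_X_pow_sub (by simp)) e0
        (by simpa [pow_two] using hmem)
        (by simpa [one_add_one_eq_two, map_ofNat] using hunit)
      have ha' : a * (a - 1) = 0 := by
        have := ha.eq_zero
        simp at this
        linear_combination this
      rcases mul_eq_zero.1 ha' with h | h
      · left
        rw [h, zero_sub] at hae
        exact Ideal.Quotient.eq_zero_iff_mem.2 (neg_mem_iff.1 hae)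
      · right
        rw [sub_eq_zero.1 h] at hae
        rw [← map_one (Ideal.Quotient.mk J), Ideal.Quotient.eq]
        simpa using neg_mem hae
    have hQmax : ∀ P : Ideal Q, P.IsPrime → P.IsMaximal := fun P hP => by
      have : (P.comap (Ideal.Quotient.mk J)).IsMaximal :=
        Ideal.isMaximal_of_isPrime_of_ne_bot _ fun e => hJ0 (le_bot_iff.1 (by
          rw [← e]; intro x hx; simp [Ideal.Quotient.eq_zero_iff_mem.2 hx]))
      rw [← Ideal.map_comap_of_surjective _ Ideal.Quotient.mk_surjective P]
      exact (Ideal.map_eq_top_or_isMaximal_of_surjective _ Ideal.Quotient.mk_surjective this).resolve_left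
        (by rw [Ideal.map_comap_of_surjective _ Ideal.Quotient.mk_surjective]; exact hP.ne_top)
    have : IsArtinianRing Q := isArtinianRing_iff_isNoetherianRing_krullDimLE_zero.2
      ⟨inferInstance, Ring.krullDimLE_zero_iff.2 hQmax⟩
    have hnil : ∀ M : Ideal Q, M.IsMaximal → ∃ k, M ^ k = ⊥ := by
      intro M hM
      obtain ⟨k, hk⟩ := IsArtinian.monotone_stabilizes (R := Q) (M := Q)
        ⟨fun n => OrderDual.toDual (M ^ n), fun a b h => Ideal.pow_le_pow_right h⟩
      have hk2 : M ^ k * M ^ k = M ^ k :=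
        (pow_add M k k).symm.trans (OrderDual.toDual.injective (hk (k + k) (Nat.le_add_right k k))).symm
      obtain ⟨e, he, heM⟩ := (Ideal.isIdempotentElem_iff_of_fg _ (IsNoetherian.noetherian _)).1 hk2
      rcases hidem e he with rfl | rfl
      · exact ⟨k, by rw [heM]; exact Ideal.span_singleton_eq_bot.2 rfl⟩
      · exfalso
        rcases Nat.eq_zero_or_pos k with rfl | hk0
        · have h1 := hk 1 (Nat.zero_le 1)
          exact hM.ne_top ((Submodule.pow_one M).symm.trans
            ((OrderDual.toDual.injective h1).symm.trans ((Submodule.pow_zero M).trans Ideal.one_eq_top)))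
        · refine hM.ne_top (top_le_iff.1 ?_)
          calc (⊤ : Ideal Q) = M ^ k := by rw [heM]; exact Ideal.span_singleton_one.symm
            _ ≤ M := Ideal.pow_le_self hk0.ne'
    have hJtop : J ≠ ⊤ := fun e => by
      obtain ⟨m, hm⟩ := Ideal.exists_maximal R
      exact hm.ne_top (top_le_iff.1 (e ▸ hJmax m hm))
    have : Nontrivial Q := Ideal.Quotient.nontrivial_iff.2 hJtop
    obtain ⟨M, hM⟩ := Ideal.exists_maximal Q
    obtain ⟨k, hk⟩ := hnil M hM
    let m₀ : Ideal R := M.comap (Ideal.Quotient.mk J)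
    have hm₀ : m₀.IsMaximal := Ideal.comap_isMaximal_of_surjective _ Ideal.Quotient.mk_surjective
    have hpow : m₀ ^ k ≤ J := by
      intro y hy
      rw [← Ideal.Quotient.eq_zero_iff_mem, ← Ideal.mem_bot, ← hk]
      have h1 := Ideal.mem_map_of_mem (Ideal.Quotient.mk J) hy
      rw [Ideal.map_pow] at h1
      exact Ideal.pow_right_mono Ideal.map_comap_le k h1
    have hrad : J.radical = m₀ := by
      refine le_antisymm (hm₀.isPrime.radical_le_iff.2 (hJmax _ hm₀)) fun y hy => ?_
      exact ⟨k, hpow (Ideal.pow_mem_pow hy k)⟩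
    refine ⟨hd, fun m hm => ?_, ?_⟩
    · have : m₀ ≤ m := hrad ▸ hm.isPrime.radical_le_iff.2 (hJmax m hm)
      exact (hm₀.eq_of_le hm.ne_top this).symm.trans hrad.symm
    · show IsAdicComplete J.radical R
      rw [hrad]
      exact GrothLib.AdicLim.isAdicComplete_of_le_of_pow_le (hJmax _ hm₀) hpow R
  tfae_finish

end Groth.Agent.S8804
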