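import Groth.Statements.S8805
import Groth.Agent.Lib.EtLift16.Main

set_option autoImplicit false
universe u
open AdicRing

namespace Groth.Agent.S8805

open GrothLib.EtLift16

/-- Let A be a Noetherian ring, I ⊆ A an ideal and J ⊆ A a nilpotent ideal. Let C be a finite type
A-algebra whose structure morphism Spec C → Spec A becomes etale once restricted to the complement
of V(I), meaning that C_a is etale over A for each a ∈ I. Let B₀ be an (A/J)-algebra of finite type
such that Spec B₀ → Spec(A/J) is etale over the complement of V(I), together with an etale algebra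
map B₀ → C/JC over A inducing a bijection B₀/IB₀ → (C/JC)/I(C/JC). Then there exist an A-algebra B
of finite type, an etale algebra structure B → C over A and a surjection B → B₀ over A with kernel
JB, such that the composite B → B₀ → C/JC agrees with B → C → C/JC and Spec B → Spec A is etale over
the complement of V(I). -/
theorem result (A : Type u) [CommRing A] [IsNoetherianRing A] (I J : Ideal A) (hJ : IsNilpotent J) (C : Type u) [CommRing C] [Algebra A C] [Algebra.FiniteType A C] (hC : ∀ a ∈ I, Algebra.Etale A (Localization.Away (algebraMap A C a))) (B₀ : Type u) [CommRing B₀] [Algebra A B₀] [Algebra (A ⧸ J) B₀] [IsScalarTower A (A ⧸ J) B₀] [Algebra.FiniteType (A ⧸ J) B₀] (hB₀ : ∀ a ∈ I, Algebra.Etale (A ⧸ J) (Localization.Away (algebraMap A B₀ a))) [Algebra B₀ (C ⧸ J.map (algebraMap A C))] [IsScalarTower A B₀ (C ⧸ J.map (algebraMap A C))] [Algebra.Etale B₀ (C ⧸ J.map (algebraMap A C))] (h3 : (∀ c : (C ⧸ J.map (algebraMap A C)), ∃ b : B₀, algebraMap B₀ (C ⧸ J.map (algebraMap A C)) b - c ∈ I.map (algebraMap A (C ⧸ J.map (algebraMap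 A C)))) ∧ ∀ b : B₀, algebraMap B₀ (C ⧸ J.map (algebraMap A C)) b ∈ I.map (algebraMap A (C ⧸ J.map (algebraMap A C))) → b ∈ I.map (algebraMap A B₀)) : ∃ (B : Type u) (_ : CommRing B) (_ : Algebra A B) (_ : Algebra B C) (_ : IsScalarTower A B C) (_ : Algebra B B₀) (_ : IsScalarTower A B B₀), Algebra.FiniteType A B ∧ Algebra.Etale B C ∧ (∀ a ∈ I, Algebra.Etale A (Localization.Away (algebraMap A B a))) ∧ Function.Surjective (algebraMap B B₀) ∧ RingHom.ker (algebraMap B B₀) = J.map (algebraMap A B) ∧ ∀ b : B, algebraMap B₀ (C ⧸ J.map (algebraMap A C)) (algebraMap B B₀ b) = Ideal.Quotient.mk (J.map (algebraMap A C)) (algebraMap B C b) := by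
  classical

  obtain ⟨n, f, hf⟩ := Submodule.fg_iff_exists_fin_generating_family.mp (IsNoetherian.noetherian I)
  have hI : Ideal.span (Set.range f) = I := hf
  have hmem : ∀ i, f i ∈ I := fun i => hI ▸ Ideal.subset_span ⟨i, rfl⟩
  haveI : ∀ i, Algebra.Etale A (GrothLib.EtLift16.Away' C (f i)) := fun i => hC _ (hmem i)
  haveI : Algebra.FiniteType A B₀ := Algebra.FiniteType.trans (S := A ⧸ J) inferInstance inferInstance
  obtain ⟨D⟩ := GrothLib.EtLift16.nonempty_setup J B₀ C f hJ (fun i => hB₀ _ (hmem i))
  have hq := GrothLib.EtLift16.bijective_quotientMap h3.1 h3.2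
  let q := D.reduction hJ hI hq
  letI : Algebra D.glued C := D.toC.toRingHom.toAlgebra
  haveI : IsScalarTower A D.glued C := IsScalarTower.of_algebraMap_eq' D.toC.comp_algebraMap.symm
  letI : Algebra D.glued B₀ := q.toRingHom.toAlgebra
  haveI : IsScalarTower A D.glued B₀ := IsScalarTower.of_algebraMap_eq' q.comp_algebraMap.symm
  have hkills : ∀ j ∈ J, algebraMap A B₀ j = 0 := fun j hj => by
    rw [IsScalarTower.algebraMap_apply A (A ⧸ J) B₀, Ideal.Quotient.algebraMap_eq,
      Ideal.Quotient.eq_zero_iff_mem.2 hj, map_zero]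
  have hk : RingHom.ker q = J.map (algebraMap A D.glued) :=
    le_antisymm (fun z hz => D.mem_of_reduction_eq_zero hJ hI hq z hz)
      (fun z hz => D.reduction_kills hJ hI hq hkills z hz)
  haveI := D.finiteType hJ hI hq
  refine ⟨D.glued, inferInstance, inferInstance, inferInstance, inferInstance, inferInstance, inferInstance,
    inferInstance, ?_, ?_, D.reduction_surjective hJ hI hq, hk, fun b => D.reduction_fst hJ hI hq b⟩
  · refine GrothLib.EtLift16.etale_of_reduction hJ hI h3.1 h3.2 q (D.reduction_surjective hJ hI hq) hk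
      (fun z => D.reduction_fst hJ hI hq z) (fun i => ?_) (fun d hc hd => ?_)
    · haveI := D.etale_away hJ i
      infer_instance
    · refine D.glued_ext ?_ fun i => ?_
      · rw [map_zero]; exact hc
      · obtain ⟨k, hk⟩ := hd i
        have h := congrArg (D.proj i) hk
        rw [map_smul, map_zero, Algebra.smul_def, map_pow] at h
        rw [map_zero]
        exact ((D.unitW hJ i).pow k).mul_right_eq_zero.1 h
  · exact fun a ha => GrothLib.EtLift16.etale_away_of_generators hI (fun i => D.etale_away hJ i) ha

end Groth.Agent.S8805
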