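import Groth.Statements.S8823
import Groth.Agent.Lib.Smoothing.Approx.Etale
import Groth.Agent.Lib.GRingFT.Main

set_option autoImplicit false
universe u
open AdicRing

namespace Groth.Agent.S8823

/-- Let A be a Noetherian G-ring and I an ideal of A. Let B and C be A-algebras of finite type, φ an
A-algebra map from the IB-adic completion of B to the IC-adic completion of C, and N ≥ 1. Then one
can find an etale C-algebra C' for which the induced map C/IC → C'/IC' is a bijection, together with
a homomorphism of A-algebras ψ : B → C' that approximates φ to order N: given any b ∈ B, some c ∈ C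
satisfies ψ(b) − c ∈ I^N C', while the image of φ(b) in C/I^N C (the N-th truncation of the
completion) coincides with the class of c. -/
theorem result (A : Type u) [CommRing A] (hA : CAlg.IsGRing A) (I : Ideal A) (B C : Type u) [CommRing B] [Algebra A B] [Algebra.FiniteType A B] [CommRing C] [Algebra A C] [Algebra.FiniteType A C] (φ : (AdicCompletion (I.map (algebraMap A B)) B) →ₐ[A] (AdicCompletion (I.map (algebraMap A C)) C)) (N : ℕ) (hN : 1 ≤ N) : ∃ (C' : Type u) (_ : CommRing C') (_ : Algebra C C') (_ : Algebra A C') (_ : IsScalarTower A C C') (_ : Algebra.Etale C C') (ψ : B →ₐ[A] C'), ((∀ c' : C', ∃ c : C, algebraMap C C' c - c' ∈ I.map (algebraMap A C')) ∧ ∀ c : C, algebraMap C C' c ∈ I.map (algebraMap A C') → c ∈ I.map (algebraMap A C)) ∧ ∀ b : B, ∃ c : C, ψ b - algebraMap C C' c ∈ (I.map (algebraMap A C')) ^ N ∧ AdicCompletion.eval (I.map (algebraMap A C)) C N (φ (AdicCompletion.of (I.map (algebraMap A B)) B b)) = Submodule.Quotient.mk c := by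
  have hC : CAlg.IsGRing C := GrothLib.GRingFT.isGRing_of_finiteType hA C
  haveI := hA.1
  haveI := hC.1
  haveI : Algebra.FinitePresentation A B := Algebra.FinitePresentation.of_finiteType.1 inferInstance
  let IC := I.map (algebraMap A C)
  let φB : B →ₐ[A] AdicCompletion IC C :=
    φ.comp (IsScalarTower.toAlgHom A B (AdicCompletion (I.map (algebraMap A B)) B))
  let Φ : TensorProduct A C B →ₐ[C] AdicCompletion IC C :=
    Algebra.TensorProduct.lift (Algebra.ofId C _) φB fun _ _ => Commute.all _ _
  obtain ⟨E, _, _, hE, χ, τ, hτ, hker⟩ := Smoothing.Approx.exists_etale_approx IC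
    (Smoothing.Approx.isRegularHom_adicCompletion hC IC) (TensorProduct A C B) Φ N
  letI : Algebra A E := ((algebraMap C E).comp (algebraMap A C)).toAlgebra
  haveI : IsScalarTower A C E := IsScalarTower.of_algebraMap_eq fun _ => rfl
  have hmap : I.map (algebraMap A E) = IC.map (algebraMap C E) := by rw [Ideal.map_map]; rfl
  have hsub : ∀ x c, τ x = Ideal.Quotient.mk (IC ^ N) c → x - algebraMap C E c ∈ (IC ^ N).map (algebraMap C E) := by
    intro x c h
    rw [← hker, RingHom.mem_ker]
    show τ (x - algebraMap C E c) = 0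
    rw [map_sub, τ.commutes, h, Ideal.Quotient.algebraMap_eq, sub_self]
  refine ⟨E, inferInstance, inferInstance, inferInstance, inferInstance, hE,
    (χ.restrictScalars A).comp Algebra.TensorProduct.includeRight, ⟨fun x => ?_, fun c hc => ?_⟩, fun b => ?_⟩
  · obtain ⟨c, hc⟩ := Ideal.Quotient.mk_surjective (τ x)
    refine ⟨c, ?_⟩
    rw [hmap, ← neg_mem_iff, neg_sub]
    exact Ideal.map_mono (Ideal.pow_le_self (by omega)) (hsub x c hc.symm)
  · rw [hmap] at hc
    have h1 : τ (algebraMap C E c) ∈ IC.map (Ideal.Quotient.mk (IC ^ N)) := by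
      have h2 := Ideal.mem_map_of_mem τ.toRingHom hc
      rw [Ideal.map_map] at h2
      rw [show τ.toRingHom.comp (algebraMap C E) = Ideal.Quotient.mk (IC ^ N) from RingHom.ext τ.commutes] at h2
      exact h2
    rw [τ.commutes, Ideal.Quotient.algebraMap_eq, Ideal.mem_quotient_iff_mem (Ideal.pow_le_self (by omega))] at h1
    exact h1
  · obtain ⟨c, hc⟩ := Submodule.Quotient.mk_surjective _
      (AdicCompletion.eval IC C N (φ (AdicCompletion.of (I.map (algebraMap A B)) B b)))
    refine ⟨c, ?_, hc.symm⟩
    rw [hmap, ← Ideal.map_pow]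
    refine hsub _ c ?_
    have h1 := AlgHom.congr_fun hτ ((1 : C) ⊗ₜ[A] b)
    have h2 : Φ ((1 : C) ⊗ₜ[A] b) = φ (AdicCompletion.of (I.map (algebraMap A B)) B b) := by
      rw [Algebra.TensorProduct.lift_tmul, map_one, one_mul]
      rfl
    refine h1.trans ?_
    rw [AlgHom.comp_apply, h2, ← AdicCompletion.factor_eval_eq_evalₐ _ _ (le_of_eq (by simp)), ← hc]
    rfl

end Groth.Agent.S8823
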