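import Groth.Statements.S8826
import Groth.Agent.Lib.ElkikAff1.Ideal
import Groth.Agent.Lib.Hensel.PairHull
import Groth.Agent.Lib.Hensel.Noetherian
import Mathlib
-- import your own Groth.Agent.* helpers here

set_option autoImplicit false
universe u
open AdicRing

namespace Groth.Agent.S8826

/-- Let A be a Noetherian ring and I an ideal. Let B be an A-algebra of finite type such that Spec B →
Spec A is etale over the complement of V(I) (B_a etale over A for every a ∈ I), let C be a
Noetherian A-algebra with a henselization Cʰ of the pair (C, IC), and let φ be an A-algebra map from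
the IB-adic completion of B to the IC-adic completion of C. Then there is exactly one A-algebra map
ψ : B → Cʰ which induces φ on completions, in the sense that for every n and every b ∈ B there is c
∈ C with ψ(b) − c ∈ I^n Cʰ and with the n-th truncation of φ(b) in C/I^n C equal to the class of c
(recall C/I^n C = Cʰ/I^n Cʰ). (The second assertion, that such maps factor through an etale
neighbourhood, is not stated.) -/
theorem result (A : Type u) [CommRing A] [IsNoetherianRing A] (I : Ideal A) (B : Type u) [CommRing B] [Algebra A B] [Algebra.FiniteType A B] (hB : ∀ a ∈ I, Algebra.Etale A (Localization.Away (algebraMap A B a))) (C : Type u) [CommRing C] [Algebra A C] [IsNoetherianRing C] (Ch : Type u) [CommRing Ch] [Algebra C Ch] [Algebra A Ch] [IsScalarTower A C Ch] (hCh : Hens2.IsPairHenselization C (I.map (algebraMap A C)) Ch) (φ : (AdicCompletion (I.map (algebraMap A B)) B) →ₐ[A] (AdicCompletion (I.map (algebraMap A C)) C)) : ∃! ψ : B →ₐ[A] Ch, ∀ (n : ℕ) (b : B), ∃ c : C, ψ b - algebraMap C Ch c ∈ (I.map (algebraMap A Ch))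 ^ n ∧ AdicCompletion.eval (I.map (algebraMap A C)) C n (φ (AdicCompletion.of (I.map (algebraMap A B)) B b)) = Submodule.Quotient.mk c := by
  classical
  have : IsNoetherianRing Ch := GrothLib.Hensel.IsPairHenselization.isNoetherianRing hCh
  obtain ⟨J, hJ⟩ : ∃ J : Ideal Ch, J = I.map (algebraMap A Ch) := ⟨_, rfl⟩
  have hJ' : (I.map (algebraMap A C)).map (algebraMap C Ch) = J := by
    rw [hJ, Ideal.map_map, ← IsScalarTower.algebraMap_eq]
  have : HenselianRing Ch J := hJ' ▸ hCh.1
  -- smoothness and unramifiedness away from `I`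
  have het : ∀ a ∈ I, Algebra.Etale A (Localization (Algebra.algebraMapSubmonoid B (Submonoid.powers a))) := fun a ha => by
    have := hB a ha
    have hsub : Algebra.algebraMapSubmonoid B (Submonoid.powers a) = Submonoid.powers (algebraMap A B a) :=
      Submonoid.map_powers _ _
    have : IsLocalization.Away (algebraMap A B a) (Localization (Algebra.algebraMapSubmonoid B (Submonoid.powers a))) :=
      hsub ▸ (inferInstance : IsLocalization (Algebra.algebraMapSubmonoid B (Submonoid.powers a))
        (Localization (Algebra.algebraMapSubmonoid B (Submonoid.powers a))))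
    exact Algebra.Etale.of_equiv ((IsLocalization.algEquiv (Submonoid.powers (algebraMap A B a))
      (Localization.Away (algebraMap A B a)) _).restrictScalars A)
  have hsm : ∀ a ∈ I, Algebra.Smooth (Localization.Away a) (Localization (Algebra.algebraMapSubmonoid B (Submonoid.powers a))) :=
    fun a ha => by
      have := het a ha
      exact ⟨Algebra.FormallySmooth.localization_base (R := A) (Submonoid.powers a),
        Algebra.FinitePresentation.of_restrict_scalars_finitePresentation A (Localization.Away a) _⟩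
  have hunr : ∀ a ∈ I, Algebra.FormallyUnramified (Localization.Away a)
      (Localization (Algebra.algebraMapSubmonoid B (Submonoid.powers a))) := fun a ha => by
    have := het a ha
    exact Algebra.FormallyUnramified.localization_base (R := A) (Submonoid.powers a)
  -- the system induced by `φ`
  obtain ⟨q, hq⟩ : ∃ q : B →ₐ[A] AdicCompletion (I.map (algebraMap A C)) C,
      ∀ b, q b = φ (AdicCompletion.of (I.map (algebraMap A B)) B b) :=
    ⟨φ.comp ((IsScalarTower.toAlgHom A B (AdicCompletion (I.map (algebraMap A B)) B))), fun b => by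
      simp [AdicCompletion.algebraMap_apply]⟩
  obtain ⟨T, hT⟩ : ∃ T : (k : ℕ) → C ⧸ I.map (algebraMap A C) ^ k →ₐ[A] Ch ⧸ J ^ k,
      ∀ k c, T k (Ideal.Quotient.mk _ c) = Ideal.Quotient.mk _ (algebraMap C Ch c) :=
    ⟨fun k => Ideal.Quotient.liftₐ _ ((Ideal.Quotient.mkₐ A _).comp (IsScalarTower.toAlgHom A C Ch)) fun c hc =>
      Ideal.Quotient.eq_zero_iff_mem.2 (by
        have := Ideal.mem_map_of_mem (algebraMap C Ch) hc
        rwa [Ideal.map_pow, hJ'] at this), fun k c => rfl⟩
  obtain ⟨σ, hσ⟩ : ∃ σ : (k : ℕ) → B →ₐ[A] Ch ⧸ J ^ k,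
      ∀ k b c, AdicCompletion.eval (I.map (algebraMap A C)) C k (q b) = Submodule.Quotient.mk c →
        σ k b = Ideal.Quotient.mk _ (algebraMap C Ch c) := by
    refine ⟨fun k => (T k).comp (((AdicCompletion.evalₐ (I.map (algebraMap A C)) k).restrictScalars A).comp q), fun k b c hc => ?_⟩
    show T k (AdicCompletion.evalₐ (I.map (algebraMap A C)) k (q b)) = _
    rw [← AdicCompletion.factor_eval_eq_evalₐ (I.map (algebraMap A C)) (q b) (by simp), hc]
    exact hT k c
  have hcompat : ∀ {i k : ℕ} (hik : i ≤ k),
      (Ideal.Quotient.factorₐ A (Ideal.pow_le_pow_right hik)).comp (σ k) = σ i := by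
    intro i k hik
    refine AlgHom.ext fun b => ?_
    obtain ⟨c, hc⟩ := AdicCompletion.mk_surjective (I.map (algebraMap A C)) C (q b)
    rw [AlgHom.comp_apply, hσ k b (c k) (by rw [← hc]; rfl), hσ i b (c k) (by
      rw [← hc, ← AdicCompletion.AdicCauchySequence.mk_eq_mk hik c |>.symm]; rfl)]
    rfl
  have hjac : J ≤ Ideal.jacobson ⊥ := HenselianRing.jac
  obtain ⟨N, hN⟩ := GrothLib.ElkikAff1.exists_rigid (B := B) I (IsNoetherian.noetherian I) hunr Ch (hJ ▸ hjac)
  rw [← hJ] at hN
  obtain ⟨s, hs⟩ := IsNoetherian.noetherian I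
  have hJs : J = Ideal.span (algebraMap A Ch '' (s : Set A)) := by rw [hJ, ← hs, ← Ideal.map_span]
  choose τ hτ using GrothLib.ElkikAff1.exists_lift (B := B) s (fun a ha => hsm a (hs ▸ Ideal.subset_span ha)) Ch J hJs σ
    hcompat
  have hlev : ∀ i k, i ≤ k → ∀ b, Ideal.Quotient.mk (J ^ i) (τ k b) = σ i b := fun i k hik b => by
    rw [← AlgHom.congr_fun (hcompat hik) b, AlgHom.comp_apply, ← AlgHom.congr_fun (hτ k) b]
    rfl
  refine ⟨τ N, fun n b => ?_, fun ψ hψ => hN _ _ fun b => ?_⟩
  · have he : τ N = τ (max n N) := hN _ _ fun b => by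
      rw [← Ideal.Quotient.eq, hlev N _ (le_max_right _ _), hlev N _ le_rfl]
    obtain ⟨c, hc⟩ := Submodule.Quotient.mk_surjective _ (AdicCompletion.eval (I.map (algebraMap A C)) C n (q b))
    refine ⟨c, ?_, by rw [← hq, ← hc]⟩
    rw [← hJ, ← Ideal.Quotient.eq, he, hlev n _ (le_max_left _ _), hσ n b c hc.symm]
  · obtain ⟨c, hc, hce⟩ := hψ N b
    rw [← hq] at hce
    rw [← hJ, ← Ideal.Quotient.eq] at hc
    rw [← Ideal.Quotient.eq, hlev N _ le_rfl, hσ N b c hce, hc]

end Groth.Agent.S8826
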