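import Groth.Statements.S8828
import Groth.Agent.Lib.BootGlob3.Compl
-- import your own Groth.Agent.* helpers here

set_option autoImplicit false
universe u
open CategoryTheory
open Dual2

namespace Groth.Agent.S8828

/-- Let A be a Noetherian ring with a dualizing complex, I an ideal with cd(A, I) ≤ d, M a finite
A-module, T ⊆ V(I) stable under specialization and s a natural, satisfying: (4) for primes p ⊆ r ⊆ q
with p ∉ V(I), r ∈ V(I) ∖ T and q ∈ T, either depth(M_p) ≥ s or depth(M_p) + dim((A/p)_q) > d + s;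
(6) for q ∈ T, writing A_q', I_q', M_q' for the I-adic completions of A_q, IA_q, M_q, one has
depth((M_q')_{p'}) > s for every prime p' of A_q' not containing I_q' such that the only primes
containing both p' and I_q' are maximal. Let A', I', M' be the I-adic completions of A, I, M and T'
⊆ Spec A' the inverse image of T. Then A' has a dualizing complex, cd(A', I') ≤ d, and conditions
(4) and (6) hold for A', I', T', M' (so the completed data are again in the same situation). -/
theorem result (A : Type u) [CommRing A] [IsNoetherianRing A] (hdc : ∃ ω : Dual.D A, Dual.IsDualizing A ω) (I : Ideal A) (d : ℕ) (hcd : LocCoh.CdLE A I d) (M : Type u) [AddCommGroup M] [Module A M] [Module.Finite A M] (T : Set (PrimeSpectrum A)) (hTI : T ⊆ PrimeSpectrum.zeroLocus (I : Set A)) (hT : StableUnderSpecialization T) (s : ℕ) (h4 : ∀ p r q : PrimeSpectrum A, p ≤ r → r ≤ q → ¬ I ≤ p.asIdeal → I ≤ r.asIdeal → r ∉ T → q ∈ T → (s : ℕ∞) ≤ LocCoh.depth (Localization.AtPrime p.asIdeal) (LocalizedModule p.asIdeal.primeCompl M) ∨ ((d +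 s : ℕ) : WithBot ℕ∞) < (LocCoh.depth (Localization.AtPrime p.asIdeal) (LocalizedModule p.asIdeal.primeCompl M) : WithBot ℕ∞) + Formal2.dimBetween A p.asIdeal q.asIdeal) (h6 : ∀ q : PrimeSpectrum A, q ∈ T → ∀ p' : PrimeSpectrum (AdicCompletion (I.map (algebraMap A (Localization.AtPrime q.asIdeal))) (Localization.AtPrime q.asIdeal)), ¬ (I.map (algebraMap A (AdicCompletion (I.map (algebraMap A (Localization.AtPrime q.asIdeal))) (Localization.AtPrime q.asIdeal)))) ≤ p'.asIdeal → (∀ q' : PrimeSpectrum (AdicCompletion (I.map (algebraMap A (Localization.AtPrime q.asIdeal))) (Localization.AtPrime q.asIdeal)), p' ≤ q' → (I.map (algebraMap A (AdicCompletion (I.map (algebraMap A (Localization.AtPrime q.asIdeal))) (Localization.AtPrime q.asIdeal)))) ≤ q'.asIdeal → q'.asIdeal.IsMaximal) → (s : ℕ∞) < LocCoh.depth (Localization.AtPrime p'.asIdeal) (LocalizedModule p'.asIdeal.primeCompl (AdicCompletion (I.map (algebraMap A (Localization.AtPrime q.asIdeal))) (LocalizedModule q.asIdeal.primeCompl M)))) : (∃ ω' : Dual.D (AdicCompletion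 I A), Dual.IsDualizing (AdicCompletion I A) ω') ∧ LocCoh.CdLE (AdicCompletion I A) (I.map (algebraMap A (AdicCompletion I A))) d ∧ (∀ p r q : PrimeSpectrum (AdicCompletion I A), p ≤ r → r ≤ q → ¬ (I.map (algebraMap A (AdicCompletion I A))) ≤ p.asIdeal → (I.map (algebraMap A (AdicCompletion I A))) ≤ r.asIdeal → r ∉ ((PrimeSpectrum.comap (algebraMap A (AdicCompletion I A))) ⁻¹' T) → q ∈ ((PrimeSpectrum.comap (algebraMap A (AdicCompletion I A))) ⁻¹' T) → (s : ℕ∞) ≤ LocCoh.depth (Localization.AtPrime p.asIdeal) (LocalizedModule p.asIdeal.primeCompl (AdicCompletion I M)) ∨ ((d + s : ℕ) : WithBot ℕ∞) < (LocCoh.depth (Localization.AtPrime p.asIdeal) (LocalizedModule p.asIdeal.primeCompl (AdicCompletion I M)) : WithBot ℕ∞) + Formal2.dimBetween (AdicCompletion I A) p.asIdeal q.asIdeal) ∧ (∀ q : PrimeSpectrum (AdicCompletion I A), q ∈ ((PrimeSpectrum.comap (algebraMap A (AdicCompletion I A))) ⁻¹' T) → ∀ p' : PrimeSpectrum (AdicCompletion ((I.map (algebraMap A (AdicCompletion I A))).map (algebraMap (AdicCompletion I A) (Localization.AtPrime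 q.asIdeal))) (Localization.AtPrime q.asIdeal)), ¬ ((I.map (algebraMap A (AdicCompletion I A))).map (algebraMap (AdicCompletion I A) (AdicCompletion ((I.map (algebraMap A (AdicCompletion I A))).map (algebraMap (AdicCompletion I A) (Localization.AtPrime q.asIdeal))) (Localization.AtPrime q.asIdeal)))) ≤ p'.asIdeal → (∀ q' : PrimeSpectrum (AdicCompletion ((I.map (algebraMap A (AdicCompletion I A))).map (algebraMap (AdicCompletion I A) (Localization.AtPrime q.asIdeal))) (Localization.AtPrime q.asIdeal)), p' ≤ q' → ((I.map (algebraMap A (AdicCompletion I A))).map (algebraMap (AdicCompletion I A) (AdicCompletion ((I.map (algebraMap A (AdicCompletion I A))).map (algebraMap (AdicCompletion I A) (Localization.AtPrime q.asIdeal))) (Localization.AtPrime q.asIdeal)))) ≤ q'.asIdeal → q'.asIdeal.IsMaximal) → (s : ℕ∞) < LocCoh.depth (Localization.AtPrime p'.asIdeal) (LocalizedModule p'.asIdeal.primeCompl (AdicCompletion ((I.map (algebraMap A (AdicCompletion I A))).map (algebraMap (AdicCompletion I A) (Localization.AtPrime q.asIdeal)))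 (LocalizedModule q.asIdeal.primeCompl (AdicCompletion I M))))) := by
  obtain ⟨ω, hω⟩ := hdc
  have S := GrothLib.BootGlob3.cond_completion hω (⟨hcd, hTI, hT, h4, h6⟩ : GrothLib.BootUnif3.Cond I d s M T)
  exact ⟨GrothLib.BootGlob3.exists_dualizing_completion ⟨ω, hω⟩ I, S.cd, S.h4, S.h6⟩

end Groth.Agent.S8828
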