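import Groth.Statements.S8831
import Groth.Agent.Lib.Punctured.CoherentCohom

set_option autoImplicit false
universe u
open CategoryTheory AlgebraicGeometry Opposite
open LocCoh

namespace Groth.Agent.S8831

theorem aux {A : Type*} [CommRing A] {N : Type*} [AddCommGroup N] [Module A N] {n : ℕ}
    {H : ℕ → Type*} [∀ k, AddCommGroup (H k)] [∀ k, Module A (H k)] (f : ∀ k, n ≤ k → H k →ₗ[A] N)
    (hf : ∀ (k l : ℕ) (hk : n ≤ k) (hkl : k ≤ l) (x : H l), ∃ y, f k hk y = f l (hk.trans hkl) x)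
    (hart : IsArtinian A N) :
    ∃ (r : ℕ) (hnr : n ≤ r), ∀ (s : ℕ) (hrs : r ≤ s),
      Set.range (f s (hnr.trans hrs)) = Set.range (f r hnr) := by
  obtain ⟨r, hr⟩ := hart.monotone_stabilizes
    ⟨fun k => OrderDual.toDual (LinearMap.range (f (n + k) (Nat.le_add_right n k))),
      fun k l hkl => by
        rintro _ ⟨x, rfl⟩
        exact hf (n + k) (n + l) (Nat.le_add_right n k) (Nat.add_le_add_left hkl n) x⟩
  refine ⟨n + r, Nat.le_add_right n r, fun s hs => ?_⟩
  obtain ⟨t, rfl⟩ : ∃ t, s = n + t := ⟨s - n, by omega⟩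
  have heq : LinearMap.range (f (n + r) (Nat.le_add_right n r)) =
      LinearMap.range (f (n + t) (Nat.le_add_right n t)) := hr t (by omega)
  exact (LinearMap.coe_range _).symm.trans
    ((congrArg (fun P : Submodule A N => (P : Set N)) heq.symm).trans (LinearMap.coe_range _))

theorem isML_of_isArtinian {A : Type u} [CommRing A] {X : Scheme.{u}} [X.Over (Spec (CommRingCat.of A))]
    (G : ℕᵒᵖ ⥤ X.Modules) (i n : ℕ) (hart : IsArtinian A (Coh.HH X (G.obj (Opposite.op n)) i)) :
    ∃ (r : ℕ) (hnr : n ≤ r), ∀ (s : ℕ) (hrs : r ≤ s),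
      Set.range (Sheaf.H.map ((SheafOfModules.toSheaf _).map (G.map (homOfLE (hnr.trans hrs : n ≤ s)).op)) i) =
        Set.range (Sheaf.H.map ((SheafOfModules.toSheaf _).map (G.map (homOfLE (hnr : n ≤ r)).op)) i) := by
  refine aux (fun k h => GrothLib.Cohom.hhMap A (G.map (homOfLE h).op : G.obj (Opposite.op k) ⟶ _) i)
    (fun k l hk hkl x => ⟨GrothLib.Cohom.hhMap A (G.map (homOfLE hkl).op) i x, ?_⟩) hart
  rw [GrothLib.Cohom.hhMap_apply, GrothLib.Cohom.hhMap_apply, GrothLib.Cohom.hhMap_apply,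
    ← Sheaf.H.map_comp_apply, ← Functor.map_comp, ← G.map_comp]
  rfl

/-- Let (A, m) be a Noetherian local ring and U = Spec A ∖ {m} the punctured spectrum. Suppose we are
given a system (F_n), indexed inversely by n, of coherent modules on U. In each positive degree i,
the cohomology groups H^i(U, F_n) then form a Mittag-Leffler system; concretely, given any n one can
find r ≥ n such that for all s ≥ r the image of H^i(U, F_s) → H^i(U, F_n) equals the image of H^i(U,
F_r) → H^i(U, F_n). -/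
theorem result (A : Type u) [CommRing A] [IsNoetherianRing A] [IsLocalRing A] (G : ℕᵒᵖ ⥤ (↑(LocCoh.puncturedOpen A (IsLocalRing.maximalIdeal A)) : Scheme.{u}).Modules) (hG : ∀ n : ℕᵒᵖ, Coh.IsCoh (G.obj n)) (i : ℕ) (hi : 0 < i) (n : ℕ) : ∃ (r : ℕ) (hnr : n ≤ r), ∀ (s : ℕ) (hrs : r ≤ s), Set.range (Sheaf.H.map ((SheafOfModules.toSheaf _).map (G.map (homOfLE (hnr.trans hrs : n ≤ s)).op)) i) = Set.range (Sheaf.H.map ((SheafOfModules.toSheaf _).map (G.map (homOfLE (hnr : n ≤ r)).op)) i) :=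
  isML_of_isArtinian G i n (GrothLib.Punctured.isArtinian_HH _ (hG _) i hi)

end Groth.Agent.S8831
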