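import Groth.Statements.S8834
import Mathlib

set_option autoImplicit false
universe u
open AdicRing

namespace Groth.Agent.S8834

/-- Let A be a Noetherian ring complete for the adic topology of an ideal I and B a Noetherian ring
complete for the adic topology of an ideal J, with an algebra map A → B sending I into the radical
of J (a continuous homomorphism of adic Noetherian topological rings; the radicals of I and J are
the ideals of topologically nilpotent elements). Assume B/√J is of finite type over A, equivalently
over A/√I. Then B is topologically of finite type over A: there are b_1, …, b_s ∈ B such that the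
A-algebra map A[x_1, …, x_s] → B with x_i ↦ b_i has dense image for the J-adic topology, that is,
for every y ∈ B and every n there is a polynomial whose value at b differs from y by an element of
J^n. -/
theorem result (A : Type u) [CommRing A] [IsNoetherianRing A] (I : Ideal A) [IsAdicComplete I A] (B : Type u) [CommRing B] [Algebra A B] [IsNoetherianRing B] (J : Ideal B) [IsAdicComplete J B] (hIJ : I.map (algebraMap A B) ≤ J.radical) (hft : Algebra.FiniteType A (B ⧸ J.radical)) : ∃ s : ℕ, ∃ b : Fin s → B, ∀ (y : B) (n : ℕ), ∃ p : MvPolynomial (Fin s) A, y - MvPolynomial.aeval b p ∈ J ^ n := by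
  classical
  obtain ⟨T, hT⟩ := hft.out
  obtain ⟨K, hK⟩ := (IsNoetherian.noetherian J.radical : J.radical.FG)
  choose l hl using fun y : B ⧸ J.radical => Ideal.Quotient.mk_surjective y
  let G : Finset B := T.image l ∪ K
  obtain ⟨b, hb⟩ : ∃ b : Fin G.card → B, Set.range b = G :=
    ⟨fun i => (G.equivFin.symm i).1, by
      rw [show (fun i => (G.equivFin.symm i).1) = Subtype.val ∘ G.equivFin.symm from rfl,
        Set.range_comp, G.equivFin.symm.range_eq_univ, Set.image_univ, Subtype.range_coe]⟩
  let S : Subalgebra A B := (MvPolynomial.aeval b).range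
  have hgen : ∀ g ∈ G, g ∈ S := fun g hg => by
    obtain ⟨i, rfl⟩ : g ∈ Set.range b := by rw [hb]; exact hg
    exact ⟨MvPolynomial.X i, MvPolynomial.aeval_X b i⟩
  have h1 : ∀ y : B, ∃ s ∈ S, y - s ∈ J.radical := by
    intro y
    have hy : Ideal.Quotient.mk J.radical y ∈ S.map (Ideal.Quotient.mkₐ A J.radical) := by
      refine (?_ : ⊤ ≤ S.map (Ideal.Quotient.mkₐ A J.radical)) trivial
      rw [← hT, Algebra.adjoin_le_iff]
      intro t ht
      exact ⟨l t, hgen _ (Finset.mem_union_left _ (Finset.mem_image_of_mem _ ht)), hl t⟩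
    obtain ⟨s, hs, hsy⟩ := hy
    exact ⟨s, hs, Ideal.Quotient.eq.1 hsy.symm⟩
  have key : ∀ k, ∀ y : B, ∃ s ∈ S, y - s ∈ J.radical ^ k := by
    intro k
    induction k with
    | zero => exact fun y => ⟨0, zero_mem _, by rw [pow_zero, Ideal.one_eq_top]; trivial⟩
    | succ k ih =>
      intro y
      obtain ⟨s, hs, hys⟩ := h1 y
      rw [← hK] at hys
      obtain ⟨r, hr⟩ := Submodule.mem_span_finset'.1 hys
      choose r' hr' hrr using fun c : K => ih (r c)
      refine ⟨s + ∑ c, r' c * c.1, add_mem hs (sum_mem fun c _ =>
        mul_mem (hr' c) (hgen _ (Finset.mem_union_right _ c.2))), ?_⟩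
      rw [← sub_sub, ← hr, ← Finset.sum_sub_distrib, pow_succ]
      refine sum_mem fun c _ => ?_
      rw [smul_eq_mul, ← sub_mul]
      exact Ideal.mul_mem_mul (hrr c) (hK ▸ Submodule.subset_span c.2)
  obtain ⟨m, hm⟩ := Ideal.exists_radical_pow_le_of_fg J (IsNoetherian.noetherian _)
  refine ⟨G.card, b, fun y n => ?_⟩
  obtain ⟨s, ⟨p, rfl⟩, hys⟩ := key (m * n) y
  exact ⟨p, by
    rw [pow_mul] at hys
    exact Ideal.pow_right_mono hm n hys⟩

end Groth.Agent.S8834
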