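import Groth.Statements.S8837
import Groth.Agent.Lib.RigClosed.Completion

set_option autoImplicit false
universe u
open AdicRing

namespace Groth.Agent.S8837

/-- Let A be a Noetherian ring complete for the adic topology of an ideal I (an adic Noetherian
topological ring), p a prime ideal of A, and f ∈ A an element mapping to a unit in A/p. Let A_{f}
denote the completed principal localization, i.e. the I-adic completion of A_f = A[1/f]. Then the
ideal p A_{f} generated by p is prime, and the canonical map A/p → A_{f}/p A_{f} is bijective (so p
A_{f} = p ⊗_A A_{f} is the completion of p_f, with quotient A/p). -/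
theorem result (A : Type u) [CommRing A] [IsNoetherianRing A] (I : Ideal A) [IsAdicComplete I A] (p : Ideal A) [p.IsPrime] (f : A) (hf : IsUnit (Ideal.Quotient.mk p f)) : (p.map (algebraMap A (AdicCompletion (I.map (algebraMap A (Localization.Away f))) (Localization.Away f)))).IsPrime ∧ Function.Bijective (Ideal.quotientMap (p.map (algebraMap A (AdicCompletion (I.map (algebraMap A (Localization.Away f))) (Localization.Away f)))) (algebraMap A (AdicCompletion (I.map (algebraMap A (Localization.Away f))) (Localization.Away f))) Ideal.le_comap_map) := by
  exact ⟨GrothLib.RigClosed.isPrime_map I f p hf, GrothLib.RigClosed.bijective_quotientMap I f p hf⟩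

end Groth.Agent.S8837
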