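import Groth.Statements.S8839
import Groth.Agent.Lib.RigClosed.PolyCompletion

set_option autoImplicit false
universe u
open AdicRing

namespace Groth.Agent.S8839

/-- Let A be a Noetherian ring complete for the adic topology of an ideal I, n a natural number, and
A{x_1, …, x_n} the restricted power series ring, i.e. the I-adic completion of the polynomial ring
A[x_1, …, x_n]. Let q be a prime ideal of A{x_1, …, x_n}, q' its inverse image in A[x_1, …, x_n] and
p its inverse image in A. Assume q is rig-closed (the extension of I is not contained in q and q is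
maximal among such primes) and p is rig-closed in A (I ⊄ p, p maximal among the primes not
containing I). Then the local homomorphism A[x_1, …, x_n]_{q'} → A{x_1, …, x_n}_q induces an
isomorphism on completions with respect to the maximal ideals; stated as: for every m ≥ 1 the
induced map on quotients by the m-th powers of the maximal ideals is injective and surjective. -/
theorem result (A : Type u) [CommRing A] [IsNoetherianRing A] (I : Ideal A) [IsAdicComplete I A] (n : ℕ) (q : PrimeSpectrum (AdicCompletion (I.map (algebraMap A (MvPolynomial (Fin n) A))) (MvPolynomial (Fin n) A))) (hq : (¬ (I.map (algebraMap A (AdicCompletion (I.map (algebraMap A (MvPolynomial (Fin n) A))) (MvPolynomial (Fin n) A)))) ≤ q.asIdeal ∧ ∀ y : PrimeSpectrum (AdicCompletion (I.map (algebraMap A (MvPolynomial (Fin n) A))) (MvPolynomial (Fin n) A)), q ≤ y → ¬ (I.map (algebraMap A (AdicCompletion (I.map (algebraMap A (MvPolynomial (Fin n) A))) (MvPolynomial (Fin n) A)))) ≤ y.asIdeal → y = q)) (hp : (¬ I ≤ (PrimeSpectrum.comap (algebraMap A (AdicCompletion (I.map (algebraMap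 A (MvPolynomial (Fin n) A))) (MvPolynomial (Fin n) A))) q).asIdeal ∧ ∀ y : PrimeSpectrum A, (PrimeSpectrum.comap (algebraMap A (AdicCompletion (I.map (algebraMap A (MvPolynomial (Fin n) A))) (MvPolynomial (Fin n) A))) q) ≤ y → ¬ I ≤ y.asIdeal → y = (PrimeSpectrum.comap (algebraMap A (AdicCompletion (I.map (algebraMap A (MvPolynomial (Fin n) A))) (MvPolynomial (Fin n) A))) q))) (m : ℕ) (hm : 1 ≤ m) : (∀ x : (Localization.AtPrime (PrimeSpectrum.comap (algebraMap (MvPolynomial (Fin n) A) (AdicCompletion (I.map (algebraMap A (MvPolynomial (Fin n) A))) (MvPolynomial (Fin n) A))) q).asIdeal), (Localization.localRingHom (PrimeSpectrum.comap (algebraMap (MvPolynomial (Fin n) A) (AdicCompletion (I.map (algebraMap A (MvPolynomial (Fin n) A))) (MvPolynomial (Fin n) A))) q).asIdeal q.asIdeal (algebraMap (MvPolynomial (Fin n) A) (AdicCompletion (I.map (algebraMap A (MvPolynomial (Fin n) A))) (MvPolynomial (Fin n) A))) rfl) x ∈ (IsLocalRing.maximalIdeal (Localization.AtPrime q.asIdeal)) ^ m → x ∈ (IsLocalRing.maximalIdeal (Localization.AtPrime (PrimeSpectrum.comap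 (algebraMap (MvPolynomial (Fin n) A) (AdicCompletion (I.map (algebraMap A (MvPolynomial (Fin n) A))) (MvPolynomial (Fin n) A))) q).asIdeal)) ^ m) ∧ (∀ y : (Localization.AtPrime q.asIdeal), ∃ x : (Localization.AtPrime (PrimeSpectrum.comap (algebraMap (MvPolynomial (Fin n) A) (AdicCompletion (I.map (algebraMap A (MvPolynomial (Fin n) A))) (MvPolynomial (Fin n) A))) q).asIdeal), y - (Localization.localRingHom (PrimeSpectrum.comap (algebraMap (MvPolynomial (Fin n) A) (AdicCompletion (I.map (algebraMap A (MvPolynomial (Fin n) A))) (MvPolynomial (Fin n) A))) q).asIdeal q.asIdeal (algebraMap (MvPolynomial (Fin n) A) (AdicCompletion (I.map (algebraMap A (MvPolynomial (Fin n) A))) (MvPolynomial (Fin n) A))) rfl) x ∈ (IsLocalRing.maximalIdeal (Localization.AtPrime q.asIdeal)) ^ m) := by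
  let P := MvPolynomial (Fin n) A
  let T := AdicCompletion (I.map (algebraMap A P)) P
  have hT : IsAdicComplete (I.map (algebraMap A T)) T := by
    have h := AdicCompletion.isAdicComplete_self (I.map (algebraMap A P)) (IsNoetherian.noetherian _)
    rwa [Ideal.map_map, ← IsScalarTower.algebraMap_eq] at h
  have hft : Algebra.FiniteType A (T ⧸ I.map (algebraMap A T)) := by
    refine Algebra.FiniteType.of_surjective
      ((Ideal.Quotient.mkₐ A _).comp (IsScalarTower.toAlgHom A P T)) fun y => ?_
    obtain ⟨x, rfl⟩ := Ideal.Quotient.mk_surjective y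
    obtain ⟨s, hs⟩ := GrothLib.RigidBase.exists_sub_mem_pow_map (R := A) (IsNoetherian.noetherian I) 1 x
    rw [pow_one] at hs
    exact ⟨s, (Ideal.Quotient.eq.2 hs).symm⟩
  have : Module.Finite A (T ⧸ q.asIdeal) :=
    ((GrothLib.RigClosed.tfae_rigClosed hft q hq).out 1 2).1 hp
  exact GrothLib.RigClosed.localRingHom_bijective_mod_pow I P q m

end Groth.Agent.S8839
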