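import Groth.Statements.S8840
import Groth.Agent.Lib.RigClosed.Localize

set_option autoImplicit false
universe u
open AdicRing

namespace Groth.Agent.S8840

/-- Let A be a Noetherian ring complete for the adic topology of an ideal I, and B a Noetherian
A-algebra complete for the IB-adic topology with B/IB of finite type over A (an adic morphism,
topologically of finite type, of adic Noetherian topological rings). Let q be a prime of B which is
rig-closed (IB ⊄ q and q maximal among the primes not containing IB). Then there exists f ∈ A which
maps to a unit in B/q such that the following holds. Let A_{f} and B_{f} be the completed principal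
localizations (the I-adic completions of A_f and B_f) and ψ : A_{f} → B_{f} the canonical map,
characterised here as any ring map compatible with A_f → B_f (there is exactly one). Then the
inverse image p' under ψ of the ideal q' = q B_{f} is a rig-closed prime of A_{f}: p' is prime, I
A_{f} ⊄ p', and p' is maximal among the primes of A_{f} not containing I A_{f}. (That q B_{f} is
itself prime with quotient B/q holds because f is a unit modulo q; it is not restated.) -/
theorem result (A : Type u) [CommRing A] [IsNoetherianRing A] (I : Ideal A) [IsAdicComplete I A] (B : Type u) [CommRing B] [Algebra A B] [IsNoetherianRing B] [IsAdicComplete (I.map (algebraMap A B)) B] (hft : Algebra.FiniteType A (B ⧸ (I.map (algebraMap A B)))) (q : PrimeSpectrum B) (hq : (¬ (I.map (algebraMap A B)) ≤ q.asIdeal ∧ ∀ y : PrimeSpectrum B, q ≤ y → ¬ (I.map (algebraMap A B)) ≤ y.asIdeal → y = q)) : ∃ f : A, IsUnit (Ideal.Quotient.mk q.asIdeal (algebraMap A B f)) ∧ ∀ ψ : (AdicCompletion (I.map (algebraMap A (Localization.Away f))) (Localization.Away f)) →+* (AdicCompletion ((I.map (algebraMap A B)).map (algebraMap B (Localization.Away (algebraMap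 A B f)))) (Localization.Away (algebraMap A B f))), ψ.comp (algebraMap (Localization.Away f) (AdicCompletion (I.map (algebraMap A (Localization.Away f))) (Localization.Away f))) = (algebraMap (Localization.Away (algebraMap A B f)) (AdicCompletion ((I.map (algebraMap A B)).map (algebraMap B (Localization.Away (algebraMap A B f)))) (Localization.Away (algebraMap A B f)))).comp (Localization.awayMap (algebraMap A B) f) → (((q.asIdeal.map (algebraMap B (AdicCompletion ((I.map (algebraMap A B)).map (algebraMap B (Localization.Away (algebraMap A B f)))) (Localization.Away (algebraMap A B f))))).comap ψ).IsPrime ∧ ¬ (I.map (algebraMap A (AdicCompletion (I.map (algebraMap A (Localization.Away f))) (Localization.Away f)))) ≤ ((q.asIdeal.map (algebraMap B (AdicCompletion ((I.map (algebraMap A B)).map (algebraMap B (Localization.Away (algebraMap A B f)))) (Localization.Away (algebraMap A B f))))).comap ψ) ∧ ∀ y : PrimeSpectrum (AdicCompletion (I.map (algebraMap A (Localization.Away f))) (Localization.Away f)), ((q.asIdeal.map (algebraMap B (AdicCompletion ((I.map (algebraMap A B)).map (algebraMap B (Localization.Away (algebraMap A B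 f)))) (Localization.Away (algebraMap A B f))))).comap ψ) ≤ y.asIdeal → ¬ (I.map (algebraMap A (AdicCompletion (I.map (algebraMap A (Localization.Away f))) (Localization.Away f)))) ≤ y.asIdeal → y.asIdeal = ((q.asIdeal.map (algebraMap B (AdicCompletion ((I.map (algebraMap A B)).map (algebraMap B (Localization.Away (algebraMap A B f)))) (Localization.Away (algebraMap A B f))))).comap ψ)) := by
  obtain ⟨f, hf, hfin⟩ := GrothLib.RigClosed.exists_finite_over' hft q hq
  refine ⟨f, hf, fun ψ hψ => ?_⟩
  let T := GrothLib.RigClosed.CL I f
  let E := GrothLib.RigClosed.CL (I.map (algebraMap A B)) (algebraMap A B f)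
  have : IsScalarTower A B E := GrothLib.RigClosed.isScalarTower_cl _ _
  have : IsAdicComplete (I.map (algebraMap A T)) T := GrothLib.RigClosed.isAdicComplete_cl I f
  have : IsNoetherianRing T := GrothLib.RigClosed.isNoetherianRing_cl I f
  letI : Algebra T E := ψ.toAlgebra
  have : IsScalarTower A T E := IsScalarTower.of_algebraMap_eq fun x => by
    show algebraMap A E x = ψ (algebraMap A T x)
    rw [IsScalarTower.algebraMap_apply A (Localization.Away f) T, ← RingHom.comp_apply ψ, hψ,
      RingHom.comp_apply, IsScalarTower.algebraMap_apply A B E,
      IsScalarTower.algebraMap_apply B (Localization.Away (algebraMap A B f)) E]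
    congr 1
    exact (IsLocalization.map_eq _ x).symm
  obtain ⟨q', hq'eq, hq'c, hsurj, hq'⟩ := GrothLib.RigClosed.rigClosed_map_cl (algebraMap A B f) q hq hf
  have : Module.Finite T (E ⧸ q'.asIdeal) := hfin T E q'.asIdeal
    (congrArg PrimeSpectrum.asIdeal hq'c) hsurj (GrothLib.RigClosed.isUnit_algebraMap_cl I f)
  have hmap : (I.map (algebraMap A T)).map (algebraMap T E) = I.map (algebraMap A E) :=
    (Ideal.map_map _ _).trans (congrArg (Ideal.map · I) (IsScalarTower.algebraMap_eq A T E).symm)
  rw [← hmap] at hq'
  obtain ⟨h1, h2⟩ := GrothLib.RigClosed.rigClosed_comap_of_finite (I := I.map (algebraMap A T)) q' hq'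
  rw [← hq'eq]
  exact ⟨Ideal.comap_isPrime _ _, h1, fun y hy hIy => congrArg PrimeSpectrum.asIdeal (h2 y hy hIy)⟩

end Groth.Agent.S8840
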