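import Groth.Statements.S8841
import Groth.Agent.Lib.RigClosed.Flat

set_option autoImplicit false
universe u
open AdicRing

namespace Groth.Agent.S8841

/-- Let A be a Noetherian ring complete for the adic topology of an ideal I, and B a Noetherian
A-algebra complete for the IB-adic topology with B/IB of finite type over A (an adic morphism,
topologically of finite type, of adic Noetherian topological rings), and assume A/I is a Jacobson
ring. Suppose A → B is naively rig-flat: whenever q is a rig-closed prime of B (IB ⊄ q and q maximal
among the primes not containing IB), the localization B_q is an A-flat ring. Then A → B is rig-flat: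
for every f ∈ A, letting A_{f} and B_{f} be the completed principal localizations (the I-adic
completions of A_f and B_f) and ψ : A_{f} → B_{f} the canonical map, characterised here as any ring
map compatible with A_f → B_f (there is exactly one), the local ring (B_{f})_{q'} is flat over A_{f}
via ψ for every rig-closed prime q' of B_{f} (I B_{f} ⊄ q' and q' maximal among the primes not
containing I B_{f}). (That A_{f} → B_{f} is again adic and topologically of finite type is not
restated.) -/
theorem result (A : Type u) [CommRing A] [IsNoetherianRing A] (I : Ideal A) [IsAdicComplete I A] (B : Type u) [CommRing B] [Algebra A B] [IsNoetherianRing B] [IsAdicComplete (I.map (algebraMap A B)) B] (hft : Algebra.FiniteType A (B ⧸ (I.map (algebraMap A B)))) (hJ : IsJacobsonRing (A ⧸ I)) (hnaive : ∀ q : PrimeSpectrum B, (¬ (I.map (algebraMap A B)) ≤ q.asIdeal ∧ ∀ y : PrimeSpectrum B, q ≤ y → ¬ (I.map (algebraMap A B)) ≤ y.asIdeal → y = q) → (algebraMap A (Localization.AtPrime q.asIdeal)).Flat) (f : A) (ψ : (AdicCompletion (I.map (algebraMap A (Localization.Away f))) (Localization.Away f)) →+* (AdicCompletion ((I.map (algebraMap A B)).map (algebraMap B (Localization.Away (algebraMap A B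 f)))) (Localization.Away (algebraMap A B f)))) (hψ : ψ.comp (algebraMap (Localization.Away f) (AdicCompletion (I.map (algebraMap A (Localization.Away f))) (Localization.Away f))) = (algebraMap (Localization.Away (algebraMap A B f)) (AdicCompletion ((I.map (algebraMap A B)).map (algebraMap B (Localization.Away (algebraMap A B f)))) (Localization.Away (algebraMap A B f)))).comp (Localization.awayMap (algebraMap A B) f)) (q' : PrimeSpectrum (AdicCompletion ((I.map (algebraMap A B)).map (algebraMap B (Localization.Away (algebraMap A B f)))) (Localization.Away (algebraMap A B f)))) (hq' : (¬ ((((I.map (algebraMap A B))).map (algebraMap B (Localization.Away (algebraMap A B f)))).map (algebraMap (Localization.Away (algebraMap A B f)) (AdicCompletion ((I.map (algebraMap A B)).map (algebraMap B (Localization.Away (algebraMap A B f)))) (Localization.Away (algebraMap A B f))))) ≤ q'.asIdeal ∧ ∀ y : PrimeSpectrum (AdicCompletion ((I.map (algebraMap A B)).map (algebraMap B (Localization.Away (algebraMap A B f)))) (Localization.Away (algebraMap A B f))), q' ≤ y → ¬ ((((I.map (algebraMap A B))).map (algebraMap B (Localization.Away (algebraMap A B f)))).map (algebraMap (Localization.Away (algebraMap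 A B f)) (AdicCompletion ((I.map (algebraMap A B)).map (algebraMap B (Localization.Away (algebraMap A B f)))) (Localization.Away (algebraMap A B f))))) ≤ y.asIdeal → y = q')) : ((algebraMap (AdicCompletion ((I.map (algebraMap A B)).map (algebraMap B (Localization.Away (algebraMap A B f)))) (Localization.Away (algebraMap A B f))) (Localization.AtPrime q'.asIdeal)).comp ψ).Flat := by
  rw [Ideal.map_map (algebraMap B (Localization.Away (algebraMap A B f))) (algebraMap (Localization.Away (algebraMap A B f)) (AdicCompletion ((I.map (algebraMap A B)).map (algebraMap B (Localization.Away (algebraMap A B f)))) (Localization.Away (algebraMap A B f)))),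
    ← IsScalarTower.algebraMap_eq] at hq'
  exact GrothLib.RigClosed.flat_rigClosed_cl hft hJ hnaive f ψ hψ q' hq'

end Groth.Agent.S8841
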