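import Groth.Statements.S8842
import Groth.Agent.Lib.FormalPoly7.Main

set_option autoImplicit false
universe u
open scoped BigOperators
attribute [local instance] CategoryTheory.Abelian.hasFiniteBiproducts
open Formal2

namespace Groth.Agent.S8842

open CategoryTheory CategoryTheory.Limits AlgebraicGeometry Opposite in
/-- Let A be a Noetherian ring, f_1, …, f_r ∈ A and I = (f_1, …, f_r) with cd(A, I) = 1; let c ≥ 1 and
φ_j : I^c → A be A-linear with x = Σ_j f_j φ_j(x) for x ∈ I^c. Let X be a Noetherian scheme over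
Spec A, (F_n) a coherent formal module for I on X (coherent O_X-modules with F_n = F_{n+1}/I^n
F_{n+1}; indices shifted by one) and F = lim F_n, the limit in O_X-modules. Then there is c' ≥ c
with the following property. Write φ_j again for the restrictions to I^{c'} and let Φ be a graded
A-algebra homomorphism from ⊕_{n ≥ 0} I^{nc'} to A[T_1, …, T_r] with Φ(g) = Σ_j φ_j(g) T_j on I^{c'}
(there is exactly one; encoded by functions Φ_n : A → A[T_1, …, T_r] additive and A-homogeneous on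
I^{nc'}, with values homogeneous of degree n, multiplicative across degrees, Φ_0 the structure map,
Φ_1 as prescribed). Then for every n there is a unique map of O_X-modules Φ_{F,n} from the submodule
I^{nc'}F to F[T_1, …, T_r]_n = ⊕_{|e| = n} F (one copy of F for each exponent tuple e of total
degree n) such that Φ_{F,n}(g s) = Φ_n(g) s for g ∈ I^{nc'} and local sections s of F, i.e.
precomposed with multiplication by g, F → I^{nc'}F, it is the map whose component at T^e is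
multiplication by the coefficient of T^e in Φ_n(g); moreover composing Φ_{F,n} with the map
⊕_{|e|=n} F → F which is multiplication by f^e = ∏ f_j^{e_j} on the copy at T^e gives the inclusion
I^{nc'}F → F. -/
theorem result (A : Type u) [CommRing A] [IsNoetherianRing A] (r : ℕ) (f : Fin r → A) (I : Ideal A) (hI : I = Ideal.span (Set.range f)) (h1 : LocCoh.CdLE A I 1) (h0 : ¬ LocCoh.CdLE A I 0) (c : ℕ) (hc : 1 ≤ c) (φ : Fin r → (↥(I ^ c) →ₗ[A] A)) (hφ : ∀ x : ↥(I ^ c), (x : A) = ∑ j, f j * φ j x) (X : Scheme.{u}) [X.Over (Spec (CommRingCat.of A))] [IsNoetherian X] (G : ℕᵒᵖ ⥤ X.Modules) (hG : Formal.IsCohFormal I G) : ∃ c' : ℕ, ∃ hcc' : c ≤ c', ∀ Φ : ℕ → A → MvPolynomial (Fin r) A, ((∀ n : ℕ, ∀ g ∈ I ^ (n * c'), ∀ h ∈ I ^ (n * c'), Φ n (g + h) = Φ n g + Φ n h) ∧ (∀ (n : ℕ) (a : A), ∀ g ∈ I ^ (n * c'), Φ n (a * g) = a • Φ n g) ∧ (∀ n : ℕ, ∀ g ∈ I ^ (n * c'), (Φ n g).IsHomogeneous n) ∧ (∀ n m : ℕ, ∀ g ∈ I ^ (n * c'), ∀ h ∈ I ^ (m * c'),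 Φ (n + m) (g * h) = Φ n g * Φ m h) ∧ (∀ a : A, Φ 0 a = MvPolynomial.C a) ∧ (∀ (g : A) (hg : g ∈ I ^ c'), Φ 1 g = ∑ j, MvPolynomial.C (φ j ⟨g, Ideal.pow_le_pow_right hcc' hg⟩) * MvPolynomial.X j)) → ∀ n : ℕ, ∃ ΦF : (Formal2.idealPowMod I (n * c') (limit G)) ⟶ ⨁ (fun _ : ↥(Finset.Nat.antidiagonalTuple r n) ↦ (limit G)), (∀ g ∈ I ^ (n * c'), ∀ γ : (limit G) ⟶ (Formal2.idealPowMod I (n * c') (limit G)), γ ≫ Formal2.idealPowModι I (n * c') (limit G) = Formal.smulMod A (limit G) g → γ ≫ ΦF = biproduct.lift (fun e : ↥(Finset.Nat.antidiagonalTuple r n) ↦ Formal.smulMod A (limit G) (MvPolynomial.coeff (Finsupp.equivFunOnFinite.symm e.1) (Φ n g)))) ∧ ΦF ≫ biproduct.desc (fun e : ↥(Finset.Nat.antidiagonalTuple r n) ↦ Formal.smulMod A (limit G) (∏ j, f j ^ (e.1 j))) = Formal2.idealPowModι I (n * c') (limit G) ∧ (∀ ΦF' : (Formal2.idealPowMod I (n * c') (limit G)) ⟶ ⨁ (fun _ : ↥(Finset.Nat.antidiagonalTuple r n) ↦ (limit G)), (∀ g ∈ I ^ (n * c'),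 ∀ γ : (limit G) ⟶ (Formal2.idealPowMod I (n * c') (limit G)), γ ≫ Formal2.idealPowModι I (n * c') (limit G) = Formal.smulMod A (limit G) g → γ ≫ ΦF' = biproduct.lift (fun e : ↥(Finset.Nat.antidiagonalTuple r n) ↦ Formal.smulMod A (limit G) (MvPolynomial.coeff (Finsupp.equivFunOnFinite.symm e.1) (Φ n g)))) → ΦF' = ΦF) := by
  obtain ⟨b, hb⟩ := GrothLib.FormalPoly7.exists_graded_map f I c φ hφ G hG
  exact ⟨b + c, Nat.le_add_left c b, hb⟩

end Groth.Agent.S8842
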