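import Groth.Statements.S8843
import Groth.Agent.Lib.RigClosed.RigFlatComp

set_option autoImplicit false
universe u
open AdicRing

namespace Groth.Agent.S8843

/-- Let A be a Noetherian ring complete for the adic topology of an ideal I, B a Noetherian A-algebra
complete for the IB-adic topology with B/IB of finite type over A, and C a Noetherian B-algebra,
compatibly an A-algebra, complete for the IC-adic topology with C/IC of finite type over B (so A → B
→ C are adic morphisms of adic Noetherian topological rings, topologically of finite type). Assume A
→ B and B → C are rig-flat, in the following form: for every f ∈ A and the canonical map ψ : A_{f} →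
B_{f} of completed principal localizations (the I-adic completions of A_f → B_f; ψ is characterised
as any ring map compatible with A_f → B_f, and there is exactly one), the local ring (B_{f})_q is
flat over A_{f} via ψ for every rig-closed prime q of B_{f} (I B_{f} ⊄ q and q maximal among the
primes not containing I B_{f}); and likewise for B → C with g ∈ B and rig-closed primes of C_{g}.
Then A → C is rig-flat in the same form: for every f ∈ A, every ring map A_{f} → C_{f} compatible
with A_f → C_f, and every rig-closed prime q of C_{f}, the local ring (C_{f})_q is flat over A_{f}.
(That A → C is again adic and topologically of finite type is not restated.) -/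
theorem result (A : Type u) [CommRing A] [IsNoetherianRing A] (I : Ideal A) [IsAdicComplete I A] (B : Type u) [CommRing B] [Algebra A B] [IsNoetherianRing B] [IsAdicComplete (I.map (algebraMap A B)) B] (hftB : Algebra.FiniteType A (B ⧸ (I.map (algebraMap A B)))) (C : Type u) [CommRing C] [Algebra A C] [Algebra B C] [IsScalarTower A B C] [IsNoetherianRing C] [IsAdicComplete (I.map (algebraMap A C)) C] (hftC : Algebra.FiniteType B (C ⧸ (I.map (algebraMap A C)))) (hAB : (∀ f : A, ∀ ψf : (AdicCompletion (I.map (algebraMap A (Localization.Away f))) (Localization.Away f)) →+* (AdicCompletion ((I.map (algebraMap A B)).map (algebraMap B (Localization.Away (algebraMap A B f)))) (Localization.Away (algebraMap A B f))), ψf.comp (algebraMap (Localization.Away f) (AdicCompletion (I.map (algebraMap A (Localization.Away f))) (Localization.Away f))) = (algebraMap (Localization.Away (algebraMap A B f)) (AdicCompletion ((I.map (algebraMap A B)).map (algebraMap B (Localization.Away (algebraMap A B f)))) (Localization.Away (algebraMap A B f)))).comp (Localization.awayMap (algebraMap A B) f) → ∀ qf : PrimeSpectrum (AdicCompletion ((I.map (algebraMap A B)).map (algebraMap B (Localization.Away (algebraMap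 A B f)))) (Localization.Away (algebraMap A B f))), (¬ (((I.map (algebraMap A B)).map (algebraMap B (Localization.Away (algebraMap A B f)))).map (algebraMap (Localization.Away (algebraMap A B f)) (AdicCompletion ((I.map (algebraMap A B)).map (algebraMap B (Localization.Away (algebraMap A B f)))) (Localization.Away (algebraMap A B f))))) ≤ qf.asIdeal ∧ ∀ y : PrimeSpectrum (AdicCompletion ((I.map (algebraMap A B)).map (algebraMap B (Localization.Away (algebraMap A B f)))) (Localization.Away (algebraMap A B f))), qf ≤ y → ¬ (((I.map (algebraMap A B)).map (algebraMap B (Localization.Away (algebraMap A B f)))).map (algebraMap (Localization.Away (algebraMap A B f)) (AdicCompletion ((I.map (algebraMap A B)).map (algebraMap B (Localization.Away (algebraMap A B f)))) (Localization.Away (algebraMap A B f))))) ≤ y.asIdeal → y = qf) → ((algebraMap (AdicCompletion ((I.map (algebraMap A B)).map (algebraMap B (Localization.Away (algebraMap A B f)))) (Localization.Away (algebraMap A B f))) (Localization.AtPrime qf.asIdeal)).comp ψf).Flat)) (hBC : (∀ g : B, ∀ ψg : (AdicCompletion ((I.map (algebraMap A B)).map (algebraMap B (Localization.Away g))) (Localization.Away g)) →+* (AdicCompletion (((I.map (algebraMap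 A B)).map (algebraMap B C)).map (algebraMap C (Localization.Away (algebraMap B C g)))) (Localization.Away (algebraMap B C g))), ψg.comp (algebraMap (Localization.Away g) (AdicCompletion ((I.map (algebraMap A B)).map (algebraMap B (Localization.Away g))) (Localization.Away g))) = (algebraMap (Localization.Away (algebraMap B C g)) (AdicCompletion (((I.map (algebraMap A B)).map (algebraMap B C)).map (algebraMap C (Localization.Away (algebraMap B C g)))) (Localization.Away (algebraMap B C g)))).comp (Localization.awayMap (algebraMap B C) g) → ∀ qg : PrimeSpectrum (AdicCompletion (((I.map (algebraMap A B)).map (algebraMap B C)).map (algebraMap C (Localization.Away (algebraMap B C g)))) (Localization.Away (algebraMap B C g))), (¬ ((((I.map (algebraMap A B)).map (algebraMap B C)).map (algebraMap C (Localization.Away (algebraMap B C g)))).map (algebraMap (Localization.Away (algebraMap B C g)) (AdicCompletion (((I.map (algebraMap A B)).map (algebraMap B C)).map (algebraMap C (Localization.Away (algebraMap B C g)))) (Localization.Away (algebraMap B C g))))) ≤ qg.asIdeal ∧ ∀ y : PrimeSpectrum (AdicCompletion (((I.map (algebraMap A B)).map (algebraMap B C)).map (algebraMap C (Localization.Away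 (algebraMap B C g)))) (Localization.Away (algebraMap B C g))), qg ≤ y → ¬ ((((I.map (algebraMap A B)).map (algebraMap B C)).map (algebraMap C (Localization.Away (algebraMap B C g)))).map (algebraMap (Localization.Away (algebraMap B C g)) (AdicCompletion (((I.map (algebraMap A B)).map (algebraMap B C)).map (algebraMap C (Localization.Away (algebraMap B C g)))) (Localization.Away (algebraMap B C g))))) ≤ y.asIdeal → y = qg) → ((algebraMap (AdicCompletion (((I.map (algebraMap A B)).map (algebraMap B C)).map (algebraMap C (Localization.Away (algebraMap B C g)))) (Localization.Away (algebraMap B C g))) (Localization.AtPrime qg.asIdeal)).comp ψg).Flat)) : (∀ e : A, ∀ ψe : (AdicCompletion (I.map (algebraMap A (Localization.Away e))) (Localization.Away e)) →+* (AdicCompletion ((I.map (algebraMap A C)).map (algebraMap C (Localization.Away (algebraMap A C e)))) (Localization.Away (algebraMap A C e))), ψe.comp (algebraMap (Localization.Away e) (AdicCompletion (I.map (algebraMap A (Localization.Away e))) (Localization.Away e))) = (algebraMap (Localization.Away (algebraMap A C e)) (AdicCompletion ((I.map (algebraMap A C)).map (algebraMap C (Localization.Away (algebraMap A C e)))) (Localization.Away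 (algebraMap A C e)))).comp (Localization.awayMap (algebraMap A C) e) → ∀ qe : PrimeSpectrum (AdicCompletion ((I.map (algebraMap A C)).map (algebraMap C (Localization.Away (algebraMap A C e)))) (Localization.Away (algebraMap A C e))), (¬ (((I.map (algebraMap A C)).map (algebraMap C (Localization.Away (algebraMap A C e)))).map (algebraMap (Localization.Away (algebraMap A C e)) (AdicCompletion ((I.map (algebraMap A C)).map (algebraMap C (Localization.Away (algebraMap A C e)))) (Localization.Away (algebraMap A C e))))) ≤ qe.asIdeal ∧ ∀ y : PrimeSpectrum (AdicCompletion ((I.map (algebraMap A C)).map (algebraMap C (Localization.Away (algebraMap A C e)))) (Localization.Away (algebraMap A C e))), qe ≤ y → ¬ (((I.map (algebraMap A C)).map (algebraMap C (Localization.Away (algebraMap A C e)))).map (algebraMap (Localization.Away (algebraMap A C e)) (AdicCompletion ((I.map (algebraMap A C)).map (algebraMap C (Localization.Away (algebraMap A C e)))) (Localization.Away (algebraMap A C e))))) ≤ y.asIdeal → y = qe) → ((algebraMap (AdicCompletion ((I.map (algebraMap A C)).map (algebraMap C (Localization.Away (algebraMap A C e)))) (Localization.Away (algebraMap A C e))) (Localization.AtPrime qe.asIdeal)).comp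 ψe).Flat) := by
  exact GrothLib.RigClosed.rigFlat_iff.1 (GrothLib.RigClosed.rigFlat_comp hftB hftC
    (GrothLib.RigClosed.rigFlat_iff.2 hAB) (GrothLib.RigClosed.rigFlat_iff.2 hBC))

end Groth.Agent.S8843
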