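import Groth.Statements.S8850
import Mathlib.AlgebraicGeometry.Morphisms.Immersion
import Mathlib.AlgebraicGeometry.Morphisms.Proper
import Mathlib.AlgebraicGeometry.Noetherian

set_option autoImplicit false
universe u
open CategoryTheory CategoryTheory.Limits AlgebraicGeometry TopologicalSpace
open SDiv

namespace Groth.Agent.S8850

/-- Let S be a scheme, X a Noetherian S-scheme, Y a proper S-scheme, U ⊆ X an open subscheme and f : U ⟶
Y a morphism compatible with the structure morphisms to S. Then there are a proper morphism p : X' ⟶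
X restricting to an isomorphism over U and an S-morphism f' : X' ⟶ Y whose restriction to p⁻¹(U) is
f composed with p. The published statement takes U dense, so that f is an S-rational map; this row
allows any open U, which its proof does not need. -/
theorem result {X Y S : Scheme.{u}} [IsNoetherian X] (a : X ⟶ S) (b : Y ⟶ S)
    [IsProper b] (U : X.Opens) (f : (U : Scheme.{u}) ⟶ Y) (hf : f ≫ b = U.ι ≫ a) :
    ∃ (X' : Scheme.{u}) (p : X' ⟶ X) (f' : X' ⟶ Y), IsProper p ∧ IsIso (p ∣_ U) ∧ f' ≫ b = p ≫ a ∧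
      (p ⁻¹ᵁ U).ι ≫ f' = (p ∣_ U) ≫ f := by
  let P := pullback a b
  let Γ' : (U : Scheme.{u}) ⟶ P := pullback.lift U.ι f hf.symm
  have hΓ1 : Γ' ≫ pullback.fst a b = U.ι := pullback.lift_fst _ _ _
  have hΓ2 : Γ' ≫ pullback.snd a b = f := pullback.lift_snd _ _ _
  haveI : IsImmersion Γ' := by
    haveI : IsImmersion (Γ' ≫ pullback.fst a b) := by rw [hΓ1]; infer_instance
    exact IsImmersion.of_comp Γ' (pullback.fst a b)
  haveI : TopologicalSpace.NoetherianSpace (U : Scheme.{u}) := U.ι.isEmbedding.isInducing.noetherianSpace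
  haveI : QuasiCompact Γ' := quasiCompact_of_noetherianSpace_source Γ'
  refine ⟨Γ'.image, Γ'.imageι ≫ pullback.fst a b, Γ'.imageι ≫ pullback.snd a b, inferInstance, ?_⟩
  set p := Γ'.imageι ≫ pullback.fst a b with hp
  set W := pullback.fst a b ⁻¹ᵁ U
  have hrangeW : Set.range Γ' ⊆ Set.range W.ι := by
    rintro _ ⟨u, rfl⟩
    rw [Scheme.Opens.range_ι]
    show pullback.fst a b (Γ' u) ∈ U
    rw [← Scheme.Hom.comp_apply, hΓ1]
    exact u.2
  let s := IsOpenImmersion.lift W.ι Γ' hrangeW
  haveI : IsClosedImmersion s := by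
    have hs : s ≫ (pullback.fst a b ∣_ U) = 𝟙 _ := by
      rw [← cancel_mono U.ι, Category.assoc, morphismRestrict_ι, IsOpenImmersion.lift_fac_assoc, hΓ1,
        Category.id_comp]
    haveI : IsClosedImmersion (s ≫ (pullback.fst a b ∣_ U)) := by rw [hs]; infer_instance
    exact IsClosedImmersion.of_comp s (pullback.fst a b ∣_ U)
  have hopen : p ⁻¹ᵁ U = Γ'.toImage.opensRange := by
    refine le_antisymm (fun z hz => ?_) ?_
    · have h1 : Γ'.imageι z ∈ closure (Set.range Γ') := by
        refine closure_mono ?_ (image_closure_subset_closure_image Γ'.imageι.continuous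
          ⟨z, (Γ'.toImage.denseRange.closure_eq).symm ▸ Set.mem_univ z, rfl⟩)
        rintro _ ⟨_, ⟨u, rfl⟩, rfl⟩
        exact ⟨u, by rw [← Scheme.Hom.comp_apply, Γ'.toImage_imageι]⟩
      have h2 : Γ'.imageι z ∈ W := hz
      have h3 : (⟨Γ'.imageι z, h2⟩ : W) ∈ closure (Set.range s) := by
        have hind : Topology.IsOpenEmbedding W.ι := W.ι.isOpenEmbedding
        have : closure (Set.range s) = W.ι ⁻¹' closure (Set.range Γ') := by
          rw [hind.isOpenMap.preimage_closure_eq_closure_preimage W.ι.continuous]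
          congr 1
          ext w
          constructor
          · rintro ⟨u, rfl⟩
            exact ⟨u, by rw [← Scheme.Hom.comp_apply, IsOpenImmersion.lift_fac]⟩
          · rintro ⟨u, hu⟩
            exact ⟨u, hind.injective (by rw [← hu, ← Scheme.Hom.comp_apply, IsOpenImmersion.lift_fac])⟩
        rw [this]
        exact h1
      rw [s.isClosedEmbedding.isClosed_range.closure_eq] at h3
      obtain ⟨u, hu⟩ := h3
      refine ⟨u, Γ'.imageι.isEmbedding.injective ?_⟩
      rw [← Scheme.Hom.comp_apply, Γ'.toImage_imageι]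
      refine (?_ : Γ' u = W.ι (s u)).trans (congrArg W.ι hu)
      rw [← Scheme.Hom.comp_apply, IsOpenImmersion.lift_fac]
    · rintro _ ⟨u, rfl⟩
      show p (Γ'.toImage u) ∈ U
      rw [hp, ← Scheme.Hom.comp_apply, Scheme.Hom.toImage_imageι_assoc, hΓ1]
      exact u.2
  let e : (U : Scheme.{u}) ≅ (p ⁻¹ᵁ U : Scheme.{u}) :=
    Γ'.toImage.isoOpensRange ≪≫ Γ'.image.isoOfEq hopen.symm
  have he : e.hom ≫ (p ⁻¹ᵁ U).ι = Γ'.toImage := by simp [e]
  have he1 : e.hom ≫ (p ∣_ U) = 𝟙 _ := by
    rw [← cancel_mono U.ι, Category.assoc, morphismRestrict_ι, ← Category.assoc, he, hp,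
      Scheme.Hom.toImage_imageι_assoc, hΓ1, Category.id_comp]
  have hpU : p ∣_ U = e.inv := by rw [← cancel_epi e.hom, he1, e.hom_inv_id]
  refine ⟨by rw [hpU]; infer_instance, ?_, ?_⟩
  · rw [hp, Category.assoc, Category.assoc, pullback.condition]
  · rw [hpU, ← cancel_epi e.hom, ← Category.assoc e.hom, he, Scheme.Hom.toImage_imageι_assoc, hΓ2,
      e.hom_inv_id_assoc]

end Groth.Agent.S8850
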