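import Groth.Statements.S8854
import Mathlib.RingTheory.Ideal.AssociatedPrime.Basic
import Mathlib.RingTheory.Ideal.Height
import Mathlib.RingTheory.UniqueFactorizationDomain.Ideal

set_option autoImplicit false
universe u
open SDiv

namespace Groth.Agent.S8854

/-- Let R be a Noetherian unique factorisation domain and I ⊆ R an ideal such that every associated
prime of R/I is minimal over I (R/I has no embedded primes) and every prime minimal over I has
height 1. Then I is principal: it is generated by one element. -/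
theorem result (R : Type u) [CommRing R] [IsDomain R] [IsNoetherianRing R]
    [UniqueFactorizationMonoid R] (I : Ideal R)
    (h1 : ∀ p : Ideal R, p ∈ associatedPrimes R (R ⧸ I) → p ∈ I.minimalPrimes)
    (h2 : ∀ p : Ideal R, p ∈ I.minimalPrimes → p.height = 1) :
    ∃ f : R, I = Ideal.span {f} := by
  by_cases hbot : I = ⊥
  · exact ⟨0, by simp [hbot]⟩
  obtain ⟨x, hxI, hx0⟩ := Submodule.exists_mem_ne_zero_of_ne_bot hbot
  -- among the principal ideals containing `I` choose a smallest one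
  obtain ⟨y, ⟨g, hxy, hg⟩, hmin⟩ := (wellFounded_dvdNotUnit (α := R)).has_min
    {y | ∃ g, x = g * y ∧ I ≤ Ideal.span {g}} ⟨x, 1, (one_mul x).symm, by simp⟩
  have hg0 : g ≠ 0 := fun h => hx0 (by rw [hxy, h, zero_mul])
  have hy0 : y ≠ 0 := fun h => hx0 (by rw [hxy, h, mul_zero])
  refine ⟨g, le_antisymm hg ?_⟩
  rw [Ideal.span_singleton_le_iff_mem]
  by_contra hgI
  let φ : R →ₗ[R] R ⧸ I := LinearMap.toSpanSingleton R (R ⧸ I) (Ideal.Quotient.mk I g)
  have hker : ∀ {a}, a ∈ LinearMap.ker φ ↔ a * g ∈ I := fun {a} => by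
    simp [φ, Algebra.smul_def, ← map_mul, Ideal.Quotient.eq_zero_iff_mem]
  have hne : LinearMap.ker φ ≠ ⊤ := fun h => hgI (by
    simpa using hker.1 (show (1 : R) ∈ LinearMap.ker φ by rw [h]; trivial))
  haveI : Nontrivial (R ⧸ LinearMap.ker φ) := Submodule.Quotient.nontrivial_iff.2 hne
  obtain ⟨p, hp⟩ := associatedPrimes.nonempty R (R ⧸ LinearMap.ker φ)
  have hJp : LinearMap.ker φ ≤ p := by
    have := IsAssociatedPrime.annihilator_le hp
    rwa [Submodule.annihilator_top, Ideal.annihilator_quotient] at this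
  have hpI : p ∈ associatedPrimes R (R ⧸ I) := by
    refine associatedPrimes.subset_of_injective (f := (LinearMap.ker φ).liftQ φ le_rfl) ?_ hp
    rw [← LinearMap.ker_eq_bot, Submodule.ker_liftQ_eq_bot _ _ _ le_rfl]
  have hmin' := h1 p hpI
  haveI : p.IsPrime := hmin'.1.1
  have hht := h2 p hmin'
  have hpbot : p ≠ ⊥ := by rintro rfl; simp at hht
  obtain ⟨π, hπp, hπ⟩ := Ideal.IsPrime.exists_mem_prime_of_ne_bot ‹_› hpbot
  have hpπ : p = Ideal.span {π} := by
    haveI : (Ideal.span {π}).IsPrime := (Ideal.span_singleton_prime hπ.ne_zero).2 hπ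
    have hle : Ideal.span {π} ≤ p := (Ideal.span_singleton_le_iff_mem p).2 hπp
    by_contra hne'
    have h3 := Ideal.height_add_one_le_of_lt_of_isPrime (lt_of_le_of_ne hle (Ne.symm hne'))
    have h4 : (⊥ : Ideal R) < Ideal.span {π} :=
      bot_lt_iff_ne_bot.2 (by simp [hπ.ne_zero])
    have h5 := Ideal.height_add_one_le_of_lt_of_isPrime h4
    rw [hht] at h3
    simp at h5
    have h7 : (1 : ℕ∞) + 1 ≤ 1 := le_trans (by gcongr) h3
    norm_num at h7
  have hdiv : ∀ z ∈ I, π * g ∣ z := by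
    intro z hz
    obtain ⟨a, rfl⟩ := Ideal.mem_span_singleton'.1 (hg hz)
    have : a ∈ p := hJp (hker.2 hz)
    rw [hpπ, Ideal.mem_span_singleton] at this
    exact mul_dvd_mul_right this g
  obtain ⟨y', hy'⟩ := hdiv x hxI
  have hyy : y = π * y' := mul_left_cancel₀ hg0 (by rw [← hxy, hy']; ring)
  refine hmin y' ⟨π * g, hy', fun z hz => Ideal.mem_span_singleton.2 (hdiv z hz)⟩
    ⟨fun h => hy0 (by rw [hyy, h, mul_zero]), π, hπ.not_isUnit, by rw [hyy, mul_comm]⟩

end Groth.Agent.S8854
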