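import Groth.Statements.S8855
import Groth.Agent.Lib.RegSeqLoc.Immersion

set_option autoImplicit false
universe u
open CategoryTheory CategoryTheory.Limits AlgebraicGeometry TopologicalSpace
open SDiv

namespace Groth.Agent.S8855

/-- Let i : Z ⟶ X be an immersion of schemes with Z and X regular (locally Noetherian, all local rings
regular local rings). Then i is a regular immersion. -/
theorem result {Z X : Scheme.{u}} (i : Z ⟶ X) [IsImmersion i]
    [IsLocallyNoetherian X] [IsLocallyNoetherian Z]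
    (hX : ∀ x : ↥X, IsRegularLocalRing ↑(X.presheaf.stalk x)) (hZ : ∀ z : ↥Z, IsRegularLocalRing ↑(Z.presheaf.stalk z)) :
    RegImm.IsRegularImmersion RegImm.Kind.regular i := by
  refine ⟨‹_›, fun z => ?_⟩
  obtain ⟨U, hzU, hU⟩ := GrothLib.RegSeqLoc.exists_affine_isClosedImmersion i z
  refine GrothLib.RegSeqLoc.isRegularImmersionAt_of_restrict i z U.1 hzU
    ((GrothLib.RegSeqLoc.exists_affine_iff (i ∣_ U.1) ⟨z, hzU⟩).2 ?_)
  have := hX (U.1.ι ((i ∣_ U.1) ⟨z, hzU⟩))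
  have : IsRegularLocalRing (U.1.toScheme.presheaf.stalk ((i ∣_ U.1) ⟨z, hzU⟩)) :=
    IsRegularLocalRing.of_ringEquiv (U.1.stalkIso ((i ∣_ U.1) ⟨z, hzU⟩)).commRingCatIsoToRingEquiv.symm
  have := hZ z
  have : IsRegularLocalRing ((i ⁻¹ᵁ U.1).toScheme.presheaf.stalk ⟨z, hzU⟩) :=
    IsRegularLocalRing.of_ringEquiv ((i ⁻¹ᵁ U.1).stalkIso ⟨z, hzU⟩).commRingCatIsoToRingEquiv.symm
  exact GrothLib.RegSeqLoc.exists_isRegular_ker _ ((i ∣_ U.1).stalkMap_surjective ⟨z, hzU⟩)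

end Groth.Agent.S8855
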