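import Groth.Statements.S8856
import Groth.Agent.Lib.KoszulCover12.Chart
import Mathlib.AlgebraicGeometry.Morphisms.Smooth
import Mathlib.AlgebraicGeometry.Morphisms.UnderlyingMap

set_option autoImplicit false
set_option linter.all false
set_option backward.isDefEq.respectTransparency false
universe u
open CategoryTheory CategoryTheory.Limits AlgebraicGeometry TopologicalSpace
open SDiv

namespace Groth.Agent.S8856

/-- For a Koszul-regular closed immersion i : Z ⟶ X, some surjective smooth morphism g : X' ⟶ X makes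
the base change Z ×_X X' ⟶ X' of i along g a regular immersion. -/
theorem result {Z X : Scheme.{u}} (i : Z ⟶ X) [IsClosedImmersion i]
    (hi : RegImm.IsRegularImmersion RegImm.Kind.koszul i) :
    ∃ (X' : Scheme.{u}) (g : X' ⟶ X), Smooth g ∧ Surjective g ∧
      RegImm.IsRegularImmersion RegImm.Kind.regular (pullback.snd i g) := by
  choose U hzU _ rs hrs hker using hi.2
  have halg : ∀ z : Z, ∃ (m : ℕ) (l : List (MvPolynomial (Fin m) Γ(X, (U z).1))),
      RingTheory.Sequence.IsWeaklyRegular (MvPolynomial (Fin m) Γ(X, (U z).1)) l ∧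
        Ideal.ofList l = (i.ker.ideal (U z)).map MvPolynomial.C := by
    intro z
    obtain ⟨m, l, hl, hlI⟩ := GrothLib.KoszulCover12.exists_weaklyRegular _ Γ(X, (U z).1) (rs z).get
      (by rw [List.ofFn_get]; exact hrs z)
    refine ⟨m, l, hl, ?_⟩
    rw [hlI, Scheme.Hom.ker_apply, hker z, Set.range_list_get]
  choose m l hl hlI using halg
  let W : X.Opens := ⟨(Set.range i)ᶜ, i.isClosedEmbedding.isClosed_range.isOpen_compl⟩
  let F : Option Z → Scheme.{u} := fun j => j.elim W.toScheme
    fun z => Spec (CommRingCat.of (MvPolynomial (Fin (m z)) Γ(X, (U z).1)))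
  let G : ∀ j, F j ⟶ X := fun j => Option.rec (motive := fun j => F j ⟶ X) W.ι
    (fun z => Spec.map (CommRingCat.ofHom MvPolynomial.C) ≫ (U z).2.fromSpec) j
  let g : (∐ F) ⟶ X := Sigma.desc G
  have hsm : ∀ j, Smooth (G j) := by
    rintro (_ | z)
    · exact inferInstanceAs (Smooth W.ι)
    · exact GrothLib.KoszulCover12.smooth_chart (U z) (m z)
  refine ⟨∐ F, g, IsZariskiLocalAtSource.sigmaDesc hsm, ⟨fun x => ?_⟩, inferInstance, fun z' => ?_⟩
  · by_cases hx : x ∈ Set.range i
    · obtain ⟨z, rfl⟩ := hx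
      obtain ⟨y, hy⟩ := GrothLib.KoszulCover12.exists_chart_eq (U z) (m z) (hzU z)
      refine ⟨Sigma.ι F (some z) y, ?_⟩
      rw [← Scheme.Hom.comp_apply, Sigma.ι_desc]
      exact hy
    · refine ⟨Sigma.ι F none ⟨x, hx⟩, ?_⟩
      rw [← Scheme.Hom.comp_apply, Sigma.ι_desc]
      rfl
  · obtain ⟨⟨j, y⟩, hy⟩ := (sigmaMk F).surjective (pullback.snd i g z')
    rw [sigmaMk_mk] at hy
    cases j with
    | none =>
      exfalso
      have h1 : g (pullback.snd i g z') = i (pullback.fst i g z') := by
        rw [← Scheme.Hom.comp_apply, ← Scheme.Hom.comp_apply, pullback.condition]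
      rw [← hy, ← Scheme.Hom.comp_apply, Sigma.ι_desc] at h1
      exact y.2 ⟨_, h1.symm⟩
    | some z =>
      exact GrothLib.KoszulCover12.isRegularImmersionAt_snd i g (U z)
        (CommRingCat.ofHom MvPolynomial.C) (Sigma.ι F (some z)) (Sigma.ι_desc _ _) (l z) (hl z)
        (hlI z) z' ⟨y, hy⟩

end Groth.Agent.S8856
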