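import Groth.Statements.S8857
import Groth.Agent.Lib.Nagata6.ExtendIdeal
-- import your own Groth.Agent.* helpers here

set_option autoImplicit false
universe u
open CategoryTheory CategoryTheory.Limits AlgebraicGeometry TopologicalSpace
open SDiv

namespace Groth.Agent.S8857

/-- Let X be a quasi-compact and quasi-separated scheme, U, V ⊆ X quasi-compact open subschemes and 𝓘 a
quasi-coherent ideal sheaf on V which is of finite type with support disjoint from U ∩ V (a blowing
up of V in 𝓘 is a (U ∩ V)-admissible blow-up). Then there is a quasi-coherent ideal sheaf 𝓙 on X, of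
finite type with support disjoint from U, whose restriction to V is 𝓘; and every blowing up of X in
𝓙 restricts over V to a blowing up of V in 𝓘 (the U-admissible blow-up of X extends the given one of
V). -/
theorem result (X : Scheme.{u}) [CompactSpace ↥X] [QuasiSeparatedSpace ↥X]
    (U V : X.Opens) (hU : IsCompact (U : Set ↥X)) (hV : IsCompact (V : Set ↥X))
    (𝓘 : (V : Scheme.{u}).IdealSheafData) (h𝓘 : BlowUp.IsAdmissibleFor (V.ι ⁻¹ᵁ U) 𝓘) :
    ∃ 𝓙 : X.IdealSheafData, BlowUp.IsAdmissibleFor U 𝓙 ∧ 𝓙.comap V.ι = 𝓘 ∧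
      ∀ (X' : Scheme.{u}) (c : X' ⟶ X), BlowUp.IsBlowUp c 𝓙 → BlowUp.IsBlowUp (c ∣_ V) 𝓘 := by
  obtain ⟨J, hJ, hJc⟩ := GrothLib.Nagata6.exists_extension U V hU hV 𝓘 h𝓘
  exact ⟨J, hJ, hJc, fun X' c hc => hJc ▸ GrothLib.Nagata6.isBlowUp_restrict hc V⟩

end Groth.Agent.S8857
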