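import Groth.Statements.S8858
import Groth.Agent.Lib.BlowUp.Exists
import Groth.Agent.Lib.Nagata6.Modification
import Groth.Agent.S8859

set_option autoImplicit false
set_option linter.all false
universe u
open CategoryTheory CategoryTheory.Limits AlgebraicGeometry TopologicalSpace
open SDiv

namespace Groth.Agent.S8858

/-- Let X be a quasi-compact and quasi-separated scheme, U ⊆ X a quasi-compact open subscheme, and b_i :
X_i ⟶ X, i < n, blowing ups of X in quasi-coherent ideal sheaves 𝓘_i of finite type with support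
disjoint from U (U-admissible blow-ups). Then there is a U-admissible blow-up c : X' ⟶ X such that
(a) c factors as X' ⟶ X_i ⟶ X for every i, and (b) each factor X' ⟶ X_i is a blowing up of X_i in a
quasi-coherent ideal sheaf of finite type whose support is disjoint from the inverse image of U. -/
theorem result (X : Scheme.{u}) [CompactSpace ↥X] [QuasiSeparatedSpace ↥X]
    (U : X.Opens) (hU : IsCompact (U : Set ↥X)) {n : ℕ} (Xi : Fin n → Scheme.{u}) (b : ∀ i, Xi i ⟶ X)
    (𝓘 : Fin n → X.IdealSheafData) (hb : ∀ i, BlowUp.IsBlowUp (b i) (𝓘 i)) (ha : ∀ i, BlowUp.IsAdmissibleFor U (𝓘 i)) :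
    ∃ (𝓙 : X.IdealSheafData) (X' : Scheme.{u}) (c : X' ⟶ X), BlowUp.IsBlowUp c 𝓙 ∧ BlowUp.IsAdmissibleFor U 𝓙 ∧
      ∀ i, ∃ (g : X' ⟶ Xi i) (𝓚 : (Xi i).IdealSheafData), g ≫ b i = c ∧ BlowUp.IsBlowUp g 𝓚 ∧
        BlowUp.IsAdmissibleFor ((b i) ⁻¹ᵁ U) 𝓚 := by
  have hmul : ∀ A B : X.IdealSheafData, BlowUp.IsAdmissibleFor U A → BlowUp.IsAdmissibleFor U B →
      BlowUp.IsAdmissibleFor U (A * B) := fun A B hA hB =>
    ⟨fun W => by
      rw [Scheme.IdealSheafData.ideal_mul]
      exact Submodule.FG.mul (hA.1 W) (hB.1 W), by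
      rw [Scheme.IdealSheafData.support_mul, TopologicalSpace.Closeds.coe_sup]
      exact Disjoint.union_left hA.2 hB.2⟩
  have htop : BlowUp.IsAdmissibleFor U (⊤ : X.IdealSheafData) :=
    ⟨fun W => by
      rw [Scheme.IdealSheafData.ideal_top]
      exact ⟨{1}, by simp⟩, by simp⟩
  have hcomm : ∀ A B C : X.IdealSheafData, A * (B * C) = B * (A * C) := fun A B C => by
    refine Scheme.IdealSheafData.ext ?_
    simp only [Scheme.IdealSheafData.ideal_mul]
    exact mul_left_comm _ _ _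
  have htop_mul : ∀ A : X.IdealSheafData, A * ⊤ = A := fun A => by
    refine Scheme.IdealSheafData.ext (funext fun W => ?_)
    simp [Ideal.mul_top]
  have key : ∀ (m : ℕ) (I : Fin m → X.IdealSheafData), (∀ i, BlowUp.IsAdmissibleFor U (I i)) →
      ∃ J, BlowUp.IsAdmissibleFor U J ∧ ∀ i, ∃ R, BlowUp.IsAdmissibleFor U R ∧ J = I i * R := by
    intro m
    induction m with
    | zero => exact fun I _ => ⟨⊤, htop, fun i => i.elim0⟩
    | succ m ih =>
      intro I hI
      obtain ⟨J, hJ, hJi⟩ := ih (fun i => I i.succ) fun i => hI _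
      refine ⟨I 0 * J, hmul _ _ (hI 0) hJ, fun i => ?_⟩
      induction i using Fin.cases with
      | zero => exact ⟨J, hJ, rfl⟩
      | succ i =>
        obtain ⟨R, hR, hRe⟩ := hJi i
        exact ⟨I 0 * R, hmul _ _ (hI 0) hR, by rw [hRe, hcomm]⟩
  obtain ⟨J, hJ, hJi⟩ := key n 𝓘 ha
  obtain ⟨X', c, hc⟩ := Groth.Agent.S8859.result X J
  refine ⟨J, X', c, hc, hJ, fun i => ?_⟩
  obtain ⟨R, hR, hRe⟩ := hJi i
  obtain ⟨X'', b', hb'⟩ := Groth.Agent.S8859.result (Xi i) (R.comap (b i))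
  have hcomp := GrothLib.BlowUp.isBlowUp_comp_mul (hb i) hb'
  rw [← hRe] at hcomp
  obtain ⟨e, he⟩ := GrothLib.BlowUp.exists_iso_of_isBlowUp hc hcomp
  refine ⟨e.hom ≫ b', R.comap (b i), by rw [Category.assoc, he], ⟨?_, fun Y g hg => ?_⟩,
    GrothLib.Nagata6.isAdmissibleFor_comap hR (b i) le_rfl⟩
  · rw [Scheme.IdealSheafData.comap_comp]
    exact GrothLib.BlowUp.isEffCartierIdeal_comap_of_flat e.hom hb'.1
  · obtain ⟨h, hh, huniq⟩ := hb'.2 Y g hg
    refine ⟨h ≫ e.inv, by simp [hh], fun h' hh' => ?_⟩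
    rw [← huniq (h' ≫ e.hom) ((Category.assoc _ _ _).trans hh'), Category.assoc, Iso.hom_inv_id,
      Category.comp_id]

end Groth.Agent.S8858
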