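import Groth.Statements.S8860
import Groth.Agent.Lib.NormAmple.Integral
import Groth.Agent.Lib.NormAmple.Pushdown
import Groth.Agent.Lib.FEt21.Push
import Groth.Agent.Lib.RedSub.Basic

set_option autoImplicit false
set_option linter.all false
universe u
open CategoryTheory CategoryTheory.Limits AlgebraicGeometry TopologicalSpace
open SDiv

namespace Groth.Agent.S8860

/-- Let π : X ⟶ Y be a finite surjective morphism of schemes with X quasi-affine. If either π is finite
locally free (finite, flat and locally of finite presentation), or Y is integral with all local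
rings integrally closed domains (normal), then Y is quasi-affine. -/
theorem result {X Y : Scheme.{u}} (π : X ⟶ Y) [IsFinite π] [Surjective π]
    (hX : X.IsQuasiAffine) (h : Mor2.IsFinLocFree π ∨ (IsIntegral Y ∧ Pi1.IsNormalScheme Y)) :
    Y.IsQuasiAffine := by
  have hA := GrothLib.Ample.isQuasiAffine_iff.1 hX
  haveI : CompactSpace X := GrothLib.Ample.compactSpace_of_isAmple hA
  rcases h with ⟨-, hflat, hlfp⟩ | ⟨hint, hnorm⟩
  · haveI : CompactSpace Y := ⟨by rw [← π.surjective.range_eq]; exact isCompact_range π.continuous⟩
    haveI := hflat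
    haveI := hlfp
    refine GrothLib.Ample.isQuasiAffine_iff.2 (GrothLib.NormAmple.isAmple_of_pullback (g := π)
      (GrothLib.NormAmple.exists_ringFrame π (GrothLib.FEt21.isFinLocFree_pushforward_structure π))
      (L := Coh.structureModule Y) (GrothLib.Ample.Cocycle.isInvertible_of_iso _
        (GrothLib.Ample.Cocycle.nonempty_structureModule_iso_triv (X := Y)).some) ?_)
    exact (GrothLib.Ample.isAmple_iff_of_iso (GrothLib.Ample.nonempty_pullback_structureModule π).some).2 hA
  · haveI := hint
    obtain ⟨ξ, hξ⟩ := π.surjective (genericPoint Y)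
    let T : TopologicalSpace.Closeds X := ⟨closure {ξ}, isClosed_closure⟩
    have hT : IsIrreducible (T : Set X) := isIrreducible_singleton.closure
    let I := Scheme.IdealSheafData.vanishingIdeal T
    let j := I.subschemeι
    have hrange : Set.range j = (T : Set X) := by
      rw [Scheme.IdealSheafData.range_subschemeι, Scheme.IdealSheafData.coe_support_vanishingIdeal]
    haveI : IrreducibleSpace (Set.range j) := Subtype.irreducibleSpace (hrange ▸ hT)
    haveI : IrreducibleSpace I.subscheme :=
      j.isClosedEmbedding.isEmbedding.toHomeomorph.irreducibleSpace_iff.2 inferInstance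
    haveI := GrothLib.RedSub.isReduced_subscheme_vanishingIdeal T
    haveI : IsIntegral I.subscheme := isIntegral_of_irreducibleSpace_of_isReduced _
    haveI : Surjective (j ≫ π) := ⟨fun y => by
      have hy : y ∈ π '' (T : Set X) := by
        have hc : IsClosed (π '' (T : Set X)) := π.isClosedMap _ T.2
        have : closure {genericPoint Y} ⊆ π '' (T : Set X) :=
          closure_minimal (Set.singleton_subset_iff.2 ⟨ξ, subset_closure rfl, hξ⟩) hc
        exact this (((genericPoint_spec Y).specializes (Set.mem_univ y)).mem_closed isClosed_closure (subset_closure rfl))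
      obtain ⟨x, hx, rfl⟩ := hy
      obtain ⟨z, rfl⟩ := hrange.ge hx
      exact ⟨z, rfl⟩⟩
    obtain ⟨d, ⟨ν⟩⟩ := GrothLib.NormAmple.hasNorm_of_normal (j ≫ π) hnorm
    refine GrothLib.NormAmple.isQuasiAffine_of_norm ν (GrothLib.Ample.isQuasiAffine_iff.2 ?_)
    exact (GrothLib.Ample.isAmple_iff_of_iso (GrothLib.Ample.nonempty_pullback_structureModule j).some).1
      (GrothLib.Ample.isAmple_pullback_of_isAffineHom j hA)

end Groth.Agent.S8860
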