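import Groth.Statements.S8861
import Groth.Agent.Lib.BlowUp.WeakAss

set_option autoImplicit false
universe u
open CategoryTheory CategoryTheory.Limits AlgebraicGeometry TopologicalSpace
open SDiv

namespace Groth.Agent.S8861

/-- Let f : X ⟶ Y be a morphism of schemes and 𝓘 the ideal sheaf of an effective Cartier divisor D ⊆ Y.
If f x ∉ D for every weakly associated point x of X (weakly associated point of the structure
sheaf), then the inverse image ideal sheaf of 𝓘 on X is the ideal of an effective Cartier divisor,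
i.e. the pullback of D by f is defined. -/
theorem result {X Y : Scheme.{u}} (f : X ⟶ Y) (𝓘 : Y.IdealSheafData)
    (hD : BlowUp.IsEffCartierIdeal 𝓘)
    (h : ∀ x : ↥X, Curv2.IsWeakAssPoint (Coh.structureModule X) x → f x ∉ 𝓘.support) :
    BlowUp.IsEffCartierIdeal (𝓘.comap f) := by
  intro x
  obtain ⟨U, hxU, t, ht, eD⟩ := hD (f x)
  obtain ⟨V, hxV, hV⟩ := GrothLib.BlowUp.exists_affine_mem_le (W := f ⁻¹ᵁ U.1) (x := x) hxU
  refine ⟨V, hxV, f.appLE U.1 V.1 hV t, ?_, by
    rw [GrothLib.BlowUp.ideal_comap_eq_map 𝓘 f U V hV, eD, Ideal.map_span, Set.image_singleton]⟩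
  by_contra hg
  obtain ⟨ξ, hξV, hweak, hξ⟩ := GrothLib.BlowUp.exists_isWeakAssPoint_of_not_nonZeroDivisor V hg
  refine h ξ hweak ((Scheme.IdealSheafData.mem_support_iff_of_mem (hV hξV)).mpr ?_)
  rw [Scheme.mem_zeroLocus_iff]
  intro s hs
  obtain ⟨c, rfl⟩ := Ideal.mem_span_singleton.mp (eD.le hs)
  rw [Scheme.basicOpen_mul]
  intro hmem
  refine hξ ?_
  rw [Scheme.Hom.appLE, CategoryTheory.comp_apply, Scheme.basicOpen_res, ← Scheme.preimage_basicOpen]
  exact ⟨hξV, hmem.1⟩

end Groth.Agent.S8861
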