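import Groth.Statements.S8862
import Groth.Agent.Lib.BlowUp.Universal

set_option autoImplicit false
universe u
open CategoryTheory CategoryTheory.Limits AlgebraicGeometry TopologicalSpace
open SDiv

namespace Groth.Agent.S8862

/-- Let f : X ⟶ Y be a morphism of schemes with X reduced and 𝓘 the ideal sheaf of an effective Cartier
divisor D ⊆ Y. If f ξ ∉ D for every generic point ξ of an irreducible component of X (every point of
X with no proper generization), then the inverse image ideal sheaf of 𝓘 on X is the ideal of an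
effective Cartier divisor. -/
theorem result {X Y : Scheme.{u}} [IsReduced X] (f : X ⟶ Y) (𝓘 : Y.IdealSheafData)
    (hD : BlowUp.IsEffCartierIdeal 𝓘)
    (h : ∀ ξ : ↥X, (∀ y : ↥X, y ⤳ ξ → y = ξ) → f ξ ∉ 𝓘.support) :
    BlowUp.IsEffCartierIdeal (𝓘.comap f) := by
  intro x
  obtain ⟨U, hxU, t, ht, eD⟩ := hD (f x)
  obtain ⟨V, hxV, hV⟩ := GrothLib.BlowUp.exists_affine_mem_le (W := f ⁻¹ᵁ U.1) (x := x) hxU
  refine ⟨V, hxV, f.appLE U.1 V.1 hV t, ?_, by
    rw [GrothLib.BlowUp.ideal_comap_eq_map 𝓘 f U V hV, eD, Ideal.map_span, Set.image_singleton]⟩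
  rw [mem_nonZeroDivisors_iff_right]
  intro z hz
  suffices z ∈ sInf (minimalPrimes Γ(X, V.1)) by
    have hred : _root_.IsReduced Γ(X, V.1) := IsReduced.component_reduced V.1
    rw [minimalPrimes, Ideal.sInf_minimalPrimes, Ideal.mem_radical_iff] at this
    obtain ⟨n, hn⟩ := this
    exact IsNilpotent.eq_zero ⟨n, Ideal.mem_bot.mp hn⟩
  rw [Submodule.mem_sInf]
  intro p hp
  have hprime : Ideal.IsPrime p := hp.1.1
  refine (hprime.mem_or_mem (show z * f.appLE U.1 V.1 hV t ∈ p by rw [hz]; exact zero_mem _)).resolve_right ?_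
  intro hmem
  let q : PrimeSpectrum Γ(X, V.1) := ⟨p, hprime⟩
  set ξ : X := V.2.fromSpec q with hξdef
  have hξV : ξ ∈ V.1 := by
    rw [← SetLike.mem_coe, ← V.2.range_fromSpec]; exact ⟨q, rfl⟩
  have hmax : ∀ y : X, y ⤳ ξ → y = ξ := by
    intro y hy
    have hyV : y ∈ Set.range V.2.fromSpec := by
      rw [V.2.range_fromSpec]; exact hy.mem_open V.1.2 hξV
    obtain ⟨r, rfl⟩ := hyV
    have hrq : r.asIdeal ≤ p := (PrimeSpectrum.le_iff_specializes r q).mpr
      (V.2.fromSpec.isOpenEmbedding.isInducing.specializes_iff.mp hy)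
    have : r = q := PrimeSpectrum.ext (le_antisymm hrq (hp.2 ⟨r.isPrime, bot_le⟩ hrq))
    rw [this]
  have htD : Disjoint (Y.basicOpen t : Set Y) (𝓘.support : Set Y) :=
    GrothLib.BlowUp.disjoint_basicOpen_support (eD.ge (Ideal.mem_span_singleton_self t))
  have hft : f ξ ∈ U.1 := hV hξV
  have hnot := h ξ hmax
  have hbas : f ξ ∈ Y.basicOpen t := by
    by_contra hb'
    refine hnot ((Scheme.IdealSheafData.mem_support_iff_of_mem hft).mpr ?_)
    rw [Scheme.mem_zeroLocus_iff]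
    intro s hs
    obtain ⟨c, rfl⟩ := Ideal.mem_span_singleton.mp (eD.le hs)
    rw [Scheme.basicOpen_mul]
    exact fun h' => hb' h'.1
  have h2 : ξ ∈ X.basicOpen (f.appLE U.1 V.1 hV t) := by
    rw [Scheme.Hom.appLE, CategoryTheory.comp_apply, Scheme.basicOpen_res, ← Scheme.preimage_basicOpen]
    exact ⟨hξV, hbas⟩
  have h3 : q ∈ V.2.fromSpec ⁻¹ᵁ X.basicOpen (f.appLE U.1 V.1 hV t) := h2
  rw [V.2.fromSpec_preimage_basicOpen] at h3
  exact h3 hmem

end Groth.Agent.S8862
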