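import Groth.Statements.S8865
import Groth.Agent.Lib.Mero.Sections

set_option autoImplicit false
universe u
open CategoryTheory CategoryTheory.Limits AlgebraicGeometry TopologicalSpace
open SDiv

namespace Groth.Agent.S8865

/-- Let X be a quasi-compact scheme, h a global section of O_X and f a global section of the sheaf of
meromorphic functions K_X whose restriction to the open X_h where h is invertible vanishes. Then h^n
f = 0 in K_X(X) for some natural number n. -/
theorem result (X : Scheme.{u}) [CompactSpace ↥X] (h : Γ(X, ⊤))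
    (f : Γ(Mero.kmod X, ⊤)) (hf : (Mero.kmod X).presheaf.map (homOfLE (le_top : X.basicOpen h ≤ ⊤)).op f = 0) :
    ∃ n : ℕ, Mero.toK X ⊤ h ^ n * f = 0 := by
  classical
  have hloc : ∀ x : X, ∃ (W : X.Opens) (_ : x ∈ W) (n : ℕ), ∀ (y : X) (hy : y ∈ W),
      (Mero.toK X ⊤ h ^ n * f).1 ⟨y, Opens.mem_top y⟩ = 0 := by
    intro x
    obtain ⟨V, hxV, i, a, b, hab⟩ := f.2 ⟨x, Opens.mem_top x⟩
    obtain ⟨D, hxD, hD⟩ := GrothLib.BlowUp.exists_affine_mem_le (show x ∈ V from hxV)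
    let hD' : Γ(X, D.1) := X.presheaf.map (homOfLE (le_top : D.1 ≤ ⊤)).op h
    let aD : Γ(X, D.1) := X.presheaf.map (homOfLE hD).op a
    haveI := D.2.isLocalization_basicOpen hD'
    have h0 : algebraMap Γ(X, D.1) Γ(X, X.basicOpen hD') aD = 0 := by
      refine TopCat.Presheaf.section_ext X.sheaf _ _ _ fun y hy => ?_
      show X.presheaf.germ (X.basicOpen hD') y hy (X.presheaf.map (homOfLE (X.basicOpen_le hD')).op aD) =
        X.presheaf.germ (X.basicOpen hD') y hy 0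
      rw [map_zero, TopCat.Presheaf.germ_res_apply, TopCat.Presheaf.germ_res_apply]
      have hyh : y ∈ X.basicOpen h := by
        rw [show hD' = X.presheaf.map (homOfLE (le_top : D.1 ≤ ⊤)).op h from rfl, Scheme.basicOpen_res] at hy
        exact hy.2
      have hz : f.1 ⟨y, Opens.mem_top y⟩ = 0 := congrArg (fun t : Γ(Mero.kmod X, X.basicOpen h) => t.1 ⟨y, hyh⟩) hf
      have := (hab ⟨y, hD (X.basicOpen_le hD' hy)⟩).symm.trans hz
      rw [← LocalizedModule.zero_mk (1 : Mero.regStalk X y)] at this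
      simpa using (GrothLib.Mero.mkK_eq_iff _ _ _ _).1 this
    obtain ⟨⟨_, n, rfl⟩, hn⟩ := (IsLocalization.map_eq_zero_iff (Submonoid.powers hD') Γ(X, X.basicOpen hD') aD).1 h0
    refine ⟨D.1, hxD, n, fun y hy => ?_⟩
    have hy' := hab ⟨y, hD hy⟩
    show ((Mero.evalK X ⊤ ⟨y, Opens.mem_top y⟩) (Mero.toK X ⊤ h ^ n * f)) = 0
    rw [map_mul, ← map_pow (Mero.toK X ⊤)]
    show (LocalizedModule.mk (X.presheaf.germ ⊤ y trivial (h ^ n)) 1 : Mero.KStalk X y) * f.1 ⟨y, Opens.mem_top y⟩ = 0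
    rw [show f.1 ⟨y, Opens.mem_top y⟩ = _ from hy']
    refine LocalizedModule.mk_mul_mk.trans ?_
    have h1 := congrArg (X.presheaf.germ D.1 y hy) hn
    simp only [hD', aD, map_mul, map_pow, map_zero, TopCat.Presheaf.germ_res_apply] at h1
    rw [map_pow, h1, LocalizedModule.zero_mk]
  choose W hxW n hn using hloc
  obtain ⟨t, ht⟩ := isCompact_univ.elim_finite_subcover (fun x => (W x : Set X)) (fun x => (W x).isOpen)
    (fun x _ => Set.mem_iUnion.2 ⟨x, hxW x⟩)
  refine ⟨∑ x ∈ t, n x, Subtype.ext (funext fun y => ?_)⟩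
  obtain ⟨x, hx, hy⟩ := Set.mem_iUnion₂.1 (ht (Set.mem_univ y.1))
  obtain ⟨e, he⟩ : ∃ e, ∑ i ∈ t, n i = e + n x :=
    ⟨_, (Nat.sub_add_cancel (Finset.single_le_sum (fun i _ => Nat.zero_le (n i)) hx)).symm⟩
  show Mero.evalK X ⊤ y (Mero.toK X ⊤ h ^ (∑ i ∈ t, n i) * f) = 0
  rw [he, pow_add, mul_assoc, map_mul]
  refine mul_eq_zero_of_right _ ?_
  exact hn x y.1 hy

end Groth.Agent.S8865
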