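import Groth.Statements.S8871
import Groth.Agent.Lib.Depth.CM
import Groth.Agent.Lib.AssPts.Primary
import Groth.Agent.Lib.FlatFP.Sheaf

set_option autoImplicit false
universe u
open CategoryTheory CategoryTheory.Limits AlgebraicGeometry TopologicalSpace
open SDiv

namespace Groth.Agent.S8871

/-- Let X be a locally Noetherian scheme and F a coherent O_X-module. Then F has no embedded associated
points (every associated point of F is maximal among the associated points of F under
specialization) if and only if F has property (S_1): for every point x, depth F_x ≥ min(1, dim Supp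
F_x), where dim Supp F_x is the Krull dimension of the support of the O_{X,x}-module F_x (for F_x =
0 the depth is infinite and the support empty, so the condition holds). -/
theorem result (X : Scheme.{u}) [IsLocallyNoetherian X] (F : X.Modules) (hF : Coh.IsCoh F) :
    (∀ x : ↥X, Curv2.IsAssPoint F x → ∀ y : ↥X, Curv2.IsAssPoint F y → y ⤳ x → y = x) ↔
      ∀ x : ↥X, min (1 : WithBot ℕ∞) (Module.supportDim ↑(X.presheaf.stalk x) ↑(F.presheaf.stalk x)) ≤
        ((LocCoh.depth (X.presheaf.stalk x) (F.presheaf.stalk x) : ℕ∞) : WithBot ℕ∞) := by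
  open GrothLib in
  have : F.IsQuasicoherent := hF.1
  -- the associated primes of a stalk are associated points generalising the point
  have key : ∀ (x : X) (P : Ideal (X.presheaf.stalk x)), P ∈ associatedPrimes (X.presheaf.stalk x) (F.presheaf.stalk x) →
      ∃ y : X, Curv2.IsAssPoint F y ∧ y ⤳ x ∧ (y = x → P = IsLocalRing.maximalIdeal _) := by
    intro x P hP
    obtain ⟨_, ⟨V, hV, rfl⟩, hxV, -⟩ :=
      X.isBasis_affineOpens.exists_subset_of_mem_open (Set.mem_univ x) isOpen_univ
    have hV : IsAffineOpen V := hV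
    haveI := IsLocallyNoetherian.component_noetherian ⟨V, hV⟩
    letI := X.presheaf.algebra_section_stalk ⟨x, hxV⟩
    haveI := GrothLib.FlatFP.isLocalization_stalk_primeAt hV hxV
    letI : Module Γ(X, V) (F.presheaf.stalk x) := Module.compHom _ (X.presheaf.germ V x hxV).hom
    haveI : IsScalarTower Γ(X, V) (X.presheaf.stalk x) (F.presheaf.stalk x) :=
      IsScalarTower.of_algebraMap_smul fun _ _ => rfl
    obtain ⟨g, hg, -⟩ := GrothLib.FlatFP.isLocalizedModule_germ F hV hxV
    rw [← Module.associatedPrimes.preimage_comap_associatedPrimes_eq_associatedPrimes_of_isLocalizedModule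
      (GrothLib.WeakAss.primeAt x hxV).primeCompl (X.presheaf.stalk x) g, Set.mem_preimage] at hP
    obtain ⟨y, hy, hyP⟩ := GrothLib.AssPts.exists_point hV _ hP.isPrime
    rw [← hyP] at hP
    have hle : GrothLib.WeakAss.primeAt y hy ≤ GrothLib.WeakAss.primeAt x hxV := by
      rw [hyP]
      have hPtop : P ≠ ⊤ := fun h => (inferInstance : (GrothLib.WeakAss.primeAt y hy).IsPrime).ne_top (by rw [hyP, h, Ideal.comap_top])
      exact Ideal.comap_mono (IsLocalRing.le_maximalIdeal hPtop)
    refine ⟨y, (GrothLib.AssPts.ass_iff F hV hy).mpr hP, (GrothLib.AssPts.specializes_iff hV hy hxV).2 hle, ?_⟩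
    rintro rfl
    rw [← IsLocalization.map_comap (GrothLib.WeakAss.primeAt y hxV).primeCompl (X.presheaf.stalk y) P,
      ← IsLocalization.map_comap (GrothLib.WeakAss.primeAt y hxV).primeCompl (X.presheaf.stalk y) (IsLocalRing.maximalIdeal _)]
    exact congrArg _ hyP.symm
  constructor
  · intro hne x
    rcases subsingleton_or_nontrivial (F.presheaf.stalk x) with hs | hn
    · rw [Module.supportDim_eq_bot_of_subsingleton]
      simp
    haveI : Module.Finite (X.presheaf.stalk x) (F.presheaf.stalk x) := GrothLib.Primary.moduleFinite_stalk F x hF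
    by_cases hd : 1 ≤ LocCoh.depth (X.presheaf.stalk x) (F.presheaf.stalk x)
    · exact (min_le_left _ _).trans (by exact_mod_cast hd)
    obtain ⟨P, hP, hPm⟩ := GrothLib.Depth.exists_associatedPrime_ge (IsLocalRing.maximalIdeal.isMaximal _).ne_top hd
    have hxass : Curv2.IsAssPoint F x := by
      rw [← (IsLocalRing.maximalIdeal.isMaximal _).eq_of_le hP.isPrime.ne_top hPm] at hP
      exact hP
    refine (min_le_right _ _).trans (le_trans ?_ (WithBot.coe_le_coe.2 (zero_le : (0 : ℕ∞) ≤ _)))
    haveI : Subsingleton ↥(Module.support (X.presheaf.stalk x) (F.presheaf.stalk x)) := ⟨fun a b => by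
      have hmax : ∀ q : ↥(Module.support (X.presheaf.stalk x) (F.presheaf.stalk x)),
          q.1.asIdeal = IsLocalRing.maximalIdeal _ := by
        rintro ⟨q, hq⟩
        obtain ⟨Q, hQ, hQq⟩ := Ideal.exists_minimalPrimes_le (Module.mem_support_iff_of_finite.mp hq)
        obtain ⟨y, hy, hyx, hQm⟩ := key x Q
          (Module.associatedPrimes.minimalPrimes_annihilator_subset_associatedPrimes _ _ hQ)
        rw [hQm (hne x hxass y hy hyx)] at hQq
        exact ((IsLocalRing.maximalIdeal.isMaximal _).eq_of_le q.2.ne_top hQq).symm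
      exact Subtype.ext (PrimeSpectrum.ext ((hmax a).trans (hmax b).symm))⟩
    exact Order.krullDim_nonpos_of_subsingleton
  · intro hS1 x hx y hy hyx
    by_contra hne
    haveI : Module.Finite (X.presheaf.stalk x) (F.presheaf.stalk x) := GrothLib.Primary.moduleFinite_stalk F x hF
    haveI : Nontrivial (F.presheaf.stalk x) :=
      not_subsingleton_iff_nontrivial.1 (GrothLib.AssPts.mem_support_of_isAssPoint F hx)
    have hd : ¬ 1 ≤ LocCoh.depth (X.presheaf.stalk x) (F.presheaf.stalk x) := by
      intro h1
      obtain ⟨r, hr, hreg⟩ := (GrothLib.Depth.one_le_idealDepth_iff (IsLocalRing.maximalIdeal.isMaximal _).ne_top).1 h1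
      obtain ⟨-, m, hm⟩ := isAssociatedPrime_iff.1 hx
      have hm0 : m ≠ 0 := fun h0 => (IsLocalRing.maximalIdeal.isMaximal (X.presheaf.stalk x)).ne_top (by
        rw [hm, h0, Ideal.eq_top_iff_one, Submodule.mem_colon_singleton, smul_zero]; exact Submodule.zero_mem _)
      rw [hm, Submodule.mem_colon_singleton, Submodule.mem_bot] at hr
      exact hm0 (hreg.right_eq_zero_of_smul hr)
    obtain ⟨_, ⟨V, hV, rfl⟩, hxV, -⟩ :=
      X.isBasis_affineOpens.exists_subset_of_mem_open (Set.mem_univ x) isOpen_univ
    have hV : IsAffineOpen V := hV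
    have hyV : y ∈ V := hyx.mem_open V.2 hxV
    haveI := IsLocallyNoetherian.component_noetherian ⟨V, hV⟩
    letI := X.presheaf.algebra_section_stalk ⟨x, hxV⟩
    haveI := GrothLib.FlatFP.isLocalization_stalk_primeAt hV hxV
    letI : Module Γ(X, V) (F.presheaf.stalk x) := Module.compHom _ (X.presheaf.germ V x hxV).hom
    haveI : IsScalarTower Γ(X, V) (X.presheaf.stalk x) (F.presheaf.stalk x) :=
      IsScalarTower.of_algebraMap_smul fun _ _ => rfl
    obtain ⟨g, hg, -⟩ := GrothLib.FlatFP.isLocalizedModule_germ F hV hxV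
    have hle := (GrothLib.AssPts.specializes_iff hV hyV hxV).1 hyx
    have hdisj : Disjoint ((GrothLib.WeakAss.primeAt x hxV).primeCompl : Set Γ(X, V)) (GrothLib.WeakAss.primeAt y hyV) :=
      Set.disjoint_left.2 fun a ha hay => ha (hle hay)
    let Q := (GrothLib.WeakAss.primeAt y hyV).map (algebraMap Γ(X, V) (X.presheaf.stalk x))
    have hQp : Q.IsPrime := IsLocalization.isPrime_of_isPrime_disjoint _ _ _ inferInstance hdisj
    have hQc : Q.comap (algebraMap Γ(X, V) (X.presheaf.stalk x)) = GrothLib.WeakAss.primeAt y hyV :=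
      IsLocalization.under_map_of_isPrime_disjoint _ _ inferInstance hdisj
    have hQass : Q ∈ associatedPrimes (X.presheaf.stalk x) (F.presheaf.stalk x) := by
      rw [← Module.associatedPrimes.preimage_comap_associatedPrimes_eq_associatedPrimes_of_isLocalizedModule
        (GrothLib.WeakAss.primeAt x hxV).primeCompl (X.presheaf.stalk x) g, Set.mem_preimage, hQc]
      exact (GrothLib.AssPts.ass_iff F hV hyV).1 hy
    have hQsupp : (⟨Q, hQp⟩ : PrimeSpectrum _) ∈ Module.support (X.presheaf.stalk x) (F.presheaf.stalk x) :=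
      Module.mem_support_iff_of_finite.mpr (Submodule.annihilator_top.symm.trans_le
        (IsAssociatedPrime.annihilator_le hQass))
    have hlt : Q < IsLocalRing.maximalIdeal (X.presheaf.stalk x) := lt_of_le_of_ne (IsLocalRing.le_maximalIdeal hQp.ne_top) fun h => by
      refine hne (GrothLib.AssPts.primeAt_injective hV hyV hxV ?_)
      rw [← hQc, h]
      rfl
    have h2 : (1 : WithBot ℕ∞) ≤ Module.supportDim (X.presheaf.stalk x) (F.presheaf.stalk x) := by
      have hpos : (0 : WithBot ℕ∞) < Order.krullDim ↥(Module.support (X.presheaf.stalk x) (F.presheaf.stalk x)) :=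
        Order.krullDim_pos_iff.2 ⟨⟨⟨Q, hQp⟩, hQsupp⟩,
          ⟨IsLocalRing.closedPoint _, IsLocalRing.closedPoint_mem_support _ _⟩, hlt⟩
      have h3 := (ENat.WithBot.add_one_le_iff (n := 0)).2 hpos
      simpa [Module.supportDim] using h3
    have := hS1 x
    rw [min_eq_left h2] at this
    exact hd (by exact_mod_cast this)

end Groth.Agent.S8871
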