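import Groth.Statements.S8874
import Groth.Agent.Lib.FittSheaf.Basic
import Groth.Agent.Lib.FittSheaf.Generators

set_option autoImplicit false
universe u
open CategoryTheory CategoryTheory.Limits AlgebraicGeometry TopologicalSpace
open SDiv

namespace Groth.Agent.S8874

/-- Let S be a scheme, F a quasi-coherent O_S-module of finite type, s a point of S and r a natural
number. Then F can be generated by r sections over some open neighbourhood of s if and only if the
r-th Fitting ideal of F is the unit ideal at s, i.e. s does not lie in the closed subset cut out by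
Fit_r(F). -/
theorem result (S : Scheme.{u}) (F : S.Modules) (hF : Coh.IsQCoh F) (hft : CohB1.IsFT F)
    (s : ↥S) (r : ℕ) :
    (∃ U : S.Opens, s ∈ U ∧ ∃ π : FlatMod.freeMod (↑U) r ⟶ F.restrict U.ι, Epi π) ↔
      s ∉ (Fitt.sheafIdeal F r).support := by
  have := hF
  obtain ⟨W, hW, hsW, -⟩ := exists_isAffineOpen_mem_and_subset (x := s) (U := ⊤) trivial
  have := GrothLib.FittSheaf.finite_sections hft ⟨W, hW⟩
  constructor
  · rintro ⟨U, hsU, hπ⟩
    obtain ⟨e, he⟩ := (GrothLib.FittSheaf.exists_epi_restrict_iff F U r).1 hπ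
    rw [GrothLib.FittSheaf.notMem_support_iff_not_le hft r ⟨W, hW⟩ hsW]
    intro hle
    have h1 := Ideal.map_mono (f := (S.presheaf.germ W s hsW).hom) hle
    erw [GrothLib.FittSheaf.map_germ_ideal F hW hsW r] at h1
    have hx : Submodule.span (S.presheaf.stalk s)
        (Set.range fun i => F.presheaf.germ (U.ι ''ᵁ ⊤) s ⟨⟨s, hsU⟩, trivial, rfl⟩ (e i)) = ⊤ := he ⟨s, hsU⟩
    rw [GrothLib.Fitting.ideal_eq_top_of_le _ hx le_rfl] at h1
    exact (IsLocalRing.maximalIdeal.isMaximal _).ne_top
      (top_le_iff.1 (h1.trans Ideal.map_comap_le))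
  · intro h
    obtain ⟨g, hg, y, hy⟩ := GrothLib.Fitting.exists_smul_mem_span r _
      ((GrothLib.Fitting.not_le_iff_finrank_fiber_le r _).1
        ((GrothLib.FittSheaf.notMem_support_iff_not_le hft r ⟨W, hW⟩ hsW).1 h))
    refine ⟨S.basicOpen g, GrothLib.WeakAss.notMem_primeAt_iff.1 hg,
      (GrothLib.FittSheaf.exists_epi_restrict_iff F _ r).2
        ⟨fun i => F.presheaf.map (homOfLE ((Scheme.Opens.ι_image_top _).le.trans (S.basicOpen_le g))).op (y i),
          fun z => ?_⟩⟩
    have hzU : (S.basicOpen g).ι z ∈ W := S.basicOpen_le g z.2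
    refine eq_top_iff.2 fun v _ => ?_
    obtain ⟨c, m, hc, hm⟩ := GrothLib.WeakAss.exists_smul_eq_germ hW hzU v
    obtain ⟨a, ha⟩ := (Submodule.mem_span_range_iff_exists_fun _).1 (hy m)
    have hu : IsUnit (S.presheaf.germ W _ hzU c) :=
      (Scheme.mem_basicOpen _ c _ hzU).1 (GrothLib.WeakAss.notMem_primeAt_iff.1 hc)
    have hgu : IsUnit (S.presheaf.germ W _ hzU g) := (Scheme.mem_basicOpen _ g _ hzU).1 z.2
    refine (Submodule.smul_mem_iff_of_isUnit _ (hgu.mul hu)).1 ?_
    rw [mul_smul, hm, ← GrothLib.WeakAss.germ_smul, ← ha, map_sum]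
    refine Submodule.sum_mem _ fun i _ => ?_
    rw [GrothLib.WeakAss.germ_smul]
    exact Submodule.smul_mem _ _ (Submodule.subset_span
      ⟨i, (TopCat.Presheaf.germ_res_apply F.presheaf _ _ _ _)⟩)

end Groth.Agent.S8874
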