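import Groth.Statements.S8876
import Groth.Agent.Lib.FittSheaf.Basic

set_option autoImplicit false
universe u
open CategoryTheory CategoryTheory.Limits AlgebraicGeometry TopologicalSpace
open SDiv

namespace Groth.Agent.S8876

/-- Let S be a scheme and F a quasi-coherent O_S-module of finite type. Then the closed subset of S cut
out by Fit_0(F) equals the support of F (the scheme-theoretic support and the Fit_0 subscheme have
the same underlying set). -/
theorem result (S : Scheme.{u}) (F : S.Modules) (hF : Coh.IsQCoh F) (hft : CohB1.IsFT F) :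
    ((Fitt.sheafIdeal F 0).support : Set ↥S) = CohB1.support F := by
  have := hF
  ext x
  obtain ⟨U, hU, hx, -⟩ := exists_isAffineOpen_mem_and_subset (x := x) (U := ⊤) trivial
  have := GrothLib.FittSheaf.finite_sections hft ⟨U, hU⟩
  rw [GrothLib.QCoh.mem_support_iff_primeAt F hU hx, ← GrothLib.Fitting.zeroLocus_ideal_zero,
    PrimeSpectrum.mem_zeroLocus, SetLike.coe_subset_coe, SetLike.mem_coe]
  exact not_iff_not.1 (GrothLib.FittSheaf.notMem_support_iff_not_le hft 0 ⟨U, hU⟩ hx)

end Groth.Agent.S8876
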