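import Groth.Statements.S8877
import Groth.Agent.Lib.FittSheaf.Basic

set_option autoImplicit false
universe u
open CategoryTheory CategoryTheory.Limits AlgebraicGeometry TopologicalSpace
open SDiv

namespace Groth.Agent.S8877

/-- Let S be a scheme and F a quasi-coherent O_S-module of finite type, and let Z_r ⊆ S be the closed
subset cut out by the r-th Fitting ideal of F. Then the intersection of all the Z_r is empty. -/
theorem result (S : Scheme.{u}) (F : S.Modules) (hF : Coh.IsQCoh F) (hft : CohB1.IsFT F)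
    (s : ↥S) : ∃ r : ℕ, s ∉ (Fitt.sheafIdeal F r).support := by
  have := hF
  obtain ⟨U, hU, hs, -⟩ := exists_isAffineOpen_mem_and_subset (x := s) (U := ⊤) trivial
  have := GrothLib.FittSheaf.finite_sections hft ⟨U, hU⟩
  obtain ⟨n, x, hx⟩ := GrothLib.Fitting.exists_tuple Γ(S, U) Γ(F, U)
  refine ⟨n, (GrothLib.FittSheaf.notMem_support_iff_not_le hft n ⟨U, hU⟩ hs).2 ?_⟩
  rw [GrothLib.Fitting.ideal_eq_top_of_le x hx le_rfl]
  exact fun h => Ideal.IsPrime.ne_top inferInstance (top_le_iff.1 h)

end Groth.Agent.S8877
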