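import Groth.Statements.S8884
import Groth.Agent.Lib.FlagMod12.Main

set_option autoImplicit false
universe u
open CategoryTheory CategoryTheory.Limits AlgebraicGeometry TopologicalSpace
open SDiv

namespace Groth.Agent.S8884

/-- Let X be an integral scheme and E a finite locally free O_X-module. Then there exists a modification
f : X' ⟶ X, i.e. X' is integral and f is proper and restricts to an isomorphism over some nonempty
open of X, such that f^*E is an iterated extension of invertible O_{X'}-modules: modules 0 = M_0,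
M_1, …, M_r with M_r ≅ f^*E and short exact sequences 0 → M_i → M_{i+1} → L_i → 0 with every L_i
invertible. -/
theorem result (X : Scheme.{u}) [IsIntegral X] (E : X.Modules)
    (hE : FlatMod.IsFinLocFree E) :
    ∃ (X' : Scheme.{u}) (f : X' ⟶ X) (_ : IsIntegral X') (_ : IsProper f) (U : X.Opens) (_ : (U : Set ↥X).Nonempty)
      (_ : IsIso (f ∣_ U)) (r : ℕ) (M : Fin (r + 1) → X'.Modules) (L : Fin r → X'.Modules),
      IsZero (M 0) ∧ Nonempty (M (Fin.last r) ≅ (Scheme.Modules.pullback f).obj E) ∧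
        ∀ i : Fin r, PicF.IsInvertible (L i) ∧
          ∃ S : ShortComplex X'.Modules, S.ShortExact ∧ Nonempty (S.X₁ ≅ M i.castSucc) ∧
            Nonempty (S.X₂ ≅ M i.succ) ∧ Nonempty (S.X₃ ≅ L i) := by
  obtain ⟨r, hr⟩ := GrothLib.ModelK.exists_rank_connected hE
  obtain ⟨X', f, hi, hp, U, hU, hiso, M, L, h0, he, hs⟩ := GrothLib.FlagMod12.exists_flag r X E hr
  refine ⟨X', f, hi, hp, U, hU, hiso, r, fun i => M i, fun i => L i, h0, he, fun i => ?_⟩
  obtain ⟨hL, a, b, w, hS⟩ := hs i i.2
  exact ⟨hL, ShortComplex.mk a b w, hS, ⟨Iso.refl _⟩, ⟨Iso.refl _⟩, ⟨Iso.refl _⟩⟩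

end Groth.Agent.S8884
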