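import Groth.Statements.S8885
import Groth.Agent.Lib.FibModLocus10.FieldExt
import Groth.Agent.Lib.RankStratum9.Basic
import Groth.Agent.S2513
import Groth.Agent.S1577
import Groth.Prelude.Def_PicLoc
-- import your own Groth.Agent.* helpers here

set_option autoImplicit false
universe u
open CategoryTheory CategoryTheory.Limits AlgebraicGeometry TopologicalSpace
open SDiv

namespace Groth.Agent.S8885

open AlgebraicGeometry CategoryTheory CategoryTheory.Limits TensorProduct in
/-- The fibres of a morphism from a locally noetherian scheme are locally noetherian. -/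
theorem isLocallyNoetherian_fiber {Y W : Scheme.{u}} (i : Y ⟶ W) [IsLocallyNoetherian Y] (v : W) :
    IsLocallyNoetherian (i.fiber v) := by
  obtain ⟨V, hV, hvV, -⟩ := exists_isAffineOpen_mem_and_subset (show v ∈ (⊤ : W.Opens) from trivial)
  let J : Type u := {U : Y.affineOpens // (U : Y.Opens) ≤ i ⁻¹ᵁ V}
  let θ : Γ(W, V) ⟶ W.residueField v := W.presheaf.germ V v hvV ≫ W.residue v
  have hθ : W.fromSpecResidueField v = Spec.map θ ≫ hV.fromSpec := by
    rw [Scheme.fromSpecResidueField, ← hV.fromSpecStalk_eq_fromSpecStalk hvV, IsAffineOpen.fromSpecStalk,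
      Spec.map_comp, Category.assoc]
  letI algθ : Algebra Γ(W, V) (W.residueField v) := θ.hom.toAlgebra
  haveI : Algebra.EssFiniteType Γ(W, V) (W.residueField v) := by
    letI := W.presheaf.algebra_section_stalk ⟨v, hvV⟩
    haveI := hV.isLocalization_stalk ⟨v, hvV⟩
    haveI : Algebra.EssFiniteType Γ(W, V) (W.presheaf.stalk v) :=
      Algebra.EssFiniteType.of_isLocalization (W.presheaf.stalk v) (hV.primeIdealOf ⟨v, hvV⟩).asIdeal.primeCompl
    letI : Algebra (W.presheaf.stalk v) (W.residueField v) := (W.residue v).hom.toAlgebra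
    haveI : IsScalarTower Γ(W, V) (W.presheaf.stalk v) (W.residueField v) :=
      IsScalarTower.of_algebraMap_eq fun _ => rfl
    haveI : Module.Finite (W.presheaf.stalk v) (W.residueField v) :=
      Module.Finite.of_surjective (Algebra.linearMap _ _) IsLocalRing.residue_surjective
    exact Algebra.EssFiniteType.comp Γ(W, V) (W.presheaf.stalk v) (W.residueField v)
  let P : J → Scheme.{u} := fun U => pullback (Spec.map (i.appLE V U.1.1 U.2)) (Spec.map θ)
  let κ : ∀ U : J, P U ⟶ i.fiber v := fun U =>
    pullback.map _ _ i (W.fromSpecResidueField v) U.1.2.fromSpec (𝟙 _) hV.fromSpec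
      (IsAffineOpen.SpecMap_appLE_fromSpec i hV U.1.2 U.2) (by rw [Category.id_comp, hθ])
  haveI : ∀ U : J, IsOpenImmersion (κ U) := fun U => by
    haveI := U.1.2.isOpenImmersion_fromSpec
    haveI := hV.isOpenImmersion_fromSpec
    exact Scheme.pullback_map_isOpenImmersion _ _ _ _ _ _ _ _ _
  haveI : ∀ U : J, IsLocallyNoetherian (P U) := fun U => by
    letI : Algebra Γ(W, V) Γ(Y, U.1.1) := (i.appLE V U.1.1 U.2).hom.toAlgebra
    haveI : IsNoetherianRing Γ(Y, U.1.1) := IsLocallyNoetherian.component_noetherian U.1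
    haveI : IsNoetherianRing (Γ(Y, U.1.1) ⊗[Γ(W, V)] W.residueField v) :=
      Algebra.EssFiniteType.isNoetherianRing Γ(Y, U.1.1) _
    haveI : IsLocallyNoetherian (Spec (CommRingCat.of (Γ(Y, U.1.1) ⊗[Γ(W, V)] W.residueField v))) :=
      inferInstance
    exact isLocallyNoetherian_of_isOpenImmersion (pullbackSpecIso Γ(W, V) Γ(Y, U.1.1) (W.residueField v)).hom
  have hcov : ∀ z : i.fiber v, ∃ (U : J) (w : P U), κ U w = z := fun z => by
    have hz : i.fiberι v z ∈ i ⁻¹ᵁ V := by
      show i (i.fiberι v z) ∈ V
      rw [GrothLib.FibreFlat.fiberι_comp_apply i v z]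
      exact hvV
    obtain ⟨U, hU, hzU, hUV⟩ := exists_isAffineOpen_mem_and_subset hz
    let j : J := ⟨⟨U, hU⟩, hUV⟩
    have hr : Set.range (κ j) = pullback.fst i (W.fromSpecResidueField v) ⁻¹' Set.range hU.fromSpec ∩
        pullback.snd i (W.fromSpecResidueField v) ⁻¹' Set.range (𝟙 (Spec (W.residueField v)) : _ ⟶ _) :=
      Scheme.Pullback.range_map _ _ _ _ _ _ _ _ _
    obtain ⟨w, hw⟩ : z ∈ Set.range (κ j) := hr ▸ ⟨hU.range_fromSpec.symm ▸ hzU, ⟨_, rfl⟩⟩
    exact ⟨j, w, hw⟩
  let 𝒰 : (i.fiber v).OpenCover := Scheme.Cover.mkOfCovers J P κ hcov fun U => inferInstance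
  exact (isLocallyNoetherian_iff_openCover 𝒰).2 fun U => inferInstanceAs (IsLocallyNoetherian (P U))

open AlgebraicGeometry CategoryTheory in
/-- On a scheme without embedded points the associated points are the generic points of components. -/
theorem ass_structure_iff {Z : Scheme.{u}} [IsLocallyNoetherian Z]
    (h : AssSch.NoEmbedded (Coh.structureModule Z)) (z : Z) :
    z ∈ AssSch.Ass (Coh.structureModule Z) ↔ ∀ z' : Z, z' ⤳ z → z' = z := by
  have hsupp : ∀ y : Z, y ∈ CohB1.support (Coh.structureModule Z) := fun y hs => by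
    obtain ⟨ε⟩ := GrothLib.AssPts.exists_stalk_unit_equiv y
    exact not_subsingleton (Z.presheaf.stalk y) (ε.toEquiv.subsingleton)
  have hq : Coh.IsQCoh (Coh.structureModule Z) :=
    (GrothLib.Euler.isCoh_of_isInvertible GrothLib.Euler.isInvertible_structure).1
  have hmaxAss : ∀ y : Z, (∀ z' : Z, z' ⤳ y → z' = y) → y ∈ AssSch.Ass (Coh.structureModule Z) :=
    fun y hy => Groth.Agent.S1577.result Z _ hq y (hsupp y) fun w _ hw => hy w hw
  refine ⟨fun hz z' hz' => ?_, hmaxAss z⟩
  obtain ⟨C, hC, hsub⟩ := exists_mem_irreducibleComponents_subset_of_isIrreducible _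
    (isIrreducible_singleton.closure : IsIrreducible (closure ({z'} : Set Z)))
  obtain ⟨η, hη⟩ := QuasiSober.sober hC.1 (isClosed_of_mem_irreducibleComponents _ hC)
  have hηz' : η ⤳ z' := hη.specializes (hsub (subset_closure rfl))
  have hmax : ∀ w : Z, w ⤳ η → w = η := fun w hw => by
    have hCw : C ⊆ closure {w} := hη.def ▸ closure_minimal (Set.singleton_subset_iff.2 hw.mem_closure) isClosed_closure
    have := hC.2 (isIrreducible_singleton.closure : IsIrreducible (closure ({w} : Set Z))) hCw
    exact (hw.antisymm (hη.specializes (this (subset_closure rfl)))).eq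
  have e := h z hz η (hmaxAss η hmax) (hηz'.trans hz')
  exact (hz'.antisymm (e ▸ hηz')).eq

/-- Let f : X ⟶ S be locally of finite type, g : S' ⟶ S a morphism, X' = X ×_S S' with projections g' :
X' ⟶ X and f' : X' ⟶ S', F a quasi-coherent O_X-module and F' = g'^*F. For a point x' of X' with
images x in X and s' in S': x' lies in the relative assassin Ass_{X'/S'}(F') (x' is an associated
point of the pullback of F' to the fibre X'_{s'}) if and only if x lies in Ass_{X/S}(F) and x' is
maximal under generization among the points of X' mapping to x and to s' (that is, x' is the generic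
point of some irreducible component of Spec(κ(s') ⊗_{κ(s)} κ(x))). -/
theorem result {X S S' : Scheme.{u}} (f : X ⟶ S) [LocallyOfFiniteType f] (g : S' ⟶ S)
    (F : X.Modules) (hF : Coh.IsQCoh F) (x' : ↥(pullback f g)) :
    Curv2.IsAssPoint
        ((Scheme.Modules.pullback ((pullback.snd f g).fiberι ((pullback.snd f g) x'))).obj
          ((Scheme.Modules.pullback (pullback.fst f g)).obj F))
        ((pullback.snd f g).asFiber x') ↔
      Curv2.IsAssPoint ((Scheme.Modules.pullback (f.fiberι (f ((pullback.fst f g) x')))).obj F)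
          (f.asFiber ((pullback.fst f g) x')) ∧
        ∀ x'' : ↥(pullback f g), (pullback.snd f g) x'' = (pullback.snd f g) x' →
          (pullback.fst f g) x'' = (pullback.fst f g) x' → x'' ⤳ x' → x'' = x' := by
  have hc := IsPullback.of_hasPullback f g
  set f' := pullback.snd f g
  set g' := pullback.fst f g
  set s' := f' x'
  haveI : F.IsQuasicoherent := hF
  obtain ⟨i, hi₁, hi⟩ := GrothLib.FibreBC.exists_isPullback_fiber hc s'
  let u := f.fiberToSpecResidueField (g s')
  let u' := f'.fiberToSpecResidueField s'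
  haveI : LocallyOfFiniteType u := MorphismProperty.pullback_snd _ _ ‹LocallyOfFiniteType f›
  haveI : LocallyOfFiniteType f' := MorphismProperty.of_isPullback hc ‹LocallyOfFiniteType f›
  haveI : LocallyOfFiniteType u' := MorphismProperty.pullback_snd _ _ ‹LocallyOfFiniteType f'›
  haveI : IsLocallyNoetherian (f.fiber (g s')) := LocallyOfFiniteType.isLocallyNoetherian u
  haveI : IsLocallyNoetherian (f'.fiber s') := LocallyOfFiniteType.isLocallyNoetherian u'
  let φ := (g.residueFieldMap s').hom
  letI := φ.toAlgebra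
  haveI : Flat (Spec.map (CommRingCat.ofHom φ)) :=
    Flat.SpecMap_iff.2 (RingHom.flat_algebraMap_iff.2
      (inferInstance : Module.Flat (S.residueField (g s')) (S'.residueField s')))
  haveI : Flat i := MorphismProperty.of_isPullback hi.flip inferInstance
  let G := (Scheme.Modules.pullback (f.fiberι (g s'))).obj F
  let O := Coh.structureModule (f'.fiber s')
  have hflat : FlatMod.IsFlatOver i O := fun z => GrothLib.AssPts.isFlatOverAt_structure i z
  let w := f'.asFiber x'
  have hw : f'.fiberι s' w = x' := f'.fiberι_asFiber x'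
  let e' : (Scheme.Modules.pullback i).obj G ≅
      (Scheme.Modules.pullback (f'.fiberι s')).obj ((Scheme.Modules.pullback g').obj F) :=
    (Scheme.Modules.pullbackComp i (f.fiberι (g s'))).app F ≪≫ (Scheme.Modules.pullbackCongr hi₁).app F ≪≫
      ((Scheme.Modules.pullbackComp (f'.fiberι s') g').app F).symm
  have he : AssSch.Ass (GrothLib.AssTensor3.pullTensor i G O) =
      AssSch.Ass ((Scheme.Modules.pullback (f'.fiberι s')).obj ((Scheme.Modules.pullback g').obj F)) :=
    (GrothLib.AssPts.ass_congr (GrothLib.Euler.tFUnitIso ((Scheme.Modules.pullback i).obj G))).trans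
      (GrothLib.AssPts.ass_congr e')
  have hsq : ∀ z, g' (f'.fiberι s' z) = f.fiberι (g s') (i z) := fun z => by
    rw [← Scheme.Hom.comp_apply, ← hi₁]; rfl
  -- the point below
  have hfx : f (g' x') = g s' := by
    rw [← Scheme.Hom.comp_apply, hc.w]; rfl
  have hv : ∀ (y : ↥S) (hy : f (g' x') = y) (v : f.fiber y), f.fiberι y v = g' x' →
      (Curv2.IsAssPoint ((Scheme.Modules.pullback (f.fiberι y)).obj F) v ↔
        Curv2.IsAssPoint ((Scheme.Modules.pullback (f.fiberι (f (g' x')))).obj F) (f.asFiber (g' x'))) := by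
    rintro y rfl v hv
    rw [show v = f.asFiber (g' x') from
      (f.fiberι _).isEmbedding.injective (hv.trans (f.fiberι_asFiber _).symm)]
  have h1 : Curv2.IsAssPoint ((Scheme.Modules.pullback (f'.fiberι s')).obj ((Scheme.Modules.pullback g').obj F)) w ↔
      i w ∈ AssSch.Ass G ∧ IsAssociatedPrime (IsLocalRing.maximalIdeal ((f'.fiber s').presheaf.stalk w))
        (GrothLib.AssTensor3.fibreQuot i O w) := by
    rw [← GrothLib.AssTensor3.ass_tensor_iff hflat w, he]
    rfl
  refine h1.trans (and_congr (hv _ hfx (i w) ((hsq w).symm.trans (congrArg g' hw))) ?_)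
  -- the fibre of `i` has no embedded points
  obtain ⟨z, hz⟩ : w ∈ Set.range (i.fiberι (i w)) := (i.range_fiberι (i w)).symm ▸ rfl
  have h2 := (GrothLib.AssTensor3.fibre_transport i O (i w) z).1
  rw [hz] at h2
  rw [← h2]
  let θ := (f.fiber (g s')).fromSpecResidueField (i w) ≫ u
  have hpaste : IsPullback (i.fiberToSpecResidueField (i w)) (i.fiberι (i w) ≫ u') θ
      (Spec.map (CommRingCat.ofHom (algebraMap (S.residueField (g s')) (S'.residueField s')))) :=
    (IsPullback.of_hasPullback i ((f.fiber (g s')).fromSpecResidueField (i w))).flip.paste_vert hi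
  haveI := isLocallyNoetherian_fiber i (i w)
  haveI hN : IsLocallyNoetherian ↑(pullback θ
      (Spec.map (CommRingCat.ofHom (algebraMap (S.residueField (g s')) (S'.residueField s'))))) :=
    isLocallyNoetherian_of_isOpenImmersion hpaste.isoPullback.inv
  have hne : AssSch.NoEmbedded (Coh.structureModule (i.fiber (i w))) := by
    have h0 : AssSch.NoEmbedded (Coh.structureModule (Spec ((f.fiber (g s')).residueField (i w)))) :=
      fun a _ b _ _ => Subsingleton.elim (α := PrimeSpectrum ((f.fiber (g s')).residueField (i w))) a b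
    exact GrothLib.FibModLocus10.noEmbedded_structure_of_iso hpaste.isoPullback.hom
      ((@Groth.Agent.S2513.result (S.residueField (g s')) (S'.residueField s') _ _ φ.toAlgebra _ θ _ hN).1 h0)
  have hO : AssSch.Ass ((Scheme.Modules.pullback (i.fiberι (i w))).obj O) =
      AssSch.Ass (Coh.structureModule (i.fiber (i w))) :=
    GrothLib.AssPts.ass_congr (_root_.PicLoc.pullbackStructureIso (i.fiberι (i w)))
  show z ∈ AssSch.Ass ((Scheme.Modules.pullback (i.fiberι (i w))).obj O) ↔ _
  rw [hO, ass_structure_iff hne z]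
  constructor
  · intro h x'' hs hx hsp
    obtain ⟨w'', rfl⟩ : x'' ∈ Set.range (f'.fiberι s') := (f'.range_fiberι s').symm ▸ hs
    have hiw : i w'' = i w := (f.fiberι (g s')).isEmbedding.injective
      (by rw [← hsq, ← hsq, hx, hw])
    obtain ⟨z'', rfl⟩ : w'' ∈ Set.range (i.fiberι (i w)) := (i.range_fiberι (i w)).symm ▸ hiw
    have e : x' = f'.fiberι s' (i.fiberι (i w) z) := hw.symm.trans (congrArg (f'.fiberι s') hz.symm)
    exact (congrArg (fun t => f'.fiberι s' (i.fiberι (i w) t)) (h z'' ((i.fiberι (i w)).isEmbedding.isInducing.specializes_iff.mp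
      ((f'.fiberι s').isEmbedding.isInducing.specializes_iff.mp (e ▸ hsp))))).trans e.symm
  · intro h z' hz'
    refine (i.fiberι (i w)).isEmbedding.injective ((f'.fiberι s').isEmbedding.injective ?_)
    rw [hz, hw]
    refine h _ (GrothLib.FibreFlat.fiberι_comp_apply f' s' _) ?_ ?_
    · rw [hsq, GrothLib.FibreFlat.fiberι_comp_apply i (i w) z', ← hsq, hw]
    · have e : x' = f'.fiberι s' (i.fiberι (i w) z) := hw.symm.trans (congrArg (f'.fiberι s') hz.symm)
      exact e.symm ▸ (hz'.map (i.fiberι (i w)).continuous).map (f'.fiberι s').continuous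

end Groth.Agent.S8885
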