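import Groth.Statements.S8886
import Mathlib.AlgebraicGeometry.Morphisms.Flat
import Mathlib.AlgebraicGeometry.Fiber
import Mathlib.RingTheory.Flat.Localization
import Mathlib.RingTheory.Flat.TorsionFree
import Mathlib.RingTheory.Localization.AtPrime.Basic
import Mathlib.RingTheory.LocalProperties.Reduced
import Mathlib.RingTheory.Flat.FaithfullyFlat.Algebra

set_option autoImplicit false
universe u
open CategoryTheory CategoryTheory.Limits AlgebraicGeometry TopologicalSpace
open SDiv

namespace Groth.Agent.S8886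

/-- Let f : X ⟶ Y be a flat morphism of schemes with Y integral. If the scheme-theoretic fibre of f over
the generic point of Y is integral, then X is integral. -/
theorem result {X Y : Scheme.{u}} (f : X ⟶ Y) [Flat f] [IsIntegral Y]
    (h : IsIntegral (f.fiber (genericPoint ↥Y))) : IsIntegral X := by
  set η := genericPoint ↥Y
  -- the inclusion of the generic fibre is flat and a preimmersion
  have hgen : ∀ y, (Y.fromSpecResidueField η) y = η := fun y => by
    have := Y.range_fromSpecResidueField η
    simpa using (show (Y.fromSpecResidueField η) y ∈ ({η} : Set Y) by rw [← this]; exact ⟨y, rfl⟩)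
  haveI : Flat (Y.fromSpecResidueField η) := Flat.of_stalkMap _ fun y => by
    have hF : IsField (Y.presheaf.stalk ((Y.fromSpecResidueField η) y)) := by
      rw [hgen]; exact Field.toIsField Y.functionField
    letI := hF.toField
    letI := ((Y.fromSpecResidueField η).stalkMap y).hom.toAlgebra
    exact (inferInstance : Module.Flat (Y.presheaf.stalk ((Y.fromSpecResidueField η) y))
      ((Spec (Y.residueField η)).presheaf.stalk y))
  haveI : Flat (f.fiberι η) := inferInstanceAs (Flat (pullback.fst _ _))
  -- points over the generic point have reduced local rings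
  have hred : ∀ x : X, f x = η → _root_.IsReduced (X.presheaf.stalk x) := by
    intro x hx
    obtain ⟨z, rfl⟩ : x ∈ Set.range (f.fiberι η) := by rw [f.range_fiberι]; exact hx
    have hflat := Flat.stalkMap (f.fiberι η) z
    refine isReduced_of_injective ((f.fiberι η).stalkMap z).hom ?_
    letI := ((f.fiberι η).stalkMap z).hom.toAlgebra
    haveI : Module.Flat (X.presheaf.stalk ((f.fiberι η) z)) ((f.fiber η).presheaf.stalk z) := hflat
    haveI : IsLocalHom (algebraMap (X.presheaf.stalk ((f.fiberι η) z)) ((f.fiber η).presheaf.stalk z)) :=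
      inferInstanceAs (IsLocalHom ((f.fiberι η).stalkMap z).hom)
    haveI := Module.FaithfullyFlat.of_flat_of_isLocalHom (A := X.presheaf.stalk ((f.fiberι η) z))
      (B := (f.fiber η).presheaf.stalk z)
    exact FaithfulSMul.algebraMap_injective _ _
  have key : ∀ x : X, ∃ V : X.Opens, IsAffineOpen V ∧ x ∈ V ∧
      _root_.IsReduced Γ(X, V) ∧ ∃ x' ∈ V, f x' = η ∧ x' ⤳ x := by
    intro x
    obtain ⟨_, ⟨U, hU, rfl⟩, hxU, -⟩ :=
      Y.isBasis_affineOpens.exists_subset_of_mem_open (Set.mem_univ (f x)) isOpen_univ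
    obtain ⟨_, ⟨V, hV, rfl⟩, hxV, hVU⟩ :=
      X.isBasis_affineOpens.exists_subset_of_mem_open (show x ∈ f ⁻¹ᵁ U from hxU) (f ⁻¹ᵁ U).2
    have hflat : (f.appLE U V hVU).hom.Flat := f.flat_appLE hU hV hVU
    haveI : Nonempty U := ⟨⟨f x, hxU⟩⟩
    letI := (f.appLE U V hVU).hom.toAlgebra
    haveI : Module.Flat Γ(Y, U) Γ(X, V) := hflat
    -- primes over the zero ideal
    have himg : ∀ q : PrimeSpectrum Γ(X, V), (∀ a : Γ(Y, U), a ≠ 0 → algebraMap _ _ a ∉ q.asIdeal) →
        f (hV.fromSpec q) = η := by
      intro q hq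
      have h1 : (Spec.map (f.appLE U V hVU)) q = (⊥ : PrimeSpectrum Γ(Y, U)) := by
        apply PrimeSpectrum.ext
        refine le_antisymm (fun a ha => ?_) bot_le
        by_contra ha0
        exact hq a ha0 ha
      have h2 := congrArg (fun g => g q) (IsAffineOpen.SpecMap_appLE_fromSpec f hU hV hVU)
      simp only [Scheme.Hom.comp_apply] at h2
      rw [← h2, h1, ← genericPoint_eq_bot_of_affine]
      exact genericPoint_eq_of_isOpenImmersion hU.fromSpec
    have hnzd : ∀ a : Γ(Y, U), a ≠ 0 → algebraMap _ _ a ∈ nonZeroDivisors Γ(X, V) := by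
      intro a ha
      rw [mem_nonZeroDivisors_iff_right]
      intro b hb
      refine (Module.Flat.isSMulRegular_of_nonZeroDivisors (mem_nonZeroDivisors_of_ne_zero ha) :
        IsSMulRegular Γ(X, V) a) ?_
      simp only [Algebra.smul_def, mul_zero]
      rw [mul_comm]; exact hb
    refine ⟨V, hV, hxV, ⟨fun s hs => ?_⟩, ?_⟩
    · by_contra hs0
      let I : Ideal Γ(X, V) := LinearMap.ker (LinearMap.toSpanSingleton _ _ s)
      have hI : Disjoint (I : Set Γ(X, V))
          ((nonZeroDivisors Γ(Y, U)).map (algebraMap Γ(Y, U) Γ(X, V))) := by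
        rw [Set.disjoint_left]
        rintro _ hb ⟨a, ha, rfl⟩
        refine hs0 (mem_nonZeroDivisors_iff_right.1 (hnzd a (nonZeroDivisors.ne_zero ha)) s ?_)
        simpa [I, mul_comm] using hb
      obtain ⟨q, hq, hIq, hqd⟩ := Ideal.exists_le_prime_disjoint I _ hI
      have hη := himg ⟨q, hq⟩ fun a ha hmem =>
        Set.disjoint_left.1 hqd hmem ⟨a, mem_nonZeroDivisors_of_ne_zero ha, rfl⟩
      haveI := hred _ hη
      set P : PrimeSpectrum Γ(X, V) := ⟨q, hq⟩
      letI := X.presheaf.algebra_section_stalk ⟨hV.fromSpec P,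
        (by rw [← SetLike.mem_coe, ← hV.range_fromSpec]; exact ⟨P, rfl⟩ : hV.fromSpec P ∈ V)⟩
      haveI hloc : IsLocalization.AtPrime (X.presheaf.stalk (hV.fromSpec P)) P.asIdeal :=
        hV.isLocalization_stalk' P (by rw [← SetLike.mem_coe, ← hV.range_fromSpec]; exact ⟨P, rfl⟩)
      have h0 : algebraMap Γ(X, V) (X.presheaf.stalk (hV.fromSpec P)) s = 0 :=
        (hs.map _).eq_zero
      obtain ⟨⟨t, ht⟩, hts⟩ := (IsLocalization.map_eq_zero_iff P.asIdeal.primeCompl _ _).1 h0
      exact ht (hIq (by simpa [I] using hts))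
    · set p := hV.primeIdealOf ⟨x, hxV⟩
      obtain ⟨q, hq, hqp⟩ := Ideal.exists_minimalPrimes_le (bot_le (a := p.asIdeal))
      let Q : PrimeSpectrum Γ(X, V) := ⟨q, hq.1.1⟩
      refine ⟨hV.fromSpec Q, by rw [← SetLike.mem_coe, ← hV.range_fromSpec]; exact ⟨Q, rfl⟩,
        himg Q fun a ha hmem => notMem_nonZeroDivisors_of_mem_mem_minimalPrimes hmem hq (hnzd a ha), ?_⟩
      rw [show x = hV.fromSpec p from (hV.fromSpec_primeIdealOf ⟨x, hxV⟩).symm]
      exact ((PrimeSpectrum.le_iff_specializes Q p).1 hqp).map hV.fromSpec.continuous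
  haveI : AlgebraicGeometry.IsReduced X := by
    haveI : ∀ x : X, _root_.IsReduced (X.presheaf.stalk x) := fun x => by
      obtain ⟨V, hV, hxV, hr, -⟩ := key x
      letI := X.presheaf.algebra_section_stalk ⟨x, hxV⟩
      haveI := hV.isLocalization_stalk ⟨x, hxV⟩
      exact isReduced_localizationPreserves (hV.primeIdealOf ⟨x, hxV⟩).asIdeal.primeCompl (X.presheaf.stalk x) hr
    exact isReduced_of_isReduced_stalk X
  haveI : IrreducibleSpace X := by
    have hirr : IsIrreducible (closure (Set.range (f.fiberι η))) := by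
      refine IsIrreducible.closure ?_
      rw [← Set.image_univ]
      exact (IrreducibleSpace.isIrreducible_univ _).image _ (f.fiberι η).continuous.continuousOn
    have htop : closure (Set.range (f.fiberι η)) = Set.univ := by
      refine Set.eq_univ_of_forall fun x => ?_
      obtain ⟨V, -, -, -, x', -, hx', hsp⟩ := key x
      exact hsp.mem_closed isClosed_closure (subset_closure (by rw [f.range_fiberι]; exact hx'))
    rw [htop] at hirr
    exact (irreducibleSpace_def X).2 hirr
  exact isIntegral_of_irreducibleSpace_of_isReduced X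

end Groth.Agent.S8886
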