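import Groth.Statements.S8887
import Groth.Agent.Lib.Ref1.Frame
import Groth.Agent.Lib.Ref1.Generic

set_option autoImplicit false
universe u
open CategoryTheory CategoryTheory.Limits AlgebraicGeometry TopologicalSpace
open SDiv

namespace Groth.Agent.S8887

/-- Let X be an integral scheme and F a quasi-coherent O_X-module of finite type, of rank r (r being the
finite dimension of the generic stalk of F as a vector space over the function field of X). Then one
can find an open subset U of X, not empty, on which the restriction of F is isomorphic to the free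
module of rank r. -/
theorem result (X : Scheme.{u}) [IsIntegral X] (F : X.Modules) (hF : Coh.IsQCoh F)
    (hft : CohB1.IsFT F) :
    ∃ U : X.Opens, (U : Set ↥X).Nonempty ∧
      Nonempty (F.restrict U.ι ≅ FlatMod.freeMod (↑U)
        (Module.finrank ↑(X.presheaf.stalk (genericPoint ↥X)) ↑(F.presheaf.stalk (genericPoint ↥X)))) := by
  classical
  have := hF
  obtain ⟨W, ι, _, m, hηW, hgen⟩ := GrothLib.HomSh.exists_genOn F hft (genericPoint X)
  let K := X.presheaf.stalk (genericPoint X)
  have hfin : Module.Finite K (F.presheaf.stalk (genericPoint X)) := ⟨hgen (genericPoint X) hηW ▸ Submodule.fg_span (Set.finite_range _)⟩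
  have hfield : IsField K := ⟨⟨0, 1, zero_ne_one⟩, mul_comm, fun {a} ha =>
    ⟨_, (GrothLib.Ref1.isUnit_of_ne_zero ha).mul_val_inv⟩⟩
  let _ : Field K := hfield.toField
  let b := Module.finBasis K (F.presheaf.stalk (genericPoint X))
  let n := Module.finrank K (F.presheaf.stalk (genericPoint X))
  choose Wb hWb t ht using fun j => TopCat.Presheaf.exists_germ_eq F.presheaf (b j)
  obtain ⟨T, hT, hηT, r, hr⟩ := GrothLib.Ref1.exists_repr_nhd hηW
    (fun p : ι × Fin n => b.repr (F.presheaf.germ W (genericPoint X) hηW (m p.1)) p.2)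
  simp only at hr
  let T' : X.Opens := ⟨(⋂ j, (Wb j : Set X)) ∩ T, (isOpen_iInter_of_finite fun i => (Wb i).isOpen).inter T.isOpen⟩
  have hT'T : T' ≤ T := fun z hz => hz.2
  have hT'b : ∀ j, T' ≤ Wb j := fun j z hz => Set.mem_iInter.1 hz.1 j
  have hηT' : (genericPoint X) ∈ T' := ⟨Set.mem_iInter.2 hWb, hηT⟩
  let s : Fin n → Γ(F, T') := fun j => F.presheaf.map (homOfLE (hT'b j)).op (t j)
  have hs : ∀ j, F.presheaf.germ T' (genericPoint X) hηT' (s j) = b j := fun j => by
    simp only [s, TopCat.Presheaf.germ_res_apply, ht]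
  obtain ⟨U, hU, hηU, hz⟩ := GrothLib.HomSh.exists_nhd_zero F hηT'
    (fun i => F.presheaf.map (homOfLE (hT'T.trans hT)).op (m i) -
      ∑ j, X.presheaf.map (homOfLE hT'T).op (r (i, j)) • s j) (fun i => by
      simp only [map_sub, map_sum, Mero.germ_smul, TopCat.Presheaf.germ_res_apply, hr, hs, sub_eq_zero]
      exact (b.sum_repr _).symm)
  obtain ⟨φ⟩ := GrothLib.FinCov.exists_iso_of_frame (M := F) (GrothLib.Ref1.isFrame_of_stalk
    (e := fun j => F.presheaf.map (homOfLE hU).op (s j)) fun y hy => by
      have he : GrothLib.Ref1.stalkComb (fun j => F.presheaf.map (homOfLE hU).op (s j)) y hy =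
          GrothLib.Ref1.stalkComb s y (hU hy) := by
        simp only [GrothLib.Ref1.stalkComb, TopCat.Presheaf.germ_res_apply]
      rw [he]
      constructor
      · refine (injective_iff_map_eq_zero (GrothLib.Ref1.stalkComb s y (hU hy))).2 fun e he => ?_
        rw [GrothLib.Ref1.stalkComb, Fintype.linearCombination_apply] at he
        have h1 := congrArg (GrothLib.Ref1.sp F (GrothLib.Ref1.hη y)) he
        simp only [map_sum, map_zero, GrothLib.Ref1.sp_smul, GrothLib.Ref1.sp_germ, hs] at h1
        funext j
        refine GrothLib.Ref1.spR_injective y ?_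
        rw [Fintype.linearIndependent_iff.1 b.linearIndependent _ h1 j, Pi.zero_apply, map_zero]
      · rw [← LinearMap.range_eq_top, eq_top_iff, ← hgen y (hT (hT'T (hU hy))), Submodule.span_le]
        rintro _ ⟨i, rfl⟩
        refine ⟨fun j => X.presheaf.germ T y (hT'T (hU hy)) (r (i, j)), ?_⟩
        have := congrArg (F.presheaf.germ U y hy) (hz i)
        rw [map_zero, TopCat.Presheaf.germ_res_apply, map_sub, map_sum, sub_eq_zero,
          TopCat.Presheaf.germ_res_apply] at this
        simp only [Mero.germ_smul, TopCat.Presheaf.germ_res_apply] at this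
        rw [GrothLib.Ref1.stalkComb, Fintype.linearCombination_apply]
        exact this.symm)
  exact ⟨U, ⟨(genericPoint X), hηU⟩, ⟨φ⟩⟩

end Groth.Agent.S8887
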