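import Groth.Statements.S8888
import Groth.Agent.Lib.QCoh.StalkPullback
import Mathlib.AlgebraicGeometry.FunctionField

set_option autoImplicit false
universe u
open CategoryTheory CategoryTheory.Limits AlgebraicGeometry TopologicalSpace
open SDiv

namespace Groth.Agent.S8888

/-- Let f : X ⟶ Y be a dominant morphism of integral schemes and G a quasi-coherent O_Y-module. Then the
rank of f^*G on X, the dimension of its stalk at the generic point of X over the function field of
X, equals the rank of G on Y. -/
theorem result {X Y : Scheme.{u}} [IsIntegral X] [IsIntegral Y] (f : X ⟶ Y) [IsDominant f]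
    (G : Y.Modules) (hG : Coh.IsQCoh G) :
    Module.rank ↑(X.presheaf.stalk (genericPoint ↥X)) ↑(((Scheme.Modules.pullback f).obj G).presheaf.stalk (genericPoint ↥X)) =
      Module.rank ↑(Y.presheaf.stalk (genericPoint ↥Y)) ↑(G.presheaf.stalk (genericPoint ↥Y)) := by
  have hη : f (genericPoint X) = genericPoint Y := by
    have h := (genericPoint_spec X).image f.continuous
    rw [Set.image_univ, f.denseRange.closure_range] at h
    exact h.eq (genericPoint_spec Y)
  have hfield : IsField (Y.presheaf.stalk (f (genericPoint X))) := by
    rw [hη]
    exact Field.toIsField Y.functionField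
  have hrank : Module.rank (Y.presheaf.stalk (f (genericPoint X))) (G.presheaf.stalk (f (genericPoint X))) =
      Module.rank (Y.presheaf.stalk (genericPoint Y)) (G.presheaf.stalk (genericPoint Y)) := by
    rw [hη]
  rw [← hrank]
  let φ := (f.stalkMap (genericPoint X)).hom
  let _ := φ.toAlgebra
  let _ : Field (Y.presheaf.stalk (f (genericPoint X))) := hfield.toField
  let e : TensorProduct (Y.presheaf.stalk (f (genericPoint X))) (X.presheaf.stalk (genericPoint X))
      (G.presheaf.stalk (f (genericPoint X))) ≃ₗ[X.presheaf.stalk (genericPoint X)]
      ((Scheme.Modules.pullback f).obj G).presheaf.stalk (genericPoint X) :=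
    ((GrothLib.QCoh.stalkPullbackIso f (genericPoint X)).app G).toLinearEquiv.symm
  rw [← e.rank_eq, Module.rank_baseChange, Cardinal.lift_id]

end Groth.Agent.S8888
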