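import Groth.Statements.S8889
import Groth.Agent.Lib.WeakAss.Basic

set_option autoImplicit false
universe u
open CategoryTheory CategoryTheory.Limits AlgebraicGeometry TopologicalSpace
open SDiv

namespace Groth.Agent.S8889

/-- Let X be a scheme and φ : F ⟶ G a morphism of quasi-coherent O_X-modules. Assume that for every
point x of X either the stalk map F_x → G_x is injective or x is not a weakly associated point of F.
Then φ is injective. -/
theorem result (X : Scheme.{u}) {F G : X.Modules} (φ : F ⟶ G) (hF : Coh.IsQCoh F)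
    (hG : Coh.IsQCoh G)
    (h : ∀ x : ↥X, Function.Injective ((TopCat.Presheaf.stalkFunctor AddCommGrpCat.{u} x).map (Scheme.Modules.Hom.mapPresheaf φ)) ∨ ¬ Curv2.IsWeakAssPoint F x) :
    Mono φ := by
  have : F.IsQuasicoherent := hF
  have key : ∀ (W : X.Opens) (s : Γ(F, W)), φ.app W s = 0 → s = 0 := by
    intro W s hs
    refine GrothLib.WeakAss.eq_zero_of_germ s fun x hx hw => ?_
    refine (h x).elim (fun hinj => hinj ?_) (fun hn => absurd hw hn)
    erw [TopCat.Presheaf.stalkFunctor_map_germ_apply, hs, map_zero, map_zero]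
    rfl
  refine ⟨fun {Z} g k e => Scheme.Modules.hom_ext _ _ fun W => ?_⟩
  ext s
  have e' := congr(Scheme.Modules.Hom.app $e W s)
  simp only [Scheme.Modules.Hom.comp_app, CategoryTheory.comp_apply] at e'
  refine sub_eq_zero.mp (key W _ ?_)
  rw [map_sub]
  exact sub_eq_zero.mpr e'

end Groth.Agent.S8889
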