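import Groth.Statements.S8891
import Groth.Agent.Lib.Ref1.IsoCriterion
import Groth.Agent.Lib.Ref1.Extend

set_option autoImplicit false
universe u
open CategoryTheory CategoryTheory.Limits AlgebraicGeometry TopologicalSpace
open SDiv

namespace Groth.Agent.S8891

/-- Let X be an integral locally Noetherian scheme and φ : F ⟶ G a morphism of quasi-coherent
O_X-modules with F coherent and G torsion free. Assume that for every point x either the stalk map
F_x → G_x is an isomorphism, or depth(F_x) ≥ 2 and x is not the generic point of X. Then φ is an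
isomorphism. (The published statement allows the second alternative at the generic point as well;
since the zero module has infinite depth, F = 0 and G = O_X then satisfy every hypothesis while 0 →
O_X is not an isomorphism. The general criterion this is a special case of requires x not to be
associated to G, which for torsion-free G ≠ 0 fails exactly at the generic point; so the generic
point is excluded from the second alternative here.) -/
theorem result (X : Scheme.{u}) [IsIntegral X] [IsLocallyNoetherian X] {F G : X.Modules}
    (φ : F ⟶ G) (hF : Coh.IsCoh F) (hG : Coh.IsQCoh G)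
    (htf : ∀ x : ↥X, NoZeroSMulDivisors ↑(X.presheaf.stalk x) ↑(G.presheaf.stalk x))
    (h : ∀ x : ↥X, Function.Bijective ((TopCat.Presheaf.stalkFunctor AddCommGrpCat.{u} x).map (Scheme.Modules.Hom.mapPresheaf φ)) ∨
      ((2 : ℕ∞) ≤ LocCoh.depth (X.presheaf.stalk x) (F.presheaf.stalk x) ∧ x ≠ genericPoint ↥X)) :
    IsIso φ := by
  have := hG
  refine GrothLib.Ref1.isIso_of_stalk_or_depth_two hF φ fun x => (h x).imp id fun ⟨hd, hne⟩ => ⟨hd, fun hass => ?_⟩
  obtain ⟨hp, g, hg⟩ := isAssociatedPrime_iff.1 (show IsAssociatedPrime _ _ from hass)
  have hg0 : g ≠ 0 := fun h0 => hp.ne_top (by rw [hg, h0, Ideal.eq_top_iff_one, Submodule.mem_colon_singleton, smul_zero]; exact Submodule.zero_mem _)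
  have hm : IsLocalRing.maximalIdeal (X.presheaf.stalk x) = ⊥ := by
    refine (Submodule.eq_bot_iff _).2 fun a ha => ?_
    rw [hg, Submodule.mem_colon_singleton, Submodule.mem_bot] at ha
    have := htf x
    exact ((NoZeroSMulDivisors.eq_zero_or_eq_zero_of_smul_eq_zero ha).resolve_right hg0)
  refine hne ?_
  have h0 : ringKrullDim (X.presheaf.stalk x) = 0 :=
    ringKrullDim_eq_zero_of_isField (IsLocalRing.isField_iff_maximalIdeal_eq.2 hm)
  rw [ringKrullDim_stalk_eq_coheight] at h0
  have h1 : Order.coheight x = 0 := WithBot.coe_injective h0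
  exact (Specializes.antisymm (Order.coheight_eq_zero.1 h1 (GrothLib.Ref1.hη x)) (GrothLib.Ref1.hη x)).eq

end Groth.Agent.S8891
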