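import Groth.Statements.S8892
import Groth.Agent.Lib.RegSeqLoc.AnyBaseChange
import Mathlib.AlgebraicGeometry.Morphisms.Flat

set_option autoImplicit false
set_option linter.all false
universe u
open CategoryTheory CategoryTheory.Limits AlgebraicGeometry TopologicalSpace
open SDiv

namespace Groth.Agent.S8892

/-- Let f : X ⟶ S be a morphism of schemes and i : Z ⟶ X an H_1-regular (resp. quasi-regular) immersion
such that Z ⟶ S is flat. Then for every morphism g : S' ⟶ S the base change of i to X ×_S S' is an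
H_1-regular (resp. quasi-regular) immersion, again flat over S'. -/
theorem result {Z X S S' : Scheme.{u}} (f : X ⟶ S) (i : Z ⟶ X) (k : RegImm.Kind)
    (hk : k = RegImm.Kind.h1 ∨ k = RegImm.Kind.quasi) (hi : RegImm.IsRelRegularImmersion k f i) (g : S' ⟶ S) :
    RegImm.IsRelRegularImmersion k (pullback.snd f g) (pullback.snd i (pullback.fst f g)) := by
  have himm : IsImmersion i := hi.1.1
  haveI : Flat (i ≫ f) := hi.2
  let g₀ := pullback.fst f g
  have hsq := IsPullback.of_hasPullback i g₀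
  refine ⟨⟨MorphismProperty.of_isPullback hsq himm, fun y' => ?_⟩, ?_⟩
  swap
  · exact MorphismProperty.of_isPullback (hsq.paste_vert (IsPullback.of_hasPullback f g)) hi.2
  obtain ⟨U, hzU, hci, rs, hrs, hI⟩ := hi.1.2 (pullback.fst i g₀ y')
  obtain ⟨W, hW, hzW, -⟩ := exists_isAffineOpen_mem_and_subset (Opens.mem_top (f (i (pullback.fst i g₀ y'))))
  obtain ⟨U₁, hU₁, hzU₁, hle⟩ :=
    exists_isAffineOpen_mem_and_subset (U := U.1 ⊓ f ⁻¹ᵁ W) (x := i (pullback.fst i g₀ y')) ⟨hzU, hzW⟩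
  have e₁ : U₁ ≤ (𝟙 X) ⁻¹ᵁ U.1 := fun a ha => (hle ha).1
  obtain ⟨hci₁, hker₁⟩ := GrothLib.RegSeqLoc.ker_of_isPullback (g := 𝟙 X) (i' := i) (g' := 𝟙 Z)
    (IsPullback.of_horiz_isIso ⟨by simp⟩) U hci hU₁ e₁
  have hUW : U₁ ≤ f ⁻¹ᵁ W := fun a ha => (hle ha).2
  have hφ : ((𝟙 X : X ⟶ X).appLE U.1 U₁ e₁).hom.Flat :=
    HasRingHomProperty.appLE (P := @Flat) (𝟙 X) inferInstance U ⟨U₁, hU₁⟩ e₁
  rw [hI, Ideal.map_ofList] at hker₁
  have hflat : ((Ideal.Quotient.mk (RingHom.ker (i.app U₁).hom)).comp (f.appLE W U₁ hUW).hom).Flat := by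
    obtain ⟨hsurj, hpre⟩ := GrothLib.RegSeqLoc.app_surjective_of_restrict i hU₁ hci₁
    have hfl := HasRingHomProperty.appLE (P := @Flat) (i ≫ f) inferInstance ⟨W, hW⟩ ⟨i ⁻¹ᵁ U₁, hpre⟩
      (fun a ha => hUW ha)
    let e := RingHom.quotientKerEquivOfSurjective hsurj
    have he : (Ideal.Quotient.mk (RingHom.ker (i.app U₁).hom)).comp (f.appLE W U₁ hUW).hom =
        e.symm.toRingHom.comp ((i ≫ f).appLE W (i ⁻¹ᵁ U₁) (fun a ha => hUW ha)).hom := by
      refine RingHom.ext fun a => e.injective ?_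
      show i.app U₁ (f.appLE W U₁ hUW a) = e (e.symm _)
      rw [e.apply_symm_apply]
      rw [← Scheme.Hom.appLE_eq_app, ← CommRingCat.comp_apply]
      erw [Scheme.Hom.appLE_comp_appLE]
    rw [he]
    exact hfl.comp (RingHom.Flat.of_bijective e.symm.bijective)
  obtain ⟨T, hT, hyT, hTW⟩ := exists_isAffineOpen_mem_and_subset (U := g ⁻¹ᵁ W)
    (x := pullback.snd f g (pullback.snd i g₀ y')) (by
      show g (pullback.snd f g (pullback.snd i g₀ y')) ∈ W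
      rw [← Scheme.Hom.comp_apply, ← pullback.condition, Scheme.Hom.comp_apply, ← Scheme.Hom.comp_apply _ g₀,
        ← hsq.w, Scheme.Hom.comp_apply]
      exact hzW)
  have H : IsPullback g₀ (pullback.snd f g) f g := IsPullback.of_hasPullback f g
  haveI : IsAffine W.toScheme := hW
  haveI : IsAffine U₁.toScheme := hU₁
  haveI : IsAffine T.toScheme := hT
  have hpo := (isIso_pushoutSection_iff H hTW hUW rfl).1
    (isIso_pushoutSection_of_isAffineOpen H hTW hUW rfl hW hT hU₁)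
  have hV : IsAffineOpen (g₀ ⁻¹ᵁ U₁ ⊓ pullback.snd f g ⁻¹ᵁ T) :=
    .of_isIso (Scheme.Hom.isPullback_resLE H hTW hUW rfl).isoPullback.hom
  obtain ⟨hci₂, hker₂⟩ := GrothLib.RegSeqLoc.ker_of_isPullback hsq ⟨U₁, hU₁⟩ hci₁ hV inf_le_left
  rw [hker₁, Ideal.map_ofList] at hker₂
  refine ⟨⟨_, hV⟩, ⟨?_, hyT⟩, hci₂, _, ?_, hker₂⟩
  · show g₀ (pullback.snd i g₀ y') ∈ U₁
    rw [← Scheme.Hom.comp_apply, ← hsq.w, Scheme.Hom.comp_apply]
    exact hzU₁
  set φ₁ := ((𝟙 X : X ⟶ X).appLE U.1 U₁ e₁).hom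
  set φ₂ := (g₀.appLE U₁ (g₀ ⁻¹ᵁ U₁ ⊓ pullback.snd f g ⁻¹ᵁ T) inf_le_left)
  have hspan : Ideal.span (Set.range ((φ₁ ∘ rs.get) : Fin rs.length → Γ(X, U₁))) = RingHom.ker (i.app U₁).hom := by
    rw [hker₁, Ideal.ofList]
    congr 1
    ext a
    rw [Set.range_comp, Set.range_list_get]
    simp
  rw [← hspan] at hflat
  have hget : ∀ (P : ∀ {c : ℕ}, (Fin c → Γ(pullback f g, g₀ ⁻¹ᵁ U₁ ⊓ pullback.snd f g ⁻¹ᵁ T)) → Prop),
      P (fun j => φ₂ (φ₁ (rs.get j))) → P ((rs.map φ₁).map φ₂).get := by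
    intro P h
    have : ∀ (c : ℕ) (hc : c = rs.length), P (fun j => φ₂ (φ₁ (rs.get (Fin.cast hc j)))) := by
      rintro c rfl; exact h
    have e : ((rs.map φ₁).map φ₂).get = fun j => φ₂ (φ₁ (rs.get (Fin.cast (by simp) j))) := by
      funext j; simp
    rw [e]; exact this _ (by simp)
  obtain ⟨h1, h2⟩ := GrothLib.SeqKinds.map_of_isPushout hpo (φ₁ ∘ rs.get) hflat
  rcases hk with rfl | rfl
  · exact hget CAlgX.IsH1Regular (h1 (GrothLib.SeqKinds.isH1Regular_map φ₁ hφ _ hrs))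
  · exact hget CAlgX.IsQuasiRegular (h2 (GrothLib.SeqKinds.isQuasiRegular_map φ₁ hφ _ hrs))

end Groth.Agent.S8892
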