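import Groth.Statements.S8893
import Groth.Agent.Lib.RelReg.Stalk

set_option autoImplicit false
universe u
open CategoryTheory CategoryTheory.Limits AlgebraicGeometry TopologicalSpace
open SDiv

namespace Groth.Agent.S8893

/-- Let f : X ⟶ S be a morphism of schemes and i : Z ⟶ X a relative quasi-regular immersion (a
quasi-regular immersion with Z flat over S). If z is a point of Z such that O_{X, i z} is
Noetherian, then f is flat at i z. -/
theorem result {Z X S : Scheme.{u}} (f : X ⟶ S) (i : Z ⟶ X)
    (hi : RegImm.IsRelRegularImmersion RegImm.Kind.quasi f i) (z : ↥Z) [IsNoetherianRing ↑(X.presheaf.stalk (i z))] :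
    (f.stalkMap (i z)).hom.Flat := by
  haveI : IsImmersion i := hi.1.1
  haveI : Flat (i ≫ f) := hi.2
  obtain ⟨r, a, -, hq, hker⟩ := GrothLib.RelReg.exists_stalk_equations i z _ (Or.inr rfl) (hi.1.2 z)
  letI := (f.stalkMap (i z)).hom.toAlgebra
  have hfl := GrothLib.RelReg.flat_quot_ker_stalkMap f i z
  rw [hker] at hfl
  haveI : Module.Flat (S.presheaf.stalk (f (i z)))
      (X.presheaf.stalk (i z) ⧸ Ideal.span (Set.range a)) := RingHom.flat_algebraMap_iff.mp hfl
  exact GrothLib.RelReg.flat_of_quasiRegular a (hker ▸ IsLocalRing.le_maximalIdeal (RingHom.ker_ne_top _)) hq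

end Groth.Agent.S8893
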