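import Groth.Statements.S8894
import Groth.Agent.Lib.RelReg.Chart

set_option autoImplicit false
set_option linter.all false
universe u
open CategoryTheory CategoryTheory.Limits AlgebraicGeometry TopologicalSpace
open SDiv

namespace Groth.Agent.S8894

/-- Let f : X ⟶ S be flat and locally of finite presentation and i : Z ⟶ X a relative quasi-regular
immersion (quasi-regular immersion with Z flat over S). Then i is a regular immersion, and for every
g : S' ⟶ S the base change of i to X ×_S S' is a regular immersion. -/
theorem result {Z X S : Scheme.{u}} (f : X ⟶ S) [Flat f] [LocallyOfFinitePresentation f]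
    (i : Z ⟶ X) (hi : RegImm.IsRelRegularImmersion RegImm.Kind.quasi f i) :
    RegImm.IsRegularImmersion RegImm.Kind.regular i ∧
      ∀ (S' : Scheme.{u}) (g : S' ⟶ S), RegImm.IsRegularImmersion RegImm.Kind.regular (pullback.snd i (pullback.fst f g)) := by
  haveI : IsImmersion i := hi.1.1
  haveI : Flat (i ≫ f) := hi.2
  have hchart : ∀ z : Z, GrothLib.RelReg.HasSliceChart f i z := by
    intro z
    obtain ⟨r, a, -, hq, hker⟩ :=
      GrothLib.RelReg.exists_stalk_equations i z RegImm.Kind.quasi (Or.inr rfl) (hi.1.2 z)
    obtain ⟨U₀, hz, hci, rs, hrs, hI⟩ := hi.1.2 z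
    letI := (f.stalkMap (i z)).hom.toAlgebra
    haveI : IsLocalHom (algebraMap (S.presheaf.stalk (f (i z))) (X.presheaf.stalk (i z))) :=
      inferInstanceAs (IsLocalHom (f.stalkMap (i z)).hom)
    haveI : Module.Flat (S.presheaf.stalk (f (i z))) (X.presheaf.stalk (i z) ⧸ Ideal.span (Set.range a)) := by
      have h := GrothLib.RelReg.flat_quot_ker_stalkMap f i z
      rw [hker] at h
      exact RingHom.flat_algebraMap_iff.mp h
    have hm : ∀ j, a j ∈ IsLocalRing.maximalIdeal (X.presheaf.stalk (i z)) := fun j => by
      refine IsLocalRing.le_maximalIdeal (J := Ideal.span (Set.range a)) ?_ (Ideal.subset_span ⟨j, rfl⟩)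
      rw [← hker]
      exact RingHom.ker_ne_top _
    exact GrothLib.RelReg.exists_chart f i z (Flat.stalkMap f (i z)) U₀ hz hci
      (hI ▸ Submodule.fg_span (List.finite_toSet rs)) a hker
      (GrothLib.RelReg.isRegular_fibre (GrothLib.FibreFlat.isEssFinitePresentation_stalkMap f (i z)) a hm hq)
  refine ⟨⟨inferInstance, fun z => GrothLib.RelReg.regularAt_of_chart (hchart z)⟩, fun S' g => ⟨?_, fun y => ?_⟩⟩
  · exact MorphismProperty.of_isPullback (IsPullback.of_hasPullback i (pullback.fst f g)) hi.1.1
  · exact GrothLib.RelReg.regularAt_baseChange_of_chart (IsPullback.of_hasPullback f g)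
      (IsPullback.of_hasPullback i (pullback.fst f g)) y (hchart _)

end Groth.Agent.S8894
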