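import Groth.Statements.S8896
import Groth.Agent.Lib.RelReg.FibreLift
import Groth.Agent.Lib.RelReg.Chart

set_option autoImplicit false
set_option linter.all false
universe u
open CategoryTheory CategoryTheory.Limits AlgebraicGeometry TopologicalSpace
open SDiv

namespace Groth.Agent.S8896

/-- Let φ : X ⟶ S be flat and locally of finite presentation and 𝓘 a quasi-coherent ideal sheaf on X
whose closed subscheme T is flat and locally of finite presentation over S. If for every point s of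
S the fibre T_s ⟶ X_s (base change of T ⟶ X to the scheme-theoretic fibre) is a quasi-regular
immersion, then T ⟶ X is a relative quasi-regular immersion. -/
theorem result {X S : Scheme.{u}} (φ : X ⟶ S) [Flat φ] [LocallyOfFinitePresentation φ]
    (𝓘 : X.IdealSheafData) [Flat (𝓘.subschemeι ≫ φ)] [LocallyOfFinitePresentation (𝓘.subschemeι ≫ φ)]
    (hfib : ∀ s : ↥S, RegImm.IsRegularImmersion RegImm.Kind.quasi (pullback.snd 𝓘.subschemeι (φ.fiberι s))) :
    RegImm.IsRelRegularImmersion RegImm.Kind.quasi φ 𝓘.subschemeι := by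
  refine ⟨⟨inferInstance, fun t => GrothLib.RelReg.quasiAt_of_regularAt
    (GrothLib.RelReg.regularAt_of_chart (f := φ) ?_)⟩, inferInstance⟩
  set ι := 𝓘.subschemeι with hι
  obtain ⟨V₀, hV₀, htV, -⟩ := exists_isAffineOpen_mem_and_subset (Opens.mem_top (φ (ι t)))
  obtain ⟨U₀, hU₀, htU, hUV⟩ := exists_isAffineOpen_mem_and_subset (U := φ ⁻¹ᵁ V₀) (x := ι t) htV
  have hci : IsClosedImmersion (ι ∣_ U₀) := IsZariskiLocalAtTarget.restrict (P := @IsClosedImmersion) (inferInstance : IsClosedImmersion ι) U₀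
  obtain ⟨hsurj, hpre⟩ := GrothLib.RegSeqLoc.app_surjective_of_restrict ι hU₀ hci
  have hfg : (RingHom.ker (ι.app U₀).hom).FG := by
    letI : Algebra Γ(S, V₀) Γ(X, U₀) := (φ.appLE V₀ U₀ hUV).hom.toAlgebra
    letI : Algebra Γ(S, V₀) Γ(𝓘.subscheme, ι ⁻¹ᵁ U₀) :=
      ((ι.app U₀).hom.comp (φ.appLE V₀ U₀ hUV).hom).toAlgebra
    haveI : Algebra.FinitePresentation Γ(S, V₀) Γ(X, U₀) := φ.finitePresentation_appLE hV₀ hU₀ hUV
    haveI : Algebra.FinitePresentation Γ(S, V₀) Γ(𝓘.subscheme, ι ⁻¹ᵁ U₀) := by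
      have h := (ι ≫ φ).finitePresentation_appLE hV₀ hpre (fun a ha => hUV ha)
      rw [show (ι ≫ φ).appLE V₀ (ι ⁻¹ᵁ U₀) (fun a ha => hUV ha) = φ.appLE V₀ U₀ hUV ≫ ι.app U₀ by
        rw [← Scheme.Hom.appLE_eq_app, Scheme.Hom.appLE_comp_appLE]] at h
      exact h
    exact Algebra.FinitePresentation.ker_fG_of_surjective
      (⟨(ι.app U₀).hom, fun _ => rfl⟩ : Γ(X, U₀) →ₐ[Γ(S, V₀)] Γ(𝓘.subscheme, ι ⁻¹ᵁ U₀)) hsurj
  obtain ⟨s, hs⟩ : ∃ s, φ (ι t) = s := ⟨_, rfl⟩
  obtain ⟨x', hx'⟩ : ι t ∈ Set.range (φ.fiberι s) := by rw [Scheme.Hom.range_fiberι]; exact hs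
  obtain ⟨y, hy₁, hy₂⟩ := Scheme.Pullback.exists_preimage_pullback t x' hx'.symm
  subst hy₁
  set i' := pullback.snd ι (φ.fiberι s)
  have hx : φ.fiberι s (i' y) = ι (pullback.fst ι (φ.fiberι s) y) := by rw [hy₂]; exact hx'
  set x := ι (pullback.fst ι (φ.fiberι s) y) with hxdef
  obtain ⟨r, b, -, hq, hker'⟩ :=
    GrothLib.RelReg.exists_stalk_equations i' y RegImm.Kind.quasi (Or.inr rfl) ((hfib s).2 y)
  have hmap := GrothLib.RelReg.ker_stalkMap_of_isPullback (IsPullback.of_hasPullback ι (φ.fiberι s))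
    ⟨U₀, hU₀⟩ hci _ htU y hx
  obtain ⟨hΨ, hΨk⟩ := GrothLib.FibreFlat.fiberι_stalkMap' φ s (i' y) _ hx
  set Ψ := ((X.presheaf.stalkCongr (.of_eq hx.symm)).hom ≫ (φ.fiberι s).stalkMap (i' y)).hom
  have hb : ∀ j, b j ∈ (RingHom.ker (ι.stalkMap (pullback.fst ι (φ.fiberι s) y)).hom).map Ψ := fun j => by
    rw [← hmap, hker']
    exact Ideal.subset_span ⟨j, rfl⟩
  choose a ha hab using fun j => (Ideal.mem_map_iff_of_surjective Ψ hΨ).mp (hb j)
  letI := (φ.stalkMap x).hom.toAlgebra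
  haveI : IsLocalHom (algebraMap (S.presheaf.stalk (φ x)) (X.presheaf.stalk x)) :=
    inferInstanceAs (IsLocalHom (φ.stalkMap x).hom)
  set J := RingHom.ker (ι.stalkMap (pullback.fst ι (φ.fiberι s) y)).hom with hJ
  haveI : Module.Flat (S.presheaf.stalk (φ x)) (X.presheaf.stalk x ⧸ J) :=
    RingHom.flat_algebraMap_iff.mp (GrothLib.RelReg.flat_quot_ker_stalkMap φ ι _)
  have hJfg : J.FG := by
    rw [hJ, GrothLib.RelReg.ker_stalkMap_eq_map ι hU₀ hci _ htU]
    exact hfg.map _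
  have hJspan : J = Ideal.span (Set.range a) := by
    refine GrothLib.RelReg.eq_span_of_fibre (R := S.presheaf.stalk (φ x)) J hJfg a ha fun v hv => ?_
    show v ∈ Ideal.span (Set.range a) ⊔ (IsLocalRing.maximalIdeal _).map (φ.stalkMap x).hom
    rw [← hΨk, RingHom.ker_eq_comap_bot, ← Ideal.comap_map_of_surjective Ψ hΨ, Ideal.mem_comap,
      Ideal.map_span, ← Set.range_comp, show Ψ ∘ a = b from funext hab, ← hker', hmap]
    exact Ideal.mem_map_of_mem Ψ hv
  refine GrothLib.RelReg.exists_chart φ ι _ (Flat.stalkMap φ x) ⟨U₀, hU₀⟩ htU hci hfg a hJspan ?_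
  set mS := (IsLocalRing.maximalIdeal (S.presheaf.stalk (φ x))).map (φ.stalkMap x).hom with hmS
  haveI : IsNoetherianRing (X.presheaf.stalk x ⧸ mS) :=
    GrothLib.RelReg.isNoetherianRing_fibre (GrothLib.FibreFlat.isEssFinitePresentation_stalkMap φ x)
  haveI : Nontrivial (X.presheaf.stalk x ⧸ mS) := Ideal.Quotient.nontrivial_iff.mpr
    (by rw [← hΨk]; exact RingHom.ker_ne_top _)
  haveI : IsLocalRing (X.presheaf.stalk x ⧸ mS) := .of_surjective' (Ideal.Quotient.mk mS) Ideal.Quotient.mk_surjective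
  haveI : IsLocalHom (Ideal.Quotient.mk mS) := .of_surjective _ Ideal.Quotient.mk_surjective
  let e := (Ideal.quotEquivOfEq hΨk.symm).trans (RingHom.quotientKerEquivOfSurjective hΨ)
  rw [List.map_ofFn]
  refine GrothLib.SeqKinds.isRegular_of_isQuasiRegular _ (fun j => ?_) ?_
  · rw [IsLocalRing.mem_maximalIdeal, mem_nonunits_iff]
    intro hu
    have ha' : a j ∈ IsLocalRing.maximalIdeal (X.presheaf.stalk x) :=
      IsLocalRing.le_maximalIdeal (RingHom.ker_ne_top _) (ha j)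
    exact (mem_nonunits_iff.mp ((IsLocalRing.mem_maximalIdeal _).mp ha')) (hu.of_map (Ideal.Quotient.mk mS))
  · have h := GrothLib.SeqKinds.isQuasiRegular_map e.symm.toRingHom (RingHom.Flat.of_bijective e.symm.bijective) b hq
    convert h using 1
    funext j
    refine e.injective ?_
    show e (Ideal.Quotient.mk mS (a j)) = e (e.symm (b j))
    rw [e.apply_symm_apply, ← hab j]
    rfl

end Groth.Agent.S8896
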