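import Groth.Statements.S8897
import Groth.Agent.Lib.RegImm12.Descend
import Groth.Agent.Lib.LCI6.Koszul

set_option autoImplicit false
set_option linter.all false
set_option maxHeartbeats 1000000
set_option backward.isDefEq.respectTransparency false
set_option backward.isDefEq.respectTransparency.types false
universe u
open CategoryTheory CategoryTheory.Limits AlgebraicGeometry TopologicalSpace
open SDiv

namespace Groth.Agent.S8897

/-- Let p : X ⟶ S be smooth and let i : Y ⟶ X and j : Y ⟶ S be immersions with i ≫ p = j. If i is a
Koszul-regular (resp. H_1-regular, resp. quasi-regular) immersion, then so is j. -/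
theorem result {Y X S : Scheme.{u}} (p : X ⟶ S) [Smooth p] (i : Y ⟶ X) (j : Y ⟶ S)
    [IsImmersion i] [IsImmersion j] (h : i ≫ p = j) (k : RegImm.Kind) (hk : k ≠ RegImm.Kind.regular)
    (hi : RegImm.IsRegularImmersion k i) : RegImm.IsRegularImmersion k j := by
  refine ⟨inferInstance, fun z => ?_⟩
  by_cases hkk : k = RegImm.Kind.koszul
  · subst hkk h
    exact (GrothLib.LCI6.isRegularImmersionAt_iff_inLocus _ z).2
      ((GrothLib.LCI6.inLocus_smooth_comp_iff i p).2 ((GrothLib.LCI6.isRegularImmersionAt_iff_inLocus i z).1 (hi.2 z)))
  · refine GrothLib.RegImm12.regularAt_descend p i j h k ?_ z (hi.2 z)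
    cases k <;> first | exact absurd rfl hk | exact absurd rfl hkk | simp

end Groth.Agent.S8897
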