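import Groth.Statements.S8898
import Groth.Agent.Lib.BlowUp.Regular

set_option autoImplicit false
universe u
open CategoryTheory CategoryTheory.Limits AlgebraicGeometry TopologicalSpace
open SDiv

namespace Groth.Agent.S8898

/-- Let X be a scheme, 𝓘 a quasi-coherent ideal sheaf and b : X' ⟶ X a blowing up of X in 𝓘. Then the
pullback b⁻¹D is defined for every effective Cartier divisor D ⊆ X (the inverse image ideal of the
ideal of D is again the ideal of an effective Cartier divisor), and pullbacks of meromorphic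
functions are defined for b (b carries regular sections of O_X, i.e. sections whose germs are
nonzerodivisors, to regular sections of O_{X'}). -/
theorem result {X X' : Scheme.{u}} (𝓘 : X.IdealSheafData) (b : X' ⟶ X) (hb : BlowUp.IsBlowUp b 𝓘) :
    (∀ 𝓓 : X.IdealSheafData, BlowUp.IsEffCartierIdeal 𝓓 → BlowUp.IsEffCartierIdeal (𝓓.comap b)) ∧
      ∀ (U : X.Opens) (s : Γ(X, U)), s ∈ Mero.regSub X U → b.app U s ∈ Mero.regSub X' (b ⁻¹ᵁ U) := by
  refine ⟨fun 𝓓 h => GrothLib.BlowUp.isEffCartierIdeal_comap_blowUp hb h, fun U s hs x => ?_⟩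
  obtain ⟨U', hxU', hU'⟩ := GrothLib.BlowUp.exists_affine_mem_le (W := U) (x := b x.1) x.2
  have hs' : X.presheaf.map (homOfLE hU').op s ∈ nonZeroDivisors Γ(X, U'.1) := by
    refine GrothLib.BlowUp.mem_nonZeroDivisors_of_germ fun y hy => ?_
    erw [TopCat.Presheaf.germ_res_apply]
    exact hs ⟨y, hU' hy⟩
  obtain ⟨V, hxV, hV, hcart⟩ := GrothLib.BlowUp.exists_cartierOn_le hb.1 (W := b ⁻¹ᵁ U'.1) (x := x.1) hxU'
  have h := GrothLib.BlowUp.germ_mem_nonZeroDivisors
    (GrothLib.BlowUp.mem_nonZeroDivisors_appLE_blowUp hb hs' hV hcart) (U := V) hxV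
  have e : b.appLE U'.1 V.1 hV (X.presheaf.map (homOfLE hU').op s) =
      X'.presheaf.map (homOfLE (hV.trans fun y hy => hU' hy)).op (b.app U s) := by
    rw [← CategoryTheory.comp_apply, Scheme.Hom.map_appLE]
    rfl
  rw [e] at h
  erw [TopCat.Presheaf.germ_res_apply] at h
  exact h

end Groth.Agent.S8898
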