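import Groth.Statements.S8899
import Groth.Agent.Lib.QCoh.StalkPullback
import Mathlib.RingTheory.Flat.Basic

set_option autoImplicit false
universe u
open CategoryTheory CategoryTheory.Limits AlgebraicGeometry TopologicalSpace
open SDiv
open TensorProduct
set_option linter.all false

namespace Groth.Agent.S8899

theorem alg {A B : Type u} [CommRing A] [CommRing B] [IsLocalRing A] [IsLocalRing B] (φ : A →+* B)
    [IsLocalHom φ] (hfl : φ.Flat)
    (hgen : ∀ q : Ideal B, q.IsPrime → q.comap φ = IsLocalRing.maximalIdeal A → q = IsLocalRing.maximalIdeal B)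
    (N : ModuleCat.{u} A) (z : N)
    (hz : Ideal.radical (LinearMap.ker (LinearMap.toSpanSingleton A N z)) = IsLocalRing.maximalIdeal A) :
    ∃ w : (ModuleCat.extendScalars φ).obj N,
      Ideal.radical (LinearMap.ker (LinearMap.toSpanSingleton B ((ModuleCat.extendScalars φ).obj N) w))
        = IsLocalRing.maximalIdeal B := by
  letI := φ.toAlgebra
  haveI : Module.Flat A B := hfl
  let I : Ideal A := LinearMap.ker (LinearMap.toSpanSingleton A N z)
  refine ⟨(show B ⊗[A] N from (1 : B) ⊗ₜ[A] z), ?_⟩
  have key : LinearMap.ker (LinearMap.toSpanSingleton B ((ModuleCat.extendScalars φ).obj N)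
      (show B ⊗[A] N from (1 : B) ⊗ₜ[A] z)) = I.map φ := by
    ext b
    have hb : (LinearMap.toSpanSingleton B ((ModuleCat.extendScalars φ).obj N)
        (show B ⊗[A] N from (1 : B) ⊗ₜ[A] z)) b = (show B ⊗[A] N from b ⊗ₜ[A] z) := by
      refine (LinearMap.toSpanSingleton_apply B _ _ b).trans ?_
      change (b • ((1 : B) ⊗ₜ[A] z) : B ⊗[A] N) = (b ⊗ₜ[A] z : B ⊗[A] N)
      rw [smul_tmul', smul_eq_mul, mul_one]
    rw [LinearMap.mem_ker, hb]
    change b ⊗ₜ[A] z = 0 ↔ _
    constructor
    · intro h
      have hex := Module.Flat.lTensor_exact B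
        (LinearMap.exact_subtype_ker_map (LinearMap.toSpanSingleton A N z))
      have h' : (LinearMap.toSpanSingleton A N z).lTensor B (b ⊗ₜ[A] (1 : A)) = 0 := by
        rw [LinearMap.lTensor_tmul, LinearMap.toSpanSingleton_apply, one_smul]; exact h
      obtain ⟨t, ht⟩ := (hex _).mp h'
      have aux : ∀ t : B ⊗[A] I, TensorProduct.rid A B (I.subtype.lTensor B t) ∈ I.map φ := by
        intro t
        induction t using TensorProduct.induction_on with
        | zero => simp
        | tmul c i =>
          rw [LinearMap.lTensor_tmul, TensorProduct.rid_tmul, Submodule.subtype_apply, Algebra.smul_def]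
          exact Ideal.mul_mem_right _ _ (Ideal.mem_map_of_mem φ i.2)
        | add x y hx hy => rw [map_add, map_add]; exact add_mem hx hy
      have := aux t
      erw [ht, TensorProduct.rid_tmul, one_smul] at this
      exact this
    · intro h
      clear hb
      induction h using Submodule.span_induction with
      | mem x hx =>
        obtain ⟨i, hi, rfl⟩ := hx
        have : φ i ⊗ₜ[A] z = (1 : B) ⊗ₜ[A] (i • z) := by
          rw [← smul_tmul]; congr 1; rw [Algebra.smul_def, mul_one]; rfl
        rw [this]
        have hi' : i • z = 0 := hi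
        rw [hi', tmul_zero]
      | zero => exact zero_tmul _ _
      | add x y _ _ hx hy => exact ((add_tmul x y z).trans (congrArg₂ (· + ·) hx hy)).trans (add_zero _)
      | smul c x _ hx => exact ((smul_tmul' c x z).symm.trans (congrArg (c • ·) hx)).trans (smul_zero _)
  rw [key]
  have hI : I ≤ IsLocalRing.maximalIdeal A := hz ▸ Ideal.le_radical
  refine le_antisymm ?_ ?_
  · refine ((IsLocalRing.maximalIdeal.isMaximal B).isPrime.radical_le_iff).mpr ?_
    exact Ideal.map_le_iff_le_comap.mpr fun a ha => map_nonunit φ a (hI ha)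
  · rw [Ideal.radical_eq_sInf]
    refine le_sInf ?_
    rintro q ⟨hq, hqp⟩
    have h1 : IsLocalRing.maximalIdeal A ≤ q.comap φ := by
      rw [← hz]
      haveI := hqp
      exact (Ideal.IsPrime.radical_le_iff inferInstance).mpr (Ideal.map_le_iff_le_comap.mp hq)
    haveI := hqp
    exact (hgen q hqp (le_antisymm (IsLocalRing.le_maximalIdeal
      (Ideal.comap_ne_top _ hqp.ne_top)) h1)).ge

theorem transport {B : Type u} [CommRing B] (M : ModuleCat.{u} B) (N : ModuleCat.{u} B) (e : M ≅ N) (w : N) :
    LinearMap.ker (LinearMap.toSpanSingleton B M (e.inv.hom w)) =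
      LinearMap.ker (LinearMap.toSpanSingleton B N w) := by
  ext b
  rw [LinearMap.mem_ker, LinearMap.mem_ker, LinearMap.toSpanSingleton_apply,
    LinearMap.toSpanSingleton_apply, ← map_smul]
  exact map_eq_zero_iff _ e.toLinearEquiv.symm.injective

/-- Let f : X ⟶ S be a morphism of schemes, G a quasi-coherent O_S-module and x a point of X over s = f
x such that f is flat at x, no point of f⁻¹(s) other than x specialises to x (x is the generic point
of some irreducible component of the fibre X_s), and s is weakly associated to G. Then x is weakly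
associated to f^*G. -/
theorem result {X S : Scheme.{u}} (f : X ⟶ S) (G : S.Modules) (hG : Coh.IsQCoh G)
    (x : ↥X) (hfl : (f.stalkMap x).hom.Flat) (hgen : ∀ y : ↥X, f y = f x → y ⤳ x → y = x)
    (hs : Curv2.IsWeakAssPoint G (f x)) : Curv2.IsWeakAssPoint ((Scheme.Modules.pullback f).obj G) x := by
  obtain ⟨z, hz⟩ := hs
  obtain ⟨w, hw⟩ := alg (f.stalkMap x).hom hfl (fun q hq hc => by
    set P : PrimeSpectrum (X.presheaf.stalk x) := ⟨q, hq⟩ with hP
    have hmap : f (X.fromSpecStalk x P) = f x := by
      have e1 := congrArg (fun g : Spec (X.presheaf.stalk x) ⟶ S => g P)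
        (Scheme.SpecMap_stalkMap_fromSpecStalk f (x := x))
      have e2 : (Spec.map (f.stalkMap x)) P = IsLocalRing.closedPoint (S.presheaf.stalk (f x)) :=
        PrimeSpectrum.ext hc
      refine e1.symm.trans ?_
      exact (congrArg (S.fromSpecStalk (f x)) e2).trans Scheme.fromSpecStalk_closedPoint
    have hspec : X.fromSpecStalk x P ⤳ x := by
      have := Scheme.range_fromSpecStalk (X := X) (x := x)
      exact this.le ⟨P, rfl⟩
    have h := hgen _ hmap hspec
    have h2 : P = IsLocalRing.closedPoint (X.presheaf.stalk x) :=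
      (X.fromSpecStalk x).isEmbedding.injective (h.trans Scheme.fromSpecStalk_closedPoint.symm)
    exact congrArg PrimeSpectrum.asIdeal h2)
    ((GrothLib.OX.stalk (f x)).obj G) z hz
  let e := (GrothLib.QCoh.stalkPullbackIso f x).app G
  exact ⟨e.inv.hom w, (congrArg Ideal.radical (transport _ _ e w)).trans hw⟩

end Groth.Agent.S8899
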