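import Groth.Statements.S8900
import Groth.Agent.Lib.WeakAssField.Basic
import Groth.Agent.Lib.QCoh.StalkPullback
import Groth.Agent.Lib.AssPts.Restrict
import Groth.Agent.Lib.GenCover.TildePull
import Groth.Agent.Lib.FittSheaf.Pullback
import Groth.Agent.S12215

set_option autoImplicit false
universe u
open CategoryTheory CategoryTheory.Limits AlgebraicGeometry TopologicalSpace
open SDiv
open TensorProduct
set_option linter.all false

namespace Groth.Agent.S8900

theorem wa_linEquiv {A : Type u} [CommRing A] [IsLocalRing A] {M N : Type u} [AddCommGroup M] [Module A M]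
    [AddCommGroup N] [Module A N] (e : M ≃ₗ[A] N)
    (h : ∃ m : M, Ideal.radical (LinearMap.ker (LinearMap.toSpanSingleton A M m)) = IsLocalRing.maximalIdeal A) :
    ∃ n : N, Ideal.radical (LinearMap.ker (LinearMap.toSpanSingleton A N n)) = IsLocalRing.maximalIdeal A := by
  obtain ⟨m, hm⟩ := h
  refine ⟨e m, ?_⟩
  rw [← hm]
  congr 1
  ext a
  simp [← map_smul]

theorem wa_congr {X : Scheme.{u}} {F G : X.Modules} (e : F ≅ G) (x : X) :
    Curv2.IsWeakAssPoint F x ↔ Curv2.IsWeakAssPoint G x :=
  ⟨wa_linEquiv (GrothLib.AssPts.stalkEquiv e x), wa_linEquiv (GrothLib.AssPts.stalkEquiv e x).symm⟩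

theorem wa_extend_iff {A B : Type u} [CommRing A] [CommRing B] [IsLocalRing A] [IsLocalRing B] (ψ : A →+* B)
    (hb : Function.Bijective ψ) (N : ModuleCat.{u} A) :
    (∃ w : (ModuleCat.extendScalars ψ).obj N,
      Ideal.radical (LinearMap.ker (LinearMap.toSpanSingleton B ((ModuleCat.extendScalars ψ).obj N) w))
        = IsLocalRing.maximalIdeal B) ↔
    ∃ n : N, Ideal.radical (LinearMap.ker (LinearMap.toSpanSingleton A N n)) = IsLocalRing.maximalIdeal A := by
  letI := ψ.toAlgebra
  haveI : Module.Flat A B := RingHom.Flat.of_bijective hb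
  let φ : A ≃+* B := RingEquiv.ofBijective ψ hb
  have key : ∀ n : N, (Ideal.radical (LinearMap.ker (LinearMap.toSpanSingleton B
      ((ModuleCat.extendScalars ψ).obj N) (show B ⊗[A] N from (1 : B) ⊗ₜ n))) = IsLocalRing.maximalIdeal B) ↔
      (Ideal.radical (LinearMap.ker (LinearMap.toSpanSingleton A N n)) = IsLocalRing.maximalIdeal A) := by
    intro n
    have h1 : LinearMap.ker (LinearMap.toSpanSingleton B
        ((ModuleCat.extendScalars ψ).obj N) (show B ⊗[A] N from (1 : B) ⊗ₜ n)) =
        (⊥ : Submodule B (B ⊗[A] N)).colon {(1 : B) ⊗ₜ n} :=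
      Ideal.ext fun b => LinearMap.mem_ker.trans
        ((Submodule.mem_bot B).symm.trans Submodule.mem_colon_singleton.symm)
    have h2 : LinearMap.ker (LinearMap.toSpanSingleton A N n) = (⊥ : Submodule A N).colon {n} :=
      Ideal.ext fun b => LinearMap.mem_ker.trans
        ((Submodule.mem_bot A).symm.trans Submodule.mem_colon_singleton.symm)
    rw [h1, h2, GrothLib.WeakAssField.colon_one_tmul]
    set I : Ideal A := (⊥ : Submodule A N).colon {n}
    have hmap : ∀ J : Ideal A, J.map (algebraMap A B) = J.comap φ.symm := fun J => Ideal.map_comap_of_equiv φ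
    rw [hmap, ← Ideal.comap_radical]
    have hm : (IsLocalRing.maximalIdeal A).comap φ.symm = IsLocalRing.maximalIdeal B := by
      ext b; simp [IsLocalRing.mem_maximalIdeal]
    rw [← hm]
    exact ⟨fun h => Ideal.comap_injective_of_surjective _ φ.symm.surjective h, fun h => by rw [h]⟩
  constructor
  · rintro ⟨w, hw⟩
    obtain ⟨n, hn⟩ : ∃ n : N, (show B ⊗[A] N from w) = (1 : B) ⊗ₜ n := by
      suffices ∀ t : B ⊗[A] N, ∃ n : N, t = (1 : B) ⊗ₜ n from this _
      intro t
      induction t using TensorProduct.induction_on with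
      | zero => exact ⟨0, (tmul_zero _ _).symm⟩
      | tmul b n =>
        obtain ⟨a, rfl⟩ := hb.2 b
        refine ⟨a • n, ?_⟩
        rw [← smul_tmul, Algebra.smul_def, mul_one]
        rfl
      | add u v hu hv =>
        obtain ⟨m, rfl⟩ := hu
        obtain ⟨m', rfl⟩ := hv
        exact ⟨m + m', (tmul_add _ _ _).symm⟩
    exact ⟨n, (key n).mp (hn ▸ hw)⟩
  · rintro ⟨n, hn⟩
    exact ⟨_, (key n).mpr hn⟩

theorem wa_pullback_iff {X S : Scheme.{u}} (f : X ⟶ S) (G : S.Modules) (x : X) [IsIso (f.stalkMap x)] :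
    Curv2.IsWeakAssPoint ((Scheme.Modules.pullback f).obj G) x ↔ Curv2.IsWeakAssPoint G (f x) := by
  let e := ((GrothLib.QCoh.stalkPullbackIso f x).app G).toLinearEquiv
  exact Iff.trans ⟨wa_linEquiv e, wa_linEquiv e.symm⟩
    (wa_extend_iff (f.stalkMap x).hom (asIso (f.stalkMap x)).commRingCatIsoToRingEquiv.bijective
      ((GrothLib.OX.stalk (f x)).obj G))

/-- Let K/k be an extension of fields, X a scheme over k, F a quasi-coherent O_X-module, and y a point
of X_K = X ×_k Spec K with image x in X. If y is weakly associated to the pullback of F to X_K, then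
x is weakly associated to F. -/
theorem result (k : Type u) [Field k] (K : Type u) [Field K] [Algebra k K] (X : Scheme.{u})
    [X.Over (Spec (CommRingCat.of k))] (F : X.Modules) (hF : Coh.IsQCoh F) (y : ↥(Curv2.bc k X K))
    (hy : Curv2.IsWeakAssPoint ((Scheme.Modules.pullback (Curv2.bcFst k X K)).obj F) y) :
    Curv2.IsWeakAssPoint F (Curv2.bcFst k X K y) := by
  haveI : F.IsQuasicoherent := hF
  obtain ⟨U, hU, hxU, -⟩ := exists_isAffineOpen_mem_and_subset (x := Curv2.bcFst k X K y) (U := ⊤) trivial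
  let A : CommRingCat.{u} := Γ(X, U)
  let φ : Spec A ⟶ X := hU.fromSpec
  let σ : CommRingCat.of k ⟶ A := Spec.preimage (φ ≫ (X ↘ Spec (CommRingCat.of k)))
  letI : Algebra k A := σ.hom.toAlgebra
  have hσ : φ ≫ (X ↘ Spec (CommRingCat.of k)) = Spec.map (CommRingCat.ofHom (algebraMap k A)) :=
    (Spec.map_preimage _).symm
  let e : Spec (.of (A ⊗[k] K)) ≅ pullback φ (Curv2.bcFst k X K) :=
    (pullbackSpecIso k A K).symm ≪≫ pullback.congrHom hσ.symm rfl ≪≫
      (pullbackRightPullbackFstIso (X ↘ Spec (CommRingCat.of k)) (Spec.map (CommRingCat.ofHom (algebraMap k K))) φ).symm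
  let q : Spec (.of (A ⊗[k] K)) ⟶ Curv2.bc k X K := e.hom ≫ pullback.snd _ _
  have : IsOpenImmersion q := inferInstance
  let ι : Spec (.of (A ⊗[k] K)) ⟶ Spec A :=
    Spec.map (CommRingCat.ofHom (Algebra.TensorProduct.includeLeftRingHom : A →+* A ⊗[k] K))
  have hcomp : q ≫ Curv2.bcFst k X K = ι ≫ φ := by
    rw [Category.assoc, ← pullback.condition, ← Category.assoc]
    congr 1
    dsimp only [Curv2.bcFst]
    simp only [e, Iso.trans_hom, Iso.symm_hom, Category.assoc, pullbackRightPullbackFstIso_inv_fst,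
      pullback.congrHom_hom, pullback.map, pullback.lift_fst, Category.comp_id]
    exact pullbackSpecIso_inv_fst k A K
  obtain ⟨z, rfl⟩ : y ∈ Set.range q := by
    have hr : Set.range (pullback.snd φ (Curv2.bcFst k X K)) = (Curv2.bcFst k X K) ⁻¹' Set.range φ :=
      Scheme.Pullback.range_snd _ _
    have hy' : y ∈ Set.range (pullback.snd φ (Curv2.bcFst k X K)) := by
      rw [hr]; exact hU.range_fromSpec.ge hxU
    obtain ⟨w, hw⟩ := hy'
    exact ⟨e.inv w, by
      show (e.inv ≫ e.hom ≫ pullback.snd _ _) w = y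
      rw [Iso.inv_hom_id_assoc, hw]⟩
  have hz := (wa_pullback_iff q _ z).mpr hy
  let M := (Scheme.Modules.pullback φ).obj F
  haveI : M.IsQuasicoherent := GrothLib.FittSheaf.isQuasicoherent_pullback φ F
  haveI := (isQuasicoherent_iff_isIso_fromTildeΓ M).1 inferInstance
  let P : ModuleCat.{u} A := moduleSpecΓFunctor.obj M
  let φ' : A ⟶ CommRingCat.of (A ⊗[k] K) := CommRingCat.ofHom Algebra.TensorProduct.includeLeftRingHom
  let eM : (Scheme.Modules.pullback q).obj ((Scheme.Modules.pullback (Curv2.bcFst k X K)).obj F) ≅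
      tilde ((ModuleCat.extendScalars φ'.hom).obj P) :=
    (Scheme.Modules.pullbackComp _ _).app F ≪≫ (Scheme.Modules.pullbackCongr hcomp).app F ≪≫
      ((Scheme.Modules.pullbackComp _ _).app F).symm ≪≫
      (Scheme.Modules.pullback ι).mapIso (asIso M.fromTildeΓ).symm ≪≫
      (GrothLib.GenCover.pullTildeIso φ').app P
  have hz2 := (Groth.Agent.S12215.result _ _ z).mpr ((wa_congr eM z).mp hz)
  have hgood : GrothLib.WeakAssField.Good φ'.hom := by
    have h := (GrothLib.WeakAssField.good_incl (k := k) (K := K) (A := A)).comp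
      (GrothLib.WeakAssField.good_ringEquiv (Algebra.TensorProduct.comm k K A).toRingEquiv)
    convert h using 1
    refine RingHom.ext fun a => ?_
    simp [φ']
  have h3 : (ι z).asIdeal ∈ FlatCA.weakAss A P := hgood P _ hz2
  have h4 := (Groth.Agent.S12215.result A P (ι z)).mp h3
  have h5 := (wa_congr (asIso M.fromTildeΓ) (ι z)).mp h4
  have h6 := (wa_pullback_iff φ F (ι z)).mp h5
  have hpt : φ (ι z) = Curv2.bcFst k X K (q z) := by
    rw [← Scheme.Hom.comp_apply, ← Scheme.Hom.comp_apply, hcomp]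
  rwa [hpt] at h6

end Groth.Agent.S8900
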