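import Groth.Statements.S8901
import Groth.Agent.Lib.Mero.Regular

set_option autoImplicit false
universe u
open CategoryTheory CategoryTheory.Limits AlgebraicGeometry TopologicalSpace
open SDiv

namespace Groth.Agent.S8901

/-- Let f : X ⟶ Y be a morphism of schemes under which each weakly associated point of X (of O_X) goes
to a point of Y with no proper generization (the generic point of some irreducible component of Y).
Then pullbacks of meromorphic functions are defined for f: for every open U ⊆ Y and every regular
section s of O_Y over U, the pulled-back section of O_X over f⁻¹U is regular. -/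
theorem result {X Y : Scheme.{u}} (f : X ⟶ Y)
    (h : ∀ x : ↥X, Curv2.IsWeakAssPoint (Coh.structureModule X) x → ∀ y : ↥Y, y ⤳ f x → y = f x)
    (U : Y.Opens) (s : Γ(Y, U)) (hs : s ∈ Mero.regSub Y U) : f.app U s ∈ Mero.regSub X (f ⁻¹ᵁ U) := by
  rw [GrothLib.Mero.regSub_iff]
  intro x hx hwa
  rw [← Scheme.preimage_basicOpen]
  show f x ∈ Y.basicOpen s
  obtain ⟨V, hyV, hVU⟩ := GrothLib.BlowUp.exists_affine_mem_le (show f x ∈ U from hx)
  have : f x ∈ Y.basicOpen (Y.presheaf.map (homOfLE hVU).op s) := by
    rw [← GrothLib.WeakAss.notMem_primeAt_iff (hx := hyV)]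
    intro hmem
    have hnzd : Y.presheaf.map (homOfLE hVU).op s ∈ nonZeroDivisors Γ(Y, V.1) := by
      rw [← GrothLib.Mero.regSub_eq_nonZeroDivisors V]
      exact Mero.regSub_res (homOfLE hVU) hs
    refine notMem_nonZeroDivisors_of_mem_mem_minimalPrimes hmem
      ⟨⟨inferInstance, bot_le⟩, fun q hq hqp => ?_⟩ hnzd
    obtain ⟨z, hz, rfl⟩ := GrothLib.AssPts.exists_point V.2 q hq.1
    have hzy : z ⤳ f x := (GrothLib.AssPts.specializes_iff V.2 hz hyV).2 hqp
    obtain rfl := h x hwa z hzy
    exact le_rfl
  rw [Scheme.basicOpen_res] at this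
  exact this.2

end Groth.Agent.S8901
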