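import Groth.Statements.S8902
import Groth.Agent.Lib.BlowUp.EffCartier

set_option autoImplicit false
universe u
open CategoryTheory CategoryTheory.Limits AlgebraicGeometry TopologicalSpace
open SDiv

namespace Groth.Agent.S8902

/-- Let f : X ⟶ Y be a flat morphism of schemes. Then pullbacks of meromorphic functions are defined for
f: for every open U ⊆ Y and every regular section s of O_Y over U, the pulled-back section of O_X
over f⁻¹U is regular. -/
theorem result {X Y : Scheme.{u}} (f : X ⟶ Y) [Flat f] (U : Y.Opens) (s : Γ(Y, U))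
    (hs : s ∈ Mero.regSub Y U) : f.app U s ∈ Mero.regSub X (f ⁻¹ᵁ U) := by
  intro x
  have hy := hs ⟨f x.1, x.2⟩
  have hfl := Flat.stalkMap f x.1
  have h2 : (f.stalkMap x.1).hom (Y.presheaf.germ U (f x.1) x.2 s) ∈ nonZeroDivisors (X.presheaf.stalk x.1) := by
    algebraize [(f.stalkMap x.1).hom]
    have := GrothLib.BlowUp.mem_nonZeroDivisors_of_flat (f.stalkMap x.1).hom hfl hy
    exact this
  erw [Scheme.Hom.germ_stalkMap_apply] at h2
  exact h2

end Groth.Agent.S8902
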