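import Groth.Statements.S8906
import Groth.Agent.Lib.SeqKinds.Basic
import Groth.Agent.Lib.RegSeqLoc.BaseChange
import Mathlib.RingTheory.Regular.Flat

set_option autoImplicit false
set_option linter.all false
universe u
open CategoryTheory CategoryTheory.Limits AlgebraicGeometry TopologicalSpace
open SDiv

namespace Groth.Agent.S8906

/-- Let i : Z ⟶ X be an immersion which is regular of one of the four kinds (regular, Koszul-regular,
H_1-regular or quasi-regular) and g : X' ⟶ X a flat morphism. Then the base change Z ×_X X' ⟶ X' of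
i is a regular immersion of the same kind. -/
theorem result {Z X X' : Scheme.{u}} (i : Z ⟶ X) (k : RegImm.Kind)
    (hi : RegImm.IsRegularImmersion k i) (g : X' ⟶ X) [Flat g] :
    RegImm.IsRegularImmersion k (pullback.snd i g) := by
  haveI : IsImmersion i := hi.1
  refine ⟨MorphismProperty.of_isPullback (IsPullback.of_hasPullback i g) hi.1, fun y' => ?_⟩
  obtain ⟨U, hzU, hci, rs, hrs, hI⟩ := hi.2 (pullback.fst i g y')
  refine GrothLib.RegSeqLoc.exists_equations_of_isPullback (IsPullback.of_hasPullback i g) U hci rs hI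
    (fun R _ l => k.Seq R l) ?_ hrs y' hzU
  intro R S _ _ φ l hφ hl hne
  have hget : ∀ (P : ∀ {c : ℕ}, (Fin c → S) → Prop), P (φ ∘ l.get) → P (l.map φ).get := by
    intro P h
    have : ∀ (c : ℕ) (hc : c = l.length), P (φ ∘ l.get ∘ Fin.cast hc) := by
      rintro c rfl; exact h
    have e : (l.map φ).get = φ ∘ l.get ∘ Fin.cast (List.length_map φ) := by
      funext j; simp
    rw [e]; exact this _ _
  cases k with
  | regular =>
    letI := φ.toAlgebra
    haveI : Module.Flat R S := hφ
    refine ⟨RingTheory.Sequence.IsWeaklyRegular.of_flat hl.toIsWeaklyRegular, ?_⟩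
    simpa [eq_comm] using hne
  | koszul => exact GrothLib.KoszulColon.isKoszulRegularSeq_map φ hφ l hl
  | h1 => exact hget CAlgX.IsH1Regular (GrothLib.SeqKinds.isH1Regular_map φ hφ _ hl)
  | quasi => exact hget CAlgX.IsQuasiRegular (GrothLib.SeqKinds.isQuasiRegular_map φ hφ _ hl)

end Groth.Agent.S8906
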