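import Groth.Statements.S8908
import Groth.Agent.Lib.NoEmb12.Basic

set_option autoImplicit false
set_option linter.all false
set_option backward.isDefEq.respectTransparency false
universe u
open CategoryTheory CategoryTheory.Limits AlgebraicGeometry TopologicalSpace
open SDiv

namespace Groth.Agent.S8908

/-- Let X be a locally Noetherian scheme and F a coherent O_X-module. The coherent subsheaves K ⊆ F
whose support is nowhere dense in Supp(F) have a largest element K. Setting F' = F/K: (1) Supp(F') =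
Supp(F); (2) F' has no embedded associated points; (3) there is a dense open U ⊆ X with U ∩ Supp(F)
dense in Supp(F) over which the quotient map F → F' restricts to an isomorphism. -/
theorem result (X : Scheme.{u}) [IsLocallyNoetherian X] (F : X.Modules)
    (hF : Coh.IsCoh F) :
    ∃ K : Subobject F, Coh.IsCoh (K : X.Modules) ∧
      (∀ U : X.Opens, (U : Set ↥X) ∩ CohB1.support F ⊆ CohB1.support (K : X.Modules) → (U : Set ↥X) ∩ CohB1.support F = ∅) ∧
      (∀ K' : Subobject F, Coh.IsCoh (K' : X.Modules) →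
        (∀ U : X.Opens, (U : Set ↥X) ∩ CohB1.support F ⊆ CohB1.support (K' : X.Modules) → (U : Set ↥X) ∩ CohB1.support F = ∅) →
        K' ≤ K) ∧
      CohB1.support (cokernel K.arrow) = CohB1.support F ∧
      (∀ x : ↥X, Curv2.IsAssPoint (cokernel K.arrow) x → ∀ y : ↥X, Curv2.IsAssPoint (cokernel K.arrow) y → y ⤳ x → y = x) ∧
      ∃ U : X.Opens, Dense (U : Set ↥X) ∧ CohB1.support F ⊆ closure ((U : Set ↥X) ∩ CohB1.support F) ∧
        IsIso ((Scheme.Modules.restrictFunctor U.ι).map (cokernel.π K.arrow)) := by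
  let P := GrothLib.NoEmb12.genZero F
  haveI : Mono P.ι := GrothLib.Primary.mono_ι P
  have hP := GrothLib.NoEmb12.genZero_isCoh F hF
  let K := Subobject.mk P.ι
  let eK : (K : X.Modules) ≅ P.obj := Subobject.underlyingIso P.ι
  have harr : K.arrow = eK.hom ≫ P.ι := (Subobject.underlyingIso_hom_comp_eq_mk P.ι).symm
  let e : cokernel K.arrow ≅ cokernel P.ι :=
    cokernel.mapIso K.arrow P.ι eK (Iso.refl F) (by rw [Iso.refl_hom, Category.comp_id, harr])
  have hπ : cokernel.π K.arrow ≫ e.hom = cokernel.π P.ι := by simp [e]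
  have hsupp : CohB1.support (K : X.Modules) = CohB1.support P.obj := GrothLib.QCoh.support_eq_of_iso eK
  refine ⟨K, GrothLib.QCoh.isCoh_of_iso eK.symm hP, fun U hU => ?_, fun K' hK' hd => ?_, ?_,
    fun x hx y hy hyx => ?_, ?_⟩
  · rw [hsupp] at hU
    exact GrothLib.NoEmb12.nowhereDense_genZero F hF U hU
  · have h0 := GrothLib.NoEmb12.comp_π_eq_zero F K'.arrow
      fun η hη => GrothLib.NoEmb12.maxPt_notMem_support F hF hK' hd hη
    refine Subobject.le_mk_of_comm (Abelian.monoLift P.ι K'.arrow h0) ?_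
    exact Abelian.monoLift_comp P.ι K'.arrow h0
  · exact (GrothLib.QCoh.support_eq_of_iso e).trans (GrothLib.NoEmb12.support_cokernel F hF)
  · have hx' := GrothLib.NoEmb12.ass_cokernel_subset F hF ((GrothLib.AssPts.isAssPoint_congr e x).mp hx)
    have hy' := GrothLib.NoEmb12.ass_cokernel_subset F hF ((GrothLib.AssPts.isAssPoint_congr e y).mp hy)
    exact hx'.2 y hy'.1 hyx
  · have hc := GrothLib.QCoh.isClosed_support_of_isCoh hP
    have key : ∀ W : X.Opens, ((W : Set ↥X) ∩ (CohB1.support P.obj)ᶜ ∩ CohB1.support F = ∅) →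
        (W : Set ↥X) ∩ CohB1.support F = ∅ := fun W h =>
      GrothLib.NoEmb12.nowhereDense_genZero F hF W fun x hx => by
        by_contra hn
        exact Set.eq_empty_iff_forall_notMem.1 h x ⟨⟨hx.1, hn⟩, hx.2⟩
    refine ⟨⟨_, hc.isOpen_compl⟩, dense_iff_inter_open.2 fun W hWo hWne => ?_, fun x hx => ?_, ?_⟩
    · by_contra hne
      rw [Set.not_nonempty_iff_eq_empty] at hne
      obtain ⟨x, hx⟩ := hWne
      have hxs : x ∈ CohB1.support P.obj := by
        by_contra hn
        exact Set.eq_empty_iff_forall_notMem.1 hne x ⟨hx, hn⟩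
      exact Set.eq_empty_iff_forall_notMem.1 (key ⟨W, hWo⟩ (Set.subset_empty_iff.1 (hne ▸ fun y hy => hy.1))) x
        ⟨hx, GrothLib.QCoh.support_subset_of_mono P.ι hxs⟩
    · refine mem_closure_iff.2 fun W hWo hxW => ?_
      by_contra hne
      rw [Set.not_nonempty_iff_eq_empty] at hne
      refine Set.eq_empty_iff_forall_notMem.1 (key ⟨W, hWo⟩ ?_) x ⟨hxW, hx⟩
      rw [← hne, Set.inter_assoc]; rfl
    · haveI := GrothLib.NoEmb12.isIso_restrict_π F hP.1 ⟨_, hc.isOpen_compl⟩ fun x hx => hx
      rw [show cokernel.π K.arrow = cokernel.π P.ι ≫ e.inv from (Iso.eq_comp_inv e).2 hπ, Functor.map_comp]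
      infer_instance

end Groth.Agent.S8908
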