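import Groth.Statements.S8915
import Groth.Agent.Lib.OmegaSheaf.Basic
import Groth.Agent.Lib.FittSheaf.Basic
import Groth.Agent.Lib.Fitting.Support
import Mathlib.AlgebraicGeometry.Morphisms.FormallyUnramified

set_option autoImplicit false
set_option linter.all false
universe u
open CategoryTheory CategoryTheory.Limits AlgebraicGeometry TopologicalSpace
open SDiv

namespace Groth.Agent.S8915

/-- Let f : X ⟶ S be locally of finite type and quasi-separated. Then the closed subset of X defined by
the Fitting ideal Fit_0(Ω_{X/S}) is exactly the set of points at which f is not unramified, i.e.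
which have no open neighbourhood on which f is formally unramified. The published statement does not
assume f quasi-separated; this row does, because the module Ω_{X/S} used here is defined for
quasi-separated f. -/
theorem result {X S : Scheme.{u}} (f : X ⟶ S) [LocallyOfFiniteType f] [QuasiSeparated f]
    (x : ↥X) :
    x ∈ (Fitt.sheafIdeal (Omega.sheaf f) 0).support ↔ ¬ ∃ U : X.Opens, x ∈ U ∧ FormallyUnramified (U.ι ≫ f) := by
  haveI := GrothLib.OmegaSheaf.isQuasicoherent_sheaf f
  have hM := GrothLib.OmegaSheaf.isFT_sheaf f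
  -- unramifiedness on an affine piece
  have haff : ∀ (U : X.affineOpens) (V : S.affineOpens) (hUV : U.1 ≤ f ⁻¹ᵁ V.1),
      FormallyUnramified (U.1.ι ≫ f) ↔ Fitt.ideal Γ(X, U.1) Γ(Omega.sheaf f, U.1) 0 = ⊤ := by
    intro U V hUV
    letI := (f.appLE V.1 U.1 hUV).hom.toAlgebra
    obtain ⟨e⟩ := GrothLib.OmegaSheaf.nonempty_sections_equiv f U.2 V.2 hUV
    haveI := GrothLib.FittSheaf.finite_sections hM U
    have h1 : FormallyUnramified (U.1.ι ≫ f) ↔ (f.appLE V.1 U.1 hUV).hom.FormallyUnramified := by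
      rw [show FormallyUnramified (U.1.ι ≫ f) ↔ FormallyUnramified (U.2.isoSpec.inv ≫ (U.1.ι ≫ f)) from
          ⟨fun h => MorphismProperty.comp_mem @FormallyUnramified _ _ inferInstance h, fun h => by
            have := MorphismProperty.comp_mem @FormallyUnramified U.2.isoSpec.hom _ inferInstance h
            rwa [Iso.hom_inv_id_assoc] at this⟩,
        ← Category.assoc, show U.2.isoSpec.inv ≫ U.1.ι = U.2.fromSpec from rfl,
        ← IsAffineOpen.SpecMap_appLE_fromSpec f V.2 U.2 hUV,
        ← HasRingHomProperty.Spec_iff (P := @FormallyUnramified)]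
      exact ⟨fun h => FormallyUnramified.of_comp _ V.2.fromSpec,
        fun h => haveI := V.2.isOpenImmersion_fromSpec; MorphismProperty.comp_mem @FormallyUnramified _ _ h inferInstance⟩
    have h2 : (f.appLE V.1 U.1 hUV).hom.FormallyUnramified ↔ Subsingleton Γ(Omega.sheaf f, U.1) := by
      rw [e.toEquiv.subsingleton_congr]
      exact Algebra.formallyUnramified_iff _ _
    rw [h1, h2]
    constructor
    · intro h
      exact GrothLib.Fitting.ideal_eq_top_of_le (n := 0) Fin.elim0 (Subsingleton.elim _ _) le_rfl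
    · intro h
      have := GrothLib.Fitting.ideal_zero_le_annihilator (R := Γ(X, U.1)) (M := Γ(Omega.sheaf f, U.1))
      rw [h, top_le_iff, Module.annihilator_eq_top_iff] at this
      exact this
  obtain ⟨V, hV, hxV, -⟩ := exists_isAffineOpen_mem_and_subset (Opens.mem_top (f.base x))
  rw [iff_not_comm]
  constructor
  · rintro ⟨W, hxW, hW⟩
    obtain ⟨U, hU, hxU, hUW⟩ :=
      exists_isAffineOpen_mem_and_subset (U := f ⁻¹ᵁ V ⊓ W) (x := x) ⟨hxV, hxW⟩
    have hUV : U ≤ f ⁻¹ᵁ V := fun z hz => (hUW hz).1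
    have hUW' : U ≤ W := fun z hz => (hUW hz).2
    have : FormallyUnramified (U.ι ≫ f) := by
      rw [← X.homOfLE_ι hUW', Category.assoc]
      exact MorphismProperty.comp_mem @FormallyUnramified _ _ inferInstance hW
    rw [GrothLib.FittSheaf.notMem_support_iff_not_le hM 0 ⟨U, hU⟩ hxU,
      (haff ⟨U, hU⟩ ⟨V, hV⟩ hUV).mp this, top_le_iff]
    exact Ideal.IsPrime.ne_top inferInstance
  · intro hx
    obtain ⟨U, hU, hxU, hUV⟩ := exists_isAffineOpen_mem_and_subset (U := f ⁻¹ᵁ V) (x := x) hxV
    rw [GrothLib.FittSheaf.notMem_support_iff_not_le hM 0 ⟨U, hU⟩ hxU, SetLike.not_le_iff_exists] at hx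
    obtain ⟨r, hr, hr'⟩ := hx
    refine ⟨X.basicOpen r, GrothLib.WeakAss.notMem_primeAt_iff.mp hr', ?_⟩
    refine (haff (X.affineBasicOpen (U := ⟨U, hU⟩) r) ⟨V, hV⟩ ((X.basicOpen_le r).trans hUV)).mpr ?_
    rw [← GrothLib.FittSheaf.map_ideal_basicOpen hM 0 ⟨U, hU⟩ r]
    refine (Ideal.eq_top_iff_one _).mpr ?_
    have hu : IsUnit ((X.presheaf.map (homOfLE <| X.basicOpen_le r).op).hom r) :=
      RingedSpace.isUnit_res_basicOpen _ r
    have := Ideal.mem_map_of_mem (X.presheaf.map (homOfLE <| X.basicOpen_le r).op).hom hr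
    obtain ⟨v, hv⟩ := hu.exists_left_inv
    rw [← hv]
    exact Ideal.mul_mem_left _ v this

end Groth.Agent.S8915
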