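import Groth.Statements.S9367
import Groth.Agent.Lib.RelGCIReg.Local
import Groth.Agent.Lib.FibreDimAt6.GCI

set_option autoImplicit false
universe u
open Synt

namespace Groth.Agent.S9367


open AlgebraicGeometry CategoryTheory

theorem fibreDimAt_openImmersion {X S Z T : Scheme.{u}} (f : X ⟶ S) (g : Z ⟶ T) (j : Z ⟶ X) [IsOpenImmersion j]
    (i : T ⟶ S) [IsOpenImmersion i] (h : j ≫ f = g ≫ i) (q : Z) :
    FlatMor.fibreDimAt f (j q) = FlatMor.fibreDimAt g q := by
  have hfj : ∀ z, f (j z) = i (g z) := fun z => by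
    rw [← Scheme.Hom.comp_apply, h]
    rfl
  refine le_antisymm ?_ ?_
  · obtain ⟨U', hq, hU'⟩ := GrothLib.FibreDimAt6.fibreDimAt_attained g q
    refine le_trans (GrothLib.FibreDimAt6.fibreDimAt_le_of_open f (j q) (j ''ᵁ U') ⟨q, hq, rfl⟩) ?_
    rw [← hU']
    refine le_of_eq (GrothLib.Dim.IsEmbedding.topologicalKrullDim_eq
      (f := fun z : ((U' : Set Z) ∩ g ⁻¹' {g q} : Set Z) => j z.1)
      (j.isEmbedding.comp Topology.IsEmbedding.subtypeVal) ?_).symm
    ext x
    constructor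
    · rintro ⟨⟨z, hz, hgz⟩, rfl⟩
      refine ⟨⟨z, hz, rfl⟩, ?_⟩
      show f (j z) = f (j q)
      rw [hfj, hfj, show g z = g q from hgz]
    · rintro ⟨⟨z, hz, rfl⟩, hx⟩
      exact ⟨⟨z, hz, i.isOpenEmbedding.injective ((hfj z).symm.trans (hx.trans (hfj q)))⟩, rfl⟩
  · obtain ⟨U, hU1, hU⟩ := GrothLib.FibreDimAt6.fibreDimAt_attained f (j q)
    refine le_trans (GrothLib.FibreDimAt6.fibreDimAt_le_of_open g q (j ⁻¹ᵁ U) hU1) ?_
    rw [← hU]
    refine (Topology.IsEmbedding.codRestrict (j.isEmbedding.comp Topology.IsEmbedding.subtypeVal)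
      ((U : Set X) ∩ f ⁻¹' {f (j q)}) fun z : ((j ⁻¹ᵁ U : Set Z) ∩ g ⁻¹' {g q} : Set Z) =>
        ⟨z.2.1, ?_⟩).isInducing.topologicalKrullDim_le
    show f (j z.1) = f (j q)
    rw [hfj, hfj, show g z.1 = g q from z.2.2]

theorem result {X S : Scheme.{u}} (f : X ⟶ S) (hf : Synt.IsSyntomicMor f) :
    IsLocallyConstant (fun x : ↑X => FlatMor.fibreDimAt f x) := by
  refine (IsLocallyConstant.iff_exists_open _).mpr fun x => ?_
  obtain ⟨U, V, e, hx, hs⟩ := hf x
  letI := (f.appLE V.1 U.1 e).hom.toAlgebra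
  obtain ⟨q, hq⟩ := U.2.range_fromSpec.symm.subset hx
  obtain ⟨g, hg, n, c, F, hF, ⟨eA⟩⟩ := GrothLib.RelGCIReg.exists_relGCI_away hs q.asIdeal
  let R := Γ(S, V.1)
  let A := Γ(X, U.1)
  let P := Synt.RelGCIRing R n c F
  let ε : CommRingCat.of P ≅ CommRingCat.of (Localization.Away g) := eA.symm.toRingEquiv.toCommRingCatIso
  let ℓ : Spec (CommRingCat.of (Localization.Away g)) ⟶ Spec A :=
    Spec.map (CommRingCat.ofHom (algebraMap A (Localization.Away g)))
  haveI : IsOpenImmersion ℓ := IsOpenImmersion.of_isLocalization g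
  let j : Spec (CommRingCat.of P) ⟶ X := Spec.map ε.inv ≫ ℓ ≫ U.2.fromSpec
  have hsq : U.2.fromSpec ≫ f = Spec.map (CommRingCat.ofHom (algebraMap R A)) ≫ V.2.fromSpec :=
    (V.2.SpecMap_appLE_fromSpec f U.2 e).symm
  have h : j ≫ f = Spec.map (CommRingCat.ofHom (algebraMap R P)) ≫ V.2.fromSpec := by
    simp only [j, Category.assoc, hsq]
    rw [← Category.assoc ℓ, ← Spec.map_comp, ← Category.assoc, ← Spec.map_comp]
    congr 2
    ext r
    show eA (algebraMap A (Localization.Away g) (algebraMap R A r)) = algebraMap R P r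
    rw [← IsScalarTower.algebraMap_apply]
    exact eA.commutes r
  refine ⟨j.opensRange, j.opensRange.2, ?_, ?_⟩
  · obtain ⟨z, hz⟩ := (PrimeSpectrum.localization_away_comap_range (Localization.Away g) g).symm.subset
      (show q ∈ (PrimeSpectrum.basicOpen g : Set (PrimeSpectrum A)) from hg)
    haveI : IsIso (Spec.map ε.inv) := inferInstance
    obtain ⟨w, hw⟩ := (Spec.map ε.inv).surjective z
    refine ⟨w, ?_⟩
    show U.2.fromSpec (ℓ (Spec.map ε.inv w)) = x
    rw [hw, ← hq]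
    exact congrArg _ hz
  · rintro _ ⟨w, rfl⟩
    obtain ⟨w', hw'⟩ : x ∈ j.opensRange := by
      obtain ⟨z, hz⟩ := (PrimeSpectrum.localization_away_comap_range (Localization.Away g) g).symm.subset
        (show q ∈ (PrimeSpectrum.basicOpen g : Set (PrimeSpectrum A)) from hg)
      obtain ⟨w, hw⟩ := (Spec.map ε.inv).surjective z
      refine ⟨w, ?_⟩
      show U.2.fromSpec (ℓ (Spec.map ε.inv w)) = x
      rw [hw, ← hq]
      exact congrArg _ hz
    show FlatMor.fibreDimAt f (j w) = FlatMor.fibreDimAt f x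
    rw [← hw', fibreDimAt_openImmersion f _ j V.2.fromSpec h, fibreDimAt_openImmersion f _ j V.2.fromSpec h,
      GrothLib.FibreDimAt6.fibreDimAt_relGCI _ _ _ F hF, GrothLib.FibreDimAt6.fibreDimAt_relGCI _ _ _ F hF]

end Groth.Agent.S9367
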