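import Groth.Statements.S8916
import Groth.Agent.S16253
import Groth.Agent.S2156
import Groth.Agent.S2768
import Groth.Agent.S9367
import Groth.Agent.Lib.JacLocus.Fibre
import Groth.Agent.Lib.CodimExt27.Basic
import Mathlib.AlgebraicGeometry.Morphisms.Smooth

set_option autoImplicit false
set_option linter.all false
set_option backward.isDefEq.respectTransparency false
universe u
open CategoryTheory CategoryTheory.Limits AlgebraicGeometry TopologicalSpace
open SDiv

namespace Groth.Agent.S8916

/-- Let f : X ⟶ S be flat, locally of finite presentation and quasi-separated, and d ≥ 0 such that all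
irreducible components of each nonempty fibre of f have dimension d. Then the closed subset of X
defined by the Fitting ideal Fit_d(Ω_{X/S}) is exactly the set of points at which f is not smooth,
i.e. which have no open neighbourhood on which f is smooth. The published statement does not assume
f quasi-separated; this row does, because the module Ω_{X/S} used here is defined for
quasi-separated f. -/
theorem result {X S : Scheme.{u}} (f : X ⟶ S) [Flat f] [LocallyOfFinitePresentation f] [QuasiSeparated f]
    (d : ℕ) (hdim : ∀ s : ↥S, ∀ T ∈ irreducibleComponents ↥(f.fiber s), topologicalKrullDim ↥T = d) (x : ↥X) :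
    x ∈ (Fitt.sheafIdeal (Omega.sheaf f) d).support ↔ ¬ ∃ U : X.Opens, x ∈ U ∧ Smooth (U.ι ≫ f) := by
  haveI : LocallyOfFiniteType (f.fiberToSpecResidueField (f x)) :=
    MorphismProperty.pullback_snd _ _ inferInstance
  have hf : FlatMor.fibreDimAt f x = (d : WithBot ℕ∞) :=
    GrothLib.CodimExt27.localDim_eq_of_pure (f.fiberToSpecResidueField (f x)) (hdim (f x)) (f.asFiber x)
  have hopen : ∀ (U : X.Opens) (z : U.toScheme), FlatMor.fibreDimAt f (U.ι z) = FlatMor.fibreDimAt (U.ι ≫ f) z :=
    fun U z => Groth.Agent.S9367.fibreDimAt_openImmersion f (U.ι ≫ f) U.ι (𝟙 S) (Category.comp_id _).symm z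
  rw [iff_not_comm]
  constructor
  · rintro ⟨U, hxU, hU⟩
    haveI := hU
    obtain ⟨V, hV, W, hW, hzW, hWV, hsm⟩ := Smooth.exists_isStandardSmooth (U.ι ≫ f) ⟨x, hxU⟩
    letI := ((U.ι ≫ f).appLE V W hWV).hom.toAlgebra
    obtain ⟨ι, σ, _, _, ⟨P⟩⟩ := hsm.out
    let n := P.dimension
    haveI hn : Algebra.IsStandardSmoothOfRelativeDimension n Γ(S, V) Γ(U.toScheme, W) :=
      P.isStandardSmoothOfRelativeDimension rfl
    let h2 := W.ι ≫ U.ι ≫ f
    haveI : IsAffine W.toScheme := hW
    haveI : IsAffine V.toScheme := hV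
    haveI hres : SmoothOfRelativeDimension n ((U.ι ≫ f).resLE V W hWV) := by
      rw [HasRingHomProperty.iff_of_isAffine (P := @SmoothOfRelativeDimension n)]
      exact RingHom.locally_of RingHom.isStandardSmoothOfRelativeDimension_respectsIso _
        ((RingHom.isStandardSmoothOfRelativeDimension_respectsIso.arrow_mk_iso_iff
          (arrowResLEAppIso (U.ι ≫ f) V W hWV)).mpr hn)
    haveI : SmoothOfRelativeDimension n h2 := by
      have e : (U.ι ≫ f).resLE V W hWV ≫ V.ι = h2 := (U.ι ≫ f).resLE_comp_ι hWV
      rw [← e]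
      exact inferInstanceAs (SmoothOfRelativeDimension (n + 0) _)
    let T : X.Opens := U.ι ''ᵁ W
    have hxT : x ∈ T := ⟨⟨x, hxU⟩, hzW, rfl⟩
    let j : T.toScheme ⟶ W.toScheme := (U.ι.isoImage W).inv
    have hj : j ≫ h2 = T.ι ≫ f := by
      show (U.ι.isoImage W).inv ≫ W.ι ≫ U.ι ≫ f = _
      simp only [← Category.assoc]
      simp [T]
    haveI : SmoothOfRelativeDimension n (T.ι ≫ f) := by
      rw [← hj]
      have h : SmoothOfRelativeDimension (0 + n) (j ≫ h2) := inferInstance
      simpa using h
    have hnd : n = d := by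
      have h3 := Groth.Agent.S2768.result n (T.ι ≫ f) ⟨x, hxT⟩
      rw [← hopen T ⟨x, hxT⟩] at h3
      have h4 : ((n : ℕ) : WithBot ℕ∞) = (d : WithBot ℕ∞) := h3.symm.trans hf
      exact_mod_cast h4
    subst hnd
    exact (Groth.Agent.S16253.result f n x).2
      ⟨T, T.toScheme, 𝟙 _, T.ι ≫ f, hxT, inferInstance, inferInstance, Category.id_comp _⟩
  · intro hx
    obtain ⟨U, U', i, g, hxU, hi, hg, hig⟩ := (Groth.Agent.S16253.result f d x).1 hx
    haveI := hg
    haveI := hi
    let h1 := U.ι ≫ f
    let x₁ : U.toScheme := ⟨x, hxU⟩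
    let s := h1 x₁
    let G := g.fiberToSpecResidueField s
    let i' : h1.fiber s ⟶ g.fiber s := CohIII.fiberMapOver i h1 g hig s
    have hcomp : i' ≫ G = h1.fiberToSpecResidueField s :=
      (pullback.lift_snd _ _ _).trans (Category.comp_id _)
    haveI : IsClosedImmersion i' :=
      MorphismProperty.pullback_map (P := @IsClosedImmersion) inferInstance inferInstance hig.symm (Category.id_comp _).symm
    haveI : SmoothOfRelativeDimension d G :=
      haveI := smoothOfRelativeDimension_isStableUnderBaseChange.{u} d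
      MorphismProperty.pullback_snd (P := @SmoothOfRelativeDimension d) _ _ hg
    haveI : LocallyOfFinitePresentation (h1.fiberToSpecResidueField s) :=
      MorphismProperty.pullback_snd _ _ inferInstance
    haveI : LocallyOfFinitePresentation (h1.fiberToSpecResidueField (h1.base x₁)) := this
    haveI : LocallyOfFinitePresentation (i' ≫ G) := by rw [hcomp]; infer_instance
    have hdimX : FlatMor.localDim (h1.fiber s) (h1.asFiber x₁) = (d : WithBot ℕ∞) := by
      rw [← hf]
      exact (hopen U x₁).symm
    have hm := GrothLib.JacLocus.mem_smoothLocus_of_closedImmersion d G i' (h1.asFiber x₁) hdimX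
    have hsm : x₁ ∈ h1.smoothLocus := by
      refine (Groth.Agent.S2156.result h1 x₁).2 ⟨Flat.stalkMap h1 x₁, ?_⟩
      show h1.asFiber x₁ ∈ (h1.fiberToSpecResidueField s).smoothLocus
      simp only [hcomp] at hm
      exact hm
    have hmem : x ∈ f.smoothLocus := by
      have h5 : x₁ ∈ U.ι ⁻¹ᵁ f.smoothLocus := by
        rw [Scheme.Hom.preimage_smoothLocus_eq]; exact hsm
      exact h5
    refine ⟨f.smoothLocus, hmem, Scheme.Hom.smoothLocus_eq_top_iff.1 ?_⟩
    rw [← Scheme.Hom.preimage_smoothLocus_eq]
    exact Scheme.Opens.ι_preimage_self f.smoothLocus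

end Groth.Agent.S8916
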