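import Groth.Statements.S8917
import Groth.Agent.Lib.OmegaSheaf.Basic
import Groth.Agent.Lib.FittSheaf.Basic
import Groth.Agent.Lib.BlowUp.IdealComap
import Groth.Agent.Lib.Fitting.BaseChange
import Mathlib.RingTheory.Kaehler.TensorProduct
import Mathlib.AlgebraicGeometry.Morphisms.Flat

set_option autoImplicit false
set_option linter.all false
universe u
open CategoryTheory CategoryTheory.Limits AlgebraicGeometry TopologicalSpace
open SDiv

namespace Groth.Agent.S8917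

/-- Let f : X ⟶ S be locally of finite type and quasi-separated and let g : S' ⟶ S be a morphism, X' = X
×_S S' with projections g' : X' ⟶ X and f' : X' ⟶ S'. Then for every i the inverse image ideal sheaf
under g' of the i-th Fitting ideal of Ω_{X/S} is the i-th Fitting ideal of Ω_{X'/S'}: the Fitting
subschemes of Ω are compatible with base change. The published statement does not assume f
quasi-separated; this row does, because the module Ω_{X/S} used here is defined for quasi-separated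
f. -/
theorem result {X S S' : Scheme.{u}} (f : X ⟶ S) [LocallyOfFiniteType f] [QuasiSeparated f] (g : S' ⟶ S)
    (i : ℕ) :
    (Fitt.sheafIdeal (Omega.sheaf f) i).comap (pullback.fst f g) = Fitt.sheafIdeal (Omega.sheaf (pullback.snd f g)) i := by
  haveI := GrothLib.OmegaSheaf.isQuasicoherent_sheaf f
  haveI := GrothLib.OmegaSheaf.isQuasicoherent_sheaf (pullback.snd f g)
  have hM := GrothLib.OmegaSheaf.isFT_sheaf f
  have hM' := GrothLib.OmegaSheaf.isFT_sheaf (pullback.snd f g)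
  let p := pullback.fst f g
  let q := pullback.snd f g
  have H : IsPullback p q f g := IsPullback.of_hasPullback f g
  have hc : ∀ z : ↑(pullback f g), ∃ (V : S.Opens) (U : X.Opens) (T : S'.Opens), IsAffineOpen V ∧
      IsAffineOpen U ∧ IsAffineOpen T ∧ U ≤ f ⁻¹ᵁ V ∧ T ≤ g ⁻¹ᵁ V ∧ z ∈ p ⁻¹ᵁ U ⊓ q ⁻¹ᵁ T := by
    intro z
    obtain ⟨V, hV, hsV, -⟩ := exists_isAffineOpen_mem_and_subset (Opens.mem_top (f.base (p.base z)))
    obtain ⟨U, hU, hxU, hUV⟩ :=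
      exists_isAffineOpen_mem_and_subset (U := f ⁻¹ᵁ V) (x := p.base z) hsV
    have hgV : g.base (q.base z) ∈ V := by
      rw [← Scheme.Hom.comp_apply, show q ≫ g = p ≫ f from pullback.condition.symm,
        Scheme.Hom.comp_apply]
      exact hsV
    obtain ⟨T, hT, hyT, hTV⟩ :=
      exists_isAffineOpen_mem_and_subset (U := g ⁻¹ᵁ V) (x := q.base z) hgV
    exact ⟨V, U, T, hV, hU, hT, hUV, hTV, hxU, hyT⟩
  choose V U T hV hU hT hUV hTV hz using hc
  have hW : ∀ z, IsAffineOpen (p ⁻¹ᵁ U z ⊓ q ⁻¹ᵁ T z) := by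
    intro z
    have : IsAffine (V z : Scheme) := hV z
    have : IsAffine (U z : Scheme) := hU z
    have : IsAffine (T z : Scheme) := hT z
    exact .of_isIso (Scheme.Hom.isPullback_resLE H (hTV z) (hUV z) rfl).isoPullback.hom
  refine Scheme.IdealSheafData.ext_of_iSup_eq_top (fun z => ⟨p ⁻¹ᵁ U z ⊓ q ⁻¹ᵁ T z, hW z⟩)
    (eq_top_iff.2 fun z _ => Opens.mem_iSup.2 ⟨z, hz z⟩) fun z => ?_
  have hpo : IsPushout (f.appLE (V z) (U z) (hUV z)) (g.appLE (V z) (T z) (hTV z))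
      (p.appLE (U z) (p ⁻¹ᵁ U z ⊓ q ⁻¹ᵁ T z) inf_le_left) (q.appLE (T z) (p ⁻¹ᵁ U z ⊓ q ⁻¹ᵁ T z) inf_le_right) :=
    (isIso_pushoutSection_iff H (hTV z) (hUV z) rfl).1
      (isIso_pushoutSection_of_isAffineOpen H (hTV z) (hUV z) rfl (hV z) (hT z) (hU z))
  rw [GrothLib.BlowUp.ideal_comap_eq_map _ p ⟨U z, hU z⟩ ⟨_, hW z⟩ inf_le_left,
    GrothLib.FittSheaf.sheafIdeal_ideal hM, GrothLib.FittSheaf.sheafIdeal_ideal hM']
  letI := (f.appLE (V z) (U z) (hUV z)).hom.toAlgebra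
  letI := (g.appLE (V z) (T z) (hTV z)).hom.toAlgebra
  letI := (p.appLE (U z) (p ⁻¹ᵁ U z ⊓ q ⁻¹ᵁ T z) inf_le_left).hom.toAlgebra
  letI := (q.appLE (T z) (p ⁻¹ᵁ U z ⊓ q ⁻¹ᵁ T z) inf_le_right).hom.toAlgebra
  letI : Algebra Γ(S, V z) Γ(pullback f g, p ⁻¹ᵁ U z ⊓ q ⁻¹ᵁ T z) :=
    ((p.appLE (U z) (p ⁻¹ᵁ U z ⊓ q ⁻¹ᵁ T z) inf_le_left).hom.comp (f.appLE (V z) (U z) (hUV z)).hom).toAlgebra
  haveI : IsScalarTower Γ(S, V z) Γ(X, U z) Γ(pullback f g, p ⁻¹ᵁ U z ⊓ q ⁻¹ᵁ T z) :=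
    IsScalarTower.of_algebraMap_eq fun _ => rfl
  haveI : IsScalarTower Γ(S, V z) Γ(S', T z) Γ(pullback f g, p ⁻¹ᵁ U z ⊓ q ⁻¹ᵁ T z) :=
    IsScalarTower.of_algebraMap_eq fun x => ConcreteCategory.congr_hom hpo.w x
  haveI : Algebra.IsPushout Γ(S, V z) Γ(S', T z) Γ(X, U z) Γ(pullback f g, p ⁻¹ᵁ U z ⊓ q ⁻¹ᵁ T z) :=
    CommRingCat.isPushout_iff_isPushout.mp hpo.flip
  obtain ⟨e₁⟩ := GrothLib.OmegaSheaf.nonempty_sections_equiv f (hU z) (hV z) (hUV z)
  obtain ⟨e₂⟩ := GrothLib.OmegaSheaf.nonempty_sections_equiv q (hW z) (hT z) inf_le_right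
  haveI := GrothLib.FittSheaf.finite_sections hM ⟨U z, hU z⟩
  haveI := GrothLib.FittSheaf.finite_sections hM' ⟨_, hW z⟩
  haveI := Module.Finite.equiv e₁
  haveI := Module.Finite.equiv e₂
  erw [GrothLib.Fitting.ideal_congr e₁, GrothLib.Fitting.ideal_congr e₂,
    GrothLib.Fitting.ideal_congr (KaehlerDifferential.tensorKaehlerEquiv Γ(S, V z) Γ(S', T z) Γ(X, U z)
      Γ(pullback f g, p ⁻¹ᵁ U z ⊓ q ⁻¹ᵁ T z)).symm,
    GrothLib.Fitting.ideal_baseChange]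
  rfl

end Groth.Agent.S8917
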