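import Groth.Statements.S8918
import Groth.Agent.Lib.Mero12.BlowUpDenom

set_option autoImplicit false
set_option linter.all false
set_option maxHeartbeats 1000000
set_option backward.isDefEq.respectTransparency false
set_option backward.isDefEq.respectTransparency.types false
universe u
open CategoryTheory CategoryTheory.Limits AlgebraicGeometry TopologicalSpace
open SDiv

namespace Groth.Agent.S8918

/-- Suppose X is locally Noetherian, L is an invertible O_X-module carrying a regular meromorphic
section s, and I is a quasi-coherent ideal sheaf whose value on every affine open is the ideal of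
denominators of s. Then I is of finite type and the open complement U of the support of O_X/I is
exactly the set of points near which s is a section of L, so that a blowing up b : X' ⟶ X in I is
U-admissible for this U; and for every such b there is an effective Cartier divisor D ⊆ X' with
ideal sheaf 𝓓 such that b^*L ⊗ 𝓓 is isomorphic to the ideal sheaf of the exceptional divisor E, i.e.
b^*L ≅ O_{X'}(D - E) (existence of an isomorphism only). This row does not identify the pulled-back
section b^*s with the canonical section 1_D ⊗ 1_E⁻¹ of O_{X'}(D - E). -/
theorem result (X : Scheme.{u}) [IsLocallyNoetherian X] (L : X.Modules) (hL : PicF.IsInvertible L)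
    (s : Γ(Mero.merMod L, ⊤)) (hs : Mero.IsRegularMero L s) (I : X.IdealSheafData)
    (hI : ∀ V : X.affineOpens, I.ideal V = Mero.denomIdeal L s V.1) :
    (BlowUp.IsFiniteTypeIdeal I ∧ ((I.support.compl : X.Opens) : Set X) = Mero.domain L s) ∧
      ∀ (X' : Scheme.{u}) (b : X' ⟶ X), BlowUp.IsBlowUp b I →
        ∃ 𝓓 : X'.IdealSheafData, BlowUp.IsEffCartierIdeal 𝓓 ∧
          Nonempty (CohB1.tensorMod ((Scheme.Modules.pullback b).obj L) (ClSub.idealMod 𝓓) ≅ ClSub.idealMod (I.comap b)) := by
  refine ⟨⟨GrothLib.Mero12.isFiniteType I, GrothLib.Mero12.compl_support_eq_domain s hI⟩, fun X' b hb => ?_⟩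
  obtain ⟨ψ, hψ⟩ := GrothLib.Mero12.exists_mul_map s hL hI
  exact GrothLib.Mero12.exists_twist b hL hb ψ fun x => GrothLib.Mero12.exists_reg_value s hL hs hI ψ hψ x

end Groth.Agent.S8918
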