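import Groth.Statements.S8921
import Groth.Agent.Lib.RegImm12.PairNoetherian

set_option autoImplicit false
set_option linter.all false
set_option maxHeartbeats 1000000
set_option backward.isDefEq.respectTransparency false
set_option backward.isDefEq.respectTransparency.types false
universe u
open CategoryTheory CategoryTheory.Limits AlgebraicGeometry TopologicalSpace
open SDiv

namespace Groth.Agent.S8921

/-- Let i : Z ⟶ Y and j : Y ⟶ X be immersions of schemes with X locally Noetherian, z a point of Z with
images y = i z and x, and a : i^*C_{Y/X} ⟶ C_{Z/X}, b : C_{Z/X} ⟶ C_{Z/Y} the canonical maps of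
conormal sheaves. The following are equivalent: (1) i is regular near z and j is regular near y; (2)
i and j ∘ i are regular near z; (3) j ∘ i is regular near z and the sequence 0 → i^*C_{Y/X} →
C_{Z/X} → C_{Z/Y} → 0 is split short exact over some open neighbourhood of z. Both immersions are
quasi-compact automatically, X being locally Noetherian; the quasi-compactness binders only make the
conormal sheaves available. -/
theorem result {Z Y X : Scheme.{u}} (i : Z ⟶ Y) (j : Y ⟶ X) [IsImmersion i] [IsImmersion j]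
    [QuasiCompact i] [QuasiCompact j]
    (a : (Scheme.Modules.pullback i).obj (Omega.conormal j) ⟶ Omega.conormal (i ≫ j))
    (ha : OmegaSh.IsConormalMap (i ≫ j) j (𝟙 X) i a)
    (b : (Scheme.Modules.pullback (𝟙 Z)).obj (Omega.conormal (i ≫ j)) ⟶ Omega.conormal i)
    (hb : OmegaSh.IsConormalMap i (i ≫ j) j (𝟙 Z) b)
    [IsLocallyNoetherian X] (z : ↥Z) :
    ((RegImm.IsRegularImmersionAt RegImm.Kind.regular i z ∧ RegImm.IsRegularImmersionAt RegImm.Kind.regular j (i z)) ↔
      (RegImm.IsRegularImmersionAt RegImm.Kind.regular i z ∧ RegImm.IsRegularImmersionAt RegImm.Kind.regular (i ≫ j) z)) ∧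
    ((RegImm.IsRegularImmersionAt RegImm.Kind.regular i z ∧ RegImm.IsRegularImmersionAt RegImm.Kind.regular (i ≫ j) z) ↔
      (RegImm.IsRegularImmersionAt RegImm.Kind.regular (i ≫ j) z ∧
        ∃ U : Z.Opens, z ∈ U ∧
          ∀ w : (Scheme.Modules.restrictFunctor U.ι).map a ≫ (Scheme.Modules.restrictFunctor U.ι).map ((Scheme.Modules.pullbackId Z).inv.app (Omega.conormal (i ≫ j)) ≫ b) = 0,
            Nonempty (ShortComplex.mk ((Scheme.Modules.restrictFunctor U.ι).map a) ((Scheme.Modules.restrictFunctor U.ι).map ((Scheme.Modules.pullbackId Z).inv.app (Omega.conormal (i ≫ j)) ≫ b)) w).Splitting)) := by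
  haveI : IsLocallyNoetherian Y := LocallyOfFiniteType.isLocallyNoetherian j
  have h23 : RegImm.IsRegularImmersionAt RegImm.Kind.regular i z → _ := fun h =>
    GrothLib.RegImm12.exists_splitting i j a ha b hb z (GrothLib.LCI6.isRegularImmersionAt_of_kind i z h _)
  have h31 : RegImm.IsRegularImmersionAt RegImm.Kind.regular (i ≫ j) z →
      (∃ U : Z.Opens, z ∈ U ∧
        ∀ w : (Scheme.Modules.restrictFunctor U.ι).map a ≫ (Scheme.Modules.restrictFunctor U.ι).map ((Scheme.Modules.pullbackId Z).inv.app (Omega.conormal (i ≫ j)) ≫ b) = 0,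
          Nonempty (ShortComplex.mk ((Scheme.Modules.restrictFunctor U.ι).map a) ((Scheme.Modules.restrictFunctor U.ι).map ((Scheme.Modules.pullbackId Z).inv.app (Omega.conormal (i ≫ j)) ≫ b)) w).Splitting) →
      RegImm.IsRegularImmersionAt RegImm.Kind.regular i z ∧ RegImm.IsRegularImmersionAt RegImm.Kind.regular j (i z) := by
    rintro hij ⟨U, hzU, hU⟩
    obtain ⟨sp⟩ := hU (by
      rw [← Functor.map_comp, GrothLib.RegImm12.conormal_comp_eq_zero i j a ha b hb]
      exact Functor.map_zero _ _ _)
    exact GrothLib.RegImm12.regular_of_split i j a ha z hzU sp.r sp.f_r hij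
  refine ⟨⟨fun h => ⟨h.1, GrothLib.RegImm12.isRegularImmersionAt_comp i j z h.1 h.2⟩,
      fun h => h31 h.2 (h23 h.1)⟩, ⟨fun h => ⟨h.2, h23 h.1⟩, fun h => ⟨(h31 h.1 h.2).1, h.1⟩⟩⟩

end Groth.Agent.S8921
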