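import Groth.Statements.S8922
import Groth.Agent.Lib.StrictTr.Push

set_option autoImplicit false
set_option linter.all false
universe u
open CategoryTheory CategoryTheory.Limits AlgebraicGeometry TopologicalSpace
open SDiv

namespace Groth.Agent.S8922

/-- Let S be a scheme, 𝓘 a quasi-coherent ideal sheaf on S with closed subscheme Z, b : S' ⟶ S a blowing
up of S in Z, g : X ⟶ Y an affine morphism of schemes over S, F a quasi-coherent O_X-module, and π :
pr_X^*F ⟶ F' a strict transform of F along b (on X ×_S S'). Write g' : X ×_S S' ⟶ Y ×_S S' for the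
base change of g. Then g'_*F' is a strict transform of g_*F along b: there is an epimorphism
pr_Y^*(g_*F) ⟶ g'_*F' whose kernel consists, affine-locally, exactly of the sections annihilated by
a power of the inverse image of 𝓘. The published statement identifies g'_*F' with the strict
transform through the canonical base-change isomorphism; this row asserts only that some epimorphism
from pr_Y^*(g_*F) onto g'_*F' has the strict-transform property. -/
theorem result {X Y S S' : Scheme.{u}} (hX : X ⟶ S) (hY : Y ⟶ S) (g : X ⟶ Y) [IsAffineHom g]
    (h : g ≫ hY = hX) (𝓘 : S.IdealSheafData) (b : S' ⟶ S) (hb : BlowUp.IsBlowUp b 𝓘) (F : X.Modules) (hF : Coh.IsQCoh F)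
    (F' : (pullback hX b).Modules) (π : (Scheme.Modules.pullback (pullback.fst hX b)).obj F ⟶ F')
    (hπ : BlowUp.IsStrictTransform (pullback.fst hX b) (𝓘.comap hX) F F' π) :
    ∃ π' : (Scheme.Modules.pullback (pullback.fst hY b)).obj ((Scheme.Modules.pushforward g).obj F) ⟶
        (Scheme.Modules.pushforward (pullback.map hX b hY b g (𝟙 S') (𝟙 S)
          ((Category.comp_id hX).trans h.symm) ((Category.comp_id b).trans (Category.id_comp b).symm))).obj F',
      BlowUp.IsStrictTransform (pullback.fst hY b) (𝓘.comap hY) ((Scheme.Modules.pushforward g).obj F)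
        ((Scheme.Modules.pushforward (pullback.map hX b hY b g (𝟙 S') (𝟙 S)
          ((Category.comp_id hX).trans h.symm) ((Category.comp_id b).trans (Category.id_comp b).symm))).obj F') π' := by
  haveI : F.IsQuasicoherent := hF
  subst h
  refine GrothLib.StrictTr.exists_isStrictTransform_push (g := g) ?_ (𝓘.comap hY) ?_ ?_ hπ
  · refine IsPullback.of_bot (v₂₁ := pullback.snd hY b) (v₂₂ := hY) (h₃₁ := b) ?_ ?_
      (IsPullback.of_hasPullback hY b)
    · have e := IsPullback.of_hasPullback (g ≫ hY) b
      convert e using 1
      exact pullback.lift_snd _ _ _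
    · exact (pullback.lift_fst _ _ _).symm
  · rw [← Scheme.IdealSheafData.comap_comp]
  · rw [← Scheme.IdealSheafData.comap_comp, pullback.condition, Scheme.IdealSheafData.comap_comp]
    exact GrothLib.StrictTr.principalCover_comap (GrothLib.StrictTr.principalCover_of_isEffCartier hb.1) _

end Groth.Agent.S8922
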