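import Groth.Statements.S8923
import Groth.Agent.Lib.Ref1.Divisor
import Groth.Agent.Lib.Ref1.Invertible

set_option autoImplicit false
universe u
open CategoryTheory CategoryTheory.Limits AlgebraicGeometry TopologicalSpace
open SDiv

namespace Groth.Agent.S8923

/-- Let X be an integral scheme that is locally Noetherian, L an invertible O_X-module and s a nonzero
rational (regular meromorphic) section of L, viewed as a nonzero element of the stalk of L at the
generic point. Then the collection of prime divisors Z ⊆ X with ord_{Z,L}(s) ≠ 0, i.e. the closures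
of the codimension-1 points x (dim O_{X,x} = 1) along which s has nonzero order, is locally finite
in X. -/
theorem result (X : Scheme.{u}) [IsIntegral X] [IsLocallyNoetherian X] (L : X.Modules)
    (hL : PicF.IsInvertible L) (s : Cyc.secFibre L (genericPoint ↥X)) (hs : s ≠ 0) :
    LocallyFinite (fun x : {x : ↥X // ringKrullDim ↑(X.presheaf.stalk x) = 1 ∧
        Cyc.secOrdAt L (genericPoint ↥X) x ((genericPoint_spec ↥X).specializes (Set.mem_univ x)) s ≠ 0} => closure ({x.1} : Set ↥X)) := by
  have := GrothLib.InvExt.isQuasicoherent_of_isInvertible hL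
  obtain ⟨v, rfl⟩ := GrothLib.Ref1.exists_eq_mk s
  have hv : v ≠ 0 := fun h => hs (by rw [h]; exact Submodule.Quotient.mk_zero _)
  obtain ⟨e, he⟩ := GrothLib.Ref1.exists_gen_of_isInvertible hL (genericPoint X)
  have hve := GrothLib.Ref1.gen_of_ne_zero he hv
  intro z
  obtain ⟨V, hV, hzV, -⟩ := exists_isAffineOpen_mem_and_subset (x := z) (U := ⊤) trivial
  refine ⟨V, V.isOpen.mem_nhds hzV, ?_⟩
  have hfin := GrothLib.Ref1.finite_secOrd_ne_zero (GrothLib.Ref1.hasRel_of_isInvertible hL) hve hV
  refine (hfin.preimage (f := Subtype.val) Subtype.val_injective.injOn).subset ?_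
  rintro ⟨x, hx, hne⟩ ⟨y, hy, hyV⟩
  have hxV : x ∈ V := (specializes_iff_mem_closure.2 hy).mem_open V.isOpen hyV
  exact ⟨hxV, GrothLib.Ref1.coheight_of_dim_one hx, hne⟩

end Groth.Agent.S8923
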