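import Groth.Statements.S8927
import Mathlib
-- import your own Groth.Agent.* helpers here

set_option autoImplicit false
universe u
open Disc

namespace Groth.Agent.S8927

/-- For a map A → B of Noetherian rings such that the localization B_q is flat over A for every
associated prime q of B, every nonzerodivisor of A maps to a nonzerodivisor of B. -/
theorem result (A B : Type u) [CommRing A] [CommRing B] [IsNoetherianRing A] [IsNoetherianRing B] [Algebra A B] (h3 : ∀ (q : Ideal B) [q.IsPrime], IsAssociatedPrime q B → Module.Flat A (Localization.AtPrime q)) : nonZeroDivisors A ≤ (nonZeroDivisors B).comap (algebraMap A B) := by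
  intro a ha
  rw [Submonoid.mem_comap, mem_nonZeroDivisors_iff_right]
  intro b hb
  by_contra hne
  obtain ⟨q, hq, hle⟩ := exists_le_isAssociatedPrime_of_isNoetherianRing B b hne
  haveI : q.IsPrime := hq.isPrime
  haveI := h3 q hq
  have hreg : IsSMulRegular (Localization.AtPrime q) a :=
    Module.Flat.isSMulRegular_of_nonZeroDivisors ha
  have h0 : algebraMap B (Localization.AtPrime q) b = 0 := hreg (by
    show a • algebraMap B (Localization.AtPrime q) b = a • 0
    rw [smul_zero, Algebra.smul_def, IsScalarTower.algebraMap_apply A B (Localization.AtPrime q),
      ← map_mul, mul_comm, hb, map_zero])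
  obtain ⟨s, hs⟩ := (IsLocalization.map_eq_zero_iff q.primeCompl (Localization.AtPrime q) b).mp h0
  refine s.2 (hle ?_)
  simp [Submodule.mem_colon_singleton, hs]

end Groth.Agent.S8927
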