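import Groth.Statements.S8929
import Mathlib
import Groth.Agent.Lib.QFDual2.FractionFlat

set_option autoImplicit false
universe u
open scoped TensorProduct
open Disc

namespace Groth.Agent.S8929

/-- Let A → B be a map of Noetherian rings with the going-up property. If B_q is flat over A for every
associated prime q of B and for every prime q of B lying over an associated prime of A, then Q(A)
⊗_A B is flat over the total ring of fractions Q(A). -/
theorem result (A B : Type u) [CommRing A] [CommRing B] [IsNoetherianRing A] [IsNoetherianRing B] [Algebra A B] [Algebra.HasGoingUp A B] (h3 : ∀ (q : Ideal B) [q.IsPrime], IsAssociatedPrime q B → Module.Flat A (Localization.AtPrime q)) (h4 : ∀ (q : Ideal B) [q.IsPrime], IsAssociatedPrime (q.comap (algebraMap A B)) A → Module.Flat A (Localization.AtPrime q)) : Module.Flat (FractionRing A) (FractionRing A ⊗[A] B) := by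
  refine GrothLib.QFDual2.flat_fraction_of_atPrime fun q _ hreg hmax L _ _ _ _ _ => ?_
  obtain ⟨p, hp, hle⟩ := GrothLib.QFDual2.exists_associatedPrime_le (q.comap (algebraMap A B)) hreg
  haveI : p.IsPrime := IsAssociatedPrime.isPrime hp
  haveI : q.LiesOver (q.comap (algebraMap A B)) := ⟨rfl⟩
  obtain ⟨Q, hqQ, hQ, hQp⟩ := Ideal.exists_ideal_ge_liesOver_of_le (p := q.comap (algebraMap A B)) q hle
  haveI := hQ
  have hQeq : Q = q := hmax Q hQ hqQ fun s hs hmem => GrothLib.QFDual2.not_mem_associatedPrime hp hs (by
    rw [hQp.over]; exact hmem)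
  subst hQeq
  haveI := h4 Q (by rw [show Q.comap (algebraMap A B) = p from hQp.over.symm]; exact hp)
  exact Module.Flat.of_linearEquiv
    ((IsLocalization.algEquiv Q.primeCompl (Localization.AtPrime Q) L).restrictScalars A).symm.toLinearEquiv

end Groth.Agent.S8929
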