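import Groth.Statements.S8930
import Mathlib
import Groth.Agent.Lib.QFDual2.Omega

set_option autoImplicit false
universe u
open AlgebraicGeometry
open Disc

namespace Groth.Agent.S8930

open AlgebraicGeometry CategoryTheory in
theorem isEpi_of_openImmersion {B' B : Type u} [CommRing B'] [CommRing B] [Algebra B' B]
    (h : IsOpenImmersion (Spec.map (CommRingCat.ofHom (algebraMap B' B)))) : Algebra.IsEpi B' B := by
  haveI := h
  rw [Algebra.isEpi_iff_forall_one_tmul_eq]
  intro b
  let inl : B →ₐ[B'] TensorProduct B' B B := Algebra.TensorProduct.includeLeft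
  let inr : B →ₐ[B'] TensorProduct B' B B := Algebra.TensorProduct.includeRight
  have h1 : Spec.map (CommRingCat.ofHom inl.toRingHom) ≫ Spec.map (CommRingCat.ofHom (algebraMap B' B)) =
      Spec.map (CommRingCat.ofHom inr.toRingHom) ≫ Spec.map (CommRingCat.ofHom (algebraMap B' B)) := by
    rw [← Spec.map_comp, ← Spec.map_comp, ← CommRingCat.ofHom_comp, ← CommRingCat.ofHom_comp]
    congr 2
    exact inl.comp_algebraMap.trans inr.comp_algebraMap.symm
  have h2 := congrArg CommRingCat.Hom.hom (Spec.map_injective ((cancel_mono _).1 h1))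
  exact (RingHom.congr_fun h2 b).symm

open AlgebraicGeometry CategoryTheory TensorProduct in
theorem openImmersion_intermediate {B' C B : Type u} [CommRing B'] [CommRing C] [CommRing B] [Algebra B' B]
    [Algebra B' C] [Algebra C B] [IsScalarTower B' C B] (hC : Function.Injective (algebraMap C B))
    (h : IsOpenImmersion (Spec.map (CommRingCat.ofHom (algebraMap B' B)))) :
    IsOpenImmersion (Spec.map (CommRingCat.ofHom (algebraMap C B))) := by
  haveI := GrothLib.QFDual2.flat_of_openImmersion h
  haveI := isEpi_of_openImmersion h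
  let j : C →ₗ[B'] B := (IsScalarTower.toAlgHom B' C B).toLinearMap
  let φ : B ⊗[B'] C →ₐ[B] B :=
    Algebra.TensorProduct.lift (AlgHom.id B B) (IsScalarTower.toAlgHom B' C B) fun _ _ => Commute.all _ _
  have hfac : ∀ z, φ z = Algebra.TensorProduct.lmul' (S := B) B' (j.lTensor B z) := by
    intro z
    induction z using TensorProduct.induction_on with
    | zero => simp
    | tmul b c => simp [φ, j]
    | add x y hx hy => simp only [map_add, hx, hy]
  have hbij : Function.Bijective φ := by
    refine ⟨fun x y hxy => ?_, fun b => ⟨b ⊗ₜ 1, by simp [φ]⟩⟩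
    rw [hfac, hfac] at hxy
    exact Module.Flat.lTensor_preserves_injective_linearMap j hC (Algebra.IsEpi.injective_lift_mul hxy)
  have hp : Algebra.IsPushout B' B C B :=
    ⟨IsBaseChange.of_equiv (AlgEquiv.ofBijective φ hbij).toLinearEquiv fun c => by
      show φ (1 ⊗ₜ c) = algebraMap C B c
      simp [φ]⟩
  exact MorphismProperty.of_isPullback
    (isPullback_SpecMap_of_isPushout _ _ _ _ (CommRingCat.isPushout_of_isPushout B' B C B)) h


/-- Given two factorizations A → B' → B and A → B'' → B of a ring map with A → B' and A → B'' finite and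
Spec(B) → Spec(B'), Spec(B) → Spec(B'') open immersions, there is an A-subalgebra C of B which is
finite over A, contains the images of B' and B'', and is such that Spec(B) → Spec(C) is an open
immersion. (Such an A → B is quasi-finite; that hypothesis of the published statement is implied by
the factorizations and is not repeated.) -/
theorem result (A B B' B'' : Type u) [CommRing A] [CommRing B] [CommRing B'] [CommRing B''] [Algebra A B] [Algebra A B'] [Algebra A B''] [Algebra B' B] [Algebra B'' B] [IsScalarTower A B' B] [IsScalarTower A B'' B] [Module.Finite A B'] [Module.Finite A B''] (h' : IsOpenImmersion (Spec.map (CommRingCat.ofHom (algebraMap B' B)))) (h'' : IsOpenImmersion (Spec.map (CommRingCat.ofHom (algebraMap B'' B)))) : ∃ C : Subalgebra A B, Module.Finite A C ∧ Set.range (algebraMap B' B) ⊆ (C : Set B) ∧ Set.range (algebraMap B'' B) ⊆ (C : Set B) ∧ IsOpenImmersion (Spec.map (CommRingCat.ofHom C.val.toRingHom)) := by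
  classical
  let f' : B' →ₐ[A] B := IsScalarTower.toAlgHom A B' B
  let f'' : B'' →ₐ[A] B := IsScalarTower.toAlgHom A B'' B
  let C : Subalgebra A B := f'.range ⊔ f''.range
  haveI : Module.Finite A f'.range := Module.Finite.of_surjective f'.rangeRestrict.toLinearMap f'.rangeRestrict_surjective
  haveI : Module.Finite A f''.range := Module.Finite.of_surjective f''.rangeRestrict.toLinearMap f''.rangeRestrict_surjective
  refine ⟨C, Subalgebra.finite_sup f'.range f''.range, ?_, ?_, ?_⟩
  · rintro _ ⟨x, rfl⟩
    exact (le_sup_left : f'.range ≤ C) ⟨x, rfl⟩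
  · rintro _ ⟨x, rfl⟩
    exact (le_sup_right : f''.range ≤ C) ⟨x, rfl⟩
  letI : Algebra B' C := (f'.codRestrict C fun x => (le_sup_left : f'.range ≤ C) ⟨x, rfl⟩).toRingHom.toAlgebra
  haveI : IsScalarTower B' C B := IsScalarTower.of_algebraMap_eq fun x => rfl
  exact openImmersion_intermediate Subtype.val_injective h'

end Groth.Agent.S8930
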