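import Groth.Statements.S8932
import Groth.Agent.Lib.DualRing.GorGlobal
import Groth.Agent.Lib.DualRing.Local
import Groth.Agent.Lib.GorFlat.Fields
-- import your own Groth.Agent.* helpers here

set_option autoImplicit false
universe u
open CategoryTheory
open scoped TensorProduct
attribute [local instance] HasDerivedCategory.standard
open Dual

namespace Groth.Agent.S8932

/-- For a field extension K/k, a finite type k-algebra A and a dualizing complex ω for A, the derived
base change of ω along A → K ⊗_k A is a dualizing complex for K ⊗_k A (the derived base change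
functor being assumed to exist). -/
theorem result (k K : Type u) [Field k] [Field K] [Algebra k K] (A : Type u) [CommRing A] [Algebra k A] [Algebra.FiniteType k A] [DRing.HasLBaseChange (Algebra.TensorProduct.includeRight : A →ₐ[k] K ⊗[k] A).toRingHom] (ω : Dual.D A) (hω : Dual.IsDualizing A ω) : Dual.IsDualizing (K ⊗[k] A) ((DRing.LBaseChange (Algebra.TensorProduct.includeRight : A →ₐ[k] K ⊗[k] A).toRingHom).obj ω) := by
  letI : Algebra A (K ⊗[k] A) := (Algebra.TensorProduct.includeRight : A →ₐ[k] K ⊗[k] A).toRingHom.toAlgebra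
  haveI : IsNoetherianRing A := Algebra.FiniteType.isNoetherianRing k A
  haveI : IsNoetherianRing (K ⊗[k] A) := Algebra.FiniteType.isNoetherianRing K _
  let eA : K ⊗[k] A ≃ₐ[A] A ⊗[k] K :=
    AlgEquiv.ofRingEquiv (f := (Algebra.TensorProduct.comm k K A).toRingEquiv) (fun a => by
      simp [RingHom.algebraMap_toAlgebra, Algebra.TensorProduct.algebraMap_apply])
  haveI : Module.Flat A (K ⊗[k] A) := Module.Flat.of_linearEquiv eA.toLinearEquiv
  haveI := GrothLib.DR.preservesFiniteLimits_extendScalars (algebraMap A (K ⊗[k] A)) GrothLib.DR.flat_algebraMap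
  obtain ⟨e⟩ := GrothLib.DualCx22.nonempty_lBase_iso_bcD (A := A) (K ⊗[k] A)
  obtain ⟨D, hD⟩ := GrothLib.DualRing.exists_dim_bound_finiteType (A := K)
    (by rw [ringKrullDim_eq_zero_of_field K]; exact WithBot.coe_lt_coe.2 ENat.top_pos) (K ⊗[k] A)
  refine GrothLib.DualCx22.isDualizing_of_iso (e.app ω).symm
    (GrothLib.DualRing.isDualizing_bcD_gorenstein (K ⊗[k] A) hω D hD fun m _ => ?_)
  refine GrothLib.DualRing.gorenstein_fibLocRing_of_fiber _ (fun p => ?_) m
  exact GrothLib.GorFlat.isGorensteinRing_of_ringEquiv
    ((((Algebra.TensorProduct.congr eA (AlgEquiv.refl (R := A) (A₁ := p.asIdeal.ResidueField))).trans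
      (Algebra.TensorProduct.comm A _ _)).toRingEquiv.trans
      (Algebra.TensorProduct.cancelBaseChange k A A p.asIdeal.ResidueField K).toRingEquiv).trans
      (Algebra.TensorProduct.comm k _ _).toRingEquiv).symm
    (GrothLib.GorFlat.isGorensteinRing_tensor_of_fg k K p.asIdeal.ResidueField
      (GrothLib.GorFlat.fg_residueField k p.asIdeal))

end Groth.Agent.S8932
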