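import Groth.Statements.S8934
import Groth.Agent.Lib.ExtCech.BaseChange
import Groth.Agent.Lib.RGamma.CechModel
import Groth.Agent.Lib.DCxRing.LBase
import Groth.Agent.Lib.DCxRHom.Cech
import Groth.Agent.Lib.SGA2Fin.CechFunctor

set_option autoImplicit false
universe u
open CategoryTheory CategoryTheory.Limits
attribute [local instance] HasDerivedCategory.standard
open LocCoh

namespace Groth.Agent.S8934

/-- Let p be a prime, A a Noetherian ring of characteristic p with Frobenius endomorphism F, and I an
ideal of A. Then the derived base change of RΓ_I(A) along F is isomorphic to RΓ_I(A) in D(A)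
(existence of an isomorphism only; RΓ_I, the derived I-power torsion functor, and the derived base
change along F are assumed to exist). (The published statement is for any ring and a finitely
generated ideal, with local cohomology RΓ_Z; this row takes A Noetherian, where RΓ_Z is the derived
functor of I-power torsion.) -/
theorem result (p : ℕ) [Fact p.Prime] (A : Type u) [CommRing A] [IsNoetherianRing A] [CharP A p] (I : Ideal A) [DRing.HasRgammaI I] [DRing.HasLBaseChange (frobenius A p)] : Nonempty ((DRing.LBaseChange (frobenius A p)).obj ((DRing.RgammaI I).obj (Dual.inD A A)) ≅ (DRing.RgammaI I).obj (Dual.inD A A)) := by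
    obtain ⟨t, ht⟩ : I.FG := IsNoetherian.noetherian I
    let F := frobenius A p
    let fs := t.toList
    let fs' := fs.map F
    have hfs : Ideal.span {x | x ∈ fs} = I := by
      rw [show {x | x ∈ fs} = (t : Set A) by ext; simp [fs]]
      exact ht
    obtain ⟨e, -⟩ := GrothLib.RGamma.exists_iso_cech I fs hfs (ModuleCat.of A A)
    let K := DerCA.extCech (ModuleCat.of A A) fs
    obtain ⟨eB⟩ := GrothLib.DR.nonempty_lBase_iso F (P := K) (b := fs.length)
      (fun i hi => GrothLib.ExtCech.isZero_X _ fs i (Or.inr hi)) (GrothLib.RH.flat_X_extCech fs)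
    obtain ⟨eC⟩ := GrothLib.ExtCech.nonempty_bc_extCech F (ModuleCat.of A A) fs
    obtain ⟨e₁⟩ := GrothLib.ExtCech.nonempty_extS_self F
    let eD := DerivedCategory.Q.mapIso (eC ≪≫ (GrothLib.SGA2Fin.cxF fs').mapIso e₁)
    -- the Čech complex on the `p`-th powers also computes `RΓ_I`
    have hmem : ∀ g ∈ fs', g ∈ I := by
      intro g hg
      obtain ⟨f, hf, rfl⟩ := List.mem_map.1 hg
      exact Ideal.pow_mem_of_mem I (hfs ▸ Ideal.subset_span hf) p (Fact.out : p.Prime).pos
    have hrad : I ≤ (Ideal.span {x | x ∈ fs'}).radical := hfs ▸ Ideal.span_le.2 fun f hf =>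
      ⟨p, Ideal.subset_span (List.mem_map.2 ⟨f, hf, rfl⟩)⟩
    have hL₂ : ∀ i, LocCoh.IsPowerTorsion I
        (Dual.HD A (DerivedCategory.Q.obj (DerCA.extCech (ModuleCat.of A A) fs')) i) := fun i x => by
      obtain ⟨n, hn⟩ := GrothLib.RGamma.isPowerTorsion_HD_cech (Ideal.span {x | x ∈ fs'}) fs' rfl (ModuleCat.of A A) i x
      obtain ⟨m, hm⟩ := Ideal.exists_pow_le_of_le_radical_of_fg hrad (IsNoetherian.noetherian I)
      exact ⟨m * n, fun a ha => hn a (Ideal.pow_right_mono hm n (by rwa [pow_mul] at ha))⟩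
    have hL₁ := fun i => GrothLib.RGamma.isPowerTorsion_HD I (Dual.inD A A) i
    obtain ⟨a, ha⟩ := (GrothLib.RGamma.cech_postcomp_bijective I (ModuleCat.of A A) _ hL₁ fs' hmem).2
      ((DRing.RgammaIε I).app (Dual.inD A A))
    obtain ⟨b, hb⟩ := (GrothLib.RGamma.hom_bijective I _ (Dual.inD A A) hL₂).2
      (GrothLib.RGamma.cechε fs' (ModuleCat.of A A))
    let e' : (DRing.RgammaI I).obj (Dual.inD A A) ≅ DerivedCategory.Q.obj (DerCA.extCech (ModuleCat.of A A) fs') :=
      ⟨a, b, (GrothLib.RGamma.hom_bijective I _ _ hL₁).1 (by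
          change (a ≫ b) ≫ _ = 𝟙 _ ≫ _
          rw [Category.assoc, Category.id_comp]
          exact (congrArg (a ≫ ·) hb).trans ha),
        (GrothLib.RGamma.cech_postcomp_bijective I (ModuleCat.of A A) _ hL₂ fs' hmem).1 (by
          change (b ≫ a) ≫ _ = 𝟙 _ ≫ _
          rw [Category.assoc, Category.id_comp]
          exact (congrArg (b ≫ ·) ha).trans hb)⟩
    exact ⟨(DRing.LBaseChange F).mapIso e ≪≫ eB ≪≫ eD ≪≫ e'.symm⟩

end Groth.Agent.S8934
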