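import Groth.Statements.S8936
-- no helpers

set_option autoImplicit false
universe u v
open InjHull

namespace Groth.Agent.S8936

/-- For a directed system (E_i) of R-modules over a nonempty directed preorder and a compatible family
of essential injections M → E_i, the induced map from M to the direct limit of the E_i is an
essential injection. -/
theorem result (R : Type u) [CommRing R] (ι : Type v) [Preorder ι] [IsDirectedOrder ι] [DecidableEq ι] (i₀ : ι) (E : ι → Type v) [∀ i, AddCommGroup (E i)] [∀ i, Module R (E i)] (f : ∀ i j, i ≤ j → E i →ₗ[R] E j) [DirectedSystem E fun i j h => f i j h] (M : Type v) [AddCommGroup M] [Module R M] (g : ∀ i, M →ₗ[R] E i) (hg : ∀ i j (h : i ≤ j), f i j h ∘ₗ g i = g j) (he : ∀ i, InjHull.IsEssentialInj (g i)) : InjHull.IsEssentialInj (Module.DirectLimit.of R ι E f i₀ ∘ₗ g i₀) := by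
  obtain ⟨hi0, -⟩ := (he i₀)
  refine ⟨fun a b hab => ?_, fun N hN hbot => hN ?_⟩
  · simp only [LinearMap.comp_apply] at hab
    obtain ⟨j, hj, h⟩ := Module.DirectLimit.of.zero_exact (i := i₀) (x := g i₀ a - g i₀ b) (by rw [map_sub, hab, sub_self])
    have h2 := (he j).injective
    rw [← hg i₀ j hj] at h2
    simp only [map_sub, sub_eq_zero] at h
    exact h2 h
  · rw [eq_bot_iff]
    intro z hz
    have : Nonempty ι := ⟨i₀⟩
    obtain ⟨j, x, rfl⟩ := Module.DirectLimit.exists_of z
    obtain ⟨k, hik, hjk⟩ := exists_ge_ge i₀ j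
    rw [← Module.DirectLimit.of_f (hij := hjk)] at hz ⊢
    set y := f j k hjk x
    by_contra hy
    have hne : N.comap (Module.DirectLimit.of R ι E f k) ≠ ⊥ := fun e => hy (by
      have : y ∈ N.comap (Module.DirectLimit.of R ι E f k) := hz
      rw [e, Submodule.mem_bot] at this
      simp [this])
    obtain ⟨w, ⟨hwN, ⟨m, rfl⟩⟩, hw0⟩ := Submodule.exists_mem_ne_zero_of_ne_bot ((he k).essential _ hne)
    have h1 : Module.DirectLimit.of R ι E f k (g k m) ∈ N ⊓ LinearMap.range (Module.DirectLimit.of R ι E f i₀ ∘ₗ g i₀) :=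
      ⟨hwN, ⟨m, by rw [LinearMap.comp_apply, ← Module.DirectLimit.of_f (hij := hik)]; exact congrArg _ (LinearMap.congr_fun (hg i₀ k hik) m)⟩⟩
    rw [hbot, Submodule.mem_bot] at h1
    obtain ⟨l, hl, h2⟩ := Module.DirectLimit.of.zero_exact h1
    rw [← LinearMap.comp_apply, hg k l hl] at h2
    exact hw0 (by rw [(he l).injective (h2.trans (map_zero _).symm), map_zero])

end Groth.Agent.S8936
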