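import Groth.Statements.S8947
import Groth.Agent.Lib.DualRing.RelCM
import Groth.Agent.Lib.DualRing.ShriekFinite
-- import your own Groth.Agent.* helpers here

set_option autoImplicit false
universe u
open CategoryTheory AlgebraicGeometry
attribute [local instance] HasDerivedCategory.standard
open Dual2

namespace Groth.Agent.S8947

/-- Let R → A be a finite type map of Noetherian rings with relative dualizing complex ω_{A/R} =
φ^!(R[0]) (computed through a presentation ψ : R[x_1, …, x_n] → A as RHom_P(A, R ⊗^L_R P)[n], the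
derived base change being assumed to exist and RHom_P(A, −) being a right adjoint of restriction of
scalars). Let p be a prime of R such that R_p is Cohen–Macaulay, and r a natural number bounding the
transcendence degree of κ(q) over κ(R ∩ q) for every minimal prime q of A. Then, S denoting the
image of R ∖ p in A, the localization S⁻¹H^i(ω_{A/R}) is nonzero only if −r ≤ i, and
S⁻¹H^{−r}(ω_{A/R}) satisfies Serre's condition (S_2) as an S⁻¹A-module. -/
theorem result (R A : Type u) [CommRing R] [CommRing A] [IsNoetherianRing R] [IsNoetherianRing A] [Algebra R A] (n : ℕ) (ψ : MvPolynomial (Fin n) R →ₐ[R] A) (hψ : Function.Surjective ψ) [DRing.HasLBaseChange (algebraMap R (MvPolynomial (Fin n) R))] (Rψ : Dual.D (MvPolynomial (Fin n) R) ⥤ Dual.D A) (adj : DRing.restrictD ψ.toRingHom ⊣ Rψ) (p : Ideal R) [p.IsPrime] [LocCoh.IsCohenMacaulayLocalRing (Localization.AtPrime p)] (r : ℕ) (hr : ∀ q : PrimeSpectrum A, q.asIdeal ∈ minimalPrimes A → Dual3.resTrdeg (Spec.map (CommRingCat.ofHom (algebraMap R A))) q ≤ (r : Cardinal.{u})) : (∀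 i : ℤ, Nontrivial (LocalizedModule (Algebra.algebraMapSubmonoid A p.primeCompl) (Dual.HD A (Dual2.shriekVia n Rψ (Dual.inD R R)) i)) → -(r : ℤ) ≤ i) ∧ LocCoh.HasSk 2 (Localization (Algebra.algebraMapSubmonoid A p.primeCompl)) (LocalizedModule (Algebra.algebraMapSubmonoid A p.primeCompl) (Dual.HD A (Dual2.shriekVia n Rψ (Dual.inD R R)) (-(r : ℤ)))) := by
  haveI := GrothLib.DualRing.Shriek.pfl_of_flat R (P := MvPolynomial (Fin n) R)
  obtain ⟨e⟩ := GrothLib.DualRing.Shriek.nonempty_shriekVia ψ Rψ adj (Dual.inD R R)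
  let S := Algebra.algebraMapSubmonoid A p.primeCompl
  refine ⟨fun i h => ?_, ?_⟩
  · haveI := h
    let E := ((DerivedCategory.homologyFunctor (ModuleCat.{u} A) i).mapIso e).toLinearEquiv
    exact GrothLib.DualRing.FibreDim.neg_le_of_nontrivial_localized ψ hψ p r hr i
      (IsLocalizedModule.iso S ((LocalizedModule.mkLinearMap S _).comp E.symm.toLinearMap)).toEquiv.nontrivial
  intro Q hQ
  let H := Dual.HD A (Dual2.shriekVia n Rψ (Dual.inD R R)) (-(r : ℤ))
  let H' := Dual.HD A (GrothLib.DualRing.Shriek.GP ψ (Dual.inD R R)) (-(r : ℤ))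
  let E : H ≃ₗ[A] H' := ((DerivedCategory.homologyFunctor (ModuleCat.{u} A) (-(r : ℤ))).mapIso e).toLinearEquiv
  let T := Localization S
  let TQ := Localization.AtPrime Q
  let M := LocalizedModule S H
  let q : PrimeSpectrum A := PrimeSpectrum.comap (algebraMap A T) ⟨Q, hQ⟩
  haveI : IsLocalization.AtPrime TQ q.asIdeal :=
    IsLocalization.isLocalization_isLocalization_atPrime_isLocalization S TQ Q
  let g : H' →ₗ[A] LocalizedModule Q.primeCompl M :=
    (((LocalizedModule.mkLinearMap Q.primeCompl M).restrictScalars A).comp (LocalizedModule.mkLinearMap S H)).comp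
      E.symm.toLinearMap
  haveI : IsLocalizedModule q.asIdeal.primeCompl g := by
    have h1 : IsBaseChange TQ (((LocalizedModule.mkLinearMap Q.primeCompl M).restrictScalars A).comp
        (LocalizedModule.mkLinearMap S H)) :=
      ((isLocalizedModule_iff_isBaseChange S T (LocalizedModule.mkLinearMap S H)).1 inferInstance).comp
        ((isLocalizedModule_iff_isBaseChange Q.primeCompl TQ (LocalizedModule.mkLinearMap Q.primeCompl M)).1 inferInstance)
    haveI := (isLocalizedModule_iff_isBaseChange q.asIdeal.primeCompl TQ _).2 h1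
    exact inferInstanceAs (IsLocalizedModule q.asIdeal.primeCompl
      ((((LocalizedModule.mkLinearMap Q.primeCompl M).restrictScalars A).comp
        (LocalizedModule.mkLinearMap S H)).comp E.symm.toLinearMap))
  have hqp : q.asIdeal.comap (algebraMap R A) ≤ p := fun a ha => by
    by_contra hap
    exact hQ.ne_top (Ideal.eq_top_of_isUnit_mem _ ha
      (IsLocalization.map_units T (⟨algebraMap R A a, Algebra.mem_algebraMapSubmonoid_of_mem ⟨a, hap⟩⟩ : S)))
  haveI : Module.Finite A H' := GrothLib.DualRing.FibreDim.finite_HD_GP_self ψ hψ _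
  have hle := GrothLib.DualRing.FibreDim.le_depth_HD_GP ψ hψ p r hr q hqp
  rw [GrothLib.DepthExt20.depth_eq_of_isLocalization q.asIdeal TQ (LocalizedModule Q.primeCompl M) g] at hle
  refine le_trans ?_ (WithBot.coe_le_coe.2 hle)
  rw [WithBot.coe_min]
  refine min_le_min (le_of_eq rfl) ?_
  refine (Module.supportDim_le_ringKrullDim _ _).trans (le_of_eq ?_)
  rw [IsLocalization.AtPrime.ringKrullDim_eq_height q.asIdeal TQ, PrimeSpectrum.height_eq_orderHeight]

end Groth.Agent.S8947
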