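import Groth.Statements.S8953
import Groth.Agent.S1799
import Groth.Agent.S8943
import Groth.Agent.S1784
import Groth.Agent.Lib.ShriekOmega29.Basic

set_option autoImplicit false
universe u
open CategoryTheory AlgebraicGeometry
open scoped TensorProduct
attribute [local instance] HasDerivedCategory.standard
open Disc

namespace Groth.Agent.S8953

/-- Let A → B be a quasi-finite map of Noetherian rings, written as a composite A → B′ → B in which the
first map A → B′ is finite and the induced morphism Spec(B) → Spec(B′) is an open immersion, so that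
ω_{B/A} = Hom_A(B′, A) ⊗_{B′} B; and let ω^•_{B/A} = φ^!(A[0]) be the algebraic relative dualizing
complex computed through a presentation ψ : A[x_1, …, x_n] → B (derived base change assumed to
exist, RHom_P(B, −) given as a right adjoint of restriction of scalars). Then there is a
(non-unique) B-linear isomorphism H^0(ω^•_{B/A}) ≅ ω_{B/A}. -/
theorem result (A B B' : Type u) [CommRing A] [CommRing B] [CommRing B'] [IsNoetherianRing A] [IsNoetherianRing B] [Algebra A B] [Algebra A B'] [Algebra B' B] [IsScalarTower A B' B] [Module.Finite A B'] (hopen : IsOpenImmersion (Spec.map (CommRingCat.ofHom (algebraMap B' B)))) (n : ℕ) (ψ : MvPolynomial (Fin n) A →ₐ[A] B) (hψ : Function.Surjective ψ) [DRing.HasLBaseChange (algebraMap A (MvPolynomial (Fin n) A))] (Rψ : Dual.D (MvPolynomial (Fin n) A) ⥤ Dual.D B) (adj : DRing.restrictD ψ.toRingHom ⊣ Rψ) : Nonempty (Dual.HD B (Dual2.shriekVia n Rψ (Dual.inD A A)) 0 ≃ₗ[B] (B ⊗[B'] Disc.Omega A B')) := by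
  classical
  haveI : IsNoetherianRing B' := IsNoetherianRing.of_finite A B'
  haveI : Module.Flat B' B :=
    RingHom.flat_algebraMap_iff.1 ((HasRingHomProperty.Spec_iff (P := @Flat)).1 (inferInstance :
      Flat (Spec.map (CommRingCat.ofHom (algebraMap B' B)))))
  haveI : Algebra.FiniteType A B := Algebra.FiniteType.of_surjective ψ hψ
  haveI : Algebra.FiniteType B' B := Algebra.FiniteType.of_restrictScalars_finiteType A B' B
  obtain ⟨n₁, ψ₁, hψ₁⟩ := (Algebra.FiniteType.iff_quotient_mvPolynomial'' (R := A) (S := B')).1 inferInstance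
  obtain ⟨m, χ, hχ⟩ := (Algebra.FiniteType.iff_quotient_mvPolynomial'' (R := B') (S := B)).1 inferInstance
  haveI := GrothLib.KF.hasLBaseChange (algebraMap A (MvPolynomial (Fin n₁) A))
  haveI := GrothLib.KF.hasLBaseChange (algebraMap B' (MvPolynomial (Fin m) B'))
  haveI := GrothLib.KF.hasLBaseChange (algebraMap B' B)
  let R₁ := GrothLib.DualRing.Shriek.RA ψ₁.toRingHom
  let R₂ := GrothLib.DualRing.Shriek.RA χ.toRingHom
  let R' := GrothLib.DualRing.Shriek.RA (algebraMap A B')
  obtain ⟨e0⟩ := Groth.Agent.S1799.result A B' B n₁ ψ₁ hψ₁ R₁ (GrothLib.DualRing.Shriek.radj _) m χ hχ R₂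
    (GrothLib.DualRing.Shriek.radj _) n ψ hψ Rψ adj (Dual.inD A A) 0 (fun i hi => by
      haveI : (Dual.inD A A).IsGE 0 := inferInstance
      exact (GrothLib.DR.subsingleton_iff_isZero _).2 (DerivedCategory.isZero_of_isGE (Dual.inD A A) 0 i hi))
  obtain ⟨e1⟩ := Groth.Agent.S8943.result B' B hopen m χ hχ R₂ (GrothLib.DualRing.Shriek.radj _)
    (Dual2.shriekVia n₁ R₁ (Dual.inD A A))
  obtain ⟨e2⟩ := Groth.Agent.S1784.result A B' n₁ ψ₁ hψ₁ R₁ (GrothLib.DualRing.Shriek.radj _) R'
    (GrothLib.DualRing.Shriek.radj _) (Dual.inD A A)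
  haveI := GrothLib.DualRing.Shriek.pfl_of_flat B' (P := B)
  obtain ⟨e3⟩ := GrothLib.DualCx22.nonempty_lBase_iso_bcD (A := B') B
  let E : Dual2.shriekVia n Rψ (Dual.inD A A) ≅ (GrothLib.DualCx22.bcD (A := B') B).obj (R'.obj (Dual.inD A A)) :=
    e0 ≪≫ e1 ≪≫ (DRing.LBaseChange (algebraMap B' B)).mapIso e2 ≪≫ e3.app _
  obtain ⟨h0⟩ := GrothLib.DualCx22.nonempty_HD_bcD_equiv (A := B') B (R'.obj (Dual.inD A A)) 0
  obtain ⟨h1⟩ := GrothLib.ShriekOmega29.nonempty_HD_RA_inD (algebraMap A B') (ModuleCat.of A A)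
  obtain ⟨h2⟩ := GrothLib.ShriekOmega29.nonempty_coextend_equiv_omega A B'
  exact ⟨((DerivedCategory.homologyFunctor (ModuleCat.{u} B) 0).mapIso E).toLinearEquiv ≪≫ₗ h0 ≪≫ₗ
    LinearEquiv.baseChange B' B _ _ (h1.trans h2)⟩

end Groth.Agent.S8953
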