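import Groth.Statements.S8954
import Groth.Agent.Lib.RelGCIReg.Local
import Groth.Agent.Lib.RelGCIReg.Finite

set_option autoImplicit false
universe u
open Synt

namespace Groth.Agent.S8954

open TensorProduct
open MvPolynomial in
theorem exists_square_presentation {A B : Type u} [CommRing A] [IsLocalRing A] [CommRing B] [Algebra A B]
    [Module.Finite A B] (h : Synt.IsSyntomic A B) :
    ∃ (n : ℕ) (F : Fin n → MvPolynomial (Fin n) A), Nonempty (B ≃ₐ[A] Synt.RelGCIRing A n n F) := by
  classical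
  haveI := h.2.1
  obtain ⟨n, α, hα⟩ := Algebra.FiniteType.iff_quotient_mvPolynomial''.mp (inferInstance : Algebra.FiniteType A B)
  let P := MvPolynomial (Fin n) A
  let I := RingHom.ker α.toRingHom
  have hIfg : I.FG := Algebra.FinitePresentation.ker_fG_of_surjective α hα
  -- the maximal ideals of `B`
  let m := IsLocalRing.maximalIdeal A
  let pm : PrimeSpectrum A := ⟨m, inferInstance⟩
  have hlies : ∀ M : MaximalSpectrum B, M.asIdeal.comap (algebraMap A B) = m := fun M => by
    haveI : Algebra.IsIntegral A B := Algebra.IsIntegral.of_finite A B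
    exact IsLocalRing.eq_maximalIdeal (Ideal.isMaximal_comap_of_isIntegral_of_isMaximal M.asIdeal)
  haveI : Module.Finite pm.asIdeal.ResidueField (pm.asIdeal.Fiber B) :=
    inferInstanceAs (Module.Finite pm.asIdeal.ResidueField (pm.asIdeal.ResidueField ⊗[A] B))
  haveI : IsArtinianRing (pm.asIdeal.Fiber B) := IsArtinianRing.of_finite pm.asIdeal.ResidueField _
  haveI : Finite (MaximalSpectrum B) := Finite.of_injective
    (fun M => PrimeSpectrum.preimageOrderIsoFiber A B pm
      ⟨M.toPrimeSpectrum, PrimeSpectrum.ext (hlies M)⟩) fun M M' hMM => by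
      have := congrArg (fun z : PrimeSpectrum.comap (algebraMap A B) ⁻¹' {pm} => z.1)
        ((PrimeSpectrum.preimageOrderIsoFiber A B pm).injective hMM)
      exact MaximalSpectrum.toPrimeSpectrum_injective this
  letI := Fintype.ofFinite (MaximalSpectrum B)
  -- local generators
  have hloc : ∀ M : MaximalSpectrum B, ∃ g : P, α g ∉ M.asIdeal ∧ ∃ x : Fin n → P,
      (∀ i, x i ∈ I) ∧ ∀ a ∈ I, ∃ u : P, α u ∉ M.asIdeal ∧ u * a ∈ Ideal.span (Set.range x) := by
    intro M
    obtain ⟨g, hg, c, x, hx, hgen, hF, ⟨e⟩⟩ :=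
      GrothLib.RelGCIReg.exists_presentation_away h α hα M.asIdeal
    have hd : Disjoint (Submonoid.powers (α g) : Set B) (M.asIdeal : Set B) :=
      Set.disjoint_left.mpr fun y ⟨k, hk⟩ hy =>
        hg (M.2.isPrime.mem_of_pow_mem k ((show α g ^ k = y from hk).symm ▸ hy))
    haveI : (M.asIdeal.map (algebraMap B (Localization.Away (α g)))).IsPrime :=
      IsLocalization.isPrime_of_isPrime_disjoint (Submonoid.powers (α g)) _ _ M.2.isPrime hd
    haveI : Nontrivial (pm.asIdeal.Fiber (Localization.Away (α g))) := by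
      refine PrimeSpectrum.nonempty_iff_nontrivial.mp ⟨PrimeSpectrum.preimageOrderIsoFiber A _ pm
        ⟨⟨M.asIdeal.map (algebraMap B (Localization.Away (α g))), inferInstance⟩, ?_⟩⟩
      show PrimeSpectrum.comap _ _ = pm
      rw [← GrothLib.RelGCIReg.comap_comap_away (α g)]
      refine (congrArg _ (PrimeSpectrum.ext ?_)).trans (PrimeSpectrum.ext (hlies M) :
        PrimeSpectrum.comap (algebraMap A B) M.toPrimeSpectrum = pm)
      exact IsLocalization.comap_map_of_isPrime_disjoint (Submonoid.powers (α g)) _ M.2.isPrime hd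
    have hle : ringKrullDim (pm.asIdeal.Fiber (Localization.Away (α g))) ≤ 0 := by
      rw [GrothLib.RelGCIReg.ringKrullDim_fiber_away]
      haveI : Nontrivial (pm.asIdeal.Fiber B) :=
        PrimeSpectrum.nonempty_iff_nontrivial.mp ⟨PrimeSpectrum.preimageOrderIsoFiber A B pm
          ⟨M.toPrimeSpectrum, PrimeSpectrum.ext (hlies M)⟩⟩
      refine le_trans ?_
        (le_of_eq (GrothLib.RelGCIReg.ringKrullDim_eq_zero_of_finite pm.asIdeal.ResidueField (pm.asIdeal.Fiber B)))
      refine le_trans ?_ (le_of_eq (Order.krullDim_eq_of_orderIso (PrimeSpectrum.preimageOrderIsoFiber A B pm)))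
      exact Order.krullDim_le_of_strictMono
        (fun z : GrothLib.RelGCIReg.AwaySet B pm (α g) =>
          (⟨z.1, z.2.1⟩ : PrimeSpectrum.comap (algebraMap A B) ⁻¹' {pm}))
        fun a b hab => hab
    let E := Algebra.TensorProduct.congr (AlgEquiv.refl (R := pm.asIdeal.ResidueField)
      (A₁ := pm.asIdeal.ResidueField)) e
    haveI : Nontrivial (pm.asIdeal.Fiber (Synt.RelGCIRing A (n + 1) (c + 1) (GrothLib.RelGCIReg.snocSeq x g))) :=
      E.symm.toEquiv.nontrivial
    obtain ⟨hcn, hdim⟩ := hF pm inferInstance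
    obtain rfl : c = n := by
      have : ((n + 1 - (c + 1) : ℕ) : WithBot ℕ∞) ≤ 0 := by
        rw [← hdim, ← ringKrullDim_eq_of_ringEquiv E.toRingEquiv]
        exact hle
      have : n + 1 - (c + 1) ≤ 0 := by exact_mod_cast this
      omega
    refine ⟨g, hg, x, hx, fun a ha => ?_⟩
    have : algebraMap P (Localization.Away g) a ∈ (Ideal.span (Set.range x)).map (algebraMap P _) :=
      hgen ▸ Ideal.mem_map_of_mem _ ha
    obtain ⟨_, ⟨k, rfl⟩, hk⟩ :=
      (IsLocalization.algebraMap_mem_map_algebraMap_iff (Submonoid.powers g) _ _ _).mp this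
    exact ⟨g ^ k, fun hm => hg (M.2.isPrime.mem_of_pow_mem k (map_pow α g k ▸ hm)), hk⟩
  choose g hg x hx hu using hloc
  have he : ∀ M : MaximalSpectrum B, ∃ e : B, e ∉ M.asIdeal ∧ ∀ M', M' ≠ M → e ∈ M'.asIdeal := by
    intro M
    have hex : ∀ M' : MaximalSpectrum B, ∃ e : B, e ∉ M.asIdeal ∧ (M' ≠ M → e ∈ M'.asIdeal) := fun M' => by
      by_cases hMM : M' = M
      · exact ⟨1, fun h1 => M.2.ne_top ((Ideal.eq_top_iff_one _).mpr h1), fun h1 => (h1 hMM).elim⟩
      · obtain ⟨e, he1, he2⟩ := Set.not_subset.mp (show ¬ (M'.asIdeal : Set B) ⊆ M.asIdeal from fun hle =>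
          hMM (MaximalSpectrum.ext (M'.2.eq_of_le M.2.ne_top hle)))
        exact ⟨e, he2, fun _ => he1⟩
    choose e he1 he2 using hex
    refine ⟨∏ M', e M', fun hmem => ?_, fun M' hne => by
      rw [← Finset.mul_prod_erase Finset.univ e (Finset.mem_univ M')]
      exact Ideal.mul_mem_right _ _ (he2 M' hne)⟩
    obtain ⟨M', -, hM'⟩ := (Ideal.IsPrime.prod_mem_iff (p := M.asIdeal) (hp := M.2.isPrime)).mp hmem
    exact he1 M' hM'
  choose e₀ he₀ he₀' using he
  choose e he using fun M => hα (e₀ M)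
  let f : Fin n → P := fun i => ∑ M, e M * x M i
  have hfI : ∀ i, f i ∈ I := fun i => Ideal.sum_mem _ fun M _ => Ideal.mul_mem_left _ _ (hx M i)
  let J := Ideal.span (Set.range f)
  have hJI : J ≤ I := Ideal.span_le.mpr (by rintro _ ⟨i, rfl⟩; exact hfI i)
  have hu' : ∀ M : MaximalSpectrum B, ∀ a ∈ I, ∃ u : P, α u ∉ M.asIdeal ∧ u * a ∈ J := by
    intro M a ha
    let p : Ideal P := M.asIdeal.comap α.toRingHom
    haveI : p.IsPrime := Ideal.IsPrime.comap _
    let L := Localization.AtPrime p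
    have hIp : I ≤ p := fun y hy => by
      show α y ∈ M.asIdeal
      rw [show α y = 0 from hy]
      exact M.asIdeal.zero_mem
    have hN : I.map (algebraMap P L) ≤ J.map (algebraMap P L) := by
      refine Submodule.le_of_le_smul_of_le_jacobson_bot (I := IsLocalRing.maximalIdeal L) (hIfg.map _)
        (IsLocalRing.maximalIdeal_le_jacobson _) ?_
      rw [Ideal.map_le_iff_le_comap]
      intro b hb
      rw [Ideal.mem_comap]
      obtain ⟨u, hu1, hu2⟩ := hu M b hb
      have hxs : ∀ i, algebraMap P L (x M i) ∈ J.map (algebraMap P L) ⊔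
          IsLocalRing.maximalIdeal L • I.map (algebraMap P L) := by
        intro i
        refine (Ideal.unit_mul_mem_iff_mem _ (IsLocalization.map_units L
          (⟨e M, fun hmem => he₀ M (he M ▸ hmem)⟩ : p.primeCompl))).mp ?_
        have hs := Finset.add_sum_erase Finset.univ (fun M' => e M' * x M' i) (Finset.mem_univ M)
        rw [← map_mul, show e M * x M i = f i - ∑ M' ∈ Finset.univ.erase M, e M' * x M' i from
          eq_sub_of_add_eq hs, map_sub, map_sum (algebraMap P L) _ (Finset.univ.erase M)]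
        refine sub_mem (Ideal.mem_sup_left (Ideal.mem_map_of_mem _ (show f i ∈ J from Ideal.subset_span ⟨i, rfl⟩)))
          (Ideal.mem_sup_right (Ideal.sum_mem _ fun M' hM' => ?_))
        rw [map_mul]
        refine Submodule.smul_mem_smul ?_ (Ideal.mem_map_of_mem _ (hx M' i))
        rw [← Localization.AtPrime.map_eq_maximalIdeal]
        refine Ideal.mem_map_of_mem _ ?_
        show α (e M') ∈ M.asIdeal
        rw [he]
        exact he₀' M' M (Finset.ne_of_mem_erase hM').symm
      have hsp : (Ideal.span (Set.range (x M))).map (algebraMap P L) ≤ J.map (algebraMap P L) ⊔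
          IsLocalRing.maximalIdeal L • I.map (algebraMap P L) := by
        rw [Ideal.map_span, Ideal.span_le]
        rintro _ ⟨_, ⟨i, rfl⟩, rfl⟩
        exact hxs i
      refine (Ideal.unit_mul_mem_iff_mem _
        (IsLocalization.map_units L (⟨u, hu1⟩ : p.primeCompl))).mp ?_
      rw [← map_mul]
      exact hsp (Ideal.mem_map_of_mem _ hu2)
    obtain ⟨u, hu1, hu2⟩ := (IsLocalization.algebraMap_mem_map_algebraMap_iff p.primeCompl L J a).mp
      (hN (Ideal.mem_map_of_mem _ ha))
    exact ⟨u, hu1, hu2⟩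
  let C : Ideal P := J.colon (I : Set P)
  have htop : C ⊔ I = ⊤ := by
    by_contra hne
    obtain ⟨N, hN, hle⟩ := Ideal.exists_le_maximal _ hne
    haveI := hN.isPrime
    have hkN : I ≤ N := le_sup_right.trans hle
    have hNc : N = (N.map α.toRingHom).comap α.toRingHom := by
      rw [Ideal.comap_map_of_surjective' α.toRingHom hα, sup_eq_left.mpr hkN]
    haveI : (N.map α.toRingHom).IsMaximal :=
      Ideal.map_eq_top_or_isMaximal_of_surjective α.toRingHom hα hN |>.resolve_left fun htop => hN.ne_top (by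
        rw [hNc, htop, Ideal.comap_top])
    obtain ⟨s, hs⟩ := id hIfg
    have hsI : ∀ a ∈ s, a ∈ I := fun a ha => by rw [← hs]; exact Ideal.subset_span ha
    choose u hu1 hu2 using fun a : s => hu' ⟨N.map α.toRingHom, inferInstance⟩ a.1 (hsI a.1 a.2)
    have hU : ∏ a, u a ∈ C := by
      rw [Submodule.mem_colon]
      intro b hb
      have hb' : b ∈ Ideal.span (s : Set P) := hs.symm ▸ hb
      refine Submodule.span_induction (p := fun y _ => (∏ a, u a) • y ∈ J) ?_ ?_ ?_ ?_ hb'
      · intro y hy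
        rw [← Finset.mul_prod_erase Finset.univ u (Finset.mem_univ (⟨y, hy⟩ : s)), smul_eq_mul,
          mul_comm (u _), mul_assoc]
        exact Ideal.mul_mem_left _ _ (hu2 ⟨y, hy⟩)
      · rw [smul_zero]; exact J.zero_mem
      · intro y z _ _ h1 h2
        rw [smul_add]
        exact add_mem h1 h2
      · intro r y _ h1
        rw [smul_comm]
        exact J.smul_mem r h1
    obtain ⟨a, -, ha⟩ := (Ideal.IsPrime.prod_mem_iff (p := N.map α.toRingHom)).mp
      (Ideal.mem_map_of_mem α.toRingHom (hle (Ideal.mem_sup_left hU)) |> fun hh => by rwa [map_prod] at hh)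
    exact hu1 a ha
  obtain ⟨g₀, hg₀, y, hy, hgy⟩ := Submodule.mem_sup.mp (htop ▸ Submodule.mem_top : (1 : P) ∈ C ⊔ I)
  obtain ⟨e₁⟩ := GrothLib.RelGCIReg.nonempty_awayEquiv f g₀
  let Q := P ⧸ J
  let h₀ : Q := Ideal.Quotient.mk J g₀
  let ψ : Q →ₐ[A] B := Ideal.Quotient.liftₐ J α fun z hz => hJI hz
  have hψg : ψ h₀ = 1 := by
    show α g₀ = 1
    rw [← map_one α, ← hgy, map_add, show α y = 0 from hy, add_zero]
  let Ψ : Localization.Away h₀ →ₐ[A] B := IsLocalization.liftAlgHom (M := Submonoid.powers h₀) (f := ψ) (by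
    rintro ⟨z, k, rfl⟩
    rw [map_pow, hψg, one_pow]
    exact isUnit_one)
  have hΨ : ∀ z, Ψ (algebraMap Q _ z) = ψ z := fun z => IsLocalization.lift_eq _ z
  have hbij : Function.Bijective Ψ := by
    refine ⟨(injective_iff_map_eq_zero Ψ).mpr fun z hz => ?_, fun b => ?_⟩
    · obtain ⟨⟨q, ⟨_, k, rfl⟩⟩, hs⟩ := IsLocalization.surj (Submonoid.powers h₀) z
      obtain ⟨a, rfl⟩ := Ideal.Quotient.mk_surjective q
      have ha : a ∈ I := by
        show α a = 0
        rw [show α a = ψ (Ideal.Quotient.mk J a) from rfl, ← hΨ, ← hs, map_mul, hz, zero_mul]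
      have h0 : algebraMap Q (Localization.Away h₀) (Ideal.Quotient.mk J a) = 0 :=
        (IsLocalization.map_eq_zero_iff (Submonoid.powers h₀) _ _).mpr ⟨⟨h₀, 1, pow_one _⟩, by
          show Ideal.Quotient.mk J g₀ * Ideal.Quotient.mk J a = 0
          rw [← map_mul, Ideal.Quotient.eq_zero_iff_mem]
          exact Submodule.mem_colon.mp hg₀ a ha⟩
      rw [h0] at hs
      exact (IsUnit.mul_left_eq_zero (IsLocalization.map_units _ (⟨_, k, rfl⟩ : Submonoid.powers h₀))).mp hs
    · obtain ⟨a, rfl⟩ := hα b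
      exact ⟨algebraMap Q _ (Ideal.Quotient.mk J a), hΨ _⟩
  exact ⟨n + 1, GrothLib.RelGCIReg.snocSeq f g₀, ⟨(AlgEquiv.ofBijective Ψ hbij).symm.trans e₁⟩⟩

theorem result (A B : Type u) [CommRing A] [IsLocalRing A] [CommRing B] [Algebra A B] [Module.Finite A B] : Synt.IsSyntomic A B ↔ ∃ (n : ℕ) (F : Fin n → MvPolynomial (Fin n) A), Nonempty (B ≃ₐ[A] Synt.RelGCIRing A n n F) :=
  ⟨exists_square_presentation, fun ⟨_, F, ⟨e⟩⟩ => GrothLib.RelGCIReg.isSyntomic_of_finite_presentation F e⟩

end Groth.Agent.S8954
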