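import Groth.Statements.S8955
import Groth.Agent.Lib.LCDeriv.EtaleExt

set_option autoImplicit false
universe u
open CategoryTheory AlgebraicGeometry
open LocCoh

namespace Groth.Agent.S8955

/-- For a ring A, a scheme V quasi-compact, separated and étale over Spec A, and a derivation θ of A,
each cohomology module H^i(V, O_V) carries an additive operator D with D(a • ξ) = θ(a) • ξ + a •
D(ξ) (existence only). (The published statement allows V quasi-separated; this row takes V
separated.) -/
theorem result (A : Type u) [CommRing A] (V : Scheme.{u}) [V.Over (Spec (CommRingCat.of A))] [QuasiCompact (V ↘ Spec (CommRingCat.of A))] [IsSeparated (V ↘ Spec (CommRingCat.of A))] [Etale (V ↘ Spec (CommRingCat.of A))] (θ : Derivation ℤ A A) (i : ℕ) : ∃ D : Coh.HH V (Coh.structureModule V) i →+ Coh.HH V (Coh.structureModule V) i, ∀ (a : A) (ξ : Coh.HH V (Coh.structureModule V) i), D (a • ξ) = θ a • ξ + a • D ξ := by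
    obtain ⟨c, hc⟩ := GrothLib.LCDeriv.exists_sheaf_op (V ↘ Spec (CommRingCat.of A)) θ
    exact ⟨Sheaf.H.map c i, fun a ξ => GrothLib.LCDeriv.H_map_leibniz (hc a) i ξ⟩

end Groth.Agent.S8955
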