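import Groth.Statements.S8963
import Mathlib
import Groth.Agent.Lib.QFDual2.Fibre

set_option autoImplicit false
universe u
open TensorProduct
open QFDual

namespace Groth.Agent.S8963

open TensorProduct


/-- Invertibility of the relative dualizing module is a fibrewise condition. Let A → B be a flat
homomorphism of Noetherian rings with a factorization A → B' → B, A → B' finite and Spec B → Spec B'
an open immersion, so that A → B is quasi-finite and ω_{B/A} = B ⊗_{B'} Hom_A(B', A). The B-module
ω_{B/A} is invertible exactly when, for every prime p of A and every presentation of the fibre rings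
B'_p = B' ⊗_A κ(p), B_p = B ⊗_A κ(p) as cocartesian squares over the residue field κ(p) (compatibly
with B' → B), the module ω_{B_p/κ(p)} = B_p ⊗_{B'_p} Hom_{κ(p)}(B'_p, κ(p)) is an invertible
B_p-module. -/
theorem result (A B' B : Type u) [CommRing A] [CommRing B'] [CommRing B] [IsNoetherianRing A] [IsNoetherianRing B] [Algebra A B'] [Algebra B' B] [Algebra A B] [IsScalarTower A B' B] [Module.Flat A B] (hf : QFDual.IsQFFactor A B' B) : Module.Invertible B (QFDual.omega A B' B) ↔ ∀ (p : Ideal A) [p.IsPrime] (B'₁ B₁ : Type u) [CommRing B'₁] [CommRing B₁] [Algebra B' B'₁] [Algebra p.ResidueField B'₁] [Algebra A B'₁] [IsScalarTower A p.ResidueField B'₁] [IsScalarTower A B' B'₁] [Algebra B B₁] [Algebra p.ResidueField B₁] [Algebra A B₁] [IsScalarTower A p.ResidueField B₁] [IsScalarTower A B B₁] [Algebra B'₁ B₁] [Algebra B' B₁] [IsScalarTower B' B'₁ B₁] [IsScalarTower B' B B₁] [IsScalarTower p.ResidueField B'₁ B₁], Algebra.IsPushout A p.ResidueField B' B'₁ → Algebra.IsPushout A p.ResidueField B B₁ → Module.Invertible B₁ (QFDual.omega p.ResidueField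 B'₁ B₁) := by
  classical
  haveI := hf.finite
  haveI := GrothLib.QFDual2.flat_of_openImmersion hf.isOpenImmersion
  haveI := GrothLib.QFDual2.finite_omega A B'
  constructor
  · intro hinv p _ B'₁ B₁ _ _ _ _ _ _ _ _ _ _ _ _ _ _ _ _ _ h' h
    exact GrothLib.QFDual2.invertible_baseChange (B := B) h' (GrothLib.QFDual2.hasFactors hf.isOpenImmersion B₁)
  · intro H
    refine GrothLib.Different2.invertible_of_locally_cyclic
      (GrothLib.QFDual2.eq_zero_of_smul_omega (GrothLib.QFDual2.hasFactors hf.isOpenImmersion B)) fun q hq => ?_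
    haveI := hq
    let p : Ideal A := q.comap (algebraMap A B)
    letI : Algebra B' (p.Fiber B') := Algebra.TensorProduct.rightAlgebra
    letI : Algebra B (p.Fiber B) := Algebra.TensorProduct.rightAlgebra
    let ι : p.Fiber B' →ₐ[p.ResidueField] p.Fiber B :=
      Algebra.TensorProduct.map (AlgHom.id _ _) (IsScalarTower.toAlgHom A B' B)
    letI : Algebra (p.Fiber B') (p.Fiber B) := ι.toAlgebra
    letI : Algebra B' (p.Fiber B) := ((algebraMap B (p.Fiber B)).comp (algebraMap B' B)).toAlgebra
    haveI : IsScalarTower B' B (p.Fiber B) := IsScalarTower.of_algebraMap_eq fun _ => rfl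
    haveI : IsScalarTower B' (p.Fiber B') (p.Fiber B) := IsScalarTower.of_algebraMap_eq fun x => rfl
    haveI : IsScalarTower p.ResidueField (p.Fiber B') (p.Fiber B) := IsScalarTower.of_algebraMap_eq fun x => (ι.commutes x).symm
    let ρ : p.Fiber B →ₐ[A] B ⧸ q := Algebra.TensorProduct.lift
      (Ideal.ResidueField.liftₐ p (IsScalarTower.toAlgHom A A (B ⧸ q))
        (fun a ha => by
          rw [RingHom.mem_ker]
          show algebraMap A (B ⧸ q) a = 0
          rw [IsScalarTower.algebraMap_apply A B (B ⧸ q), Ideal.Quotient.algebraMap_eq]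
          exact Ideal.Quotient.eq_zero_iff_mem.2 ha)
        (fun a ha => by
          show IsUnit (algebraMap A (B ⧸ q) a)
          letI := Ideal.Quotient.field q
          rw [IsScalarTower.algebraMap_apply A B (B ⧸ q), Ideal.Quotient.algebraMap_eq, isUnit_iff_ne_zero]
          exact fun h0 => ha ((Ideal.Quotient.eq_zero_iff_mem (I := q)).1 h0)))
      (IsScalarTower.toAlgHom A B (B ⧸ q)) fun _ _ => Commute.all _ _
    letI : Algebra (p.Fiber B) (B ⧸ q) := ρ.toAlgebra
    haveI : IsScalarTower B' (p.Fiber B) (B ⧸ q) := IsScalarTower.of_algebraMap_eq fun x => by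
      show algebraMap B' (B ⧸ q) x = ρ ((1 : p.ResidueField) ⊗ₜ[A] algebraMap B' B x)
      rw [Algebra.TensorProduct.lift_tmul, map_one, one_mul, IsScalarTower.algebraMap_apply B' B (B ⧸ q)]
      rfl
    have h1 : Algebra.IsPushout A p.ResidueField B' (p.Fiber B') := TensorProduct.isPushout
    have h2 : Algebra.IsPushout A p.ResidueField B (p.Fiber B) := TensorProduct.isPushout
    haveI := H p (p.Fiber B') (p.Fiber B) h1 h2
    exact GrothLib.QFDual2.exists_local_generator_of_fibre (B₁ := p.Fiber B) h1
      (GrothLib.QFDual2.hasFactors hf.isOpenImmersion (p.Fiber B)) q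

end Groth.Agent.S8963
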