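import Groth.Statements.S8964
import Mathlib
import Groth.Agent.S8963
import Groth.Agent.Lib.QFDual2.Field
import Groth.Agent.Lib.GorFlat.Rings

set_option autoImplicit false
universe u
open TensorProduct
open QFDual

namespace Groth.Agent.S8964

open TensorProduct


/-- A quasi-finite syntomic map has an invertible relative dualizing module. Let A be a Noetherian ring
and A → B a syntomic ring map (flat, of finite presentation, with fibres local complete
intersections), and suppose it factors through an intermediate ring B', with A → B' a finite map and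
the induced morphism Spec B → Spec B' an open immersion, so that A → B is quasi-finite and ω_{B/A} =
B ⊗_{B'} Hom_A(B', A). Then ω_{B/A} is an invertible B-module. (The published statement is for a
locally quasi-finite syntomic morphism of locally Noetherian schemes and the sheaf ω_{Y/X}; this row
is its form over a pair of affine opens.) -/
theorem result (A B' B : Type u) [CommRing A] [CommRing B'] [CommRing B] [IsNoetherianRing A] [Algebra A B'] [Algebra B' B] [Algebra A B] [IsScalarTower A B' B] (hf : QFDual.IsQFFactor A B' B) (hs : Synt.IsSyntomic A B) : Module.Invertible B (QFDual.omega A B' B) := by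
  classical
  obtain ⟨hflat, hfp, hfib⟩ := hs
  haveI := hf.finite
  haveI : Algebra.FinitePresentation A B := hfp
  haveI : IsNoetherianRing B := Algebra.FiniteType.isNoetherianRing A B
  haveI : Module.Flat A B := hflat
  refine (Groth.Agent.S8963.result A B' B hf).2 ?_
  intro p _ B'₁ B₁ _ _ _ _ _ _ _ _ _ _ _ _ _ _ _ _ _ h' h
  haveI hA₁ : IsScalarTower A B'₁ B₁ := IsScalarTower.of_algebraMap_eq fun a => by
    rw [IsScalarTower.algebraMap_apply A p.ResidueField B'₁, IsScalarTower.algebraMap_apply A p.ResidueField B₁,
      IsScalarTower.algebraMap_apply p.ResidueField B'₁ B₁]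
  haveI := h'.symm
  have hsq : Algebra.IsPushout B' B B'₁ B₁ :=
    (Algebra.IsPushout.comp_iff (R := A) (S := B') (T := B) (R' := p.ResidueField) (S' := B'₁) (T' := B₁)).1 h.symm
  have hopen : AlgebraicGeometry.IsOpenImmersion
      (AlgebraicGeometry.Spec.map (CommRingCat.ofHom (algebraMap B'₁ B₁))) :=
    CategoryTheory.MorphismProperty.of_isPullback
      (AlgebraicGeometry.isPullback_SpecMap_of_isPushout _ _ _ _ (CommRingCat.isPushout_of_isPushout B' B B'₁ B₁))
      hf.isOpenImmersion
  haveI : Module.Finite p.ResidueField B'₁ :=
    Module.Finite.equiv h'.out.equiv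
  have hG : LocCoh.IsGorensteinRing B₁ :=
    GrothLib.GorFlat.isGorensteinRing_of_ringEquiv (Algebra.IsPushout.equiv A p.ResidueField B B₁).toRingEquiv
      (GrothLib.GorFlat.isGorensteinRing_of_isLCI
        (GrothLib.GorFlat.isGorensteinRing_of_isRegularRing p.ResidueField)
        (GrothLib.LCI6.isLCIOver_iff_isLCI.1 (hfib ⟨p, inferInstance⟩)))
  exact GrothLib.QFDual2.invertible_omega_field hopen hG

end Groth.Agent.S8964
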