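import Groth.Statements.S8957
import Mathlib
import Groth.Agent.S8964
import Groth.Agent.Lib.RelCI.Diff
import Groth.Agent.Lib.RelCI.Kaehler
import Groth.Agent.Lib.NoetherDiff.FlatBaseChange
import Groth.Agent.Lib.Fitting.BaseChange
import Groth.Agent.Lib.RelGCIReg.Local
import Groth.Agent.Lib.RelGCIReg.Finite
import Groth.Agent.S2221

set_option autoImplicit false
universe u
open Disc

namespace Groth.Agent.S8957

open AlgebraicGeometry in
theorem fitting_etale {A S T : Type u} [CommRing A] [CommRing S] [CommRing T] [Algebra A S] [Algebra A T]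
    [Algebra S T] [IsScalarTower A S T] [Algebra.FiniteType A S] [Algebra.FormallyEtale S T] :
    Fitt.ideal T (KaehlerDifferential A T) 0 = (Fitt.ideal S (KaehlerDifferential A S) 0).map (algebraMap S T) :=
  GrothLib.Fitting.ideal_of_isBaseChange T (KaehlerDifferential.isBaseChange_of_formallyEtale A S T) 0

open AlgebraicGeometry in
theorem diff_eq_of_equiv {A L : Type u} [CommRing A] [CommRing L] [Algebra A L] {n : ℕ}
    (f : Fin n → MvPolynomial (Fin n) A) [Algebra.QuasiFinite A (GrothLib.RelCI.quot f)]
    (e : GrothLib.RelCI.quot f ≃ₐ[A] L) :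
    Disc.noetherDifferent A L = Fitt.ideal L (KaehlerDifferential A L) 0 := by
  letI : Algebra (GrothLib.RelCI.quot f) L := e.toAlgHom.toRingHom.toAlgebra
  haveI : IsScalarTower A (GrothLib.RelCI.quot f) L :=
    IsScalarTower.of_algebraMap_eq' e.toAlgHom.comp_algebraMap.symm
  haveI : Algebra.FormallyEtale (GrothLib.RelCI.quot f) L :=
    Algebra.FormallyEtale.of_equiv (AlgEquiv.ofBijective (Algebra.ofId (GrothLib.RelCI.quot f) L) e.bijective)
  haveI : CategoryTheory.IsIso (CommRingCat.ofHom (algebraMap (GrothLib.RelCI.quot f) L)) :=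
    (CategoryTheory.ConcreteCategory.isIso_iff_bijective _).mpr e.bijective
  have ho2 : IsOpenImmersion (Spec.map (CommRingCat.ofHom (algebraMap (GrothLib.RelCI.quot f) L))) := inferInstance
  rw [GrothLib.NoetherDiff.openImmersion ho2, fitting_etale (A := A) (S := GrothLib.RelCI.quot f) (T := L),
    GrothLib.RelCI.noetherDifferent_eq f, GrothLib.RelCI.fitting_kaehler_eq f]

open AlgebraicGeometry in
theorem local_eq {A B : Type u} [CommRing A] [CommRing B] [Algebra A B] (h : Synt.IsSyntomic A B)
    [Module.Finite A B] (q : Ideal B) [q.IsPrime] :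
    ∃ g ∉ q, (Disc.noetherDifferent A B).map (algebraMap B (Localization.Away g)) =
      (Fitt.ideal B (KaehlerDifferential A B) 0).map (algebraMap B (Localization.Away g)) := by
  obtain ⟨g, hg, n, c, F, hF, ⟨e⟩⟩ := GrothLib.RelGCIReg.exists_relGCI_away h q
  refine ⟨g, hg, ?_⟩
  let L := Localization.Away g
  haveI : Algebra.QuasiFinite B L := inferInstance
  haveI : Algebra.QuasiFinite A L := Algebra.QuasiFinite.trans A B L
  haveI : Algebra.QuasiFinite A (Synt.RelGCIRing A n c F) := .of_surjective_algHom e.toAlgHom e.surjective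
  let p : PrimeSpectrum A := ⟨q.comap (algebraMap A B), inferInstance⟩
  haveI : (q.map (algebraMap B L)).IsPrime :=
    IsLocalization.isPrime_of_isPrime_disjoint (Submonoid.powers g) L q ‹_›
      ((Ideal.disjoint_powers_iff_notMem g (‹q.IsPrime›).isRadical).2 hg)
  have hqq : (q.map (algebraMap B L)).comap (algebraMap B L) = q :=
    IsLocalization.under_map_of_isPrime_disjoint (Submonoid.powers g) L ‹_›
      ((Ideal.disjoint_powers_iff_notMem g (‹q.IsPrime›).isRadical).2 hg)
  let Q := (q.map (algebraMap B L)).comap e.symm.toRingHom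
  have hQ : Q.comap (algebraMap A (Synt.RelGCIRing A n c F)) = p.asIdeal := by
    show Q.comap _ = q.comap _
    rw [← hqq, Ideal.comap_comap, Ideal.comap_comap, ← IsScalarTower.algebraMap_eq]
    congr 1
    exact e.symm.toAlgHom.comp_algebraMap
  haveI : Q.LiesOver p.asIdeal := ⟨hQ.symm⟩
  have hne : Nonempty (PrimeSpectrum (p.asIdeal.Fiber (Synt.RelGCIRing A n c F))) :=
    ⟨PrimeSpectrum.primesOverOrderIsoFiber A (Synt.RelGCIRing A n c F) p.asIdeal ⟨Q, inferInstance, inferInstance⟩⟩
  haveI hnt : Nontrivial (p.asIdeal.Fiber (Synt.RelGCIRing A n c F)) := PrimeSpectrum.nonempty_iff_nontrivial.mp hne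
  obtain ⟨hcn, hdim⟩ := hF p hnt
  haveI : IsArtinianRing (p.asIdeal.Fiber (Synt.RelGCIRing A n c F)) :=
    IsArtinianRing.of_finite p.asIdeal.ResidueField (p.asIdeal.Fiber (Synt.RelGCIRing A n c F))
  rw [GrothLib.RelGCIReg.ringKrullDim_eq_zero_of_finite p.asIdeal.ResidueField
    (p.asIdeal.Fiber (Synt.RelGCIRing A n c F))] at hdim
  have hnc : (n - c : ℕ) = 0 := by exact_mod_cast hdim.symm
  obtain rfl : c = n := by omega
  haveI : Algebra.FormallyEtale B L := Algebra.FormallyEtale.of_isLocalization (Submonoid.powers g)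
  have ho1 : IsOpenImmersion (Spec.map (CommRingCat.ofHom (algebraMap B L))) := IsOpenImmersion.of_isLocalization g
  rw [← GrothLib.NoetherDiff.openImmersion ho1, ← fitting_etale (A := A) (S := B) (T := L)]
  exact diff_eq_of_equiv F e.symm

theorem ideal_le_of_local {B : Type u} [CommRing B] (I J : Ideal B)
    (h : ∀ q : Ideal B, q.IsPrime → ∃ g ∉ q, I.map (algebraMap B (Localization.Away g)) ≤ J.map (algebraMap B (Localization.Away g))) :
    I ≤ J := by
  intro x hx
  let K : Ideal B := Submodule.colon J {x}
  suffices hK : K = ⊤ by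
    have h1 : (1 : B) ∈ K := hK ▸ Submodule.mem_top
    simpa [K, Submodule.mem_colon_singleton] using h1
  by_contra hK
  obtain ⟨q, hq, hle⟩ := Ideal.exists_le_maximal K hK
  obtain ⟨g, hg, hmap⟩ := h q hq.isPrime
  obtain ⟨_, ⟨m, rfl⟩, hm⟩ := (IsLocalization.algebraMap_mem_map_algebraMap_iff (Submonoid.powers g)
    (Localization.Away g) J x).1 (hmap (Ideal.mem_map_of_mem _ hx))
  exact hg (hq.isPrime.mem_of_pow_mem m (hle (Submodule.mem_colon_singleton.2 hm)))


/-- Affine case of a finite free syntomic morphism. Let A be a Noetherian ring and B a finite free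
A-algebra with A → B syntomic. Then the different of B over A (the elements b with b · Hom_A(B, A) ⊆
B · Trace_{B/A}) coincides, as a subset of B, with the Kähler different Fit_0(Ω_{B/A}). (The
published statement is for a flat quasi-finite local complete intersection morphism of Noetherian
schemes and the different as an ideal sheaf; this row is its affine finite free case, where the
relative dualizing module is Hom_A(B, A) and the trace element is the trace.) -/
theorem result (A B : Type u) [CommRing A] [CommRing B] [Algebra A B] [IsNoetherianRing A] [Module.Finite A B] [Module.Free A B] (h : Synt.IsSyntomic A B) : Disc.differentSet A B = (Fitt.ideal B (KaehlerDifferential A B) 0 : Set B) := by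
  have hopen : AlgebraicGeometry.IsOpenImmersion
      (AlgebraicGeometry.Spec.map (CommRingCat.ofHom (algebraMap B B))) := by
    haveI : CategoryTheory.IsIso (CommRingCat.ofHom (algebraMap B B)) :=
      (CategoryTheory.ConcreteCategory.isIso_iff_bijective _).mpr Function.bijective_id
    infer_instance
  haveI := Groth.Agent.S8964.result A B B ⟨inferInstance, hopen⟩ h
  haveI : Module.Invertible B (Disc.Omega A B) := Module.Invertible.congr (TensorProduct.lid B (Disc.Omega A B))
  rw [Groth.Agent.S2221.result]
  exact congrArg SetLike.coe (le_antisymm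
    (ideal_le_of_local _ _ fun q hq => (local_eq h q).imp fun g hg => ⟨hg.1, hg.2.le⟩)
    (ideal_le_of_local _ _ fun q hq => (local_eq h q).imp fun g hg => ⟨hg.1, hg.2.ge⟩))

end Groth.Agent.S8957
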