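import Groth.Statements.S8958
import Mathlib

set_option autoImplicit false
universe u
open TensorProduct
open QFDual

namespace Groth.Agent.S8958

theorem toDual_isBaseChange {R V W A : Type u} [CommRing R] [AddCommGroup V] [Module R V]
    [AddCommGroup W] [Module R W] [CommRing A] [Algebra R A] [Module A W] [IsScalarTower R A W]
    {j : V →ₗ[R] W} (ibc : IsBaseChange A j) [Module.Flat R A] [Module.FinitePresentation R V] :
    IsBaseChange A ibc.toDual := by
  refine (IsBaseChange.iff_of_equiv_comm (LinearEquiv.refl R _)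
    (LinearEquiv.arrowCongr ibc.equiv (TensorProduct.AlgebraTensorModule.rid R A A)) ?_).mp
    (Module.FinitePresentation.isBaseChange_map R V R A)
  refine LinearMap.ext fun f => ibc.algHom_ext _ _ fun v => ?_
  simp [IsBaseChange.toDual_comp_apply, IsBaseChange.equiv_symm_apply, Algebra.algebraMap_eq_smul_one]


/-- Flat base change of the relative dualizing module. Let A be a Noetherian ring, A → B' a finite ring
map, A → A₁ a flat ring map with A₁ Noetherian, and B'₁ a ring making A → A₁, B' → B'₁ a cocartesian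
square (so B'₁ = B' ⊗_A A₁). For every B'₁-algebra B₁ the base-change map B₁ ⊗_{B'} Hom_A(B', A) →
B₁ ⊗_{B'₁} Hom_{A₁}(B'₁, A₁), sending b₁ ⊗ φ to b₁ ⊗ φ₁ where φ₁(b' a₁) = φ(b') a₁, is bijective.
(The published statement is the case in which A → B' → B, with Spec B → Spec B' an open immersion,
computes the relative dualizing module ω_{B/A} of a quasi-finite map A → B and B₁ = B ⊗_A A₁, where
the map reads ω_{B/A} ⊗_B B₁ → ω_{B₁/A₁}; the version for an arbitrary B'₁-algebra B₁ is what the
printed argument gives, and with A₁ = A_f, B₁ = B it also yields ω_{B/A} = ω_{B/A_f} when A → B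
factors through A_f.) -/
theorem result (A B' A₁ B'₁ B₁ : Type u) [CommRing A] [CommRing B'] [CommRing A₁] [CommRing B'₁] [CommRing B₁] [IsNoetherianRing A] [IsNoetherianRing A₁] [Algebra A B'] [Module.Finite A B'] [Algebra A A₁] [Module.Flat A A₁] [Algebra B' B'₁] [Algebra A₁ B'₁] [Algebra A B'₁] [IsScalarTower A A₁ B'₁] [IsScalarTower A B' B'₁] (h : Algebra.IsPushout A A₁ B' B'₁) [Algebra B'₁ B₁] [Algebra B' B₁] [IsScalarTower B' B'₁ B₁] : Function.Bijective (QFDual.omegaBC (B₁ := B₁) h) := by
  haveI := Module.finitePresentation_of_finite A B'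
  let hD := toDual_isBaseChange h.out
  letI : Algebra A₁ B₁ := ((algebraMap B'₁ B₁).comp (algebraMap A₁ B'₁)).toAlgebra
  letI : Algebra A B₁ := ((algebraMap B'₁ B₁).comp (algebraMap A B'₁)).toAlgebra
  have hA₁ : ∀ a, algebraMap A₁ B₁ a = algebraMap B'₁ B₁ (algebraMap A₁ B'₁ a) := fun _ => rfl
  have hB' : ∀ b, algebraMap B' B₁ b = algebraMap B'₁ B₁ (algebraMap B' B'₁ b) :=
    IsScalarTower.algebraMap_apply B' B'₁ B₁
  haveI : IsScalarTower A A₁ B₁ := IsScalarTower.of_algebraMap_eq fun a => by
    rw [hA₁, ← IsScalarTower.algebraMap_apply A A₁ B'₁]; rfl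
  haveI : IsScalarTower A B' B₁ := IsScalarTower.of_algebraMap_eq fun a => by
    rw [hB', ← IsScalarTower.algebraMap_apply A B' B'₁]; rfl
  let inc : Module.Dual A B' →ₗ[A] QFDual.omega A B' B₁ :=
    { toFun := fun f => 1 ⊗ₜ[B'] (⟨f⟩ : Disc.Omega A B')
      map_add' := fun f f' => TensorProduct.tmul_add 1 (⟨f⟩ : Disc.Omega A B') ⟨f'⟩
      map_smul' := fun a f => by
        rw [show (⟨a • f⟩ : Disc.Omega A B') = algebraMap A B' a • ⟨f⟩ from
          Disc.Omega.ext (LinearMap.ext fun x => by
            show a • f x = f (algebraMap A B' a * x)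
            rw [← Algebra.smul_def, map_smul]), TensorProduct.tmul_smul, algebraMap_smul, RingHom.id_apply] }
  let g : Module.Dual A₁ B'₁ →ₗ[A₁] QFDual.omega A B' B₁ := hD.lift inc
  have hg : ∀ f : Module.Dual A B', g (QFDual.bcFin h ⟨f⟩).toLinearMap = 1 ⊗ₜ[B'] (⟨f⟩ : Disc.Omega A B') :=
    fun f => hD.lift_eq inc f
  have hsemi : ∀ (ψ : Module.Dual A₁ B'₁) (x : B'₁),
      g (x • (⟨ψ⟩ : Disc.Omega A₁ B'₁)).toLinearMap = algebraMap B'₁ B₁ x • g ψ := by
    intro ψ
    induction ψ using hD.inductionOn with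
    | zero =>
      intro x
      rw [map_zero, smul_zero, show (x • (⟨0⟩ : Disc.Omega A₁ B'₁)).toLinearMap = 0 from LinearMap.zero_comp _, map_zero]
    | tmul f =>
      intro x
      induction x using h.out.inductionOn with
      | zero => simp
      | tmul b =>
        show g (algebraMap B' B'₁ b • QFDual.bcFin h ⟨f⟩).toLinearMap =
          algebraMap B'₁ B₁ (algebraMap B' B'₁ b) • g (QFDual.bcFin h ⟨f⟩).toLinearMap
        rw [← LinearMap.map_smulₛₗ, show g (QFDual.bcFin h (b • (⟨f⟩ : Disc.Omega A B'))).toLinearMap = _ from hg _,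
          hg, ← hB', algebraMap_smul, ← TensorProduct.tmul_smul]
        rfl
      | smul a x hx =>
        rw [show ((a • x) • (⟨h.out.toDual f⟩ : Disc.Omega A₁ B'₁)).toLinearMap =
          a • (x • (⟨h.out.toDual f⟩ : Disc.Omega A₁ B'₁)).toLinearMap from LinearMap.ext fun y => by
            show h.out.toDual f (a • x * y) = a • h.out.toDual f (x * y)
            rw [smul_mul_assoc, map_smul], map_smul, hx, Algebra.smul_def a x, map_mul, mul_smul, ← hA₁]
        exact (algebraMap_smul B₁ a _).symm
      | add x y hx hy => rw [add_smul, Disc.Omega.add_toLinearMap, map_add, hx, hy, map_add, add_smul]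
    | smul a ψ hψ =>
      intro x
      rw [show (x • (⟨a • ψ⟩ : Disc.Omega A₁ B'₁)).toLinearMap = a • (x • (⟨ψ⟩ : Disc.Omega A₁ B'₁)).toLinearMap from rfl,
        map_smul, hψ, map_smul, smul_comm]
    | add ψ ψ' h h' =>
      intro x
      rw [show (x • (⟨ψ + ψ'⟩ : Disc.Omega A₁ B'₁)).toLinearMap = (x • (⟨ψ⟩ : Disc.Omega A₁ B'₁)).toLinearMap +
        (x • (⟨ψ'⟩ : Disc.Omega A₁ B'₁)).toLinearMap from rfl, map_add, h, h', map_add, smul_add]
  let G : QFDual.omega A₁ B'₁ B₁ →+ QFDual.omega A B' B₁ :=
    TensorProduct.liftAddHom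
      (AddMonoidHom.mk' (fun b : B₁ => AddMonoidHom.mk' (fun ψ : Disc.Omega A₁ B'₁ => b • g ψ.toLinearMap)
        fun ψ ψ' => by rw [Disc.Omega.add_toLinearMap, map_add, smul_add])
        fun b b' => AddMonoidHom.ext fun ψ => add_smul b b' (g ψ.toLinearMap))
      fun r b ψ => by
        show (r • b) • g ψ.toLinearMap = b • g (r • ψ).toLinearMap
        rw [show g (r • ψ).toLinearMap = _ from hsemi ψ.toLinearMap r, ← mul_smul, Algebra.smul_def, mul_comm]
  refine Function.bijective_iff_has_inverse.mpr ⟨G, fun w => ?_, fun w => ?_⟩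
  · induction w using TensorProduct.induction_on with
    | zero => rw [map_zero, map_zero]
    | tmul b φ =>
      show b • g (QFDual.bcFin h φ).toLinearMap = _
      rw [show g (QFDual.bcFin h φ).toLinearMap = _ from hg φ.toLinearMap, TensorProduct.smul_tmul', smul_eq_mul, mul_one]
    | add x y hx hy => rw [map_add, map_add, hx, hy]
  · have key : ∀ ψ : Module.Dual A₁ B'₁,
        QFDual.omegaBC h (g ψ) = (1 : B₁) ⊗ₜ[B'₁] (⟨ψ⟩ : Disc.Omega A₁ B'₁) := by
      intro ψ
      induction ψ using hD.inductionOn with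
      | zero => rw [map_zero, map_zero]; exact (TensorProduct.tmul_zero _ _).symm
      | tmul f =>
        rw [show g (h.out.toDual f) = _ from hg f, QFDual.omegaBC_tmul]
        rfl
      | smul a ψ hψ =>
        rw [map_smul, ← algebraMap_smul B₁ a (g ψ), map_smul, hψ, hA₁, algebraMap_smul,
          ← TensorProduct.tmul_smul]
        congr 1
        exact Disc.Omega.ext (LinearMap.ext fun y => by
          show ψ (algebraMap A₁ B'₁ a * y) = a • ψ y
          rw [← Algebra.smul_def, map_smul])
      | add ψ ψ' h1 h2 => rw [map_add, map_add, h1, h2, ← TensorProduct.tmul_add]; rfl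
    induction w using TensorProduct.induction_on with
    | zero => rw [map_zero, map_zero]
    | tmul b φ =>
      show QFDual.omegaBC h (b • g φ.toLinearMap) = _
      rw [map_smul, key, TensorProduct.smul_tmul', smul_eq_mul, mul_one]
    | add x y hx hy => rw [map_add, map_add, hx, hy]

end Groth.Agent.S8958
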