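import Groth.Statements.S8961
import Mathlib
import Groth.Agent.Lib.Different2.Complementary

set_option autoImplicit false
universe u
open QFDual

namespace Groth.Agent.S8961

theorem isIntegral_matrix_trace {A F : Type u} [CommRing A] [Field F] [IsAlgClosed F] [Algebra A F]
    {n : Type u} [Fintype n] [DecidableEq n] (M : Matrix n n F) (hM : IsIntegral A M) :
    IsIntegral A M.trace := by
  rw [Matrix.trace_eq_sum_roots_charpoly]
  refine IsIntegral.multiset_sum fun r hr => ?_
  obtain ⟨g, hg, hgM⟩ := hM
  rw [Polynomial.mem_roots M.charpoly_monic.ne_zero, ← Matrix.mem_spectrum_iff_isRoot_charpoly] at hr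
  have hne : Nonempty n := by
    by_contra hn
    rw [not_nonempty_iff] at hn
    exact hr (isUnit_of_subsingleton _)
  have h0 : Polynomial.aeval M (g.map (algebraMap A F)) = 0 := by
    rw [Polynomial.aeval_map_algebraMap]
    exact hgM
  have h1 := spectrum.subset_polynomial_aeval M (g.map (algebraMap A F)) ⟨r, hr, rfl⟩
  simp only [h0, spectrum.zero_eq, Set.mem_singleton_iff, Polynomial.eval_map] at h1
  exact ⟨g, hg, h1⟩


/-- Suppose the Dedekind different of A → B is defined: A is Noetherian, B is a finite A-algebra,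
nonzerodivisors of A are nonzerodivisors on B, and with K = Q(A) and L = B ⊗_A K the map K → L is
étale (here with L finite free over K). If A is a normal ring, i.e. every localization A_p at a
prime is an integrally closed domain, then Trace_{L/K}(b) lies in A for every b ∈ B; equivalently 1
∈ 𝓛_{B/A}. -/
theorem result (A K B L : Type u) [CommRing A] [CommRing K] [CommRing B] [CommRing L] [Algebra A K] [Algebra A B] [Algebra B L] [Algebra K L] [Algebra A L] [IsScalarTower A K L] [IsScalarTower A B L] (h : QFDual.IsDedekindDefined A K B L) (hA : EGA4.IsNormalRing A) : (1 : L) ∈ QFDual.complementary A K B L := by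
  classical
  intro b
  rw [one_mul]
  haveI := h.isFractionRing
  haveI : IsLocalization (nonZeroDivisors A) K := h.isFractionRing
  haveI := h.finite
  haveI := h.free
  haveI := h.finiteKL
  let e := Module.Free.chooseBasis K L
  rw [Algebra.trace_eq_matrix_trace e]
  let M := Algebra.leftMulMatrix e (algebraMap B L b)
  show M.trace ∈ _
  have hM : IsIntegral A M :=
    ((Algebra.IsIntegral.isIntegral b).map (IsScalarTower.toAlgHom A B L)).map
      ((Algebra.leftMulMatrix e).restrictScalars A)
  let J : Ideal A :=
    { carrier := {a | algebraMap A K a * M.trace ∈ (algebraMap A K).range}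
      zero_mem' := ⟨0, by simp⟩
      add_mem' := fun {x y} hx hy => by
        show algebraMap A K (x + y) * M.trace ∈ (algebraMap A K).range
        rw [map_add, add_mul]; exact Subring.add_mem _ hx hy
      smul_mem' := fun c x hx => by
        show algebraMap A K (c * x) * M.trace ∈ (algebraMap A K).range
        rw [map_mul, mul_assoc]; exact Subring.mul_mem _ ⟨c, rfl⟩ hx }
  suffices hJ : J = ⊤ by
    have h1 : (1 : A) ∈ J := hJ ▸ Submodule.mem_top
    simpa using (show algebraMap A K 1 * M.trace ∈ (algebraMap A K).range from h1)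
  by_contra hJ
  obtain ⟨m, hm, hJm⟩ := Ideal.exists_le_maximal J hJ
  obtain ⟨hdom, hic⟩ := hA m
  let R := Localization.AtPrime m
  let F := FractionRing R
  let Fb := AlgebraicClosure F
  have hnz : ∀ s : nonZeroDivisors A, IsUnit (algebraMap A F s) := by
    intro s
    refine isUnit_iff_ne_zero.mpr fun h0 => ?_
    rw [IsScalarTower.algebraMap_apply A R F, map_eq_zero_iff _ (IsFractionRing.injective R F)] at h0
    obtain ⟨⟨t, ht⟩, hts⟩ := (IsLocalization.map_eq_zero_iff m.primeCompl R _).mp h0
    exact ht ((mem_nonZeroDivisors_iff_right.mp s.2 t hts) ▸ m.zero_mem)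
  let φ : K →ₐ[A] F :=
    { IsLocalization.lift hnz with commutes' := fun a => IsLocalization.lift_eq hnz a }
  let ψ : K →ₐ[A] Fb := (IsScalarTower.toAlgHom A F Fb).comp φ
  have h1 : IsIntegral A (ψ M.trace) := by
    have h2 := isIntegral_matrix_trace (ψ.mapMatrix M) (hM.map ψ.mapMatrix)
    rwa [AlgHom.mapMatrix_apply, ← AddMonoidHom.map_trace] at h2
  have h3 : IsIntegral A (φ M.trace) :=
    (isIntegral_algHom_iff (IsScalarTower.toAlgHom A F Fb) (algebraMap F Fb).injective).mp h1
  obtain ⟨y, hy⟩ := (IsIntegrallyClosed.isIntegral_iff (R := R) (K := F)).mp (h3.tower_top (A := R))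
  obtain ⟨⟨c, d⟩, hcd⟩ := IsLocalization.surj (nonZeroDivisors A) M.trace
  obtain ⟨⟨a, s⟩, has⟩ := IsLocalization.surj m.primeCompl y
  have h4 : algebraMap A R (s.1 * c) = algebraMap A R (a * d.1) := by
    apply IsFractionRing.injective R F
    simp only [← IsScalarTower.algebraMap_apply, map_mul]
    rw [← φ.commutes c, ← hcd, map_mul, φ.commutes, IsScalarTower.algebraMap_apply A R F a, ← has, map_mul, hy,
      ← IsScalarTower.algebraMap_apply]
    ring
  obtain ⟨t, ht⟩ := (IsLocalization.eq_iff_exists m.primeCompl R).mp h4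
  have h5 : t.1 * s.1 ∈ J := by
    refine ⟨t.1 * a, (IsLocalization.map_units K d).mul_right_cancel ?_⟩
    rw [mul_assoc _ M.trace, hcd, ← map_mul, ← map_mul, mul_assoc, mul_assoc, ← ht]
  exact (hm.isPrime.mem_or_mem (hJm h5)).elim t.2 s.2

end Groth.Agent.S8961
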