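import Groth.Statements.S8965
import Mathlib
import Groth.Agent.Lib.Different2.Complementary

set_option autoImplicit false
universe u
open QFDual

namespace Groth.Agent.S8965

/-- Suppose the Dedekind different of A → B is defined (A Noetherian, B a finite A-algebra,
nonzerodivisors of A nonzerodivisors on B, K = Q(A) → L = B ⊗_A K étale, here with L finite free
over K) and that B is free as an A-module. Then the Dedekind different 𝔇_{B/A} ⊆ L is the image
under B → L of the ideal of b ∈ B with b · Hom_A(B, A) ⊆ B · Trace_{B/A}, where B acts on Hom_A(B,
A) through the argument. (The published statement assumes only A → B flat, with the trace element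
τ_{B/A} of the relative dualizing module ω_{B/A}; for B finite free these are Trace_{B/A} and
Hom_A(B, A), the case taken here.) -/
theorem result (A K B L : Type u) [CommRing A] [CommRing K] [CommRing B] [CommRing L] [Algebra A K] [Algebra A B] [Algebra B L] [Algebra K L] [Algebra A L] [IsScalarTower A K L] [IsScalarTower A B L] (h : QFDual.IsDedekindDefined A K B L) [Module.Finite A B] [Module.Free A B] : QFDual.dedekindDifferent A K B L = Submodule.map (Algebra.linearMap B L) (QFDual.different B (Disc.Omega.trace A B)) := by
  exact GrothLib.Different2.dedekindDifferent_eq h

end Groth.Agent.S8965
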