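import Groth.Statements.S8968
import Mathlib
import Groth.Agent.Lib.Different2.BaseChange

set_option autoImplicit false
universe u
open QFDual

namespace Groth.Agent.S8968

/-- Invertible dualizing module, affine finite free case. Let A and A' be Noetherian rings, B an
A-algebra which is finite free as an A-module, A → A' a ring map and B' a ring making A → A', B → B'
cocartesian (B' = B ⊗_A A', again finite free over A'). Write 𝔇 ⊆ B and 𝔇' ⊆ B' for the differents:
the ideals of elements b with b · Hom_A(B, A) ⊆ B · Trace_{B/A}, respectively b' · Hom_{A'}(B', A')
⊆ B' · Trace_{B'/A'}. If ω_{B/A} = Hom_A(B, A), with B acting through the argument, is an invertible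
B-module, then 𝔇B' = 𝔇'. (The published statement is for the different of a flat quasi-finite
morphism of Noetherian schemes under base change, phrased with the closed subschemes the differents
cut out; this row is the affine finite free case, where the relative dualizing module is Hom_A(B, A)
and the trace element is the trace.) -/
theorem result (A B A' B' : Type u) [CommRing A] [CommRing B] [CommRing A'] [CommRing B'] [IsNoetherianRing A] [IsNoetherianRing A'] [Algebra A B] [Module.Finite A B] [Module.Free A B] [Algebra A A'] [Algebra B B'] [Algebra A' B'] [Algebra A B'] [IsScalarTower A A' B'] [IsScalarTower A B B'] (hB : Algebra.IsPushout A A' B B') [Module.Finite A' B'] [Module.Free A' B'] [Module.Invertible B (Disc.Omega A B)] : Ideal.map (algebraMap B B') (QFDual.different B (Disc.Omega.trace A B)) = QFDual.different B' (Disc.Omega.trace A' B') := by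
  exact le_antisymm (GrothLib.Different2.map_different_le hB) (GrothLib.Different2.different_le_map_of_invertible hB)

end Groth.Agent.S8968
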