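import Groth.Statements.S8971
import Mathlib
import Groth.Agent.Lib.NoetherDiff.Ass

set_option autoImplicit false
universe u
open TensorProduct
open QFDual

namespace Groth.Agent.S8971

set_option backward.isDefEq.respectTransparency false in
set_option backward.isDefEq.respectTransparency.types false in
open AlgebraicGeometry CategoryTheory in
theorem localRingHom_bijective {B' B : Type u} [CommRing B'] [CommRing B] [Algebra B' B]
    [IsOpenImmersion (Spec.map (CommRingCat.ofHom (algebraMap B' B)))] (q : PrimeSpectrum B) :
    Function.Bijective (Localization.localRingHom (q.asIdeal.comap (algebraMap B' B)) q.asIdeal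
      (algebraMap B' B) rfl) := by
  have h1 : IsIso ((Spec.map (CommRingCat.ofHom (algebraMap B' B))).stalkMap q) := inferInstance
  have h2 := ((MorphismProperty.isomorphisms CommRingCat).arrow_mk_iso_iff
    (Scheme.arrowStalkMapSpecIso (CommRingCat.ofHom (algebraMap B' B)) q)).mp h1
  exact (ConcreteCategory.isIso_iff_bijective _).mp h2

theorem mem_associatedPrimes_tensor_iff {B' B M : Type u} [CommRing B'] [CommRing B]
    [IsNoetherianRing B'] [IsNoetherianRing B] [Algebra B' B] [AddCommGroup M] [Module B' M]
    [AlgebraicGeometry.IsOpenImmersion (AlgebraicGeometry.Spec.map (CommRingCat.ofHom (algebraMap B' B)))]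
    (q : Ideal B) [q.IsPrime] :
    q ∈ associatedPrimes B (B ⊗[B'] M) ↔ q.comap (algebraMap B' B) ∈ associatedPrimes B' M := by
  classical
  let q' := q.comap (algebraMap B' B)
  let L := Localization.AtPrime q
  have hb := localRingHom_bijective (B' := B') (⟨q, inferInstance⟩ : PrimeSpectrum B)
  let e : Localization.AtPrime q' ≃ₐ[B'] L :=
    AlgEquiv.ofRingEquiv (f := RingEquiv.ofBijective _ hb) fun x => by
      show Localization.localRingHom q' q (algebraMap B' B) rfl (algebraMap B' _ x) = _
      rw [Localization.localRingHom_to_map, ← IsScalarTower.algebraMap_apply]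
  haveI : IsLocalization q'.primeCompl L := IsLocalization.isLocalization_of_algEquiv _ e
  let f₁ : M →ₗ[B'] L ⊗[B'] M := TensorProduct.mk B' L M 1
  haveI : IsLocalizedModule q'.primeCompl f₁ :=
    (isLocalizedModule_iff_isBaseChange q'.primeCompl L f₁).mpr (TensorProduct.isBaseChange B' M L)
  let e₂ := TensorProduct.AlgebraTensorModule.cancelBaseChange B' B L L M
  let f₂ : B ⊗[B'] M →ₗ[B] L ⊗[B'] M :=
    (e₂.toLinearMap.restrictScalars B).comp (TensorProduct.mk B L (B ⊗[B'] M) 1)
  haveI : IsLocalizedModule q.primeCompl f₂ :=
    (isLocalizedModule_iff_isBaseChange q.primeCompl L f₂).mpr (IsBaseChange.of_equiv e₂ fun _ => rfl)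
  have h₁ := Module.associatedPrimes.preimage_comap_associatedPrimes_eq_associatedPrimes_of_isLocalizedModule
    q'.primeCompl L f₁
  have h₂ := Module.associatedPrimes.preimage_comap_associatedPrimes_eq_associatedPrimes_of_isLocalizedModule
    q.primeCompl L f₂
  have hm : (IsLocalRing.maximalIdeal L).comap (algebraMap B L) = q :=
    Localization.AtPrime.under_maximalIdeal
  have hm' : (IsLocalRing.maximalIdeal L).comap (algebraMap B' L) = q' := by
    rw [IsScalarTower.algebraMap_eq B' B L, ← Ideal.comap_comap, hm]
  have h3 := (Set.ext_iff.mp h₁ (IsLocalRing.maximalIdeal L))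
  have h4 := (Set.ext_iff.mp h₂ (IsLocalRing.maximalIdeal L))
  rw [Set.mem_preimage, hm'] at h3
  rw [Set.mem_preimage, hm] at h4
  exact h4.trans h3.symm


/-- Let A → B be a quasi-finite homomorphism of Noetherian rings, presented by writing it as a composite
A → B' → B, where the map A → B' is finite and the induced morphism Spec B → Spec B' is an open
immersion, so that ω_{B/A} = B ⊗_{B'} Hom_A(B', A) (B' acting on Hom_A(B', A) through the argument).
Then Ass_B(ω_{B/A}) is the set of primes of B whose preimage in A is an associated prime of A. -/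
theorem result (A B' B : Type u) [CommRing A] [CommRing B'] [CommRing B] [IsNoetherianRing A] [IsNoetherianRing B] [Algebra A B'] [Algebra B' B] [Algebra A B] [IsScalarTower A B' B] (hf : QFDual.IsQFFactor A B' B) : associatedPrimes B (QFDual.omega A B' B) = {q : Ideal B | q.IsPrime ∧ q.comap (algebraMap A B) ∈ associatedPrimes A A} := by
  haveI := hf.finite
  haveI := hf.isOpenImmersion
  haveI : IsNoetherianRing B' := IsNoetherianRing.of_finite A B'
  ext q
  constructor
  · intro hq
    haveI := hq.isPrime
    have h1 := (mem_associatedPrimes_tensor_iff (B' := B') q).mp hq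
    rw [GrothLib.NoetherDiff.associatedPrimes_omega] at h1
    refine ⟨inferInstance, ?_⟩
    rw [IsScalarTower.algebraMap_eq A B' B, ← Ideal.comap_comap]
    exact h1.2
  · rintro ⟨hq, h⟩
    haveI := hq
    refine (mem_associatedPrimes_tensor_iff (B' := B') q).mpr ?_
    rw [GrothLib.NoetherDiff.associatedPrimes_omega]
    refine ⟨inferInstance, ?_⟩
    rw [Ideal.comap_comap, ← IsScalarTower.algebraMap_eq A B' B]
    exact h

end Groth.Agent.S8971
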