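import Groth.Statements.S8973
import Groth.Agent.Lib.UnivAlg4.Basic

set_option autoImplicit false
open Synt

namespace Groth.Agent.S8973

/-- Let n, d ≥ 1 and let B = A[x_1, …, x_n]/(f_1, …, f_n) be the universal algebra over A = ℤ[a_{i,E}],
f_i = Σ_E a_{i,E} x^E summed over exponent vectors E with |E| ≤ d. Then there is a prime q of B at
which B is quasi-finite over A and étale over A (that is, B_q is quasi-finite and formally étale
over A). (The published statement asserts a dense open V of the quasi-finite locus Y_{n,d} ⊆ Spec B
that is étale over Spec A; as Spec B is irreducible and the étale locus is open, that amounts to the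
existence of one such point, which is what is stated here and what the printed argument exhibits.) -/
theorem result (n d : ℕ) (hn : 1 ≤ n) (hd : 1 ≤ d) : ∃ q : PrimeSpectrum (Synt.UnivAlg n d), Algebra.QuasiFiniteAt (Synt.UnivBase n d) q.asIdeal ∧ Algebra.IsEtaleAt (Synt.UnivBase n d) q.asIdeal := by
  exact GrothLib.UnivAlg4.exists_etale_quasiFinite n d hn hd

end Groth.Agent.S8973
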