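import Groth.Statements.S8975
import Mathlib

set_option autoImplicit false
universe u
open TensorProduct
open QFDual

namespace Groth.Agent.S8975

/-- The relative dualizing module of a product. Suppose A, B, C are Noetherian rings and the ring maps A
→ B, A → C are quasi-finite, presented by factorizations A → B' → B and A → C' → C with A → B', A →
C' finite and Spec B → Spec B', Spec C → Spec C' open immersions, and let B × C carry the product
algebra structure over B' × C' (so that A → B' × C' → B × C is a factorization of the same kind).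
Then ω_{(B × C)/A} = (B × C) ⊗_{B' × C'} Hom_A(B' × C', A) is identified with ω_{B/A} × ω_{C/A}:
there is an A-linear isomorphism sending (b, c) ⊗ φ to (b ⊗ φ∘ι_{B'}, c ⊗ φ∘ι_{C'}), where ι_{B'},
ι_{C'} are the inclusions of the factors; this formula determines the isomorphism and makes it (B ×
C)-linear. -/
theorem result (A B' B C' C : Type u) [CommRing A] [CommRing B'] [CommRing B] [CommRing C'] [CommRing C] [IsNoetherianRing A] [IsNoetherianRing B] [IsNoetherianRing C] [Algebra A B'] [Algebra B' B] [Algebra A B] [IsScalarTower A B' B] [Algebra A C'] [Algebra C' C] [Algebra A C] [IsScalarTower A C' C] (hB : QFDual.IsQFFactor A B' B) (hC : QFDual.IsQFFactor A C' C) [Algebra (B' × C') (B × C)] [IsScalarTower A (B' × C') (B × C)] (halg : algebraMap (B' × C') (B × C) = (algebraMap B' B).prodMap (algebraMap C' C)) : ∃ e : QFDual.omega A (B' × C') (B × C) ≃ₗ[A] QFDual.omega A B' B × QFDual.omega A C' C, ∀ (b : B) (c : C) (φ : Disc.Omega A (B' × C')), e ((b, c)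 ⊗ₜ[B' × C'] φ) = (b ⊗ₜ[B'] Disc.Omega.mk (φ.toLinearMap ∘ₗ LinearMap.inl A B' C'), c ⊗ₜ[C'] Disc.Omega.mk (φ.toLinearMap ∘ₗ LinearMap.inr A B' C')) := by
  have hsm1 : ∀ (r : B' × C') (x : B × C), (r • x).1 = r.1 • x.1 := fun r x => by
    rw [Algebra.smul_def, halg, Algebra.smul_def]; rfl
  have hsm2 : ∀ (r : B' × C') (x : B × C), (r • x).2 = r.2 • x.2 := fun r x => by
    rw [Algebra.smul_def, halg, Algebra.smul_def]; rfl
  let r1 : Disc.Omega A (B' × C') →+ Disc.Omega A B' :=
    AddMonoidHom.mk' (fun φ => ⟨φ.toLinearMap ∘ₗ LinearMap.inl A B' C'⟩) fun _ _ => rfl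
  let r2 : Disc.Omega A (B' × C') →+ Disc.Omega A C' :=
    AddMonoidHom.mk' (fun φ => ⟨φ.toLinearMap ∘ₗ LinearMap.inr A B' C'⟩) fun _ _ => rfl
  let i1 : Disc.Omega A B' →+ Disc.Omega A (B' × C') :=
    AddMonoidHom.mk' (fun ψ => ⟨ψ.toLinearMap ∘ₗ LinearMap.fst A B' C'⟩) fun _ _ => rfl
  let i2 : Disc.Omega A C' →+ Disc.Omega A (B' × C') :=
    AddMonoidHom.mk' (fun ψ => ⟨ψ.toLinearMap ∘ₗ LinearMap.snd A B' C'⟩) fun _ _ => rfl
  have hr1 : ∀ (r : B' × C') φ, r1 (r • φ) = r.1 • r1 φ := fun r φ => Disc.Omega.ext <| LinearMap.ext fun x => by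
    show φ.toLinearMap (r * (x, 0)) = φ.toLinearMap (r.1 * x, 0)
    exact congrArg _ (Prod.ext rfl (mul_zero _))
  have hr2 : ∀ (r : B' × C') φ, r2 (r • φ) = r.2 • r2 φ := fun r φ => Disc.Omega.ext <| LinearMap.ext fun x => by
    show φ.toLinearMap (r * (0, x)) = φ.toLinearMap (0, r.2 * x)
    exact congrArg _ (Prod.ext (mul_zero _) rfl)
  have hi1 : ∀ (b' : B') ψ, i1 (b' • ψ) = (b', (0 : C')) • i1 ψ := fun b' ψ => rfl
  have hi2 : ∀ (c' : C') ψ, i2 (c' • ψ) = ((0 : B'), c') • i2 ψ := fun c' ψ => rfl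
  let F : QFDual.omega A (B' × C') (B × C) →+ QFDual.omega A B' B × QFDual.omega A C' C :=
    TensorProduct.liftAddHom
      (AddMonoidHom.mk' (fun x : B × C => AddMonoidHom.mk' (fun φ => (x.1 ⊗ₜ[B'] r1 φ, x.2 ⊗ₜ[C'] r2 φ))
        fun φ ψ => by rw [map_add, map_add, TensorProduct.tmul_add, TensorProduct.tmul_add]; rfl)
        fun x y => AddMonoidHom.ext fun φ => by
          show ((x + y).1 ⊗ₜ[B'] r1 φ, (x + y).2 ⊗ₜ[C'] r2 φ) = _
          rw [Prod.fst_add, Prod.snd_add, TensorProduct.add_tmul, TensorProduct.add_tmul]; rfl)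
      fun r x φ => by
        show ((r • x).1 ⊗ₜ[B'] r1 φ, (r • x).2 ⊗ₜ[C'] r2 φ) = (x.1 ⊗ₜ[B'] r1 (r • φ), x.2 ⊗ₜ[C'] r2 (r • φ))
        rw [hsm1, hsm2, hr1, hr2, TensorProduct.smul_tmul, TensorProduct.smul_tmul]
  let G1 : QFDual.omega A B' B →+ QFDual.omega A (B' × C') (B × C) :=
    TensorProduct.liftAddHom
      (AddMonoidHom.mk' (fun b => AddMonoidHom.mk' (fun ψ => (b, (0 : C)) ⊗ₜ[B' × C'] i1 ψ)
        fun ψ ψ' => by rw [map_add, TensorProduct.tmul_add])
        fun b b' => AddMonoidHom.ext fun ψ => by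
          show (b + b', (0 : C)) ⊗ₜ[B' × C'] i1 ψ = (b, (0 : C)) ⊗ₜ[B' × C'] i1 ψ + (b', (0 : C)) ⊗ₜ[B' × C'] i1 ψ
          rw [← TensorProduct.add_tmul]; simp)
      fun r b ψ => by
        show (r • b, (0 : C)) ⊗ₜ[B' × C'] i1 ψ = (b, (0 : C)) ⊗ₜ[B' × C'] i1 (r • ψ)
        rw [hi1, ← TensorProduct.smul_tmul, show (r, (0 : C')) • (b, (0 : C)) = (r • b, (0 : C)) from
          Prod.ext (hsm1 _ _) ((hsm2 _ _).trans (smul_zero _))]
  let G2 : QFDual.omega A C' C →+ QFDual.omega A (B' × C') (B × C) :=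
    TensorProduct.liftAddHom
      (AddMonoidHom.mk' (fun c => AddMonoidHom.mk' (fun ψ => ((0 : B), c) ⊗ₜ[B' × C'] i2 ψ)
        fun ψ ψ' => by rw [map_add, TensorProduct.tmul_add])
        fun b b' => AddMonoidHom.ext fun ψ => by
          show ((0 : B), b + b') ⊗ₜ[B' × C'] i2 ψ = ((0 : B), b) ⊗ₜ[B' × C'] i2 ψ + ((0 : B), b') ⊗ₜ[B' × C'] i2 ψ
          rw [← TensorProduct.add_tmul]; simp)
      fun r c ψ => by
        show ((0 : B), r • c) ⊗ₜ[B' × C'] i2 ψ = ((0 : B), c) ⊗ₜ[B' × C'] i2 (r • ψ)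
        rw [hi2, ← TensorProduct.smul_tmul, show ((0 : B'), r) • ((0 : B), c) = ((0 : B), r • c) from
          Prod.ext ((hsm1 _ _).trans (smul_zero _)) (hsm2 _ _)]
  have hFlin : ∀ (a : A) w, F (a • w) = a • F w := by
    intro a w
    induction w using TensorProduct.induction_on with
    | zero => rw [smul_zero, map_zero, smul_zero]
    | tmul x φ => rfl
    | add x y hx hy => rw [smul_add, map_add, hx, hy, map_add, smul_add]
  refine ⟨{ toFun := F, map_add' := F.map_add, map_smul' := hFlin,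
            invFun := fun p => G1 p.1 + G2 p.2, left_inv := ?_, right_inv := ?_ }, fun b c φ => rfl⟩
  · intro w
    induction w using TensorProduct.induction_on with
    | zero => simp
    | tmul x φ =>
      show (x.1, (0 : C)) ⊗ₜ[B' × C'] i1 (r1 φ) + ((0 : B), x.2) ⊗ₜ[B' × C'] i2 (r2 φ) = x ⊗ₜ φ
      rw [show i1 (r1 φ) = ((1 : B'), (0 : C')) • φ from Disc.Omega.ext (LinearMap.ext fun y => by
          show φ.toLinearMap (y.1, 0) = φ.toLinearMap (((1 : B'), (0 : C')) * y)
          exact congrArg _ (Prod.ext (one_mul _).symm (zero_mul _).symm)),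
        show i2 (r2 φ) = ((0 : B'), (1 : C')) • φ from Disc.Omega.ext (LinearMap.ext fun y => by
          show φ.toLinearMap (0, y.2) = φ.toLinearMap (((0 : B'), (1 : C')) * y)
          exact congrArg _ (Prod.ext (zero_mul _).symm (one_mul _).symm)),
        ← TensorProduct.smul_tmul, ← TensorProduct.smul_tmul, ← TensorProduct.add_tmul]
      congr 1
      refine Prod.ext ?_ ?_
      · rw [Prod.fst_add, hsm1, hsm1, one_smul, zero_smul, add_zero]
      · rw [Prod.snd_add, hsm2, hsm2, one_smul, zero_smul, zero_add]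
    | add x y hx hy =>
      simp only [map_add, Prod.fst_add, Prod.snd_add] at hx hy ⊢
      rw [add_add_add_comm, hx, hy]
  · intro p
    have h1 : ∀ u, F (G1 u) = (u, 0) := fun u => by
      induction u using TensorProduct.induction_on with
      | zero => rw [map_zero, map_zero]; rfl
      | tmul b ψ =>
        show (b ⊗ₜ[B'] r1 (i1 ψ), (0 : C) ⊗ₜ[C'] r2 (i1 ψ)) = _
        rw [TensorProduct.zero_tmul]
        exact rfl
      | add x y hx hy => rw [map_add, map_add, hx, hy]; simp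
    have h2 : ∀ u, F (G2 u) = (0, u) := fun u => by
      induction u using TensorProduct.induction_on with
      | zero => rw [map_zero, map_zero]; rfl
      | tmul c ψ =>
        show ((0 : B) ⊗ₜ[B'] r1 (i2 ψ), c ⊗ₜ[C'] r2 (i2 ψ)) = _
        rw [TensorProduct.zero_tmul]
        exact rfl
      | add x y hx hy => rw [map_add, map_add, hx, hy]; simp
    show F (G1 p.1 + G2 p.2) = p
    rw [map_add, h1, h2]; simp

end Groth.Agent.S8975
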