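import Groth.Statements.S8977
import Groth.Agent.Lib.SubtrLim.Cover
import Groth.Agent.Lib.HTop.Submersive

set_option autoImplicit false
set_option backward.isDefEq.respectTransparency false
universe u
open HTop
open CategoryTheory CategoryTheory.Limits AlgebraicGeometry

namespace Groth.Agent.S8977

open CategoryTheory CategoryTheory.Limits AlgebraicGeometry in
/-- For a Noetherian scheme X and a finite family of finite type morphisms X_i → X, the induced morphism
from the coproduct of the X_i to X is universally submersive if and only if the family is an h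
covering. -/
theorem result {X : Scheme.{u}} [IsNoetherian X] (E : PreZeroHypercover.{u} X) [Finite E.I₀] [∀ i, LocallyOfFiniteType (E.f i)] [∀ i, QuasiCompact (E.f i)] : SGA1.UnivSubmersive (Sigma.desc E.f) ↔ HTop.IsHCover E := by
  refine ⟨fun h => ⟨fun i => inferInstance, ?_⟩,
    fun h => GrothLib.HTop.univSubmersive_sigmaDesc_of_isVCover E h.2⟩
  haveI := GrothLib.SubtrLim.quasiCompact_sigmaDesc E
  exact GrothLib.SubtrLim.isVCover_of_hasValLift E (GrothLib.SubtrLim.hasValLift_of_valPair E
    (GrothLib.SubtrLim.valPair_of_dvrPair (GrothLib.SubtrLim.dvrPair_of_univSubmersive h)))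

end Groth.Agent.S8977
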