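import Groth.Statements.S8980
import Groth.Agent.Lib.HTop.Cover
import Mathlib.AlgebraicGeometry.Morphisms.FinitePresentation
-- import your own Groth.Agent.* helpers here

set_option autoImplicit false
universe u
open HTop

namespace Groth.Agent.S8980

open CategoryTheory CategoryTheory.Limits AlgebraicGeometry in
/-- A family of morphisms T_i → T, indexed by a type in the universe of T and all locally of finite
presentation, is an h covering if and only if the one-member family given by the induced morphism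
from the coproduct of the T_i to T is an h covering. (The published statement also lists, as a
further equivalent condition, that some h covering refines the family; that equivalence is immediate
from the definitions and is not restated here.) -/
theorem result {T : Scheme.{u}} (E : PreZeroHypercover.{u} T) (hE : ∀ i, LocallyOfFinitePresentation (E.f i)) : HTop.IsHCover E ↔ HTop.IsHCover (PreZeroHypercover.singleton.{0} (Sigma.desc E.f)) := by
  refine ⟨fun h => ⟨fun _ => @IsZariskiLocalAtSource.sigmaDesc @LocallyOfFinitePresentation (HasRingHomProperty.instIsZariskiLocalAtSource (P := @LocallyOfFinitePresentation) (Q := RingHom.FinitePresentation)) _ _ _ _ _ hE,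
    fun U => ?_⟩, fun h => ⟨hE, fun U => ?_⟩⟩
  · obtain ⟨F, hF, hr⟩ := h.2 U
    refine ⟨F, hF, fun j => ?_⟩
    obtain ⟨i, k, hk⟩ := hr j
    refine ⟨PUnit.unit, k ≫ Sigma.ι E.X i, ?_⟩
    change (k ≫ Sigma.ι E.X i) ≫ Sigma.desc E.f = _
    rw [Category.assoc, Sigma.ι_desc, hk]
  · obtain ⟨F, hF, hr⟩ := h.2 U
    refine GrothLib.HTop.VGood.of_standardV _ F hF fun j => ?_
    obtain ⟨⟨⟩, k, hk⟩ := hr j
    change k ≫ Sigma.desc E.f = _ at hk
    have := hF.isAffine_obj j
    refine GrothLib.HTop.VGood.of_locally _ fun x => ?_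
    obtain ⟨i, y, hy⟩ := (sigmaOpenCover E.X).exists_eq (k x)
    obtain ⟨W, hW, hxW, hle⟩ := TopologicalSpace.Opens.isBasis_iff_nbhd.mp (F.X j).isBasis_affineOpens
      (show x ∈ k ⁻¹ᵁ (Sigma.ι E.X i).opensRange from ⟨y, hy⟩)
    obtain ⟨l, hl⟩ : ∃ l, l ≫ Sigma.ι E.X i = Scheme.Opens.ι W ≫ k :=
      ⟨_, IsOpenImmersion.lift_fac _ _ (by rintro _ ⟨z, rfl⟩; exact hle z.2)⟩
    have : IsAffine (W : Scheme.{u}) := hW
    refine ⟨W, hxW, hW, PreZeroHypercover.singleton (𝟙 (W : Scheme.{u})),
      ⟨inferInstance, inferInstanceAs (Finite PUnit), fun _ => hW, fun V _ _ g =>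
        ⟨V, _, _, 𝟙 V, GrothLib.HTop.isExtVal_id V, PUnit.unit, g, by
          change g ≫ 𝟙 _ = _
          simp⟩⟩, fun _ => ⟨i, l, ?_⟩⟩
    change l ≫ E.f i = 𝟙 _ ≫ _
    rw [Category.id_comp, ← hk]
    exact ((congrArg (l ≫ ·) (Sigma.ι_desc E.f i)).symm.trans (Category.assoc _ _ _).symm).trans
      ((congrArg (· ≫ Sigma.desc E.f) hl).trans (Category.assoc _ _ _))

end Groth.Agent.S8980
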