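import Groth.Statements.S8981
import Groth.Agent.Lib.HSheafCrit4.Main
-- import your own Groth.Agent.* helpers here

set_option autoImplicit false
universe w u
open HTop

namespace Groth.Agent.S8981

open CategoryTheory CategoryTheory.Limits AlgebraicGeometry in
/-- A presheaf of sets on schemes over S is a sheaf for the big h site of S if and only if it is a
Zariski sheaf and satisfies the sheaf condition for every single proper surjective morphism of
finite presentation V → U of S-schemes with U affine. (The published statement gives the criterion
with arbitrary U and then says that, for a Zariski sheaf, affine U suffice; this row states the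
combined criterion.) -/
theorem result (S : Scheme.{u}) (F : (Over S)ᵒᵖ ⥤ Type w) : Presieve.IsSheaf (HTop.Jh S) F ↔ (Presieve.IsSheaf (Scheme.zariskiTopology.over S) F ∧ ∀ (U V : Over S) (f : V ⟶ U), IsAffine U.left → IsProper f.left → Surjective f.left → LocallyOfFinitePresentation f.left → Presieve.IsSheafFor F (Presieve.singleton f)) := by
  exact GrothLib.HSheafCrit4.isSheaf_Jh_iff

end Groth.Agent.S8981
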