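import Groth.Statements.S9220
import Groth.Agent.Lib.AbsApprox.ClosedApprox
import Groth.Agent.Lib.LimDesc.Snd
import Groth.Agent.Lib.ABU25.PhSheaf

set_option autoImplicit false
set_option backward.isDefEq.respectTransparency false
universe u
open CategoryTheory AlgebraicGeometry
open Lim

namespace Groth.Agent.S9220

/-- Let S = lim S_i be a cofiltered limit of quasi-compact quasi-separated schemes with affine
transition morphisms, and let I be a quasi-coherent sheaf of ideals of finite type on S (its ideal
of sections on every affine open is finitely generated). Then for some index i there is a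
quasi-coherent sheaf of ideals of finite type I_i on S_i such that I = I_i · O_S, the pullback ideal
sheaf along S → S_i. -/
theorem result {I : Type u} [SmallCategory I] [IsCofiltered I]
    (D : I ⥤ Scheme.{u}) (c : Limits.Cone D) (hc : Limits.IsLimit c)
    [∀ (i j : I) (f : i ⟶ j), IsAffineHom (D.map f)] [∀ i, CompactSpace (D.obj i)]
    [∀ i, QuasiSeparatedSpace (D.obj i)] (J : c.pt.IdealSheafData)
    (hJ : ∀ U : c.pt.affineOpens, (J.ideal U).FG) :
    ∃ (i : I) (Ji : (D.obj i).IdealSheafData), (∀ U : (D.obj i).affineOpens, (Ji.ideal U).FG) ∧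
      Ji.comap (c.π.app i) = J := by
  classical
  obtain ⟨i₀⟩ : Nonempty I := IsCofiltered.nonempty
  haveI : CompactSpace c.pt := Scheme.compactSpace_of_isLimit _ _ hc
  haveI : LocallyOfFinitePresentation J.subschemeι := GrothLib.AbsApprox.lfp_subschemeι J hJ
  let f₁ : J.subscheme ⟶ c.pt := J.subschemeι
  obtain ⟨j, _, ⟨M⟩⟩ := GrothLib.LimDescend.exists_model_over D c hc i₀ f₁
  haveI := M.lfp
  haveI := M.qc
  haveI := M.qs
  haveI : CompactSpace M.obj := QuasiCompact.compactSpace_of_compactSpace M.hom
  have hY : IsPullback (c.π.app j) (𝟙 c.pt) (𝟙 (D.obj j)) (c.π.app j) := IsPullback.id_vert _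
  obtain ⟨i, φ, hcl⟩ := GrothLib.LimDesc.exists_snd_of_exists_stage D (i₀ := j) @IsClosedImmersion M.hom
    (GrothLib.LimDesc.exists_isClosedImmersion_of_compactSpace D hc M.hom (𝟙 _) hY M.isPullback)
  let g := Limits.pullback.snd M.hom (D.map φ)
  haveI : IsClosedImmersion g := hcl
  haveI : LocallyOfFinitePresentation g := MorphismProperty.pullback_snd _ _ M.lfp
  refine ⟨i, g.ker, GrothLib.ABU25.isFiniteTypeIdeal_ker g, ?_⟩
  let M' := M.map D c φ
  let q := g.toImage
  haveI : IsIso q := inferInstanceAs (IsIso g.toImage)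
  have hP : IsPullback (M'.proj ≫ q) f₁ g.imageι (c.π.app i) := by
    refine M'.isPullback.of_iso (Iso.refl _) (asIso q) (Iso.refl _) (Iso.refl _) ?_ ?_ ?_ ?_
    · exact (Category.id_comp _).symm
    · simp
    · show Limits.pullback.snd M.hom (D.map φ) ≫ 𝟙 _ = q ≫ g.imageι
      rw [Scheme.Hom.toImage_imageι]
      exact Category.comp_id _
    · simp
  have e := hP.flip.isoPullback_hom_fst
  rw [Scheme.IdealSheafData.comap]
  show (Limits.pullback.fst (c.π.app i) g.imageι).ker = J
  rw [← Scheme.Hom.ker_comp_of_isIso hP.flip.isoPullback.hom, e]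
  exact J.ker_subschemeι

end Groth.Agent.S9220
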