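import Groth.Statements.S8984
import Groth.Agent.Lib.BlowUp.Exists
import Groth.Agent.Lib.BlowUpProper.Basic
import Groth.Agent.Lib.ABU25.PhSheaf
import Groth.Agent.S0590
import Groth.Agent.S9220
import Groth.Agent.S8982
-- import your own Groth.Agent.* helpers here

set_option autoImplicit false
set_option linter.all false
set_option backward.isDefEq.respectTransparency false
universe u
open HTop

namespace Groth.Agent.S8984

open CategoryTheory CategoryTheory.Limits AlgebraicGeometry in
/-- Over a quasi-compact quasi-separated scheme, every closed subscheme cut out by a finite type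
quasi-coherent ideal is the centre of some almost blow up square. -/
theorem result {Z X : Scheme.{u}} [CompactSpace X] [QuasiSeparatedSpace X] (i : Z ⟶ X) [IsClosedImmersion i] [LocallyOfFinitePresentation i] : ∃ (E X' : Scheme.{u}) (e : E ⟶ X') (π : E ⟶ Z) (b : X' ⟶ X), HTop.IsAlmostBlowUpSquare e π b i := by
  obtain ⟨I, _, _, _, D, c, hc, haff, hD, ⟨eX⟩⟩ := Groth.Agent.S0590.result X
  haveI : ∀ (i j : Iᵒᵖ) (f : i ⟶ j), IsAffineHom (D.map f) := haff
  haveI : ∀ j, CompactSpace (D.obj j) := fun j => (hD j).1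
  haveI : IsCofiltered Iᵒᵖ := inferInstance
  let c' : Cone D := c.extend eX.inv
  have hc' : IsLimit c' := hc.extendIso eX.inv
  haveI hN : ∀ j, IsLocallyNoetherian (D.obj j) := fun j => by
    haveI := (hD j).2
    haveI : IsNoetherianRing (CommRingCat.of (ULift.{u} ℤ)) := isNoetherianRing_of_ringEquiv ℤ ULift.ringEquiv.symm
    exact LocallyOfFiniteType.isLocallyNoetherian (Limits.IsTerminal.from specULiftZIsTerminal (D.obj j))
  haveI : ∀ j, QuasiSeparatedSpace (D.obj j) := fun j => inferInstance
  obtain ⟨j, J0, -, hJ0⟩ := Groth.Agent.S9220.result D c' hc' i.ker (GrothLib.ABU25.isFiniteTypeIdeal_ker i)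
  let g : X ⟶ D.obj j := c'.π.app j
  obtain ⟨X0', b0, hb0⟩ := GrothLib.BlowUp.exists_isBlowUp (D.obj j) J0
  haveI : IsProper b0 := GrothLib.BlowUpProper.isProper_of_isBlowUp hb0
  haveI : LocallyOfFinitePresentation b0 := inferInstance
  let i0 := J0.subschemeι
  have hi0 : i0.ker = J0 := J0.ker_subschemeι
  have hlp : HTop.IsLocPrincipal (i0.ker.comap b0) := by
    rw [hi0]
    intro x
    obtain ⟨U, hx, f, -, hf⟩ := hb0.1 x
    exact ⟨U, hx, f, hf⟩
  have h0 : HTop.IsAlmostBlowUpSquare (pullback.fst b0 i0) (pullback.snd b0 i0) b0 i0 := by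
    refine ⟨inferInstance, inferInstance, IsPullback.of_hasPullback _ _, hlp, inferInstance, inferInstance,
      (GrothLib.ABU25.isBlowUp_iff_isUniv _ _ hlp).2 fun T t ht => hb0.2 T t ?_⟩
    rwa [hi0] at ht
  -- the centre is the inverse image
  have hkp : (pullback.fst g i0).ker = i.ker := hJ0
  let u : Z ⟶ pullback g i0 := IsClosedImmersion.lift (pullback.fst g i0) i hkp.le
  let v : pullback g i0 ⟶ Z := IsClosedImmersion.lift i (pullback.fst g i0) hkp.ge
  have hu : u ≫ pullback.fst g i0 = i := IsClosedImmersion.lift_fac _ _ _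
  have hv : v ≫ i = pullback.fst g i0 := IsClosedImmersion.lift_fac _ _ _
  let e : Z ≅ pullback g i0 :=
    ⟨u, v, by rw [← cancel_mono i, Category.assoc, hv, hu, Category.id_comp],
      by rw [← cancel_mono (pullback.fst g i0), Category.assoc, hu, hv, Category.id_comp]⟩
  have hZ : IsPullback (u ≫ pullback.snd g i0) i i0 g :=
    ((IsPullback.of_hasPullback g i0).flip).of_iso' e (Iso.refl _) (Iso.refl _) (Iso.refl _)
      (by simp [e]) (by simp [e, hu]) (by simp) (by simp)
  let X' := pullback b0 g
  let gX : X' ⟶ X0' := pullback.fst b0 g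
  let b : X' ⟶ X := pullback.snd b0 g
  let E := pullback (pullback.fst b0 i0) gX
  let e1 : E ⟶ X' := pullback.snd _ _
  let gE : E ⟶ pullback b0 i0 := pullback.fst _ _
  have hcomm : (gE ≫ pullback.snd b0 i0) ≫ i0 = (e1 ≫ b) ≫ g := by
    rw [Category.assoc, ← pullback.condition, pullback.condition_assoc, Category.assoc]
    exact congrArg (e1 ≫ ·) pullback.condition
  exact ⟨E, X', e1, hZ.lift (gE ≫ pullback.snd b0 i0) (e1 ≫ b) hcomm, b,
    Groth.Agent.S8982.result h0 g (IsPullback.of_hasPullback b0 g) hZ (IsPullback.of_hasPullback _ gX)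
      (hZ.lift_snd _ _ _)⟩

end Groth.Agent.S8984
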