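import Groth.Statements.S8985
import Groth.Agent.Lib.ABU25.Basic
import Groth.Agent.S7379
import Groth.Agent.S0594
import Groth.Agent.S8983
-- import your own Groth.Agent.* helpers here

set_option autoImplicit false
set_option linter.all false
set_option backward.isDefEq.respectTransparency false
universe u
open HTop

namespace Groth.Agent.S8985

open CategoryTheory CategoryTheory.Limits AlgebraicGeometry in
/-- Two almost blow up squares with the same centre Z → X (X quasi-compact and quasi-separated, Z of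
finite presentation) are dominated by a third one whose top right corner embeds as a closed
subscheme, over X, into each of theirs. -/
theorem result {Z X E₁ X₁ E₂ X₂ : Scheme.{u}} [CompactSpace X] [QuasiSeparatedSpace X] (i : Z ⟶ X) [IsClosedImmersion i] [LocallyOfFinitePresentation i] {e₁ : E₁ ⟶ X₁} {π₁ : E₁ ⟶ Z} {b₁ : X₁ ⟶ X} (h₁ : HTop.IsAlmostBlowUpSquare e₁ π₁ b₁ i) {e₂ : E₂ ⟶ X₂} {π₂ : E₂ ⟶ Z} {b₂ : X₂ ⟶ X} (h₂ : HTop.IsAlmostBlowUpSquare e₂ π₂ b₂ i) : ∃ (E X' : Scheme.{u}) (e : E ⟶ X') (π : E ⟶ Z) (b : X' ⟶ X) (j₁ : X' ⟶ X₁) (j₂ : X' ⟶ X₂), HTop.IsAlmostBlowUpSquare e π b i ∧ IsClosedImmersion j₁ ∧ IsClosedImmersion j₂ ∧ j₁ ≫ b₁ = b ∧ j₂ ≫ b₂ = b := by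
  haveI := h₁.isProper
  haveI := h₂.isProper
  haveI := h₁.finitePresentation
  haveI := h₂.finitePresentation
  let P := pullback b₁ b₂
  let p₁ : P ⟶ X₁ := pullback.fst b₁ b₂
  let p₂ : P ⟶ X₂ := pullback.snd b₁ b₂
  let b : P ⟶ X := p₁ ≫ b₁
  haveI : IsProper b := inferInstance
  haveI : LocallyOfFinitePresentation b := inferInstance
  have hlp : HTop.IsLocPrincipal (i.ker.comap b) := by
    rw [Scheme.IdealSheafData.comap_comp]
    exact GrothLib.ABU25.isLocPrincipal_comap _ p₁ h₁.locPrincipal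
  have u₁ := GrothLib.ABU25.isUniv_of_square h₁
  have u₂ := GrothLib.ABU25.isUniv_of_square h₂
  have hu : GrothLib.ABU25.IsUniv b i.ker := fun T g hg => by
    obtain ⟨k₁, hk₁, q₁⟩ := u₁ T g hg
    obtain ⟨k₂, hk₂, q₂⟩ := u₂ T g hg
    refine ⟨pullback.lift k₁ k₂ (hk₁.trans hk₂.symm),
      (Category.assoc _ _ _).symm.trans ((congrArg (· ≫ b₁) (pullback.lift_fst _ _ _)).trans hk₁), fun k hk => ?_⟩
    refine pullback.hom_ext ?_ ?_
    · rw [pullback.lift_fst]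
      exact q₁ _ ((Category.assoc _ _ _).trans hk)
    · rw [pullback.lift_snd]
      refine q₂ _ ((Category.assoc _ _ _).trans ?_)
      rw [← pullback.condition]
      exact hk
  have hP : HTop.IsAlmostBlowUpSquare (pullback.fst b i) (pullback.snd b i) b i :=
    ⟨inferInstance, inferInstance, IsPullback.of_hasPullback _ _, hlp, inferInstance, inferInstance,
      (GrothLib.ABU25.isBlowUp_iff_isUniv _ _ hlp).2 hu⟩
  let ι := (HTop.supportedOn (i.ker.comap b)).subschemeι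
  have key : ∀ {X₀ : Scheme.{u}} {b₀ : X₀ ⟶ X} {E₀ : Scheme.{u}} {e₀ : E₀ ⟶ X₀} {π₀ : E₀ ⟶ Z}
      (_ : HTop.IsAlmostBlowUpSquare e₀ π₀ b₀ i) (p : P ⟶ X₀), p ≫ b₀ = b → IsClosedImmersion (ι ≫ p) := by
    intro X₀ b₀ E₀ e₀ π₀ h₀ p hp
    let ι₀ := (HTop.supportedOn (i.ker.comap b₀)).subschemeι
    obtain ⟨θ, hθ, -⟩ := h₀.isBlowUp.2 _ (ι ≫ b) hP.isBlowUp.1
    obtain ⟨θ', hθ', -⟩ := hP.isBlowUp.2 _ (ι₀ ≫ b₀) h₀.isBlowUp.1
    have h1 : θ ≫ θ' = 𝟙 _ := (hP.isBlowUp.2 _ (ι ≫ b) hP.isBlowUp.1).unique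
      ((Category.assoc _ _ _).trans ((congrArg (θ ≫ ·) hθ').trans hθ)) (Category.id_comp _)
    have h2 : θ' ≫ θ = 𝟙 _ := (h₀.isBlowUp.2 _ (ι₀ ≫ b₀) h₀.isBlowUp.1).unique
      ((Category.assoc _ _ _).trans ((congrArg (θ' ≫ ·) hθ).trans hθ')) (Category.id_comp _)
    haveI : IsIso θ := ⟨θ', h1, h2⟩
    have heq : ι ≫ p = θ ≫ ι₀ :=
      (GrothLib.ABU25.isUniv_of_square h₀ _ (ι ≫ b) hP.isBlowUp.1).unique
        ((Category.assoc _ _ _).trans (congrArg (ι ≫ ·) hp)) ((Category.assoc _ _ _).trans hθ)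
    rw [heq]; infer_instance
  haveI : CompactSpace P := QuasiCompact.compactSpace_of_compactSpace b
  haveI : QuasiSeparatedSpace P := quasiSeparatedSpace_of_quasiSeparated b
  obtain ⟨I, _, _, _, D, c, hc, hD, ⟨ec⟩⟩ := Groth.Agent.S7379.result ι
  haveI : IsCofiltered Iᵒᵖ := inferInstance
  let D' := D ⋙ Over.forget P
  have hw : ∀ {j k : Iᵒᵖ} (f : j ⟶ k), D'.map f ≫ (D.obj k).hom = (D.obj j).hom := fun f => Over.w (D.map f)
  haveI : ∀ j, IsClosedImmersion (D.obj j).hom := fun j => (hD j).1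
  haveI : ∀ j, LocallyOfFinitePresentation (D.obj j).hom := fun j => (hD j).2
  haveI : ∀ (j k : Iᵒᵖ) (f : j ⟶ k), IsClosedImmersion (D'.map f) := fun j k f => by
    haveI : IsClosedImmersion (D'.map f ≫ (D.obj k).hom) := (hw f).symm ▸ (inferInstance : IsClosedImmersion (D.obj j).hom)
    exact IsClosedImmersion.of_comp (D'.map f) (D.obj k).hom
  haveI : ∀ j, CompactSpace (D'.obj j) := fun j => QuasiCompact.compactSpace_of_compactSpace (D.obj j).hom
  haveI : ∀ j, QuasiSeparatedSpace (D'.obj j) := fun j => quasiSeparatedSpace_of_quasiSeparated (D.obj j).hom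
  let c' : Cone D' := (Over.forget P).mapCone c
  have hc' : IsLimit c' := isLimitOfPreserves (Over.forget P) hc
  obtain ⟨j₀⟩ : Nonempty Iᵒᵖ := IsCofiltered.nonempty
  have hcι : c'.π.app j₀ ≫ (D.obj j₀).hom = ec.hom.left ≫ ι := (Over.w (c.π.app j₀)).trans (Over.w ec.hom).symm
  haveI : IsIso ec.hom.left := (Over.forget P).map_isIso ec.hom
  have stage : ∀ {X₀ : Scheme.{u}} {b₀ : X₀ ⟶ X} [IsProper b₀] (p : P ⟶ X₀), IsClosedImmersion (ι ≫ p) →
      LocallyOfFiniteType p → ∃ j : Iᵒᵖ, ∀ {k : Iᵒᵖ} (f : k ⟶ j), IsClosedImmersion ((D.obj k).hom ≫ p) := by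
    intro X₀ b₀ _ p hci _
    haveI := hci
    haveI : CompactSpace X₀ := QuasiCompact.compactSpace_of_compactSpace b₀
    haveI : QuasiSeparatedSpace X₀ := quasiSeparatedSpace_of_quasiSeparated b₀
    let t : D' ⟶ (Functor.const Iᵒᵖ).obj X₀ :=
      { app := fun j => (D.obj j).hom ≫ p
        naturality := fun j k f => by
          show D'.map f ≫ (D.obj k).hom ≫ p = ((D.obj j).hom ≫ p) ≫ 𝟙 X₀
          rw [← Category.assoc, hw, Category.comp_id] }
    haveI : ∀ j, LocallyOfFiniteType (t.app j) := fun j => inferInstanceAs (LocallyOfFiniteType ((D.obj j).hom ≫ p))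
    haveI : IsClosedImmersion (c'.π.app j₀ ≫ t.app j₀) := by
      show IsClosedImmersion (c'.π.app j₀ ≫ (D.obj j₀).hom ≫ p)
      rw [← Category.assoc, hcι, Category.assoc]
      infer_instance
    obtain ⟨j, hj⟩ := Groth.Agent.S0594.result X₀ D' t c' hc' j₀
    refine ⟨j, fun {k} f => ?_⟩
    haveI : IsClosedImmersion ((D.obj j).hom ≫ p) := hj
    rw [← hw f, Category.assoc]
    infer_instance
  obtain ⟨j₁, hj₁⟩ := stage (b₀ := b₁) p₁ (key h₁ p₁ rfl) inferInstance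
  obtain ⟨j₂, hj₂⟩ := stage (b₀ := b₂) p₂ (key h₂ p₂ pullback.condition.symm) inferInstance
  obtain ⟨k, f₁, f₂, -⟩ := IsCofilteredOrEmpty.cone_objs j₁ j₂
  let w := (D.obj k).hom
  have hle : w.ker ≤ HTop.supportedOn (i.ker.comap b) := by
    have h : c'.π.app k ≫ w = ec.hom.left ≫ ι := (Over.w (c.π.app k)).trans (Over.w ec.hom).symm
    have h' : w.ker ≤ ((inv ec.hom.left ≫ c'.π.app k) ≫ w).ker := Scheme.Hom.le_ker_comp _ _
    rw [Category.assoc, h, IsIso.inv_hom_id_assoc] at h'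
    exact h'.trans_eq (Scheme.IdealSheafData.ker_subschemeι _)
  exact ⟨pullback (pullback.fst b i) w, (D.obj k).left, pullback.snd _ _, pullback.fst _ _ ≫ pullback.snd b i,
    w ≫ b, w ≫ p₁, w ≫ p₂, (Groth.Agent.S8983.result hP w (IsPullback.of_hasPullback _ w)).1 hle,
    hj₁ f₁, hj₂ f₂, Category.assoc _ _ _, (Category.assoc _ _ _).trans (congrArg (w ≫ ·) pullback.condition.symm)⟩

end Groth.Agent.S8985
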