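import Groth.Statements.S8986
import Groth.Agent.Lib.HFlatten4.Assemble
-- import your own Groth.Agent.* helpers here

set_option autoImplicit false
set_option linter.all false
set_option backward.isDefEq.respectTransparency false
universe u
open HTop

namespace Groth.Agent.S8986

open CategoryTheory CategoryTheory.Limits AlgebraicGeometry in
/-- A morphism of finite presentation X → Y over a quasi-compact quasi-separated base, flat over a
quasi-compact open V, becomes flat after compatible almost blow ups of Y (with centre disjoint from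
V) and of X (with centre the preimage of that centre), the exceptional corners also forming a fibre
square. -/
theorem result {X Y : Scheme.{u}} [CompactSpace Y] [QuasiSeparatedSpace Y] (f : X ⟶ Y) [LocallyOfFinitePresentation f] [QuasiCompact f] [QuasiSeparated f] (V : Y.Opens) (hV : IsCompact (V : Set Y)) (hf : Flat (f ∣_ V)) : ∃ (Z Y' E T X' D : Scheme.{u}) (iZ : Z ⟶ Y) (bY : Y' ⟶ Y) (eE : E ⟶ Y') (πE : E ⟶ Z) (iT : T ⟶ X) (bX : X' ⟶ X) (eD : D ⟶ X') (πD : D ⟶ T) (fZ : T ⟶ Z) (f' : X' ⟶ Y') (fE : D ⟶ E), HTop.IsAlmostBlowUpSquare eE πE bY iZ ∧ HTop.IsAlmostBlowUpSquare eD πD bX iT ∧ IsPullback fZ iT iZ f ∧ IsPullback fE eD eE f' ∧ f' ≫ bY = bX ≫ f ∧ πD ≫ fZ = fE ≫ πE ∧ iZ ⁻¹ᵁ V = ⊥ ∧ Flat f' ∧ LocallyOfFinitePresentation f' := by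
  exact GrothLib.HFlatten4.exists_almostBlowUp_flattening f V hV hf

end Groth.Agent.S8986
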