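import Groth.Statements.S8992
import Mathlib.FieldTheory.Perfect
import Mathlib.Algebra.CharP.Algebra
import Mathlib.Algebra.Field.ZMod
-- import your own Groth.Agent.* helpers here

set_option autoImplicit false
universe u
open HTop

namespace Groth.Agent.S8992
theorem awn_of_perfect (p : ℕ) [hp : Fact p.Prime] {A : Type u} [CommRing A] [Algebra (ZMod p) A] [CharP A p]
    [ExpChar A p] [PerfectRing A p] : HTop.IsAWNRing A := by
  have hinj : ∀ a b : A, a ^ p = b ^ p → a = b := fun a b h => (bijective_frobenius A p).1 h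
  have hsurj : ∀ a : A, ∃ b : A, b ^ p = a := (bijective_frobenius A p).2
  refine ⟨fun x y h => ?_, fun q hq x y h => ?_⟩
  · rcases hp.out.eq_two_or_odd with hp2 | hodd
    · subst hp2
      obtain ⟨a, ha⟩ := hsurj x
      refine ⟨a, ⟨ha.symm, hinj _ _ ?_⟩, fun b hb => hinj _ _ (hb.1.symm.trans ha.symm)⟩
      rw [← h, ← ha]; ring
    · obtain ⟨k, hk⟩ : ∃ k, p = 2 * k + 3 := ⟨(p - 3) / 2, by have := hp.out.two_le; omega⟩
      obtain ⟨a, ha⟩ := hsurj (y * x ^ k)
      refine ⟨a, ⟨hinj _ _ ?_, hinj _ _ ?_⟩, fun b hb => hinj _ _ ?_⟩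
      · calc x ^ p = x ^ 3 * (x ^ k) ^ 2 := by rw [hk]; ring
          _ = (a ^ p) ^ 2 := by rw [ha, h]; ring
          _ = (a ^ 2) ^ p := by ring
      · calc y ^ p = y * (y ^ 2) ^ (k + 1) := by rw [hk]; ring
          _ = y * (y ^ 2) * (x ^ k) ^ 3 := by rw [← h]; ring
          _ = (a ^ p) ^ 3 := by rw [ha]; ring
          _ = (a ^ 3) ^ p := by ring
      · rw [ha, hb.1, hb.2, hk]; ring
  · by_cases hqp : q = p
    · subst hqp
      have hq0 : (q : A) = 0 := CharP.cast_eq_zero A q
      obtain ⟨a, ha⟩ := hsurj x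
      have hy : y = 0 := hinj _ _ (by rw [← h, hq0, zero_pow hq.ne_zero, zero_mul])
      exact ⟨a, ⟨ha.symm, by rw [hy, hq0, zero_mul]⟩, fun b hb => hinj _ _ (hb.1.symm.trans ha.symm)⟩
    · have hu : IsUnit (q : A) := by
        have h0 : IsUnit (q : ZMod p) := (ZMod.isUnit_iff_coprime q p).2 ((Nat.coprime_primes hq hp.out).2 hqp)
        simpa using h0.map (algebraMap (ZMod p) A)
      obtain ⟨v, hv⟩ := hu.exists_right_inv
      refine ⟨v * y, ⟨?_, by rw [← mul_assoc, hv, one_mul]⟩, fun b hb => ?_⟩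
      · rw [mul_pow, ← h, ← mul_assoc, ← mul_pow, mul_comm v, hv, one_pow, one_mul]
      · rw [hb.2, ← mul_assoc, mul_comm v, hv, one_mul]



/-- An algebra over the prime field with p elements is absolutely weakly normal if and only if its p-th
power map is bijective (the algebra is perfect). -/
theorem result (p : ℕ) [Fact p.Prime] (A : Type u) [CommRing A] [Algebra (ZMod p) A] : HTop.IsAWNRing A ↔ PerfectRing A p := by
  have : CharP A p ∨ Subsingleton A := by
    rcases subsingleton_or_nontrivial A with h | h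
    · exact Or.inr h
    · exact Or.inl ((have := Fact.mk (Fact.out : p.Prime); RingHom.charP_iff (algebraMap (ZMod p) A) (@RingHom.injective (ZMod p) A _ _ _ _ (algebraMap (ZMod p) A)) p).1 inferInstance)
  rcases this with hc | hs
  · have : ExpChar A p := ExpChar.prime Fact.out
    have hp0 : (p : A) = 0 := CharP.cast_eq_zero A p
    constructor
    · rintro ⟨-, h⟩
      refine ⟨⟨fun a b hab => ?_, fun x => ?_⟩⟩
      · obtain ⟨c, -, hc⟩ := h p Fact.out (a ^ p) 0 (by
          rw [hp0, zero_pow (NeZero.ne p), zero_mul])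
        simp only [frobenius_def] at hab
        exact (hc a ⟨rfl, by rw [hp0, zero_mul]⟩).trans (hc b ⟨hab, by rw [hp0, zero_mul]⟩).symm
      · obtain ⟨a, ⟨ha, -⟩, -⟩ := h p Fact.out x 0 (by rw [hp0, zero_pow (NeZero.ne p), zero_mul])
        exact ⟨a, ha.symm⟩
    · intro hP
      exact awn_of_perfect p
  · have : Subsingleton A := hs
    have : PerfectRing A p := ⟨⟨fun _ _ _ => Subsingleton.elim _ _, fun x => ⟨x, Subsingleton.elim _ _⟩⟩⟩
    exact ⟨fun _ => this, fun _ => ⟨fun x y _ => ⟨0, ⟨Subsingleton.elim _ _, Subsingleton.elim _ _⟩,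
      fun _ _ => Subsingleton.elim _ _⟩, fun q _ x y _ => ⟨0, ⟨Subsingleton.elim _ _, Subsingleton.elim _ _⟩,
      fun _ _ => Subsingleton.elim _ _⟩⟩⟩

end Groth.Agent.S8992
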