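import Groth.Statements.S8993
import Groth.Agent.Lib.AWN25.Exists
import Groth.Agent.S8992
import Mathlib.Algebra.Algebra.ZMod
-- import your own Groth.Agent.* helpers here

set_option autoImplicit false
universe u
open HTop

namespace Groth.Agent.S8993

/-- For a ring A of prime characteristic p, the map from A to the direct limit of A along Frobenius (the
perfect closure) is an absolute weak normalization of A. (The published statement also identifies,
over a base of characteristic p, the h sheafification of the structure sheaf on quasi-compact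
quasi-separated objects with this colimit; that part is not stated here.) -/
theorem result (p : ℕ) [Fact p.Prime] (A : Type u) [CommRing A] [CharP A p] : HTop.IsRingAWN (PerfectClosure.of A p) := by
  have hp : p.Prime := Fact.out
  let _ : Algebra (ZMod p) (PerfectClosure A p) := ZMod.algebra _ p
  have : ExpChar (PerfectClosure A p) p := ExpChar.prime hp
  have hawn : HTop.IsAWNRing (PerfectClosure A p) := Groth.Agent.S8992.awn_of_perfect p
  have hpow : ∀ z : PerfectClosure A p, ∃ (n : ℕ) (a : A), z ^ p ^ n = PerfectClosure.of A p a := by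
    intro z
    induction z using PerfectClosure.induction_on with
    | _ x =>
      refine ⟨x.1, x.2, ?_⟩
      rw [← iterate_frobenius, PerfectClosure.iterate_frobenius_mk, PerfectClosure.of_apply]
  have hint : (PerfectClosure.of A p).IsIntegral := fun z => by
    obtain ⟨n, a, h⟩ := hpow z
    exact ⟨Polynomial.X ^ p ^ n - Polynomial.C a, Polynomial.monic_X_pow_sub_C _ (pow_ne_zero n hp.ne_zero), by simp [h]⟩
  refine GrothLib.AWN25.isRingAWN_of ⟨hint, fun q => ?_, fun K _ f g e => RingHom.ext fun z => ?_⟩ hawn
  · let _ : Algebra A (PerfectClosure A p) := (PerfectClosure.of A p).toAlgebra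
    have : Algebra.IsIntegral A (PerfectClosure A p) := ⟨hint⟩
    obtain ⟨Q, -, hQ, hc⟩ := Ideal.exists_ideal_over_prime_of_isIntegral q.asIdeal (⊥ : Ideal (PerfectClosure A p)) (by
      intro a ha
      have h0 : PerfectClosure.of A p a = 0 := ha
      rw [PerfectClosure.of_apply, ← PerfectClosure.mk_zero_right A p 0, PerfectClosure.mk_eq_iff] at h0
      obtain ⟨z, hz⟩ := h0
      simp only [← coe_iterateFrobenius, iterateFrobenius_def, zero_add, zero_pow (pow_ne_zero z hp.ne_zero)] at hz
      exact q.isPrime.mem_of_pow_mem _ (hz ▸ q.asIdeal.zero_mem))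
    exact ⟨⟨Q, hQ⟩, PrimeSpectrum.ext hc⟩
  · obtain ⟨n, a, h⟩ := hpow z
    have e' : (f z) ^ p ^ n = (g z) ^ p ^ n := by
      rw [← map_pow, ← map_pow, h]; exact RingHom.congr_fun e a
    have : CharP K p := (CharP.charP_iff_prime_eq_zero hp).2 (by
      rw [← map_natCast f, CharP.cast_eq_zero, map_zero])
    exact sub_eq_zero.1 ((pow_eq_zero_iff (pow_ne_zero n hp.ne_zero)).1 (by rw [sub_pow_char_pow, e', sub_self]))

end Groth.Agent.S8993
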