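import Groth.Statements.S8995
import Mathlib
-- import your own Groth.Agent.* helpers here

set_option autoImplicit false
universe v u
open FlatMor

namespace Groth.Agent.S8995

open CategoryTheory CategoryTheory.Limits AlgebraicGeometry in
/-- For an etale morphism T → S and a point t of T over s, a module over the local ring of T at t is
flat over the local ring of S at s (through the stalk map) if and only if it is flat over the local
ring of T at t. -/
theorem result {T S : Scheme.{u}} (g : T ⟶ S) [Etale g] (t : T) (M : Type v) [AddCommGroup M] [Module (T.presheaf.stalk t) M] [Algebra (S.presheaf.stalk (g.base t)) (T.presheaf.stalk t)] [Module (S.presheaf.stalk (g.base t)) M] [IsScalarTower (S.presheaf.stalk (g.base t)) (T.presheaf.stalk t) M] (halg : algebraMap (S.presheaf.stalk (g.base t)) (T.presheaf.stalk t) = (g.stalkMap t).hom) : Module.Flat (S.presheaf.stalk (g.base t)) M ↔ Module.Flat (T.presheaf.stalk t) M := by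
  have : Algebra.EssFiniteType (S.presheaf.stalk (g.base t)) (T.presheaf.stalk t) := by
    rw [← RingHom.essFiniteType_algebraMap, halg]; exact LocallyOfFiniteType.stalkMap g t
  have : Algebra.FormallyUnramified (S.presheaf.stalk (g.base t)) (T.presheaf.stalk t) := by
    rw [← RingHom.formallyUnramified_algebraMap, halg]; exact FormallyUnramified.stalkMap g t
  have : Module.Flat (S.presheaf.stalk (g.base t)) (T.presheaf.stalk t) := by
    rw [← RingHom.flat_algebraMap_iff, halg]; exact Flat.stalkMap g t
  exact ⟨fun _ => Algebra.FormallyUnramified.flat_of_restrictScalars (S.presheaf.stalk (g.base t)) _ M,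
    fun _ => Module.Flat.trans (S.presheaf.stalk (g.base t)) (T.presheaf.stalk t) M⟩

end Groth.Agent.S8995
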