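import Groth.Statements.S8998
import Groth.Agent.Lib.RG6.Impure.Local
import Groth.Agent.S1247
-- import your own Groth.Agent.* helpers here

set_option autoImplicit false
universe u
open FlatMor

namespace Groth.Agent.S8998

/-- For an affine finite type morphism Spec B → Spec A: if the local ring of A at the prime p is
Noetherian, then a finite B-module is pure along the fibre over p if and only if it is universally
pure along it. -/
theorem result {A B : Type u} [CommRing A] [CommRing B] [Algebra A B] [Algebra.FiniteType A B] (N : Type u) [AddCommGroup N] [Module B N] [Module.Finite B N] (p : Ideal A) [p.IsPrime] [IsNoetherianRing (Localization.AtPrime p)] : FlatCA.IsPureAlong A B N p ↔ FlatCA.IsUnivPureAlong A B N p := by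
  refine ⟨?_, fun h A' B' N' _ _ _ _ _ _ _ _ _ _ _ _ _ _ f t' t _ _ P _ _ himp => h A' B' N' f t' t P himp⟩
  intro h A' B' N' _ _ _ _ _ _ _ _ _ _ _ _ _ _ f t' t _ _ P _ himp
  obtain ⟨-, -, hle, ht, -⟩ := id himp
  haveI := ht
  let R := Localization.AtPrime p
  obtain ⟨BR, NR, _, _, _, _, _, _, _, _, _, _, _, _, fR, hpoR, hfR⟩ := GrothLib.RG6.Impure.exists_data A B N R
  haveI : Algebra.FiniteType R BR := GrothLib.RG6.Impure.finiteType_baseChange hpoR
  haveI : Module.Finite BR NR := Module.Finite.equiv hfR.equiv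
  let L := Localization.AtPrime t
  letI : Algebra R L := (IsLocalization.lift (M := p.primeCompl) (g := algebraMap A L) fun y => by
    rw [IsScalarTower.algebraMap_apply A A' L]
    exact IsLocalization.map_units (M := t.primeCompl) L
      ⟨algebraMap A A' y, fun h' => y.2 ((Ideal.mem_of_liesOver t p (y : A)).2 h')⟩).toAlgebra
  haveI : IsScalarTower A R L := .of_algebraMap_eq fun x => (IsLocalization.lift_eq _ x).symm
  let uL := IsLocalRing.maximalIdeal L
  haveI : uL.LiesOver t := ⟨(Localization.AtPrime.under_maximalIdeal).symm⟩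
  let cL : Ideal L := t'.map (algebraMap A' L)
  have hdis : Disjoint (t.primeCompl : Set A') t' := Set.disjoint_left.2 fun x hx hx' => hx (hle hx')
  haveI : cL.IsPrime := IsLocalization.isPrime_of_isPrime_disjoint t.primeCompl L t' ‹_› hdis
  haveI : cL.LiesOver t' := ⟨(IsLocalization.comap_map_of_isPrime_disjoint t.primeCompl L ‹_› hdis).symm⟩
  haveI : uL.LiesOver p := Ideal.LiesOver.trans uL t p
  haveI : uL.LiesOver (IsLocalRing.maximalIdeal R) := ⟨PrimeSpectrum.ext_iff.1
    (PrimeSpectrum.localization_comap_injective R p.primeCompl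
      (a₁ := ⟨IsLocalRing.maximalIdeal R, inferInstance⟩) (a₂ := ⟨uL.comap (algebraMap R L), inferInstance⟩)
      (PrimeSpectrum.ext (by
        show (IsLocalRing.maximalIdeal R).comap (algebraMap A R) = (uL.comap (algebraMap R L)).comap (algebraMap A R)
        rw [Ideal.comap_comap, ← IsScalarTower.algebraMap_eq]
        exact Localization.AtPrime.under_maximalIdeal.trans (uL.over_def p))))⟩
  obtain ⟨C, BC, NC, _, _, _, _, _, _, _, _, _, _, _, _, _, _, fC, c', c, _, _, PC, _, himpC, _, _, _⟩ :=
    Groth.Agent.S1247.result NR (IsLocalRing.maximalIdeal R)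
      (GrothLib.RG6.Impure.hasImpurity_baseChange_of_pair hpoR hfR himp (t₂' := cL) (t₂ := uL)
        (IsLocalRing.le_maximalIdeal_of_isPrime cL) (fun _ _ _ _ => True) trivial)
  letI : Algebra A C := ((algebraMap R C).comp (algebraMap A R)).toAlgebra
  haveI : IsScalarTower A R C := .of_algebraMap_eq fun _ => rfl
  haveI : (IsLocalRing.maximalIdeal R).LiesOver p := ⟨(Localization.AtPrime.under_maximalIdeal).symm⟩
  have hA := GrothLib.RG6.Impure.hasImpurity_of_baseChange (p := p) hpoR hfR himpC
    (fun C' _ _ u => ∃ (_ : u.IsPrime) (_ : Algebra R C') (_ : IsScalarTower A R C'),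
      Algebra.FiniteType R C' ∧ Algebra.QuasiFiniteAt R u) ⟨inferInstance, inferInstance, inferInstance, ‹_›, ‹_›⟩
  obtain ⟨D, BD, ND, _, _, _, _, _, _, _, _, _, _, _, _, _, _, fD, v', v, _, _, PD, _, himpD, _, _, _, _, _⟩ := hA
  obtain ⟨E, BE, NE, _, _, _, _, _, _, _, _, _, _, _, _, _, _, fE, w', w, _, _, PE, _, himpE, _, hw⟩ :=
    GrothLib.RG6.Impure.etaleNhd_of_qf_localization himpD
  exact h E BE NE fE w' w PE hw himpE

end Groth.Agent.S8998
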