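import Groth.Statements.S9000
import Groth.Agent.Lib.RG6.Impure.Hens
-- import your own Groth.Agent.* helpers here

set_option autoImplicit false
universe u
open FlatMor

namespace Groth.Agent.S9000

open IsLocalRing in
/-- For Spec B → Spec A of finite type, a finite B-module N and a prime p of A, an impurity of N above p
over an elementary etale neighbourhood of (A, p) yields an impurity of N above p over the
henselization of the local ring of A at p, based at its closed point. (The other implications of the
published equivalence are separate results: from the henselization to an elementary etale
neighbourhood, and between elementary etale neighbourhoods and base rings quasi-finite at the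
point.) -/
theorem result {A B : Type u} [CommRing A] [CommRing B] [Algebra A B] [Algebra.FiniteType A B] (N : Type u) [AddCommGroup N] [Module B N] [Module.Finite B N] (p : Ideal A) [p.IsPrime] (h : FlatCA.HasImpurity A B N p (fun A' _ _ t => ∃ _ : t.IsPrime, FlatCA.IsEtaleNhd A A' p t)) : FlatCA.HasImpurity A B N p (fun A' _ _ t => ∃ (_ : IsLocalRing A') (_ : Algebra (Localization.AtPrime p) A') (_ : IsScalarTower A (Localization.AtPrime p) A') (_ : IsLocalHom (algebraMap (Localization.AtPrime p) A')), Hensel.IsHenselization (Localization.AtPrime p) A' ∧ t = maximalIdeal A') := by
  obtain ⟨A', B', N', _, _, _, _, _, _, _, _, _, _, _, _, _, _, f, t', t, _, _, P, _, himp, _, het⟩ := h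
  exact GrothLib.RG6.Impure.henselization_of_etaleNhd het himp

end Groth.Agent.S9000
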