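import Groth.Statements.S9001
import Groth.Agent.S0589
import Groth.Agent.Lib.Misc6.AssTop

set_option autoImplicit false
universe u
open FlatMor

namespace Groth.Agent.S9001

open IsLocalRing TensorProduct in
/-- Over a henselian local ring R with maximal ideal m, for an R-algebra S and an S-module N which is
countably generated and Mittag-Leffler as an R-module, every associated prime q of the S-module N
⊗_R M (M any R-module) satisfies q + mS ≠ S. (Associated primes are taken here in the sense of
primes equal to the radical of the annihilator of some element, a larger set than the annihilators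
of elements used in the published statement; the published argument goes through once the chosen
element of q is replaced by a suitable power of it, so the row states this slightly stronger form.) -/
theorem result {R S : Type u} [CommRing R] [HenselianLocalRing R] [CommRing S] [Algebra R S] (N : Type u) [AddCommGroup N] [Module S N] [Module R N] [IsScalarTower R S N] (hcg : CAlg.IsCountablyGenerated R N) (hML : CAlg.IsMittagLeffler R N) (M : Type u) [AddCommGroup M] [Module R M] (q : Ideal S) [q.IsPrime] (hq : q ∈ associatedPrimes S (N ⊗[R] M)) : q ⊔ (maximalIdeal R).map (algebraMap R S) ≠ ⊤ := by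
  classical
  intro h
  obtain ⟨ι, F, hF, hfp⟩ := Groth.Agent.S0589.result R N hcg hML
  obtain ⟨hp, x, hx⟩ := hq
  obtain ⟨a, ha, e, he, hae⟩ := Submodule.mem_sup.mp ((Ideal.eq_top_iff_one _).mp h)
  rw [hx] at ha
  obtain ⟨k, hk⟩ := ha
  rw [Submodule.mem_colon_singleton, Submodule.mem_bot] at hk
  have hx0 : x ≠ 0 := by
    rintro rfl
    refine hp.ne_top (hx.trans ?_)
    rw [Ideal.radical_eq_top, Ideal.eq_top_iff_one, Submodule.mem_colon_singleton, smul_zero]
    exact zero_mem _
  let e' : S := 1 - a ^ k
  have he' : e' ∈ (maximalIdeal R).map (algebraMap R S) := by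
    have h1 : a - 1 ∈ (maximalIdeal R).map (algebraMap R S) := by
      rw [show a - 1 = -e by rw [← hae]; ring]; exact neg_mem he
    have h2 : a ^ k - 1 ∈ (maximalIdeal R).map (algebraMap R S) :=
      Ideal.mem_of_dvd _ (sub_one_dvd_pow_sub_one a k) h1
    rw [show e' = -(a ^ k - 1) by simp [e']]
    exact neg_mem h2
  have hs : ∀ (c : S) (z : N ⊗[R] M), ((LinearMap.lsmul S N c).restrictScalars R).rTensor M z = c • z := by
    intro c z
    induction z using TensorProduct.induction_on with
    | zero => simp
    | add u v hu hv => rw [map_add, hu, hv, smul_add]
    | tmul n m => simp [TensorProduct.smul_tmul']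
  refine hx0 (GrothLib.Misc6.eq_zero_of_fixed_directSum N M F hF (fun i => haveI := hfp i; inferInstance) he' ?_)
  rw [hs, show e' = 1 - a ^ k from rfl, sub_smul, one_smul, hk, sub_zero]

end Groth.Agent.S9001
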