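import Groth.Statements.S9004
import Groth.Agent.Lib.TruncFreelead.Main
-- import your own Groth.Agent.* helpers here

set_option autoImplicit false
universe u
open FlatMor

attribute [-instance] CategoryTheory.catToReflQuiver

namespace Groth.Agent.S9004

open CategoryTheory CategoryTheory.Limits AlgebraicGeometry in
/-- For a proper morphism X → Spec R with geometrically connected fibres over a discrete valuation ring
R with uniformizer ϖ, there is an n such that a finite locally free module on X is free as soon as
its restrictions to the generic fibre and to the closed subscheme cut out by ϖ^n are free.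
(Geometrically connected is Mathlib's notion, which asks the geometric fibres to be nonempty and
connected.) -/
theorem result {R : Type u} [CommRing R] [IsDomain R] [IsDiscreteValuationRing R] (ϖ : R) (hϖ : Irreducible ϖ) {X : Scheme.{u}} (f : X ⟶ Spec (CommRingCat.of R)) [IsProper f] [GeometricallyConnected f] : ∃ n : ℕ, ∀ (E : X.Modules), FlatMod.IsFinLocFree E → (∃ r : ℕ, Nonempty ((Scheme.Modules.pullback (pullback.fst f (Spec.map (CommRingCat.ofHom (algebraMap R (FractionRing R)))))).obj E ≅ FlatMod.freeMod _ r)) → (∃ r : ℕ, Nonempty ((Scheme.Modules.pullback (pullback.fst f (Spec.map (CommRingCat.ofHom (Ideal.Quotient.mk (Ideal.span {ϖ ^ n})))))).obj E ≅ FlatMod.freeMod _ r)) → ∃ r : ℕ, Nonempty (E ≅ FlatMod.freeMod X r) := by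
  exact GrothLib.TruncFreelead.exists_pow_free f hϖ

end Groth.Agent.S9004
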