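import Groth.Statements.S9007
-- import your own Groth.Agent.* helpers here

set_option autoImplicit false
universe u
open FlatMor

namespace Groth.Agent.S9007

open CategoryTheory CategoryTheory.Limits AlgebraicGeometry in
/-- For a morphism f of compactifications of X over a quasi-compact quasi-separated S whose source
contains X as a dense open, the preimage under f of the image of X in the target is the image of X
in the source. -/
theorem result {X S : Scheme.{u}} [CompactSpace S] [QuasiSeparatedSpace S] (p : X ⟶ S) [IsSeparated p] [QuasiCompact p] [LocallyOfFiniteType p] {Y Y' : Scheme.{u}} (j : X ⟶ Y) (q : Y ⟶ S) [IsOpenImmersion j] [IsProper q] (h : j ≫ q = p) (j' : X ⟶ Y') (q' : Y' ⟶ S) [IsOpenImmersion j'] [IsProper q'] (h' : j' ≫ q' = p) (f : Y' ⟶ Y) (hf : f ≫ q = q') (hfj : j' ≫ f = j) (hd : Dense (Set.range j'.base)) : f ⁻¹ᵁ j.opensRange = j'.opensRange := by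
  have : IsSeparated f := by
    have : IsSeparated (f ≫ q) := by rw [hf]; infer_instance
    exact IsSeparated.of_comp f q
  have hle : j'.opensRange ≤ f ⁻¹ᵁ j.opensRange := by
    rintro _ ⟨x, rfl⟩
    exact ⟨x, by rw [← Scheme.Hom.comp_apply, hfj]⟩
  refine le_antisymm ?_ hle
  let s : X ⟶ ((f ⁻¹ᵁ j.opensRange : Y'.Opens) : Scheme.{u}) :=
    IsOpenImmersion.lift (f ⁻¹ᵁ j.opensRange).ι j' (by rw [Scheme.Opens.range_ι]; exact hle)
  have hs : s ≫ (f ⁻¹ᵁ j.opensRange).ι = j' := IsOpenImmersion.lift_fac _ _ _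
  have hsf : s ≫ (f ∣_ j.opensRange) = j.isoOpensRange.hom := by
    rw [← cancel_mono j.opensRange.ι, Category.assoc, morphismRestrict_ι, reassoc_of% hs, hfj,
      Scheme.Hom.isoOpensRange_hom_ι]
  have : IsClosedImmersion (s ≫ (f ∣_ j.opensRange)) := by rw [hsf]; infer_instance
  have := IsClosedImmersion.of_comp s (f ∣_ j.opensRange)
  intro y hy
  have hcl : (⟨y, hy⟩ : ((f ⁻¹ᵁ j.opensRange : Y'.Opens) : Scheme.{u})) ∈ closure (Set.range s) := by
    rw [(f ⁻¹ᵁ j.opensRange).ι.isOpenEmbedding.isInducing.closure_eq_preimage_closure_image]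
    show y ∈ closure ((f ⁻¹ᵁ j.opensRange).ι '' Set.range s)
    rw [← Set.range_comp, ← TopCat.coe_comp, ← Scheme.Hom.comp_base, hs]
    exact hd y
  rw [s.isClosedEmbedding.isClosed_range.closure_eq] at hcl
  obtain ⟨x, hx⟩ := hcl
  exact ⟨x, by rw [← hs, Scheme.Hom.comp_apply, hx]; rfl⟩

end Groth.Agent.S9007
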