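import Groth.Statements.S9008

set_option autoImplicit false
universe u
open FlatMor

namespace Groth.Agent.S9008

/-- For Spec B → Spec A affine of finite type: a finite B-module is universally pure along the fibre
over a prime p of A exactly when every base change of it along a ring map A → A' is pure along the
fibre over every prime of A' above p. -/
theorem result {A B : Type u} [CommRing A] [CommRing B] [Algebra A B] [Algebra.FiniteType A B] (N : Type u) [AddCommGroup N] [Module B N] [Module.Finite B N] (p : Ideal A) [p.IsPrime] : FlatCA.IsUnivPureAlong A B N p ↔ ∀ (A' B' N' : Type u) [CommRing A'] [CommRing B'] [Algebra A A'] [Algebra B B'] [Algebra A' B'] [Algebra A B'] [IsScalarTower A B B'] [IsScalarTower A A' B'] [Algebra.IsPushout A B A' B'] [AddCommGroup N'] [Module B' N'] [Module B N'] [IsScalarTower B B' N'] (g : N →ₗ[B] N'), IsBaseChange B' g → ∀ (p' : Ideal A') [p'.IsPrime], p'.LiesOver p → FlatCA.IsPureAlong A' B' N' p' := by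
  constructor
  · intro h A' B' N' _ _ _ _ _ _ _ _ hpo _ _ _ _ g hg p' _ hp'
    intro A'' B'' N'' _ _ _ _ _ _ _ _ _ _ _ _ _ _ f t' t _ _ P _ _ himp
    obtain ⟨hpo', hf, hle, ht, hP, hass, hmiss⟩ := himp
    letI : Algebra A A'' := ((algebraMap A' A'').comp (algebraMap A A')).toAlgebra
    haveI : IsScalarTower A A' A'' := .of_algebraMap_eq fun _ => rfl
    letI : Algebra B B'' := ((algebraMap B' B'').comp (algebraMap B B')).toAlgebra
    haveI : IsScalarTower B B' B'' := .of_algebraMap_eq fun _ => rfl
    letI : Algebra A B'' := ((algebraMap A' B'').comp (algebraMap A A')).toAlgebra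
    haveI : IsScalarTower A A' B'' := .of_algebraMap_eq fun _ => rfl
    haveI : IsScalarTower A B B'' := .of_algebraMap_eq fun x => by
      show algebraMap A' B'' (algebraMap A A' x) = algebraMap B' B'' (algebraMap B B' (algebraMap A B x))
      rw [← IsScalarTower.algebraMap_apply A B B', IsScalarTower.algebraMap_apply A A' B', ← IsScalarTower.algebraMap_apply A' B' B'']
    haveI : IsScalarTower A A'' B'' := .of_algebraMap_eq fun x => by
      show algebraMap A' B'' (algebraMap A A' x) = algebraMap A'' B'' (algebraMap A' A'' (algebraMap A A' x))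
      rw [← IsScalarTower.algebraMap_apply A' A'' B'']
    haveI : IsScalarTower A B' B'' := .of_algebraMap_eq fun x => by
      show algebraMap A' B'' (algebraMap A A' x) = algebraMap B' B'' (algebraMap A B' x)
      rw [IsScalarTower.algebraMap_apply A A' B', ← IsScalarTower.algebraMap_apply A' B' B'']
    letI : Module B N'' := Module.compHom N'' (algebraMap B B'')
    haveI : IsScalarTower B B'' N'' := IsScalarTower.of_algebraMap_smul fun _ _ => rfl
    haveI : IsScalarTower B B' N'' := IsScalarTower.of_algebraMap_smul fun b n => by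
      show algebraMap B B' b • n = algebraMap B B'' b • n
      rw [IsScalarTower.algebraMap_apply B B' B'']
      exact (algebraMap_smul B'' _ n).symm
    haveI := hpo
    have hpo2 : Algebra.IsPushout A B A'' B'' := by
      haveI : Algebra.IsPushout A A' B B' := Algebra.IsPushout.symm hpo
      exact Algebra.IsPushout.symm
        ((Algebra.IsPushout.comp_iff A A' B B' (T := A'') (T' := B'')).mpr (Algebra.IsPushout.symm hpo'))
    refine h A'' B'' N'' ((f.restrictScalars B).comp g) t' t P
      ⟨hpo2, hg.comp hf, hle, ⟨?_⟩, hP, hass, hmiss⟩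
    rw [hp'.over, ht.over, Ideal.under_under]
  · intro h A' B' N' _ _ _ _ _ _ _ _ _ _ _ _ _ _ f t' t _ _ P _ himp
    obtain ⟨hpo, hf, hle, ht, hP, hass, hmiss⟩ := himp
    haveI := hpo
    refine h A' B' N' f hf t ht A' B' N' LinearMap.id t' t P ⟨inferInstance, ⟨rfl⟩, ?_⟩
      ⟨?_, ?_, hle, ⟨rfl⟩, hP, hass, hmiss⟩
    · have key : ∀ (g : A' →ₐ[A'] A') (hg : t = t.comap g.toRingHom), g = AlgHom.id A' A' →
          Function.Bijective (Ideal.ResidueField.mapₐ t t g hg) := by
        rintro g hg rfl
        rw [Ideal.ResidueField.mapₐ_id t]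
        exact Function.bijective_id
      exact key _ _ (Subsingleton.elim _ _)
    · exact ⟨IsBaseChange.of_equiv (TensorProduct.AlgebraTensorModule.rid A' B' B') (fun x => by
        simp [Algebra.smul_def])⟩
    · exact IsBaseChange.of_equiv (TensorProduct.lid B' N') (fun x => by simp)

end Groth.Agent.S9008
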