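import Groth.Statements.S9011
import Groth.Agent.S0582
import Groth.Agent.Lib.WeakAssFib.Fibre

set_option autoImplicit false
universe u
open FlatMor

namespace Groth.Agent.S9011

open scoped TensorProduct

/-- A map of free modules injective modulo the maximal ideal is universally injective. -/
theorem lTensor_injective_of_residue {R M N : Type u} [CommRing R] [IsLocalRing R] [AddCommGroup M] [AddCommGroup N]
    [Module R M] [Module R N] [Module.Free R M] [Module.Free R N] (u : M →ₗ[R] N)
    (hu : Function.Injective (u.lTensor (IsLocalRing.ResidueField R))) (Q : Type u) [AddCommGroup Q] [Module R Q] :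
    Function.Injective (u.lTensor Q) := by
  classical
  let bM := Module.Free.chooseBasis R M
  let bN := Module.Free.chooseBasis R N
  rw [injective_iff_map_eq_zero]
  intro z hz
  obtain ⟨l, rfl⟩ := TensorProduct.exists_finset z
  let s := l.biUnion fun x => (bM.repr x.2).support
  let inc : (s → R) →ₗ[R] M := Fintype.linearCombination R fun i : s => bM i.1
  let prs : M →ₗ[R] (s → R) := LinearMap.pi fun i : s => bM.coord i.1
  have hincprs : prs ∘ₗ inc = LinearMap.id := by
    refine LinearMap.ext fun c => funext fun i => ?_
    simp only [prs, inc, LinearMap.comp_apply, LinearMap.pi_apply, Fintype.linearCombination_apply, map_sum, map_smul,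
      Module.Basis.coord_apply, Module.Basis.repr_self, Finsupp.single_apply, LinearMap.id_apply, smul_eq_mul]
    rw [Finset.sum_eq_single i]
    · simp
    · intro j _ hj; simp [Subtype.coe_injective.ne_iff, hj]
    · simp
  have hmem : ∀ x ∈ l, inc (prs x.2) = x.2 := fun x hx => by
    conv_rhs => rw [← bM.linearCombination_repr x.2, Finsupp.linearCombination_apply, Finsupp.sum]
    simp only [inc, prs, Fintype.linearCombination_apply, LinearMap.pi_apply, Module.Basis.coord_apply]
    rw [Finset.sum_coe_sort s fun i => bM.repr x.2 i • bM i]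
    exact (Finset.sum_subset (fun i hi => Finset.mem_biUnion.2 ⟨x, hx, hi⟩) fun i _ hi => by
      rw [Finsupp.notMem_support_iff.1 hi, zero_smul]).symm
  let t := Finset.univ.biUnion fun i : s => (bN.repr (u (bM i.1))).support
  let J : (t → R) →ₗ[R] N := Fintype.linearCombination R fun i : t => bN i.1
  let prt : N →ₗ[R] (t → R) := LinearMap.pi fun i : t => bN.coord i.1
  have hJ : J ∘ₗ prt ∘ₗ u ∘ₗ inc = u ∘ₗ inc := by
    refine LinearMap.pi_ext' fun i => LinearMap.ext_ring ?_
    have hi : inc (Pi.single i 1) = bM i.1 := by simp [inc]
    simp only [LinearMap.comp_apply, LinearMap.single_apply, hi]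
    conv_rhs => rw [← bN.linearCombination_repr (u (bM i.1)), Finsupp.linearCombination_apply, Finsupp.sum]
    simp only [J, prt, Fintype.linearCombination_apply, LinearMap.pi_apply, Module.Basis.coord_apply]
    rw [Finset.sum_coe_sort t fun j => bN.repr (u (bM i.1)) j • bN j]
    exact (Finset.sum_subset (fun j hj => Finset.mem_biUnion.2 ⟨i, Finset.mem_univ _, hj⟩) fun j _ hj => by
      rw [Finsupp.notMem_support_iff.1 hj, zero_smul]).symm
  have hk : Function.Injective ((prt ∘ₗ u ∘ₗ inc).lTensor (IsLocalRing.ResidueField R)) := by
    have h1 : Function.Injective (inc.lTensor (IsLocalRing.ResidueField R)) :=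
      Function.LeftInverse.injective (g := prs.lTensor _) fun y => by
        rw [← LinearMap.comp_apply, ← LinearMap.lTensor_comp, hincprs, LinearMap.lTensor_id, LinearMap.id_apply]
    have h2 : Function.Injective ((u ∘ₗ inc).lTensor (IsLocalRing.ResidueField R)) := by
      rw [LinearMap.lTensor_comp]; exact hu.comp h1
    rw [← hJ, LinearMap.lTensor_comp] at h2
    exact Function.Injective.of_comp (f := J.lTensor (IsLocalRing.ResidueField R)) h2
  obtain ⟨left, hl⟩ := (IsLocalRing.split_injective_iff_lTensor_residueField_injective _).2 hk
  have hz' : ∑ x ∈ l, x.1 ⊗ₜ[R] x.2 = inc.lTensor Q (∑ x ∈ l, x.1 ⊗ₜ[R] prs x.2) := by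
    rw [map_sum]
    exact Finset.sum_congr rfl fun x hx => by rw [LinearMap.lTensor_tmul, hmem x hx]
  rw [hz'] at hz ⊢
  have hy := congrArg (left.lTensor Q) (congrArg (prt.lTensor Q) hz)
  rw [map_zero, map_zero, ← LinearMap.comp_apply, ← LinearMap.comp_apply, ← LinearMap.comp_apply,
    ← LinearMap.lTensor_comp, ← LinearMap.lTensor_comp, ← LinearMap.lTensor_comp] at hy
  simp only [LinearMap.comp_assoc] at hy
  rw [hl, LinearMap.lTensor_id, LinearMap.id_apply] at hy
  rw [hy, map_zero]

open IsLocalRing in
/-- For a local ring R with maximal ideal m, an R-algebra S with S/mS Noetherian and an S-module N with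
N/mN finite over S/mS which is projective as an R-module, every element of S that is a
nonzerodivisor on N/mN acts R-universally injectively on N, and the map from N to its localization
at all such elements is R-universally injective. -/
theorem result {R S : Type u} [CommRing R] [IsLocalRing R] [CommRing S] [Algebra R S] (N : Type u) [AddCommGroup N] [Module S N] [Module R N] [IsScalarTower R S N] [IsNoetherianRing ((maximalIdeal R).Fiber S)] [Module.Finite ((maximalIdeal R).Fiber S) (FlatCA.fiberMod (maximalIdeal R) S N)] [Module.Projective R N] : (∀ s ∈ FlatCA.nzdFiber R S N, FlatCA.UnivInj R ((LinearMap.lsmul S N s).restrictScalars R)) ∧ FlatCA.UnivInj R ((LocalizedModule.mkLinearMap (FlatCA.nzdFiber R S N) N).restrictScalars R) := by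
  classical
  haveI : Module.Free R N := Groth.Agent.S0582.result R N
  obtain ⟨e, he⟩ := GrothLib.WeakAssFib.exists_fibreEquiv (maximalIdeal R) (S := S) N
  have hcore : ∀ s ∈ FlatCA.nzdFiber R S N,
      FlatCA.UnivInj R ((LinearMap.lsmul S N s).restrictScalars R) := by
    intro s hs Q _ _
    refine lTensor_injective_of_residue _ ?_ Q
    have h1 : Function.Injective (((LinearMap.lsmul S N s).restrictScalars R).rTensor (maximalIdeal R).ResidueField) := by
      rw [injective_iff_map_eq_zero]
      intro w hw
      have hsm : ∀ y : N ⊗[R] (maximalIdeal R).ResidueField,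
          ((LinearMap.lsmul S N s).restrictScalars R).rTensor _ y = s • y := by
        intro y
        induction y using TensorProduct.induction_on with
        | zero => simp
        | add a b ha hb => rw [map_add, ha, hb, smul_add]
        | tmul n m => rw [LinearMap.rTensor_tmul, TensorProduct.smul_tmul']; rfl
      have hfib : ∀ z : FlatCA.fiberMod (maximalIdeal R) S N,
          s • z = GrothLib.WeakAssFib.toFib (maximalIdeal R) s • z := by
        letI : Algebra S ((maximalIdeal R).Fiber S) := Algebra.TensorProduct.rightAlgebra
        suffices h0 : ∀ z : (maximalIdeal R).Fiber S ⊗[S] N,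
            s • z = GrothLib.WeakAssFib.toFib (maximalIdeal R) s • z from h0
        intro z
        exact (algebraMap_smul ((maximalIdeal R).Fiber S) s z).symm
      refine e.map_eq_zero_iff.1 (hs _ ?_)
      rw [hfib, ← he, ← hsm, hw, map_zero]
    let ψ : IsLocalRing.ResidueField R ≃ₗ[R] (maximalIdeal R).ResidueField :=
      LinearEquiv.ofBijective ((Algebra.linearMap (R ⧸ maximalIdeal R) (maximalIdeal R).ResidueField).restrictScalars R)
        (Ideal.bijective_algebraMap_quotient_residueField (maximalIdeal R))
    refine (LinearMap.lTensor_inj_iff_rTensor_inj (IsLocalRing.ResidueField R) _).mpr fun a b hab => ?_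
    refine (LinearEquiv.lTensor N ψ).injective (h1 ?_)
    have hcomm : ∀ y : N ⊗[R] IsLocalRing.ResidueField R,
        ((LinearMap.lsmul S N s).restrictScalars R).rTensor _ (LinearEquiv.lTensor N ψ y) =
          LinearEquiv.lTensor N ψ (((LinearMap.lsmul S N s).restrictScalars R).rTensor _ y) := by
      intro y
      induction y using TensorProduct.induction_on with
      | zero => simp
      | add a b ha hb => simp only [map_add, ha, hb]
      | tmul n m => rfl
    exact (hcomm a).trans ((congrArg (LinearEquiv.lTensor N ψ) hab).trans (hcomm b).symm)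
  refine ⟨hcore, fun Q _ _ => ?_⟩
  let W := FlatCA.nzdFiber R S N
  let fN := LocalizedModule.mkLinearMap W N
  refine (LinearMap.lTensor_inj_iff_rTensor_inj Q _).mpr ?_
  rw [injective_iff_map_eq_zero]
  intro z hz
  obtain ⟨c, hc⟩ := (IsLocalizedModule.eq_zero_iff W
    (TensorProduct.AlgebraTensorModule.rTensor R Q fN)).mp hz
  refine (LinearMap.lTensor_inj_iff_rTensor_inj Q _).mp (hcore c c.2 Q) ?_
  rw [map_zero]
  refine Eq.trans ?_ hc
  clear hz hc
  induction z using TensorProduct.induction_on with
  | zero => simp
  | add p q hp hq => simp only [map_add, smul_add, hp, hq]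
  | tmul n q => rfl

end Groth.Agent.S9011
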