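import Groth.Statements.S9022
import Groth.Agent.Lib.FunFlat8.FreeGenLimit

set_option autoImplicit false
universe u
open FlatMor

namespace Groth.Agent.S9022

open CategoryTheory CategoryTheory.Limits AlgebraicGeometry Opposite in
/-- For f : X → S smooth with geometrically irreducible fibres, F a quasi-coherent O_X-module of finite
presentation and p ≥ 0, the functor H_p on schemes over S (one point on T when F_T is free of rank p
near the generic point of every fibre of X ×_S T → T, empty otherwise; the subfunctor of the final
functor generated by that condition) is limit preserving. -/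
theorem result {X S : Scheme.{u}} (f : X ⟶ S) [Smooth f] [GeometricallyIrreducible f] (F : X.Modules) [Coh.IsQCoh F]
    (hF : CohB1.IsFP F) (p : ℕ) :
    AlgSp.IsLimitPreserving (FlatFun.genPSp S (fun T => FlatFun.FreeAtGenericPts (PicF.XTproj f T) (FGA.ET f F T) p)) := by
  haveI : F.IsQuasicoherent := ‹Coh.IsQCoh F›
  exact GrothLib.FunFlat8.isLimitPreserving_freeGen f F hF p

end Groth.Agent.S9022
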