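import Groth.Statements.S9024
import Groth.Agent.Lib.FunFlat6.FlatDimLimit
-- import your own Groth.Agent.* helpers here

set_option autoImplicit false
universe u
open FlatMor

namespace Groth.Agent.S9024

open CategoryTheory CategoryTheory.Limits AlgebraicGeometry Opposite in
/-- Given a quasi-compact morphism f : X → S that is locally finitely presented, a finitely presented
quasi-coherent O_X-module F, and an integer n ≥ 0, the functor F_n on schemes over S (one point on T
when F_T is flat over T in dimensions ≥ n, in the transcendence-degree form: every point of X ×_S T
where F_T is not flat over T has residue field of transcendence degree less than n over that of its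
image; empty otherwise; the subfunctor of the final functor generated by that condition) is limit
preserving. -/
theorem result {X S : Scheme.{u}} (f : X ⟶ S) [QuasiCompact f] [LocallyOfFinitePresentation f] (F : X.Modules) [Coh.IsQCoh F]
    (hF : CohB1.IsFP F) (n : ℕ) :
    AlgSp.IsLimitPreserving (FlatFun.genPSp S (fun T => FlatFun.DimFibresLT n (PicF.XTproj f T)
        {x | ¬ FlatMod.IsFlatOverAt (PicF.XTproj f T) (FGA.ET f F T) x})) := by
    exact GrothLib.FunFlat6.isLimitPreserving_flatDimGE f F hF n

end Groth.Agent.S9024
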