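import Groth.Statements.S9025
import Groth.Agent.S1219
import Groth.Agent.Lib.ProjPure13.Weil
-- import your own Groth.Agent.* helpers here

set_option autoImplicit false
universe u
open FlatMor

namespace Groth.Agent.S9025

open CategoryTheory CategoryTheory.Limits AlgebraicGeometry Opposite in
/-- For X = Spec B and S = Spec A affine (purity of a morphism is available here only in ring form), let
A → B be a flat ring map of finite presentation such that the structure sheaf of X = Spec B is pure
relative to S = Spec A, and let i : Y → Spec B be a closed immersion (a closed subscheme Y of X).
Then the Weil restriction functor of Y along X → S, the functor on schemes over S with one point on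
T when the base change Y_T → X_T of i is an isomorphism and empty otherwise (the subfunctor of the
final functor generated by that condition), is representable by a scheme Z over S whose structure
morphism Z → S is a closed immersion. If moreover Y → S is locally of finite presentation (hence of
finite presentation) then Z → S is locally of finite presentation. -/
theorem result {A B : Type u} [CommRing A] [CommRing B] [Algebra A B] [Algebra.FinitePresentation A B] [Module.Flat A B]
    (hpure : FlatCA.IsPure A B B) {Y : Scheme.{u}} (i : Y ⟶ Spec (CommRingCat.of B)) [IsClosedImmersion i] :
    ∃ Z : Over (Spec (CommRingCat.of A)), IsClosedImmersion Z.hom ∧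
      Nonempty ((FlatFun.genPSp (Spec (CommRingCat.of A)) (fun T =>
        IsIso (pullback.snd i (pullback.fst (Spec.map (CommRingCat.ofHom (algebraMap A B))) T.hom)))).RepresentableBy Z) ∧
      (LocallyOfFinitePresentation (i ≫ Spec.map (CommRingCat.ofHom (algebraMap A B))) →
        LocallyOfFinitePresentation Z.hom) := by
  haveI : Module.Projective A B := (Groth.Agent.S1219.result (A := A) (B := B) B).2 hpure
  exact GrothLib.ProjPure13.exists_weilRestriction i

end Groth.Agent.S9025
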