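import Groth.Statements.S9028
import Groth.Agent.Lib.RelAssCrit8.Apply

set_option autoImplicit false
universe u
open FlatMor

namespace Groth.Agent.S9028

open CategoryTheory CategoryTheory.Limits AlgebraicGeometry Opposite in
/-- For f : X → S locally of finite type, F a quasi-coherent O_X-module of finite type, an etale
morphism h : X' → X whose image contains every point of the relative assassin of F over S, and n ≥
0, the functors F_n of F and of h^*F agree: for every scheme T over S, if the base change of h^*F on
X' ×_S T is flat over T in dimensions ≥ n then so is the base change F_T on X ×_S T (the other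
implication holds without the hypothesis on the image). -/
theorem result {X X' S : Scheme.{u}} (f : X ⟶ S) [LocallyOfFiniteType f] (F : X.Modules) [Coh.IsQCoh F] (hF : CohB1.IsFT F)
    (h : X' ⟶ X) [Etale h] (hAss : MoreMor.relAss f F ⊆ Set.range h.base) (n : ℕ) (T : Over S)
    (hT : FlatFun.DimFibresLT n (PicF.XTproj (h ≫ f) T)
        {x | ¬ FlatMod.IsFlatOverAt (PicF.XTproj (h ≫ f) T) (FGA.ET (h ≫ f) ((Scheme.Modules.pullback h).obj F) T) x}) :
    FlatFun.DimFibresLT n (PicF.XTproj f T)
        {x | ¬ FlatMod.IsFlatOverAt (PicF.XTproj f T) (FGA.ET f F T) x} := by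
  haveI : F.IsQuasicoherent := ‹Coh.IsQCoh F›
  exact GrothLib.RelAssCrit8.flatDimGE_of_etale_relAss f F hF h hAss n T hT

end Groth.Agent.S9028
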