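import Groth.Statements.S9029
import Groth.Agent.Lib.FunFlat8.FreeGenFlat

set_option autoImplicit false
universe u
open FlatMor

namespace Groth.Agent.S9029

open CategoryTheory CategoryTheory.Limits AlgebraicGeometry Opposite in
/-- Let X → S be a morphism of affine schemes which is smooth of relative dimension d with geometrically
irreducible fibres, and F a quasi-coherent O_X-module of finite presentation. Then the functor F_d
(F_T flat over T in dimensions ≥ d) is the disjoint union, as a sheaf, of the functors H_p for p =
0, …, c for some c ≥ 0: there is c such that for every scheme T over S, the base change F_T on X ×_S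
T is flat over T in dimensions ≥ d (every point where it is not flat over T has residue field of
transcendence degree less than d over that of its image) if and only if every point of T has an open
neighbourhood V in T and an integer p ≤ c such that F_V is free of rank p on a neighbourhood of the
generic point of every fibre of X ×_S V → V. -/
theorem result {X S : Scheme.{u}} [IsAffine X] [IsAffine S] (f : X ⟶ S) (d : ℕ) [SmoothOfRelativeDimension d f]
    [GeometricallyIrreducible f] (F : X.Modules) [Coh.IsQCoh F] (hF : CohB1.IsFP F) :
    ∃ c : ℕ, ∀ T : Over S,
      (FlatFun.DimFibresLT d (PicF.XTproj f T)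
        {x | ¬ FlatMod.IsFlatOverAt (PicF.XTproj f T) (FGA.ET f F T) x}) ↔
      ∀ t : T.left, ∃ (V : T.left.Opens) (p : ℕ), t ∈ V ∧ p ≤ c ∧
        FlatFun.FreeAtGenericPts (PicF.XTproj f (Over.mk (V.ι ≫ T.hom)))
          (FGA.ET f F (Over.mk (V.ι ≫ T.hom))) p := by
  haveI : F.IsQuasicoherent := ‹Coh.IsQCoh F›
  exact GrothLib.FunFlat8.flatDimGE_iff_freeGen f d F hF

end Groth.Agent.S9029
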