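import Groth.Statements.S9032
import Groth.Agent.Lib.FlatSubsetHens1.Point
import Groth.Agent.Lib.AlgSp.EtLocalRing
import Groth.Agent.Lib.QCoh.FT
import Groth.Agent.S1229
-- import your own Groth.Agent.* helpers here

set_option autoImplicit false
universe u
open FlatMor

namespace Groth.Agent.S9032

section

open TensorProduct FlatCA IsLocalRing

attribute [local instance] Algebra.TensorProduct.rightAlgebra

set_option maxHeartbeats 1600000 in
/-- An ideal corepresenting flatness over `V(J)` is finitely generated in the finitely presented case. -/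
theorem fg_of_corepresents {A B : Type u} [CommRing A] [IsLocalRing A] [CommRing B] [Algebra A B]
    (M : Type u) [AddCommGroup M] [Module B M] [Module A M] [IsScalarTower A B M] (J : Ideal B) (I : Ideal A)
    (hI : ∀ (A' : Type u) [CommRing A'] [IsLocalRing A'] [Algebra A A'] [IsLocalHom (algebraMap A A')],
      ((∀ (Q : Ideal (A' ⊗[A] B)) [Q.IsPrime],
        (maximalIdeal A').map (algebraMap A' (A' ⊗[A] B)) ⊔ J.map (algebraMap B (A' ⊗[A] B)) ≤ Q →
          FlatAt A' Q ((A' ⊗[A] B) ⊗[B] M)) ↔ I.map (algebraMap A A') = ⊥))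
    (hB : FlatCA.EssFinitePresentation A B) (hM : Module.FinitePresentation B M) : I.FG := by
  haveI := hM
  by_cases htop : I = ⊤
  · exact htop ▸ ⟨{1}, by simp⟩
  let ι : Type u := {J : Ideal A // J.FG ∧ J ≤ I}
  haveI hntI : Nontrivial (A ⧸ I) := Ideal.Quotient.nontrivial_iff.2 htop
  haveI : IsLocalRing (A ⧸ I) := IsLocalRing.of_surjective' _ Ideal.Quotient.mk_surjective
  haveI : IsLocalHom (algebraMap A (A ⧸ I)) := IsLocalHom.of_surjective _ Ideal.Quotient.mk_surjective
  haveI : ∀ j : ι, Nontrivial (A ⧸ j.1) := fun j =>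
    Ideal.Quotient.nontrivial_iff.2 fun h => htop (top_le_iff.1 (h ▸ j.2.2))
  haveI : ∀ j : ι, IsLocalRing (A ⧸ j.1) := fun j => IsLocalRing.of_surjective' _ Ideal.Quotient.mk_surjective
  haveI : ∀ j : ι, IsLocalHom (algebraMap A (A ⧸ j.1)) := fun j =>
    IsLocalHom.of_surjective _ Ideal.Quotient.mk_surjective
  letI : ∀ j : ι, Algebra (A ⧸ j.1) (A ⧸ I) := fun j => (Ideal.Quotient.factor j.2.2).toAlgebra
  haveI : ∀ j : ι, IsScalarTower A (A ⧸ j.1) (A ⧸ I) := fun j => IsScalarTower.of_algebraMap_eq fun _ => rfl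
  have hm : ∀ (J : Ideal A) [IsLocalRing (A ⧸ J)] [IsLocalHom (algebraMap A (A ⧸ J))] (x : A),
      algebraMap A (A ⧸ J) x ∈ maximalIdeal (A ⧸ J) ↔ x ∈ maximalIdeal A := fun J _ _ x => by
    rw [← Ideal.mem_comap, IsLocalRing.maximalIdeal_comap]
  have hflat := (hI (A ⧸ I)).2 (by rw [Ideal.Quotient.algebraMap_eq, Ideal.map_quotient_self])
  have hm' : maximalIdeal (A ⧸ I) ≤ ⨆ j : ι, (maximalIdeal (A ⧸ j.1)).map (algebraMap (A ⧸ j.1) (A ⧸ I)) := fun x hx => by
    obtain ⟨a, rfl⟩ := Ideal.Quotient.mk_surjective x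
    have hj : (⊥ : Ideal A).FG ∧ (⊥ : Ideal A) ≤ I := ⟨Submodule.fg_bot, bot_le⟩
    refine Ideal.mem_iSup_of_mem (⟨⊥, hj⟩ : ι) ?_
    exact Ideal.mem_map_of_mem _ ((hm (⟨⊥, hj⟩ : ι).1 a).2 ((hm I a).1 hx))
  obtain ⟨j, hj⟩ := Groth.Agent.S1229.exists_stage hB M (fun j : ι => A ⧸ j.1)
    (fun _ _ h => Ideal.Quotient.factor h) (fun i j h => RingHom.ext fun _ => rfl) (A ⧸ I)
    (Groth.Agent.S1229.isDirectedColimitRing_quotient I) (fun j => maximalIdeal (A ⧸ j.1)) (fun i k h => by
      rw [Ideal.map_le_iff_le_comap]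
      intro x hx
      obtain ⟨x, rfl⟩ := Ideal.Quotient.mk_surjective x
      exact (hm k.1 x).2 ((hm i.1 x).1 hx))
    J (maximalIdeal (A ⧸ I)) hm' hflat
  have h2 := (hI (A ⧸ j.1)).1 hj
  rw [Ideal.Quotient.algebraMap_eq, Ideal.map_eq_bot_iff_le_ker, Ideal.mk_ker] at h2
  exact le_antisymm j.2.2 h2 ▸ j.2.1

set_option maxHeartbeats 1600000 in
/-- The ideal attached to a set of points of the closed fibre of a finite type model. -/
theorem exists_ideal_alg {A S : Type u} [CommRing A] [HenselianLocalRing A] [CommRing S] [Algebra A S]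
    [Algebra.FiniteType A S] (N : Type u) [AddCommGroup N] [Module S N] [Module A N] [IsScalarTower A S N]
    [Module.Finite S N] (Ps : Set (PrimeSpectrum S))
    (hPs : ∀ q ∈ Ps, q.asIdeal.comap (algebraMap A S) = maximalIdeal A) :
    ∃ I : Ideal A,
      (∀ (A' : Type u) [CommRing A'] [IsLocalRing A'] [Algebra A A'] [IsLocalHom (algebraMap A A')],
        (∀ q ∈ Ps, ∀ (Q : Ideal (A' ⊗[A] S)) [Q.IsPrime],
          Q.comap (algebraMap S (A' ⊗[A] S)) = q.asIdeal →
          Q.comap (algebraMap A' (A' ⊗[A] S)) = maximalIdeal A' → FlatAt A' Q ((A' ⊗[A] S) ⊗[S] N)) ↔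
        I.map (algebraMap A A') = ⊥) ∧
      (Algebra.FinitePresentation A S → Module.FinitePresentation S N →
        (∃ J : Ideal S, ∀ q : PrimeSpectrum S, q ∈ Ps ↔ J ≤ q.asIdeal) → I.FG) := by
  have key : ∀ q : Ps, ∃ I : Ideal A,
      ∀ (A' : Type u) [CommRing A'] [IsLocalRing A'] [Algebra A A'] [IsLocalHom (algebraMap A A')],
      ((∀ (Q : Ideal (A' ⊗[A] S)) [Q.IsPrime], Q.comap (algebraMap S (A' ⊗[A] S)) = q.1.asIdeal →
        Q.comap (algebraMap A' (A' ⊗[A] S)) = maximalIdeal A' → FlatAt A' Q ((A' ⊗[A] S) ⊗[S] N)) ↔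
        I.map (algebraMap A A') = ⊥) := fun q => by
    haveI : q.1.asIdeal.LiesOver (maximalIdeal A) := ⟨(hPs q.1 q.2).symm⟩
    exact GrothLib.FlatteningHens1.exists_ideal_model N q.1.asIdeal
  choose Iq hIq using key
  have main : ∀ (A' : Type u) [CommRing A'] [IsLocalRing A'] [Algebra A A'] [IsLocalHom (algebraMap A A')],
      (∀ q ∈ Ps, ∀ (Q : Ideal (A' ⊗[A] S)) [Q.IsPrime],
        Q.comap (algebraMap S (A' ⊗[A] S)) = q.asIdeal →
        Q.comap (algebraMap A' (A' ⊗[A] S)) = maximalIdeal A' → FlatAt A' Q ((A' ⊗[A] S) ⊗[S] N)) ↔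
      (⨆ q, Iq q).map (algebraMap A A') = ⊥ := fun A' _ _ _ _ => by
    rw [Ideal.map_iSup, iSup_eq_bot]
    exact ⟨fun H q => (hIq q A').1 (H q.1 q.2), fun H q hq => (hIq ⟨q, hq⟩ A').2 (H ⟨q, hq⟩)⟩
  refine ⟨⨆ q, Iq q, main, fun hS hN ⟨J, hJ⟩ => fg_of_corepresents N J _ (fun A' _ _ _ _ => ?_)
    ⟨S, inferInstance, inferInstance, Algebra.id S, inferInstance, ⊥, hS, IsLocalization.self bot_le⟩ hN⟩
  rw [← main A']
  constructor
  · intro H q hq Q _ hQS hQA
    refine H Q (sup_le (Ideal.map_le_iff_le_comap.2 hQA.ge) (Ideal.map_le_iff_le_comap.2 ?_))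
    rw [hQS]
    exact (hJ q).1 hq
  · intro H Q hQ hle
    haveI := hQ
    refine H ⟨Q.comap (algebraMap S (A' ⊗[A] S)), inferInstance⟩
      ((hJ _).2 (Ideal.map_le_iff_le_comap.1 (le_sup_right.trans hle))) Q rfl ?_
    exact ((maximalIdeal.isMaximal A').eq_of_le (Ideal.IsPrime.comap (K := Q) (algebraMap A' (A' ⊗[A] S))).ne_top
      (Ideal.map_le_iff_le_comap.1 (le_sup_left.trans hle))).symm

end

open CategoryTheory CategoryTheory.Limits AlgebraicGeometry Opposite IsLocalRing GrothLib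

set_option backward.isDefEq.respectTransparency false in
/-- The prime of the closed point of the spectrum of a local ring. -/
theorem primeAt_closedPoint_eq {A : Type u} [CommRing A] [IsLocalRing A]
    [IsLocalRing Γ(Spec (CommRingCat.of A), ⊤)]
    (y : ↑(Spec (CommRingCat.of A))) (hy : y = closedPoint A) :
    WeakAss.primeAt (X := Spec (CommRingCat.of A)) (V := ⊤) y trivial = maximalIdeal _ := by
  have hV := isAffineOpen_top (Spec (CommRingCat.of A))
  obtain ⟨z, hz, he⟩ := GrothLib.AssPts.exists_point hV _ (maximalIdeal.isMaximal _).isPrime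
  have hle : WeakAss.primeAt z hz ≤ WeakAss.primeAt (X := Spec (CommRingCat.of A)) (V := ⊤) y trivial :=
    (GrothLib.AssPts.specializes_iff hV hz trivial).1 (hy ▸ specializes_closedPoint z)
  rw [he] at hle
  exact ((maximalIdeal.isMaximal _).eq_of_le (Ideal.IsPrime.ne_top inferInstance) hle).symm

set_option backward.isDefEq.respectTransparency false in
set_option maxHeartbeats 1600000 in
/-- The ideal of a set of points of the closed fibre inside an affine chart. -/
theorem exists_ideal_chart {A : Type u} [CommRing A] [HenselianLocalRing A] {X : Scheme.{u}}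
    (f : X ⟶ Spec (CommRingCat.of A)) [LocallyOfFiniteType f] (F : X.Modules) [Coh.IsQCoh F] (hF : CohB1.IsFT F)
    [HenselianLocalRing Γ(Spec (CommRingCat.of A), ⊤)]
    {U : X.Opens} (hU : IsAffineOpen U) (E : Set X) (hEU : E ⊆ U) (hE : ∀ x ∈ E, f.base x = closedPoint A) :
    ∃ I : Ideal Γ(Spec (CommRingCat.of A), ⊤),
      (∀ (T : Scheme.{u}) (g : T ⟶ Spec (CommRingCat.of A)) (t : T), g.base t = closedPoint A →
        ((∀ x' : ↑(pullback f g), (pullback.snd f g).base x' = t → (pullback.fst f g).base x' ∈ E →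
            FlatMod.IsFlatOverAt (pullback.snd f g) ((Scheme.Modules.pullback (pullback.fst f g)).obj F) x') ↔
          ∀ r ∈ I, (T.presheaf.germ ⊤ t trivial).hom (g.appTop.hom r) = 0)) ∧
      (LocallyOfFinitePresentation f → CohB1.IsFP F → (∃ C : Set X, IsClosed C ∧ E = C ∩ (U : Set X)) → I.FG) := by
  have hV₀ := isAffineOpen_top (Spec (CommRingCat.of A))
  have eU : U ≤ f ⁻¹ᵁ ⊤ := le_top
  letI : Algebra Γ(Spec (CommRingCat.of A), ⊤) Γ(X, U) := (f.appLE ⊤ U eU).hom.toAlgebra
  haveI : Algebra.FiniteType Γ(Spec (CommRingCat.of A), ⊤) Γ(X, U) :=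
    HasRingHomProperty.appLE @LocallyOfFiniteType f ‹_› ⟨⊤, hV₀⟩ ⟨U, hU⟩ eU
  letI : Module Γ(Spec (CommRingCat.of A), ⊤) Γ(F, U) := Module.compHom _ (f.appLE ⊤ U eU).hom
  haveI : IsScalarTower Γ(Spec (CommRingCat.of A), ⊤) Γ(X, U) Γ(F, U) :=
    IsScalarTower.of_algebraMap_smul fun _ _ => rfl
  haveI : Module.Finite Γ(X, U) Γ(F, U) := GrothLib.QCoh.moduleFinite_of_isFiniteType F hF hU
  let Ps : Set (PrimeSpectrum Γ(X, U)) := {q | ∃ (x : X) (hx : x ∈ U), x ∈ E ∧ WeakAss.primeAt x hx = q.asIdeal}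
  obtain ⟨I, hI, hfg⟩ := exists_ideal_alg (A := Γ(Spec (CommRingCat.of A), ⊤)) Γ(F, U) Ps (fun q hq => by
    obtain ⟨x, hx, hxE, hq⟩ := hq
    rw [← hq]
    exact (GrothLib.AssPts.comap_primeAt f eU hx).trans (primeAt_closedPoint_eq _ (hE x hxE)))
  refine ⟨I, fun T g t ht => ?_, fun hf hFP ⟨C, hcl, hC⟩ => ?_⟩
  · letI : Algebra Γ(Spec (CommRingCat.of A), ⊤) (T.presheaf.stalk t) :=
      ((T.presheaf.germ (g ⁻¹ᵁ ⊤) t trivial).hom.comp (g.app ⊤).hom).toAlgebra
    haveI : IsLocalHom (algebraMap Γ(Spec (CommRingCat.of A), ⊤) (T.presheaf.stalk t)) := by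
      refine ⟨fun r hr => by_contra fun hn => ?_⟩
      have h1 : r ∈ WeakAss.primeAt (V := ⊤) (g t) trivial :=
        (primeAt_closedPoint_eq _ ht).symm ▸ (hn : r ∈ nonunits _)
      rw [← GrothLib.AssPts.comap_primeAt g (V := ⊤) (W := g ⁻¹ᵁ ⊤) le_rfl (x := t) trivial] at h1
      rw [Ideal.mem_comap, ← Scheme.Hom.app_eq_appLE] at h1
      exact h1 hr
    refine Iff.trans ?_ (((hI (T.presheaf.stalk t)).trans (Ideal.map_eq_bot_iff_le_ker _)).trans ⟨fun h r hr => h hr, fun h r hr => h r hr⟩)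
    constructor
    · intro H q hq Q _ hQS hQA
      obtain ⟨x, hx, hxE, hq⟩ := hq
      exact (GrothLib.FlatSubsetHens1.point_iff f F hV₀ hU eU hx g t trivial).1
        (fun x' h1 h2 => H x' h1 (h2 ▸ hxE)) Q (hQS.trans hq.symm) hQA
    · intro H x' h1 h2
      refine (GrothLib.FlatSubsetHens1.point_iff f F hV₀ hU eU (hEU h2) g t trivial).2
        (fun Q _ hQS hQA => H ⟨WeakAss.primeAt _ (hEU h2), inferInstance⟩ ⟨_, hEU h2, h2, rfl⟩ Q hQS hQA) x' h1 rfl
  · haveI := hf
    haveI : Algebra.FinitePresentation Γ(Spec (CommRingCat.of A), ⊤) Γ(X, U) :=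
      HasRingHomProperty.appLE @LocallyOfFinitePresentation f ‹_› ⟨⊤, hV₀⟩ ⟨U, hU⟩ eU
    obtain ⟨s, hs⟩ := (PrimeSpectrum.isClosed_iff_zeroLocus _).1 (hcl.preimage hU.fromSpec.continuous)
    refine hfg inferInstance (GrothLib.FlatFP.finitePresentation_sections F hFP hU) ⟨Ideal.span s, fun q => ?_⟩
    rw [Ideal.span_le]
    have hE' : ∀ {x}, x ∈ E → x ∈ C := fun h => (hC ▸ h : _ ∈ C ∩ (U : Set X)).1
    constructor
    · rintro ⟨x, hx, hxE, hq⟩
      have h1 : hU.fromSpec q = x := GrothLib.AssPts.primeAt_injective hU (by rw [← SetLike.mem_coe, ← hU.range_fromSpec]; exact ⟨q, rfl⟩) hx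
        ((GrothLib.WeakAss.primeAt_fromSpec hU q _).trans hq.symm)
      have h2 : q ∈ hU.fromSpec ⁻¹' C := by rw [Set.mem_preimage, h1]; exact hE' hxE
      rw [hs] at h2
      exact h2
    · intro hq
      have h2 : q ∈ hU.fromSpec ⁻¹' C := by rw [hs]; exact hq
      have hq' : hU.fromSpec q ∈ U := by rw [← SetLike.mem_coe, ← hU.range_fromSpec]; exact ⟨q, rfl⟩
      exact ⟨_, hq', hC ▸ ⟨h2, hq'⟩, GrothLib.WeakAss.primeAt_fromSpec hU q _⟩

set_option backward.isDefEq.respectTransparency false in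
/-- Flatness along a union is corepresented by the sum of the ideals. -/
theorem exists_ideal_union {A : Type u} [CommRing A] {X : Scheme.{u}} (f : X ⟶ Spec (CommRingCat.of A))
    (F : X.Modules) {ι : Type u} (E : ι → Set X) (I : ι → Ideal Γ(Spec (CommRingCat.of A), ⊤))
    (T : Scheme.{u}) (g : T ⟶ Spec (CommRingCat.of A)) (t : T)
    (hI : ∀ i, (∀ x' : ↑(pullback f g), (pullback.snd f g).base x' = t → (pullback.fst f g).base x' ∈ E i →
          FlatMod.IsFlatOverAt (pullback.snd f g) ((Scheme.Modules.pullback (pullback.fst f g)).obj F) x') ↔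
        ∀ r ∈ I i, (T.presheaf.germ ⊤ t trivial).hom (g.appTop.hom r) = 0) :
    (∀ x' : ↑(pullback f g), (pullback.snd f g).base x' = t → (pullback.fst f g).base x' ∈ ⋃ i, E i →
        FlatMod.IsFlatOverAt (pullback.snd f g) ((Scheme.Modules.pullback (pullback.fst f g)).obj F) x') ↔
      ∀ a ∈ (⨆ i, I i).comap (Scheme.ΓSpecIso (CommRingCat.of A)).inv.hom,
        (T.presheaf.germ ⊤ t trivial).hom
          (g.appTop.hom ((Scheme.ΓSpecIso (CommRingCat.of A)).inv.hom a)) = 0 := by
  let φ := (T.presheaf.germ ⊤ t trivial).hom.comp g.appTop.hom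
  constructor
  · intro H a ha
    have hle : (⨆ i, I i) ≤ RingHom.ker φ := iSup_le fun i r hr =>
      (hI i).1 (fun x' h1 h2 => H x' h1 (Set.mem_iUnion_of_mem i h2)) r hr
    exact hle ha
  · intro H x' h1 h2
    obtain ⟨i, hi⟩ := Set.mem_iUnion.1 h2
    refine (hI i).2 (fun r hr => ?_) x' h1 hi
    obtain ⟨a, rfl⟩ : ∃ a, (Scheme.ΓSpecIso (CommRingCat.of A)).inv.hom a = r :=
      ⟨(Scheme.ΓSpecIso (CommRingCat.of A)).hom.hom r, by simp⟩
    exact H a (Ideal.mem_iSup_of_mem i hr)

open CategoryTheory CategoryTheory.Limits AlgebraicGeometry Opposite in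
/-- Let A be a henselian local ring, s the closed point of S = Spec A, f : X → S a morphism locally of
finite type, F a quasi-coherent O_X-module of finite type and E a subset of the closed fibre X_s.
Then there is a closed subscheme Z = V(I) of S with the following property: for every morphism of
pointed schemes (T, t) → (S, s), the base change F_T on X_T = X ×_S T is T-flat at each point over t
whose image in X lies in E if and only if Spec(O_{T,t}) → S factors through Z, that is, the map A →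
O_{T,t} sends I to zero. Assume in addition that the morphism f is locally finitely presented, that
the module F is finitely presented, and that the subset E is both quasi-compact and closed; in that
case the closed immersion Z → S is finitely presented, meaning the ideal I is finitely generated. -/
theorem result {A : Type u} [CommRing A] [HenselianLocalRing A] {X : Scheme.{u}} (f : X ⟶ Spec (CommRingCat.of A))
    [LocallyOfFiniteType f] (F : X.Modules) [Coh.IsQCoh F] (hF : CohB1.IsFT F)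
    (E : Set X) (hE : ∀ x ∈ E, f.base x = IsLocalRing.closedPoint A) :
    ∃ I : Ideal A,
      (∀ (T : Scheme.{u}) (g : T ⟶ Spec (CommRingCat.of A)) (t : T), g.base t = IsLocalRing.closedPoint A →
        ((∀ x' : ↑(pullback f g), (pullback.snd f g).base x' = t → (pullback.fst f g).base x' ∈ E →
            FlatMod.IsFlatOverAt (pullback.snd f g) ((Scheme.Modules.pullback (pullback.fst f g)).obj F) x') ↔
          ∀ a ∈ I, (T.presheaf.germ ⊤ t trivial).hom
            (g.appTop.hom ((Scheme.ΓSpecIso (CommRingCat.of A)).inv.hom a)) = 0)) ∧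
      (LocallyOfFinitePresentation f → CohB1.IsFP F → IsClosed E → IsCompact E → I.FG) := by
  haveI : HenselianLocalRing Γ(Spec (CommRingCat.of A), ⊤) :=
    GrothLib.AlgSp.henselianLocalRing_ringEquiv (Scheme.ΓSpecIso (CommRingCat.of A)).commRingCatIsoToRingEquiv
  by_cases hfin : LocallyOfFinitePresentation f ∧ CohB1.IsFP F ∧ IsClosed E ∧ IsCompact E
  · obtain ⟨hf, hFP, hcl, hcpt⟩ := hfin
    obtain ⟨s, hs⟩ := hcpt.elim_finite_subcover (fun U : X.affineOpens => (U.1 : Set X)) (fun U => U.1.isOpen)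
      (fun x _ => Set.mem_iUnion.2 (by
        obtain ⟨U, hU, hxU, -⟩ := exists_isAffineOpen_mem_and_subset (U := ⊤) (x := x) trivial
        exact ⟨⟨U, hU⟩, hxU⟩))
    have key : ∀ U : s, _ := fun U => exists_ideal_chart f F hF U.1.2 (E ∩ U.1.1) Set.inter_subset_right
      (fun x hx => hE x hx.1)
    choose I hI hfg using key
    haveI := hf
    refine ⟨(⨆ i, I i).comap (Scheme.ΓSpecIso (CommRingCat.of A)).inv.hom, fun T g t ht => ?_, fun _ _ _ _ => ?_⟩
    · have h := exists_ideal_union f F (fun U : s => E ∩ (U.1.1 : Set X)) I T g t (fun i => hI i T g t ht)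
      rw [show (⋃ U : s, E ∩ (U.1.1 : Set X)) = E from Set.Subset.antisymm
        (Set.iUnion_subset fun U => Set.inter_subset_left) (fun x hx => by
          obtain ⟨U, hU, hxU⟩ := Set.mem_iUnion₂.1 (hs hx)
          exact Set.mem_iUnion.2 ⟨⟨U, hU⟩, hx, hxU⟩)] at h
      exact h
    · let e := (Scheme.ΓSpecIso (CommRingCat.of A)).commRingCatIsoToRingEquiv.symm
      show ((⨆ U, I U).comap e.toRingHom).FG
      rw [show (⨆ U, I U).comap e.toRingHom = (⨆ U, I U).map e.symm.toRingHom from (Ideal.map_symm e).symm]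
      exact Ideal.FG.map (Submodule.fg_iSup I fun U => hfg U hf hFP ⟨E, hcl, rfl⟩) e.symm.toRingHom
  · choose U hU hxU hsub using fun x : E => exists_isAffineOpen_mem_and_subset (U := ⊤) (x := (x : X)) trivial
    have key : ∀ x : E, _ := fun x => exists_ideal_chart f F hF (hU x) {(x : X)}
      (Set.singleton_subset_iff.2 (hxU x)) (fun y hy => by rw [Set.mem_singleton_iff.1 hy]; exact hE x x.2)
    choose I hI hfg using key
    refine ⟨(⨆ i, I i).comap (Scheme.ΓSpecIso (CommRingCat.of A)).inv.hom, fun T g t ht => ?_, fun h1 h2 h3 h4 => absurd ⟨h1, h2, h3, h4⟩ hfin⟩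
    have h := exists_ideal_union f F (fun x : E => {(x : X)}) I T g t (fun i => hI i T g t ht)
    rw [Set.iUnion_coe_set, Set.biUnion_of_singleton] at h
    exact h

end Groth.Agent.S9032
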