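import Groth.Statements.S9036
import Groth.Agent.Lib.DerCat.CompactBounded
import Groth.Agent.Lib.QCCoprod25.Mod
import Groth.Agent.Lib.ModSupp25.Null
import Groth.Agent.Lib.SheafCoh.ModGroth

set_option autoImplicit false
universe u
open CategoryTheory CategoryTheory.Limits Opposite
open ModSite

namespace Groth.Agent.S9036

/-- Let (C, O) be a ringed site in which every object has a covering by quasi-compact objects (an object
U is called quasi-compact here when the sheaf h_U^# is a quasi-compact object of the topos, which is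
equivalent to the site-level definition). Then every compact object of D(O) is a retract in D(O) of
the image of a bounded complex whose terms are finite direct sums of modules of the form j_{U!} O_U
with U quasi-compact. The derived category of O-modules, direct sums in it and finite biproducts of
O-modules (automatic) are instance hypotheses. -/
theorem result
    {C : Type u} [SmallCategory C] {J : GrothendieckTopology C} (O : Sheaf J CommRingCat.{u})
    [HasFiniteBiproducts (ModSite.Mod O)]
    [HasDerivedCategory.{u} (ModSite.Mod O)] [HasCoproducts.{u} (DerivedCategory (ModSite.Mod O))]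
    (hC : ∀ V : C, ∃ R ∈ J V, ∀ ⦃W : C⦄ (g : W ⟶ V), R g →
      ∃ (U : C) (a : W ⟶ U) (b : U ⟶ V), CohCx.IsQcObject ((presheafToSheaf J (Type u)).obj (yoneda.obj U)) ∧ a ≫ b = g)
    (K : DerivedCategory (ModSite.Mod O)) (hK : CohDer.IsCompactObject K) :
    ∃ (L : CochainComplex (ModSite.Mod O) ℤ) (a b : ℤ),
      (∀ i : ℤ, i < a ∨ b < i → IsZero (L.X i)) ∧
      (∀ i : ℤ, ∃ (n : ℕ) (U : Fin n → C),
        (∀ j, CohCx.IsQcObject ((presheafToSheaf J (Type u)).obj (yoneda.obj (U j)))) ∧
        Nonempty (L.X i ≅ ⨁ fun j => ModSite.freeOn O (U j))) ∧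
      Nonempty (Retract K (DerivedCategory.Q.obj L)) := by
  haveI := GrothLib.SheafCoh.isGrothendieckAbelian_sheafOfModules (R := ModSite.ringSh O)
  let S : Set (ModSite.Mod O) := {E | ∃ U : C,
    CohCx.IsQcObject ((presheafToSheaf J (Type u)).obj (yoneda.obj U)) ∧ E = ModSite.freeOn O U}
  have h1 : ∀ X : ModSite.Mod O, ∃ (ι : Type u) (E : ι → ModSite.Mod O) (π : ∐ E ⟶ X),
      (∀ i, E i ∈ S) ∧ Epi π := fun X => by
    let ι : Type u := Σ U : {U : C // CohCx.IsQcObject ((presheafToSheaf J (Type u)).obj (yoneda.obj U))},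
      X.val.obj (op U.1)
    refine ⟨ι, fun i => ModSite.freeOn O i.1.1,
      Sigma.desc fun i => (GrothLib.ModFlat.freeOnEquiv O i.1.1 X).symm i.2,
      fun i => ⟨i.1.1, i.1.2, rfl⟩, Preadditive.epi_of_cancel_zero _ fun {Y} g hg => ?_⟩
    apply (GrothLib.ModSupp25.tS O).map_injective
    rw [Functor.map_zero]
    ext V x
    change GrothLib.ModSupp25.app O g V.unop x = 0
    obtain ⟨R, hR, hf⟩ := hC V.unop
    refine GrothLib.ModSupp25.eq_zero_of_cover O _ _ R hR fun W e he => ?_
    obtain ⟨U, a, b, hU, rfl⟩ := hf e he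
    have h0 : GrothLib.ModSupp25.app O g U (GrothLib.ModSupp25.res O X b x) = 0 := by
      let s : X.val.obj (op U) := GrothLib.ModSupp25.res O X b x
      have h := congrArg (fun k => Sigma.ι (fun i : ι => ModSite.freeOn O i.1.1) ⟨⟨U, hU⟩, s⟩ ≫ k) hg
      simp only [Sigma.ι_desc_assoc, comp_zero] at h
      have h' := congrArg (GrothLib.ModFlat.freeOnEquiv O U Y) h
      rw [GrothLib.ModFlat.freeOnEquiv_comp, Equiv.apply_symm_apply] at h'
      exact h'.trans (map_zero ((GrothLib.QCCoprod25.freeOnSecIso O U).hom.app Y).hom)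
    rw [← GrothLib.ModSupp25.res_res O _ b a, GrothLib.ModSupp25.res_app O g b x, h0]
    exact map_zero _
  have h2 : ∀ E ∈ S, ∀ ι : Type u, PreservesColimitsOfShape (Discrete ι) (preadditiveCoyoneda.obj (op E)) := by
    rintro E ⟨U, hU, rfl⟩ ι
    exact GrothLib.QCCoprod25.preservesColimitsOfShape_coyoneda O hU ι
  obtain ⟨L, a, b, hab, hL, hr⟩ := GrothLib.DerCat.exists_retract_finSums
    (fun ι X _ => (hK ι X).surjective) S h1 h2
  refine ⟨L, a, b, hab, fun i => ?_, hr⟩
  obtain ⟨n, E, hE, ⟨e⟩⟩ := hL i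
  choose U hU hEU using hE
  obtain rfl : E = fun j => ModSite.freeOn O (U j) := funext hEU
  exact ⟨n, U, hU, ⟨e⟩⟩

end Groth.Agent.S9036
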