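import Groth.Statements.S9037
import Groth.Agent.Lib.CompactSingle25.Basic
import Groth.Agent.Lib.QCCoprod25.Mod
import Groth.Agent.Lib.SheafCoh.WeaklyContractible
-- import your own Groth.Agent.* helpers here

set_option autoImplicit false
universe u
open CategoryTheory CategoryTheory.Limits Opposite
open ModSite

namespace Groth.Agent.S9037

/-- On a ringed site (C, O), if U is a quasi-compact object (h_U^# is a quasi-compact object of the
topos, which is equivalent to the site-level notion) which is weakly contractible, then j_{U!} O_U,
placed in degree zero, is a compact object of the derived category D(O). The derived category of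
O-modules and direct sums in it are instance hypotheses. -/
theorem result
    {C : Type u} [SmallCategory C] {J : GrothendieckTopology C} (O : Sheaf J CommRingCat.{u})
    [HasDerivedCategory.{u} (ModSite.Mod O)] [HasCoproducts.{u} (DerivedCategory (ModSite.Mod O))]
    (U : C) (hqc : CohCx.IsQcObject ((presheafToSheaf J (Type u)).obj (yoneda.obj U)))
    (hwc : CohSite.IsWeaklyContractible J U) :
    CohDer.IsCompactObject ((DerivedCategory.singleFunctor (ModSite.Mod O) 0).obj (ModSite.freeOn O U)) := by
  haveI := GrothLib.SheafCoh.isGrothendieckAbelian_sheafOfModules (R := ModSite.ringSh O)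
  haveI : HasCoproducts.{u} (ModSite.Mod O) := fun _ => inferInstance
  haveI : HasFiniteBiproducts (ModSite.Mod O) := HasFiniteBiproducts.of_hasFiniteProducts
  haveI : AB4OfSize.{u} (ModSite.Mod O) := AB4.of_AB5 _
  haveI := GrothLib.SheafCoh.preservesColimitsOfSize_toSheaf.{u} (ModSite.ringSh O)
  haveI : ∀ ι : Type u, PreservesColimitsOfShape (Discrete ι) (preadditiveCoyoneda.obj (op (ModSite.freeOn O U))) :=
    GrothLib.QCCoprod25.preservesColimitsOfShape_coyoneda O hqc
  haveI : Projective (ModSite.freeOn O U) := ⟨fun {E X} f e he => by
    obtain ⟨t, ht⟩ := GrothLib.SheafCoh.sections_surjective_of_weaklyContractible hwc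
      ((SheafOfModules.toSheaf (ModSite.ringSh O)).map e) (GrothLib.ModFlat.freeOnEquiv O U X f)
    refine ⟨(GrothLib.ModFlat.freeOnEquiv O U E).symm t, (GrothLib.ModFlat.freeOnEquiv O U X).injective ?_⟩
    rw [GrothLib.ModFlat.freeOnEquiv_comp, Equiv.apply_symm_apply]
    exact ht⟩
  exact GrothLib.CompactSingle25.isCompactObject_single _

end Groth.Agent.S9037
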