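import Groth.Statements.S9041
import Groth.Agent.Lib.LocFac25.Basic
import Groth.Agent.Lib.PullLoc25.ExactFlat
-- import your own Groth.Agent.* helpers here

set_option autoImplicit false
universe u
open CategoryTheory CategoryTheory.Limits Opposite
open ModSite

namespace Groth.Agent.S9041
theorem exists_proj' {C : Type u} [SmallCategory C] {J : GrothendieckTopology C} (O : Sheaf J CommRingCat.{u})
    (I : Type u) [Fintype I] :
    ∃ pr : I → (SheafOfModules.free (R := ModSite.ringSh O) I ⟶ SheafOfModules.unit _),
      ∑ j, pr j ≫ SheafOfModules.ιFree j = 𝟙 _ := by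
  classical
  refine ⟨fun j => Cofan.IsColimit.desc (SheafOfModules.isColimitFreeCofan I)
    (fun i => if i = j then 𝟙 _ else 0), ?_⟩
  refine Cofan.IsColimit.hom_ext (SheafOfModules.isColimitFreeCofan I) _ _ fun i => ?_
  refine (Preadditive.comp_sum ..).trans ?_
  refine Eq.trans ?_ (Category.comp_id _).symm
  refine (Finset.sum_eq_single i (fun j _ hj => ?_) (fun h => absurd (Finset.mem_univ i) h)).trans ?_
  · refine (Cofan.IsColimit.fac_assoc _ _ _ _).trans ?_
    rw [if_neg (Ne.symm hj), zero_comp]
  · refine (Cofan.IsColimit.fac_assoc _ _ _ _).trans ?_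
    rw [if_pos rfl]
    exact Category.id_comp _


/-- On a ringed site (C, O), let E be a direct summand of a finite free O-module, p : G → F a surjection
of O-modules and φ : E → F a morphism. Then locally φ lifts through p: every object V has a covering
sieve such that over each of its arrows W → V there is a morphism E|_W → G|_W whose composite with
p|_W is φ|_W. (The published statement is phrased for modules over the localisation (C/U, O_U) at an
object U and a covering of U; a localised ringed site is again a ringed site, and this row states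
the conclusion at every object of an arbitrary ringed site.) -/
theorem result
    {C : Type u} [SmallCategory C] {J : GrothendieckTopology C} (O : Sheaf J CommRingCat.{u})
    (E F G : ModSite.Mod O) (hE : DCoh.IsFinFreeSummandMod (ModSite.ringSh O) E)
    (p : G ⟶ F) [Epi p] (φ : E ⟶ F) (V : C) :
    ∃ R ∈ J V, ∀ ⦃W : C⦄ (g : W ⟶ V), R g →
      ∃ l : (ModSite.restr O W).obj E ⟶ (ModSite.restr O W).obj G,
        l ≫ (ModSite.restr O W).map p = (ModSite.restr O W).map φ := by
  classical
  obtain ⟨n, i, q, hiq⟩ := hE
  obtain ⟨pr, hpr⟩ := exists_proj' O (ULift.{u} (Fin n))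
  let ψ := fun j : Fin n => SheafOfModules.ιFree (ULift.up j) ≫ q ≫ φ
  let t : Fin n → ModSite.sect F V := fun j => (F.unitHomEquiv (ψ j)).val (op V)
  obtain ⟨R, hR, hR'⟩ := GrothLib.PullLoc25.exists_lifts p n t
  refine ⟨R, hR, fun W g hg => ?_⟩
  haveI : (ModSite.restr O W).Additive := ⟨fun {X Y f g} => rfl⟩
  obtain ⟨x, hx⟩ := hR' g hg
  choose α hα using fun j : ULift.{u} (Fin n) =>
    GrothLib.LocFac25.ev_surjective (M := (ModSite.restr O W).obj G) (x j.down)
  have key : ∀ j, α j ≫ (ModSite.restr O W).map p = (ModSite.restr O W).map (ψ j.down) := by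
    intro j
    refine GrothLib.LocFac25.ev_injective ?_
    refine Eq.trans (congrArg (p.val.app (op W)) (hα j)) ?_
    refine (hx j.down).trans ?_
    exact (F.unitHomEquiv (ψ j.down)).property g.op
  refine ⟨(ModSite.restr O W).map i ≫ ∑ j, (ModSite.restr O W).map (pr j) ≫ α j, ?_⟩
  refine (Category.assoc _ _ _).trans ?_
  refine (congrArg (fun z => (ModSite.restr O W).map i ≫ z) (Preadditive.sum_comp _ _ _)).trans ?_
  have h2 : ∀ j, ((ModSite.restr O W).map (pr j) ≫ α j) ≫ (ModSite.restr O W).map p =
      (ModSite.restr O W).map ((pr j ≫ SheafOfModules.ιFree j) ≫ q ≫ φ) := fun j => by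
    refine (Category.assoc _ _ _).trans ?_
    refine (congrArg (fun z => (ModSite.restr O W).map (pr j) ≫ z) (key j)).trans ?_
    refine ((ModSite.restr O W).map_comp _ _).symm.trans ?_
    exact congrArg _ (Category.assoc _ _ _).symm
  refine (congrArg (fun z => (ModSite.restr O W).map i ≫ z) (Finset.sum_congr rfl fun j _ => h2 j)).trans ?_
  refine (congrArg (fun z => (ModSite.restr O W).map i ≫ z) ((ModSite.restr O W).map_sum _ _).symm).trans ?_
  refine ((ModSite.restr O W).map_comp _ _).symm.trans (congrArg _ ?_)
  refine (congrArg (fun z => i ≫ z) (Preadditive.sum_comp _ _ _).symm).trans ?_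
  refine (congrArg (fun z => i ≫ z ≫ q ≫ φ) hpr).trans ?_
  refine (congrArg (fun z => i ≫ z) (Category.id_comp _)).trans ?_
  exact (Category.assoc i q φ).symm.trans ((congrArg (fun z => z ≫ φ) hiq).trans (Category.id_comp φ))

end Groth.Agent.S9041
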