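import Groth.Statements.S9042
import Groth.Agent.Lib.SiteDer.ModGen
import Groth.Agent.Lib.SiteDer.RlimTower

set_option autoImplicit false
universe u
open CategoryTheory CategoryTheory.Limits Opposite
open ModSite

namespace Groth.Agent.S9042

/-- Let (C, O) be a ringed site, E an object of D(O), B a class of objects such that every object has a
covering by members of B, and p : ℤ → ℤ a function such that H^k(V, H^{m-k}(E)) = 0 for every V in
B, every m and every k > p(m). Then the canonical map from E to the derived limit of its truncations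
τ_{≥ -n} E is an isomorphism, i.e. E is a derived limit of that tower through the canonical maps.
The derived category of O-modules and the product of the truncations are instance hypotheses; H^k(V,
-) of an O-module is the cohomology of its underlying abelian sheaf. -/
theorem result
    {C : Type u} [SmallCategory C] {J : GrothendieckTopology C} (O : Sheaf J CommRingCat.{u})
    [HasDerivedCategory.{u} (ModSite.Mod O)] (E : DerivedCategory (ModSite.Mod O))
    [HasProduct (CohCx.truncTower E)] (B : Set C)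
    (hB : ∀ U : C, ∃ (ι : Type u) (Y : ι → C) (f : ∀ i, Y i ⟶ U), Sieve.ofArrows Y f ∈ J U ∧ ∀ i, Y i ∈ B)
    (p : ℤ → ℤ)
    (h : ∀ V ∈ B, ∀ (m : ℤ) (k : ℕ), p m < k →
      Subsingleton (ModSite.HU O ((DerivedCategory.homologyFunctor (ModSite.Mod O) (m - k)).obj E) k V)) :
    CohCx.IsRlimVia (CohCx.truncTower E) (CohCx.truncTowerMap E) E (CohCx.toTruncTower E) := by
  refine GrothLib.SiteDer.isRlimVia_trunc (GrothLib.SiteDer.isLocGen_freeMod (ModSite.ringSh O)) E B hB
    fun V _ j => ?_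
  obtain ⟨n₁, hn₁⟩ : ∃ n₁ : ℕ, ∀ k : ℤ, k = j ∨ k = j - 1 → ∀ n : ℕ, n₁ ≤ n →
      p (k + 1) < k + n + 2 ∧ 0 ≤ k + n + 2 :=
    ⟨(max (p (j + 1) - j) (p j - j) + 2).toNat + (-j).toNat + 2, fun k hk n hn => by
      rcases hk with rfl | rfl
      · constructor <;> omega
      · rw [show j - 1 + 1 = j by omega]; constructor <;> omega⟩
  refine ⟨n₁, fun T hT => ?_⟩
  choose ι' Y' g' hg' hY' using fun f : (Σ W : C, {f : W ⟶ V // T f}) => hB f.1
  refine ⟨Σ f : (Σ W : C, {f : W ⟶ V // T f}), ι' f, fun i => Y' i.1 i.2,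
    fun i => g' i.1 i.2 ≫ i.1.2.1, fun i => T.downward_closed i.1.2.2 _, ?_, fun i => ?_⟩
  · refine J.transitive hT _ fun W f hf => ?_
    refine J.superset_covering ?_ (hg' ⟨W, f, hf⟩)
    intro Z h hh
    obtain ⟨i, b, rfl⟩ := (Sieve.mem_ofArrows_iff _ _ _).1 hh
    exact (Sieve.mem_ofArrows_iff _ _ _).2 ⟨⟨⟨W, f, hf⟩, i⟩, b, by simp⟩
  · refine GrothLib.SiteDer.goodAt_of_homology j n₁ _ fun n hn => ?_
    obtain ⟨Z, a, c, hZT, hZ, hz, ⟨e⟩⟩ := GrothLib.SiteDer.exists_cone_truncMap E n
    refine ⟨Z, a, c, _, hZT, hZ, fun k q hk hqk ψ => ?_⟩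
    by_cases hq : q = -(n : ℤ) - 2
    · subst hq
      rw [← cancel_mono ((DerivedCategory.singleFunctor _ _).map e.hom), zero_comp]
      obtain ⟨h1, h2⟩ := hn₁ k hk n hn
      obtain ⟨N, hN⟩ : ∃ N : ℕ, (N : ℤ) = k + n + 2 := ⟨(k + n + 2).toNat, by omega⟩
      refine GrothLib.SiteDer.eq_zero_of_subsingleton_HU _ _ k _ N (by omega) ?_ _
      have := h _ (hY' i.1 i.2) (k + 1) N (by omega)
      rwa [show k + 1 - (N : ℤ) = -(n : ℤ) - 1 by omega] at this
    · exact ((DerivedCategory.singleFunctor _ q).map_isZero (hz q hq)).eq_of_tgt _ _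

end Groth.Agent.S9042
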