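import Groth.Statements.S9048
import Groth.Agent.Lib.SheafCoh.ModUnit
-- import your own Groth.Agent.* helpers here

set_option autoImplicit false
universe u
open CategoryTheory CategoryTheory.Limits Opposite
open ModSite

namespace Groth.Agent.S9048

/-- On a ringed site (C, O), for a sheaf of sets K and an O-module F with underlying abelian sheaf F_ab,
the cohomology groups H^p(K, F) computed on Mod(O) — the derived functors of F ↦ Mor(K, F), i.e. the
Ext groups out of the free O-module O[K] on K — agree with H^p(K, F_ab) computed on abelian sheaves.
Stated as the existence of a group isomorphism; the Ext groups of Mod(O) are an instance hypothesis. -/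
theorem result
    {C : Type u} [SmallCategory C] {J : GrothendieckTopology C} (O : Sheaf J CommRingCat.{u})
    [HasExt.{u} (ModSite.Mod O)] (K : Sheaf J (Type u)) (F : ModSite.Mod O) (p : ℕ) :
    Nonempty (Abelian.Ext ((ModSite.sheafify O).obj ((PresheafOfModules.free (ModSite.ringSh O).obj).obj K.obj)) F p ≃+
      CohCx.HK K (ModSite.toAb F) p) := GrothLib.SheafCoh.nonempty_ext_free_addEquiv (ModSite.ringSh O) K F p

end Groth.Agent.S9048
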