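import Groth.Statements.S9050
import Groth.Agent.Lib.ModFlat.TensorSymm
-- import your own Groth.Agent.* helpers here

set_option autoImplicit false
universe u
open CategoryTheory CategoryTheory.Limits Opposite
open ModSite

namespace Groth.Agent.S9050

/-- On a ringed site (C, O), if K is a K-flat complex of O-modules then the functor F ↦ Tot(F ⊗_O K) on
complexes of O-modules transforms quasi-isomorphisms into quasi-isomorphisms. Here a complex K of
O-modules is called K-flat when for every acyclic complex L of O-modules the total complex Tot(L ⊗_O
K) is acyclic; this property enters only as a hypothesis. The instance binders saying that the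
tensor bifunctor preserves zero morphisms always hold and are needed only to form total complexes. -/
theorem result
    {C : Type u} [SmallCategory C] {J : GrothendieckTopology C} (O : Sheaf J CommRingCat.{u})
    [(ModSite.tensorBi O).PreservesZeroMorphisms] [∀ X : ModSite.Mod O, ((ModSite.tensorBi O).obj X).PreservesZeroMorphisms]
    (K : CochainComplex (ModSite.Mod O) ℤ)
    (hK : ∀ L : CochainComplex (ModSite.Mod O) ℤ, L.Acyclic →
      (HomologicalComplex.mapBifunctor L K (ModSite.tensorBi O) (ComplexShape.up ℤ)).Acyclic)
    (F F' : CochainComplex (ModSite.Mod O) ℤ) (φ : F ⟶ F') [QuasiIso φ] :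
    QuasiIso (HomologicalComplex.mapBifunctorMap φ (𝟙 K) (ModSite.tensorBi O) (ComplexShape.up ℤ)) := GrothLib.ModFlat.quasiIso_map_of_isKFlat φ K ((GrothLib.ModFlat.isKFlat_iff K).2 hK)

end Groth.Agent.S9050
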