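import Groth.Statements.S9053
import Groth.Agent.Lib.PerfLoc25.Null
import Mathlib.Algebra.Homology.DerivedCategory.Fractions

set_option autoImplicit false
set_option linter.all false
set_option backward.isDefEq.respectTransparency false
set_option backward.isDefEq.respectTransparency.types false
universe u
open CategoryTheory CategoryTheory.Limits Opposite
open ModSite

namespace Groth.Agent.S9053

/-- On a ringed site (C, O), let E be a strictly perfect complex of O-modules, F a complex of O-modules
and α : E → F a morphism in D(O). Then locally α is represented by a morphism of complexes: every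
object V has a covering sieve such that over each of its arrows W → V the restriction α|_W in
D(O_W), namely the image of α under the derived functor of the exact restriction functor, equals the
class of a morphism of complexes E|_W → F|_W (up to the canonical identifications of the derived
restriction of a complex with the restricted complex). Only this first part is stated; the second
part of the published lemma carries no proof in the text. The derived categories, additivity and
right exactness of restriction are instance hypotheses (always satisfied). (The published statement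
is phrased over the localisation (C/U, O_U) at an object U with a covering of U; this row states it
at every object of an arbitrary ringed site, which covers that case.) -/
theorem result
    {C : Type u} [SmallCategory C] {J : GrothendieckTopology C} (O : Sheaf J CommRingCat.{u})
    [HasDerivedCategory.{u} (ModSite.Mod O)] [∀ W : C, HasDerivedCategory.{u} (ModSite.Mod (O.over W))]
    [∀ W : C, (ModSite.restr O W).Additive] [∀ W : C, PreservesFiniteColimits (ModSite.restr O W)]
    (E F : CochainComplex (ModSite.Mod O) ℤ) (hE : DCoh.IsStrictlyPerfectMod (ModSite.ringSh O) E)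
    (α : DerivedCategory.Q.obj E ⟶ DerivedCategory.Q.obj F) (V : C) :
    ∃ R ∈ J V, ∀ ⦃W : C⦄ (g : W ⟶ V), R g →
      ∃ α' : ((ModSite.restr O W).mapHomologicalComplex (ComplexShape.up ℤ)).obj E ⟶
          ((ModSite.restr O W).mapHomologicalComplex (ComplexShape.up ℤ)).obj F,
        (ModSite.restr O W).mapDerivedCategory.map α =
          (ModSite.restr O W).mapDerivedCategoryFactors.hom.app E ≫ DerivedCategory.Q.map α' ≫
            (ModSite.restr O W).mapDerivedCategoryFactors.inv.app F := by
  obtain ⟨G, s, hs, f, hα⟩ := DerivedCategory.right_fac α
  haveI := hs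
  obtain ⟨⟨a, b, hab⟩, -⟩ := id hE
  haveI hq : ∀ j, IsIso (HomologicalComplex.homologyMap s j) := fun j => by
    have hqs : QuasiIso s := (DerivedCategory.isIso_Q_map_iff_quasiIso (C := ModSite.Mod O) s).1 hs
    exact (quasiIsoAt_iff_isIso_homologyMap s j).1 (hqs.quasiIsoAt j)
  obtain ⟨R, hR, h⟩ := GrothLib.PerfLoc25.exists_local_lift (𝟙 E) s hE a (fun j hj => hab j (Or.inl hj))
    (fun j _ => hq j) inferInstance V
  refine ⟨R, hR, fun W g hg => ?_⟩
  obtain ⟨β, ⟨hβ⟩⟩ := h g hg
  refine ⟨β ≫ ((ModSite.restr O W).mapHomologicalComplex (ComplexShape.up ℤ)).map f, ?_⟩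
  let P := ModSite.restr O W
  let rc := P.mapHomologicalComplex (ComplexShape.up ℤ)
  let τ := P.mapDerivedCategoryFactors
  haveI : IsIso (P.mapDerivedCategory.map (DerivedCategory.Q.map s)) := inferInstance
  have nat : ∀ {K L : CochainComplex (ModSite.Mod O) ℤ} (k : K ⟶ L),
      P.mapDerivedCategory.map (DerivedCategory.Q.map k) =
        τ.hom.app K ≫ DerivedCategory.Q.map (rc.map k) ≫ τ.inv.app L := fun {K L} k => by
    have e := τ.hom.naturality k
    simp only [Functor.comp_map] at e
    rw [← Category.assoc, ← e, Category.assoc, Iso.hom_inv_id_app]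
    exact (Category.comp_id _).symm
  have hb : DerivedCategory.Q.map β ≫ DerivedCategory.Q.map (rc.map s) = 𝟙 _ := by
    rw [← DerivedCategory.Q.map_comp]
    refine ((NatIso.naturality_2 (DerivedCategory.quotientCompQhIso _) (β ≫ rc.map s)).symm.trans
      ((congrArg (fun t => (DerivedCategory.quotientCompQhIso _).inv.app _ ≫ DerivedCategory.Qh.map t ≫
        (DerivedCategory.quotientCompQhIso _).hom.app _) (HomotopyCategory.eq_of_homotopy _ _ hβ)).trans
      (NatIso.naturality_2 (DerivedCategory.quotientCompQhIso _) (rc.map (𝟙 E))))).trans ?_
    exact (congrArg (DerivedCategory.Q.map ·) (rc.map_id E)).trans (DerivedCategory.Q.map_id _)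
  rw [hα, Functor.map_comp, Functor.map_inv]
  refine (cancel_epi (P.mapDerivedCategory.map (DerivedCategory.Q.map s))).1 ?_
  rw [IsIso.hom_inv_id_assoc, nat f, nat s]
  haveI : IsIso (DerivedCategory.Q.map (rc.map s)) := by
    have e := nat s
    have : IsIso (τ.hom.app _ ≫ DerivedCategory.Q.map (rc.map s) ≫ τ.inv.app _) := e ▸ inferInstance
    have : IsIso (DerivedCategory.Q.map (rc.map s) ≫ τ.inv.app _) := IsIso.of_isIso_comp_left (τ.hom.app _) _
    exact IsIso.of_isIso_comp_right _ (τ.inv.app _)
  have hb' : DerivedCategory.Q.map (rc.map s) ≫ DerivedCategory.Q.map β = 𝟙 _ := by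
    rw [← cancel_mono (DerivedCategory.Q.map (rc.map s)), Category.assoc, hb, Category.comp_id, Category.id_comp]
  simp only [Category.assoc, Functor.map_comp]
  erw [Iso.inv_hom_id_app_assoc, reassoc_of% hb']

end Groth.Agent.S9053
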