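import Groth.Statements.S9056
import Groth.Agent.Lib.ModFlat.KFlat
-- import your own Groth.Agent.* helpers here

set_option autoImplicit false
universe u
open CategoryTheory CategoryTheory.Limits Opposite
attribute [local instance] HasDerivedCategory.standard
open ModSite

namespace Groth.Agent.S9056

/-- On a ringed site (C, O), in a distinguished triangle of K(Mod(O)), if two of the three complexes are
K-flat then so is the third. Distinguished triangles are represented here by mapping cones: for a
morphism φ : K₁ → K₂ of complexes of O-modules with mapping cone C(φ), each of the three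
two-out-of-three implications among K₁, K₂, C(φ) holds. -/
theorem result
    {C : Type u} [SmallCategory C] {J : GrothendieckTopology C} (O : Sheaf J CommRingCat.{u})
    {K₁ K₂ : CochainComplex (ModSite.Mod O) ℤ} (φ : K₁ ⟶ K₂) :
    (ModSite.IsKFlat K₁ → ModSite.IsKFlat K₂ → ModSite.IsKFlat (CochainComplex.mappingCone φ)) ∧
    (ModSite.IsKFlat K₁ → ModSite.IsKFlat (CochainComplex.mappingCone φ) → ModSite.IsKFlat K₂) ∧
    (ModSite.IsKFlat K₂ → ModSite.IsKFlat (CochainComplex.mappingCone φ) → ModSite.IsKFlat K₁) := ⟨fun h1 h2 => GrothLib.ModFlat.isKFlat_mappingCone φ h1 h2, GrothLib.ModFlat.isKFlat_cone_two_out_of_three φ⟩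

end Groth.Agent.S9056
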