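import Groth.Statements.S9063
import Groth.Agent.Lib.TorSh20.Basic

set_option autoImplicit false
set_option maxHeartbeats 400000
set_option linter.style.haveILetI false
universe u
open CategoryTheory CategoryTheory.Limits Opposite
attribute [local instance] HasDerivedCategory.standard
open SiteCmp

namespace Groth.Agent.S9063

/-- Let C be a site and A ⊂ Ab(C) the Serre subcategory of torsion abelian sheaves. Then the functor
from D(A) to D_A(C) gives an equivalence: the canonical functor D(A) → D(Ab(C)) induced by the exact
inclusion is fully faithful, and a complex lies in its essential image exactly when every cohomology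
sheaf of it is torsion. That torsion abelian sheaves form a Serre subcategory is carried as an
instance hypothesis. -/
theorem result
    {C : Type u} [SmallCategory C] (J : GrothendieckTopology C)
    [(SiteCmp.torsionSh J).IsSerreClass] :
    (WSerre.toDerived (SiteCmp.torsionSh J)).Full ∧ (WSerre.toDerived (SiteCmp.torsionSh J)).Faithful ∧
      ∀ K : DerivedCategory (Sheaf J AddCommGrpCat.{u}),
        WSerre.cohIn (SiteCmp.torsionSh J) K ↔ (WSerre.toDerived (SiteCmp.torsionSh J)).essImage K := by
  have hT := fun (I : CochainComplex (Sheaf J AddCommGrpCat.{u}) ℤ) (_ : I.IsKInjective)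
      (hI : ∀ i, Injective (I.X i)) (hH : ∀ i, SiteCmp.torsionSh J (I.homology i)) =>
    GrothLib.TorSh20.quasiIso_ε I hI hH
  exact ⟨GrothLib.TorSh20.full_toDerived _ _ (GrothLib.TorSh20.tAdj J) hT,
    GrothLib.TorSh20.faithful_toDerived _ _ (GrothLib.TorSh20.tAdj J) hT,
    fun K => GrothLib.TorSh20.cohIn_iff _ _ (GrothLib.TorSh20.tAdj J) hT K⟩

end Groth.Agent.S9063
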