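import Groth.Statements.S9064
import Groth.Agent.Lib.SiteDer.ModGen
import Groth.Agent.Lib.SiteDer.RlimTower

set_option autoImplicit false
universe u
open CategoryTheory CategoryTheory.Limits Opposite
attribute [local instance] HasDerivedCategory.standard
open ModSite

namespace Groth.Agent.S9064

/-- Let (C, O) be a ringed site, A ⊂ Mod(O) a weak Serre subcategory and B a set of objects such that
every object has a covering by members of B and every V ∈ B has an integer d_V and a cofinal system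
of coverings {V_i → V} with H^p(V_i, F) = 0 for all F ∈ A and p > d_V. Let (K_n) be an inverse
system in D^+_A(O) such that for every j the system (H^j(K_n))_n is eventually constant, with value
H^j say. Then H^j(R lim K_n) = H^j: for a derived limit L of (K_n) through maps a_n : L → K_n, each
H^j(a_n) is an isomorphism for n large. Cofinality is expressed by asking every covering sieve of V
to contain such a covering family; H^p(V, -) of a module is the cohomology of its underlying abelian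
sheaf; the product of the K_n is an instance hypothesis. -/
theorem result
    {C : Type u} [SmallCategory C] {J : GrothendieckTopology C} (O : Sheaf J CommRingCat.{u})
    (A : ObjectProperty (ModSite.Mod O)) [WSerre.IsWeakSerre A] (B : Set C)
    (hB : ∀ U : C, ∃ (ι : Type u) (Y : ι → C) (g : ∀ i, Y i ⟶ U), Sieve.ofArrows Y g ∈ J U ∧ ∀ i, Y i ∈ B)
    (hA : ∀ V ∈ B, ∃ d : ℕ, ∀ T ∈ J V, ∃ (ι : Type u) (Y : ι → C) (g : ∀ i, Y i ⟶ V),
      (∀ i, T.arrows (g i)) ∧ Sieve.ofArrows Y g ∈ J V ∧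
      ∀ (i : ι) (F : ModSite.Mod O), A F → ∀ k : ℕ, d < k → Subsingleton (ModSite.HU O F k (Y i)))
    (K : ℕ → DerivedCategory (ModSite.Mod O)) (t : ∀ n, K (n + 1) ⟶ K n) [HasProduct K]
    (hK : ∀ n, WSerre.cohInPlus A (K n))
    (hconst : ∀ j : ℤ, ∃ n₀ : ℕ, ∀ n, n₀ ≤ n →
      IsIso ((DerivedCategory.homologyFunctor (ModSite.Mod O) j).map (t n)))
    (L : DerivedCategory (ModSite.Mod O)) (a : ∀ n, L ⟶ K n) (hL : CohCx.IsRlimVia K t L a) (j : ℤ) :
    ∃ n₀ : ℕ, ∀ n, n₀ ≤ n → IsIso ((DerivedCategory.homologyFunctor (ModSite.Mod O) j).map (a n)) := by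
  obtain ⟨n₀, hn₀⟩ := hconst j
  refine ⟨n₀, fun n hn => GrothLib.SiteDer.isIso_homology_rlim
    (GrothLib.SiteDer.isLocGen_freeMod (ModSite.ringSh O)) hL j n₀ hn₀ B hB (fun V hV => ?_) n hn⟩
  obtain ⟨d, hd⟩ := hA V hV
  obtain ⟨n₁, hn₁⟩ := GrothLib.SiteDer.exists_cone_window A hK hconst (j - 1 - d) j
  refine ⟨n₁, fun T hT => ?_⟩
  obtain ⟨ι, Y, g, hg, hgT, hsub⟩ := hd T hT
  refine ⟨ι, Y, g, hg, hgT, fun i => GrothLib.SiteDer.goodAt_of_homology j n₁ _ fun m hm => ?_⟩
  obtain ⟨Z, a', c, b, hZT, hZ, hZA, hz⟩ := hn₁ m hm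
  refine ⟨Z, a', c, b, hZT, hZ, fun k q hk hqk ψ => ?_⟩
  have hk' : j - 1 ≤ k ∧ k ≤ j := by rcases hk with rfl | rfl <;> constructor <;> omega
  by_cases hq : j - 1 - d ≤ q
  · exact ((DerivedCategory.singleFunctor _ q).map_isZero (hz q hq (by omega))).eq_of_tgt _ _
  · obtain ⟨N, hN⟩ : ∃ N : ℕ, (N : ℤ) = k - q := ⟨(k - q).toNat, by omega⟩
    exact GrothLib.SiteDer.eq_zero_of_subsingleton_HU _ _ k q N (by omega)
      (hsub i _ (hZA q) N (by omega)) ψ

end Groth.Agent.S9064
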