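import Groth.Statements.S9071
import Groth.Agent.Lib.SiteDer.Eps

set_option autoImplicit false
universe u
open CategoryTheory CategoryTheory.Limits Opposite
attribute [local instance] HasDerivedCategory.standard
open SiteCmp

namespace Groth.Agent.S9071

/-- Let τ' be a coarser topology than τ on a category C, O a τ-sheaf of rings and ε the comparison
morphism from (C_τ, O) to (C_τ', O). Let B be a set of objects and A a full subcategory of
presheaves of O-modules such that (1) every object of A is a τ-sheaf, (2) A forms a weak Serre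
subcategory inside Mod(O_τ), (3) each object of C admits a τ'-covering by members of B, and (4)
H^p_τ(U, F) = 0 for U ∈ B, F ∈ A, p > 0. Then the essential image of A under ε_* forms a weak Serre
subcategory inside Mod(O_τ') and ε^*, Rε_* are quasi-inverse equivalences between D_A(O_τ') and
D_A(O_τ): on objects with cohomology sheaves in the respective subcategory, ε^* and Rε_* preserve
that condition and the unit and counit are isomorphisms. In the order of topologies used here the
finer topology τ is the larger one, J, and τ' is J' ≤ J; A is given as a property of τ-sheaves of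
modules (condition (1) built in); flatness of ε, existence of the unbounded Rε_* and an adjunction
ε^* ⊣ Rε_* are hypotheses. -/
theorem result
    {C : Type u} [SmallCategory C] {J J' : GrothendieckTopology C} (h : J' ≤ J) (O : Sheaf J CommRingCat.{u})
    [PreservesFiniteLimits (SiteCmp.eps h O).pull] [SiteCmp.HasRpushD (SiteCmp.eps h O)]
    (adj : SiteCmp.pullD (SiteCmp.eps h O) ⊣ SiteCmp.RpushD (SiteCmp.eps h O))
    (A : ObjectProperty (ModSite.Mod O)) [WSerre.IsWeakSerre A] (B : Set C)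
    (h3 : ∀ U : C, ∃ (ι : Type u) (Y : ι → C) (g : ∀ i, Y i ⟶ U), Sieve.ofArrows Y g ∈ J' U ∧ ∀ i, Y i ∈ B)
    (h4 : ∀ U ∈ B, ∀ F : ModSite.Mod O, A F → ∀ p : ℕ, 0 < p → Subsingleton (ModSite.HU O F p U)) :
    WSerre.IsWeakSerre (A.map (SiteCmp.eps h O).push) ∧
    (∀ Y : DerivedCategory (ModSite.Mod (SiteCmp.epsRing h O)), WSerre.cohIn (A.map (SiteCmp.eps h O).push) Y →
      WSerre.cohIn A ((SiteCmp.pullD (SiteCmp.eps h O)).obj Y) ∧ IsIso (adj.unit.app Y)) ∧
    (∀ X : DerivedCategory (ModSite.Mod O), WSerre.cohIn A X →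
      WSerre.cohIn (A.map (SiteCmp.eps h O).push) ((SiteCmp.RpushD (SiteCmp.eps h O)).obj X) ∧
      IsIso (adj.counit.app X)) := by
  have hW := GrothLib.SiteDer.isWeakSerre_map h O A B h3 h4
  have := GrothLib.SiteDer.isIso_eps_counit h O
  refine ⟨hW, GrothLib.SiteDer.equivalence_cohIn (SiteCmp.eps h O) adj A (A.map (SiteCmp.eps h O).push)
    (fun F' hF' => ?_) (fun F' G' hF' hG' => ?_) (fun F hF => ?_) (fun F' hF' => ?_) B ?_ ?_ B h3 ?_⟩
  · obtain ⟨F, hF, ⟨e⟩⟩ := (A.prop_map_iff _ F').1 hF'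
    exact A.prop_of_iso ((asIso ((SiteCmp.eps h O).adj.counit.app F)).symm ≪≫
      (SiteCmp.eps h O).pull.mapIso e) hF
  · obtain ⟨G, hG, ⟨e⟩⟩ := (A.prop_map_iff _ G').1 hG'
    have := (GrothLib.SiteDer.epsPushFF h O).full
    have := (GrothLib.SiteDer.epsPushFF h O).faithful
    have iu : IsIso ((SiteCmp.eps h O).adj.unit.app G') :=
      (NatTrans.isIso_app_iff_of_iso (SiteCmp.eps h O).adj.unit e).1 inferInstance
    have e1 : (fun g : F' ⟶ G' => (SiteCmp.eps h O).pull.map g) =
        (fun g => ((SiteCmp.eps h O).adj.homEquiv _ _).symm (g ≫ (SiteCmp.eps h O).adj.unit.app G')) := by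
      funext g
      simp [Adjunction.homEquiv_counit]
    rw [e1]
    exact ((SiteCmp.eps h O).adj.homEquiv _ _).symm.bijective.comp
      (asIso ((SiteCmp.eps h O).adj.unit.app G')).homToEquiv.bijective
  · exact ⟨(SiteCmp.eps h O).push.obj F, A.prop_map_obj _ hF,
      ⟨asIso ((SiteCmp.eps h O).adj.counit.app F)⟩⟩
  · exact GrothLib.SiteDer.eps_unit_inD h O A B h3 h4 adj F' hF'
  · intro U
    obtain ⟨ι, Y, g, hg, hY⟩ := h3 U
    exact ⟨ι, Y, g, h U hg, hY⟩
  · intro V hV
    refine ⟨0, fun T hT => ?_⟩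
    choose ι' Y' g' hg' hY' using fun f : (Σ W : C, {f : W ⟶ V // T f}) => h3 f.1
    refine ⟨Σ f : (Σ W : C, {f : W ⟶ V // T f}), ι' f, fun i => Y' i.1 i.2,
      fun i => g' i.1 i.2 ≫ i.1.2.1, fun i => T.downward_closed i.1.2.2 _, ?_,
      fun i F hF k hk => h4 _ (hY' i.1 i.2) F hF k hk⟩
    refine J.transitive hT _ fun W f hf => ?_
    refine J.superset_covering ?_ (h W (hg' ⟨W, f, hf⟩))
    intro Z z hz
    obtain ⟨i, b, rfl⟩ := (Sieve.mem_ofArrows_iff _ _ _).1 hz
    exact (Sieve.mem_ofArrows_iff _ _ _).2 ⟨⟨⟨W, f, hf⟩, i⟩, b, by simp⟩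
  · intro V hV
    refine ⟨0, fun T hT => ?_⟩
    choose ι' Y' g' hg' hY' using fun f : (Σ W : C, {f : W ⟶ V // T f}) => h3 f.1
    refine ⟨Σ f : (Σ W : C, {f : W ⟶ V // T f}), ι' f, fun i => Y' i.1 i.2,
      fun i => g' i.1 i.2 ≫ i.1.2.1, fun i => T.downward_closed i.1.2.2 _, ?_,
      fun i => GrothLib.SiteDer.vanD_of_upstairs (SiteCmp.eps h O) A 0 _
        (fun F hF k hk => h4 _ (hY' i.1 i.2) F hF k hk)⟩
    refine J'.transitive hT _ fun W f hf => ?_
    refine J'.superset_covering ?_ (hg' ⟨W, f, hf⟩)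
    intro Z z hz
    obtain ⟨i, b, rfl⟩ := (Sieve.mem_ofArrows_iff _ _ _).1 hz
    exact (Sieve.mem_ofArrows_iff _ _ _).2 ⟨⟨⟨W, f, hf⟩, i⟩, b, by simp⟩

end Groth.Agent.S9071
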