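import Groth.Statements.S9072
import Groth.Agent.Lib.KInj.Adjoint
import Groth.Agent.Lib.KInj.SiteMod

set_option autoImplicit false
universe u
open CategoryTheory CategoryTheory.Limits Opposite
attribute [local instance] HasDerivedCategory.standard
open SiteCmp

namespace Groth.Agent.S9072

/-- Let f be a flat morphism from the ringed site (C, O_C) to the ringed site (D, O_D), so that the
derived pullback is f^* applied termwise, and let Rf_* be the total derived direct image on
unbounded derived categories (its existence is an instance hypothesis). Then f^* and Rf_* are
adjoint: there is an adjunction f^* ⊣ Rf_* between D(O_D) and D(O_C). Only the existence of an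
adjunction is asserted; the published statement covers arbitrary morphisms of ringed topoi with
Lf^*. -/
theorem result
    {C : Type u} [SmallCategory C] {J : GrothendieckTopology C} {O_C : Sheaf J CommRingCat.{u}}
    {D : Type u} [SmallCategory D] {K : GrothendieckTopology D} {O_D : Sheaf K CommRingCat.{u}}
    (f : ModSite.RMor O_C O_D) [PreservesFiniteLimits f.pull] [SiteCmp.HasRpushD f] :
    Nonempty (SiteCmp.pullD f ⊣ SiteCmp.RpushD f) := by
  exact GrothLib.KInj.nonempty_mapDerivedCategory_adj_totalRightDerived f.adj

end Groth.Agent.S9072
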