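import Groth.Statements.S9078
import Groth.Agent.Lib.BddRes.Seq
import Groth.Agent.Lib.ModFlat.Resolution
-- import your own Groth.Agent.* helpers here

set_option autoImplicit false
universe u
open CategoryTheory CategoryTheory.Limits Opposite
attribute [local instance] HasDerivedCategory.standard
open ModSite

namespace Groth.Agent.S9078
attribute [local instance] Abelian.hasFiniteBiproducts

/-- sums of the `j_! O_U` -/
def IsSum {C : Type u} [SmallCategory C] {J : GrothendieckTopology C} (O : Sheaf J CommRingCat.{u})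
    (X : ModSite.Mod O) : Prop :=
  ∃ (ι : Type u) (U : ι → C), Nonempty (X ≅ ∐ fun j => ModSite.freeOn O (U j))

theorem isResClass_isSum {C : Type u} [SmallCategory C] {J : GrothendieckTopology C} (O : Sheaf J CommRingCat.{u}) :
    GrothLib.BddRes.IsResClass (A := ModSite.Mod O) (IsSum O) where
  zero X hX := by
    refine ⟨PEmpty, PEmpty.elim, ⟨hX.iso ((IsZero.iff_id_eq_zero _).2 ?_)⟩⟩
    exact Sigma.hom_ext _ _ fun j => j.elim
  biprod := by
    rintro X Y Z ⟨a, U, ⟨e⟩⟩ ⟨b, V, ⟨e'⟩⟩ ⟨i⟩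
    let W := Sum.elim U V
    refine ⟨a ⊕ b, W, ⟨i ≪≫ biprod.mapIso e e' ≪≫
      { hom := biprod.desc (Sigma.desc fun j => Sigma.ι (fun k => ModSite.freeOn O (W k)) (Sum.inl j))
          (Sigma.desc fun j => Sigma.ι (fun k => ModSite.freeOn O (W k)) (Sum.inr j))
        inv := Sigma.desc fun k => match k with
          | Sum.inl j => Sigma.ι (fun k => ModSite.freeOn O (U k)) j ≫ biprod.inl
          | Sum.inr j => Sigma.ι (fun k => ModSite.freeOn O (V k)) j ≫ biprod.inr
        hom_inv_id := by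
          refine biprod.hom_ext' _ _ (Sigma.hom_ext _ _ fun j => ?_) (Sigma.hom_ext _ _ fun j => ?_) <;> simp
          all_goals (erw [Sigma.ι_desc]; rfl)
        inv_hom_id := by
          refine Sigma.hom_ext _ _ fun k => ?_
          cases k <;> simp
          all_goals (erw [Sigma.ι_desc]) }⟩⟩
  cover X := ⟨GrothLib.ModFlat.coverObj X, GrothLib.ModFlat.coverπ X, inferInstance,
    ⟨Σ U : C, X.val.obj (Opposite.op U), fun s => s.1, ⟨Iso.refl _⟩⟩⟩


/-- Let (C, O) be a ringed site and G a complex of O-modules. There is a commutative diagram of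
complexes K_1 → K_2 → … over τ_{≤1}G → τ_{≤2}G → … such that (1) the vertical maps K_n → τ_{≤n}G are
termwise surjective quasi-isomorphisms, (2) every K_n is bounded above with terms direct sums of
modules of the form j_{U!}O_U, (3) each K_n → K_{n+1} is split injective in every degree, with
cokernel in each degree a direct sum of modules j_{U!}O_U; moreover colim K_n → G is a
quasi-isomorphism. Here the system is indexed by n ≥ 0 with K_n mapping to τ_{≤ n+1}G, commutativity
of the diagram is expressed after composing with the inclusions τ_{≤ m}G → G, 'direct sum of modules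
j_{U!}O_U' means isomorphic to a coproduct of such modules, and the map colim K_n → G is the one
induced by the K_n → τ_{≤ n+1}G → G. -/
theorem result
    {C : Type u} [SmallCategory C] {J : GrothendieckTopology C} (O : Sheaf J CommRingCat.{u})
    (G : CochainComplex (ModSite.Mod O) ℤ) :
    ∃ (Kc : ℕ ⥤ CochainComplex (ModSite.Mod O) ℤ) (π : ∀ n : ℕ, Kc.obj n ⟶ G.truncLE ((n : ℤ) + 1)),
      (∀ n : ℕ, Kc.map (homOfLE (Nat.le_succ n)) ≫ π (n + 1) ≫ G.ιTruncLE (((n + 1 : ℕ) : ℤ) + 1) =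
        π n ≫ G.ιTruncLE ((n : ℤ) + 1)) ∧
      (∀ n : ℕ, QuasiIso (π n) ∧ ∀ i : ℤ, Epi ((π n).f i)) ∧
      (∀ n : ℕ, ∃ b : ℤ, (Kc.obj n).IsStrictlyLE b) ∧
      (∀ (n : ℕ) (i : ℤ), ∃ (ι : Type u) (U : ι → C),
        Nonempty ((Kc.obj n).X i ≅ ∐ fun j => ModSite.freeOn O (U j))) ∧
      (∀ (n : ℕ) (i : ℤ), ∃ r : (Kc.obj (n + 1)).X i ⟶ (Kc.obj n).X i,
        (Kc.map (homOfLE (Nat.le_succ n))).f i ≫ r = 𝟙 _ ∧
        ∃ (ι : Type u) (U : ι → C),
          Nonempty (cokernel ((Kc.map (homOfLE (Nat.le_succ n))).f i) ≅ ∐ fun j => ModSite.freeOn O (U j))) ∧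
      ∃ c : colimit Kc ⟶ G, (∀ n : ℕ, colimit.ι Kc n ≫ c = π n ≫ G.ιTruncLE ((n : ℤ) + 1)) ∧ QuasiIso c := by
  have := GrothLib.ModFlat.hasExactColimitsOfShape_nat (O := O)
  obtain ⟨Kc, π, h1, h2, h3, h4, h5, h6⟩ := GrothLib.BddRes.exists_system (isResClass_isSum O) G
  refine ⟨Kc, π, h1, h2, fun n => ⟨(n : ℤ) + 1, ?_⟩, h4, fun n i => ?_, h6⟩
  · rw [CochainComplex.isStrictlyLE_iff]
    exact h3 n
  · obtain ⟨r, hr, Q, ⟨ι, U, ⟨e⟩⟩, ⟨e'⟩⟩ := h5 n i
    exact ⟨r, hr, ι, U, ⟨e' ≪≫ e⟩⟩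

end Groth.Agent.S9078
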