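import Groth.Statements.S9082
import Groth.Agent.Lib.ModFlat.Basic
-- import your own Groth.Agent.* helpers here

set_option autoImplicit false
universe u
open CategoryTheory
open ModSite

namespace Groth.Agent.S9082

/-- Part (1): for sheaves of modules, on a small ringed site (C, O) with O commutative: if 0 → F₂ → F₁ →
F₀ → 0 is a short exact sequence of O-modules in which F₂ and F₀ are flat (tensoring with them is
exact), then the middle term F₁ is flat. -/
theorem result {C : Type u} [SmallCategory C] {J : GrothendieckTopology C}
    (O : Sheaf J CommRingCat.{u}) (S : ShortComplex (ModSite.Mod O)) (hS : S.ShortExact)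
    (h₂ : ModSite.IsFlat S.X₁) (h₀ : ModSite.IsFlat S.X₃) : ModSite.IsFlat S.X₂ := GrothLib.ModFlat.isFlat_middle_of_shortExact S hS h₂ h₀

end Groth.Agent.S9082
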