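import Groth.Statements.S9085
import Groth.Agent.Lib.ModFlat.Basic
-- import your own Groth.Agent.* helpers here

set_option autoImplicit false
universe u
open CategoryTheory
open ModSite

namespace Groth.Agent.S9085

/-- On a small ringed site (C, O) with O commutative: the tensor product G ⊗_O F of two flat O-modules
is flat (flat meaning that tensoring with the module is exact on O-modules). -/
theorem result {C : Type u} [SmallCategory C] {J : GrothendieckTopology C}
    (O : Sheaf J CommRingCat.{u}) (G F : ModSite.Mod O) (hG : ModSite.IsFlat G) (hF : ModSite.IsFlat F) :
    ModSite.IsFlat (((ModSite.tensorBi O).obj G).obj F) := GrothLib.ModFlat.isFlat_tensor G F hG hF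

end Groth.Agent.S9085
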