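import Groth.Statements.S9088
import Groth.Agent.Lib.PullLoc25.ExactFlat
-- import your own Groth.Agent.* helpers here

set_option autoImplicit false
universe u
open CategoryTheory
open ModSite

namespace Groth.Agent.S9088

/-- For a morphism of ringed sites f : (C, O_C) → (D, O_D) between small sites with commutative
structure sheaves: if 0 → F → G → H → 0 is a short exact sequence of O_D-modules whose right-hand
term H is flat (tensoring with H is exact), then the pulled-back sequence 0 → f^*F → f^*G → f^*H → 0
of O_C-modules is short exact. -/
theorem result {C D : Type u} [SmallCategory C] [SmallCategory D] {J : GrothendieckTopology C}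
    {K : GrothendieckTopology D} {O_C : Sheaf J CommRingCat.{u}} {O_D : Sheaf K CommRingCat.{u}}
    (f : ModSite.RMor O_C O_D) (S : ShortComplex (ModSite.Mod O_D)) (hS : S.ShortExact) (hH : ModSite.IsFlat S.X₃) :
    (S.map f.pull).ShortExact := GrothLib.PullLoc25.shortExact_pull f S hS hH

end Groth.Agent.S9088
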