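import Groth.Statements.S9089
import Mathlib.RingTheory.Ideal.Span
import Mathlib.LinearAlgebra.Finsupp.LinearCombination
import Mathlib.Tactic.FinCases
import Mathlib.Tactic.Ring
import Mathlib.Tactic.NormNum
-- import your own Groth.Agent.* helpers here

set_option autoImplicit false
universe u
open CategoryTheory Opposite
open ModSite

namespace Groth.Agent.S9089

/-- Part (1): ⇔ (2), for a ringed site (C, O) with C small and O a sheaf of commutative rings: the
following are equivalent. (1) For every object U and every section f of O over U there is a covering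
sieve on U on each of whose arrows either f or 1 - f restricts to a unit. (2) For every object U,
every n ≥ 1 and all sections f₁, …, fₙ of O over U generating the unit ideal of O(U), there is a
covering sieve on U on each of whose arrows some fᵢ restricts to a unit. -/
theorem result {C : Type u} [SmallCategory C] (J : GrothendieckTopology C)
    (O : Sheaf J CommRingCat.{u}) :
    (∀ (U : C) (f : O.obj.obj (op U)), ∃ S ∈ J U, ∀ ⦃V : C⦄ (g : V ⟶ U), S g →
        IsUnit ((O.obj.map g.op).hom f) ∨ IsUnit ((O.obj.map g.op).hom (1 - f))) ↔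
    (∀ (U : C) (n : ℕ) (f : Fin n → O.obj.obj (op U)), 1 ≤ n → Ideal.span (Set.range f) = ⊤ →
        ∃ S ∈ J U, ∀ ⦃V : C⦄ (g : V ⟶ U), S g → ∃ i, IsUnit ((O.obj.map g.op).hom (f i))) := by
  classical
  constructor
  · intro h
    have key : ∀ (n : ℕ) (U : C) (f a : Fin n → O.obj.obj (op U)), IsUnit (∑ i, a i * f i) →
        ∃ S ∈ J U, ∀ ⦃V : C⦄ (g : V ⟶ U), S g →
          (Subsingleton (O.obj.obj (op V))) ∨ ∃ i, IsUnit ((O.obj.map g.op).hom (f i)) := by
      intro n
      induction n with
      | zero =>
        intro U f a hu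
        refine ⟨⊤, J.top_mem U, fun V g _ => Or.inl ?_⟩
        rw [Fin.sum_univ_zero] at hu
        have h0 : IsUnit (0 : O.obj.obj (op V)) := map_zero (O.obj.map g.op).hom ▸ hu.map _
        exact subsingleton_of_zero_eq_one (isUnit_zero_iff.1 h0)
      | succ n ih =>
        intro U f a hu
        obtain ⟨u, hu⟩ := hu
        rw [Fin.sum_univ_succ] at hu
        let x := (↑u⁻¹ : O.obj.obj (op U)) * (a 0 * f 0)
        obtain ⟨S, hS, hS'⟩ := h U x
        have hcov : ∀ ⦃V : C⦄ (g : V ⟶ U), S g → ∃ T ∈ J V, ∀ ⦃W : C⦄ (k : W ⟶ V), T k →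
            (Subsingleton (O.obj.obj (op W))) ∨ ∃ i, IsUnit ((O.obj.map (k ≫ g).op).hom (f i)) := by
          intro V g hg
          rcases hS' g hg with h1 | h1
          · refine ⟨⊤, J.top_mem V, fun W k _ => Or.inr ⟨0, ?_⟩⟩
            rw [op_comp, Functor.map_comp, CommRingCat.comp_apply]
            refine IsUnit.map _ ?_
            simp only [x, map_mul] at h1
            exact (IsUnit.mul_iff.1 (IsUnit.mul_iff.1 h1).2).2
          · obtain ⟨T, hT, hT'⟩ := ih V (fun i => (O.obj.map g.op).hom (f i.succ))
              (fun i => (O.obj.map g.op).hom ((↑u⁻¹ : O.obj.obj (op U)) * a i.succ)) (by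
                refine Eq.mp (congrArg IsUnit ?_) h1
                rw [show (1 : O.obj.obj (op U)) - x = ∑ i : Fin n, ((↑u⁻¹ : O.obj.obj (op U)) * a i.succ) * f i.succ from by
                  rw [sub_eq_iff_eq_add', ← u.inv_mul, hu, mul_add, Finset.mul_sum]
                  simp only [x, mul_assoc], map_sum]
                simp only [map_mul])
            refine ⟨T, hT, fun W k hk => (hT' k hk).imp id fun ⟨i, hi⟩ => ⟨i.succ, ?_⟩⟩
            rw [op_comp, Functor.map_comp, CommRingCat.comp_apply]
            exact hi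
        choose T hT hT' using hcov
        refine ⟨Sieve.bind S.arrows (fun V g hg => T g hg), J.bind_covering hS (fun V g hg => hT g hg), ?_⟩
        rintro W _ ⟨V, k, g, hg, hk, rfl⟩
        exact hT' g hg k hk
    intro U n f hn hf
    obtain ⟨a, ha⟩ := Ideal.mem_span_range_iff_exists_fun.1 ((Ideal.eq_top_iff_one _).1 hf)
    obtain ⟨S, hS, hS'⟩ := key n U f a (by rw [ha]; exact isUnit_one)
    refine ⟨S, hS, fun V g hg => ?_⟩
    rcases hS' g hg with hs | hi
    · exact ⟨⟨0, hn⟩, isUnit_of_subsingleton _⟩
    · exact hi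
  · intro h U f
    obtain ⟨S, hS, hS'⟩ := h U 2 ![f, 1 - f] (by norm_num) (by
      rw [Ideal.eq_top_iff_one]
      have h2 := Ideal.add_mem (Ideal.span (Set.range ![f, 1 - f])) (Ideal.subset_span ⟨0, rfl⟩) (Ideal.subset_span ⟨1, rfl⟩)
      simpa using h2)
    refine ⟨S, hS, fun V g hg => ?_⟩
    obtain ⟨i, hi⟩ := hS' g hg
    fin_cases i
    · exact Or.inl hi
    · exact Or.inr hi

end Groth.Agent.S9089
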