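import Groth.Statements.S9090
import Mathlib.RingTheory.LocalRing.Basic
-- import your own Groth.Agent.* helpers here

set_option autoImplicit false
universe u
open CategoryTheory Opposite
open ModSite

namespace Groth.Agent.S9090

/-- Part (1): ⇒ (2), for a ringed site (C, O) with C small and O a sheaf of commutative rings: if for
every object U and every section f of O over U there is a covering sieve on U on each of whose
arrows either f or 1 - f restricts to a unit, then at every point p of the site the stalk O_p is the
zero ring or is local. -/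
theorem result {C : Type u} [SmallCategory C] {J : GrothendieckTopology C}
    (O : Sheaf J CommRingCat.{u})
    (h : ∀ (U : C) (f : O.obj.obj (op U)), ∃ S ∈ J U, ∀ ⦃V : C⦄ (g : V ⟶ U), S g →
        IsUnit ((O.obj.map g.op).hom f) ∨ IsUnit ((O.obj.map g.op).hom (1 - f)))
    (p : GrothendieckTopology.Point.{u} J) :
    Subsingleton (ModSite.stalkRing p O) ∨ IsLocalRing (ModSite.stalkRing p O) := by
  by_cases hs : Subsingleton (stalkRing p O)
  · exact Or.inl hs
  have : Nontrivial (stalkRing p O) := not_subsingleton_iff_nontrivial.1 hs
  refine Or.inr (IsLocalRing.of_isUnit_or_isUnit_one_sub_self fun r => ?_)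
  obtain ⟨X, x, r₀, rfl⟩ := p.toPresheafFiber_jointly_surjective (P := O.obj) r
  obtain ⟨S, hS, hS'⟩ := h X r₀
  obtain ⟨Y, g, hg, y, hy⟩ := p.jointly_surjective S hS x
  have e : ∀ s : O.obj.obj (Opposite.op X), (p.toPresheafFiber Y y O.obj).hom ((O.obj.map g.op).hom s) =
      (p.toPresheafFiber X x O.obj).hom s := fun s => by
    rw [← hy]
    exact p.toPresheafFiber_w_apply g y O.obj s
  rcases hS' g hg with hu | hu
  · exact Or.inl ((e r₀) ▸ hu.map (p.toPresheafFiber Y y O.obj).hom)
  · refine Or.inr ?_
    have h1 := hu.map (p.toPresheafFiber Y y O.obj).hom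
    rw [e, map_sub, map_one] at h1
    exact h1

end Groth.Agent.S9090
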