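import Groth.Statements.S9091
import Groth.Agent.Lib.FlatRel25.Points
-- import your own Groth.Agent.* helpers here

set_option autoImplicit false
universe u
open CategoryTheory Opposite
open ModSite

namespace Groth.Agent.S9091
open CategoryTheory


/-- Part (2): ⇒ (1) when the site has enough points, for a ringed site (C, O) with C small and O a sheaf
of commutative rings: if at every point p of the site the stalk O_p is the zero ring or is local,
then for every object U and every section f of O over U there is a covering sieve on U on each of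
whose arrows either f or 1 - f restricts to a unit. -/
theorem result {C : Type u} [SmallCategory C] {J : GrothendieckTopology C}
    (O : Sheaf J CommRingCat.{u}) [GrothendieckTopology.HasEnoughPoints.{u} J]
    (h : ∀ p : GrothendieckTopology.Point.{u} J, Subsingleton (ModSite.stalkRing p O) ∨ IsLocalRing (ModSite.stalkRing p O))
    (U : C) (f : O.obj.obj (op U)) :
    ∃ S ∈ J U, ∀ ⦃V : C⦄ (g : V ⟶ U), S g →
        IsUnit ((O.obj.map g.op).hom f) ∨ IsUnit ((O.obj.map g.op).hom (1 - f)) := by
  classical
  let S : Sieve U :=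
    { arrows := fun V g => IsUnit ((O.obj.map g.op).hom f) ∨ IsUnit ((O.obj.map g.op).hom (1 - f))
      downward_closed := fun {V W} g hg k => by
        rw [op_comp, Functor.map_comp, CommRingCat.comp_apply, CommRingCat.comp_apply]
        exact hg.imp (fun e => e.map _) (fun e => e.map _) }
  refine ⟨S, ?_, fun V g hg => hg⟩
  refine J.superset_covering
    (S := Sieve.ofArrows (fun i : Σ V : C, {g : V ⟶ U // S g} => i.1) (fun i => i.2.1)) ?_ ?_
  · rw [Sieve.generate_le_iff]
    rintro V g ⟨i⟩
    exact i.2.2
  obtain ⟨P, _, hP⟩ := GrothendieckTopology.HasEnoughPoints.exists_objectProperty (J := J)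
  rw [hP.jointly_reflect_ofArrows_mem]
  rintro ⟨q, hq⟩ x
  have key : ∀ r : O.obj.obj (op U), IsUnit (ModSite.germRing q U x r) →
      ∃ (V : C) (g : V ⟶ U) (v : q.fiber.obj V), q.fiber.map g v = x ∧ IsUnit ((O.obj.map g.op).hom r) := by
    intro r hr
    obtain ⟨b, hb⟩ := hr.exists_right_inv
    obtain ⟨Y, g, y, _, a, hy, -, ha⟩ :=
      GrothLib.FlatRel25.exists_common_nhd (F := ModSite.unit O) q x (fun e : Empty => e.elim) (fun _ : Unit => b)
    obtain ⟨Z, k, z, hz, hk⟩ := GrothLib.FlatRel25.exists_resR_eq q y
      (fun _ : Unit => GrothLib.FlatRel25.resR g r * a ()) (fun _ => (1 : O.obj.obj (op Y))) (fun _ => by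
        refine (map_mul (q.toPresheafFiber Y y O.obj).hom _ _).trans ?_
        refine Eq.trans ?_ (map_one (q.toPresheafFiber Y y O.obj).hom).symm
        refine Eq.trans ?_ hb
        refine congrArg₂ (· * ·) ?_ (ha ())
        refine (GrothLib.FlatRel25.germRing_res q g y r).trans ?_
        rw [hy])
    refine ⟨Z, k ≫ g, z, ?_, ?_⟩
    · rw [Functor.map_comp]
      exact (congrArg (q.fiber.map g) hz).trans hy
    · rw [op_comp, Functor.map_comp, CommRingCat.comp_apply]
      refine IsUnit.of_mul_eq_one (GrothLib.FlatRel25.resR (O := O) k (a ())) ?_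
      exact (map_mul (O.obj.map k.op).hom _ _).symm.trans ((hk ()).trans (map_one _))
  have hor : IsUnit (ModSite.germRing q U x f) ∨ IsUnit (ModSite.germRing q U x (1 - f)) := by
    rcases h q with hs | hl
    · exact Or.inl (isUnit_of_subsingleton _)
    · have : (ModSite.germRing q U x (1 - f)) = 1 - ModSite.germRing q U x f :=
        (map_sub (q.toPresheafFiber U x O.obj).hom 1 f).trans (by rw [map_one]; rfl)
      rw [this]
      exact IsLocalRing.isUnit_or_isUnit_one_sub_self _
  rcases hor with h1 | h1
  · obtain ⟨V, g, v, hv, hu⟩ := key f h1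
    exact ⟨⟨V, g, Or.inl hu⟩, v, hv⟩
  · obtain ⟨V, g, v, hv, hu⟩ := key (1 - f) h1
    exact ⟨⟨V, g, Or.inr hu⟩, v, hv⟩

end Groth.Agent.S9091
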