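import Groth.Statements.S9097
import Mathlib.CategoryTheory.Sites.ConstantSheaf
import Mathlib.Algebra.Category.Grp.EpiMono
import Mathlib.CategoryTheory.Sites.LeftExact
import Mathlib.Algebra.Homology.ShortComplex.ExactFunctor
-- import your own Groth.Agent.* helpers here

set_option autoImplicit false
universe u
open CategoryTheory Opposite
open CohSite

namespace Groth.Agent.S9097
open CategoryTheory.Limits


/-- If 0 → A → B → C → 0 is short exact in the category of abelian groups then, for every object U, the
sequence 0 → A̲(U) → B̲(U) → C̲(U) → 0 of sections of the constant abelian sheaves is short exact;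
in other words the sequence of constant sheaves is exact even as a sequence of abelian presheaves.
The instance binder on the sections-of-constant-sheaf functor (it preserves zero morphisms) always
holds and is only needed to form the complex. -/
theorem result {C : Type u} [SmallCategory C] (J : GrothendieckTopology C)
    (S : ShortComplex AddCommGrpCat.{u}) (hS : S.ShortExact) (U : C)
    [(constantSheaf J AddCommGrpCat.{u} ⋙ (sheafSections J AddCommGrpCat.{u}).obj (op U)).PreservesZeroMorphisms] :
    (S.map (constantSheaf J AddCommGrpCat.{u} ⋙ (sheafSections J AddCommGrpCat.{u}).obj (op U))).ShortExact := by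
  let Φ := constantSheaf J AddCommGrpCat.{u} ⋙ (sheafSections J AddCommGrpCat.{u}).obj (op U)
  have hlim : PreservesFiniteLimits (constantSheaf J AddCommGrpCat.{u}) :=
    inferInstanceAs (PreservesFiniteLimits (Functor.const Cᵒᵖ ⋙ presheafToSheaf J AddCommGrpCat.{u}))
  have : PreservesFiniteLimits ((sheafSections J AddCommGrpCat.{u}).obj (op U)) :=
    inferInstanceAs (PreservesFiniteLimits (sheafToPresheaf J AddCommGrpCat.{u} ⋙ (evaluation Cᵒᵖ AddCommGrpCat.{u}).obj (op U)))
  have : PreservesFiniteLimits Φ := comp_preservesFiniteLimits _ _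
  have := hS.mono_f
  have := hS.epi_g
  have : Mono (S.map Φ).f := inferInstanceAs (Mono (Φ.map S.f))
  refine { exact := hS.exact.map_of_mono_of_preservesKernel Φ inferInstance inferInstance, mono_f := this, epi_g := ?_ }
  let V : AddCommGrpCat.{u} ⥤ Type u := CategoryTheory.forget AddCommGrpCat.{u}
  let Ψ := constantSheaf J (Type u) ⋙ (sheafSections J (Type u)).obj (op U)
  let e : Φ ⋙ V ≅ V ⋙ Ψ :=
    Functor.isoWhiskerRight (constantCommuteCompose J V) ((sheafSections J (Type u)).obj (op U))
  have : IsSplitEpi (V.map S.g) := ⟨⟨⟨TypeCat.ofHom (Function.surjInv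
      ((AddCommGrpCat.epi_iff_surjective S.g).1 inferInstance)), by
    ext x; exact Function.surjInv_eq ((AddCommGrpCat.epi_iff_surjective S.g).1 inferInstance) x⟩⟩⟩
  have : Epi ((Φ ⋙ V).map S.g) := by
    rw [show (Φ ⋙ V).map S.g = e.hom.app _ ≫ (V ⋙ Ψ).map S.g ≫ e.inv.app _ from
      (NatIso.naturality_1 e.symm S.g).symm]
    have : Epi ((V ⋙ Ψ).map S.g) := inferInstanceAs (Epi (Ψ.map (V.map S.g)))
    infer_instance
  exact V.epi_of_epi_map this

end Groth.Agent.S9097
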