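import Groth.Statements.S9102
import Groth.Agent.Lib.QCCoprod25.Mod
-- import your own Groth.Agent.* helpers here

set_option autoImplicit false
universe u
open CategoryTheory Opposite
open ModSite

namespace Groth.Agent.S9102

open CategoryTheory.Limits in
/-- Part (2): on a small ringed site (C, O) with O commutative: let W be an object of C which is
quasi-compact, in the sense that the sheaf of sets h_W^# associated to W is a quasi-compact object
of the topos. Then the functor F ↦ F(W) from O-modules to abelian groups commutes with arbitrary
direct sums (coproducts indexed by a small type). -/
theorem result {C : Type u} [SmallCategory C] {J : GrothendieckTopology C}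
    (O : Sheaf J CommRingCat.{u}) (W : C)
    (hW : CohCx.IsQcObject ((presheafToSheaf J (Type u)).obj (yoneda.obj W))) (ι : Type u) :
    PreservesColimitsOfShape (Discrete ι)
      (SheafOfModules.toSheaf (ModSite.ringSh O) ⋙ (sheafSections J AddCommGrpCat.{u}).obj (op W)) := GrothLib.QCCoprod25.preservesColimitsOfShape_secMod O hW ι

end Groth.Agent.S9102
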