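import Groth.Statements.S9104
import Groth.Agent.Lib.PullLoc25.RingPull
-- import your own Groth.Agent.* helpers here

set_option autoImplicit false
universe u
open CategoryTheory
open ModSite

namespace Groth.Agent.S9104

/-- Part (1): for a morphism of ringed sites f : (C, O_C) → (D, O_D) between small sites with
commutative structure sheaves (only the underlying morphism of topoi is used): if (D, O_D) is a
locally ringed site then C equipped with the pulled-back sheaf of rings f⁻¹O_D is a locally ringed
site. -/
theorem result {C D : Type u} [SmallCategory C] [SmallCategory D] {J : GrothendieckTopology C}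
    {K : GrothendieckTopology D} {O_C : Sheaf J CommRingCat.{u}} {O_D : Sheaf K CommRingCat.{u}}
    (f : ModSite.RMor O_C O_D) (hD : ModSite.IsLocallyRinged K O_D) : ModSite.IsLocallyRinged J f.invRing := by
  refine ⟨fun U z => ?_, fun U h01 => ?_⟩
  · let R : Sieve U :=
      { arrows := fun V g => IsUnit ((f.invRing.obj.map g.op).hom z) ∨ IsUnit ((f.invRing.obj.map g.op).hom (1 - z))
        downward_closed := fun {Y Z g} hg k => by
          rw [op_comp, f.invRing.obj.map_comp, CommRingCat.hom_comp, RingHom.comp_apply, RingHom.comp_apply]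
          exact hg.imp (IsUnit.map _) (IsUnit.map _) }
    obtain ⟨S, hS, h⟩ := GrothLib.PullLoc25.exists_invEl f z
    refine ⟨R, J.transitive hS R fun V g hg => ?_, fun V g hg => hg⟩
    obtain ⟨W, a, q, ha⟩ := h g hg
    obtain ⟨T, hT, hT'⟩ := hD.1 W a
    obtain ⟨S', hS', h'⟩ := GrothLib.PullLoc25.exists_cover (J := J) K f.fn q hT
    refine J.superset_covering (fun V' e he => ?_) hS'
    obtain ⟨W', c, q', hc, hq⟩ := h' e he
    have key : ∀ x, (f.invRing.obj.map (e ≫ g).op).hom x = (f.invRing.obj.map e.op).hom ((f.invRing.obj.map g.op).hom x) :=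
      fun x => by rw [op_comp, f.invRing.obj.map_comp]; rfl
    change IsUnit ((f.invRing.obj.map (e ≫ g).op).hom z) ∨ IsUnit ((f.invRing.obj.map (e ≫ g).op).hom (1 - z))
    rw [key, key, map_sub, map_one, ha, ← map_one (GrothLib.PullLoc25.invEl f q), ← map_sub,
      GrothLib.PullLoc25.invEl_res, GrothLib.PullLoc25.invEl_res, ← hq, ← GrothLib.PullLoc25.invEl_comp,
      ← GrothLib.PullLoc25.invEl_comp]
    exact (hT' c hc).imp (IsUnit.map _) (IsUnit.map _)
  · obtain ⟨S, hS, h⟩ := GrothLib.PullLoc25.exists_over (J := J) K f.fn U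
    refine J.transitive hS ⊥ fun V g hg => ?_
    obtain ⟨W, ⟨q⟩⟩ := h g hg
    have h0 : GrothLib.PullLoc25.invEl f q 0 = GrothLib.PullLoc25.invEl f q 1 := by
      have := congrArg (f.invRing.obj.map g.op).hom h01
      simpa using this
    obtain ⟨S', hS', h'⟩ := GrothLib.PullLoc25.invEl_eq_locally f q 0 1 h0
    refine J.transitive hS' _ fun V' e he => ?_
    obtain ⟨W', c, q', hc, hq⟩ := h' e he
    rw [map_zero, map_one] at hc
    obtain ⟨S'', hS'', h''⟩ := GrothLib.PullLoc25.exists_cover (J := J) K f.fn q' (hD.2 W' hc)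
    refine J.superset_covering (fun V'' k hk => ?_) hS''
    obtain ⟨W'', c', q'', hc', -⟩ := h'' k hk
    exact hc'.elim

end Groth.Agent.S9104
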