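import Groth.Statements.S9107
import Groth.Agent.Lib.ModFlat.Basic
-- import your own Groth.Agent.* helpers here

set_option autoImplicit false
universe u
open CategoryTheory
open ModSite

namespace Groth.Agent.S9107

open CategoryTheory.Limits in
/-- Last assertion, on a small ringed site (C, O) with O commutative: filtered colimits are exact in the
category Mod(O) of sheaves of O-modules, i.e. for every small filtered category Λ the colimit
functor on Λ-shaped diagrams of O-modules preserves finite limits. -/
theorem result {C : Type u} [SmallCategory C] {J : GrothendieckTopology C}
    (O : Sheaf J CommRingCat.{u}) (Λ : Type u) [SmallCategory Λ] [IsFiltered Λ] :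
    HasExactColimitsOfShape Λ (ModSite.Mod O) := inferInstance

end Groth.Agent.S9107
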