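import Groth.Statements.S9108
import Mathlib.CategoryTheory.Adjunction.Triple
import Mathlib.CategoryTheory.Functor.KanExtension.Adjunction
-- import your own Groth.Agent.* helpers here

set_option autoImplicit false
universe u
open CategoryTheory
open CohSite

namespace Groth.Agent.S9108

/-- Let u : C ⥤ D be a functor between small sites which is cocontinuous, continuous (restriction along
u preserves sheaves, and u sends covering families to covering families) and fully faithful; let g
be the morphism of topoi attached to u, so that g⁻¹ is restriction along u, g_* its right adjoint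
and g_! its left adjoint on abelian sheaves. Then for every abelian sheaf F on C the canonical maps
F → g⁻¹g_!F (unit) and g⁻¹g_*F → F (counit) are isomorphisms. -/
theorem result {C D : Type u} [SmallCategory C] [SmallCategory D]
    (J : GrothendieckTopology C) (K : GrothendieckTopology D) (u : C ⥤ D)
    [u.IsCocontinuous J K] [u.IsContinuous J K] (hu : CoverPreserving J K u) [u.Full] [u.Faithful]
    (F : Sheaf J AddCommGrpCat.{u}) :
    IsIso ((u.sheafAdjunctionContinuous AddCommGrpCat.{u} J K).unit.app F) ∧
      IsIso ((u.sheafAdjunctionCocontinuous AddCommGrpCat.{u} J K).counit.app F) := by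
  let A := AddCommGrpCat.{u}
  let adj₁ := u.sheafAdjunctionContinuous A J K
  let adj₂ := u.sheafAdjunctionCocontinuous A J K
  let t : Adjunction.Triple (u.sheafPullback A J K) (u.sheafPushforwardContinuous A J K)
      (u.sheafPushforwardCocontinuous A J K) := ⟨adj₁, adj₂⟩
  have hc : IsIso adj₂.counit := by
    rw [NatTrans.isIso_iff_isIso_app]
    intro G
    have : IsIso ((sheafToPresheaf J A).map (adj₂.counit.app G)) := by
      change IsIso ((adj₂.counit.app G).hom)
      have : ∀ F : Cᵒᵖ ⥤ A, u.op.HasPointwiseRightKanExtension F := fun F X =>
        (inferInstance : Limits.HasLimit (StructuredArrow.proj X u.op ⋙ F))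
      have : u.op.Full := inferInstance
      rw [Functor.sheafAdjunctionCocontinuous_counit_app_hom, Functor.ranAdjunction_counit]
      have : u.op.Faithful := inferInstance
      rw [NatTrans.isIso_iff_isIso_app]
      intro X
      exact (u.op.isPointwiseRightKanExtensionRanCounit G.obj (u.op.obj X)).isIso_hom_app
    exact isIso_of_reflects_iso _ (sheafToPresheaf J A)
  have : IsIso adj₁.unit := t.isIso_unit_iff_isIso_counit.2 hc
  exact ⟨inferInstanceAs (IsIso (adj₁.unit.app F)), inferInstanceAs (IsIso (adj₂.counit.app F))⟩

end Groth.Agent.S9108
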