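import Groth.Statements.S9109
import Mathlib.Algebra.Category.Grp.AB
-- import your own Groth.Agent.* helpers here

set_option autoImplicit false
universe u
open CategoryTheory CategoryTheory.Limits
open CohSite

namespace Groth.Agent.S9109

/-- Part (1): on a small site (C, J) with a point p: the skyscraper functor p_* from abelian groups to
abelian sheaves on C (right adjoint to the stalk functor at p; its value on A is the sheaf U ↦ ∏_{x
∈ p⁻¹U} A) is exact. As a right adjoint it preserves limits; the statement here is that it also
preserves finite colimits. -/
theorem result {C : Type u} [SmallCategory C] {J : GrothendieckTopology C}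
    (p : GrothendieckTopology.Point.{u} J) :
    PreservesFiniteColimits (p.skyscraperSheafFunctor (A := AddCommGrpCat.{u})) := by
  classical
  let F := p.skyscraperSheafFunctor (A := AddCommGrpCat.{u})
  have hadj := p.skyscraperSheafAdjunction (A := AddCommGrpCat.{u})
  have : PreservesLimitsOfSize.{0, 0} F := hadj.rightAdjoint_preservesLimits
  have : PreservesBinaryBiproducts F := preservesBinaryBiproducts_of_preservesBinaryProducts F
  have : F.Additive := Functor.additive_of_preservesBinaryBiproducts F
  have : F.PreservesEpimorphisms := ⟨fun {M N} f hf => by
    have hall : ∀ V : Cᵒᵖ, Epi ((F.map f).hom.app V) := fun V => by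
      change Epi (Limits.Pi.map fun _ : p.fiber.obj V.unop => f)
      have : PreservesFiniteColimits (lim (J := Discrete (p.fiber.obj V.unop)) (C := AddCommGrpCat.{u})) :=
        HasExactLimitsOfShape.preservesFiniteColimits
      have : ∀ i : Discrete (p.fiber.obj V.unop), Epi ((Discrete.natTrans (F := Discrete.functor fun _ => M) (G := Discrete.functor fun _ => N) fun _ => f).app i) := fun _ => hf
      have := NatTrans.epi_of_epi_app (Discrete.natTrans (F := Discrete.functor fun (_ : p.fiber.obj V.unop) => M) (G := Discrete.functor fun _ => N) fun _ => f)
      have := preservesEpimorphisms_of_preservesColimitsOfShape (lim (J := Discrete (p.fiber.obj V.unop)) (C := AddCommGrpCat.{u}))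
      exact (lim (J := Discrete (p.fiber.obj V.unop)) (C := AddCommGrpCat.{u})).map_epi
        (Discrete.natTrans (F := Discrete.functor fun _ => M) (G := Discrete.functor fun _ => N) fun _ => f)
    have : ∀ V : Cᵒᵖ, Epi (((sheafToPresheaf J AddCommGrpCat.{u}).map (F.map f)).app V) := hall
    have : Epi ((sheafToPresheaf J AddCommGrpCat.{u}).map (F.map f)) := NatTrans.epi_of_epi_app _
    exact (sheafToPresheaf J AddCommGrpCat.{u}).epi_of_epi_map this⟩
  have := Functor.preservesHomology_of_preservesEpis_and_kernels F
  exact ((F.exact_tfae.out 2 3 :
    F.PreservesHomology ↔ PreservesFiniteLimits F ∧ PreservesFiniteColimits F).1 this).2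

end Groth.Agent.S9109
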