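import Groth.Statements.S9110
import Groth.Agent.Lib.ModFlat.Basic
-- import your own Groth.Agent.* helpers here

set_option autoImplicit false
universe u
open CategoryTheory CategoryTheory.Limits
open ModSite

namespace Groth.Agent.S9110

/-- Let C be a small category, O a presheaf of commutative rings on C and F a presheaf of O-modules such
that each F(U) is a flat O(U)-module. Then F is flat as a presheaf of modules, i.e. the functor G ↦
G ⊗_{p,O} F given by the sectionwise tensor product of presheaves of modules is exact (preserves
finite limits and finite colimits). -/
theorem result {C : Type u} [SmallCategory C] (O : Cᵒᵖ ⥤ CommRingCat.{u})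
    (F : PresheafOfModules.{u} (O ⋙ forget₂ CommRingCat.{u} RingCat.{u}))
    (hF : ∀ X : Cᵒᵖ, Module.Flat (O.obj X) (F.obj X)) :
    PreservesFiniteLimits (MonoidalCategory.tensorRight F) ∧ PreservesFiniteColimits (MonoidalCategory.tensorRight F) := by
  have hm : (MonoidalCategory.tensorRight F).PreservesMonomorphisms := ⟨fun f _ => GrothLib.ModFlat.preservesMono_tensorRight O F hF f⟩
  have hc : PreservesFiniteColimits (MonoidalCategory.tensorRight F) := PreservesColimits.preservesFiniteColimits _
  have : PreservesBinaryBiproducts (MonoidalCategory.tensorRight F) := preservesBinaryBiproducts_of_preservesBinaryCoproducts _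
  have : (MonoidalCategory.tensorRight F).Additive := Functor.additive_of_preservesBinaryBiproducts _
  refine ⟨?_, hc⟩
  rw [Functor.preservesFiniteLimits_iff_forall_exact_map_and_mono]
  intro S hS
  have := hS.mono_f
  have := hS.epi_g
  exact ⟨hS.exact.map_of_epi_of_preservesCokernel _ inferInstance inferInstance, (MonoidalCategory.tensorRight F).map_mono S.f⟩

end Groth.Agent.S9110
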