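import Groth.Statements.S9111
import Groth.Agent.Lib.ModFlat.Basic
import Groth.Agent.Lib.ModFlat.FlatChase
import Mathlib.CategoryTheory.Monoidal.Braided.Basic
-- import your own Groth.Agent.* helpers here

set_option autoImplicit false
universe u
open CategoryTheory CategoryTheory.Limits
open ModSite

namespace Groth.Agent.S9111
attribute [local instance] Abelian.hasFiniteBiproducts

variable {C : Type u} [SmallCategory C] (O : Cᵒᵖ ⥤ CommRingCat.{u})

theorem preservesFiniteColimits_right (X : PresheafOfModules.{u} (O ⋙ forget₂ CommRingCat.{u} RingCat.{u})) :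
    PreservesFiniteColimits (MonoidalCategory.tensorRight X) :=
  ⟨fun J _ _ => inferInstance⟩

theorem preservesFiniteColimits_left (X : PresheafOfModules.{u} (O ⋙ forget₂ CommRingCat.{u} RingCat.{u})) :
    PreservesFiniteColimits (MonoidalCategory.tensorLeft X) :=
  ⟨fun J _ _ =>
    have := preservesFiniteColimits_right O X
    preservesColimitsOfShape_of_natIso (BraidedCategory.tensorLeftIsoTensorRight X).symm⟩

theorem additive_right (X : PresheafOfModules.{u} (O ⋙ forget₂ CommRingCat.{u} RingCat.{u})) :
    (MonoidalCategory.tensorRight X).Additive :=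
  have := preservesFiniteColimits_right O X
  have := preservesBinaryBiproducts_of_preservesBinaryCoproducts (MonoidalCategory.tensorRight X)
  Functor.additive_of_preservesBinaryBiproducts _

theorem additive_left (X : PresheafOfModules.{u} (O ⋙ forget₂ CommRingCat.{u} RingCat.{u})) :
    (MonoidalCategory.tensorLeft X).Additive :=
  have := additive_right O X
  Functor.additive_of_iso (BraidedCategory.tensorLeftIsoTensorRight X).symm


/-- Let C be a small category and O a presheaf of commutative rings on C. If 0 → F'' → F' → F → 0 is a
short exact sequence of presheaves of O-modules whose right-hand term F is flat (the sectionwise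
tensor product functor - ⊗_{p,O} F is exact), then for every presheaf of O-modules G the tensored
sequence 0 → F'' ⊗_{p,O} G → F' ⊗_{p,O} G → F ⊗_{p,O} G → 0 is short exact. The instance binder (the
functor - ⊗_{p,O} G preserves zero morphisms) always holds and is only needed to form the complex. -/
theorem result {C : Type u} [SmallCategory C] (O : Cᵒᵖ ⥤ CommRingCat.{u})
    (S : ShortComplex (PresheafOfModules.{u} (O ⋙ forget₂ CommRingCat.{u} RingCat.{u}))) (hS : S.ShortExact)
    (hF : PreservesFiniteLimits (MonoidalCategory.tensorRight S.X₃) ∧ PreservesFiniteColimits (MonoidalCategory.tensorRight S.X₃))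
    (G : PresheafOfModules.{u} (O ⋙ forget₂ CommRingCat.{u} RingCat.{u})) [(MonoidalCategory.tensorRight G).PreservesZeroMorphisms] :
    (S.map (MonoidalCategory.tensorRight G)).ShortExact := by
  have := fun X => preservesFiniteColimits_right O X
  have := fun X => preservesFiniteColimits_left O X
  have := fun X => additive_right O X
  have := fun X => additive_left O X
  have := hS.mono_f
  have := hS.epi_g
  let P := (PresheafOfModules.free (O ⋙ forget₂ CommRingCat.{u} RingCat.{u})).obj (G.presheaf ⋙ CategoryTheory.forget AddCommGrpCat.{u})
  let π : P ⟶ G := (PresheafOfModules.freeAdjunction _).counit.app G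
  have hπ : Epi π := by
    apply Functor.epi_of_epi_map (PresheafOfModules.toPresheaf _)
    refine @NatTrans.epi_of_epi_app _ _ _ _ _ _ _ fun X => ?_
    rw [AddCommGrpCat.epi_iff_surjective]
    intro x
    exact ⟨((PresheafOfModules.freeAdjunction _).unit.app
        (G.presheaf ⋙ CategoryTheory.forget AddCommGrpCat.{u})).app X x,
      ConcreteCategory.congr_hom (NatTrans.congr_app
        ((PresheafOfModules.freeAdjunction (O ⋙ forget₂ CommRingCat.{u} RingCat.{u})).right_triangle_components G) X) x⟩
  let R : ShortComplex (PresheafOfModules.{u} (O ⋙ forget₂ CommRingCat.{u} RingCat.{u})) :=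
    ShortComplex.mk (kernel.ι π) π (kernel.condition π)
  have hR : R.ShortExact := ShortComplex.ShortExact.mk'
    (ShortComplex.exact_of_f_is_kernel _ (kernelIsKernel π)) (inferInstanceAs (Mono (kernel.ι π))) hπ
  have hP : Mono (MonoidalCategoryStruct.whiskerRight S.f R.X₂) :=
    GrothLib.ModFlat.preservesMono_tensorRight O P (fun X =>
      inferInstanceAs (Module.Flat (O.obj X) (G.presheaf.obj X →₀ O.obj X))) S.f
  have h₃ : Mono (MonoidalCategoryStruct.whiskerLeft S.X₃ R.f) := by
    have : PreservesFiniteLimits (MonoidalCategory.tensorRight S.X₃) := hF.1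
    have := hR.mono_f
    have : (MonoidalCategory.tensorLeft S.X₃).PreservesMonomorphisms :=
      Functor.PreservesMonomorphisms.of_iso (BraidedCategory.tensorLeftIsoTensorRight S.X₃).symm
    exact (MonoidalCategory.tensorLeft S.X₃).map_mono R.f
  exact
    { exact := hS.exact.map_of_epi_of_preservesCokernel (MonoidalCategory.tensorRight G) inferInstance inferInstance
      mono_f := GrothLib.FlatChase.mono_whiskerRight S hS R hR h₃ hP
      epi_g := inferInstanceAs (Epi ((MonoidalCategory.tensorRight G).map S.g)) }

end Groth.Agent.S9111
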