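import Groth.Statements.S9112
import Groth.Agent.RestrScal25.Basic
import Mathlib.Algebra.Homology.ShortComplex.Ab
import Mathlib.CategoryTheory.Preadditive.LeftExact
import Mathlib.Algebra.Category.Grp.EpiMono
-- import your own Groth.Agent.* helpers here

set_option autoImplicit false
universe u
open CategoryTheory
open ModSite

namespace Groth.Agent.S9112

/-- Part (1): on a small ringed site (C, O) with O commutative, for a point p of the site: the stalk
functor F ↦ F_p from O-modules to O_p-modules is exact. Stated on a short exact sequence 0 → F₁ → F₂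
→ F₃ → 0 of O-modules: the induced O_p-linear map F₁,p → F₂,p is injective, F₂,p → F₃,p is
surjective, and the range of the first is the kernel of the second. -/
theorem result {C : Type u} [SmallCategory C] {J : GrothendieckTopology C}
    (O : Sheaf J CommRingCat.{u}) (S : ShortComplex (ModSite.Mod O)) (hS : S.ShortExact)
    (p : GrothendieckTopology.Point.{u} J) :
    Function.Injective (ModSite.stalkMap p S.f).hom ∧ Function.Surjective (ModSite.stalkMap p S.g).hom ∧
      LinearMap.range (ModSite.stalkMap p S.f).hom = LinearMap.ker (ModSite.stalkMap p S.g).hom := by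
  have := GrothLib.RestrScal25.toSheaf_preservesColimits (ringSh O)
  have : Limits.PreservesFiniteColimits (SheafOfModules.toSheaf.{u} (ringSh O)) :=
    Limits.PreservesColimitsOfSize.preservesFiniteColimits _
  have : (p.sheafFiber (A := AddCommGrpCat.{u})).IsLeftAdjoint := p.skyscraperSheafAdjunction.isLeftAdjoint
  have : Limits.PreservesColimitsOfSize.{0, 0} (p.sheafFiber (A := AddCommGrpCat.{u})) :=
    p.skyscraperSheafAdjunction.leftAdjoint_preservesColimits
  have : Limits.PreservesFiniteColimits (p.sheafFiber (A := AddCommGrpCat.{u})) :=
    Limits.PreservesColimitsOfSize.preservesFiniteColimits _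
  let Φ := SheafOfModules.toSheaf.{u} (ringSh O) ⋙ p.sheafFiber (A := AddCommGrpCat.{u})
  have : Limits.PreservesFiniteLimits Φ := Limits.comp_preservesFiniteLimits _ _
  have : Limits.PreservesFiniteColimits Φ := Limits.comp_preservesFiniteColimits _ _
  have : Φ.Additive := Functor.additive_of_preserves_binary_products _
  have h := hS.map_of_exact Φ
  have := h.mono_f
  have := h.epi_g
  refine ⟨(AddCommGrpCat.mono_iff_injective (S.map Φ).f).1 inferInstance,
    (AddCommGrpCat.epi_iff_surjective (S.map Φ).g).1 inferInstance, ?_⟩
  ext x
  refine ⟨?_, fun hx => (ShortComplex.ab_exact_iff _).1 h.exact x hx⟩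
  rintro ⟨y, rfl⟩
  exact ConcreteCategory.congr_hom (S.map Φ).zero y

end Groth.Agent.S9112
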