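import Groth.Statements.S9119
import Groth.Agent.Lib.ConstTensor2

set_option autoImplicit false
set_option linter.all false
set_option backward.isDefEq.respectTransparency false
universe u
open CategoryTheory Opposite
open CohSite

namespace Groth.Agent.S9119

/-- Let Λ be a coherent commutative ring, i.e. every finitely generated ideal of Λ is finitely presented
as a Λ-module, and let M be a flat Λ-module. Then for every object U the Λ-module M̲(U) of sections
over U of the constant sheaf on M is flat. -/
theorem result {C : Type u} [SmallCategory C] (J : GrothendieckTopology C)
    (Λ : Type u) [CommRing Λ] (hΛ : ∀ I : Ideal Λ, I.FG → Module.FinitePresentation Λ I)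
    (M : Type u) [AddCommGroup M] [Module Λ M] [Module.Flat Λ M] (U : C) :
    Module.Flat Λ (((constantSheaf J (ModuleCat.{u} Λ)).obj (ModuleCat.of Λ M)).obj.obj (op U)) :=
  GrothLib.ConstTensor2.flat_sections J Λ U hΛ

end Groth.Agent.S9119
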