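import Groth.Statements.S9121
import Mathlib.CategoryTheory.Sites.EpiMono
import Mathlib.CategoryTheory.Sites.Pullback
import Mathlib.CategoryTheory.Preadditive.LeftExact
import Mathlib.Algebra.Homology.ShortComplex.ExactFunctor
-- import your own Groth.Agent.* helpers here

set_option autoImplicit false
universe u
open CategoryTheory CategoryTheory.Limits
open CohSite

namespace Groth.Agent.S9121
open CategoryTheory.Limits


/-- Part (1): for the morphism of topoi f : Sh(C) → Sh(D) attached to a continuous functor u : D ⥤ C
between small sites whose induced pullback of sheaves of sets is exact (f_* is restriction along u):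
if f_* transforms epimorphisms of sheaves of sets into epimorphisms, then f_* on abelian sheaves is
exact; being a right adjoint it preserves finite limits, and the statement is that it also preserves
finite colimits. -/
theorem result {C D : Type u} [SmallCategory C] [SmallCategory D]
    (J : GrothendieckTopology C) (K : GrothendieckTopology D) (u : D ⥤ C) [u.IsContinuous K J]
    [PreservesFiniteLimits (u.sheafPullback (Type u) K J)]
    [(u.sheafPushforwardContinuous (Type u) K J).PreservesEpimorphisms] :
    PreservesFiniteColimits (u.sheafPushforwardContinuous AddCommGrpCat.{u} K J) := by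
  let P := u.sheafPushforwardContinuous AddCommGrpCat.{u} K J
  let T := u.sheafPushforwardContinuous (Type u) K J
  let V := CategoryTheory.forget AddCommGrpCat.{u}
  have : P.PreservesEpimorphisms := ⟨fun {A B} f hf => by
    have h1 : Sheaf.IsLocallySurjective f := (Sheaf.isLocallySurjective_iff_epi' _ f).2 hf
    have h2 : Sheaf.IsLocallySurjective ((sheafCompose J V).map f) := inferInstance
    have : Epi ((sheafCompose J V).map f) := Sheaf.epi_of_isLocallySurjective _
    have h3 : Sheaf.IsLocallySurjective (T.map ((sheafCompose J V).map f)) :=
      (Sheaf.isLocallySurjective_iff_epi _).2 (T.map_epi _)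
    have h4 : Sheaf.IsLocallySurjective (P.map f) :=
      (Presheaf.isLocallySurjective_iff_whisker_forget K (P.map f).hom).2 h3
    exact Sheaf.epi_of_isLocallySurjective _⟩
  have : PreservesLimitsOfSize.{0, 0} P :=
    (u.sheafAdjunctionContinuous AddCommGrpCat.{u} K J).rightAdjoint_preservesLimits
  have : P.Additive := Functor.additive_of_preserves_binary_products _
  have := Functor.preservesHomology_of_preservesEpis_and_kernels P
  exact (((P.exact_tfae.out 2 3 :
    P.PreservesHomology ↔ PreservesFiniteLimits P ∧ PreservesFiniteColimits P)).1 this).2

end Groth.Agent.S9121
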