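import Groth.Statements.S9123
import Groth.Agent.Lib.Chaotic25.Qc

set_option autoImplicit false
universe u
open CategoryTheory CategoryTheory.Limits Opposite
open ModSite

namespace Groth.Agent.S9123

/-- Let C be a small category endowed with the chaotic topology (only maximal sieves are covering) and O
a sheaf of commutative rings on it such that for every morphism U → V of C the restriction map O(V)
→ O(U) is a flat ring homomorphism. Then the quasi-coherent O-modules form a weak Serre subcategory
of Mod(O): kernels and cokernels of morphisms between quasi-coherent modules are quasi-coherent, and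
in a short exact sequence 0 → F₁ → F₂ → F₃ → 0 with F₁ and F₃ quasi-coherent, F₂ is quasi-coherent. -/
theorem result {C : Type u} [SmallCategory C]
    (O : Sheaf (⊥ : GrothendieckTopology C) CommRingCat.{u})
    (hO : ∀ (U V : C) (g : U ⟶ V), (O.obj.map g.op).hom.Flat) :
    (∀ (F G : ModSite.Mod O) (α : F ⟶ G), SheafOfModules.IsQuasicoherent (R := ModSite.ringSh O) F → SheafOfModules.IsQuasicoherent (R := ModSite.ringSh O) G →
        SheafOfModules.IsQuasicoherent (R := ModSite.ringSh O) (kernel α) ∧ SheafOfModules.IsQuasicoherent (R := ModSite.ringSh O) (cokernel α)) ∧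
    (∀ (S : ShortComplex (ModSite.Mod O)), S.ShortExact → SheafOfModules.IsQuasicoherent (R := ModSite.ringSh O) S.X₁ → SheafOfModules.IsQuasicoherent (R := ModSite.ringSh O) S.X₃ → SheafOfModules.IsQuasicoherent (R := ModSite.ringSh O) S.X₂) := by
  have hJ := GrothLib.Chaotic25.isChaotic_bot (C := C)
  have e := GrothLib.Chaotic25.isQuasicoherent_iff O hJ
  refine ⟨fun F G α hF hG => ⟨?_, ?_⟩, fun S hS h₁ h₃ => ?_⟩
  · exact (e _).2 (GrothLib.Chaotic25.isGood_kernel O hJ α ((e _).1 hF) ((e _).1 hG) hO)
  · exact (e _).2 (GrothLib.Chaotic25.isGood_cokernel O hJ α ((e _).1 hF) ((e _).1 hG))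
  · exact (e _).2 (GrothLib.Chaotic25.isGood_extension O hJ S hS ((e _).1 h₁) ((e _).1 h₃) hO)

end Groth.Agent.S9123
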