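import Groth.Statements.S9128
import Mathlib
-- import your own Groth.Agent.* helpers here

set_option autoImplicit false
universe u
open CAlg

namespace Groth.Agent.S9128

/-- A Noetherian local ring A is catenary if and only if the assignment sending a prime p to the Krull
dimension of A/p is a dimension function on Spec A, i.e. it decreases strictly along strict
inclusions of primes and drops by exactly one along inclusions with no prime strictly in between. -/
theorem result (A : Type u) [CommRing A] [IsNoetherianRing A]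
    [IsLocalRing A] :
    CAlg.IsCatenary A ↔
      ∀ p q : PrimeSpectrum A, p < q →
        ringKrullDim (A ⧸ q.asIdeal) < ringKrullDim (A ⧸ p.asIdeal) ∧
          (p ⋖ q → ringKrullDim (A ⧸ p.asIdeal) = ringKrullDim (A ⧸ q.asIdeal) + 1) := by
  haveI : Nontrivial A := inferInstance
  have hdim : ∀ p : PrimeSpectrum A, ringKrullDim (A ⧸ p.asIdeal) = (Order.coheight p : ℕ∞) := fun p => by
    rw [ringKrullDim_quotient, Order.coheight_eq_krullDim_Ici]
    have he : PrimeSpectrum.zeroLocus (p.asIdeal : Set A) = Set.Ici p := by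
      ext x; simp [PrimeSpectrum.mem_zeroLocus, ← PrimeSpectrum.asIdeal_le_asIdeal]
    exact Order.krullDim_eq_of_orderIso (OrderIso.setCongr _ _ he)
  have hfin : ∀ p : PrimeSpectrum A, ∃ n : ℕ, Order.coheight p = n := fun p => by
    obtain ⟨d, hd⟩ := ENat.ne_top_iff_exists.1 (Ideal.height_ne_top (I := IsLocalRing.maximalIdeal A)
      (IsLocalRing.maximalIdeal.isMaximal A).ne_top)
    have h1 : ringKrullDim (A ⧸ p.asIdeal) ≤ ((d : ℕ∞) : WithBot ℕ∞) := by
      refine (ringKrullDim_quotient_le p.asIdeal).trans (le_of_eq ?_)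
      rw [← IsLocalRing.maximalIdeal_height_eq_ringKrullDim, ← hd]
    rw [hdim, WithBot.coe_le_coe] at h1
    exact (ENat.ne_top_iff_exists.1 (ne_top_of_le_ne_top (ENat.natCast_ne_top d) h1)).imp fun n hn => hn.symm
  choose c hc using hfin
  have hlt : ∀ p q : PrimeSpectrum A, p < q → c q < c p := fun p q h => by
    have := Order.coheight_strictAnti h (by rw [hc]; exact ENat.natCast_lt_top _)
    rw [hc, hc] at this
    exact_mod_cast this
  have htop : ∀ p : PrimeSpectrum A, p ≤ IsLocalRing.closedPoint A := fun p => IsLocalRing.le_maximalIdeal p.2.ne_top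
  have hcons : ∀ (p : PrimeSpectrum A) (s : LTSeries (PrimeSpectrum A)), p ⋖ s.head →
      (∀ i : Fin s.length, s (Fin.castSucc i) ⋖ s (Fin.succ i)) →
      ∃ u : LTSeries (PrimeSpectrum A), u.head = p ∧ u.last = s.last ∧ u.length = s.length + 1 ∧
        ∀ i : Fin u.length, u (Fin.castSucc i) ⋖ u (Fin.succ i) := by
    intro p s hp hs
    have hu : ∀ i : Fin (s.length + 1), (Fin.cons p s.toFun : Fin (s.length + 2) → PrimeSpectrum A) i.castSucc ⋖
        (Fin.cons p s.toFun : Fin (s.length + 2) → PrimeSpectrum A) i.succ := fun i => by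
      refine Fin.cases ?_ (fun j => ?_) i
      · rw [Fin.castSucc_zero, Fin.cons_zero, Fin.cons_succ]; exact hp
      · rw [Fin.castSucc_succ, Fin.cons_succ, Fin.cons_succ]; exact hs j
    refine ⟨⟨s.length + 1, Fin.cons p s.toFun, fun i => (hu i).lt⟩, rfl, ?_, rfl, hu⟩
    show (Fin.cons p s.toFun : Fin (s.length + 2) → PrimeSpectrum A) (Fin.last (s.length + 1)) = s.last
    rw [← Fin.succ_last, Fin.cons_succ]
    rfl
  have hsat : ∀ n, ∀ p : PrimeSpectrum A, c p = n → ∃ s : LTSeries (PrimeSpectrum A),
      s.head = p ∧ s.last = IsLocalRing.closedPoint A ∧ s.length = n ∧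
        ∀ i : Fin s.length, s (Fin.castSucc i) ⋖ s (Fin.succ i) := by
    intro n
    induction n with
    | zero =>
      intro p hp
      have hm : IsMax p := Order.coheight_eq_zero.1 (by rw [hc, hp]; rfl)
      exact ⟨RelSeries.singleton _ p, rfl, (htop p).antisymm (hm (htop p)), rfl, fun i => i.elim0⟩
    | succ n ih =>
      intro p hp
      obtain ⟨y, hy, hyn⟩ := (Order.coe_lt_coheight_iff (n := n) (x := p) (by rw [hc]; exact ENat.natCast_lt_top _)).1
        (by rw [hc, hp]; exact_mod_cast Nat.lt_succ_self n)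
      rw [hc] at hyn
      obtain ⟨s, h1, h2, h3, h4⟩ := ih y (by exact_mod_cast hyn)
      have hcov : p ⋖ y := ⟨hy, fun z h5 h6 => by
        have := hlt p z h5
        have := hlt z y h6
        have hyn' : c y = n := by exact_mod_cast hyn
        omega⟩
      obtain ⟨u, u1, u2, u3, u4⟩ := hcons p s (h1.symm ▸ hcov) h4
      exact ⟨u, u1, u2.trans h2, by rw [u3, h3], u4⟩
  constructor
  · intro hA p q hpq
    refine ⟨by rw [hdim, hdim, hc, hc]; exact_mod_cast hlt p q hpq, fun hcov => ?_⟩
    obtain ⟨s, s1, s2, s3, s4⟩ := hsat _ p rfl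
    obtain ⟨t, t1, t2, t3, t4⟩ := hsat _ q rfl
    obtain ⟨u, u1, u2, u3, u4⟩ := hcons p t (t1.symm ▸ hcov) t4
    have h1 := hA.2 s u (by rw [u1, s1]) (by rw [u2, t2, s2]) s4 u4
    rw [s3, u3, t3] at h1
    rw [hdim, hdim, hc, hc, h1]
    norm_cast
  · intro h
    have hstep : ∀ p q : PrimeSpectrum A, p ⋖ q → c p = c q + 1 := fun p q hpq => by
      have := (h p q hpq.lt).2 hpq
      rw [hdim, hdim, hc, hc] at this
      exact_mod_cast this
    have hlen : ∀ s : LTSeries (PrimeSpectrum A), (∀ i : Fin s.length, s (Fin.castSucc i) ⋖ s (Fin.succ i)) →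
        c s.last + s.length = c s.head := by
      intro s hs
      have key : ∀ i : Fin (s.length + 1), c (s i) + (i : ℕ) = c s.head := fun i => by
        induction i using Fin.induction with
        | zero => rfl
        | succ i ih =>
          have := hstep _ _ (hs i)
          rw [Fin.val_castSucc] at ih
          rw [Fin.val_succ]
          omega
      exact key (Fin.last _)
    refine ⟨fun p q _ => ⟨c p, fun s hp _ => ?_⟩, fun s t h1 h2 hs ht => ?_⟩
    · have := Order.length_le_coheight (x := p) (p := s) hp.ge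
      rw [hc] at this
      exact_mod_cast this
    · have e1 := hlen s hs
      have e2 := hlen t ht
      rw [h1, h2] at e1
      omega

end Groth.Agent.S9128
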