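import Groth.Statements.S9129
import Groth.Agent.Lib.CMPoly.Basic
import Groth.Agent.Lib.Hensel.Dim
import Groth.Agent.Lib.Dim.Ring
-- import your own Groth.Agent.* helpers here

set_option autoImplicit false
universe u
open CAlg

namespace Groth.Agent.S9129

/-- Suppose R → S is a flat local homomorphism between Noetherian local rings, with R Cohen–Macaulay.
Assume either that S is finite over R or that the Krull dimension of S is at most that of R. Then
the two rings have equal dimension and S is itself Cohen–Macaulay. -/
theorem result (R S : Type u) [CommRing R] [CommRing S]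
    [LocCoh.IsCohenMacaulayLocalRing R] [IsNoetherianRing S] [IsLocalRing S] [Algebra R S]
    [IsLocalHom (algebraMap R S)] [Module.Flat R S]
    (h : Module.Finite R S ∨ ringKrullDim S ≤ ringKrullDim R) :
    LocCoh.IsCohenMacaulayLocalRing S ∧ ringKrullDim R = ringKrullDim S := by
  have : Module.FaithfullyFlat R S := Module.FaithfullyFlat.of_flat_of_isLocalHom
  have h1 : ringKrullDim R ≤ ringKrullDim S := GrothLib.Hensel.ringKrullDim_le_of_faithfullyFlat R S
  have h2 : ringKrullDim S ≤ ringKrullDim R := by
    rcases h with h | h
    · exact GrothLib.Dim.ringKrullDim_le_of_isIntegral R S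
    · exact h
  refine ⟨?_, le_antisymm h1 h2⟩
  obtain ⟨rs, hrs, hmem, hlen⟩ := GrothLib.CMPoly.exists_weaklyRegular R
  refine GrothLib.CMFree.isCohenMacaulayLocalRing_of_weaklyRegular S _ (hrs.of_flat (S := S)) ?_ ?_
  · intro r hr
    obtain ⟨a, ha, rfl⟩ := List.mem_map.1 hr
    exact (IsLocalRing.mem_maximalIdeal _).2 fun hu =>
      (IsLocalRing.mem_maximalIdeal _).1 (hmem a ha) (isUnit_of_map_unit _ _ hu)
  · rw [List.length_map]
    exact h2.trans hlen

end Groth.Agent.S9129
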