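import Groth.Statements.S9130
import Groth.Agent.Lib.Altitude.Basic
-- import your own Groth.Agent.* helpers here

set_option autoImplicit false
universe u
open CAlg

namespace Groth.Agent.S9130

/-- Let A ⊆ B be domains with B of finite type over A and A Noetherian, and assume every element of B is
algebraic over A. For a height-one prime p of A, only finitely many primes of B lie over p and each
of them has height one. (The published statement assumes that Frac(B) is finite over Frac(A); this
row assumes B algebraic over A, which is equivalent for a finite type extension of domains.) -/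
theorem result (A B : Type u) [CommRing A] [IsDomain A]
    [IsNoetherianRing A] [CommRing B] [IsDomain B] [Algebra A B] [FaithfulSMul A B]
    [Algebra.FiniteType A B] [Algebra.IsAlgebraic A B] (p : Ideal A) [p.IsPrime]
    (hp : p.height = 1) :
    (p.primesOver B).Finite ∧ ∀ q ∈ p.primesOver B, q.height = 1 := by
  have : IsNoetherianRing B := Algebra.FiniteType.isNoetherianRing A B
  have ht : ∀ q ∈ p.primesOver B, q.height = 1 := by
    rintro q ⟨hq, hqp⟩
    obtain ⟨t, s, ht, -, hle, -⟩ := GrothLib.Altitude.height_add_trdeg A B p q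
    rw [trdeg_eq_zero] at ht
    have ht0 : t = 0 := by exact_mod_cast ht.symm
    rw [ht0, hp, Nat.cast_zero, add_zero] at hle
    refine le_antisymm (le_self_add.trans hle) (Order.one_le_iff_pos.2 (pos_iff_ne_zero.2 fun h0 => ?_))
    have hq0 : q = ⊥ := Ideal.height_eq_zero_iff_eq_bot.1 h0
    have hp0 : p = ⊥ := by
      rw [hqp.over, hq0]
      exact Ideal.comap_bot_of_injective _ (FaithfulSMul.algebraMap_injective A B)
    rw [hp0, Ideal.height_bot] at hp
    exact zero_ne_one hp
  refine ⟨?_, ht⟩
  refine Set.Finite.subset (Ideal.finite_minimalPrimes_of_isNoetherianRing B (p.map (algebraMap A B))) ?_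
  rintro q ⟨hq, hqp⟩
  refine ⟨⟨hq, Ideal.map_le_iff_le_comap.2 hqp.over.le⟩, fun r ⟨hr, hpr⟩ hrq => ?_⟩
  by_contra hne
  have hlt : r < q := lt_of_le_not_ge hrq hne
  have h1 := Ideal.height_strict_mono_of_isPrime hlt
  rw [ht q ⟨hq, hqp⟩] at h1
  have hr0 : r.height = 0 := ENat.lt_one_iff_eq_zero.1 h1
  have hrb : r = ⊥ := Ideal.height_eq_zero_iff_eq_bot.1 hr0
  have hp0 : p ≤ ⊥ := fun a ha => by
    have := hpr (Ideal.mem_map_of_mem _ ha)
    rw [hrb, Ideal.mem_bot] at this
    exact (map_eq_zero_iff _ (FaithfulSMul.algebraMap_injective A B)).1 this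
  rw [le_bot_iff.1 hp0, Ideal.height_bot] at hp
  exact zero_ne_one hp

end Groth.Agent.S9130
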