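import Groth.Statements.S9132
import Mathlib
-- import your own Groth.Agent.* helpers here

set_option autoImplicit false
universe u
open CAlg

namespace Groth.Agent.S9132

/-- A Noetherian local domain R that is not a field is dominated by a Noetherian local ring R' of
dimension one lying between R and its fraction field, with R' essentially of finite type over R. -/
theorem result (R : Type u) [CommRing R] [IsDomain R]
    [IsNoetherianRing R] [IsLocalRing R] (hR : ¬ IsField R) :
    ∃ R' : Subalgebra R (FractionRing R), ∃ _ : IsLocalRing R',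
      IsNoetherianRing R' ∧ ringKrullDim R' = 1 ∧ IsLocalHom (algebraMap R R') ∧
        Algebra.EssFiniteType R R' := by
  classical
  let K := FractionRing R
  have hinj : Function.Injective (algebraMap R K) := IsFractionRing.injective R K
  obtain ⟨V, hV⟩ := LocalSubring.exists_le_valuationSubring (LocalSubring.range (algebraMap R K))
  have hRV : ∀ a, algebraMap R K a ∈ V := fun a => hV.1 ⟨a, rfl⟩
  have hdom : ∀ a ∈ IsLocalRing.maximalIdeal R, V.valuation (algebraMap R K a) < 1 := by
    intro a ha
    have hle := V.valuation_le_one ⟨algebraMap R K a, hRV a⟩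
    refine lt_of_le_of_ne hle fun h1 => ?_
    have hu : IsUnit (⟨algebraMap R K a, hRV a⟩ : V) := (ValuationSubring.valuation_eq_one_iff V _).2 h1
    have := hV.2.1 (⟨algebraMap R K a, ⟨a, rfl⟩⟩ : (algebraMap R K).range) hu
    obtain ⟨⟨_, b, rfl⟩, hb⟩ := this.exists_right_inv
    have hab : a * b = 1 := hinj (by rw [map_mul, map_one]; exact congrArg Subtype.val hb)
    exact (IsLocalRing.mem_maximalIdeal _).1 ha (IsUnit.of_mul_eq_one _ hab)
  obtain ⟨s, hs⟩ := (IsLocalRing.maximalIdeal R).fg_of_isNoetherianRing
  have hne : s.Nonempty := by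
    rw [Finset.nonempty_iff_ne_empty]
    rintro rfl
    rw [Finset.coe_empty, Ideal.span_empty] at hs
    exact hR ((IsLocalRing.isField_iff_maximalIdeal_eq).2 hs.symm)
  have hne' : ∃ a ∈ s, a ≠ 0 := by
    by_contra hc
    push Not at hc
    refine hR ((IsLocalRing.isField_iff_maximalIdeal_eq).2 (hs ▸ ?_))
    exact Submodule.span_eq_bot.2 fun x hx => hc x hx
  obtain ⟨a, has, hmax⟩ := s.exists_max_image (fun a => V.valuation (algebraMap R K a)) hne
  have ha0 : a ≠ 0 := by
    obtain ⟨b, hb, hb0⟩ := hne'
    intro h0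
    have := hmax b hb
    rw [h0, map_zero, map_zero, le_zero_iff, map_eq_zero, map_eq_zero_iff _ hinj] at this
    exact hb0 this
  have ha0' : algebraMap R K a ≠ 0 := (map_ne_zero_iff _ hinj).2 ha0
  have ham : a ∈ IsLocalRing.maximalIdeal R := hs ▸ Submodule.subset_span has
  let B : Subalgebra R K := Algebra.adjoin R ((fun b => algebraMap R K b / algebraMap R K a) '' (s : Set R))
  have hBV : ∀ z ∈ B, z ∈ V := by
    intro z hz
    induction hz using Algebra.adjoin_induction with
    | mem z hz =>
      obtain ⟨b, hb, rfl⟩ := hz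
      rw [← ValuationSubring.valuation_le_one_iff, map_div₀]
      exact div_le_one_of_le₀ (hmax b hb) zero_le'
    | algebraMap r => exact hRV r
    | add x y _ _ hx hy => exact V.add_mem _ _ hx hy
    | mul x y _ _ hx hy => exact V.mul_mem _ _ hx hy
  have hBfin : Algebra.FiniteType R B :=
    (Subalgebra.fg_iff_finiteType B).1 (Subalgebra.fg_def.2 ⟨_, s.finite_toSet.image _, rfl⟩)
  have hBnoeth : IsNoetherianRing B := Algebra.FiniteType.isNoetherianRing R B
  let a' : B := algebraMap R B a
  let I : Ideal B := Ideal.span {a'}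
  have hItop : I ≠ ⊤ := by
    intro h
    obtain ⟨c, hc⟩ := isUnit_iff_exists_inv.1 (Ideal.span_singleton_eq_top.1 h)
    have h1 := congrArg (fun z : B => V.valuation (z : K)) hc
    simp only [Subalgebra.coe_mul, Subalgebra.coe_one, map_mul, map_one] at h1
    have hlt : V.valuation (algebraMap R K a) * V.valuation (c : K) < 1 :=
      mul_lt_one_of_lt_of_le (hdom a ham) (V.valuation_le_one ⟨c, hBV c c.2⟩)
    exact hlt.ne h1
  obtain ⟨m₀, hm₀, hIm₀⟩ := Ideal.exists_le_maximal I hItop
  obtain ⟨P, hP, -⟩ := Ideal.exists_minimalPrimes_le hIm₀ (J := m₀)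
  have hPp : P.IsPrime := hP.1.1
  have hPa : a' ∈ P := hP.1.2 (Ideal.mem_span_singleton_self _)
  have hPh : P.height = 1 := by
    have : (Ideal.span {a'}).IsPrincipal := ⟨a', rfl⟩
    refine le_antisymm (Ideal.height_le_one_of_isPrincipal_of_mem_minimalPrimes _ _ hP) ?_
    refine Order.one_le_iff_pos.2 (pos_iff_ne_zero.2 fun h0 => ?_)
    have hPb := Ideal.height_eq_zero_iff_eq_bot.1 h0
    rw [hPb, Ideal.mem_bot] at hPa
    exact ha0' (congrArg Subtype.val hPa)
  have : IsFractionRing B K := IsFractionRing.of_field B K fun z => by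
    obtain ⟨u, v, hv, rfl⟩ := IsFractionRing.div_surjective R z
    exact ⟨algebraMap R B u, algebraMap R B v, rfl⟩
  let R₁ : Subalgebra B K := Localization.subalgebra.ofField K P.primeCompl P.primeCompl_le_nonZeroDivisors
  have hloc : IsLocalization.AtPrime R₁ P :=
    Localization.subalgebra.isLocalization_ofField K P.primeCompl P.primeCompl_le_nonZeroDivisors
  let R' : Subalgebra R K := R₁.restrictScalars R
  have hL : IsLocalRing R₁ := IsLocalization.AtPrime.isLocalRing R₁ P
  refine ⟨R', hL, IsLocalization.isNoetherianRing P.primeCompl R₁ hBnoeth, ?_, ?_, ?_⟩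
  · show ringKrullDim R₁ = 1
    rw [IsLocalization.AtPrime.ringKrullDim_eq_height P R₁, hPh]
    rfl
  · refine ⟨fun r hr => ?_⟩
    by_contra hnu
    have hru : IsUnit (algebraMap B R₁ (algebraMap R B r)) := hr
    rw [IsLocalization.AtPrime.isUnit_to_map_iff R₁ P] at hru
    refine hru ?_
    have hrm : r ∈ IsLocalRing.maximalIdeal R := hnu
    rw [← hs] at hrm
    have hle : IsLocalRing.maximalIdeal R ≤ P.comap (algebraMap R B) := by
      rw [← hs]
      refine Submodule.span_le.2 fun b hb => ?_
      let d : B := ⟨algebraMap R K b / algebraMap R K a, Algebra.subset_adjoin ⟨b, hb, rfl⟩⟩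
      have : algebraMap R B b = a' * d := Subtype.ext (mul_div_cancel₀ _ ha0').symm
      show algebraMap R B b ∈ P
      rw [this]
      exact P.mul_mem_right _ hPa
    exact hle (hs ▸ hrm)
  · show Algebra.EssFiniteType R R₁
    have : Algebra.EssFiniteType B R₁ := Algebra.EssFiniteType.of_isLocalization R₁ P.primeCompl
    exact Algebra.EssFiniteType.comp R B R₁

end Groth.Agent.S9132
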