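import Groth.Statements.S9133
import Groth.Agent.Lib.DimOneLen.Basic
import Mathlib
-- import your own Groth.Agent.* helpers here

set_option autoImplicit false
universe u
open CAlg

namespace Groth.Agent.S9133

/-- Let R → S be a homomorphism of domains compatible with field maps K → L of their fraction fields (so
R → S is injective), where R is Noetherian local of dimension one and L is finite over K. Then each
prime n of S whose contraction to R is the maximal ideal of R is a maximal ideal of S, only finitely
many such n exist, and each quotient S/n is a finite R-module (its residue field is a finite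
extension of that of R). -/
theorem result (R S K L : Type u)
    [CommRing R] [IsDomain R] [IsNoetherianRing R] [IsLocalRing R] (hdim : ringKrullDim R = 1)
    [CommRing S] [IsDomain S] [Algebra R S] [Field K] [Field L] [Algebra R K] [IsFractionRing R K]
    [Algebra S L] [IsFractionRing S L] [Algebra K L] [Algebra R L] [IsScalarTower R K L]
    [IsScalarTower R S L] [FiniteDimensional K L] :
    (∀ n ∈ (IsLocalRing.maximalIdeal R).primesOver S, n.IsMaximal) ∧
      ((IsLocalRing.maximalIdeal R).primesOver S).Finite ∧
      ∀ n ∈ (IsLocalRing.maximalIdeal R).primesOver S, Module.Finite R (S ⧸ n) := by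
  have : Ring.KrullDimLE 1 R := (Ring.krullDimLE_iff).2 hdim.le
  obtain ⟨x, hxm, hx⟩ : ∃ x ∈ IsLocalRing.maximalIdeal R, x ≠ 0 := by
    by_contra hc
    push Not at hc
    have hF : IsField R := by
      rw [IsLocalRing.isField_iff_maximalIdeal_eq, eq_bot_iff]
      exact fun x hx => hc x hx
    rw [ringKrullDim_eq_zero_of_isField hF] at hdim
    exact zero_ne_one hdim
  let f : S →ₗ[R] L := (IsScalarTower.toAlgHom R S L).toLinearMap
  have hf : Function.Injective f := IsFractionRing.injective S L
  let M : Submodule R L := LinearMap.range f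
  have hlen := GrothLib.DimOneLen.length_quotient_le (K := K) M hx
  have hfin : Module.length R (M ⧸ (Ideal.span {x} • ⊤ : Submodule R M)) ≠ ⊤ := by
    refine ne_top_of_le_ne_top ?_ hlen
    refine WithTop.mul_ne_top (ENat.natCast_ne_top _) (Module.length_ne_top_iff.2 ?_)
    exact GrothLib.DimOneLen.isFiniteLength_of_smul_eq_zero hx fun y => by
      obtain ⟨r, rfl⟩ := Ideal.Quotient.mk_surjective y
      exact Ideal.Quotient.eq_zero_iff_mem.2 (Ideal.mem_span_singleton.2 (dvd_mul_right x r))
  let I : Ideal S := Ideal.span {algebraMap R S x}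
  let e : S ≃ₗ[R] M := LinearEquiv.ofInjective f hf
  let g : M →ₗ[R] S ⧸ I := (Ideal.Quotient.mkₐ R I).toLinearMap ∘ₗ e.symm.toLinearMap
  have hg : Function.Surjective g := Ideal.Quotient.mk_surjective.comp e.symm.surjective
  have hgk : (Ideal.span {x} • ⊤ : Submodule R M) ≤ LinearMap.ker g := by
    rw [Submodule.ideal_span_singleton_smul]
    rintro _ ⟨m, -, rfl⟩
    rw [LinearMap.mem_ker]
    show g (x • m) = 0
    simp only [g, LinearMap.comp_apply, map_smul, LinearEquiv.coe_coe]
    rw [Algebra.smul_def]
    show algebraMap R (S ⧸ I) x * _ = 0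
    rw [IsScalarTower.algebraMap_apply R S (S ⧸ I), Ideal.Quotient.algebraMap_eq,
      Ideal.Quotient.eq_zero_iff_mem.2 (Ideal.mem_span_singleton_self _), zero_mul]
  have hlenS : Module.length R (S ⧸ I) ≠ ⊤ := by
    refine ne_top_of_le_ne_top hfin (Module.length_le_of_surjective (Submodule.liftQ _ g hgk) fun y => ?_)
    obtain ⟨m, rfl⟩ := hg y
    exact ⟨Submodule.Quotient.mk m, rfl⟩
  obtain ⟨hN, hA⟩ := isFiniteLength_iff_isNoetherian_isArtinian.mp (Module.length_ne_top_iff.1 hlenS)
  have : IsArtinianRing (S ⧸ I) := isArtinian_of_tower R hA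
  have : Module.Finite R (S ⧸ I) := ⟨IsNoetherian.noetherian ⊤⟩
  have hmem : ∀ n ∈ (IsLocalRing.maximalIdeal R).primesOver S, I ≤ n := by
    rintro n ⟨hn, hnm⟩
    rw [Ideal.span_singleton_le_iff_mem]
    have : x ∈ n.under R := hnm.over ▸ hxm
    exact this
  have hmax : ∀ n ∈ (IsLocalRing.maximalIdeal R).primesOver S, n.IsMaximal := by
    intro n hn
    have := hn.1
    have hp : (n.map (Ideal.Quotient.mk I)).IsPrime := Ideal.isPrime_map_quotientMk_of_isPrime (hmem n hn)
    have : (n.map (Ideal.Quotient.mk I)).IsMaximal := hp.isMaximal'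
    have h2 := Ideal.comap_isMaximal_of_surjective (Ideal.Quotient.mk I) Ideal.Quotient.mk_surjective
      (K := n.map (Ideal.Quotient.mk I))
    rwa [Ideal.comap_map_of_surjective _ Ideal.Quotient.mk_surjective, ← RingHom.ker_eq_comap_bot,
      Ideal.mk_ker, sup_eq_left.2 (hmem n hn)] at h2
  refine ⟨hmax, ?_, fun n hn => ?_⟩
  · have hfinP : Finite (PrimeSpectrum (S ⧸ I)) := inferInstance
    refine Set.Finite.subset (Set.finite_range fun P : PrimeSpectrum (S ⧸ I) =>
      P.asIdeal.comap (Ideal.Quotient.mk I)) fun n hn => ?_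
    have := hn.1
    refine ⟨⟨_, Ideal.isPrime_map_quotientMk_of_isPrime (hmem n hn)⟩, ?_⟩
    show (n.map _).comap _ = n
    rw [Ideal.comap_map_of_surjective _ Ideal.Quotient.mk_surjective, ← RingHom.ker_eq_comap_bot,
      Ideal.mk_ker, sup_eq_left.2 (hmem n hn)]
  · exact Module.Finite.of_surjective (Ideal.Quotient.factorₐ R (hmem n hn)).toLinearMap
      (Ideal.Quotient.factor_surjective (hmem n hn))

end Groth.Agent.S9133
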