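import Groth.Statements.S9135
import Mathlib

set_option autoImplicit false
universe u
open CAlg

namespace Groth.Agent.S9135

/-- Let R → S be of finite type and p a minimal prime of R over which only finitely many primes of S
lie. Then for some g ∈ R outside p the localized map R_g → S_g is finite. -/
theorem result (R S : Type u) [CommRing R] [CommRing S]
    [Algebra R S] [Algebra.FiniteType R S] (p : Ideal R) (hp : p ∈ minimalPrimes R)
    (hfin : (p.primesOver S).Finite) :
    ∃ g : R, g ∉ p ∧ (Localization.awayMap (algebraMap R S) g).Finite := by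
  classical
  haveI : p.IsPrime := hp.1.1
  let M := p.primeCompl
  let A := Localization.AtPrime p
  let MS := Algebra.algebraMapSubmonoid S M
  let T := Localization MS
  letI : Algebra A T := localizationAlgebra M S
  haveI : IsScalarTower R A T := IsScalarTower.of_algebraMap_eq fun x => by
    rw [RingHom.algebraMap_toAlgebra, IsScalarTower.algebraMap_apply R S T]
    exact (IsLocalization.map_eq _ x).symm
  let 𝔪 := IsLocalRing.maximalIdeal A
  let I : Ideal T := 𝔪.map (algebraMap A T)
  let F := T ⧸ I
  letI : Field (A ⧸ 𝔪) := Ideal.Quotient.field 𝔪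
  haveI : Algebra.FiniteType A T := by
    obtain ⟨s, hs⟩ := (inferInstance : Algebra.FiniteType R S)
    refine ⟨⟨s.image (algebraMap S T), eq_top_iff.2 fun z _ => ?_⟩⟩
    have hmem : ∀ a : S, algebraMap S T a ∈ Algebra.adjoin A (↑(s.image (algebraMap S T)) : Set T) := by
      intro a
      have ha : a ∈ Algebra.adjoin R (↑s : Set S) := hs ▸ Algebra.mem_top
      induction ha using Algebra.adjoin_induction with
      | mem x hx => exact Algebra.subset_adjoin (by simpa using ⟨x, hx, rfl⟩)
      | algebraMap r =>
        rw [← IsScalarTower.algebraMap_apply R S T, IsScalarTower.algebraMap_apply R A T]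
        exact Subalgebra.algebraMap_mem _ _
      | add x y _ _ hx hy => rw [map_add]; exact add_mem hx hy
      | mul x y _ _ hx hy => rw [map_mul]; exact mul_mem hx hy
    obtain ⟨a, ⟨_, r, hr, rfl⟩, rfl⟩ := IsLocalization.exists_mk'_eq MS z
    obtain ⟨u, hu⟩ := IsLocalization.map_units A ⟨r, hr⟩
    have e : IsLocalization.mk' T a ⟨algebraMap R S r, (show algebraMap R S r ∈ MS from ⟨r, hr, rfl⟩)⟩
        = algebraMap S T a * algebraMap A T (↑u⁻¹ : A) := by
      rw [IsLocalization.mk'_eq_iff_eq_mul]
      show algebraMap S T a = _ * algebraMap S T (algebraMap R S r)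
      rw [← IsScalarTower.algebraMap_apply R S T, IsScalarTower.algebraMap_apply R A T, mul_assoc,
        ← map_mul, show algebraMap R A r = u from hu.symm, Units.inv_mul, map_one, mul_one]
    rw [e]
    exact mul_mem (hmem a) (Subalgebra.algebraMap_mem _ _)
  haveI : Algebra.FiniteType (A ⧸ 𝔪) F := Algebra.FiniteType.of_restrictScalars_finiteType A _ _
  haveI : Finite (PrimeSpectrum F) := by
    haveI := hfin.to_subtype
    have hmk : ∀ Q : PrimeSpectrum F,
        (Q.asIdeal.comap ((Ideal.Quotient.mk I).comp (algebraMap S T))) ∈ p.primesOver S := fun Q => by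
      refine ⟨Ideal.IsPrime.comap _, ⟨(hp.2 ⟨Ideal.IsPrime.comap _, bot_le⟩ ?_).antisymm ?_⟩⟩
      · intro r hr
        by_contra hrp
        have hu : IsUnit (algebraMap S T (algebraMap R S r)) :=
          IsLocalization.map_units T (M := MS) ⟨_, (show algebraMap R S r ∈ MS from ⟨r, hrp, rfl⟩)⟩
        exact Q.isPrime.ne_top (Ideal.eq_top_of_isUnit_mem _ hr (hu.map (Ideal.Quotient.mk I)))
      · intro r hr
        by_contra hrp
        have hu : IsUnit (algebraMap S T (algebraMap R S r)) :=
          IsLocalization.map_units T (M := MS) ⟨_, (show algebraMap R S r ∈ MS from ⟨r, hrp, rfl⟩)⟩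
        exact Q.isPrime.ne_top (Ideal.eq_top_of_isUnit_mem _ hr (hu.map (Ideal.Quotient.mk I)))
    refine Finite.of_injective (fun Q : PrimeSpectrum F => (⟨_, hmk Q⟩ : p.primesOver S)) fun P Q h => ?_
    have h' := congrArg (fun J => Ideal.map (algebraMap S T) J) (congrArg Subtype.val h)
    simp only [← Ideal.comap_comap] at h'
    rw [IsLocalization.map_comap MS, IsLocalization.map_comap MS] at h'
    exact PrimeSpectrum.ext (Ideal.comap_injective_of_surjective _ Ideal.Quotient.mk_surjective h')
  haveI : Module.Finite (A ⧸ 𝔪) F := by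
    rw [Module.finite_iff_isArtinianRing, isArtinianRing_iff_isNoetherianRing_krullDimLE_zero]
    haveI : IsJacobsonRing F := isJacobsonRing_of_finiteType (A := A ⧸ 𝔪)
    haveI : IsNoetherianRing F := Algebra.FiniteType.isNoetherianRing (A ⧸ 𝔪) _
    exact ⟨inferInstance,
      (PrimeSpectrum.discreteTopology_iff_finite_and_krullDimLE_zero.mp inferInstance).right⟩
  have hnil : I ≤ nilradical T := by
    refine Ideal.map_le_iff_le_comap.2 fun a ha => ?_
    rw [Ideal.mem_comap, mem_nilradical]
    refine IsNilpotent.map ?_ _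
    rw [← mem_nilradical, nilradical_eq_sInf, Submodule.mem_sInf]
    intro (P : Ideal A) (hP : P.IsPrime)
    have hle : P.comap (algebraMap R A) ≤ p := fun r hr => by
      by_contra hrp
      exact hP.ne_top (Ideal.eq_top_of_isUnit_mem _ hr (IsLocalization.map_units A (⟨r, hrp⟩ : M)))
    have heq : P.comap (algebraMap R A) = p := hle.antisymm (hp.2 ⟨Ideal.IsPrime.comap _, bot_le⟩ hle)
    rw [← IsLocalization.map_comap M A P, show Ideal.under R P = p from heq,
      Localization.AtPrime.map_eq_maximalIdeal]
    exact ha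
  have key : ∀ x : S, IsIntegral A (algebraMap S T x) := fun x => by
    haveI : Module.Finite A F := Module.Finite.trans (A ⧸ 𝔪) F
    obtain ⟨P, hP, hPx⟩ := Algebra.IsIntegral.isIntegral (R := A) (Ideal.Quotient.mk I (algebraMap S T x))
    have hev : Polynomial.eval₂ (algebraMap A T) (algebraMap S T x) P ∈ I := by
      rw [← Ideal.Quotient.eq_zero_iff_mem, Polynomial.hom_eval₂]
      exact hPx
    obtain ⟨N, hN⟩ := mem_nilradical.1 (hnil hev)
    exact ⟨P ^ N, hP.pow N, by rw [Polynomial.eval₂_pow, hN]⟩
  have key' : ∀ x : S, ∃ g : R, g ∉ p ∧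
      ∀ (G : R) (_ : g ∣ G), (Localization.awayMap (algebraMap R S) G).IsIntegralElem
        (algebraMap S (Localization.Away (algebraMap R S G)) x) := fun x => by
    obtain ⟨⟨m, hm⟩, hi⟩ := IsIntegral.exists_multiple_integral_of_isLocalization M _ (key x)
    obtain ⟨Q, hQ, hQx⟩ := hi
    have hz : algebraMap S T (Polynomial.eval₂ (algebraMap R S) (algebraMap R S m * x) Q) =
        algebraMap S T 0 := by
      rw [Polynomial.hom_eval₂, ← IsScalarTower.algebraMap_eq, map_mul, map_zero,
        ← IsScalarTower.algebraMap_apply, ← Algebra.smul_def]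
      exact hQx
    obtain ⟨⟨_, c, hc, rfl⟩, hcz⟩ := (IsLocalization.eq_iff_exists MS T).1 hz
    rw [mul_zero] at hcz
    refine ⟨m * c, fun h => ((‹p.IsPrime›).mem_or_mem h).elim hm hc, fun G hG => ?_⟩
    set Sg := Localization.Away (algebraMap R S G)
    set φ := algebraMap S Sg
    set f := Localization.awayMap (algebraMap R S) G
    have hf : ∀ r, f (algebraMap R (Localization.Away G) r) = φ (algebraMap R S r) := fun r =>
      IsLocalization.map_eq _ r
    have hu : ∀ d, d ∣ G → IsUnit (algebraMap R (Localization.Away G) d) := fun d hd =>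
      isUnit_of_dvd_unit (map_dvd _ hd) (IsLocalization.Away.algebraMap_isUnit G)
    have hcm : IsUnit (φ (algebraMap R S c)) := hf c ▸ (hu c ((dvd_mul_left c m).trans hG)).map f
    have h1 : f.IsIntegralElem (φ (algebraMap R S m * x)) := by
      refine ⟨Q.map (algebraMap R (Localization.Away G)), hQ.map _, ?_⟩
      rw [Polynomial.eval₂_map, show f.comp (algebraMap R (Localization.Away G)) =
        φ.comp (algebraMap R S) from RingHom.ext hf, ← Polynomial.hom_eval₂]
      refine hcm.mul_right_eq_zero.1 ?_
      rw [← map_mul, hcz, map_zero]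
    obtain ⟨u, hu'⟩ := hu m ((dvd_mul_right m c).trans hG)
    have h2 : φ x = f (↑u⁻¹) * φ (algebraMap R S m * x) := by
      rw [map_mul, ← hf, ← hu', ← mul_assoc, ← map_mul, Units.inv_mul, map_one, one_mul]
    rw [h2]
    exact RingHom.IsIntegralElem.mul f (f.isIntegralElem_map) h1
  choose g hg hgi using key'
  obtain ⟨s, hs⟩ := (inferInstance : Algebra.FiniteType R S)
  refine ⟨∏ x ∈ s, g x, fun h => ?_, ?_⟩
  · obtain ⟨x, -, hx⟩ := (Ideal.IsPrime.prod_mem_iff).1 h
    exact hg x hx
  set G := ∏ x ∈ s, g x
  set φ := algebraMap S (Localization.Away (algebraMap R S G))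
  set f := Localization.awayMap (algebraMap R S) G
  have hf : ∀ r, f (algebraMap R (Localization.Away G) r) = φ (algebraMap R S r) := fun r =>
    IsLocalization.map_eq _ r
  refine RingHom.IsIntegral.to_finite (fun z => ?_) ?_
  · have hall : ∀ a : S, f.IsIntegralElem (φ a) := fun a => by
      have ha : a ∈ Algebra.adjoin R (↑s : Set S) := hs ▸ Algebra.mem_top
      induction ha using Algebra.adjoin_induction with
      | mem x hx => exact hgi x G (Finset.dvd_prod_of_mem g hx)
      | algebraMap r => rw [← hf]; exact f.isIntegralElem_map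
      | add x y _ _ hx hy => rw [map_add]; exact hx.add f hy
      | mul x y _ _ hx hy => rw [map_mul]; exact hx.mul f hy
    obtain ⟨n, a, ha⟩ := IsLocalization.Away.surj (algebraMap R S G) z
    obtain ⟨u, hu⟩ := IsLocalization.Away.algebraMap_isUnit (S := Localization.Away G) G
    have e : z = φ a * f (↑u⁻¹ ^ n) := by
      rw [← ha, ← hf, ← hu, ← map_pow, mul_assoc, ← map_mul, ← mul_pow, Units.mul_inv, one_pow,
        map_one, mul_one]
    rw [e]
    exact (hall a).mul f f.isIntegralElem_map
  · refine RingHom.FiniteType.of_comp_finiteType (f := algebraMap R (Localization.Away G)) ?_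
    rw [show f.comp (algebraMap R (Localization.Away G)) = φ.comp (algebraMap R S) from RingHom.ext hf]
    exact RingHom.FiniteType.comp
      (RingHom.finiteType_algebraMap.2 inferInstance) (RingHom.finiteType_algebraMap.2 inferInstance)

end Groth.Agent.S9135
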