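import Groth.Statements.S9136
import Groth.Agent.Lib.DimOneLen.Basic
import Groth.Agent.Lib.CycPush.Algebra
import Groth.Agent.S9133
import Mathlib

set_option autoImplicit false
universe u
open CAlg

namespace Groth.Agent.S9136

open GrothLib.DimOneLen

section

variable {R : Type u} [CommRing R] [IsDomain R] [IsNoetherianRing R]
  {K : Type u} [Field K] [Algebra R K] [IsFractionRing R K]
  {V : Type u} [AddCommGroup V] [Module K V] [Module R V] [IsScalarTower R K V] [FiniteDimensional K V]

variable (K) in
include K in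
theorem injective_smul (N : Submodule R V) {x : R} (hx : x ≠ 0) : Function.Injective fun v : N => x • v :=
  fun p q h => Subtype.ext (by
    have h' : algebraMap R K x • (p : V) = algebraMap R K x • (q : V) := by
      rw [algebraMap_smul, algebraMap_smul]
      exact congrArg Subtype.val h
    exact smul_right_injective V ((map_ne_zero_iff _ (IsFractionRing.injective R K)).mpr hx) h')

/-- `length (N/xN) = rank * length (R/x)` for a lattice. -/
theorem length_quotient_eq_of_fg [Ring.KrullDimLE 1 R] (N : Submodule R V) (hN : N.FG)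
    (hspan : Submodule.span K (N : Set V) = ⊤) {x : R} (hx : x ≠ 0) :
    Module.length R (N ⧸ (Ideal.span {x} • ⊤ : Submodule R N)) =
      Module.finrank K V * Module.length R (R ⧸ Ideal.span {x}) := by
  classical
  obtain ⟨b, hb⟩ : ∃ b : Module.Basis (Fin (Module.finrank K V)) K V, ∀ i, b i ∈ N := by
    obtain ⟨t, htN, hspt, hli⟩ := exists_linearIndependent K (N : Set V)
    rw [hspan] at hspt
    have : Finite t := hli.finite
    let b0 : Module.Basis t K V := Module.Basis.mk hli (by simp [hspt])
    have e : t ≃ Fin (Module.finrank K V) :=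
      (Finite.equivFin t).trans (finCongr (Module.finrank_eq_nat_card_basis b0).symm)
    exact ⟨b0.reindex e, fun i => by
      rw [Module.Basis.reindex_apply, Module.Basis.mk_apply]; exact htN (e.symm i).2⟩
  obtain ⟨ι, hι⟩ : ∃ ι : (Fin (Module.finrank K V) → R) →ₗ[R] N, ∀ c, (ι c : V) = ∑ i, c i • b i :=
    ⟨LinearMap.codRestrict N (Fintype.linearCombination R (fun i => b i)) (fun c => by
      rw [Fintype.linearCombination_apply]
      exact N.sum_mem fun i _ => N.smul_mem _ (hb i)), fun c => Fintype.linearCombination_apply ..⟩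
  have hli : LinearIndependent R (fun i => b i) := b.linearIndependent.restrict_scalars (fun p q h => by
    simpa [Algebra.smul_def] using (IsFractionRing.injective R K).eq_iff.mp (by simpa [Algebra.smul_def] using h))
  have hinj : Function.Injective ι := by
    rw [injective_iff_map_eq_zero]
    intro c hc
    exact funext (Fintype.linearIndependent_iff.1 hli c (by rw [← hι, hc]; rfl))
  obtain ⟨d, hd, hdN⟩ := exists_smul_le (K := K) (Submodule.span R (Set.range b)) N hN (by
    intro v _
    have hv : v ∈ Submodule.span K (Set.range b) := by rw [b.span_eq]; trivial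
    exact Submodule.span_mono Submodule.subset_span hv)
  haveI : Module.Finite R N := Module.Finite.iff_fg.mpr hN
  have hT : Module.length R (N ⧸ LinearMap.range ι) ≠ ⊤ := by
    refine Module.length_ne_top_iff.mpr (isFiniteLength_of_smul_eq_zero hd fun y => ?_)
    obtain ⟨z, rfl⟩ := Submodule.Quotient.mk_surjective _ y
    rw [← Submodule.Quotient.mk_smul, Submodule.Quotient.mk_eq_zero]
    obtain ⟨c, hc⟩ := (Submodule.mem_span_range_iff_exists_fun R).1 (hdN _ z.2)
    exact ⟨c, Subtype.ext ((hι c).trans hc)⟩
  rw [length_quotient_smul_eq ι hinj hT (injective_smul K N hx)]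
  obtain ⟨p, hp⟩ : ∃ p : (Fin (Module.finrank K V) → R) →ₗ[R] (Fin (Module.finrank K V) → R ⧸ Ideal.span {x}),
      ∀ c i, p c i = Ideal.Quotient.mk _ (c i) :=
    ⟨LinearMap.pi fun i => (Ideal.Quotient.mkₐ R (Ideal.span {x})).toLinearMap ∘ₗ LinearMap.proj i, fun _ _ => rfl⟩
  have hker : LinearMap.ker p = (Ideal.span {x} • ⊤ : Submodule R (Fin (Module.finrank K V) → R)) := by
    ext c
    rw [LinearMap.mem_ker, mem_span_smul_top]
    refine ⟨fun h => ?_, ?_⟩
    · have h' : ∀ i, ∃ w, w * x = c i := fun i =>
        Ideal.mem_span_singleton'.1 (Ideal.Quotient.eq_zero_iff_mem.1 (by rw [← hp, h]; rfl))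
      choose w hw using h'
      exact ⟨w, funext fun i => by rw [Pi.smul_apply, smul_eq_mul, mul_comm, hw]⟩
    · rintro ⟨w, rfl⟩
      ext i
      rw [hp, Pi.zero_apply, Pi.smul_apply, smul_eq_mul]
      exact Ideal.Quotient.eq_zero_iff_mem.2 (Ideal.mul_mem_right _ _ (Ideal.mem_span_singleton_self x))
  have hsurj : Function.Surjective p := fun y => by
    choose c hc using fun i => Ideal.Quotient.mk_surjective (y i)
    exact ⟨c, funext fun i => by rw [hp, hc]⟩
  rw [((Submodule.quotEquivOfEq _ _ hker.symm).trans (LinearMap.quotKerEquivOfSurjective p hsurj)).length_eq,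
    Module.length_pi, ENat.card_eq_coe_fintype_card, Fintype.card_fin]

/-- Equality in Krull–Akizuki forces finite generation. -/
theorem fg_of_length_eq [IsLocalRing R] [Ring.KrullDimLE 1 R] (M : Submodule R V)
    (hspan : Submodule.span K (M : Set V) = ⊤) {x : R} (hxm : x ∈ IsLocalRing.maximalIdeal R) (hx : x ≠ 0)
    (heq : Module.length R (M ⧸ (Ideal.span {x} • ⊤ : Submodule R M)) =
      Module.finrank K V * Module.length R (R ⧸ Ideal.span {x})) : M.FG := by
  classical
  have hfin : Module.length R (M ⧸ (Ideal.span {x} • ⊤ : Submodule R M)) ≠ ⊤ := by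
    rw [heq]
    exact WithTop.mul_ne_top (ENat.natCast_ne_top _) (Ring.ord_ne_top (mem_nonZeroDivisors_of_ne_zero hx))
  obtain ⟨hQ, -⟩ := isFiniteLength_iff_isNoetherian_isArtinian.mp (Module.length_ne_top_iff.mp hfin)
  obtain ⟨s, hs⟩ := (IsNoetherian.noetherian (⊤ : Submodule R (M ⧸ (Ideal.span {x} • ⊤ : Submodule R M))))
  choose g hg using Submodule.Quotient.mk_surjective (Ideal.span {x} • ⊤ : Submodule R M)
  obtain ⟨t, htM, hspt, hli⟩ := exists_linearIndependent K (M : Set V)
  have htf : t.Finite := hli.setFinite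
  rw [hspan] at hspt
  obtain ⟨N, hN⟩ : ∃ N : Submodule R V, N = Submodule.span R (t ∪ ((fun q => (g q : V)) '' (s : Set _))) := ⟨_, rfl⟩
  have hNfg : N.FG := hN ▸ Submodule.fg_span (htf.union (s.finite_toSet.image _))
  have hNM : N ≤ M := hN ▸ Submodule.span_le.2 (Set.union_subset htM (by rintro _ ⟨q, -, rfl⟩; exact (g q).2))
  have hNspan : Submodule.span K (N : Set V) = ⊤ := eq_top_iff.2 (hspt ▸ Submodule.span_mono
    (fun v hv => hN ▸ Submodule.subset_span (Or.inl hv)))
  obtain ⟨f, hf⟩ : ∃ f : (N ⧸ (Ideal.span {x} • ⊤ : Submodule R N)) →ₗ[R] (M ⧸ (Ideal.span {x} • ⊤ : Submodule R M)),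
      ∀ v, f (Submodule.Quotient.mk v) = Submodule.Quotient.mk (Submodule.inclusion hNM v) :=
    ⟨Submodule.mapQ _ _ (Submodule.inclusion hNM) (by
      rw [← Submodule.map_le_iff_le_comap, Submodule.map_smul'']
      exact smul_mono_right _ le_top), fun _ => rfl⟩
  have hfs : Function.Surjective f := by
    rw [← LinearMap.range_eq_top, eq_top_iff, ← hs, Submodule.span_le]
    exact fun q hq => ⟨Submodule.Quotient.mk ⟨(g q : V), hN ▸ Submodule.subset_span (Or.inr ⟨q, hq, rfl⟩)⟩,
      (hf _).trans (hg q)⟩
  have hfi : Function.Injective f := by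
    have h := Module.length_eq_add_of_exact (LinearMap.ker f).subtype f (Submodule.injective_subtype _) hfs
      (LinearMap.exact_subtype_ker_map f)
    rw [length_quotient_eq_of_fg N hNfg hNspan hx, ← heq] at h
    have h0 : Module.length R (LinearMap.ker f) = 0 := by
      refine WithTop.add_right_cancel hfin ?_
      exact h.symm.trans (zero_add _).symm
    rw [← LinearMap.ker_eq_bot, Submodule.eq_bot_iff]
    intro z hz
    have := Module.length_eq_zero_iff.1 h0
    exact congrArg Subtype.val (Subsingleton.elim (⟨z, hz⟩ : LinearMap.ker f) 0)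
  suffices hMN : M ≤ N from le_antisymm hMN hNM ▸ hNfg
  intro v hv
  obtain ⟨d, hd, hdv⟩ := exists_smul_mem (K := K) N (v := v) (by rw [hNspan]; trivial)
  obtain ⟨k, c, hc⟩ : ∃ k c, c * d = x ^ k := by
    have hrad : x ∈ (Ideal.span {d}).radical := by
      rw [Ideal.radical_eq_sInf, Ideal.mem_sInf]
      rintro J ⟨hdJ, hJ⟩
      have hJm := hJ.isMaximal_of_ne_bot (fun h0 => hd (by
        simpa [h0] using hdJ (Ideal.mem_span_singleton_self d)))
      rw [IsLocalRing.eq_maximalIdeal hJm]; exact hxm
    obtain ⟨k, hk⟩ := hrad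
    exact ⟨k, Ideal.mem_span_singleton'.1 hk⟩
  have hkv : x ^ k • v ∈ N := by rw [← hc, mul_smul]; exact N.smul_mem _ hdv
  clear hc
  induction k with
  | zero => simpa using hkv
  | succ k ih =>
    refine ih ?_
    have hmem : (Submodule.Quotient.mk (⟨x ^ (k + 1) • v, hkv⟩ : N) :
        N ⧸ (Ideal.span {x} • ⊤ : Submodule R N)) = 0 := by
      refine hfi ?_
      rw [hf, map_zero, Submodule.Quotient.mk_eq_zero]
      exact mem_span_smul_top.2 ⟨⟨x ^ k • v, M.smul_mem _ hv⟩, Subtype.ext (by
        show x • x ^ k • v = x ^ (k + 1) • v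
        rw [smul_smul, pow_succ'])⟩
    obtain ⟨w, hw⟩ := mem_span_smul_top.1 ((Submodule.Quotient.mk_eq_zero _).1 hmem)
    have hw' : x • (w : V) = x • (x ^ k • v) := by
      rw [smul_smul, ← pow_succ']; exact congrArg Subtype.val hw
    have : (⟨w, hNM w.2⟩ : M) = ⟨x ^ k • v, M.smul_mem _ hv⟩ := injective_smul K M hx (Subtype.ext hw')
    have h3 : (w : V) = x ^ k • v := congrArg Subtype.val this
    exact h3 ▸ w.2

end

/-- Let A ⊆ B be a finite type extension of domains, A Noetherian local of dimension one, with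
compatible fraction fields K ⊆ L and L finite over K. Then B has finitely many maximal ideals, and
for a nonzero x in the maximal ideal of A the sum over the maximal ideals m of B of (length of B/m
over A, i.e. the residue degree) times (length of B_m / x B_m over B_m) is at most the degree of L
over K times the length of A/xA; equality holds exactly when B is a finite A-module. -/
theorem result (A B K L : Type u)
    [CommRing A] [IsDomain A] [IsNoetherianRing A] [IsLocalRing A] (hdim : ringKrullDim A = 1)
    [CommRing B] [IsDomain B] [Algebra A B] [FaithfulSMul A B] [Algebra.FiniteType A B]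
    [Field K] [Field L] [Algebra A K] [IsFractionRing A K] [Algebra B L] [IsFractionRing B L]
    [Algebra K L] [Algebra A L] [IsScalarTower A K L] [IsScalarTower A B L] [FiniteDimensional K L]
    (x : A) (hx : x ∈ IsLocalRing.maximalIdeal A) (hx0 : x ≠ 0) :
    Finite (MaximalSpectrum B) ∧
      (∑ᶠ m : MaximalSpectrum B,
          Module.length A (B ⧸ m.asIdeal) *
            Module.length (Localization.AtPrime m.asIdeal)
              (Localization.AtPrime m.asIdeal ⧸
                Ideal.span ({algebraMap A (Localization.AtPrime m.asIdeal) x} : Set _)) ≤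
        (Module.finrank K L : ℕ∞) * Module.length A (A ⧸ Ideal.span ({x} : Set A))) ∧
      ((∑ᶠ m : MaximalSpectrum B,
          Module.length A (B ⧸ m.asIdeal) *
            Module.length (Localization.AtPrime m.asIdeal)
              (Localization.AtPrime m.asIdeal ⧸
                Ideal.span ({algebraMap A (Localization.AtPrime m.asIdeal) x} : Set _)) =
        (Module.finrank K L : ℕ∞) * Module.length A (A ⧸ Ideal.span ({x} : Set A))) ↔ Module.Finite A B) := by
  classical
  have : Ring.KrullDimLE 1 A := (Ring.krullDimLE_iff).2 hdim.le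
  have : IsNoetherianRing B := Algebra.FiniteType.isNoetherianRing A B
  obtain ⟨hmax, hfinP, -⟩ := Groth.Agent.S9133.result A B K L hdim
  -- primes of `B`
  have halg : ∀ b : B, IsAlgebraic A b := fun b =>
    (isAlgebraic_algHom_iff (IsScalarTower.toAlgHom A B L) (IsFractionRing.injective B L)).1
      ((IsFractionRing.isAlgebraic_iff A K L).2 (IsAlgebraic.of_finite K _))
  have hprimes : ∀ P : Ideal B, P.IsPrime → P ≠ ⊥ → P ∈ (IsLocalRing.maximalIdeal A).primesOver B := by
    intro P hP hne
    obtain ⟨b, hbP, hb⟩ := Submodule.exists_mem_ne_zero_of_ne_bot hne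
    obtain ⟨r, hr, hbr⟩ := (halg b).exists_nonzero_dvd (mem_nonZeroDivisors_of_ne_zero hb)
    have hrP : r ∈ P.under A := P.mem_of_dvd hbr hbP
    refine ⟨hP, ⟨(IsLocalRing.eq_maximalIdeal ((inferInstance : (P.under A).IsPrime).isMaximal_of_ne_bot
      fun h0 => hr (by simpa [h0] using hrP))).symm⟩⟩
  have hfinM : Finite (MaximalSpectrum B) := by
    have : {P : Ideal B | P.IsMaximal}.Finite := (hfinP.union (Set.finite_singleton ⊥)).subset fun P hP => by
      rcases eq_or_ne P ⊥ with h0 | h0
      · exact Or.inr h0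
      · exact Or.inl (hprimes P hP.isPrime h0)
    have := this.to_subtype
    exact Finite.of_injective (fun m : MaximalSpectrum B => (⟨m.asIdeal, m.isMaximal⟩ : {P : Ideal B | P.IsMaximal}))
      fun m n h => MaximalSpectrum.ext (congrArg Subtype.val h)
  haveI := Fintype.ofFinite (MaximalSpectrum B)
  -- the sum is the length of `B / xB`
  have hsum : (∑ᶠ m : MaximalSpectrum B,
        Module.length A (B ⧸ m.asIdeal) *
          Module.length (Localization.AtPrime m.asIdeal)
            (Localization.AtPrime m.asIdeal ⧸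
              Ideal.span ({algebraMap A (Localization.AtPrime m.asIdeal) x} : Set _))) =
      Module.length A (B ⧸ Ideal.span {algebraMap A B x}) := by
    rw [finsum_eq_sum_of_fintype, GrothLib.CycPush.length_eq_sum_mul (A := A) (B ⧸ Ideal.span {algebraMap A B x})
      (Finset.univ.image fun m : MaximalSpectrum B => (⟨m.asIdeal, m.isMaximal.isPrime⟩ : PrimeSpectrum B))
      (fun q hq => by
        obtain ⟨m, -, rfl⟩ := Finset.mem_image.1 hq
        exact m.isMaximal)
      (fun q hq => by
        rw [Module.support_eq_zeroLocus, Ideal.annihilator_quotient] at hq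
        have hxq : algebraMap A B x ∈ q.asIdeal := hq (Ideal.mem_span_singleton_self _)
        have hne : q.asIdeal ≠ ⊥ := fun h0 => hx0 (by
          rw [h0, Ideal.mem_bot] at hxq
          exact FaithfulSMul.algebraMap_injective A B (hxq.trans (map_zero _).symm))
        exact Finset.mem_image.2 ⟨⟨q.asIdeal, hmax _ (hprimes _ q.isPrime hne)⟩, Finset.mem_univ _, rfl⟩),
      Finset.sum_image (fun m _ n _ h => MaximalSpectrum.ext (congrArg PrimeSpectrum.asIdeal h))]
    refine Finset.sum_congr rfl fun m _ => ?_
    rw [GrothLib.CycPush.locLen_eq_ord _ (Localization.AtPrime m.asIdeal), Ring.ord, mul_comm,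
      ← IsScalarTower.algebraMap_apply]
  -- transport to the image of `B` in `L`
  obtain ⟨M, hMdef⟩ : ∃ M : Submodule A L, M = LinearMap.range (IsScalarTower.toAlgHom A B L).toLinearMap := ⟨_, rfl⟩
  obtain ⟨e, he⟩ : ∃ e : B ≃ₗ[A] M, ∀ b, (e b : L) = algebraMap B L b := by
    subst hMdef
    exact ⟨LinearEquiv.ofInjective _ (IsFractionRing.injective B L), fun b => rfl⟩
  have hlen : Module.length A (B ⧸ Ideal.span {algebraMap A B x}) =
      Module.length A (M ⧸ (Ideal.span {x} • ⊤ : Submodule A M)) := by
    refine LinearEquiv.length_eq ((Submodule.quotEquivOfEq _ ((Ideal.span {algebraMap A B x}).restrictScalars A) rfl).symm.trans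
      (Submodule.Quotient.equiv _ _ e ?_))
    ext v
    obtain ⟨b, rfl⟩ := e.surjective v
    rw [mem_span_smul_top, Submodule.mem_map]
    constructor
    · rintro ⟨c, hc, hcb⟩
      obtain ⟨d, rfl⟩ := Ideal.mem_span_singleton'.1 hc
      exact ⟨e d, by rw [← map_smul, Algebra.smul_def, mul_comm]; exact hcb⟩
    · rintro ⟨w, hw⟩
      obtain ⟨d, rfl⟩ := e.surjective w
      exact ⟨algebraMap A B x * d, Ideal.mul_mem_right _ _ (Ideal.mem_span_singleton_self _), by
        rw [← Algebra.smul_def]; exact (map_smul e x d).trans hw⟩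
  have hspan : Submodule.span K (M : Set L) = ⊤ := by
    rw [eq_top_iff]
    rintro l -
    obtain ⟨b, c, hc, rfl⟩ := IsFractionRing.div_surjective B l
    obtain ⟨r, hr, d, hd⟩ := (halg c).exists_nonzero_dvd hc
    have hrK : algebraMap A K r ≠ 0 := (map_ne_zero_iff _ (IsFractionRing.injective A K)).2 hr
    have : algebraMap B L b / algebraMap B L c = (algebraMap A K r)⁻¹ • (e (b * d) : L) := by
      rw [he, eq_inv_smul_iff₀ hrK, algebraMap_smul, Algebra.smul_def, IsScalarTower.algebraMap_apply A B L, hd,
        map_mul, map_mul]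
      field_simp [IsFractionRing.to_map_ne_zero_of_mem_nonZeroDivisors hc]
    rw [this]
    exact Submodule.smul_mem _ _ (Submodule.subset_span (e (b * d)).2)
  rw [hsum, hlen]
  refine ⟨hfinM, length_quotient_le (K := K) M hx0, ⟨fun heq => ?_, fun hfin => ?_⟩⟩
  · have : Module.Finite A M := Module.Finite.iff_fg.2 (fg_of_length_eq M hspan hx hx0 heq)
    exact Module.Finite.equiv e.symm
  · have : Module.Finite A M := Module.Finite.equiv e
    exact length_quotient_eq_of_fg M (Module.Finite.iff_fg.1 this) hspan hx0

end Groth.Agent.S9136
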