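import Groth.Statements.S9137
import Groth.Agent.Lib.CAlgMisc.ZMTLocal
-- import your own Groth.Agent.* helpers here

set_option autoImplicit false
universe u
open CAlg

namespace Groth.Agent.S9137

/-- Let R → S be a local ring homomorphism between local rings, essentially of finite type, such that
the residue field of S is finite over that of R and S/m_R S has dimension zero. Then S is, as an
R-algebra, the localization of a finite R-algebra at a prime. -/
theorem result (R S : Type u) [CommRing R] [CommRing S]
    [IsLocalRing R] [IsLocalRing S] [Algebra R S] [IsLocalHom (algebraMap R S)]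
    [Algebra.EssFiniteType R S]
    (hres : Module.Finite (IsLocalRing.ResidueField R) (IsLocalRing.ResidueField S))
    (hdim : ringKrullDim (S ⧸ (IsLocalRing.maximalIdeal R).map (algebraMap R S)) = 0) :
    ∃ (S' : Type u) (_ : CommRing S') (_ : Algebra R S') (_ : Algebra S' S) (_ : IsScalarTower R S' S)
      (q : Ideal S') (_ : q.IsPrime), Module.Finite R S' ∧ IsLocalization.AtPrime S q := by
  exact GrothLib.CAlgMisc.exists_finite_isLocalization R S (hres := hres) hdim

end Groth.Agent.S9137
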