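import Groth.Statements.S9138
import Mathlib
import Groth.Agent.Lib.FSchSys.ComplMap
-- import your own Groth.Agent.* helpers here

set_option autoImplicit false
universe u
open CAlg

namespace Groth.Agent.S9138

/-- Let R → S be a local ring homomorphism between local rings with finitely generated maximal ideals m
and n, such that S/mS is a finite-dimensional κ(m)-vector space. Then (1) the canonical ring map
from the mS-adic completion of S to the n-adic completion of S is bijective, and (2) the induced
ring map from the m-adic completion of R to the n-adic completion of S is finite. (The hypotheses h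
and h' record the inclusion mS ⊆ n, which holds for any local homomorphism; they are the arguments
the completion maps take.) -/
theorem result (R S : Type u) [CommRing R] [CommRing S]
    [IsLocalRing R] [IsLocalRing S] [Algebra R S] [IsLocalHom (algebraMap R S)]
    (hm : (IsLocalRing.maximalIdeal R).FG) (hn : (IsLocalRing.maximalIdeal S).FG)
    (hfib : Module.Finite (IsLocalRing.maximalIdeal R).ResidueField ((IsLocalRing.maximalIdeal R).Fiber S))
    (h : (IsLocalRing.maximalIdeal R).map (algebraMap R S) ≤ IsLocalRing.maximalIdeal S)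
    (h' : ((IsLocalRing.maximalIdeal R).map (algebraMap R S)).map (RingHom.id S) ≤ IsLocalRing.maximalIdeal S) :
    Function.Bijective (FSch.complMap ((IsLocalRing.maximalIdeal R).map (algebraMap R S))
        (IsLocalRing.maximalIdeal S) (RingHom.id S) h') ∧
      (FSch.complMap (IsLocalRing.maximalIdeal R) (IsLocalRing.maximalIdeal S) (algebraMap R S) h).Finite := by
  classical
  let m := IsLocalRing.maximalIdeal R
  let n := IsLocalRing.maximalIdeal S
  let K := m.map (algebraMap R S)
  -- `S ⧸ mS` is finite over `R`, hence Artinian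
  haveI hfinR : Module.Finite R (S ⧸ K) := by
    haveI : Module.Finite R m.ResidueField := Module.Finite.of_surjective
      (Algebra.linearMap R m.ResidueField) (Ideal.algebraMap_residueField_surjective m)
    haveI : Module.Finite R (TensorProduct R m.ResidueField S) := Module.Finite.trans m.ResidueField _
    let π : (R ⧸ m) →ₗ[R] m.ResidueField := (Algebra.linearMap (R ⧸ m) m.ResidueField).restrictScalars R
    have hπ : Function.Bijective π := Ideal.bijective_algebraMap_quotient_residueField m
    let e := (TensorProduct.congr (LinearEquiv.ofBijective π hπ).symm (LinearEquiv.refl R S)).trans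
      (TensorProduct.quotTensorEquivQuotSMul S m)
    haveI : Module.Finite R (S ⧸ (m • ⊤ : Submodule R S)) := Module.Finite.equiv e
    exact Module.Finite.equiv ((Submodule.quotEquivOfEq _ _ (Ideal.smul_top_eq_map m)).trans
      (Submodule.Quotient.restrictScalarsEquiv R K))
  obtain ⟨t, ht⟩ : ∃ t : ℕ, n ^ (t + 1) ≤ K := by
    letI : Algebra (R ⧸ m) (S ⧸ K) := (Ideal.quotientMap K (algebraMap R S) Ideal.le_comap_map).toAlgebra
    haveI : IsScalarTower R (R ⧸ m) (S ⧸ K) := IsScalarTower.of_algebraMap_eq fun r => rfl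
    haveI : Module.Finite (R ⧸ m) (S ⧸ K) := Module.Finite.of_restrictScalars_finite R _ _
    haveI : IsArtinianRing (R ⧸ m) := by
      letI := Ideal.Quotient.field m
      infer_instance
    haveI : IsArtinianRing (S ⧸ K) := IsArtinianRing.of_finite (R ⧸ m) _
    obtain ⟨t, ht⟩ := IsArtinianRing.isNilpotent_jacobson_bot (R := S ⧸ K)
    refine ⟨t, ?_⟩
    rw [← Ideal.mk_ker (I := K), RingHom.ker, ← Ideal.map_le_iff_le_comap, Ideal.map_pow]
    refine le_trans (Ideal.pow_le_pow_right (Nat.le_succ t)) (le_of_le_of_eq ?_ ht)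
    refine Ideal.pow_right_mono (le_sInf fun M hM => ?_) t
    haveI := hM.2
    rw [Ideal.map_le_iff_le_comap]
    exact le_of_eq (IsLocalRing.eq_maximalIdeal (Ideal.comap_isMaximal_of_surjective _
      Ideal.Quotient.mk_surjective)).symm
  have htk : ∀ k, n ^ ((t + 1) * k) ≤ K ^ k := fun k => by
    rw [pow_mul]; exact Ideal.pow_right_mono ht k
  have hev : ∀ (A : Type u) [CommRing A] (I : Ideal A) {i j : ℕ} (hij : i ≤ j) (x : AdicCompletion I A) (a : A),
      AdicCompletion.evalₐ I j x = Ideal.Quotient.mk _ a → AdicCompletion.evalₐ I i x = Ideal.Quotient.mk _ a := by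
    intro A _ I i j hij x a hx
    obtain ⟨c, rfl⟩ := AdicCompletion.mk_surjective _ _ x
    rw [AdicCompletion.evalₐ_mk, Ideal.Quotient.eq] at hx ⊢
    have h1 := c.2 hij
    rw [SModEq.sub_mem, smul_eq_mul, Ideal.mul_top] at h1
    simpa using add_mem h1 (Ideal.pow_le_pow_right hij hx)
  let φ := FSch.complMap K n (RingHom.id S) h'
  have hbij : Function.Bijective φ := by
    refine ⟨(injective_iff_map_eq_zero φ).2 fun x hx => AdicCompletion.ext_evalₐ fun k => ?_, fun y => ?_⟩
    · obtain ⟨s, hs⟩ := Ideal.Quotient.mk_surjective (AdicCompletion.evalₐ K ((t + 1) * k) x)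
      have h1 := GrothLib.FSchSys.evalₐ_complMap K n (RingHom.id S) h' ((t + 1) * k) x
      rw [show FSch.complMap K n (RingHom.id S) h' x = 0 from hx, map_zero, ← hs, Ideal.quotientMap_mk] at h1
      rw [map_zero, hev S K (Nat.le_mul_of_pos_left k (Nat.succ_pos t)) x s hs.symm]
      exact Ideal.Quotient.eq_zero_iff_mem.2 (htk k (Ideal.Quotient.eq_zero_iff_mem.1 h1.symm))
    · obtain ⟨c, rfl⟩ := AdicCompletion.mk_surjective _ _ y
      refine ⟨AdicCompletion.mk K S ⟨fun k => c.1 ((t + 1) * k), fun {i j} hij => ?_⟩,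
        AdicCompletion.ext_evalₐ fun k => ?_⟩
      · have h1 := c.2 (Nat.mul_le_mul_left (t + 1) hij)
        rw [SModEq.sub_mem, smul_eq_mul, Ideal.mul_top] at h1 ⊢
        exact htk i h1
      · rw [GrothLib.FSchSys.evalₐ_complMap, AdicCompletion.evalₐ_mk, AdicCompletion.evalₐ_mk,
          Ideal.quotientMap_mk, RingHom.id_apply, Ideal.Quotient.eq]
        have h1 := c.2 (Nat.le_mul_of_pos_left k (Nat.succ_pos t))
        rw [SModEq.sub_mem, smul_eq_mul, Ideal.mul_top] at h1
        show c.1 ((t + 1) * k) - c.1 k ∈ _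
        rw [← neg_sub]; exact neg_mem h1
  refine ⟨hbij, ?_⟩
  obtain ⟨r, q, hq⟩ := Module.Finite.exists_fin (R := R) (M := S ⧸ K)
  choose b hb using fun i => Ideal.Quotient.mk_surjective (q i)
  have hdec : ∀ k, ∀ d ∈ K ^ k, ∃ α : Fin r → R, (∀ i, α i ∈ m ^ k) ∧
      d - ∑ i, algebraMap R S (α i) * b i ∈ K ^ (k + 1) := by
    intro k d hd
    have htop : (⊤ : Submodule R S) = Submodule.span R (Set.range b) ⊔ m • ⊤ := by
      refine (eq_top_iff.2 fun s _ => ?_).symm
      have h1 : Ideal.Quotient.mk K s ∈ Submodule.span R (Set.range q) := by rw [hq]; trivial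
      obtain ⟨α, hα⟩ := (Submodule.mem_span_range_iff_exists_fun R).1 h1
      refine Submodule.mem_sup.2 ⟨∑ i, α i • b i, Submodule.sum_mem _ fun i _ =>
        Submodule.smul_mem _ _ (Submodule.subset_span ⟨i, rfl⟩), s - ∑ i, α i • b i, ?_, by abel⟩
      rw [Ideal.smul_top_eq_map, Submodule.restrictScalars_mem, ← Ideal.Quotient.eq, ← hα, map_sum]
      refine Finset.sum_congr rfl fun i _ => ?_
      rw [Algebra.smul_def, Algebra.smul_def, map_mul, hb]
      rfl
    have hd' : d ∈ m ^ k • (⊤ : Submodule R S) := by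
      rw [Ideal.smul_top_eq_map, Submodule.restrictScalars_mem, Ideal.map_pow]; exact hd
    rw [htop, Submodule.smul_sup, ← Submodule.smul_assoc, Submodule.mem_sup] at hd'
    obtain ⟨u, hu, v, hv, huv⟩ := hd'
    obtain ⟨α, hα, hsum⟩ := (Submodule.mem_ideal_smul_span_iff_exists_sum _ b u).1 hu
    refine ⟨α, hα, ?_⟩
    rw [smul_eq_mul, ← pow_succ, Ideal.smul_top_eq_map, Submodule.restrictScalars_mem, Ideal.map_pow] at hv
    rw [← huv, ← hsum, Finsupp.sum_fintype _ _ (fun i => zero_smul R (b i))]
    simpa [Algebra.smul_def] using hv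
  let ψ := FSch.complMap m n (algebraMap R S) h
  letI : Algebra (AdicCompletion m R) (AdicCompletion n S) := ψ.toAlgebra
  refine Module.Finite.of_surjective (Fintype.linearCombination (AdicCompletion m R)
    (fun i => algebraMap S (AdicCompletion n S) (b i))) fun y => ?_
  obtain ⟨x, rfl⟩ := hbij.2 y
  obtain ⟨c, rfl⟩ := AdicCompletion.mk_surjective _ _ x
  have hstep : ∀ k (a : Fin r → R), c.1 k - ∑ i, algebraMap R S (a i) * b i ∈ K ^ k →
      ∃ a' : Fin r → R, (∀ i, a' i - a i ∈ m ^ k) ∧
        c.1 (k + 1) - ∑ i, algebraMap R S (a' i) * b i ∈ K ^ (k + 1) := by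
    intro k a ha
    have h1 := c.2 (Nat.le_succ k)
    rw [SModEq.sub_mem, smul_eq_mul, Ideal.mul_top] at h1
    obtain ⟨α, hα, hd⟩ := hdec k (c.1 (k + 1) - ∑ i, algebraMap R S (a i) * b i)
      (by have := add_mem (neg_mem h1) ha; rwa [neg_sub, sub_add_sub_cancel] at this)
    refine ⟨fun i => a i + α i, fun i => by simpa using hα i, ?_⟩
    simp only [map_add, add_mul, Finset.sum_add_distrib]
    rwa [← sub_sub]
  choose f hf1 hf2 using hstep
  let a : ∀ k, {a : Fin r → R // c.1 k - ∑ i, algebraMap R S (a i) * b i ∈ K ^ k} := fun k =>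
    Nat.rec ⟨0, by simp⟩ (fun k a => ⟨f k a.1 a.2, hf2 k a.1 a.2⟩) k
  have ha : ∀ (i : Fin r) {p q : ℕ}, p ≤ q → (a q).1 i - (a p).1 i ∈ m ^ p := by
    intro i p q hpq
    induction q, hpq using Nat.le_induction with
    | base => simp
    | succ q hpq ih =>
      have h1 : (a (q + 1)).1 i - (a q).1 i ∈ m ^ q := hf1 q (a q).1 (a q).2 i
      have := add_mem (Ideal.pow_le_pow_right hpq h1) ih
      rwa [sub_add_sub_cancel] at this
  let A : Fin r → AdicCompletion m R := fun i => AdicCompletion.mk m R ⟨fun k => (a k).1 i, fun {p q} hpq => by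
    rw [SModEq.sub_mem, smul_eq_mul, Ideal.mul_top, ← neg_sub]
    exact neg_mem (ha i hpq)⟩
  refine ⟨A, AdicCompletion.ext_evalₐ fun k => ?_⟩
  rw [Fintype.linearCombination_apply, map_sum, GrothLib.FSchSys.evalₐ_complMap, AdicCompletion.evalₐ_mk,
    Ideal.quotientMap_mk, RingHom.id_apply]
  rw [show Ideal.Quotient.mk (n ^ k) (c.1 k) = Ideal.Quotient.mk (n ^ k) (∑ i, algebraMap R S ((a k).1 i) * b i) from
    Ideal.Quotient.eq.2 (Ideal.pow_right_mono h k (a k).2), map_sum]
  refine Finset.sum_congr rfl fun i _ => ?_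
  show AdicCompletion.evalₐ n k (ψ (A i) * algebraMap S (AdicCompletion n S) (b i)) = _
  rw [map_mul, GrothLib.FSchSys.evalₐ_complMap, AdicCompletion.evalₐ_mk, Ideal.quotientMap_mk,
    AlgHom.commutes, ← Ideal.Quotient.algebraMap_eq, ← map_mul]

end Groth.Agent.S9138
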