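import Groth.Statements.S9139
import Mathlib.RingTheory.FiniteType
import Mathlib.RingTheory.Noetherian.Nilpotent

set_option autoImplicit false
universe u
open CAlg

namespace Groth.Agent.S9139

/-- Let I be a locally nilpotent ideal of a ring R (every element of I is nilpotent) and S → S' a map of
R-algebras with S' of finite type over R. If S → S'/IS' is surjective then so is S → S'. -/
theorem result (R S S' : Type u) [CommRing R] [CommRing S]
    [CommRing S'] [Algebra R S] [Algebra R S'] [Algebra.FiniteType R S'] (I : Ideal R)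
    (hI : ∀ x ∈ I, IsNilpotent x) (f : S →ₐ[R] S')
    (hf : Function.Surjective ((Ideal.Quotient.mk (I.map (algebraMap R S'))).comp f.toRingHom)) :
    Function.Surjective f := by
  classical
  obtain ⟨G, hG⟩ := (inferInstance : Algebra.FiniteType R S').out
  let I' : Ideal S' := I.map (algebraMap R S')
  have hgen : ∀ x : S', ∃ T : Finset R, (T : Set R) ⊆ I ∧
      ∃ s : S, x - f s ∈ Ideal.span (algebraMap R S' '' T) := by
    intro x
    obtain ⟨s, hs⟩ := hf (Ideal.Quotient.mk I' x)
    have h1 : x - f s ∈ Ideal.span (algebraMap R S' '' I) := by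
      rw [← Ideal.Quotient.eq]
      exact hs.symm
    obtain ⟨U, hU, hxU⟩ := Submodule.mem_span_finite_of_mem_span h1
    obtain ⟨T, hT, rfl⟩ := Finset.subset_set_image_iff.1 hU
    exact ⟨T, hT, s, by rwa [Finset.coe_image] at hxU⟩
  choose T hT s hs using hgen
  let J : Ideal R := Ideal.span ((G.biUnion T : Finset R) : Set R)
  obtain ⟨k, hk⟩ := (Ideal.FG.isNilpotent_iff_le_nilradical (I := J) ⟨_, rfl⟩).2 (by
    rw [Ideal.span_le]
    intro r hr
    rw [Finset.coe_biUnion, Set.mem_iUnion₂] at hr
    obtain ⟨g, _, hr⟩ := hr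
    exact mem_nilradical.2 (hI r (hT g hr)))
  let N : Submodule R S' := LinearMap.range f.toLinearMap
  have hE : J • (⊤ : Submodule R S') = (J.map (algebraMap R S')).restrictScalars R :=
    Ideal.smul_top_eq_map J
  have h1 : (⊤ : Submodule R S') ≤ N ⊔ J • ⊤ := by
    intro x hxt
    clear hxt
    have hx : x ∈ Algebra.adjoin R (G : Set S') := hG ▸ Algebra.mem_top
    induction hx using Algebra.adjoin_induction with
    | mem g hg =>
      refine Submodule.mem_sup.2 ⟨f (s g), ⟨s g, rfl⟩, g - f (s g), ?_, by abel⟩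
      rw [hE]
      refine Ideal.span_le.2 ?_ (hs g)
      rintro _ ⟨r, hr, rfl⟩
      exact Ideal.mem_map_of_mem _ (Ideal.subset_span (Finset.mem_biUnion.2 ⟨g, hg, hr⟩))
    | algebraMap r => exact Submodule.mem_sup_left ⟨algebraMap R S r, f.commutes r⟩
    | add x y _ _ hx hy => exact add_mem hx hy
    | mul x y _ _ hx hy =>
      obtain ⟨_, ⟨a, rfl⟩, u, hu, rfl⟩ := Submodule.mem_sup.1 hx
      obtain ⟨_, ⟨b, rfl⟩, v, hv, rfl⟩ := Submodule.mem_sup.1 hy
      refine Submodule.mem_sup.2 ⟨f (a * b), ⟨a * b, rfl⟩, u * (f b + v) + f a * v, ?_, ?_⟩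
      · rw [hE] at hu hv ⊢
        exact add_mem (Ideal.mul_mem_right _ _ hu) (Ideal.mul_mem_left _ _ hv)
      · simp only [AlgHom.toLinearMap_apply, map_mul]
        ring
  have h2 : ∀ j : ℕ, (⊤ : Submodule R S') ≤ N ⊔ J ^ j • ⊤ := by
    intro j
    induction j with
    | zero => rw [pow_zero, Ideal.one_eq_top, Submodule.top_smul]; exact le_sup_right
    | succ j ih =>
      refine ih.trans (sup_le le_sup_left ((Submodule.smul_mono le_rfl h1).trans ?_))
      rw [Submodule.smul_sup, pow_succ, Submodule.mul_smul]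
      exact sup_le_sup Submodule.smul_le_right le_rfl
  have h3 := h2 k
  rw [hk, Submodule.zero_eq_bot, Submodule.bot_smul, sup_bot_eq] at h3
  intro x
  exact h3 (Submodule.mem_top (x := x))

end Groth.Agent.S9139
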