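import Groth.Statements.S9140
import Mathlib
-- import your own Groth.Agent.* helpers here

set_option autoImplicit false
universe u
open CAlg

namespace Groth.Agent.S9140

/-- Let I be a locally nilpotent ideal of a ring R and S → S' a map of R-algebras with S of finite type
over R and S' of finite presentation and flat over R. If the induced map S/IS → S'/IS' is bijective
(stated as: S → S'/IS' is surjective with kernel IS), then S → S' is bijective. -/
theorem result (R S S' : Type u)
    [CommRing R] [CommRing S] [CommRing S'] [Algebra R S] [Algebra R S'] [Algebra.FiniteType R S]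
    [Algebra.FinitePresentation R S'] [Module.Flat R S'] (I : Ideal R) (hI : ∀ x ∈ I, IsNilpotent x)
    (f : S →ₐ[R] S')
    (hsurj : Function.Surjective ((Ideal.Quotient.mk (I.map (algebraMap R S'))).comp f.toRingHom))
    (hker : ∀ s : S, f s ∈ I.map (algebraMap R S') → s ∈ I.map (algebraMap R S)) :
    Function.Bijective f := by
  classical
  let N : Submodule R S' := LinearMap.range f.toLinearMap
  have hfgI : ∀ J : Ideal R, J ≤ I → J.FG → ∃ k, J ^ k = ⊥ := by
    intro J hJ hfg
    obtain ⟨k, hk⟩ := Ideal.exists_pow_le_of_le_radical_of_fg (J := (⊥ : Ideal R))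
      (show J ≤ (⊥ : Ideal R).radical from fun x hx => hI x (hJ hx)) hfg
    exact ⟨k, le_bot_iff.mp hk⟩
  have hex : ∀ {X : Type u} [AddCommGroup X] [Module R X] (K : Submodule R X) (x : X), x ∈ I • K →
      ∃ J : Ideal R, J.FG ∧ J ≤ I ∧ x ∈ J • K := by
    intro X _ _ K x hx
    refine Submodule.smul_induction_on (p := fun x => ∃ J : Ideal R, J.FG ∧ J ≤ I ∧ x ∈ J • K) hx ?_ ?_
    · intro r hr n hn
      exact ⟨Ideal.span {r}, ⟨{r}, by simp⟩, by simpa [Ideal.span_singleton_le_iff_mem] using hr,
        Submodule.smul_mem_smul (Ideal.mem_span_singleton_self r) hn⟩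
    · rintro a b ⟨J, hJ, hJI, ha⟩ ⟨J', hJ', hJI', hb⟩
      exact ⟨J ⊔ J', Submodule.FG.sup hJ hJ', sup_le hJI hJI', Submodule.add_mem _
        (Submodule.smul_mono le_sup_left le_rfl ha) (Submodule.smul_mono le_sup_right le_rfl hb)⟩
  -- surjectivity
  have hmem : ∀ y : S', ∃ s : S, y - f s ∈ (I • ⊤ : Submodule R S') := by
    intro y
    obtain ⟨s, hs⟩ := hsurj (Ideal.Quotient.mk _ y)
    refine ⟨s, ?_⟩
    rw [Ideal.smul_top_eq_map, Submodule.restrictScalars_mem]
    exact (Ideal.Quotient.eq).mp hs.symm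
  obtain ⟨G, hG⟩ := (inferInstance : Algebra.FiniteType R S').out
  choose sg hsg using hmem
  have hJs : ∃ J : Ideal R, J.FG ∧ J ≤ I ∧ ∀ y ∈ G, y - f (sg y) ∈ (J • ⊤ : Submodule R S') := by
    choose J hJ hJI hJmem using fun y => hex ⊤ _ (hsg y)
    refine ⟨⨆ y ∈ G, J y, Submodule.fg_biSup G J (fun y _ => hJ y), iSup₂_le fun y _ => hJI y, fun y hy => ?_⟩
    exact Submodule.smul_mono (le_iSup₂_of_le y hy le_rfl) le_rfl (hJmem y)
  obtain ⟨J, hJfg, hJI, hJG⟩ := hJs
  let q : S →ₐ[R] S' ⧸ J.map (algebraMap R S') := (Ideal.Quotient.mkₐ R _).comp f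
  have hq : Function.Surjective q := by
    rw [← AlgHom.range_eq_top, eq_top_iff]
    have hmap : (⊤ : Subalgebra R (S' ⧸ J.map (algebraMap R S'))) =
        (Algebra.adjoin R (G : Set S')).map (Ideal.Quotient.mkₐ R _) := by
      rw [hG, Algebra.map_top, eq_comm, AlgHom.range_eq_top]
      exact Ideal.Quotient.mkₐ_surjective R _
    rw [hmap, AlgHom.map_adjoin, Algebra.adjoin_le_iff]
    rintro _ ⟨y, hy, rfl⟩
    refine ⟨sg y, (Ideal.Quotient.eq.mpr ?_).symm⟩
    have := hJG y hy
    rwa [Ideal.smul_top_eq_map, Submodule.restrictScalars_mem] at this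
  have hfs : Function.Surjective f := by
    have htop : ∀ k, (⊤ : Submodule R S') ≤ N ⊔ J ^ k • ⊤ := by
      have h1 : (⊤ : Submodule R S') ≤ N ⊔ J • ⊤ := by
        intro y _
        obtain ⟨s, hs⟩ := hq (Ideal.Quotient.mk _ y)
        refine Submodule.mem_sup.mpr ⟨f s, ⟨s, rfl⟩, y - f s, ?_, add_sub_cancel _ _⟩
        rw [Ideal.smul_top_eq_map, Submodule.restrictScalars_mem]
        exact Ideal.Quotient.eq.mp hs.symm
      intro k
      induction k with
      | zero => rw [pow_zero, Ideal.one_eq_top, Submodule.top_smul]; exact le_sup_right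
      | succ k ih =>
        refine h1.trans (sup_le le_sup_left ?_)
        refine (Submodule.smul_mono le_rfl ih).trans ?_
        rw [Submodule.smul_sup, pow_succ', ← smul_eq_mul, Submodule.smul_assoc]
        exact sup_le (Submodule.smul_le_right.trans le_sup_left) le_sup_right
    obtain ⟨k, hk⟩ := hfgI J hJI hJfg
    have := htop k
    rw [hk, Submodule.bot_smul, sup_bot_eq] at this
    intro y
    exact this (Submodule.mem_top (x := y))
  -- injectivity
  refine ⟨?_, hfs⟩
  letI : Algebra S S' := f.toRingHom.toAlgebra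
  haveI : IsScalarTower R S S' := IsScalarTower.of_algebraMap_eq fun r => (f.commutes r).symm
  haveI : Algebra.FinitePresentation S S' := Algebra.FinitePresentation.of_restrict_scalars_finitePresentation R S S'
  have hKfg : (RingHom.ker f.toRingHom).FG :=
    Algebra.FinitePresentation.ker_fG_of_surjective (Algebra.ofId S S') hfs
  let K : Submodule R S := LinearMap.ker f.toLinearMap
  have hinj := LinearMap.lTensor_injective_of_exact_of_flat f.toLinearMap hfs K.subtype
    (Submodule.injective_subtype _) (LinearMap.exact_subtype_ker_map f.toLinearMap) (R ⧸ I)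
  have hKI : ∀ x ∈ K, x ∈ I • K := by
    intro x hx
    have hx0 : x ∈ (I • ⊤ : Submodule R S) := by
      rw [Ideal.smul_top_eq_map, Submodule.restrictScalars_mem]
      refine hker x ?_
      rw [show f x = 0 from hx]
      exact Ideal.zero_mem _
    have h1 : (1 : R ⧸ I) ⊗ₜ[R] x = 0 := by
      apply (TensorProduct.quotTensorEquivQuotSMul S I).injective
      rw [map_zero, TensorProduct.quotTensorEquivQuotSMul_mk_one_tmul, Submodule.Quotient.mk_eq_zero]
      exact hx0
    have h2 : (1 : R ⧸ I) ⊗ₜ[R] (⟨x, hx⟩ : K) = 0 := hinj (h1.trans (map_zero _).symm)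
    have h3 := congrArg (TensorProduct.quotTensorEquivQuotSMul K I) h2
    rw [map_zero, TensorProduct.quotTensorEquivQuotSMul_mk_one_tmul, Submodule.Quotient.mk_eq_zero] at h3
    have h4 := Submodule.mem_map_of_mem (f := K.subtype) h3
    rwa [Submodule.map_smul'', Submodule.map_subtype_top] at h4
  obtain ⟨H, hH⟩ := hKfg
  have hHmem : ∀ g ∈ H, g ∈ K := fun g hg => by
    have : g ∈ RingHom.ker f.toRingHom := hH ▸ Ideal.subset_span hg
    exact this
  choose! J' hJ'fg hJ'I hJ'mem using fun g hg => hex K g (hKI g (hHmem g hg))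
  let JJ : Ideal R := ⨆ g ∈ H, J' g
  obtain ⟨k, hk⟩ := hfgI JJ (iSup₂_le fun g hg => hJ'I g hg) (Submodule.fg_biSup H J' hJ'fg)
  let KS : Ideal S := RingHom.ker f.toRingHom
  have hle : KS ≤ JJ.map (algebraMap R S) * KS := by
    show RingHom.ker f.toRingHom ≤ _
    rw [← hH, Submodule.span_le]
    intro g hg
    refine Submodule.smul_induction_on (p := fun z => z ∈ JJ.map (algebraMap R S) * KS)
      (Submodule.smul_mono (le_iSup₂_of_le g hg le_rfl) le_rfl (hJ'mem g hg) : g ∈ JJ • K) ?_
      (fun a b ha hb => Ideal.add_mem _ ha hb)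
    intro r hr z hz
    rw [Algebra.smul_def]
    exact Ideal.mul_mem_mul (Ideal.mem_map_of_mem _ hr) hz
  have hpow : ∀ j, KS ≤ (JJ.map (algebraMap R S)) ^ j * KS := by
    intro j
    induction j with
    | zero => simp
    | succ j ih =>
      calc KS ≤ JJ.map (algebraMap R S) * KS := hle
        _ ≤ JJ.map (algebraMap R S) * ((JJ.map (algebraMap R S)) ^ j * KS) := Ideal.mul_mono_right ih
        _ = _ := by rw [pow_succ', mul_assoc]
  rw [injective_iff_map_eq_zero]
  intro x hx
  have := hpow k hx
  rw [← Ideal.map_pow, hk, Ideal.map_bot, Submodule.bot_mul] at this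
  exact this

end Groth.Agent.S9140
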