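import Groth.Statements.S9141
import Groth.Agent.Lib.LCI6.Syntomic
-- import your own Groth.Agent.* helpers here

set_option autoImplicit false
universe u
open Synt

namespace Groth.Agent.S9141

/-- For a finite type algebra S over a field k and g ∈ S, the localization S_g is a global (resp. local)
complete intersection over k whenever S is. -/
theorem result (k S : Type u) [Field k] [CommRing S] [Algebra k S]
    [Algebra.FiniteType k S] (g : S) :
    (Synt.IsGlobalCI k S → Synt.IsGlobalCI k (Localization.Away g)) ∧
      (Synt.IsLCIOver k S → Synt.IsLCIOver k (Localization.Away g)) := by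
  constructor
  · intro h
    rcases h with hS | ⟨n, c, hc, φ, r, hφ, hker, hdim⟩
    · exact Or.inl ((IsLocalization.uniqueOfZeroMem (M := Submonoid.powers g) (R := S) (S := Localization.Away g)
        ⟨1, Subsingleton.elim _ _⟩).instSubsingleton)
    · obtain ⟨g', rfl⟩ := hφ g
      let P := MvPolynomial (Fin n) k
      have hreg := GrothLib.LCI6.isKoszulRegularSeq_of_dim hc φ hφ r hker hdim.le
      have h2 := GrothLib.KoszulColon.isKoszulRegularSeq_map (algebraMap P (Localization.Away g'))
        (RingHom.flat_algebraMap_iff.mpr (IsLocalization.flat _ (Submonoid.powers g'))) _ hreg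
      refine GrothLib.LCI6.isGlobalCI_away_of_koszul φ hφ g' (r ∘ Fin.rev) ?_ ?_
      · convert h2 using 1
        apply List.ext_getElem
        · simp
        · intro i h3 h4
          simp [Fin.rev]
          congr 2
          ext
          simp
          omega
      · rw [hker, Ideal.map_span, ← Set.range_comp]
        congr 1
        exact (Fin.rev_surjective.range_comp (algebraMap P (Localization.Away g') ∘ r)).symm
  · intro h
    have hS := GrothLib.LCI6.isLCIOver_iff_isLCI.mp h
    exact GrothLib.LCI6.isLCIOver_iff_isLCI.mpr
      (GrothLib.LCI6.isLCI_comp hS (GrothLib.LCI6.isLCI_away g (Localization.Away g)))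

end Groth.Agent.S9141
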