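import Groth.Statements.S9142
import Groth.Agent.Lib.SyntLoc.Field

set_option autoImplicit false
universe u
open Synt

namespace Groth.Agent.S9142

theorem result (k S : Type u) [Field k] [CommRing S] [Algebra k S]
    (h : Synt.IsLCIOver k S) : LocCoh.IsCohenMacaulayRing S :=
  GrothLib.SyntLoc.isCohenMacaulayRing_of_isLCI (GrothLib.LCI6.isLCIOver_iff_isLCI.mp h)

end Groth.Agent.S9142
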