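import Groth.Statements.S9143
import Groth.Agent.Lib.CIField.FiniteType

set_option autoImplicit false
universe u
open Synt

namespace Groth.Agent.S9143

theorem result (k S : Type u) [Field k] [CommRing S]
    [IsLocalRing S] [Algebra k S] [Algebra.EssFiniteType k S] :
    (Synt.IsCIOver k S ↔
        ∀ (R : Type u) [CommRing R] [IsRegularLocalRing R] [Algebra k R], Algebra.EssFiniteType k R →
          ∀ π : R →ₐ[k] S, Function.Surjective π →
            ∃ rs : List R, RingTheory.Sequence.IsRegular R rs ∧ RingHom.ker π.toRingHom = Ideal.ofList rs) ∧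
      (Synt.IsCIOver k S ↔
        ∃ (R : Type u) (_ : CommRing R) (_ : IsRegularLocalRing R) (_ : Algebra k R),
          Algebra.EssFiniteType k R ∧ ∃ π : R →ₐ[k] S, Function.Surjective π ∧
            ∃ rs : List R, RingHom.ker π.toRingHom = Ideal.ofList rs ∧
              ringKrullDim R = ringKrullDim S + (rs.length : WithBot ℕ∞)) ∧
      (Synt.IsCIOver k S ↔
        ∃ (A : Type u) (_ : CommRing A) (_ : Algebra k A) (a : Ideal A) (_ : a.IsPrime),
          Algebra.FiniteType k A ∧ Synt.IsGlobalCI k A ∧ Nonempty (S ≃ₐ[k] Localization.AtPrime a)) ∧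
      (Synt.IsCIOver k S ↔
        ∃ (A : Type u) (_ : CommRing A) (_ : Algebra k A) (a : Ideal A) (_ : a.IsPrime),
          Synt.IsLCIOver k A ∧ Nonempty (S ≃ₐ[k] Localization.AtPrime a)) := by
  have h5 : (∃ (A : Type u) (_ : CommRing A) (_ : Algebra k A) (a : Ideal A) (_ : a.IsPrime),
      Synt.IsLCIOver k A ∧ Nonempty (S ≃ₐ[k] Localization.AtPrime a)) → Synt.IsCIOver k S := by
    rintro ⟨A, _, _, a, _, hA, ⟨e⟩⟩
    exact GrothLib.CIField.isCIOver_of_algEquiv e.symm (GrothLib.CIField.isCIOver_atPrime_of_isLCIOver hA a)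
  refine ⟨⟨fun h R _ _ _ hR π hπ => ?_, fun h => ?_⟩, ⟨fun h => ?_, ?_⟩,
    ⟨GrothLib.CIField.exists_globalCI_model, fun ⟨A, i1, i2, a, i3, hft, hA, he⟩ =>
      h5 ⟨A, i1, i2, a, i3, GrothLib.CIField.isLCIOver_of_isGlobalCI hA, he⟩⟩, ⟨fun h => ?_, h5⟩⟩
  · haveI := hR
    obtain ⟨rs, hrs, hI⟩ := (GrothLib.CIField.regGen_of_isCIOver h π hπ).exists_isRegular
      (RingHom.ker_ne_top π.toRingHom)
    exact ⟨rs, hrs, hI.symm⟩
  · obtain ⟨n, β, hβ⟩ := GrothLib.CIField.exists_isGen (k := k) (S := S)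
    let p : Ideal (MvPolynomial (Fin n) k) := (IsLocalRing.maximalIdeal S).comap β.toRingHom
    haveI : p.IsPrime := Ideal.IsPrime.comap _
    haveI : Algebra.EssFiniteType k (Localization.AtPrime p) :=
      Algebra.EssFiniteType.comp k (MvPolynomial (Fin n) k) (Localization.AtPrime p)
    have hπ := GrothLib.CIField.locHom_surjective hβ p rfl
    obtain ⟨rs, hrs, hI⟩ := h (Localization.AtPrime p) inferInstance (GrothLib.CIField.locHom β p rfl) hπ
    exact (GrothLib.CIField.isCIOver_iff_regGen _ hπ).mpr ⟨rs, hrs.toIsWeaklyRegular, hI.symm⟩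
  · obtain ⟨R, _, _, _, hR, π, hπ, hg⟩ := (GrothLib.CIField.isCIOver_iff k S).mp h
    obtain ⟨rs, hrs, hI⟩ := hg.exists_isRegular (RingHom.ker_ne_top π.toRingHom)
    refine ⟨R, _, inferInstance, _, hR, π, hπ, rs, hI.symm, ?_⟩
    rw [← ringKrullDim_add_length_eq_ringKrullDim_of_isRegular rs hrs,
      ringKrullDim_eq_of_ringEquiv ((Ideal.quotEquivOfEq hI).trans
        (RingHom.quotientKerEquivOfSurjective (f := π.toRingHom) hπ))]
  · rintro ⟨R, _, _, _, hR, π, hπ, rs, hI, hdim⟩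
    haveI := hR
    refine (GrothLib.CIField.isCIOver_iff_regGen π hπ).mpr ⟨rs, ?_, hI.symm⟩
    refine (GrothLib.CMFree.isRegular_of_ringKrullDim_quotient R rs (hI ▸ RingHom.ker_ne_top π.toRingHom) ?_).toIsWeaklyRegular
    rw [ringKrullDim_eq_of_ringEquiv ((Ideal.quotEquivOfEq hI.symm).trans
      (RingHom.quotientKerEquivOfSurjective (f := π.toRingHom) hπ)), hdim]
  · obtain ⟨A, i1, i2, a, i3, hft, hA, he⟩ := GrothLib.CIField.exists_globalCI_model h
    exact ⟨A, i1, i2, a, i3, GrothLib.CIField.isLCIOver_of_isGlobalCI hA, he⟩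

end Groth.Agent.S9143
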