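import Groth.Statements.S9144
import Groth.Agent.Lib.CIField.FiniteType

set_option autoImplicit false
universe u
open Synt

namespace Groth.Agent.S9144

theorem result (k S : Type u) [Field k] [CommRing S] [Algebra k S]
    [Algebra.FiniteType k S] (q : Ideal S) [q.IsPrime] :
    (Synt.IsCIOver k (Localization.AtPrime q) ↔ ∃ g : S, g ∉ q ∧ Synt.IsLCIOver k (Localization.Away g)) ∧
      (Synt.IsCIOver k (Localization.AtPrime q) ↔
        ∃ g : S, g ∉ q ∧ Synt.IsGlobalCI k (Localization.Away g)) := by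
  have key := fun h => GrothLib.CIField.exists_isGlobalCI_away (k := k) q h
  have back : ∀ g : S, g ∉ q → Synt.IsGlobalCI k (Localization.Away g) →
      Synt.IsLCIOver k (Localization.Away g) := fun g _ h => GrothLib.CIField.isLCIOver_of_isGlobalCI h
  exact ⟨⟨fun h => (key h).imp fun g hg => ⟨hg.1, back g hg.1 hg.2⟩,
      fun ⟨g, hg, h⟩ => GrothLib.CIField.isCIOver_atPrime_of_away q g hg h⟩,
    ⟨key, fun ⟨g, hg, h⟩ => GrothLib.CIField.isCIOver_atPrime_of_away q g hg (back g hg h)⟩⟩

end Groth.Agent.S9144
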