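import Groth.Statements.S9145
import Groth.Agent.Lib.CIField.FiniteType

set_option autoImplicit false
universe u
open Synt

namespace Groth.Agent.S9145

theorem result (k S : Type u) [Field k] [CommRing S] [Algebra k S]
    [Algebra.FiniteType k S] :
    (Synt.IsLCIOver k S ↔ ∀ p : PrimeSpectrum S, Synt.IsCIOver k (Localization.AtPrime p.asIdeal)) ∧
      (Synt.IsLCIOver k S ↔
        ∀ m : MaximalSpectrum S, Synt.IsCIOver k (Localization.AtPrime m.asIdeal)) := by
  have hmax : (∀ m : MaximalSpectrum S, Synt.IsCIOver k (Localization.AtPrime m.asIdeal)) → Synt.IsLCIOver k S := by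
    intro h
    refine ⟨inferInstance, fun p => ?_⟩
    obtain ⟨m, hm, hle⟩ := Ideal.exists_le_maximal p.asIdeal p.isPrime.ne_top
    obtain ⟨g, hg, hG⟩ := GrothLib.CIField.exists_isGlobalCI_away m (h ⟨m, hm⟩)
    exact ⟨g, fun hgp => hg (hle hgp), hG⟩
  exact ⟨⟨fun h p => GrothLib.CIField.isCIOver_atPrime_of_isLCIOver h p.asIdeal,
      fun h => hmax fun m => h m.toPrimeSpectrum⟩,
    ⟨fun h m => GrothLib.CIField.isCIOver_atPrime_of_isLCIOver h m.asIdeal, hmax⟩⟩

end Groth.Agent.S9145
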