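import Groth.Statements.S9146
import Groth.Agent.Lib.LCI6.Syntomic

set_option autoImplicit false
universe u
open Synt

namespace Groth.Agent.S9146

theorem result (R S : Type u) [CommRing R] [CommRing S] [Algebra R S]
    (s : Finset S) (hs : Ideal.span (s : Set S) = ⊤)
    (h : ∀ g ∈ s, Synt.IsSyntomic R (Localization.Away g)) : Synt.IsSyntomic R S := by
  refine GrothLib.LCI6.isSyntomic_iff.mpr ⟨?_, GrothLib.LCI6.isLCI_of_span_eq_top (s : Set S) hs
    fun g hg => (GrothLib.LCI6.isSyntomic_iff.mp (h g hg)).2⟩
  exact Module.flat_of_isLocalized_span (R := R) S S (s : Set S) hs (fun g => Localization.Away g.1)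
    (fun g => Algebra.linearMap S (Localization.Away g.1)) fun g => (h g.1 g.2).1

end Groth.Agent.S9146
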