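import Groth.Statements.S9150
import Groth.Agent.Lib.RelGCIReg.Local

set_option autoImplicit false
universe u
open Synt

namespace Groth.Agent.S9150

theorem quot_away_equiv {R A : Type u} [CommRing R] [CommRing A] [Algebra R A] (h : A) (J : Ideal A)
    (hh : Ideal.Quotient.mk J h = 1) :
    Nonempty ((Localization.Away h ⧸ J.map (algebraMap A (Localization.Away h))) ≃ₐ[R] (A ⧸ J)) := by
  let L := Localization.Away h
  let ψ : L →ₐ[R] A ⧸ J := IsLocalization.liftAlgHom (M := Submonoid.powers h)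
    (f := Ideal.Quotient.mkₐ R J) (by
      rintro ⟨y, m, rfl⟩
      rw [map_pow, show Ideal.Quotient.mkₐ R J h = 1 from hh, one_pow]
      exact isUnit_one)
  have hψ : ∀ a, ψ (algebraMap A L a) = Ideal.Quotient.mk J a := fun a => IsLocalization.lift_eq _ a
  have hs : Function.Surjective ψ := fun x => by
    obtain ⟨a, rfl⟩ := Ideal.Quotient.mk_surjective x
    exact ⟨_, hψ a⟩
  have hk : RingHom.ker ψ.toRingHom = J.map (algebraMap A L) := by
    apply le_antisymm
    · intro z hz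
      obtain ⟨⟨a, ⟨_, m, rfl⟩⟩, hs'⟩ := IsLocalization.surj (Submonoid.powers h) z
      refine (Ideal.mul_unit_mem_iff_mem _
        (IsLocalization.map_units L (⟨h ^ m, m, rfl⟩ : Submonoid.powers h))).mp ?_
      rw [hs']
      refine Ideal.mem_map_of_mem _ (Ideal.Quotient.eq_zero_iff_mem.mp ?_)
      rw [← hψ, ← hs', map_mul, show ψ z = 0 from hz, zero_mul]
    · rw [Ideal.map_le_iff_le_comap]
      intro a ha
      show ψ (algebraMap A L a) = 0
      rw [hψ]
      exact Ideal.Quotient.eq_zero_iff_mem.mpr ha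
  exact ⟨(Ideal.quotientEquivAlgOfEq R hk.symm).trans (Ideal.quotientKerAlgEquivOfSurjective hs)⟩

theorem quot_lift_equiv {R : Type u} [CommRing R] (I : Ideal R) {n c : ℕ}
    (F : Fin c → MvPolynomial (Fin n) R) :
    Nonempty ((Synt.RelGCIRing R n c F ⧸ I.map (algebraMap R (Synt.RelGCIRing R n c F))) ≃ₐ[R]
      Synt.RelGCIRing (R ⧸ I) n c fun i => MvPolynomial.map (Ideal.Quotient.mk I) (F i)) := by
  let Fb : Fin c → MvPolynomial (Fin n) (R ⧸ I) := fun i => MvPolynomial.map (Ideal.Quotient.mk I) (F i)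
  let B := Synt.RelGCIRing (R ⧸ I) n c Fb
  let m : MvPolynomial (Fin n) R →ₐ[R] MvPolynomial (Fin n) (R ⧸ I) :=
    MvPolynomial.mapAlgHom (Ideal.Quotient.mkₐ R I)
  have hm : ∀ x, m x = MvPolynomial.map (Ideal.Quotient.mk I) x := fun _ => rfl
  let Φ : MvPolynomial (Fin n) R →ₐ[R] B :=
    ((Ideal.Quotient.mkₐ (R ⧸ I) (Ideal.span (Set.range Fb))).restrictScalars R).comp m
  have hΦs : Function.Surjective Φ := fun y => by
    obtain ⟨y, rfl⟩ := Ideal.Quotient.mk_surjective y
    obtain ⟨x, rfl⟩ := MvPolynomial.map_surjective _ Ideal.Quotient.mk_surjective y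
    exact ⟨x, rfl⟩
  have hle : Ideal.span (Set.range F) ≤ RingHom.ker Φ.toRingHom := Ideal.span_le.mpr (by
    rintro _ ⟨i, rfl⟩
    exact Ideal.Quotient.eq_zero_iff_mem.mpr (Ideal.subset_span ⟨i, rfl⟩))
  let ψ : Synt.RelGCIRing R n c F →ₐ[R] B := Ideal.Quotient.liftₐ _ Φ fun x hx => hle hx
  have hψs : Function.Surjective ψ := fun y => by
    obtain ⟨x, rfl⟩ := hΦs y
    exact ⟨Ideal.Quotient.mk _ x, rfl⟩
  have hk : RingHom.ker ψ.toRingHom = I.map (algebraMap R (Synt.RelGCIRing R n c F)) := by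
    apply le_antisymm
    · intro z hz
      obtain ⟨x, rfl⟩ := Ideal.Quotient.mk_surjective z
      have hx : MvPolynomial.map (Ideal.Quotient.mk I) x ∈ Ideal.span (Set.range Fb) :=
        Ideal.Quotient.eq_zero_iff_mem.mp hz
      have hrange : Ideal.span (Set.range Fb) =
          (Ideal.span (Set.range F)).map (MvPolynomial.map (Ideal.Quotient.mk I)) := by
        rw [Ideal.map_span, ← Set.range_comp]
        rfl
      rw [hrange] at hx
      obtain ⟨y, hy, hxy⟩ := (Ideal.mem_map_iff_of_surjective _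
        (MvPolynomial.map_surjective _ Ideal.Quotient.mk_surjective)).mp hx
      have hd : x - y ∈ I.map (MvPolynomial.C : R →+* MvPolynomial (Fin n) R) := by
        rw [MvPolynomial.mem_map_C_iff]
        intro d
        rw [← Ideal.Quotient.eq_zero_iff_mem, ← MvPolynomial.coeff_map, map_sub, hxy, sub_self]
        rfl
      have hd' := Ideal.mem_map_of_mem (Ideal.Quotient.mk (Ideal.span (Set.range F))) hd
      rw [Ideal.map_map, map_sub, Ideal.Quotient.eq_zero_iff_mem.mpr hy, sub_zero] at hd'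
      exact hd'
    · rw [Ideal.map_le_iff_le_comap]
      intro r hr
      show ψ (algebraMap R _ r) = 0
      rw [AlgHom.commutes, IsScalarTower.algebraMap_apply R (R ⧸ I) B, Ideal.Quotient.algebraMap_eq,
        Ideal.Quotient.eq_zero_iff_mem.mpr hr, map_zero]
  exact ⟨(Ideal.quotientEquivAlgOfEq R hk.symm).trans (Ideal.quotientKerAlgEquivOfSurjective hψs)⟩

theorem result (R : Type u) [CommRing R] (I : Ideal R) (Sb : Type u) [CommRing Sb]
    [Algebra R Sb] [Algebra (R ⧸ I) Sb] [IsScalarTower R (R ⧸ I) Sb] (h : Synt.IsSyntomic (R ⧸ I) Sb) :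
    ∃ s : Finset Sb, Ideal.span (s : Set Sb) = ⊤ ∧ ∀ g ∈ s,
      ∃ (n c : ℕ) (F : Fin c → MvPolynomial (Fin n) R), Synt.IsRelGCI R n c F ∧
        Nonempty (Localization.Away g ≃ₐ[R]
          (Synt.RelGCIRing R n c F ⧸ I.map (algebraMap R (Synt.RelGCIRing R n c F)))) := by
  classical
  let G : Set Sb := {g | ∃ (n c : ℕ) (F : Fin c → MvPolynomial (Fin n) R), Synt.IsRelGCI R n c F ∧
    Nonempty (Localization.Away g ≃ₐ[R]
      (Synt.RelGCIRing R n c F ⧸ I.map (algebraMap R (Synt.RelGCIRing R n c F))))}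
  have htop : Ideal.span G = ⊤ := by
    by_contra hne
    obtain ⟨M, hM, hle⟩ := Ideal.exists_le_maximal _ hne
    obtain ⟨g, hg, n, c, Fb, hFb, ⟨e⟩⟩ := GrothLib.RelGCIReg.exists_relGCI_away h M
    choose F hF using fun i => MvPolynomial.map_surjective (Ideal.Quotient.mk I) Ideal.Quotient.mk_surjective (Fb i)
    obtain rfl : (fun i => MvPolynomial.map (Ideal.Quotient.mk I) (F i)) = Fb := funext hF
    obtain ⟨f, hf1, hf2⟩ := GrothLib.RelGCIReg.exists_away_of_ideal F I hFb
    refine hg (hle (Ideal.subset_span ?_))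
    refine ⟨n + 1, c + 1, GrothLib.RelGCIReg.snocSeq F f, hf2, ?_⟩
    obtain ⟨e₁⟩ := GrothLib.RelGCIReg.nonempty_awayEquiv F f
    obtain ⟨e₂⟩ := quot_lift_equiv I F
    obtain ⟨e₃⟩ := quot_away_equiv (R := R) (Ideal.Quotient.mk (Ideal.span (Set.range F)) f)
      (I.map (algebraMap R (Synt.RelGCIRing R n c F))) hf1
    haveI : IsScalarTower R (R ⧸ I) (Localization.Away g) := IsScalarTower.of_algebraMap_eq fun r => by
      rw [IsScalarTower.algebraMap_apply R Sb, IsScalarTower.algebraMap_apply (R ⧸ I) Sb,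
        ← IsScalarTower.algebraMap_apply R (R ⧸ I) Sb]
    refine ⟨(e.restrictScalars R).trans (e₂.symm.trans (e₃.symm.trans (Ideal.quotientEquivAlg _ _ e₁ ?_)))⟩
    rw [Ideal.map_map, Ideal.map_map]
    congr 1
    ext r
    exact ((e₁.commutes r).symm.trans (congrArg e₁ (IsScalarTower.algebraMap_apply R (Synt.RelGCIRing R n c F)
      (Localization.Away (Ideal.Quotient.mk (Ideal.span (Set.range F)) f)) r)))
  obtain ⟨s, hsG, hs⟩ := Submodule.mem_span_finite_of_mem_span (htop ▸ Submodule.mem_top : (1 : Sb) ∈ Ideal.span G)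
  exact ⟨s, (Ideal.eq_top_iff_one _).mpr hs, fun g hg => hsG hg⟩

end Groth.Agent.S9150
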