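import Groth.Statements.S9151
import Groth.Agent.Lib.UnivAlg4.ConormalAway

set_option autoImplicit false
universe u
open Synt

namespace Groth.Agent.S9151

/-- Let S = R[x_1, …, x_n]/I with I finitely generated and let g ∈ S be such that S_g is syntomic over
R. Then the localization (I/I²)_g of the conormal module is a finite projective S_g-module. -/
theorem result (R : Type u) [CommRing R] (n : ℕ)
    (I : Ideal (MvPolynomial (Fin n) R)) (hI : I.FG) (g : MvPolynomial (Fin n) R ⧸ I)
    (hg : Synt.IsSyntomic R (Localization.Away g)) :
    Module.Finite (Localization.Away g) (LocalizedModule (Submonoid.powers g) I.Cotangent) ∧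
      Module.Projective (Localization.Away g) (LocalizedModule (Submonoid.powers g) I.Cotangent) := by
  haveI : Module.Finite (MvPolynomial (Fin n) R) I := Module.Finite.iff_fg.mpr hI
  haveI : Module.Finite (MvPolynomial (Fin n) R) I.Cotangent := Module.Finite.of_surjective I.toCotangent I.toCotangent_surjective
  haveI : Module.Finite (MvPolynomial (Fin n) R ⧸ I) I.Cotangent := Module.Finite.of_restrictScalars_finite (MvPolynomial (Fin n) R) _ _
  exact ⟨Module.Finite.of_isLocalizedModule (Submonoid.powers g) (LocalizedModule.mkLinearMap _ _),
    GrothLib.UnivAlg4.projective_cotangent_away I g hg⟩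

end Groth.Agent.S9151
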