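import Groth.Statements.S9153
import Groth.Agent.Lib.CatCM.Basic
import Groth.Agent.Lib.CMPoly.Basic
-- import your own Groth.Agent.* helpers here

set_option autoImplicit false
universe u
open CAlg

namespace Groth.Agent.S9153

/-- In a polynomial ring in finitely many variables over a field, every saturated chain of primes
between two primes p ⊆ q has length equal to the difference of their heights (stated additively:
length + height p = height q). -/
theorem result (k : Type u) [Field k] (n : ℕ)
    (s : LTSeries (PrimeSpectrum (MvPolynomial (Fin n) k)))
    (hsat : ∀ i : Fin s.length, s (Fin.castSucc i) ⋖ s (Fin.succ i)) :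
    (s.length : ℕ∞) + s.head.asIdeal.height = s.last.asIdeal.height := by
  have := GrothLib.CatCM.isCohenMacaulayRing_of_isRegularRing (MvPolynomial (Fin n) k)
  have key : ∀ (i : ℕ) (hi : i < s.length + 1),
      (s ⟨i, hi⟩).asIdeal.height = (i : ℕ∞) + s.head.asIdeal.height := by
    intro i
    induction i with
    | zero =>
      intro _
      simp [RelSeries.head]
    | succ i ih =>
      intro hi
      have h := GrothLib.CatCM.height_covBy (hsat ⟨i, by omega⟩)
      rw [Fin.castSucc_mk, Fin.succ_mk] at h
      rw [h, ih (by omega), Nat.cast_add, Nat.cast_one]
      abel
  exact (key s.length (by omega)).symm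

end Groth.Agent.S9153
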