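import Groth.Statements.S9154
import Groth.Agent.Lib.CMFree.Params
import Groth.Agent.Lib.GrpSchField.HeightMax
import Groth.Agent.Lib.SyntLoc.Field
-- import your own Groth.Agent.* helpers here

set_option autoImplicit false
universe u
open CAlg

namespace Groth.Agent.S9154

/-- Let S be a Cohen–Macaulay finite type algebra over a field k, equidimensional of dimension d, and
f_1, …, f_i elements (i ≤ d) generating a proper ideal whose zero locus has dimension at most d − i.
Then that dimension equals d − i and the f_j form a regular sequence in S_q for every prime q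
containing them. (The published statement also allows the f_j to generate the unit ideal, where the
zero locus is empty and the equality fails, e.g. f_1 = 1 in k[x]; this row assumes the ideal is
proper.) -/
theorem result (k S : Type u) [Field k] [CommRing S] [Algebra k S]
    [Algebra.FiniteType k S] [LocCoh.IsCohenMacaulayRing S] (d : ℕ)
    (heq : ∀ p ∈ minimalPrimes S, ringKrullDim (S ⧸ p) = d) (f : List S) (hi : f.length ≤ d)
    (hne : Ideal.ofList f ≠ ⊤)
    (hle : ringKrullDim (S ⧸ Ideal.ofList f) ≤ ((d - f.length : ℕ) : WithBot ℕ∞)) :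
    ringKrullDim (S ⧸ Ideal.ofList f) = ((d - f.length : ℕ) : WithBot ℕ∞) ∧
      ∀ (q : Ideal S) [q.IsPrime], Ideal.ofList f ≤ q →
        RingTheory.Sequence.IsRegular (Localization.AtPrime q)
          (f.map (algebraMap S (Localization.AtPrime q))) := by
  classical
  haveI : IsNoetherianRing S := Algebra.FiniteType.isNoetherianRing k S
  have hdim : ringKrullDim S ≤ (d : WithBot ℕ∞) := by
    rw [ringKrullDim, Order.krullDim]
    refine iSup_le fun l => ?_
    obtain ⟨q, hq, hqh⟩ := Ideal.exists_minimalPrimes_le (bot_le : (⊥ : Ideal S) ≤ l.head.asIdeal)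
    have h : ∀ i, l i ∈ PrimeSpectrum.zeroLocus (R := S) q := fun i =>
      hqh.trans ((PrimeSpectrum.asIdeal_le_asIdeal _ _).2 (LTSeries.head_le l i))
    let l' : LTSeries (PrimeSpectrum.zeroLocus (R := S) q) :=
      { length := l.length, toFun := fun i => ⟨l i, h i⟩, step := fun i => l.step i }
    have := Order.LTSeries.length_le_krullDim l'
    rw [← ringKrullDim_quotient, heq q hq] at this
    exact this
  have key : ∀ (m : Ideal S) [m.IsMaximal], Ideal.ofList f ≤ m →
      ((d - f.length : ℕ) : WithBot ℕ∞) ≤ ringKrullDim (S ⧸ Ideal.ofList f) ∧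
      RingTheory.Sequence.IsWeaklyRegular (Localization.AtPrime m) (f.map (algebraMap S (Localization.AtPrime m))) := by
    intro m _ hfm
    have hht : (m.height : WithBot ℕ∞) = (d : WithBot ℕ∞) := by
      refine le_antisymm ((Ideal.height_le_ringKrullDim_of_ne_top (Ideal.IsMaximal.ne_top inferInstance)).trans hdim) ?_
      obtain ⟨p, hp, hpm⟩ := Ideal.exists_minimalPrimes_le (bot_le : (⊥ : Ideal S) ≤ m)
      haveI : p.IsPrime := hp.1.1
      haveI : (m.map (Ideal.Quotient.mk p)).IsMaximal :=
        Ideal.IsMaximal.map_of_surjective_of_ker_le Ideal.Quotient.mk_surjective (by rwa [Ideal.mk_ker])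
      rw [← heq p hp, ← GrothLib.GrpSchField.height_eq_ringKrullDim_of_isMaximal k (S ⧸ p) (m.map (Ideal.Quotient.mk p))]
      refine WithBot.coe_le_coe.2 ?_
      rw [PrimeSpectrum.height_eq_orderHeight ⟨m.map (Ideal.Quotient.mk p), Ideal.IsMaximal.isPrime inferInstance⟩,
        PrimeSpectrum.height_eq_orderHeight ⟨m, Ideal.IsMaximal.isPrime inferInstance⟩]
      refine le_trans (Order.height_le_height_apply_of_strictMono
        (PrimeSpectrum.comap (Ideal.Quotient.mk p)) (fun x y hxy => lt_of_le_of_ne (Ideal.comap_mono hxy.le) fun h => hxy.ne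
          (PrimeSpectrum.comap_injective_of_surjective _ Ideal.Quotient.mk_surjective h)) _) (le_of_eq ?_)
      congr 1
      ext1
      show (m.map (Ideal.Quotient.mk p)).comap (Ideal.Quotient.mk p) = m
      rw [Ideal.comap_map_of_surjective _ Ideal.Quotient.mk_surjective, ← RingHom.ker_eq_comap_bot, Ideal.mk_ker,
        sup_eq_left.2 hpm]
    let L := Localization.AtPrime m
    set rs := f.map (algebraMap S L) with hrs
    haveI : LocCoh.IsCohenMacaulayLocalRing L := LocCoh.IsCohenMacaulayRing.isCohenMacaulayLocalRing_localization m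
    have hmem : ∀ r ∈ rs, r ∈ IsLocalRing.maximalIdeal L := fun r hr => by
      obtain ⟨a, ha, rfl⟩ := List.mem_map.1 hr
      exact (IsLocalization.AtPrime.to_map_mem_maximal_iff L m a).2 (hfm (Ideal.subset_span ha))
    have hmap : (Ideal.ofList f).map (algebraMap S L) = Ideal.ofList rs := Ideal.map_ofList _ _
    have hquot : ringKrullDim (L ⧸ Ideal.ofList rs) ≤ ringKrullDim (S ⧸ Ideal.ofList f) := by
      rw [ringKrullDim_quotient, ringKrullDim_quotient]
      refine Order.krullDim_le_of_strictMono (fun x => ⟨PrimeSpectrum.comap (algebraMap S L) x.1, fun a ha => ?_⟩)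
        fun x y hxy => ?_
      · exact x.2 (hmap ▸ Ideal.mem_map_of_mem _ ha)
      · refine lt_of_le_of_ne (Ideal.comap_mono (le_of_lt hxy) : _) fun h => hxy.ne ?_
        exact Subtype.ext (PrimeSpectrum.localization_comap_injective L m.primeCompl (congrArg Subtype.val h))
    have hdimL : ringKrullDim L = (d : WithBot ℕ∞) := by
      rw [IsLocalization.AtPrime.ringKrullDim_eq_height m L, hht]
    have hlen : ringKrullDim L ≤ ringKrullDim (L ⧸ Ideal.ofList rs) + (rs.length : WithBot ℕ∞) := by
      refine (ringKrullDim_le_ringKrullDim_quotient_add_spanFinrank (Ideal.ofList rs) ?_).trans (add_le_add le_rfl ?_)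
      · exact (Ideal.span_le.2 hmem).trans (IsLocalRing.ringJacobson_eq_maximalIdeal (R := L)).ge
      · have hs : (Ideal.ofList rs).spanFinrank ≤ rs.length := by
          rw [Ideal.ofList, show {r | r ∈ rs} = (rs.toFinset : Set L) by ext; simp]
          exact (Submodule.spanFinrank_span_le_ncard_of_finite (Finset.finite_toSet _)).trans
            ((Set.ncard_coe_finset _).le.trans (List.toFinset_card_le _))
        exact_mod_cast hs
    have hrl : rs.length = f.length := List.length_map _
    have hup : ∀ n : ℕ, (n : WithBot ℕ∞) ≤ ringKrullDim (L ⧸ Ideal.ofList rs) + rs.length → n ≤ d := by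
      intro n hn
      have h2 : ringKrullDim (L ⧸ Ideal.ofList rs) + (rs.length : WithBot ℕ∞) ≤ ((d - f.length : ℕ) : WithBot ℕ∞) + (f.length : ℕ) := by
        rw [hrl]; exact add_le_add (hquot.trans hle) le_rfl
      have := hn.trans h2
      rw [← Nat.cast_add, Nat.sub_add_cancel hi] at this
      exact_mod_cast this
    refine ⟨?_, ?_⟩
    · rw [hdimL, hrl] at hlen
      have := hlen.trans (add_le_add hquot le_rfl)
      have : ((d - f.length : ℕ) : WithBot ℕ∞) + (f.length : ℕ) ≤ ringKrullDim (S ⧸ Ideal.ofList f) + (f.length : ℕ) := by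
        rw [← Nat.cast_add, Nat.sub_add_cancel hi]; exact this
      exact ENat.WithBot.add_le_add_natCast_right_iff.1 this
    · have hdep : (d : ℕ∞) ≤ LocCoh.idealDepth (IsLocalRing.maximalIdeal L) (L ⧸ (⊥ : Ideal L)) := by
        have h1 := (inferInstance : LocCoh.IsCohenMacaulayLocalRing L).supportDim_eq_depth
        rw [Module.supportDim_self_eq_ringKrullDim, hdimL] at h1
        rw [GrothLib.Depth17.idealDepth_congr (IsLocalRing.maximalIdeal L) (Submodule.quotEquivOfEqBot (⊥ : Ideal L) rfl)]
        exact le_of_eq (WithBot.coe_inj.1 h1)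
      have h := GrothLib.CMFree.isWeaklyRegular_of_dim rs hmem ⊥ d bot_le hdep fun n hn => hup n (by
        rwa [bot_sup_eq] at hn)
      exact (LinearEquiv.isWeaklyRegular_congr (Submodule.quotEquivOfEqBot (⊥ : Ideal L) rfl) rs).1 h
  obtain ⟨m₀, hm₀, hfm₀⟩ := Ideal.exists_le_maximal _ hne
  haveI := hm₀
  refine ⟨le_antisymm hle (key m₀ hfm₀).1, fun q _ hfq => ?_⟩
  obtain ⟨m, hm, hqm⟩ := Ideal.exists_le_maximal q (Ideal.IsPrime.ne_top inferInstance)
  haveI := hm
  have hreg := (key m (hfq.trans hqm)).2
  letI : Algebra (Localization.AtPrime m) (Localization.AtPrime q) :=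
    IsLocalization.localizationAlgebraOfSubmonoidLe (Localization.AtPrime m) (Localization.AtPrime q) m.primeCompl q.primeCompl
      (fun x hx h => hx (hqm h))
  haveI : IsScalarTower S (Localization.AtPrime m) (Localization.AtPrime q) :=
    IsLocalization.localization_isScalarTower_of_submonoid_le _ _ _ _ _
  haveI := IsLocalization.isLocalization_of_submonoid_le (Localization.AtPrime m) (Localization.AtPrime q) m.primeCompl q.primeCompl
      (fun x hx h => hx (hqm h))
  haveI : Module.Flat (Localization.AtPrime m) (Localization.AtPrime q) :=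
    IsLocalization.flat _ (q.primeCompl.map (algebraMap S (Localization.AtPrime m)))
  have h2 := RingTheory.Sequence.IsWeaklyRegular.of_flat (S := Localization.AtPrime q) hreg
  rw [List.map_map] at h2
  have hcomp : (⇑(algebraMap (Localization.AtPrime m) (Localization.AtPrime q)) ∘ ⇑(algebraMap S (Localization.AtPrime m))) =
      ⇑(algebraMap S (Localization.AtPrime q)) := funext fun x => (IsScalarTower.algebraMap_apply _ _ _ x).symm
  rw [hcomp] at h2
  refine ⟨h2, fun htop => ?_⟩
  rw [smul_eq_mul, Ideal.mul_top, ← Ideal.map_ofList] at htop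
  exact (IsLocalRing.maximalIdeal.isMaximal _).ne_top (eq_top_iff.2 (htop.le.trans
    (Ideal.map_le_iff_le_comap.2 fun a ha => (IsLocalization.AtPrime.to_map_mem_maximal_iff _ q a).2 (hfq ha))))

end Groth.Agent.S9154
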