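import Groth.Statements.S9155
import Groth.Agent.Lib.PrincipalParts.Etale
import Mathlib.RingTheory.Localization.BaseChange

set_option autoImplicit false
universe u
open Diff16

namespace Groth.Agent.S9155

open scoped TensorProduct



/-- A differential operator of order at most k between modules over B (relative to A → B) has exactly
one extension to the localized modules over S⁻¹B that is again a differential operator of order at
most k (relative to A → S⁻¹B), compatible with the localization maps. -/
theorem result (A B : Type u) [CommRing A] [CommRing B] [Algebra A B]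
    (S : Submonoid B) (M N : Type u) [AddCommGroup M] [Module B M] [Module A M] [IsScalarTower A B M]
    [AddCommGroup N] [Module B N] [Module A N] [IsScalarTower A B N] (k : ℕ) (D : M →ₗ[A] N)
    (hD : Diff16.IsDiffOpLE A B M N k D) :
    ∃! E : LocalizedModule S M →ₗ[A] LocalizedModule S N,
      Diff16.IsDiffOpLE A (Localization S) (LocalizedModule S M) (LocalizedModule S N) k E ∧
        E ∘ₗ (LocalizedModule.mkLinearMap S M).restrictScalars A =
          (LocalizedModule.mkLinearMap S N).restrictScalars A ∘ₗ D := by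
  let B' := Localization S
  haveI : IsScalarTower A B B' := inferInstance
  haveI : Algebra.FormallyEtale B B' := Algebra.FormallyEtale.of_isLocalization S
  let e : LocalizedModule S M ≃ₗ[B'] B' ⊗[B] M := LocalizedModule.equivTensorProduct S M
  have he : ∀ m : M, e (LocalizedModule.mk m 1) = (1 : B') ⊗ₜ[B] m := fun m => by
    apply e.symm.injective
    rw [LinearEquiv.symm_apply_apply]
    exact (LocalizedModule.equivTensorProduct_symm_apply_tmul_one (S := S) m).symm
  let D₁ : M →ₗ[A] LocalizedModule S N := (LocalizedModule.mkLinearMap S N).restrictScalars A ∘ₗ D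
  have hD₁ : Diff16.IsDiffOpLE A B M (LocalizedModule S N) k D₁ :=
    GrothLib.DiffOp.isDiffOpLE_comp (n' := 0) hD
      (GrothLib.DiffOp.isDiffOpLE_restrictScalars (A := A) 0 (LocalizedModule.mkLinearMap S N))
  obtain ⟨D₂, hD₂, hD₂m⟩ := GrothLib.PPEtale.exists_extension (S' := B') k D₁ hD₁
  have hcomp : ∀ (D' : B' ⊗[B] M →ₗ[A] LocalizedModule S N),
      Diff16.IsDiffOpLE A B' (B' ⊗[B] M) (LocalizedModule S N) k D' →
        Diff16.IsDiffOpLE A B' (LocalizedModule S M) (LocalizedModule S N) k
          (D' ∘ₗ e.toLinearMap.restrictScalars A) := fun D' h => by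
    have := GrothLib.DiffOp.isDiffOpLE_comp
      (GrothLib.DiffOp.isDiffOpLE_restrictScalars (A := A) 0 e.toLinearMap) h
    rwa [Nat.zero_add] at this
  refine ⟨D₂ ∘ₗ e.toLinearMap.restrictScalars A, ⟨hcomp _ hD₂, LinearMap.ext fun m => ?_⟩, ?_⟩
  · show D₂ (e (LocalizedModule.mk m 1)) = _
    rw [he, hD₂m]
  · rintro E ⟨hE, hEm⟩
    have h1 := GrothLib.DiffOp.isDiffOpLE_comp
      (GrothLib.DiffOp.isDiffOpLE_restrictScalars (A := A) 0 e.symm.toLinearMap) hE
    rw [Nat.zero_add] at h1
    have h2 := GrothLib.PPEtale.eq_zero_of_comp_mk (S := B) k _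
      (GrothLib.DiffOp.isDiffOpLE_sub h1 hD₂) fun m => by
        show E (e.symm ((1 : B') ⊗ₜ[B] m)) - D₂ ((1 : B') ⊗ₜ[B] m) = 0
        rw [hD₂m, ← he, LinearEquiv.symm_apply_apply, sub_eq_zero]
        exact LinearMap.congr_fun hEm m
    refine LinearMap.ext fun x => ?_
    have h3 := LinearMap.congr_fun h2 (e x)
    simpa [sub_eq_zero] using h3

end Groth.Agent.S9155
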