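import Groth.Statements.S9156
import Groth.Agent.Lib.CMFree.Params
import Groth.Agent.Lib.GrpSchField.HeightMax
-- import your own Groth.Agent.* helpers here

set_option autoImplicit false
universe u
open CAlg

namespace Groth.Agent.S9156

/-- A Cohen–Macaulay finite type algebra S over a field k decomposes as a finite product of k-algebras
S_0 × ⋯ × S_N in which every maximal ideal of the factor S_d has height d (so Spec S is a finite
disjoint union of equidimensional open and closed pieces). -/
theorem result (k S : Type u) [Field k] [CommRing S]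
    [Algebra k S] [Algebra.FiniteType k S] [LocCoh.IsCohenMacaulayRing S] :
    ∃ (N : ℕ) (T : Fin (N + 1) → Type u) (_ : ∀ d, CommRing (T d)) (_ : ∀ d, Algebra k (T d)),
      Nonempty (S ≃ₐ[k] ((d : Fin (N + 1)) → T d)) ∧
        ∀ (d : Fin (N + 1)) (m : Ideal (T d)), m.IsMaximal → m.height = (d : ℕ) := by
  classical
  haveI : IsNoetherianRing S := Algebra.FiniteType.isNoetherianRing k S
  have hcore : ∀ (p : Ideal S), p ∈ minimalPrimes S → ∀ (M : Ideal S) [M.IsMaximal], p ≤ M →
      ringKrullDim (S ⧸ p) = (M.height : WithBot ℕ∞) := by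
    intro p hp M _ hpM
    haveI : p.IsPrime := hp.1.1
    refine le_antisymm ?_ ?_
    · haveI : (M.map (Ideal.Quotient.mk p)).IsMaximal :=
        Ideal.IsMaximal.map_of_surjective_of_ker_le Ideal.Quotient.mk_surjective (by rwa [Ideal.mk_ker])
      rw [← GrothLib.GrpSchField.height_eq_ringKrullDim_of_isMaximal k (S ⧸ p) (M.map (Ideal.Quotient.mk p))]
      refine WithBot.coe_le_coe.2 ?_
      rw [PrimeSpectrum.height_eq_orderHeight ⟨M.map (Ideal.Quotient.mk p), Ideal.IsMaximal.isPrime inferInstance⟩,
        PrimeSpectrum.height_eq_orderHeight ⟨M, Ideal.IsMaximal.isPrime inferInstance⟩]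
      refine le_trans (Order.height_le_height_apply_of_strictMono
        (PrimeSpectrum.comap (Ideal.Quotient.mk p)) (fun x y hxy => lt_of_le_of_ne (Ideal.comap_mono hxy.le) fun h => hxy.ne
          (PrimeSpectrum.comap_injective_of_surjective _ Ideal.Quotient.mk_surjective h)) _) (le_of_eq ?_)
      congr 1
      ext1
      show (M.map (Ideal.Quotient.mk p)).comap (Ideal.Quotient.mk p) = M
      rw [Ideal.comap_map_of_surjective _ Ideal.Quotient.mk_surjective, ← RingHom.ker_eq_comap_bot, Ideal.mk_ker,
        sup_eq_left.2 hpM]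
    · let L := Localization.AtPrime M
      haveI : LocCoh.IsCohenMacaulayLocalRing L := LocCoh.IsCohenMacaulayRing.isCohenMacaulayLocalRing_localization M
      have hdisj : Disjoint (M.primeCompl : Set S) (p : Set S) :=
        Set.disjoint_left.2 fun x hx hxp => hx (hpM hxp)
      haveI hP : (p.map (algebraMap S L)).IsPrime :=
        IsLocalization.isPrime_of_isPrime_disjoint M.primeCompl L p inferInstance hdisj
      have hcomap : (p.map (algebraMap S L)).comap (algebraMap S L) = p :=
        IsLocalization.comap_map_of_isPrime_disjoint M.primeCompl L inferInstance hdisj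
      have hass : p.map (algebraMap S L) ∈ associatedPrimes L L := by
        refine Module.associatedPrimes.minimalPrimes_annihilator_subset_associatedPrimes L L ⟨⟨hP, ?_⟩, fun Q hQ hQP => ?_⟩
        · intro x hx
          rw [Module.mem_annihilator] at hx
          have := hx 1
          rw [smul_eq_mul, mul_one] at this
          rw [this]; exact zero_mem _
        · have h1 : p ≤ Q.comap (algebraMap S L) := by
            haveI := hQ.1
            exact hp.2 ⟨inferInstance, bot_le⟩ ((Ideal.comap_mono hQP).trans hcomap.le)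
          exact (Ideal.map_mono h1).trans Ideal.map_comap_le
      have hdimL : ringKrullDim L = (M.height : WithBot ℕ∞) := IsLocalization.AtPrime.ringKrullDim_eq_height M L
      obtain ⟨n, hn⟩ := ENat.ne_top_iff_exists.1 (Ideal.height_ne_top (I := M) (Ideal.IsMaximal.ne_top inferInstance))
      have hdep : (n : ℕ∞) ≤ LocCoh.idealDepth (IsLocalRing.maximalIdeal L) L := by
        have h1 := (inferInstance : LocCoh.IsCohenMacaulayLocalRing L).supportDim_eq_depth
        rw [Module.supportDim_self_eq_ringKrullDim, hdimL, ← hn] at h1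
        exact le_of_eq (WithBot.coe_inj.1 h1)
      have h2 := GrothLib.CMFree.natCast_le_ringKrullDim_quotient L n hdep _ hass
      rw [← hn]
      refine le_trans (le_of_eq_of_le (by rfl) h2) ?_
      rw [ringKrullDim_quotient, ringKrullDim_quotient]
      refine Order.krullDim_le_of_strictMono (fun x => ⟨PrimeSpectrum.comap (algebraMap S L) x.1, fun a ha => ?_⟩)
        fun x y hxy => ?_
      · exact x.2 (Ideal.mem_map_of_mem _ ha)
      · refine lt_of_le_of_ne (Ideal.comap_mono (le_of_lt hxy) : _) fun h => hxy.ne ?_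
        exact Subtype.ext (PrimeSpectrum.localization_comap_injective L M.primeCompl (congrArg Subtype.val h))
  haveI : Fintype (minimalPrimes S) := (minimalPrimes.finite_of_isNoetherianRing S).fintype
  have hd : ∀ p : minimalPrimes S, ∃ n : ℕ, ringKrullDim (S ⧸ p.1) = (n : WithBot ℕ∞) := fun p => by
    obtain ⟨M, hM, hpM⟩ := Ideal.exists_le_maximal p.1 p.2.1.1.ne_top
    haveI := hM
    obtain ⟨n, hn⟩ := ENat.ne_top_iff_exists.1 (Ideal.height_ne_top (I := M) hM.ne_top)
    exact ⟨n, by rw [hcore p.1 p.2 M hpM, ← hn]; rfl⟩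
  choose dim hdim using hd
  set N := Finset.univ.sup dim with hN
  let J : Fin (N + 1) → Ideal S := fun d => (Finset.univ.filter fun p : minimalPrimes S => dim p = (d : ℕ)).inf fun p => p.1
  have hJle : ∀ (d : Fin (N + 1)) (M : Ideal S) [M.IsMaximal], J d ≤ M → M.height = ((d : ℕ) : ℕ∞) := by
    intro d M hM hJM
    obtain ⟨p, hp, hpM⟩ := (Ideal.IsPrime.inf_le' (hM.isPrime)).1 hJM
    have h := hcore p.1 p.2 M hpM
    rw [hdim p, (Finset.mem_filter.1 hp).2] at h
    exact_mod_cast h.symm
  have hcop : ∀ i j : Fin (N + 1), i ≠ j → J i ⊔ J j = ⊤ := by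
    intro i j hij
    by_contra hne
    obtain ⟨M, hM, hle⟩ := Ideal.exists_le_maximal _ hne
    haveI := hM
    have h1 := hJle i M (le_sup_left.trans hle)
    rw [hJle j M (le_sup_right.trans hle)] at h1
    exact hij (Fin.ext (by exact_mod_cast h1.symm))
  obtain ⟨e, he⟩ : ∃ e : ℕ, (∏ d, J d) ^ e = ⊥ := by
    have hle : ∏ d, J d ≤ nilradical S := by
      rw [nilradical, Ideal.radical_eq_sInf]
      refine le_sInf fun P hP => ?_
      haveI := hP.2
      obtain ⟨p, hp, hpP⟩ := Ideal.exists_minimalPrimes_le (bot_le : (⊥ : Ideal S) ≤ P)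
      refine (Ideal.prod_le_inf.trans ?_).trans hpP
      have hlt : dim ⟨p, hp⟩ < N + 1 := Nat.lt_succ_of_le (Finset.le_sup (f := dim) (Finset.mem_univ _))
      refine (Finset.inf_le (Finset.mem_univ (⟨dim ⟨p, hp⟩, hlt⟩ : Fin (N + 1)))).trans ?_
      exact Finset.inf_le (f := fun q : minimalPrimes S => q.1) (b := ⟨p, hp⟩) (by simp)
    obtain ⟨e, he⟩ := IsNoetherianRing.isNilpotent_nilradical S
    exact ⟨e, le_bot_iff.1 ((Ideal.pow_right_mono hle e).trans he.le)⟩
  let I : Fin (N + 1) → Ideal S := fun d => J d ^ e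
  have hI : Pairwise fun i j => IsCoprime (I i) (I j) := fun i j hij => by
    show IsCoprime (I i) (I j)
    rw [Ideal.isCoprime_iff_sup_eq]
    exact Ideal.pow_sup_pow_eq_top (hcop i j hij)
  have hinf : ⨅ d, I d = ⊥ := by
    have h := Ideal.prod_eq_iInf_of_pairwise_isCoprime (s := Finset.univ) (J := I) (fun i _ j _ hij => hI hij)
    simp only [Finset.mem_univ, iInf_pos] at h
    rw [← h, Finset.prod_pow, he]
  let φ : S →ₐ[k] ((d : Fin (N + 1)) → S ⧸ I d) := Pi.algHom k _ fun d => Ideal.Quotient.mkₐ k (I d)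
  have hφ : Function.Bijective φ := by
    constructor
    · refine (injective_iff_map_eq_zero φ).2 fun x hx => ?_
      rw [← Ideal.mem_bot, ← hinf, Ideal.mem_iInf]
      exact fun d => Ideal.Quotient.eq_zero_iff_mem.1 (congrFun hx d)
    · intro y
      obtain ⟨x, hx⟩ := Ideal.pi_quotient_surjective hI y
      exact ⟨x, funext hx⟩
  refine ⟨N, fun d => S ⧸ I d, fun d => inferInstance, fun d => inferInstance, ⟨AlgEquiv.ofBijective φ hφ⟩, fun d m hm => ?_⟩
  haveI := hm
  let M := m.comap (Ideal.Quotient.mk (I d))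
  haveI hM : M.IsMaximal := Ideal.comap_isMaximal_of_surjective _ Ideal.Quotient.mk_surjective
  have hIM : I d ≤ M := fun x hx => by
    show Ideal.Quotient.mk (I d) x ∈ m
    rw [Ideal.Quotient.eq_zero_iff_mem.2 hx]; exact zero_mem _
  have hJM : J d ≤ M := Ideal.IsPrime.le_of_pow_le hIM
  refine le_antisymm ?_ ?_
  · refine le_trans ?_ (hJle d M hJM).le
    rw [PrimeSpectrum.height_eq_orderHeight ⟨m, hm.isPrime⟩, PrimeSpectrum.height_eq_orderHeight ⟨M, hM.isPrime⟩]
    exact Order.height_le_height_apply_of_strictMono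
        (PrimeSpectrum.comap (Ideal.Quotient.mk (I d))) (fun x y hxy => lt_of_le_of_ne (Ideal.comap_mono hxy.le) fun h => hxy.ne
          (PrimeSpectrum.comap_injective_of_surjective _ Ideal.Quotient.mk_surjective h)) _
  · obtain ⟨p, hp, hpM⟩ := (Ideal.IsPrime.inf_le' hM.isPrime).1 hJM
    haveI : p.1.IsPrime := p.2.1.1
    have hIp : I d ≤ p.1 := by
      have he0 : e ≠ 0 := fun h => by
        apply hM.ne_top
        refine eq_top_iff.2 (le_trans ?_ hIM)
        simp [I, h]
      exact (Ideal.pow_le_self he0).trans (Finset.inf_le (f := fun q : minimalPrimes S => q.1) hp)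
    let π := Ideal.Quotient.factor hIp
    have hker : RingHom.ker π ≤ m := fun x hx => by
      obtain ⟨x, rfl⟩ := Ideal.Quotient.mk_surjective x
      rw [RingHom.mem_ker, Ideal.Quotient.factor_mk, Ideal.Quotient.eq_zero_iff_mem] at hx
      exact hpM hx
    haveI : (m.map π).IsMaximal := Ideal.IsMaximal.map_of_surjective_of_ker_le (Ideal.Quotient.factor_surjective hIp) hker
    have h := GrothLib.GrpSchField.height_eq_ringKrullDim_of_isMaximal k (S ⧸ p.1) (m.map π)
    rw [hdim p, (Finset.mem_filter.1 hp).2] at h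
    have h' : (m.map π).height = ((d : ℕ) : ℕ∞) := by exact_mod_cast h
    rw [← h', PrimeSpectrum.height_eq_orderHeight ⟨m.map π, Ideal.IsMaximal.isPrime inferInstance⟩,
      PrimeSpectrum.height_eq_orderHeight ⟨m, hm.isPrime⟩]
    refine le_trans (Order.height_le_height_apply_of_strictMono
        (PrimeSpectrum.comap π) (fun x y hxy => lt_of_le_of_ne (Ideal.comap_mono hxy.le) fun h => hxy.ne
          (PrimeSpectrum.comap_injective_of_surjective _ (Ideal.Quotient.factor_surjective hIp) h)) _) (le_of_eq ?_)
    congr 1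
    ext1
    show (m.map π).comap π = m
    rw [Ideal.comap_map_of_surjective _ (Ideal.Quotient.factor_surjective hIp), ← RingHom.ker_eq_comap_bot, sup_eq_left.2 hker]

end Groth.Agent.S9156
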