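import Groth.Statements.S9157
import Mathlib
-- import your own Groth.Agent.* helpers here

set_option autoImplicit false
universe u
open CAlg

namespace Groth.Agent.S9157

/-- If the localization S⁻¹M of an R-module M is finitely presented over S⁻¹R, then some finitely
presented R-module M' maps to M inducing an isomorphism S⁻¹M' → S⁻¹M. -/
theorem result (R : Type u) [CommRing R] (S : Submonoid R)
    (M : Type u) [AddCommGroup M] [Module R M]
    [Module.FinitePresentation (Localization S) (LocalizedModule S M)] :
    ∃ (M' : Type u) (_ : AddCommGroup M') (_ : Module R M') (φ : M' →ₗ[R] M),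
      Module.FinitePresentation R M' ∧ Function.Bijective (LocalizedModule.map S φ) := by
  classical
  let L := Localization S
  let LM := LocalizedModule S M
  obtain ⟨T, hT⟩ := (inferInstance : Module.Finite L LM).fg_top
  choose num den hnd using fun x : T ↦ IsLocalizedModule.mk'_surjective S (LocalizedModule.mkLinearMap S M) x.1 |>.elim
    (fun p hp ↦ (⟨p.1, p.2, hp⟩ : ∃ (m : M) (s : S), IsLocalizedModule.mk' (LocalizedModule.mkLinearMap S M) m s = x.1))
  let π : (T →₀ R) →ₗ[R] M := Finsupp.linearCombination R num
  let πS := LocalizedModule.map S π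
  have hsurj : Function.Surjective πS := by
    rw [← LinearMap.range_eq_top, eq_top_iff, ← hT, Submodule.span_le]
    intro x hx
    refine ⟨LocalizedModule.mk (Finsupp.single ⟨x, hx⟩ 1) (den ⟨x, hx⟩), ?_⟩
    rw [LocalizedModule.map_mk]
    have : π (Finsupp.single ⟨x, hx⟩ 1) = num ⟨x, hx⟩ := by simp [π]
    rw [this, IsLocalizedModule.mk_eq_mk']
    exact hnd ⟨x, hx⟩
  have : Module.Finite L (LocalizedModule S (T →₀ R)) := Module.Finite.of_isLocalizedModule S (LocalizedModule.mkLinearMap S _)
  have hfg : (LinearMap.ker πS).FG := @Module.FinitePresentation.fg_ker L (LocalizedModule S (T →₀ R)) LM _ _ _ _ _ _ _ πS hsurj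
  obtain ⟨U, hU⟩ := hfg
  have hclear : ∀ z ∈ U, ∃ y : T →₀ R, π y = 0 ∧ ∃ s : S, z = LocalizedModule.mk y s := by
    intro z hz
    induction z using LocalizedModule.induction_on with
    | _ y s =>
      have h0 : πS (LocalizedModule.mk y s) = 0 := LinearMap.mem_ker.mp (hU ▸ Submodule.subset_span hz)
      rw [LocalizedModule.map_mk, ← LocalizedModule.zero_mk s, LocalizedModule.mk_eq] at h0
      obtain ⟨c, hc⟩ := h0
      refine ⟨(c * s : S) • y, ?_, (c * s : S) * s, ?_⟩
      · rw [Submonoid.smul_def, map_smul]
        simpa [mul_smul, Submonoid.smul_def] using hc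
      · rw [LocalizedModule.mk_cancel_common_left]
  choose! y hy1 s hy2 using hclear
  let N : Submodule R (T →₀ R) := Submodule.span R (y '' U)
  have hNk : N ≤ LinearMap.ker π := by
    rw [Submodule.span_le]; rintro _ ⟨z, hz, rfl⟩; exact hy1 z hz
  let φ : ((T →₀ R) ⧸ N) →ₗ[R] M := N.liftQ π hNk
  refine ⟨_, inferInstance, inferInstance, φ, Module.finitePresentation_of_surjective N.mkQ (Submodule.mkQ_surjective _)
    (by rw [Submodule.ker_mkQ]; exact Submodule.fg_span (U.finite_toSet.image y)), ?_, fun x ↦ ?_⟩
  · rw [injective_iff_map_eq_zero]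
    intro x hx
    induction x using LocalizedModule.induction_on with
    | _ q t =>
      obtain ⟨v, rfl⟩ := Submodule.Quotient.mk_surjective _ q
      have h0 : LocalizedModule.mk v t ∈ LinearMap.ker πS := by
        rw [LinearMap.mem_ker, LocalizedModule.map_mk]
        rw [LocalizedModule.map_mk] at hx
        exact hx
      have hle : LinearMap.ker πS ≤ LinearMap.ker (LocalizedModule.map S N.mkQ) := by
        rw [← hU, Submodule.span_le]
        intro z hz
        rw [SetLike.mem_coe, LinearMap.mem_ker, hy2 z hz, LocalizedModule.map_mk, Submodule.mkQ_apply,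
          (Submodule.Quotient.mk_eq_zero N).mpr (Submodule.subset_span ⟨z, hz, rfl⟩), LocalizedModule.zero_mk]
      have := hle h0
      rw [LinearMap.mem_ker, LocalizedModule.map_mk] at this
      exact this
  · obtain ⟨w, rfl⟩ := hsurj x
    induction w using LocalizedModule.induction_on with
    | _ v t =>
      exact ⟨LocalizedModule.mk (Submodule.Quotient.mk v) t, by rw [LocalizedModule.map_mk, LocalizedModule.map_mk]; rfl⟩

end Groth.Agent.S9157
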