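import Groth.Statements.S9158
import Mathlib
import Groth.Agent.Lib.GenFree.Presentation

set_option autoImplicit false
universe u
open CAlg

namespace Groth.Agent.S9158

/-- Generic freeness over a reduced ring: let R → S be of finite type with R reduced and M a finite
S-module. There is a dense open subset U of Spec R such that each point of U lies in a basic open
D(f) ⊆ U with M_f and S_f free over R_f, S_f of finite presentation over R_f, and M_f of finite
presentation over S_f. -/
theorem result (R S : Type u) [CommRing R] [IsReduced R] [CommRing S]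
    [Algebra R S] [Algebra.FiniteType R S] (M : Type u) [AddCommGroup M] [Module S M] [Module R M]
    [IsScalarTower R S M] [Module.Finite S M] :
    ∃ U : Set (PrimeSpectrum R), IsOpen U ∧ Dense U ∧ ∀ u ∈ U, ∃ f : R, f ∉ u.asIdeal ∧
      (PrimeSpectrum.basicOpen f : Set (PrimeSpectrum R)) ⊆ U ∧
      Module.Free (Localization.Away f) (LocalizedModule (Submonoid.powers f) M) ∧
      Module.Free (Localization.Away f) (LocalizedModule (Submonoid.powers f) S) ∧
      (Localization.awayMap (algebraMap R S) f).FinitePresentation ∧
      Module.FinitePresentation (Localization.Away (algebraMap R S f))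
        (LocalizedModule (Submonoid.powers (algebraMap R S f)) M) := by
  let Good : Set R := {f | Module.Free (Localization.Away f) (LocalizedModule (Submonoid.powers f) M) ∧
      Module.Free (Localization.Away f) (LocalizedModule (Submonoid.powers f) S) ∧
      (Localization.awayMap (algebraMap R S) f).FinitePresentation ∧
      Module.FinitePresentation (Localization.Away (algebraMap R S f))
        (LocalizedModule (Submonoid.powers (algebraMap R S f)) M)}
  refine ⟨⋃ f ∈ Good, (PrimeSpectrum.basicOpen f : Set (PrimeSpectrum R)), ?_, ?_, ?_⟩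
  · exact isOpen_biUnion fun f _ => (PrimeSpectrum.basicOpen f).isOpen
  · rw [dense_iff_inter_open]
    rintro T hT ⟨x, hx⟩
    obtain ⟨_, ⟨g, rfl⟩, hxg, hgT⟩ :=
      PrimeSpectrum.isTopologicalBasis_basic_opens.exists_subset_of_mem_open hx hT
    have hg : g ≠ 0 := fun h => hxg (h ▸ x.asIdeal.zero_mem)
    obtain ⟨f, hgf, hf, h1, h2, h3, h4⟩ :=
      GrothLib.GenFree.exists_free_and_finitePresentation (R := R) S M g hg
    have hgood : f ∈ Good := by
      refine ⟨Module.Free.of_equiv (LocalizedModule.equivTensorProduct (Submonoid.powers f) M).symm,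
        Module.Free.of_equiv (LocalizedModule.equivTensorProduct (Submonoid.powers f) S).symm, ?_, h4⟩
      let Rf := Localization.Away f
      let Sf := Localization.Away (algebraMap R S f)
      letI : Algebra Rf Sf := (Localization.awayMap (algebraMap R S) f).toAlgebra
      haveI : IsScalarTower R Rf Sf := IsScalarTower.of_algebraMap_eq fun r => by
        rw [RingHom.algebraMap_toAlgebra]
        exact ((IsLocalization.map_eq _ r).trans (IsScalarTower.algebraMap_apply R S Sf r).symm).symm
      have : IsLocalization (Algebra.algebraMapSubmonoid S (Submonoid.powers f)) Sf := by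
        rw [Algebra.algebraMapSubmonoid, Submonoid.map_powers]
        infer_instance
      have : Algebra.IsPushout R Rf S Sf :=
        (Algebra.isPushout_of_isLocalization (Submonoid.powers f) Rf S Sf).symm
      exact RingHom.finitePresentation_algebraMap.2 (Algebra.FinitePresentation.equiv (Algebra.IsPushout.equiv R Rf S Sf))
    obtain ⟨z, hz⟩ : ∃ z : PrimeSpectrum R, f ∉ z.asIdeal := by
      by_contra! h
      exact hf (nilpotent_iff_mem_prime.2 fun J hJ => h ⟨J, hJ⟩).eq_zero
    exact ⟨z, hgT fun h => hz (z.asIdeal.mem_of_dvd hgf h), Set.mem_iUnion₂.2 ⟨f, hgood, hz⟩⟩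
  · intro u hu
    obtain ⟨f, hf, huf⟩ := Set.mem_iUnion₂.1 hu
    exact ⟨f, huf, fun z hz => Set.mem_iUnion₂.2 ⟨f, hf, hz⟩, hf⟩

end Groth.Agent.S9158
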