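import Groth.Statements.S9159
import Groth.Agent.S2141
import Groth.Agent.Lib.QFPoly.Basic
-- import your own Groth.Agent.* helpers here

set_option autoImplicit false
universe u
open CAlg

namespace Groth.Agent.S9159

/-- Fix a field k, a k-algebra S of finite type, and a quasi-finite map of k-algebras k[y_1, …, y_d] →
S. A prime q of S has S_q flat over k[y_1, …, y_d] exactly when S_q is Cohen–Macaulay and Spec S has
local dimension d at q. -/
theorem result (k S : Type u) [Field k] [CommRing S]
    [Algebra k S] [Algebra.FiniteType k S] (d : ℕ) [Algebra (MvPolynomial (Fin d) k) S]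
    [IsScalarTower k (MvPolynomial (Fin d) k) S] [Algebra.QuasiFinite (MvPolynomial (Fin d) k) S]
    (q : Ideal S) [q.IsPrime] :
    Module.Flat (MvPolynomial (Fin d) k) (Localization.AtPrime q) ↔
      (LocCoh.IsCohenMacaulayLocalRing (Localization.AtPrime q) ∧
        FlatMor.localDim (PrimeSpectrum S) ⟨q, inferInstance⟩ = (d : WithBot ℕ∞)) := by
  set P := MvPolynomial (Fin d) k
  haveI : Algebra.FiniteType P S := Algebra.FiniteType.of_restrictScalars_finiteType k P S
  haveI : IsNoetherianRing S := Algebra.FiniteType.isNoetherianRing k S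
  haveI : IsRegularRing P := inferInstance
  let p := q.under P
  haveI : q.LiesOver p := ⟨rfl⟩
  obtain ⟨s, hs, hds⟩ := GrothLib.Altitude.height_add_trdeg_mvPolynomial_of_under_eq_bot p
    ((Ideal.eq_bot_or_top (p.under k)).resolve_right (Ideal.IsPrime.ne_top inferInstance))
  have hr : Algebra.trdeg k q.ResidueField = s := by
    letI := Localization.AtPrime.algebraOfLiesOver p q
    haveI : Module.Finite p.ResidueField q.ResidueField := inferInstance
    haveI : Algebra.IsAlgebraic (P ⧸ p) p.ResidueField := IsLocalization.isAlgebraic _ (nonZeroDivisors (P ⧸ p))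
    haveI : Algebra.IsAlgebraic p.ResidueField q.ResidueField := Algebra.IsAlgebraic.of_finite _ _
    haveI : FaithfulSMul (P ⧸ p) p.ResidueField :=
      (faithfulSMul_iff_algebraMap_injective _ _).2 (IsFractionRing.injective (P ⧸ p) p.ResidueField)
    haveI : FaithfulSMul p.ResidueField q.ResidueField :=
      (faithfulSMul_iff_algebraMap_injective _ _).2 (RingHom.injective _)
    haveI : FaithfulSMul k (P ⧸ p) :=
      (faithfulSMul_iff_algebraMap_injective _ _).2 (RingHom.injective _)
    haveI : FaithfulSMul k p.ResidueField :=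
      (faithfulSMul_iff_algebraMap_injective _ _).2 (RingHom.injective _)
    haveI : IsScalarTower k p.ResidueField q.ResidueField := IsScalarTower.of_algebraMap_eq fun a => by
      rw [IsScalarTower.algebraMap_apply k P p.ResidueField, IsScalarTower.algebraMap_apply k P q.ResidueField,
        ← IsScalarTower.algebraMap_apply P p.ResidueField q.ResidueField]
    have h1 := trdeg_add_eq k p.ResidueField (A := q.ResidueField)
    have h2 := trdeg_add_eq k (P ⧸ p) (A := p.ResidueField)
    rw [trdeg_eq_zero (R := p.ResidueField) (A := q.ResidueField), add_zero] at h1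
    rw [trdeg_eq_zero (R := P ⧸ p) (A := p.ResidueField), add_zero] at h2
    rw [← h1, ← h2, hs]
  rw [GrothLib.QFPoly.flat_iff p q, IsLocalization.AtPrime.ringKrullDim_eq_height p (Localization.AtPrime p),
    Groth.Agent.S2141.result q s hr]
  refine and_congr_right fun _ => ⟨fun h => ?_, fun h => ?_⟩
  · rw [h]
    exact_mod_cast congrArg (fun x : ℕ∞ => (x : WithBot ℕ∞)) hds
  · have hd' : (p.height : WithBot ℕ∞) + (s : WithBot ℕ∞) = (d : WithBot ℕ∞) := by
      exact_mod_cast congrArg (fun x : ℕ∞ => (x : WithBot ℕ∞)) hds
    rw [← hd'] at h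
    exact GrothLib.QFPoly.add_natCast_cancel s h

end Groth.Agent.S9159
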