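import Groth.Statements.S9161
import Mathlib
-- import your own Groth.Agent.* helpers here

set_option autoImplicit false
universe u
open CAlg

namespace Groth.Agent.S9161

/-- If two two-term complexes of R-modules A₁ → A₀ and B₁ → B₀ are homotopy equivalent (maps of
complexes both ways whose composites are homotopic to the identity maps), then A₁ ⊕ B₀ and B₁ ⊕ A₀
are isomorphic R-modules. -/
theorem result (R : Type u) [CommRing R]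
    (A₁ A₀ B₁ B₀ : Type u) [AddCommGroup A₁] [Module R A₁] [AddCommGroup A₀] [Module R A₀]
    [AddCommGroup B₁] [Module R B₁] [AddCommGroup B₀] [Module R B₀]
    (dA : A₁ →ₗ[R] A₀) (dB : B₁ →ₗ[R] B₀) (φ₁ : A₁ →ₗ[R] B₁) (φ₀ : A₀ →ₗ[R] B₀)
    (ψ₁ : B₁ →ₗ[R] A₁) (ψ₀ : B₀ →ₗ[R] A₀) (hφ : dB ∘ₗ φ₁ = φ₀ ∘ₗ dA) (hψ : dA ∘ₗ ψ₁ = ψ₀ ∘ₗ dB)
    (h : A₀ →ₗ[R] A₁) (hh₁ : LinearMap.id - ψ₁ ∘ₗ φ₁ = h ∘ₗ dA) (hh₀ : LinearMap.id - ψ₀ ∘ₗ φ₀ = dA ∘ₗ h)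
    (h' : B₀ →ₗ[R] B₁) (hh'₁ : LinearMap.id - φ₁ ∘ₗ ψ₁ = h' ∘ₗ dB)
    (hh'₀ : LinearMap.id - φ₀ ∘ₗ ψ₀ = dB ∘ₗ h') :
    Nonempty ((A₁ × B₀) ≃ₗ[R] (B₁ × A₀)) := by
  skip
  have e1 := fun x => LinearMap.congr_fun hh₁ x
  have e2 := fun x => LinearMap.congr_fun hh₀ x
  have e3 := fun x => LinearMap.congr_fun hh'₁ x
  have e4 := fun x => LinearMap.congr_fun hh'₀ x
  have e5 := fun x => LinearMap.congr_fun hφ x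
  have e6 := fun x => LinearMap.congr_fun hψ x
  simp only [LinearMap.comp_apply, LinearMap.sub_apply, LinearMap.id_apply] at e1 e2 e3 e4 e5 e6
  let Φ : (A₁ × B₀) →ₗ[R] (B₁ × A₀) :=
    LinearMap.prod (φ₁.coprod h') ((-dA).coprod ψ₀)
  let Ψ : (B₁ × A₀) →ₗ[R] (A₁ × B₀) :=
    LinearMap.prod (ψ₁.coprod (-h)) (dB.coprod φ₀)
  let U : (A₁ × B₀) →ₗ[R] A₁ × B₀ :=
    LinearMap.prod (LinearMap.fst R A₁ B₀ - (ψ₁ ∘ₗ h' - h ∘ₗ ψ₀) ∘ₗ LinearMap.snd R A₁ B₀)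
      (LinearMap.snd R A₁ B₀)
  let V : (B₁ × A₀) →ₗ[R] B₁ × A₀ :=
    LinearMap.prod (LinearMap.fst R B₁ A₀ - (h' ∘ₗ φ₀ - φ₁ ∘ₗ h) ∘ₗ LinearMap.snd R B₁ A₀)
      (LinearMap.snd R B₁ A₀)
  have hU : ∀ p, U (Ψ (Φ p)) = p := by
    rintro ⟨a, b⟩
    have r : dB (φ₁ a) = φ₀ (dA a) := e5 a
    have r1 : ψ₁ (φ₁ a) = a - h (dA a) := by rw [← e1 a]; abel
    have r4 : φ₀ (ψ₀ b) = b - dB (h' b) := by rw [← e4 b]; abel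
    have s2 : dB (φ₁ a + h' b) + φ₀ (-dA a + ψ₀ b) = b := by
      rw [map_add, map_add, map_neg, r, r4]; abel
    show ((ψ₁ (φ₁ a + h' b) + -h (-dA a + ψ₀ b)) - (ψ₁ (h' (dB (φ₁ a + h' b) + φ₀ (-dA a + ψ₀ b))) -
      h (ψ₀ (dB (φ₁ a + h' b) + φ₀ (-dA a + ψ₀ b)))), dB (φ₁ a + h' b) + φ₀ (-dA a + ψ₀ b)) = (a, b)
    rw [s2, Prod.mk.injEq]
    refine ⟨?_, rfl⟩
    rw [map_add, map_add, map_neg, r1]; abel
  have hV : ∀ p, Φ (Ψ (V p)) = p := by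
    rintro ⟨b, a⟩
    have r3 : ∀ x, φ₁ (ψ₁ x) = x - h' (dB x) := fun x => by rw [← e3 x]; abel
    have r2 : ψ₀ (φ₀ a) = a - dA (h a) := by rw [← e2 a]; abel
    set c := b - (h' (φ₀ a) - φ₁ (h a)) with hc
    show (φ₁ (ψ₁ c + -h a) + h' (dB c + φ₀ a), -dA (ψ₁ c + -h a) + ψ₀ (dB c + φ₀ a)) = (b, a)
    rw [Prod.mk.injEq]
    constructor
    · rw [map_add, map_add, map_neg, r3, hc]; abel
    · rw [map_add, map_add, map_neg, e6, r2]; abel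
  have hinj : Function.Injective Φ := fun x y hxy => by rw [← hU x, ← hU y, hxy]
  have hsur : Function.Surjective Φ := fun q => ⟨Ψ (V q), hV q⟩
  exact ⟨LinearEquiv.ofBijective Φ ⟨hinj, hsur⟩⟩

end Groth.Agent.S9161
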