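import Groth.Statements.S9163
import Mathlib.RingTheory.FiniteType
import Mathlib.RingTheory.IntegralClosure.IsIntegral.Basic
import Mathlib.RingTheory.Finiteness.Basic
-- import your own Groth.Agent.* helpers here

set_option autoImplicit false
universe u
open CAlg

namespace Groth.Agent.S9163

/-- If S is integral over R, then any finitely many elements of R and of S lie in a pair R₀ ⊆ R, S₀ ⊆ S
with R₀ a finite type ℤ-subalgebra, S₀ an R₀-subalgebra of S, and S₀ finite as an R₀-module; so R →
S is the directed colimit of finite maps between finite type ℤ-algebras. -/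
theorem result (R S : Type u) [CommRing R] [CommRing S] [Algebra R S]
    [Algebra.IsIntegral R S] (E : Finset R) (F : Finset S) :
    ∃ (R₀ : Subalgebra ℤ R) (S₀ : Subalgebra R₀ S), Algebra.FiniteType ℤ R₀ ∧ (E : Set R) ⊆ R₀ ∧
      (F : Set S) ⊆ S₀ ∧ Module.Finite R₀ S₀ := by
  classical
  choose P hP hP0 using fun x : S => Algebra.IsIntegral.isIntegral (R := R) x
  let G : Finset R := E ∪ F.biUnion fun x => (Finset.range ((P x).natDegree + 1)).image (P x).coeff
  let R₀ : Subalgebra ℤ R := Algebra.adjoin ℤ (G : Set R)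
  let S₀ : Subalgebra R₀ S := Algebra.adjoin R₀ (F : Set S)
  refine ⟨R₀, S₀, (Subalgebra.fg_iff_finiteType R₀).1 ⟨G, rfl⟩, ?_, Algebra.subset_adjoin, ?_⟩
  · exact fun x hx => Algebra.subset_adjoin (Finset.mem_union_left _ hx)
  · refine ⟨(Submodule.fg_top _).2 (fg_adjoin_of_finite F.finite_toSet fun x hx => ?_)⟩
    have hl : P x ∈ Polynomial.lifts (algebraMap R₀ R) := by
      rw [Polynomial.lifts_iff_coeff_lifts]
      intro n
      by_cases hn : n ∈ Finset.range ((P x).natDegree + 1)
      · exact ⟨⟨_, Algebra.subset_adjoin (Finset.mem_union_right _ (Finset.mem_biUnion.2 ⟨x, hx,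
          Finset.mem_image_of_mem _ hn⟩))⟩, rfl⟩
      · exact ⟨0, by rw [map_zero, Polynomial.coeff_eq_zero_of_natDegree_lt (by simpa using hn)]⟩
    obtain ⟨q, hq, -, hqm⟩ := Polynomial.lifts_and_natDegree_eq_and_monic hl (hP x)
    refine ⟨q, hqm, ?_⟩
    rw [IsScalarTower.algebraMap_eq R₀ R S, ← Polynomial.eval₂_map, hq]
    exact hP0 x

end Groth.Agent.S9163
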