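import Groth.Statements.S9164
import Groth.Agent.Lib.DimOneLen.Basic
import Mathlib.Algebra.Module.Lattice
import Mathlib.RingTheory.KrullDimension.LocalRing
import Mathlib.RingTheory.KrullDimension.Field
-- import your own Groth.Agent.* helpers here

set_option autoImplicit false
universe u
open CAlg

namespace Groth.Agent.S9164

/-- Let R be a one-dimensional Noetherian local domain with fraction field K and V a finite-dimensional
K-vector space; a lattice is a finitely generated R-submodule of V spanning V over K. (1) For a
lattice M and an R-submodule M' ⊇ M: M' is a lattice iff M'/M has finite length over R iff M' is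
finitely generated. (2) For a lattice M and M' ⊆ M: M' is a lattice iff M/M' has finite length. (3)
The intersection of two lattices is a lattice. (The published statement also asserts that the sum M
+ M' of two lattices is a lattice and two identities between lengths of quotients of nested
lattices; this row states (1), (2) and the intersection half of (3).) -/
theorem result (R K V : Type u) [CommRing R] [IsDomain R]
    [IsNoetherianRing R] [IsLocalRing R] (hdim : ringKrullDim R = 1) [Field K] [Algebra R K]
    [IsFractionRing R K] [AddCommGroup V] [Module K V] [Module R V] [IsScalarTower R K V]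
    [FiniteDimensional K V] (M : Submodule R V) [Submodule.IsLattice K M] :
    (∀ M' : Submodule R V, M ≤ M' →
        (Submodule.IsLattice K M' ↔ Module.length R (M' ⧸ Submodule.comap M'.subtype M) ≠ ⊤) ∧
          (Submodule.IsLattice K M' ↔ M'.FG)) ∧
      (∀ M' : Submodule R V, M' ≤ M →
        (Submodule.IsLattice K M' ↔ Module.length R (M ⧸ Submodule.comap M.subtype M') ≠ ⊤)) ∧
      ∀ M' : Submodule R V, Submodule.IsLattice K M' → Submodule.IsLattice K (M ⊓ M') := by
  haveI : Ring.KrullDimLE 1 R := Ring.krullDimLE_iff.mpr hdim.le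
  have hMtop : Submodule.span K (M : Set V) = ⊤ := Submodule.IsLattice.span_eq_top
  have hMfg : M.FG := Submodule.IsLattice.fg (A := K)
  obtain ⟨x, hx, hx0⟩ : ∃ x ∈ IsLocalRing.maximalIdeal R, x ≠ 0 := Submodule.exists_mem_ne_zero_of_ne_bot fun h =>
    by
      rw [← IsLocalRing.isField_iff_maximalIdeal_eq] at h
      rw [ringKrullDim_eq_zero_of_isField h] at hdim
      exact zero_ne_one hdim
  -- finite length of quotients of nested finitely generated lattices
  have key : ∀ A B : Submodule R V, B.FG → (B : Set V) ⊆ Submodule.span K (A : Set V) →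
      Module.length R (B ⧸ A.comap B.subtype) ≠ ⊤ := by
    intro A B hB hsub
    haveI : Module.Finite R B := Module.Finite.iff_fg.mpr hB
    obtain ⟨d, hd, hdm⟩ := GrothLib.DimOneLen.exists_smul_le A B hB hsub
    refine Module.length_ne_top_iff.mpr (GrothLib.DimOneLen.isFiniteLength_of_smul_eq_zero hd fun y => ?_)
    obtain ⟨z, rfl⟩ := Submodule.Quotient.mk_surjective _ y
    rw [← Submodule.Quotient.mk_smul, Submodule.Quotient.mk_eq_zero]
    exact hdm _ z.2
  refine ⟨fun M' hle => ?_, fun M' hle => ?_, fun M' hM' => ?_⟩
  · have hiff : Submodule.IsLattice K M' ↔ M'.FG :=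
      ⟨fun h => h.fg, fun h => ⟨h, eq_top_iff.mpr (hMtop ▸ Submodule.span_mono hle)⟩⟩
    refine ⟨⟨fun h => key M M' h.fg (by rw [hMtop]; exact Set.subset_univ _), fun h => hiff.mpr ?_⟩, hiff⟩
    obtain ⟨hn, -⟩ := isFiniteLength_iff_isNoetherian_isArtinian.mp (Module.length_ne_top_iff.mp h)
    refine Module.Finite.iff_fg.mp ?_
    haveI : Module.Finite R (M.comap M'.subtype) :=
      Module.Finite.equiv (Submodule.comapSubtypeEquivOfLe hle).symm
    exact Module.Finite.of_submodule_quotient (M.comap M'.subtype)
  · refine ⟨fun h => key M' M hMfg (by rw [h.span_eq_top]; exact Set.subset_univ _), fun h => ?_⟩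
    haveI : Module.Finite R M := Module.Finite.iff_fg.mpr hMfg
    haveI : IsNoetherian R M := isNoetherian_of_isNoetherianRing_of_finite R M
    haveI : IsNoetherian R M' := isNoetherian_of_le hle
    refine ⟨Module.Finite.iff_fg.mp inferInstance, eq_top_iff.mpr ?_⟩
    obtain ⟨n, hn⟩ := GrothLib.DimOneLen.exists_pow_smul_mem M M' hMfg (Module.length_ne_top_iff.mp h) hx
    rw [← hMtop, Submodule.span_le]
    intro v hv
    have h2 : algebraMap R K (x ^ n) • v ∈ Submodule.span K (M' : Set V) :=
      Submodule.subset_span (by rw [algebraMap_smul]; exact hn v hv)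
    exact (Submodule.smul_mem_iff _ ((map_ne_zero_iff _ (IsFractionRing.injective R K)).mpr (pow_ne_zero n hx0))).mp h2
  · haveI : IsNoetherian R M := isNoetherian_of_fg_of_noetherian M hMfg
    haveI : IsNoetherian R ↥(M ⊓ M') := isNoetherian_of_le inf_le_left
    refine ⟨Module.Finite.iff_fg.mp inferInstance, eq_top_iff.mpr ?_⟩
    obtain ⟨d, hd, hdm⟩ := GrothLib.DimOneLen.exists_smul_le (K := K) M M' hM'.fg (by rw [hMtop]; exact Set.subset_univ _)
    rw [← hM'.span_eq_top, Submodule.span_le]
    intro v hv
    have h2 : algebraMap R K d • v ∈ Submodule.span K ((M ⊓ M' : Submodule R V) : Set V) :=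
      Submodule.subset_span (by rw [algebraMap_smul]; exact ⟨hdm v hv, M'.smul_mem d hv⟩)
    exact (Submodule.smul_mem_iff _ ((map_ne_zero_iff _ (IsFractionRing.injective R K)).mpr hd)).mp h2

end Groth.Agent.S9164
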