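import Groth.Statements.S9165
import Mathlib
import Groth.Agent.Lib.SkNhd1.Basic
import Groth.Agent.Lib.SpecFibStalk1.Basic
import Groth.Agent.Lib.CMPiece1.Basic
import Groth.Agent.Lib.FibreDimRing.Basic
import Groth.Agent.Lib.CMMor6.Chart
import Groth.Agent.Lib.Equidim6.Basic
import Groth.Agent.Lib.HLVT.Sdim
import Groth.Agent.Lib.SyntLoc.Sk
-- import your own Groth.Agent.* helpers here

set_option autoImplicit false
universe u
open CAlg CategoryTheory AlgebraicGeometry Function TensorProduct

namespace Groth.Agent.S9165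

/-- A flat, finitely presented ring map R → S whose fibre rings κ(p) ⊗ S are Cohen–Macaulay decomposes S
as a finite product of R-algebras S_d (d = 0, …, N), each again flat, finitely presented with
Cohen–Macaulay fibres, and with every irreducible component of every fibre of S_d of dimension d. -/
theorem result (R S : Type u) [CommRing R]
    [CommRing S] [Algebra R S] [Module.Flat R S] [Algebra.FinitePresentation R S]
    (hCM : ∀ p : PrimeSpectrum R, LocCoh.IsCohenMacaulayRing (p.asIdeal.Fiber S)) :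
    ∃ (N : ℕ) (T : Fin (N + 1) → Type u) (_ : ∀ d, CommRing (T d)) (_ : ∀ d, Algebra R (T d)),
      Nonempty (S ≃ₐ[R] ((d : Fin (N + 1)) → T d)) ∧
        ∀ d : Fin (N + 1), Module.Flat R (T d) ∧ Algebra.FinitePresentation R (T d) ∧
          (∀ p : PrimeSpectrum R, LocCoh.IsCohenMacaulayRing (p.asIdeal.Fiber (T d))) ∧
          ∀ (p : PrimeSpectrum R), ∀ P ∈ minimalPrimes (p.asIdeal.Fiber (T d)),
            ringKrullDim (p.asIdeal.Fiber (T d) ⧸ P) = ((d : ℕ) : WithBot ℕ∞) := by
  classical
  let f := Spec.map (CommRingCat.ofHom (algebraMap R S))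
  haveI : Flat f := (HasRingHomProperty.Spec_iff (P := @Flat)).2 (RingHom.flat_algebraMap_iff.2 ‹_›)
  haveI : LocallyOfFinitePresentation f :=
    (HasRingHomProperty.Spec_iff (P := @LocallyOfFinitePresentation)).2
      (RingHom.finitePresentation_algebraMap.2 ‹_›)
  -- the fibre dimension is locally constant
  have key : ∀ q : PrimeSpectrum S, ∃ (U : Set (PrimeSpectrum S)) (d : ℕ), IsOpen U ∧ q ∈ U ∧
      ∀ z ∈ U, FlatMor.fibreDimAt f z = (d : WithBot ℕ∞) := by
    intro q
    obtain ⟨e⟩ := GrothLib.SpecFibStalk1.nonempty_fibStalk_equiv R S q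
    obtain ⟨Q, ⟨e'⟩⟩ := GrothLib.Excellent.exists_fibre_point (A := R) q.asIdeal
    haveI := (hCM ⟨q.asIdeal.comap (algebraMap R S), inferInstance⟩).isCohenMacaulayLocalRing_localization Q.asIdeal
    haveI hst := GrothLib.HB26.isCohenMacaulayLocalRing_of_ringEquiv
      (R := Localization.AtPrime Q.asIdeal) (e'.trans e.symm)
    obtain ⟨U, d, hU, -, hd, -⟩ := GrothLib.SkNhd1.exists_nhd f 2 le_rfl q
      (GrothLib.SyntLoc.isCohenMacaulayLocalRing_iff_forall_hasSk.1 hst 2) ⊤ ⊥ (fun z _ _ _ => bot_le)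
    exact ⟨U.1, d, U.2, hU, hd⟩
  choose U δ hopen hmem hδ using key
  have hfd : ∀ q, FlatMor.fibreDimAt f q = (δ q : WithBot ℕ∞) := fun q => hδ q q (hmem q)
  have hloc : IsLocallyConstant δ := (IsLocallyConstant.iff_exists_open δ).2 fun q =>
    ⟨U q, hopen q, hmem q, fun z hz => by
      have := (hfd z).symm.trans (hδ q z hz)
      exact_mod_cast this⟩
  obtain ⟨N, hN⟩ := hloc.range_finite.bddAbove
  -- the idempotents
  choose e he hZ using fun d : Fin (N + 1) =>
    PrimeSpectrum.exists_idempotent_basicOpen_eq_of_isClopen (hloc.isClopen_fiber (d : ℕ))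
  have hmemZ : ∀ (d : Fin (N + 1)) (q : PrimeSpectrum S), e d ∉ q.asIdeal ↔ δ q = (d : ℕ) :=
    fun d q => (Set.ext_iff.1 (hZ d) q).symm
  let I : Fin (N + 1) → Ideal S := fun d => Ideal.span {1 - e d}
  have hone : ∀ x : S, (∀ d, x * e d = 0) → x = 0 := by
    intro x hx
    by_contra hx0
    have hne : Submodule.colon ⊥ (Ideal.span {x} : Set S) ≠ ⊤ := fun h => hx0 (by
      have h1 : (1 : S) ∈ Submodule.colon ⊥ (Ideal.span {x} : Set S) := h ▸ Submodule.mem_top
      simpa using Submodule.mem_colon.1 h1 x (Ideal.mem_span_singleton_self x))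
    obtain ⟨m, hm, hle⟩ := Ideal.exists_le_maximal _ hne
    let q : PrimeSpectrum S := ⟨m, hm.isPrime⟩
    let d : Fin (N + 1) := ⟨δ q, Nat.lt_succ_iff.2 (hN ⟨q, rfl⟩)⟩
    refine (hmemZ d q).2 rfl (hle (Submodule.mem_colon.2 fun y hy => ?_))
    obtain ⟨a, rfl⟩ := Ideal.mem_span_singleton'.1 hy
    have : e d * (a * x) = 0 := by rw [show e d * (a * x) = a * (x * e d) by ring, hx, mul_zero]
    simpa using this
  have horth : ∀ d d', d ≠ d' → e d * e d' = 0 := by
    intro d d' hne
    refine ((he d).mul (he d')).eq_zero_of_isNilpotent ?_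
    rw [nilpotent_iff_mem_prime]
    intro P hP
    by_contra h
    have h1 := (hmemZ d ⟨P, hP⟩).1 fun h' => h (P.mul_mem_right _ h')
    have h2 := (hmemZ d' ⟨P, hP⟩).1 fun h' => h (P.mul_mem_left _ h')
    exact hne (Fin.ext (h1.symm.trans h2))
  have hcop : Pairwise (IsCoprime on I) := by
    intro d d' hne
    refine Ideal.isCoprime_iff_exists.2
      ⟨1 - e d, Ideal.mem_span_singleton_self _, e d * (1 - e d'),
        Ideal.mul_mem_left _ _ (Ideal.mem_span_singleton_self _), ?_⟩
    rw [mul_sub, horth d d' hne]; ring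
  let φ : S →ₐ[R] ((d : Fin (N + 1)) → S ⧸ I d) := AlgHom.pi fun d => Ideal.Quotient.mkₐ R (I d)
  have hbij : Function.Bijective φ := by
    refine ⟨(injective_iff_map_eq_zero φ).2 fun x hx => hone x fun d => ?_, fun y => ?_⟩
    · obtain ⟨a, ha⟩ := Ideal.mem_span_singleton'.1 (Ideal.Quotient.eq_zero_iff_mem.1 (congrFun hx d))
      rw [← ha, mul_assoc, sub_mul, one_mul, (he d).eq, sub_self, mul_zero]
    · obtain ⟨r, hr⟩ := Ideal.pi_quotient_surjective hcop y
      exact ⟨r, funext hr⟩
  refine ⟨N, fun d => S ⧸ I d, inferInstance, inferInstance, ⟨AlgEquiv.ofBijective φ hbij⟩, fun d => ?_⟩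
  haveI haw : IsLocalization.Away (e d) (S ⧸ I d) :=
    IsLocalization.away_of_isIdempotentElem (he d) Ideal.mk_ker Ideal.Quotient.mk_surjective
  haveI : Module.Flat S (S ⧸ I d) := IsLocalization.flat (S ⧸ I d) (Submonoid.powers (e d))
  refine ⟨Module.Flat.trans R S (S ⧸ I d),
    Algebra.FinitePresentation.quotient (Submodule.fg_span_singleton (1 - e d)), fun p => ?_, fun p P hP => ?_⟩
  · haveI := hCM p
    exact GrothLib.CMPiece1.isCohenMacaulayRing_tensor_quotient R S p.asIdeal.ResidueField (he d)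
  · -- the components of the fibres
    let κ := p.asIdeal.ResidueField
    let F := p.asIdeal.Fiber (S ⧸ I d)
    let s := Spec.map (CommRingCat.ofHom (algebraMap κ F))
    haveI : Algebra.FiniteType κ F := inferInstance
    haveI : LocallyOfFiniteType s := (HasRingHomProperty.Spec_iff (P := @LocallyOfFiniteType)).2
      (RingHom.finiteType_algebraMap.2 ‹_›)
    let g := Spec.map (CommRingCat.ofHom (algebraMap S (S ⧸ I d)))
    haveI : IsOpenImmersion g := IsOpenImmersion.of_isLocalization (e d)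
    have hcomp : Spec.map (CommRingCat.ofHom (algebraMap R (S ⧸ I d))) = g ≫ f := by
      rw [← Spec.map_comp, ← CommRingCat.ofHom_comp, ← IsScalarTower.algebraMap_eq]
    have hall : ∀ x : PrimeSpectrum F,
        FlatMor.localDim (PrimeSpectrum F) x = ((d : ℕ) : WithBot ℕ∞) := by
      intro x
      haveI hxo : x.asIdeal.LiesOver (⊥ : Ideal κ) := ⟨(Ideal.eq_bot_of_prime (Ideal.under κ x.asIdeal)).symm⟩
      let q : PrimeSpectrum (S ⧸ I d) :=
        PrimeSpectrum.comap (Algebra.TensorProduct.includeRight (R := R) (A := κ)).toRingHom x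
      have hp : q.asIdeal.under R = p.asIdeal := by
        have h := (PrimeSpectrum.preimageHomeomorphFiber R (S ⧸ I d) p).symm x
        exact congrArg PrimeSpectrum.asIdeal ((PrimeSpectrum.preimageHomeomorphFiber R (S ⧸ I d) p).symm x).2
      rw [← GrothLib.FibreDimRing.fibreDimAt_eq_localDim q p.asIdeal hp x rfl, hcomp,
        GrothLib.CMMor6.fibreDimAt_comp_flat_lqf g f q, hfd]
      refine congrArg _ ((hmemZ d (g q)).1 ?_)
      intro hmem'
      have hz : Ideal.Quotient.mk (I d) (e d) = 1 :=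
        (sub_eq_zero.1 (by
          rw [← map_one (Ideal.Quotient.mk (I d)), ← map_sub, Ideal.Quotient.eq_zero_iff_mem]
          exact Ideal.mem_span_singleton_self _)).symm
      exact q.2.ne_top ((Ideal.eq_top_iff_one _).2 (hz ▸ hmem'))
    haveI : P.IsPrime := hP.1.1
    have hcomp' : PrimeSpectrum.zeroLocus (P : Set F) ∈ irreducibleComponents (PrimeSpectrum F) := by
      rw [PrimeSpectrum.zeroLocus_ideal_mem_irreducibleComponents, (‹P.IsPrime›).isRadical.radical]
      exact hP
    rw [← GrothLib.HLVT.topologicalKrullDim_zeroLocus]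
    exact (GrothLib.Equidim6.equidim_iff (K := κ) s (d : ℕ)).2 hall _ hcomp'

end Groth.Agent.S9165
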