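import Groth.Statements.S9166
import Groth.Agent.Lib.FibPd.LocalFree
import Mathlib.RingTheory.Localization.Finiteness
import Mathlib.RingTheory.Nakayama
import Mathlib.Algebra.Module.LocalizedModule.Exact

set_option autoImplicit false
universe u
open CAlg

namespace Groth.Agent.S9166

/-- Let I be an ideal of a ring R, S → S' a surjective homomorphism of R-algebras with S of finite type
and S' of finite presentation over R, and q a prime of S containing IS. Assume S'_q is flat over R
and that S_q/IS_q → S'_q/IS'_q is an isomorphism, which for a surjection says: every element of the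
kernel of S → S' maps into I·S_q. Then for some g ∉ q the localized map S_g → S'_g is bijective. -/
theorem result (R S S' : Type u) [CommRing R] [CommRing S]
    [CommRing S'] [Algebra R S] [Algebra R S'] [Algebra.FiniteType R S] [Algebra.FinitePresentation R S']
    (I : Ideal R) (f : S →ₐ[R] S') (hf : Function.Surjective f) (q : Ideal S) [q.IsPrime]
    (hq : I.map (algebraMap R S) ≤ q)
    (hker : ∀ j : S, f j = 0 →
      algebraMap S (Localization.AtPrime q) j ∈ I.map (algebraMap R (Localization.AtPrime q)))
    (hflat : letI : Module S S' := f.toRingHom.toModule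
      Module.Flat R (LocalizedModule q.primeCompl S')) :
    ∃ g : S, g ∉ q ∧ Function.Bijective (Localization.awayMap f.toRingHom g) := by
  classical
  letI : Module S S' := f.toRingHom.toModule
  haveI : Module.Flat R (LocalizedModule q.primeCompl S') := hflat
  haveI : IsScalarTower R S S' := IsScalarTower.of_algebraMap_smul fun r x => by
    show f (algebraMap R S r) * x = r • x
    rw [f.commutes, Algebra.smul_def]
  let K : Ideal S := RingHom.ker f.toRingHom
  have hK : K.FG := by
    obtain ⟨n, π, hπ⟩ := Algebra.FiniteType.iff_quotient_mvPolynomial''.1 ‹Algebra.FiniteType R S›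
    have h := Algebra.FinitePresentation.ker_fG_of_surjective (f.comp π) (hf.comp hπ)
    have he : (RingHom.ker (f.comp π).toRingHom).map π.toRingHom = K := by
      rw [show RingHom.ker (f.comp π).toRingHom = K.comap π.toRingHom from rfl, Ideal.map_comap_of_surjective π.toRingHom hπ]
    exact he ▸ h.map π.toRingHom
  let T := q.primeCompl
  let Sq := Localization.AtPrime q
  let i : K →ₗ[S] S := K.subtype
  let p : S →ₗ[S] S' := LinearMap.toSpanSingleton S S' 1
  have hp : ∀ s, p s = f s := fun s => by
    show f s * 1 = f s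
    rw [mul_one]
  have hex : Function.Exact i p := fun s => by
    rw [hp]
    exact ⟨fun h => ⟨⟨s, h⟩, rfl⟩, by rintro ⟨⟨k, hk⟩, rfl⟩; exact hk⟩
  let lK := LocalizedModule.mkLinearMap T K
  let lS := Algebra.linearMap S Sq
  let lS' := LocalizedModule.mkLinearMap T S'
  let iq := IsLocalizedModule.map T lK lS i
  let pq := IsLocalizedModule.map T lS lS' p
  have hiq : Function.Injective iq := IsLocalizedModule.map_injective T lK lS i K.injective_subtype
  have hpq : Function.Surjective pq := IsLocalizedModule.map_surjective T lS lS' p fun x => by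
    obtain ⟨s, rfl⟩ := hf x
    exact ⟨s, hp s⟩
  have hexq : Function.Exact iq pq := IsLocalizedModule.map_exact T lK lS lS' i p hex
  have hmem : ∀ x : LocalizedModule T K, iq x ∈ I • (⊤ : Submodule R Sq) := fun x => by
    obtain ⟨⟨k, t⟩, rfl⟩ := IsLocalizedModule.mk'_surjective T lK x
    rw [Ideal.smul_top_eq_map, Submodule.restrictScalars_mem, Function.uncurry_apply_pair]
    have h1 : iq (IsLocalizedModule.mk' lK k t) = IsLocalizedModule.mk' lS (i k) t :=
      IsLocalizedModule.map_mk' T lK lS i k t
    rw [h1]
    have hu := IsLocalization.map_units Sq t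
    rw [← Ideal.unit_mul_mem_iff_mem _ hu]
    have h2 : algebraMap S Sq t * IsLocalizedModule.mk' lS (i k) t = algebraMap S Sq (i k) := by
      rw [← Algebra.smul_def]
      exact IsLocalizedModule.mk'_cancel' lS (i k) t
    rw [h2]
    exact hker k k.2
  have htop : ∀ x : LocalizedModule T K, x ∈ I • (⊤ : Submodule R (LocalizedModule T K)) := fun x =>
    GrothLib.FibPd.mem_smul_of_flat I (iq.restrictScalars R) (pq.restrictScalars R) hiq hpq hexq (hmem x)
  haveI : Module.Finite S K := Module.Finite.iff_fg.2 hK
  haveI : Module.Finite Sq (LocalizedModule T K) := Module.Finite.of_isLocalizedModule T (Rₚ := Sq) lK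
  have hzero : (⊤ : Submodule Sq (LocalizedModule T K)) = ⊥ := by
    refine Submodule.eq_bot_of_le_smul_of_le_jacobson_bot (IsLocalRing.maximalIdeal Sq) _ (Module.finite_def.1 inferInstance) ?_
      (IsLocalRing.jacobson_eq_maximalIdeal ⊥ bot_ne_top).ge
    intro x _
    refine Submodule.smul_induction_on (htop x) (fun r hr y _ => ?_) fun a b ha hb => add_mem ha hb
    rw [← algebraMap_smul Sq r y, IsScalarTower.algebraMap_apply R S Sq]
    refine Submodule.smul_mem_smul ?_ Submodule.mem_top
    rw [← Localization.AtPrime.map_eq_maximalIdeal]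
    exact Ideal.mem_map_of_mem _ (hq (Ideal.mem_map_of_mem _ hr))
  have hann : ∀ j : K, ∃ t ∉ q, t * (j : S) = 0 := fun j => by
    have h0 : lK j = 0 := by
      have : lK j ∈ (⊤ : Submodule Sq (LocalizedModule T K)) := trivial
      rwa [hzero, Submodule.mem_bot] at this
    obtain ⟨⟨t, ht⟩, h⟩ := (IsLocalizedModule.eq_zero_iff T lK).1 h0
    exact ⟨t, ht, congrArg Subtype.val h⟩
  obtain ⟨s, hs⟩ := hK
  have hsK : ∀ j : s, (j : S) ∈ K := fun j => hs ▸ Submodule.subset_span j.2
  choose t ht htj using fun j : s => hann ⟨j, hsK j⟩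
  let g := ∏ j, t j
  have hg : g ∉ q := fun h => by
    obtain ⟨j, -, hj⟩ := (Ideal.IsPrime.prod_mem_iff).1 h
    exact ht j hj
  have hgK : ∀ x ∈ K, g * x = 0 := fun x hx => by
    rw [← hs] at hx
    induction hx using Submodule.span_induction with
    | mem y hy =>
      obtain ⟨c, hc⟩ := Finset.dvd_prod_of_mem t (Finset.mem_univ (⟨y, hy⟩ : s))
      show g * y = 0
      rw [show g = t ⟨y, hy⟩ * c from hc, mul_comm (t _) c, mul_assoc, htj ⟨y, hy⟩, mul_zero]
    | zero => exact mul_zero _
    | add a b _ _ ha hb => rw [mul_add, ha, hb, add_zero]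
    | smul c a _ ha => rw [smul_eq_mul, mul_left_comm, ha, mul_zero]
  refine ⟨g, hg, ?_, ?_⟩
  · rw [injective_iff_map_eq_zero]
    intro z hz
    obtain ⟨⟨a, w⟩, rfl⟩ := IsLocalization.mk'_surjective (Submonoid.powers g) z
    simp only [Function.uncurry_apply_pair] at hz ⊢
    rw [Localization.awayMap, IsLocalization.Away.map, IsLocalization.map_mk', IsLocalization.mk'_eq_zero_iff] at hz
    obtain ⟨⟨_, n, rfl⟩, hn⟩ := hz
    rw [IsLocalization.mk'_eq_zero_iff]
    refine ⟨⟨g ^ (n + 1), n + 1, rfl⟩, ?_⟩
    show g ^ (n + 1) * a = 0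
    rw [pow_succ', mul_assoc]
    refine hgK _ ?_
    show f (g ^ n * a) = 0
    rw [map_mul, map_pow]
    exact hn
  · intro z
    obtain ⟨⟨b, ⟨_, n, rfl⟩⟩, rfl⟩ := IsLocalization.mk'_surjective (Submonoid.powers (f.toRingHom g)) z
    obtain ⟨a, rfl⟩ := hf b
    refine ⟨IsLocalization.mk' _ a (⟨g ^ n, n, rfl⟩ : Submonoid.powers g), ?_⟩
    rw [Localization.awayMap, IsLocalization.Away.map, IsLocalization.map_mk']
    show IsLocalization.mk' _ _ _ = IsLocalization.mk' _ _ _
    congr 1
    exact Subtype.ext (map_pow _ _ _)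


end Groth.Agent.S9166
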