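import Groth.Statements.S9167
import Mathlib
-- import your own Groth.Agent.* helpers here

set_option autoImplicit false
universe u
open CAlg

namespace Groth.Agent.S9167

/-- With R' = S⁻¹(R/I), every finitely presented R'-module is of the form S⁻¹(M/IM) for some finitely
presented R-module M. -/
theorem result (R : Type u) [CommRing R] (I : Ideal R)
    (S : Submonoid R) (M' : Type u) [AddCommGroup M']
    [Module (Localization (S.map (Ideal.Quotient.mk I))) M']
    [Module.FinitePresentation (Localization (S.map (Ideal.Quotient.mk I))) M'] :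
    ∃ (M : Type u) (_ : AddCommGroup M) (_ : Module R M), Module.FinitePresentation R M ∧
      Nonempty (LocalizedModule (S.map (Ideal.Quotient.mk I)) (M ⧸ (I • ⊤ : Submodule R M))
        ≃ₗ[Localization (S.map (Ideal.Quotient.mk I))] M') := by
  classical
  let T : Submonoid (R ⧸ I) := S.map (Ideal.Quotient.mk I)
  let L := Localization T
  obtain ⟨n, K, e, hK⟩ := Module.FinitePresentation.exists_fin L M'
  obtain ⟨G, hG⟩ := hK
  let f1 : (Fin n → R ⧸ I) →ₗ[R ⧸ I] (Fin n → L) := (Algebra.linearMap (R ⧸ I) L).compLeft (Fin n)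
  haveI : IsLocalizedModule T f1 := by
    have : f1 = LinearMap.pi (fun i => (Algebra.linearMap (R ⧸ I) L) ∘ₗ LinearMap.proj i) := rfl
    rw [this]; infer_instance
  have hlift : ∀ x : Fin n → L, ∃ (t : T) (v : Fin n → R),
      f1 (fun i => Ideal.Quotient.mk I (v i)) = t • x := by
    intro x
    obtain ⟨⟨w, t⟩, hwt⟩ := IsLocalizedModule.surj T f1 x
    choose v hv using fun i => Ideal.Quotient.mk_surjective (w i)
    exact ⟨t, v, by rw [show (fun i => Ideal.Quotient.mk I (v i)) = w from funext hv]; exact hwt.symm⟩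
  choose t v hv using hlift
  let red : (Fin n → R) →ₗ[R] (Fin n → R ⧸ I) := (Algebra.linearMap R (R ⧸ I)).compLeft (Fin n)
  let V : Submodule R (Fin n → R) := Submodule.span R (v '' ↑G)
  have hVfg : V.FG := Submodule.fg_span (G.finite_toSet.image v)
  let N : Submodule (R ⧸ I) (Fin n → R ⧸ I) := Submodule.span (R ⧸ I) (red '' (v '' ↑G))
  have hN : N.restrictScalars R = V.map red := by
    show (Submodule.span (R ⧸ I) (red '' (v '' ↑G))).restrictScalars R = _
    rw [Submodule.restrictScalars_span R (R ⧸ I) Ideal.Quotient.mk_surjective, Submodule.map_span]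
  have hloc : N.localized' L T f1 = K := by
    rw [Submodule.localized'_span, ← hG]
    apply le_antisymm <;> rw [Submodule.span_le]
    · rintro _ ⟨_, ⟨_, ⟨x, hx, rfl⟩, rfl⟩, rfl⟩
      show f1 (fun i => Ideal.Quotient.mk I (v x i)) ∈ _
      rw [hv, Submonoid.smul_def, ← algebraMap_smul L]
      exact Submodule.smul_mem _ _ (Submodule.subset_span hx)
    · intro x hx
      have hu := IsLocalization.map_units L (t x)
      have : algebraMap (R ⧸ I) L (t x) • x ∈ Submodule.span L (f1 '' (red '' (v '' ↑G))) := by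
        rw [algebraMap_smul, ← Submonoid.smul_def, ← hv]
        exact Submodule.subset_span ⟨_, ⟨_, ⟨x, hx, rfl⟩, rfl⟩, rfl⟩
      exact (Submodule.smul_mem_iff_of_isUnit _ hu).mp this
  let M := (Fin n → R) ⧸ V
  haveI : Module.FinitePresentation R M :=
    Module.finitePresentation_of_surjective V.mkQ V.mkQ_surjective (by rwa [Submodule.ker_mkQ])
  refine ⟨M, inferInstance, inferInstance, inferInstance, ?_⟩
  let fM : M →ₗ[R] (Fin n → R ⧸ I) ⧸ N :=
    V.liftQ ((N.mkQ.restrictScalars R) ∘ₗ red) (fun x hx => by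
      show N.mkQ (red x) = 0
      rw [Submodule.mkQ_apply, Submodule.Quotient.mk_eq_zero, ← Submodule.restrictScalars_mem R, hN]
      exact Submodule.mem_map_of_mem hx)
  have hker : LinearMap.ker fM = I • ⊤ := by
    refine le_antisymm ?_ ?_
    · intro m hm
      obtain ⟨x, rfl⟩ := V.mkQ_surjective m
      have h1 : red x ∈ N.restrictScalars R := (Submodule.Quotient.mk_eq_zero N).mp hm
      rw [hN] at h1
      obtain ⟨u, hu, hux⟩ := h1
      have h2 : x - u ∈ I • (⊤ : Submodule R (Fin n → R)) := by
        rw [pi_eq_sum_univ' (x - u)]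
        refine Submodule.sum_mem _ fun i _ => Submodule.smul_mem_smul ?_ trivial
        rw [← Ideal.Quotient.eq_zero_iff_mem]
        have := congrFun hux i
        show Ideal.Quotient.mk I (x i - u i) = 0
        rw [map_sub, sub_eq_zero]
        exact this.symm
      have h3 := Submodule.mem_map_of_mem (f := V.mkQ) h2
      rw [map_sub, (show V.mkQ u = 0 from (Submodule.Quotient.mk_eq_zero V).mpr hu), sub_zero,
        Submodule.map_smul''] at h3
      exact Submodule.smul_mono le_rfl le_top h3
    · refine Submodule.smul_le.mpr fun r hr m _ => ?_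
      rw [LinearMap.mem_ker, map_smul, ← algebraMap_smul (R ⧸ I) r, Ideal.Quotient.algebraMap_eq,
        Ideal.Quotient.eq_zero_iff_mem.mpr hr, zero_smul]
  have hfs : Function.Surjective fM := by
    intro y
    obtain ⟨w, rfl⟩ := N.mkQ_surjective y
    choose x hx using fun i => Ideal.Quotient.mk_surjective (w i)
    exact ⟨V.mkQ x, congrArg N.mkQ (funext hx)⟩
  let e0 : (M ⧸ (I • ⊤ : Submodule R M)) ≃ₗ[R] (Fin n → R ⧸ I) ⧸ N :=
    (Submodule.quotEquivOfEq _ _ hker.symm).trans (fM.quotKerEquivOfSurjective hfs)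
  let e1 : (M ⧸ (I • ⊤ : Submodule R M)) ≃ₗ[R ⧸ I] (Fin n → R ⧸ I) ⧸ N :=
    e0.extendScalarsOfSurjective Ideal.Quotient.mk_surjective
  let g := N.toLocalizedQuotient' L T f1
  haveI : IsLocalizedModule T (g ∘ₗ e1.toLinearMap) := IsLocalizedModule.of_linearEquiv_right T g e1
  exact ⟨(((IsLocalizedModule.iso T (g ∘ₗ e1.toLinearMap)).extendScalarsOfIsLocalization T L).trans
    (Submodule.quotEquivOfEq _ _ hloc)).trans e.symm⟩

end Groth.Agent.S9167
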