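import Groth.Statements.S9168
import Mathlib


set_option autoImplicit false
universe u
open CAlg

namespace Groth.Agent.S9168

/-- The fractions of a subring with denominators which are units in the ring. -/
def locClosure {A : Type u} [CommRing A] (B : Subring A) : Subring A where
  carrier := {x | ∃ b ∈ B, IsUnit b ∧ x * b ∈ B}
  one_mem' := ⟨1, B.one_mem, isUnit_one, by simp [B.one_mem]⟩
  zero_mem' := ⟨1, B.one_mem, isUnit_one, by simp [B.zero_mem]⟩
  mul_mem' := fun {x y} ⟨b, hb, hu, hx⟩ ⟨c, hc, hv, hy⟩ => ⟨b * c, B.mul_mem hb hc, hu.mul hv, by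
    rw [show x * y * (b * c) = (x * b) * (y * c) by ring]; exact B.mul_mem hx hy⟩
  add_mem' := fun {x y} ⟨b, hb, hu, hx⟩ ⟨c, hc, hv, hy⟩ => ⟨b * c, B.mul_mem hb hc, hu.mul hv, by
    rw [show (x + y) * (b * c) = (x * b) * c + (y * c) * b by ring]
    exact B.add_mem (B.mul_mem hx hc) (B.mul_mem hy hb)⟩
  neg_mem' := fun {x} ⟨b, hb, hu, hx⟩ => ⟨b, hb, hu, by rw [neg_mul]; exact B.neg_mem hx⟩

theorem le_locClosure {A : Type u} [CommRing A] (B : Subring A) : B ≤ locClosure B :=
  fun x hx => ⟨1, B.one_mem, isUnit_one, by simpa using hx⟩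

theorem isLocalHom_subtype {A : Type u} [CommRing A] (B : Subring A) :
    IsLocalHom (locClosure B).subtype := by
  refine ⟨fun x hx => ?_⟩
  obtain ⟨b, hb, hu, hxb⟩ := x.2
  refine IsUnit.of_mul_eq_one ⟨↑hx.unit⁻¹, x.1 * b, hxb, IsUnit.mul hx hu, ?_⟩ (Subtype.ext hx.mul_val_inv)
  rw [← mul_assoc, show (↑hx.unit⁻¹ : A) * x.1 = 1 from hx.val_inv_mul, one_mul]
  exact hb


/-- For a local homomorphism of local rings R → S and finite subsets E ⊆ R, F ⊆ S there are local
subrings R₀ ⊆ R and S₀ ⊆ S containing E and F, with R → S mapping R₀ into S₀, such that the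
inclusions and the induced map R₀ → S₀ are local homomorphisms, R₀ is essentially of finite type
over ℤ and S₀ is essentially of finite type over R₀. (So R → S is the directed colimit of such R₀ →
S₀.) -/
theorem result (R S : Type u) [CommRing R] [CommRing S] [IsLocalRing R]
    [IsLocalRing S] [Algebra R S] [IsLocalHom (algebraMap R S)] (E : Finset R) (F : Finset S) :
    ∃ (R₀ : Subring R) (S₀ : Subring S) (h : ∀ x ∈ R₀, algebraMap R S x ∈ S₀),
      (E : Set R) ⊆ R₀ ∧ (F : Set S) ⊆ S₀ ∧ ∃ (_ : IsLocalRing R₀) (_ : IsLocalRing S₀),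
        IsLocalHom R₀.subtype ∧ IsLocalHom S₀.subtype ∧
          IsLocalHom ((algebraMap R S).restrict R₀ S₀ h) ∧
          (algebraMap ℤ R₀).EssFiniteType ∧ ((algebraMap R S).restrict R₀ S₀ h).EssFiniteType := by
  classical
  let A : Subring R := Subring.closure (E : Set R)
  let R₀ : Subring R := locClosure A
  let B : Subring S := Subring.closure (algebraMap R S '' (R₀ : Set R) ∪ (F : Set S))
  let S₀ : Subring S := locClosure B
  have h : ∀ x ∈ R₀, algebraMap R S x ∈ S₀ := fun x hx =>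
    le_locClosure B (Subring.subset_closure (Or.inl ⟨x, hx, rfl⟩))
  refine ⟨R₀, S₀, h, fun x hx => le_locClosure A (Subring.subset_closure hx),
    fun x hx => le_locClosure B (Subring.subset_closure (Or.inr hx)), ?_⟩
  haveI hR : IsLocalHom R₀.subtype := isLocalHom_subtype A
  haveI hS : IsLocalHom S₀.subtype := isLocalHom_subtype B
  refine ⟨R₀.subtype.domain_isLocalRing, S₀.subtype.domain_isLocalRing, hR, hS,
    ⟨fun x hx => ?_⟩, ?_, ?_⟩
  · have h1 : IsUnit (algebraMap R S x.1) := hx.map S₀.subtype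
    exact hR.map_nonunit _ ((isUnit_map_iff (algebraMap R S) x.1).1 h1)
  · rw [RingHom.essFiniteType_algebraMap, Algebra.essFiniteType_iff]
    refine ⟨E.attach.image fun e => ⟨e.1, le_locClosure A (Subring.subset_closure e.2)⟩, fun x => ?_⟩
    set T : Subalgebra ℤ R₀ := Algebra.adjoin ℤ _
    have hA : A ≤ T.toSubring.map R₀.subtype := Subring.closure_le.2 fun e he =>
      ⟨⟨e, le_locClosure A (Subring.subset_closure he)⟩,
        Algebra.subset_adjoin (Finset.mem_coe.2 (Finset.mem_image.2 ⟨⟨e, he⟩, Finset.mem_attach _ _, rfl⟩)),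
        rfl⟩
    obtain ⟨b, hb, hbu, hxb⟩ := x.2
    obtain ⟨b', hb', rfl⟩ := hA hb
    obtain ⟨a', ha', ha⟩ := hA hxb
    exact ⟨b', hb', hR.map_nonunit _ hbu, (show a' = x * b' from Subtype.ext ha) ▸ ha'⟩
  · algebraize [(algebraMap R S).restrict R₀ S₀ h]
    show Algebra.EssFiniteType R₀ S₀
    rw [Algebra.essFiniteType_iff]
    refine ⟨F.attach.image fun e => ⟨e.1, le_locClosure B (Subring.subset_closure (Or.inr e.2))⟩, fun x => ?_⟩
    set T : Subalgebra R₀ S₀ := Algebra.adjoin R₀ _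
    have hB : B ≤ T.toSubring.map S₀.subtype := Subring.closure_le.2 fun e he => by
      rcases he with ⟨r, hr, rfl⟩ | he
      · exact ⟨⟨_, h r hr⟩, T.algebraMap_mem ⟨r, hr⟩, rfl⟩
      · exact ⟨⟨e, le_locClosure B (Subring.subset_closure (Or.inr he))⟩,
          Algebra.subset_adjoin (Finset.mem_coe.2 (Finset.mem_image.2 ⟨⟨e, he⟩, Finset.mem_attach _ _, rfl⟩)),
          rfl⟩
    obtain ⟨b, hb, hbu, hxb⟩ := x.2
    obtain ⟨b', hb', rfl⟩ := hB hb
    obtain ⟨a', ha', ha⟩ := hB hxb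
    exact ⟨b', hb', hS.map_nonunit _ hbu, (show a' = x * b' from Subtype.ext ha) ▸ ha'⟩

end Groth.Agent.S9168
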