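import Groth.Statements.S9169
import Groth.Agent.Lib.CIField.FiniteType
import Groth.Agent.Lib.RelGCIReg.Local
import Groth.Agent.Lib.RelGCIReg.Finite
import Groth.Agent.Lib.FibreFlat.RegularFlat

set_option autoImplicit false
universe u
open Synt

namespace Groth.Agent.S9169


open TensorProduct

open TensorProduct

theorem exists_away_comp {R S : Type u} [CommRing R] [CommRing S] [Algebra R S] (q : Ideal S) [q.IsPrime]
    (g : S) (hg : g ∉ q) (q' : Ideal (Localization.Away g)) [q'.IsPrime]
    (hq' : q'.comap (algebraMap S (Localization.Away g)) = q) (h : Localization.Away g) (hh : h ∉ q') :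
    ∃ g' : S, g' ∉ q ∧ Nonempty (Localization.Away g' ≃ₐ[R] Localization.Away h) := by
  obtain ⟨k, b, hb⟩ := IsLocalization.Away.surj g h
  haveI : IsLocalization.Away (algebraMap S (Localization.Away g) b) (Localization.Away h) :=
    IsLocalization.Away.of_associated (r := h)
      ⟨(IsLocalization.Away.algebraMap_pow_isUnit g k).unit, by rw [IsUnit.unit_spec, hb]⟩
  haveI : IsLocalization.Away (g * b) (Localization.Away h) :=
    IsLocalization.Away.mul' (Localization.Away g) _ g b
  refine ⟨g * b, fun hmem => (Ideal.IsPrime.mem_or_mem inferInstance hmem).elim hg fun hbq => hh ?_,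
    ⟨(IsLocalization.algEquiv (Submonoid.powers (g * b)) _ _).restrictScalars R⟩⟩
  refine (Ideal.mul_unit_mem_iff_mem _ (IsLocalization.Away.algebraMap_pow_isUnit g k)).mp ?_
  rw [hb]
  show b ∈ q'.comap (algebraMap S (Localization.Away g))
  rw [hq']
  exact hbq

theorem exists_prime_away {S : Type u} [CommRing S] (q : Ideal S) [q.IsPrime] (g : S) (hg : g ∉ q) :
    ∃ q' : Ideal (Localization.Away g), q'.IsPrime ∧ q'.comap (algebraMap S (Localization.Away g)) = q := by
  have hd : Disjoint (Submonoid.powers g : Set S) (q : Set S) :=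
    Set.disjoint_left.mpr fun y ⟨m, hm⟩ hy =>
      hg (Ideal.IsPrime.mem_of_pow_mem inferInstance m ((show g ^ m = y from hm).symm ▸ hy))
  exact ⟨_, IsLocalization.isPrime_of_isPrime_disjoint (Submonoid.powers g) _ q inferInstance hd,
    IsLocalization.comap_map_of_isPrime_disjoint (Submonoid.powers g) _ inferInstance hd⟩

theorem algEquiv_atPrime_away {R S : Type u} [CommRing R] [CommRing S] [Algebra R S] (q : Ideal S) [q.IsPrime]
    (g : S) (q' : Ideal (Localization.Away g)) [q'.IsPrime]
    (hq' : q'.comap (algebraMap S (Localization.Away g)) = q) :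
    Nonempty (Localization.AtPrime q ≃ₐ[R] Localization.AtPrime q') := by
  haveI : IsLocalization.AtPrime (Localization.AtPrime q') q := by
    have := IsLocalization.isLocalization_isLocalization_atPrime_isLocalization
      (Submonoid.powers g) (S := Localization.Away g) (Localization.AtPrime q') q'
    simpa only [hq'] using this
  exact ⟨(IsLocalization.algEquiv q.primeCompl (Localization.AtPrime q) (Localization.AtPrime q')).restrictScalars R⟩

theorem isLCIOver_of_algEquiv {k A B : Type u} [Field k] [CommRing A] [CommRing B] [Algebra k A] [Algebra k B]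
    (e : A ≃ₐ[k] B) (h : Synt.IsLCIOver k A) : Synt.IsLCIOver k B :=
  GrothLib.LCI6.isLCIOver_iff_isLCI.mpr
    (GrothLib.LCI6.isLCI_of_algEquiv e (GrothLib.LCI6.isLCIOver_iff_isLCI.mp h))

theorem isCIOver_atPrime_equiv {k A B : Type u} [Field k] [CommRing A] [CommRing B] [Algebra k A] [Algebra k B]
    (e : A ≃ₐ[k] B) (Q : Ideal B) [Q.IsPrime] (P : Ideal A) [P.IsPrime] (hP : Q.comap e.toAlgHom.toRingHom = P)
    (h : Synt.IsCIOver k (Localization.AtPrime P)) : Synt.IsCIOver k (Localization.AtPrime Q) :=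
  GrothLib.CIField.isCIOver_of_algEquiv
    (IsLocalization.algEquivOfAlgEquiv (M := P.primeCompl) (T := Q.primeCompl)
      (Localization.AtPrime P) (Localization.AtPrime Q) e (by
        subst hP
        ext x
        constructor
        · rintro ⟨y, hy, rfl⟩
          exact hy
        · intro hx
          exact ⟨e.symm x, fun hy => hx (by simpa using hy), e.apply_symm_apply x⟩)) h

theorem result (R S : Type u) [CommRing R] [CommRing S] [Algebra R S]
    (p : Ideal R) [p.IsPrime] (q : Ideal S) [q.IsPrime] [q.LiesOver p]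
    (Q : Ideal (p.Fiber S)) [Q.IsPrime]
    (hQ : Q.comap (Algebra.TensorProduct.includeRight.toRingHom) = q) :
    ((∃ g : S, g ∉ q ∧ Synt.IsSyntomic R (Localization.Away g)) ↔
        ∃ g : S, g ∉ q ∧ ∃ (n c : ℕ) (F : Fin c → MvPolynomial (Fin n) R), Synt.IsRelGCI R n c F ∧
          Nonempty (Localization.Away g ≃ₐ[R] Synt.RelGCIRing R n c F)) ∧
      ((∃ g : S, g ∉ q ∧ Synt.IsSyntomic R (Localization.Away g)) ↔
        ∃ g : S, g ∉ q ∧ Algebra.FinitePresentation R (Localization.Away g) ∧
          Module.Flat R (Localization.AtPrime q) ∧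
          Synt.IsCIOver p.ResidueField (Localization.AtPrime Q)) := by
  have hinc : ∀ a : S, a ∉ q → ((1 : p.ResidueField) ⊗ₜ[R] a : p.Fiber S) ∉ Q := fun a ha hmem =>
    ha (hQ ▸ hmem)
  refine ⟨⟨?_, ?_⟩, ⟨?_, ?_⟩⟩
  · rintro ⟨g, hg, hs⟩
    obtain ⟨q', hq'p, hq'⟩ := exists_prime_away q g hg
    haveI := hq'p
    obtain ⟨h, hh, n, c, F, hF, ⟨e⟩⟩ := GrothLib.RelGCIReg.exists_relGCI_away hs q'
    obtain ⟨g', hg', ⟨e'⟩⟩ := exists_away_comp (R := R) q g hg q' hq' h hh
    exact ⟨g', hg', n, c, F, hF, ⟨e'.trans e⟩⟩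
  · rintro ⟨g, hg, n, c, F, hF, ⟨e⟩⟩
    exact ⟨g, hg, GrothLib.RelGCIReg.isSyntomic_of_algEquiv e.symm (GrothLib.RelGCIReg.isSyntomic F hF)⟩
  · rintro ⟨g, hg, hs⟩
    refine ⟨g, hg, hs.2.1, ?_, ?_⟩
    · obtain ⟨q', hq'p, hq'⟩ := exists_prime_away q g hg
      haveI := hq'p
      obtain ⟨e⟩ := algEquiv_atPrime_away (R := R) q g q' hq'
      haveI := hs.1
      haveI : Module.Flat (Localization.Away g) (Localization.AtPrime q') := IsLocalization.flat _ q'.primeCompl
      haveI : Module.Flat R (Localization.AtPrime q') := Module.Flat.trans R (Localization.Away g) _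
      exact Module.Flat.of_linearEquiv e.toLinearEquiv
    · exact GrothLib.CIField.isCIOver_atPrime_of_away Q _ (hinc g hg)
        (isLCIOver_of_algEquiv
          (IsLocalization.Away.tensorProductEquivTMulRight R p.ResidueField g (Localization.Away g))
          (hs.2.2 ⟨p, inferInstance⟩))
  · rintro ⟨g, hg, hfp, hflat, hci⟩
    obtain ⟨q', hq'p, hq'⟩ := exists_prime_away q g hg
    haveI := hq'p
    obtain ⟨eq₀⟩ := algEquiv_atPrime_away (R := R) q g q' hq'
    haveI : Module.Flat R (Localization.AtPrime q') := Module.Flat.of_linearEquiv eq₀.symm.toLinearEquiv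
    have hLM : Module.Flat R (LocalizedModule q'.primeCompl (Localization.Away g)) :=
      Module.Flat.of_linearEquiv ((IsLocalizedModule.iso q'.primeCompl
        (Algebra.linearMap (Localization.Away g) (Localization.AtPrime q'))).restrictScalars R)
    obtain ⟨g₁, hg₁, hfl₁⟩ := GrothLib.FibreFlat.exists_flat_away (P := R) q' hLM
    obtain ⟨g₂, hg₂, ⟨e₂⟩⟩ := exists_away_comp (R := R) q g hg q' hq' g₁ hg₁
    let S₁ := Localization.Away g₂
    haveI : Module.Flat R S₁ := Module.Flat.of_linearEquiv e₂.toLinearEquiv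
    haveI : Algebra.FinitePresentation R (Localization.Away g₁) :=
      Algebra.FinitePresentation.trans R (Localization.Away g) _
    haveI : Algebra.FinitePresentation R S₁ := Algebra.FinitePresentation.equiv e₂.symm
    let E := IsLocalization.Away.tensorProductEquivTMulRight R p.ResidueField g₂ S₁
    obtain ⟨Q'', hQ''p, hQ''⟩ := exists_prime_away Q _ (hinc g₂ hg₂)
    haveI := hQ''p
    let Q₁ : Ideal (p.Fiber S₁) := Q''.comap E.toAlgHom.toRingHom
    haveI : Q₁.IsPrime := Ideal.IsPrime.comap _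
    obtain ⟨eQ⟩ := algEquiv_atPrime_away (R := p.ResidueField) Q _ Q'' hQ''
    have hci₁ : Synt.IsCIOver p.ResidueField (Localization.AtPrime Q₁) :=
      isCIOver_atPrime_equiv E.symm Q₁ Q'' (by
        ext x
        show E (E.symm x) ∈ Q'' ↔ _
        rw [AlgEquiv.apply_symm_apply]) (GrothLib.CIField.isCIOver_of_algEquiv eQ hci)
    let q₁ : Ideal S₁ := Q₁.comap Algebra.TensorProduct.includeRight.toRingHom
    haveI : q₁.IsPrime := Ideal.IsPrime.comap _
    have hq₁ : q₁.comap (algebraMap S S₁) = q := by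
      ext a
      show E ((1 : p.ResidueField) ⊗ₜ[R] algebraMap S S₁ a) ∈ Q'' ↔ a ∈ q
      rw [IsLocalization.Away.tensorProductEquivTMulRight_tmul, ← hQ, Ideal.mem_comap, ← hQ'']
      rfl
    haveI : Algebra.FiniteType R S₁ := inferInstance
    obtain ⟨n, α, hα⟩ := Algebra.FiniteType.iff_quotient_mvPolynomial''.mp (inferInstance : Algebra.FiniteType R S₁)
    obtain ⟨β, hβ, hiff⟩ := GrothLib.LCI6.kRegAt_fibre_iff α hα
      (Algebra.FinitePresentation.ker_fG_of_surjective α hα) p Q₁
    obtain ⟨h, hh, hlci⟩ := GrothLib.LCI6.exists_isLCI_away_of_kRegAt α hα q₁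
      (hiff.mpr ((GrothLib.CIField.isCIOver_atPrime_iff β hβ Q₁).mp hci₁))
    haveI : Module.Flat S₁ (Localization.Away h) := IsLocalization.flat _ (Submonoid.powers h)
    have hs : Synt.IsSyntomic R (Localization.Away h) :=
      GrothLib.LCI6.isSyntomic_iff.mpr ⟨Module.Flat.trans R S₁ _, hlci⟩
    obtain ⟨g₃, hg₃, ⟨e₃⟩⟩ := exists_away_comp (R := R) q g₂ hg₂ q₁ hq₁ h hh
    exact ⟨g₃, hg₃, GrothLib.RelGCIReg.isSyntomic_of_algEquiv e₃.symm hs⟩

end Groth.Agent.S9169
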