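import Groth.Statements.S9170
import Groth.Agent.Lib.RelGCIReg.Basic

set_option autoImplicit false
universe u
open Synt

namespace Groth.Agent.S9170

/-- For a relative global complete intersection S = R[x_1, …, x_n]/(f_1, …, f_c) over a ring R and a
prime q' of the polynomial ring containing the ideal (f_1, …, f_c): (1) f_1, …, f_c is a regular
sequence in the localization R[x]_{q'} (a local ring); (2) every quotient R[x]_{q'}/(f_1, …, f_i) is
flat over R; (3) the conormal module (f)/(f)² is free over S with basis the classes of the f_i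
(stated as: these classes are linearly independent over S and span). -/
theorem result (R : Type u) [CommRing R] (n c : ℕ)
    (F : Fin c → MvPolynomial (Fin n) R) (h : Synt.IsRelGCI R n c F)
    (q' : Ideal (MvPolynomial (Fin n) R)) [q'.IsPrime] (hq' : Ideal.span (Set.range F) ≤ q') :
    RingTheory.Sequence.IsRegular (Localization.AtPrime q')
        ((List.ofFn F).map (algebraMap (MvPolynomial (Fin n) R) (Localization.AtPrime q'))) ∧
      (∀ i ≤ c, Module.Flat R (Localization.AtPrime q' ⧸ Ideal.ofList
        (((List.ofFn F).take i).map (algebraMap (MvPolynomial (Fin n) R) (Localization.AtPrime q'))))) ∧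
      LinearIndependent (Synt.RelGCIRing R n c F)
        (fun i : Fin c => (Ideal.span (Set.range F)).toCotangent ⟨F i, Ideal.subset_span (Set.mem_range_self i)⟩) ∧
      Submodule.span (Synt.RelGCIRing R n c F) (Set.range
        (fun i : Fin c => (Ideal.span (Set.range F)).toCotangent ⟨F i, Ideal.subset_span (Set.mem_range_self i)⟩)) = ⊤ :=   by
  refine ⟨?_, fun i hi => ?_, (GrothLib.RelGCIReg.cotangent_basis F h).1, (GrothLib.RelGCIReg.cotangent_basis F h).2⟩
  · rw [List.map_ofFn]
    exact GrothLib.RelGCIReg.isRegular_atPrime F q' h hq'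
  · have e : Ideal.span (Set.range (GrothLib.RelGCIReg.locSeq F q' ∘ Fin.castLE hi)) =
        Ideal.ofList (((List.ofFn F).take i).map (algebraMap (MvPolynomial (Fin n) R) (Localization.AtPrime q'))) := by
      rw [Ideal.ofList]
      refine congrArg Ideal.span (Set.ext fun x => ⟨?_, ?_⟩)
      · rintro ⟨j, rfl⟩
        refine List.mem_map.mpr ⟨F (Fin.castLE hi j), ?_, rfl⟩
        exact List.mem_take_iff_getElem.mpr ⟨j, by simp [hi], by simp [Fin.castLE]⟩
      · intro hx
        obtain ⟨y, hy, rfl⟩ := List.mem_map.mp hx
        obtain ⟨j, hj, rfl⟩ := List.mem_take_iff_getElem.mp hy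
        simp only [List.length_ofFn, lt_min_iff] at hj
        exact ⟨⟨j, hj.1⟩, by simp [GrothLib.RelGCIReg.locSeq, Fin.castLE]⟩
    haveI := GrothLib.RelGCIReg.flat_quotient_atPrime F q' h hq' hi
    exact Module.Flat.of_linearEquiv (Ideal.quotientEquivAlgOfEq R e).toLinearEquiv.symm

end Groth.Agent.S9170
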