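import Groth.Statements.S9171
import Groth.Agent.Lib.CIField.FiniteType

set_option autoImplicit false
universe u
open Synt

namespace Groth.Agent.S9171

theorem result (k : Type u) [Field k] (n : ℕ)
    (I : Ideal (MvPolynomial (Fin n) k)) (q : Ideal (MvPolynomial (Fin n) k ⧸ I)) [q.IsPrime] (c : ℕ)
    (hc : (c : ℕ∞) + q.height = (q.comap (Ideal.Quotient.mk I)).height) :
    ((∃ g : MvPolynomial (Fin n) k ⧸ I, g ∉ q ∧ Synt.IsGlobalCI k (Localization.Away g)) ↔
        ∃ s : Finset (Localization.AtPrime (q.comap (Ideal.Quotient.mk I))), s.card = c ∧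
          Ideal.span (s : Set _) =
            I.map (algebraMap _ (Localization.AtPrime (q.comap (Ideal.Quotient.mk I))))) ∧
      ((∃ g : MvPolynomial (Fin n) k ⧸ I, g ∉ q ∧ Synt.IsGlobalCI k (Localization.Away g)) ↔
        ∃ rs : List (Localization.AtPrime (q.comap (Ideal.Quotient.mk I))),
          RingTheory.Sequence.IsRegular (Localization.AtPrime (q.comap (Ideal.Quotient.mk I))) rs ∧
          Ideal.ofList rs =
            I.map (algebraMap _ (Localization.AtPrime (q.comap (Ideal.Quotient.mk I))))) := by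
  classical
  let p := q.comap (Ideal.Quotient.mk I)
  let L := Localization.AtPrime p
  let J := I.map (algebraMap _ L)
  have hIp : I ≤ p := fun x hx => by
    rw [Ideal.mem_comap, Ideal.Quotient.eq_zero_iff_mem.mpr hx]
    exact q.zero_mem
  have hJm : J ≤ IsLocalRing.maximalIdeal L := by
    rw [← Localization.AtPrime.map_eq_maximalIdeal]
    exact Ideal.map_mono hIp
  have hJtop : J ≠ ⊤ := fun h => (IsLocalRing.maximalIdeal.isMaximal L).ne_top (top_unique (h.ge.trans hJm))
  have hdimJ : ringKrullDim (L ⧸ J) = (q.height : WithBot ℕ∞) := by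
    rw [GrothLib.LCI6.ringKrullDim_localization_quotient I p hIp,
      Ideal.map_comap_of_surjective _ Ideal.Quotient.mk_surjective]
  have hdimL : ringKrullDim L = ((c + q.height : ℕ∞) : WithBot ℕ∞) := by
    rw [IsLocalization.AtPrime.ringKrullDim_eq_height p L, hc]
  obtain ⟨h, hh⟩ := GrothLib.LCI6.height_ne_top q
  have key : (∃ g : MvPolynomial (Fin n) k ⧸ I, g ∉ q ∧ Synt.IsGlobalCI k (Localization.Away g)) ↔
      ∃ rs : List L, RingTheory.Sequence.IsRegular L rs ∧ Ideal.ofList rs = J := by
    have hα : Function.Surjective (Ideal.Quotient.mkₐ k I) := Ideal.Quotient.mk_surjective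
    have hiff := GrothLib.CIField.isCIOver_atPrime_iff (Ideal.Quotient.mkₐ k I) hα q
    rw [show RingHom.ker (Ideal.Quotient.mkₐ k I).toRingHom = I from Ideal.Quotient.mkₐ_ker k I] at hiff
    change _ ↔ GrothLib.LCI6.KRegAt I p at hiff
    constructor
    · rintro ⟨g, hg, hG⟩
      exact (GrothLib.CIField.regGen_of_kRegAt I p hIp (hiff.mp (GrothLib.CIField.isCIOver_atPrime_of_away q g hg
        (GrothLib.CIField.isLCIOver_of_isGlobalCI hG)))).exists_isRegular hJtop
    · rintro ⟨rs, hrs, hJ⟩
      exact GrothLib.CIField.exists_isGlobalCI_away q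
        (hiff.mpr (GrothLib.CIField.kRegAt_of_regGen I p ⟨rs, hrs.toIsWeaklyRegular, hJ⟩))
  refine ⟨key.trans ⟨?_, ?_⟩, key⟩
  · rintro ⟨rs, hrs, hJ⟩
    have hlen : rs.length = c := by
      have h1 := ringKrullDim_add_length_eq_ringKrullDim_of_isRegular rs hrs
      rw [hJ, hdimJ, hdimL, hh] at h1
      have h2 : h + rs.length = c + h := by exact_mod_cast h1
      omega
    have hspan : Ideal.span (rs.toFinset : Set L) = J := by
      rw [List.coe_toFinset, ← hJ]
    refine ⟨rs.toFinset, le_antisymm (hlen ▸ List.toFinset_card_le rs) ?_, hspan⟩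
    have h1 := ringKrullDim_le_ringKrullDim_quotient_add_encard (rs.toFinset : Set L)
      (fun x hx => IsLocalRing.maximalIdeal_le_jacobson (⊥ : Ideal L) (hJm (hspan ▸ Ideal.subset_span hx)) |> fun hm =>
        by rwa [Ideal.jacobson_bot] at hm)
    rw [hspan, hdimJ, hdimL, hh, Set.encard_coe_eq_coe_finsetCard] at h1
    have h2 : c + h ≤ h + rs.toFinset.card := by exact_mod_cast h1
    omega
  · rintro ⟨s, hs, hspan⟩
    have hof : Ideal.ofList s.toList = J := by
      refine Eq.trans ?_ hspan
      exact congrArg Ideal.span (Set.ext fun y => Finset.mem_toList)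
    refine ⟨s.toList, GrothLib.CMFree.isRegular_of_ringKrullDim_quotient L _ (hof ▸ hJtop) ?_, hof⟩
    rw [hof, hdimJ, hdimL, Finset.length_toList, hs, hh]
    exact_mod_cast (show h + c ≤ c + h by omega)

end Groth.Agent.S9171
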