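import Groth.Statements.S9174
import Mathlib
import Groth.Agent.Lib.FibRegOpen1.Basic
import Groth.Agent.Lib.CMBasics.Basic
-- import your own Groth.Agent.* helpers here

set_option autoImplicit false
universe u
open CAlg CategoryTheory AlgebraicGeometry TensorProduct

namespace Groth.Agent.S9174

/-- Let R → S be of finite type with every fibre ring κ(p) ⊗ S Cohen–Macaulay and equidimensional of
dimension d, and let f_1, …, f_i ∈ S. The primes q ⊇ (f_1, …, f_i) at which the f_j form a regular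
sequence in the fibre local ring S_q/pS_q (p = q ∩ R) form an open subset of V(f_1, …, f_i): there
is an open U of Spec S whose trace on V(f_1, …, f_i) is exactly this set. -/
theorem result (R S : Type u) [CommRing R] [CommRing S]
    [Algebra R S] [Algebra.FiniteType R S] (d : ℕ)
    (hCM : ∀ p : PrimeSpectrum R, LocCoh.IsCohenMacaulayRing (p.asIdeal.Fiber S))
    (heq : ∀ p : PrimeSpectrum R, ∀ P ∈ minimalPrimes (p.asIdeal.Fiber S),
      ringKrullDim (p.asIdeal.Fiber S ⧸ P) = (d : WithBot ℕ∞))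
    (f : List S) :
    ∃ U : Set (PrimeSpectrum S), IsOpen U ∧ ∀ q : PrimeSpectrum S, Ideal.ofList f ≤ q.asIdeal →
      (q ∈ U ↔ RingTheory.Sequence.IsRegular (EGA4.FibLocRing R S q.asIdeal)
        (f.map (algebraMap S (EGA4.FibLocRing R S q.asIdeal)))) := by
  classical
  let J := Ideal.ofList f
  let π := Ideal.Quotient.mk J
  haveI : Algebra.FiniteType R (S ⧸ J) := Algebra.FiniteType.of_surjective (Ideal.Quotient.mkₐ R J) Ideal.Quotient.mk_surjective
  let g := Spec.map (CommRingCat.ofHom (algebraMap R (S ⧸ J)))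
  haveI : LocallyOfFiniteType g := (HasRingHomProperty.Spec_iff (P := @LocallyOfFiniteType)).2
    (RingHom.finiteType_algebraMap.2 ‹_›)
  let W : Set (PrimeSpectrum (S ⧸ J)) := {q' | ∃ n : ℕ, n + f.length ≤ d ∧ FlatMor.fibreDimAt g q' ≤ (n : WithBot ℕ∞)}
  have hW : IsOpen W := by
    have : W = ⋃ n ∈ {n : ℕ | n + f.length ≤ d}, {q' | FlatMor.fibreDimAt g q' ≤ (n : WithBot ℕ∞)} := by
      ext q'
      exact ⟨fun ⟨n, h1, h2⟩ => Set.mem_biUnion h1 h2, fun h => by
        obtain ⟨n, h1, h2⟩ := Set.mem_iUnion₂.1 h; exact ⟨n, h1, h2⟩⟩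
    rw [this]
    exact isOpen_biUnion fun n _ => GrothLib.FibreDimAt6.isOpen_fibreDimAt_le g n
  obtain ⟨U, hU, hUW⟩ := (PrimeSpectrum.isClosedEmbedding_comap_of_surjective (S ⧸ J) π
    Ideal.Quotient.mk_surjective).isInducing.isOpen_iff.1 hW
  refine ⟨U, hU, fun q hq => ?_⟩
  obtain ⟨q', hq'⟩ : ∃ q' : PrimeSpectrum (S ⧸ J), PrimeSpectrum.comap π q' = q := by
    have : q ∈ Set.range (PrimeSpectrum.comap π) := by
      rw [range_comap_of_surjective _ _ Ideal.Quotient.mk_surjective, Ideal.mk_ker]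
      exact hq
    exact this
  subst hq'
  have hmem : PrimeSpectrum.comap π q' ∈ U ↔ q' ∈ W := Set.ext_iff.1 hUW q'
  rw [hmem]
  let q₀ := (PrimeSpectrum.comap π q').asIdeal
  let L := EGA4.FibLocRing R S q₀
  let p : PrimeSpectrum R := ⟨q'.asIdeal.under R, inferInstance⟩
  obtain ⟨Q, t, ht0, hL, hJ⟩ := GrothLib.FibRegOpen1.fibreDimAt_quotient_add J q' p.asIdeal rfl
  -- the fibre is equidimensional
  have hd : FlatMor.localDim (PrimeSpectrum (p.asIdeal.Fiber S)) Q = (d : WithBot ℕ∞) := by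
    let s := Spec.map (CommRingCat.ofHom (algebraMap p.asIdeal.ResidueField (p.asIdeal.Fiber S)))
    haveI : Algebra.FiniteType p.asIdeal.ResidueField (p.asIdeal.Fiber S) := inferInstance
    haveI : LocallyOfFiniteType s := (HasRingHomProperty.Spec_iff (P := @LocallyOfFiniteType)).2
      (RingHom.finiteType_algebraMap.2 ‹_›)
    refine (GrothLib.Equidim6.equidim_iff (K := p.asIdeal.ResidueField) s d).1 (fun Z hZ => ?_) Q
    replace hZ : Z ∈ irreducibleComponents (PrimeSpectrum (p.asIdeal.Fiber S)) := hZ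
    rw [← PrimeSpectrum.zeroLocus_minimalPrimes] at hZ
    obtain ⟨P, hP, rfl⟩ := hZ
    exact (GrothLib.HLVT.topologicalKrullDim_zeroLocus P).trans (heq p P hP)
  -- the fibre local ring is Cohen–Macaulay
  haveI hCML : LocCoh.IsCohenMacaulayLocalRing L := by
    obtain ⟨Q₁, hQ₁⟩ := GrothLib.FibreDimRing.exists_fibre_point (R := R) (PrimeSpectrum.comap π q')
    obtain ⟨e⟩ := GrothLib.FibRegOpen1.nonempty_localization_equiv (R := R) (PrimeSpectrum.comap π q') rfl Q₁ hQ₁
    haveI := (hCM ⟨q₀.under R, inferInstance⟩).isCohenMacaulayLocalRing_localization Q₁.asIdeal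
    exact GrothLib.HB26.isCohenMacaulayLocalRing_of_ringEquiv (R := Localization.AtPrime Q₁.asIdeal) e
  have hmax : ∀ x ∈ f.map (algebraMap S L), x ∈ IsLocalRing.maximalIdeal L := by
    intro x hx
    obtain ⟨y, hy, rfl⟩ := List.mem_map.1 hx
    intro hu
    have hu' : IsUnit (algebraMap S (Localization.AtPrime q₀) y) := by
      haveI : IsLocalHom (Ideal.Quotient.mk ((q₀.under R).map (algebraMap R (Localization.AtPrime q₀)))) :=
        IsLocalHom.of_surjective _ Ideal.Quotient.mk_surjective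
      exact isUnit_of_map_unit (Ideal.Quotient.mk ((q₀.under R).map (algebraMap R (Localization.AtPrime q₀)))) _ hu
    exact ((IsLocalization.AtPrime.isUnit_to_map_iff (Localization.AtPrime q₀) q₀ y).1 hu')
      (hq (Ideal.subset_span hy))
  have hmap : Ideal.ofList (f.map (algebraMap S L)) = J.map (algebraMap S L) := (Ideal.map_ofList _ _).symm
  have hne : J.map (algebraMap S L) ≠ ⊤ := by
    rw [← hmap]
    exact ne_top_of_le_ne_top (IsLocalRing.maximalIdeal.isMaximal L).ne_top (Ideal.span_le.2 hmax)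
  have hreg : RingTheory.Sequence.IsRegular L (f.map (algebraMap S L)) ↔
      ringKrullDim (L ⧸ J.map (algebraMap S L)) + f.length = ringKrullDim L := by
    have h := (GrothLib.CMBasics.isWeaklyRegular_iff (M := L) hCML.supportDim_eq_depth _ hmax).1
    rw [smul_eq_mul, Ideal.mul_top, Module.supportDim_quotient_eq_ringKrullDim,
      Module.supportDim_self_eq_ringKrullDim, List.length_map, hmap] at h
    refine ⟨fun hr => h.1 hr.toIsWeaklyRegular, fun hdim => ⟨h.2 hdim, fun htop => hne ?_⟩⟩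
    rw [smul_eq_mul, Ideal.mul_top, hmap] at htop
    exact htop.symm
  rw [show (RingTheory.Sequence.IsRegular (EGA4.FibLocRing R S (PrimeSpectrum.comap π q').asIdeal)
    (f.map (algebraMap S (EGA4.FibLocRing R S (PrimeSpectrum.comap π q').asIdeal)))) ↔ _ from hreg]
  have hle : ringKrullDim L ≤ ringKrullDim (L ⧸ J.map (algebraMap S L)) + f.length := by
    have h := ringKrullDim_le_ringKrullDim_quotient_add_card (R := L) (f.map (algebraMap S L)).toFinset (fun x hx => by
      rw [Finset.mem_coe, List.mem_toFinset] at hx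
      rw [IsLocalRing.ringJacobson_eq_maximalIdeal]
      exact hmax x hx)
    rw [List.coe_toFinset] at h
    change ringKrullDim L ≤ ringKrullDim (L ⧸ Ideal.ofList (f.map (algebraMap S L))) + _ at h
    rw [hmap] at h
    refine h.trans ?_
    gcongr
    exact_mod_cast (List.toFinset_card_le _).trans_eq (List.length_map _)
  haveI : Nontrivial (L ⧸ J.map (algebraMap S L)) := Ideal.Quotient.nontrivial_iff.2 hne
  -- everything is a natural number
  have key : ∀ t a b : WithBot ℕ∞, 0 ≤ t → 0 ≤ a → 0 ≤ b → t + a = (d : WithBot ℕ∞) → b ≤ a →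
      a ≤ b + (f.length : WithBot ℕ∞) →
      ((∃ n : ℕ, n + f.length ≤ d ∧ t + b ≤ (n : WithBot ℕ∞)) ↔ b + f.length = a) := by
    intro t a b ht ha hb hta hba hab
    obtain ⟨t, rfl⟩ := WithBot.ne_bot_iff_exists.1 (ne_bot_of_le_ne_bot WithBot.zero_ne_bot ht)
    obtain ⟨a, rfl⟩ := WithBot.ne_bot_iff_exists.1 (ne_bot_of_le_ne_bot WithBot.zero_ne_bot ha)
    obtain ⟨b, rfl⟩ := WithBot.ne_bot_iff_exists.1 (ne_bot_of_le_ne_bot WithBot.zero_ne_bot hb)
    simp only [← WithBot.coe_natCast, ← WithBot.coe_add, WithBot.coe_le_coe, WithBot.coe_inj] at *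
    have hat : a ≠ ⊤ := fun h => by simp [h] at hta
    have htt : t ≠ ⊤ := fun h => by simp [h] at hta
    obtain ⟨a, rfl⟩ := ENat.ne_top_iff_exists.1 hat
    obtain ⟨t, rfl⟩ := ENat.ne_top_iff_exists.1 htt
    obtain ⟨b, rfl⟩ := ENat.ne_top_iff_exists.1 (ne_top_of_le_ne_top hat hba)
    norm_cast at *
    exact ⟨fun ⟨n, h1, h2⟩ => by omega, fun h => ⟨t + b, by omega, le_rfl⟩⟩
  have hb : ringKrullDim (L ⧸ J.map (algebraMap S L)) ≤ ringKrullDim L :=
    ringKrullDim_le_of_surjective _ Ideal.Quotient.mk_surjective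
  have := key t (ringKrullDim L) _ ht0 ringKrullDim_nonneg_of_nontrivial ringKrullDim_nonneg_of_nontrivial
    (hL.trans hd) hb hle
  exact ((show q' ∈ W ↔ _ from Iff.rfl).trans
    (exists_congr fun n => and_congr_right fun _ => Iff.of_eq (congrArg (· ≤ (n : WithBot ℕ∞)) hJ))).trans this

end Groth.Agent.S9174
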