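import Groth.Statements.S9176
import Groth.Agent.Lib.FibreDimRing.Basic
import Groth.Agent.Lib.Equidim6.Retro


set_option autoImplicit false
universe u
open CAlg

namespace Groth.Agent.S9176

/-- For a ring map R → S of finite presentation and n ≥ 0, the set of primes q of S whose fibre
Spec(κ(p) ⊗ S), p = q ∩ R, has local dimension at most n at the point over q is open and
quasi-compact in Spec S. -/
theorem result (R S : Type u) [CommRing R]
    [CommRing S] [Algebra R S] [Algebra.FinitePresentation R S] (n : ℕ) :
    IsOpen {q : PrimeSpectrum S | ∀ Q : PrimeSpectrum ((q.asIdeal.under R).Fiber S),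
        Q.asIdeal.comap (Algebra.TensorProduct.includeRight.toRingHom) = q.asIdeal →
          FlatMor.localDim (PrimeSpectrum ((q.asIdeal.under R).Fiber S)) Q ≤ (n : WithBot ℕ∞)} ∧
      IsCompact {q : PrimeSpectrum S | ∀ Q : PrimeSpectrum ((q.asIdeal.under R).Fiber S),
        Q.asIdeal.comap (Algebra.TensorProduct.includeRight.toRingHom) = q.asIdeal →
          FlatMor.localDim (PrimeSpectrum ((q.asIdeal.under R).Fiber S)) Q ≤ (n : WithBot ℕ∞)} := by
  let f := AlgebraicGeometry.Spec.map (CommRingCat.ofHom (algebraMap R S))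
  haveI : AlgebraicGeometry.LocallyOfFinitePresentation f :=
    (AlgebraicGeometry.HasRingHomProperty.Spec_iff (P := @AlgebraicGeometry.LocallyOfFinitePresentation)).2
      (RingHom.finitePresentation_algebraMap.2 inferInstance)
  have hset : {q : PrimeSpectrum S | ∀ Q : PrimeSpectrum ((q.asIdeal.under R).Fiber S),
        Q.asIdeal.comap (Algebra.TensorProduct.includeRight.toRingHom) = q.asIdeal →
          FlatMor.localDim (PrimeSpectrum ((q.asIdeal.under R).Fiber S)) Q ≤ (n : WithBot ℕ∞)} =
      {q | FlatMor.fibreDimAt f q ≤ (n : WithBot ℕ∞)} :=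
    Set.ext fun q => GrothLib.FibreDimRing.fibreDimAt_le_iff q _
  rw [hset]
  exact ⟨GrothLib.FibreDimAt6.isOpen_fibreDimAt_le f n, GrothLib.Equidim6.isCompact_fibreDimAt_le_affine f n⟩

end Groth.Agent.S9176
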