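import Groth.Statements.S9177
import Mathlib
import Groth.Agent.Lib.RingStage.Tmul

set_option autoImplicit false
universe u
open CAlg

namespace Groth.Agent.S9177

open TensorProduct in
/-- Let R = colim R_i be a directed colimit of A-algebras (compatible transition maps), B and C
A-algebras. (1) If B is of finite type over A, two A-algebra maps B → C whose base changes to R
coincide already have equal base changes to some R_i. (2) If C is of finite type over A and u : B →
C has surjective base change to R, then its base change to some R_i is surjective. (The A-algebra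
structure on R is through any stage R_l; it does not depend on l.) -/
theorem result {ι : Type u} [Preorder ι]
    [Nonempty ι] [IsDirectedOrder ι] (G : ι → Type u) [∀ i, CommRing (G i)]
    (f : ∀ i j, i ≤ j → G i →+* G j) [DirectedSystem G (fun i j h => f i j h)]
    (A : Type u) [CommRing A] [∀ i, Algebra A (G i)]
    (hf : ∀ i j (h : i ≤ j), (f i j h).comp (algebraMap A (G i)) = algebraMap A (G j)) (l : ι)
    (B C : Type u) [CommRing B] [CommRing C] [Algebra A B] [Algebra A C] :
    letI : Algebra A (Ring.DirectLimit G (fun i j h => f i j h)) :=
      ((Ring.DirectLimit.of G (fun i j h => f i j h) l).comp (algebraMap A (G l))).toAlgebra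
    (Algebra.FiniteType A B → ∀ u u' : B →ₐ[A] C,
        Algebra.TensorProduct.map (AlgHom.id A (Ring.DirectLimit G (fun i j h => f i j h))) u =
            Algebra.TensorProduct.map (AlgHom.id A (Ring.DirectLimit G (fun i j h => f i j h))) u' →
          ∃ i : ι, Algebra.TensorProduct.map (AlgHom.id A (G i)) u =
            Algebra.TensorProduct.map (AlgHom.id A (G i)) u') ∧
      (Algebra.FiniteType A C → ∀ u : B →ₐ[A] C,
        Function.Surjective
            (Algebra.TensorProduct.map (AlgHom.id A (Ring.DirectLimit G (fun i j h => f i j h))) u) →
          ∃ i : ι, Function.Surjective (Algebra.TensorProduct.map (AlgHom.id A (G i)) u)) := by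
  letI : Algebra A (Ring.DirectLimit G (fun i j h => f i j h)) :=
    ((Ring.DirectLimit.of G (fun i j h => f i j h) l).comp (algebraMap A (G l))).toAlgebra
  let g : ∀ i, G i →ₐ[A] Ring.DirectLimit G (fun i j h => f i j h) := fun i =>
    AlgHom.mk (Ring.DirectLimit.of G (fun i j h => f i j h) i) fun a => by
      obtain ⟨k, hik, hlk⟩ := exists_ge_ge i l
      show Ring.DirectLimit.of G (fun i j h => f i j h) i (algebraMap A (G i) a) =
        Ring.DirectLimit.of G (fun i j h => f i j h) l (algebraMap A (G l) a)
      rw [← Ring.DirectLimit.of_f hik, ← Ring.DirectLimit.of_f hlk]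
      congr 1
      exact ((RingHom.congr_fun (hf i k hik) a).trans (RingHom.congr_fun (hf l k hlk) a).symm)
  have S : GrothLib.RingStage.IsStage A G (Ring.DirectLimit G (fun i j h => f i j h)) g :=
    GrothLib.RingStage.isStage_of_directed A G _ g
      (fun i j h => AlgHom.mk (f i j h) (RingHom.congr_fun (hf i j h)))
      (fun i j h => AlgHom.ext fun x => Ring.DirectLimit.of_f h x)
      (fun a => Ring.DirectLimit.exists_of a)
      (fun i x hx => by
        obtain ⟨j, h, h0⟩ := Ring.DirectLimit.of.zero_exact (f' := f) hx
        exact ⟨j, h, h0⟩)
  exact ⟨fun _ u u' h => S.map_eq B C u u' h, fun _ u h => S.map_surjective B C u h⟩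

end Groth.Agent.S9177
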