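import Groth.Statements.S9178
import Mathlib
-- import your own Groth.Agent.* helpers here

set_option autoImplicit false
universe u
open CAlg

namespace Groth.Agent.S9178

/-- For ring maps A → B → C with A → C surjective, writing I = ker(A → C) and J = ker(B → C), the
sequence I/I² → J/J² → C ⊗_B Ω_{B/A} → 0 is exact. Stated: the image of I/I² in J/J² is exactly the
kernel of J/J² → C ⊗_B Ω_{B/A} (surjectivity of the latter map is the standard conormal sequence for
the surjection B → C). -/
theorem result (A B C : Type u) [CommRing A] [CommRing B]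
    [CommRing C] [Algebra A B] [Algebra B C] [Algebra A C] [IsScalarTower A B C]
    (hAC : Function.Surjective (algebraMap A C))
    (h : RingHom.ker (algebraMap A C) ≤ (RingHom.ker (algebraMap B C)).comap (Algebra.ofId A B)) :
    Function.Exact
      (Ideal.mapCotangent (RingHom.ker (algebraMap A C)) (RingHom.ker (algebraMap B C)) (Algebra.ofId A B) h)
      (KaehlerDifferential.kerCotangentToTensor A B C) := by
  classical
  set I := RingHom.ker (algebraMap A C) with hIdef
  set J := RingHom.ker (algebraMap B C) with hJdef
  intro z
  constructor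
  · intro hz
    obtain ⟨x, rfl⟩ := J.toCotangent_surjective z
    rw [KaehlerDifferential.kerCotangentToTensor_toCotangent] at hz
    have hBC : Function.Surjective (algebraMap B C) := fun c => by
      obtain ⟨a, ha⟩ := hAC c
      exact ⟨algebraMap A B a, by rw [← IsScalarTower.algebraMap_apply, ha]⟩
    -- 1 ⊗ D x = 0 gives D x ∈ J Ω
    have hDx : KaehlerDifferential.D A B x.1 ∈ (J • ⊤ : Submodule B (Ω[B⁄A])) := by
      let e : (B ⧸ J) ≃ₐ[B] C := Ideal.quotientKerAlgEquivOfSurjective (f := Algebra.ofId B C) hBC
      have h1 := congrArg (TensorProduct.quotTensorEquivQuotSMul (Ω[B⁄A]) J)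
        (congrArg (LinearMap.rTensor (Ω[B⁄A]) e.symm.toLinearMap) hz)
      rw [map_zero, map_zero] at h1
      erw [LinearMap.rTensor_tmul] at h1
      rw [show e.symm.toLinearMap (1 : C) = 1 from map_one e.symm,
        TensorProduct.quotTensorEquivQuotSMul_mk_one_tmul] at h1
      exact (Submodule.Quotient.mk_eq_zero _).mp h1
    let N : Submodule B J.Cotangent :=
      Submodule.span B (Set.range (Ideal.mapCotangent I J (Algebra.ofId A B) h))
    have hNr : ∀ w ∈ N, w ∈ LinearMap.range (Ideal.mapCotangent I J (Algebra.ofId A B) h) := by
      intro w hw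
      induction hw using Submodule.span_induction with
      | mem w hw => exact hw
      | zero => exact Submodule.zero_mem _
      | add a b _ _ ha hb => exact Submodule.add_mem _ ha hb
      | smul b w _ hw =>
        obtain ⟨a, ha⟩ := hAC (algebraMap B C b)
        have : b • w = a • w := by
          rw [← algebraMap_smul B a w, ← sub_eq_zero, ← sub_smul]
          obtain ⟨v, rfl⟩ := J.toCotangent_surjective w
          rw [← map_smul, Ideal.toCotangent_eq_zero]
          show (b - algebraMap A B a) * v.1 ∈ J ^ 2
          rw [sq]
          refine Ideal.mul_mem_mul ?_ v.2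
          rw [RingHom.mem_ker, map_sub, ← IsScalarTower.algebraMap_apply, ha, sub_self]
        rw [this]
        exact Submodule.smul_mem _ a hw
    choose σ hσ using fun b : B => hAC (algebraMap B C b)
    have hσmem : ∀ b : B, b - algebraMap A B (σ b) ∈ J := fun b => by
      rw [RingHom.mem_ker, map_sub, ← IsScalarTower.algebraMap_apply, hσ, sub_self]
    let d : B → J.Cotangent ⧸ N := fun b => Submodule.Quotient.mk (J.toCotangent ⟨_, hσmem b⟩)
    have hd : ∀ (b : B) (a : A) (hb : b - algebraMap A B a ∈ J),
        d b = Submodule.Quotient.mk (J.toCotangent ⟨_, hb⟩) := by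
      intro b a hb
      rw [Submodule.Quotient.eq, ← map_sub]
      refine Submodule.subset_span ⟨I.toCotangent ⟨a - σ b, ?_⟩, ?_⟩
      · rw [RingHom.mem_ker, map_sub, hσ, sub_eq_zero]
        have := RingHom.mem_ker.mp hb
        rw [map_sub, ← IsScalarTower.algebraMap_apply, sub_eq_zero] at this
        exact this.symm
      · rw [Ideal.mapCotangent_toCotangent]
        congr 1
        ext
        show algebraMap A B (a - σ b) = (b - algebraMap A B (σ b)) - (b - algebraMap A B a)
        rw [map_sub]; ring
    have key : ∀ (b : B) (a : A), algebraMap A C a = algebraMap B C b → b - algebraMap A B a ∈ J :=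
      fun b a hba => by rw [RingHom.mem_ker, map_sub, ← IsScalarTower.algebraMap_apply, hba, sub_self]
    let dl : B →ₗ[A] J.Cotangent ⧸ N :=
      { toFun := d
        map_add' := fun b b' => by
          rw [hd (b + b') (σ b + σ b') (key _ _ (by rw [map_add, map_add, hσ, hσ]))]
          show _ = Submodule.Quotient.mk _ + Submodule.Quotient.mk _
          rw [← Submodule.Quotient.mk_add]
          refine congrArg Submodule.Quotient.mk ((congrArg J.toCotangent (Subtype.ext ?_)).trans (map_add J.toCotangent ⟨_, hσmem b⟩ ⟨_, hσmem b'⟩))
          show b + b' - algebraMap A B (σ b + σ b') = (b - _) + (b' - _)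
          rw [map_add]; ring
        map_smul' := fun a b => by
          rw [hd (a • b) (a * σ b) (key _ _ (by
            rw [map_mul, Algebra.smul_def, map_mul, hσ, ← IsScalarTower.algebraMap_apply]))]
          show _ = a • Submodule.Quotient.mk _
          rw [← Submodule.Quotient.mk_smul, ← algebraMap_smul B a (J.toCotangent _)]
          refine congrArg Submodule.Quotient.mk ((congrArg J.toCotangent (Subtype.ext ?_)).trans (map_smul J.toCotangent (algebraMap A B a) ⟨_, hσmem b⟩))
          show a • b - algebraMap A B (a * σ b) = algebraMap A B a * (b - _)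
          rw [Algebra.smul_def, map_mul]; ring }
    let D : Derivation A B (J.Cotangent ⧸ N) := Derivation.mk' dl (fun b b' => by
      show d (b * b') = b • d b' + b' • d b
      rw [hd (b * b') (σ b * σ b') (key _ _ (by rw [map_mul, map_mul, hσ, hσ]))]
      show _ = b • Submodule.Quotient.mk _ + b' • Submodule.Quotient.mk _
      rw [← Submodule.Quotient.mk_smul, ← Submodule.Quotient.mk_smul, ← Submodule.Quotient.mk_add]
      congr 1
      rw [← map_smul, ← map_smul, ← map_add, Ideal.toCotangent_eq]
      show (b * b' - algebraMap A B (σ b * σ b')) - (b * (b' - _) + b' * (b - _)) ∈ J ^ 2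
      have : (b * b' - algebraMap A B (σ b * σ b')) - (b * (b' - algebraMap A B (σ b')) +
          b' * (b - algebraMap A B (σ b))) = -((b - algebraMap A B (σ b)) * (b' - algebraMap A B (σ b'))) := by
        rw [map_mul]; ring
      rw [this, sq]
      exact neg_mem (Ideal.mul_mem_mul (hσmem b) (hσmem b')))
    have h2 : D.liftKaehlerDifferential (KaehlerDifferential.D A B x.1) = 0 := by
      refine Submodule.smul_induction_on (p := fun w => D.liftKaehlerDifferential w = 0) hDx ?_
        (fun u v hu hv => by rw [map_add, hu, hv, add_zero])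
      intro j hj w _
      rw [map_smul]
      obtain ⟨q, hq⟩ := Submodule.Quotient.mk_surjective _ (D.liftKaehlerDifferential w)
      obtain ⟨v, rfl⟩ := J.toCotangent_surjective q
      rw [← hq, ← Submodule.Quotient.mk_smul, ← map_smul]
      rw [(Ideal.toCotangent_eq_zero J (j • v)).mpr (by rw [sq]; exact Ideal.mul_mem_mul hj v.2)]
      rfl
    rw [Derivation.liftKaehlerDifferential_comp_D] at h2
    have h3 : d x.1 = 0 := h2
    rw [hd x.1 0 (by simp), Submodule.Quotient.mk_eq_zero] at h3
    obtain ⟨w, hw⟩ := hNr _ h3
    refine ⟨w, hw.trans ?_⟩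
    congr 1
    ext
    simp
  · rintro ⟨w, rfl⟩
    obtain ⟨x, rfl⟩ := I.toCotangent_surjective w
    rw [Ideal.mapCotangent_toCotangent, KaehlerDifferential.kerCotangentToTensor_toCotangent]
    show (1 : C) ⊗ₜ[B] KaehlerDifferential.D A B (algebraMap A B x.1) = 0
    rw [Derivation.map_algebraMap, TensorProduct.tmul_zero]

end Groth.Agent.S9178
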