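import Groth.Statements.S9180
import Groth.Agent.S2141
import Groth.Agent.Lib.CMMor6.Algebra
import Groth.Agent.Lib.AlgSp.FibreDimBC
import Groth.Agent.Lib.FlatOff.FibRing
-- import your own Groth.Agent.* helpers here

set_option autoImplicit false
universe u
open CAlg

namespace Groth.Agent.S9180

open TensorProduct in
/-- Let S be of finite type over a field k, K an extension field of k, S_K = S ⊗_k K, q a prime of S
whose residue field has transcendence degree r over k, and q_K a prime of S_K lying over q whose
residue field has transcendence degree r_K over K. Then the local ring at q_K of the fibre of S →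
S_K over q has dimension dim (S_K)_{q_K} − dim S_q = r − r_K (stated additively), and there is a
prime of S_K over q for which this dimension is zero. -/
theorem result (k S K : Type u) [Field k] [CommRing S] [Algebra k S]
    [Algebra.FiniteType k S] [Field K] [Algebra k K] (q : Ideal S) [q.IsPrime] (r : ℕ)
    (hr : Algebra.trdeg k q.ResidueField = r) (qK : Ideal (S ⊗[k] K)) [qK.IsPrime] [qK.LiesOver q]
    (rK : ℕ)
    (hrK : letI : Algebra K (S ⊗[k] K) := Algebra.TensorProduct.rightAlgebra
      Algebra.trdeg K qK.ResidueField = rK) :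
    ringKrullDim (EGA4.FibLocRing S (S ⊗[k] K) qK) + ringKrullDim (Localization.AtPrime q) =
        ringKrullDim (Localization.AtPrime qK) ∧
      ringKrullDim (EGA4.FibLocRing S (S ⊗[k] K) qK) + (rK : WithBot ℕ∞) = (r : WithBot ℕ∞) ∧
      ∃ (q' : Ideal (S ⊗[k] K)) (_ : q'.IsPrime), q'.LiesOver q ∧
        ringKrullDim (EGA4.FibLocRing S (S ⊗[k] K) q') = 0 := by
  letI : Algebra K (S ⊗[k] K) := Algebra.TensorProduct.rightAlgebra
  haveI : Algebra.FiniteType K (S ⊗[k] K) :=
    Algebra.FiniteType.equiv (inferInstance : Algebra.FiniteType K (K ⊗[k] S)) (Algebra.TensorProduct.commRight k K S)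
  haveI : IsNoetherianRing (S ⊗[k] K) := Algebra.FiniteType.isNoetherianRing K _
  haveI : IsNoetherianRing S := Algebra.FiniteType.isNoetherianRing k _
  have hqS : q = qK.comap (algebraMap S (S ⊗[k] K)) := qK.over_def q
  have hbc : FlatMor.localDim (PrimeSpectrum (S ⊗[k] K)) ⟨qK, inferInstance⟩ =
      FlatMor.localDim (PrimeSpectrum S) ⟨q, inferInstance⟩ := by
    haveI : AlgebraicGeometry.LocallyOfFiniteType (AlgebraicGeometry.Spec.map (CommRingCat.ofHom (algebraMap k S))) := by
      rw [AlgebraicGeometry.HasRingHomProperty.Spec_iff (P := @AlgebraicGeometry.LocallyOfFiniteType)]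
      exact RingHom.finiteType_algebraMap.2 inferInstance
    refine (GrothLib.AlgSp.localDim_of_field_bc (k := k) (Ω := K)
      (AlgebraicGeometry.Spec.map (CommRingCat.ofHom (algebraMap k S)))
      (AlgebraicGeometry.isPullback_SpecMap_of_isPushout _ _ _ _
        (CommRingCat.isPushout_tensorProduct k S K)) (⟨qK, inferInstance⟩ : PrimeSpectrum (S ⊗[k] K))).trans ?_
    exact congrArg (FlatMor.localDim (PrimeSpectrum S)) (PrimeSpectrum.ext hqS.symm)
  rw [Groth.Agent.S2141.result (k := K) qK rK hrK, Groth.Agent.S2141.result q r hr] at hbc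
  letI : Algebra (Localization.AtPrime q) (Localization.AtPrime qK) :=
    (Localization.localRingHom q qK (algebraMap S (S ⊗[k] K)) hqS).toAlgebra
  haveI : IsLocalHom (algebraMap (Localization.AtPrime q) (Localization.AtPrime qK)) :=
    Localization.isLocalHom_localRingHom _ _ _ hqS
  haveI : Module.Flat (Localization.AtPrime q) (Localization.AtPrime qK) :=
    RingHom.Flat.localRingHom (f := algebraMap S (S ⊗[k] K)) (RingHom.flat_algebraMap_iff.2 inferInstance) qK q hqS
  haveI : IsScalarTower S (Localization.AtPrime q) (Localization.AtPrime qK) :=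
    .of_algebraMap_eq fun x => (IsScalarTower.algebraMap_apply S (S ⊗[k] K) (Localization.AtPrime qK) x).trans
      (Localization.localRingHom_to_map _ _ _ hqS x).symm
  have hfib : (qK.comap (algebraMap S (S ⊗[k] K))).map (algebraMap S (Localization.AtPrime qK)) =
      (IsLocalRing.maximalIdeal (Localization.AtPrime q)).map
        (algebraMap (Localization.AtPrime q) (Localization.AtPrime qK)) := by
    rw [← Localization.AtPrime.map_eq_maximalIdeal, Ideal.map_map, ← IsScalarTower.algebraMap_eq, ← hqS]
  have hadd : ringKrullDim (Localization.AtPrime qK) = ringKrullDim (Localization.AtPrime q) +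
      ringKrullDim (EGA4.FibLocRing S (S ⊗[k] K) qK) := by
    rw [GrothLib.CMMor6.ringKrullDim_eq_add (A := Localization.AtPrime q) (B := Localization.AtPrime qK)]
    exact congrArg _ (ringKrullDim_eq_of_ringEquiv (Ideal.quotEquivOfEq hfib)).symm
  refine ⟨by rw [hadd, add_comm], ?_, ?_⟩
  · have nat : ∀ (A : Type u) [CommRing A] [IsLocalRing A] [IsNoetherianRing A], ∃ n : ℕ, ringKrullDim A = n := by
      intro A _ _ _
      obtain ⟨n, hn⟩ := ENat.ne_top_iff_exists.1
        (Ideal.height_ne_top (I := IsLocalRing.maximalIdeal A) (IsLocalRing.maximalIdeal.isMaximal A).ne_top)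
      exact ⟨n, by rw [← IsLocalRing.maximalIdeal_height_eq_ringKrullDim, ← hn]; rfl⟩
    haveI := GrothLib.FlatOff.isLocalRing_fibLocRing (A := S) qK
    obtain ⟨a, ha⟩ := nat (Localization.AtPrime q)
    obtain ⟨b, hb⟩ := nat (EGA4.FibLocRing S (S ⊗[k] K) qK)
    rw [hadd, ha, hb] at hbc
    rw [hb]
    norm_cast at hbc ⊢
    omega
  · have hle : q.map (algebraMap S (S ⊗[k] K)) ≤ qK := Ideal.map_le_iff_le_comap.2 hqS.le
    obtain ⟨P, hP, hPle⟩ := Ideal.exists_minimalPrimes_le hle
    haveI := hP.1.1
    have hPq : q = P.comap (algebraMap S (S ⊗[k] K)) :=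
      le_antisymm (Ideal.map_le_iff_le_comap.1 hP.1.2) ((Ideal.comap_mono hPle).trans hqS.ge)
    refine ⟨P, inferInstance, ⟨hPq⟩, ?_⟩
    haveI := GrothLib.FlatOff.isLocalRing_fibLocRing (A := S) P
    haveI : Ring.KrullDimLE 0 (EGA4.FibLocRing S (S ⊗[k] K) P) := by
      refine Ring.krullDimLE_zero_iff.2 fun J hJ => ?_
      have h1 : IsLocalRing.maximalIdeal (Localization.AtPrime P) ≤ J.comap (Ideal.Quotient.mk _) := by
        rw [← Localization.AtPrime.map_eq_maximalIdeal,
          ← IsLocalization.AtPrime.radical_map_of_mem_minimalPrimes (A := Localization.AtPrime P) P _ hP,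
          (hJ.comap (Ideal.Quotient.mk _)).isRadical.radical_le_iff, Ideal.map_map, ← IsScalarTower.algebraMap_eq]
        refine le_trans (le_of_eq ?_) (Ideal.mk_ker.ge.trans (Ideal.comap_mono (f := Ideal.Quotient.mk _) bot_le))
        rw [← hPq]
      have h2 : J.comap (Ideal.Quotient.mk _) = IsLocalRing.maximalIdeal (Localization.AtPrime P) :=
        le_antisymm (IsLocalRing.le_maximalIdeal (hJ.comap (Ideal.Quotient.mk _)).ne_top) h1
      rw [← Ideal.map_comap_of_surjective _ Ideal.Quotient.mk_surjective J, h2,
        IsLocalRing.map_maximalIdeal_of_surjective _ Ideal.Quotient.mk_surjective]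
      infer_instance
    exact ringKrullDimZero_iff_ringKrullDim_eq_zero.1 inferInstance

end Groth.Agent.S9180
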