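import Groth.Statements.S9181
import Groth.Agent.Lib.FibreDimRing.Prescribed

set_option autoImplicit false
universe u
open CAlg

namespace Groth.Agent.S9181

open scoped TensorProduct



/-- Let R → S be of finite type, q a prime of S over p, Q the prime of κ(p) ⊗ S over q, with the fibre
of local dimension n at Q and κ(q) of transcendence degree r over κ(p). Then for some f ∉ p and g ∉
q there is an R-algebra map φ : R_f[x_1, …, x_n] → S_g, of finite type and quasi-finite, such that
the inverse image of q S_g under φ is the ideal generated by p and the variables x_{r+1}, …, x_n. -/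
theorem result (R S : Type u) [CommRing R] [CommRing S]
    [Algebra R S] [Algebra.FiniteType R S] (p : Ideal R) [p.IsPrime] (q : Ideal S) [q.IsPrime] [q.LiesOver p]
    [Algebra (Localization.AtPrime p) (Localization.AtPrime q)]
    [Localization.AtPrime.IsLiesOverAlgebra p q] (Q : PrimeSpectrum (p.Fiber S))
    (hQ : Q.asIdeal.comap (Algebra.TensorProduct.includeRight.toRingHom) = q) (n r : ℕ)
    (hdim : FlatMor.localDim (PrimeSpectrum (p.Fiber S)) Q = (n : WithBot ℕ∞))
    (hr : Algebra.trdeg p.ResidueField q.ResidueField = r) :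
    ∃ (f : R) (g : S), f ∉ p ∧ g ∉ q ∧
      ∃ φ : MvPolynomial (Fin n) (Localization.Away f) →ₐ[R] Localization.Away g,
        φ.toRingHom.FiniteType ∧ φ.toRingHom.QuasiFinite ∧
        (q.map (algebraMap S (Localization.Away g))).comap φ =
          p.map (algebraMap R (MvPolynomial (Fin n) (Localization.Away f))) ⊔
            Ideal.span (Set.range fun i : {i : Fin n // r ≤ (i : ℕ)} =>
              (MvPolynomial.X (i : Fin n) : MvPolynomial (Fin n) (Localization.Away f))) := by
  classical
  obtain ⟨a, ha, hdimT⟩ :=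
    GrothLib.FibreDimRing.exists_away_fiber_dim_le ⟨p, inferInstance⟩ Q (n : WithBot ℕ∞) hdim.le
  rw [hQ] at ha
  let T := Localization.Away a
  have hdisj : Disjoint (Submonoid.powers a : Set S) (q : Set S) := by
    rw [Set.disjoint_left]
    rintro x ⟨l, rfl⟩ hx
    exact ha (Ideal.IsPrime.mem_of_pow_mem ‹_› l hx)
  let q' : PrimeSpectrum T :=
    ⟨q.map (algebraMap S T), IsLocalization.isPrime_of_isPrime_disjoint (Submonoid.powers a) T q ‹_› hdisj⟩
  have hq' : q'.asIdeal.comap (algebraMap S T) = q :=
    IsLocalization.under_map_of_isPrime_disjoint (Submonoid.powers a) T ‹_› hdisj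
  have hp : q'.asIdeal.comap (algebraMap R T) = p := by
    rw [IsScalarTower.algebraMap_eq R S T, ← Ideal.comap_comap, hq']
    exact (q.over_def p).symm
  let L := q.ResidueField
  haveI : IsScalarTower R p.ResidueField L := inferInstance
  have hua : IsUnit (algebraMap S L a) :=
    IsUnit.mk0 _ fun h => ha (Ideal.algebraMap_residueField_eq_zero.1 h)
  let ψ₀ : T →+* L := IsLocalization.Away.lift a (g := algebraMap S L) hua
  have hψ₀ : ∀ x, ψ₀ (algebraMap S T x) = algebraMap S L x := fun x => IsLocalization.Away.lift_eq a hua x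
  let ψ : T →ₐ[R] L :=
    { ψ₀ with
      commutes' := fun c =>
        ((congrArg ψ₀ (IsScalarTower.algebraMap_apply R S T c)).trans (hψ₀ _)).trans
          (IsScalarTower.algebraMap_apply R S L c).symm }
  let Θ : p.Fiber T →ₐ[p.ResidueField] L :=
    Algebra.TensorProduct.lift (Algebra.ofId p.ResidueField L) ψ (fun _ _ => Commute.all _ _)
  have hΘ1 : ∀ x, Θ ((1 : p.ResidueField) ⊗ₜ[R] x) = ψ x := fun x => by simp [Θ]
  have hΘ : (RingHom.ker Θ).comap (Algebra.TensorProduct.includeRight (R := R) (A := p.ResidueField)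
      (B := T)).toRingHom = q'.asIdeal := by
    rw [← IsLocalization.map_under (Submonoid.powers a) T
      ((RingHom.ker Θ).comap (Algebra.TensorProduct.includeRight (R := R) (A := p.ResidueField)
        (B := T)).toRingHom)]
    show _ = q.map (algebraMap S T)
    congr 1
    ext x
    show Θ ((1 : p.ResidueField) ⊗ₜ[R] algebraMap S T x) = 0 ↔ x ∈ q
    rw [hΘ1]
    show ψ₀ (algebraMap S T x) = 0 ↔ _
    rw [hψ₀, Ideal.algebraMap_residueField_eq_zero]
  have hfrac : ∀ z : L, ∃ x y, z = Θ x / Θ y := by
    intro z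
    obtain ⟨x, y, -, hz⟩ := IsFractionRing.div_surjective (A := S ⧸ q) z
    obtain ⟨x, rfl⟩ := Ideal.Quotient.mk_surjective x
    obtain ⟨y, rfl⟩ := Ideal.Quotient.mk_surjective y
    refine ⟨1 ⊗ₜ[R] algebraMap S T x, 1 ⊗ₜ[R] algebraMap S T y, ?_⟩
    rw [hΘ1, hΘ1]
    show z = ψ₀ _ / ψ₀ _
    rw [hψ₀, hψ₀, ← hz, IsScalarTower.algebraMap_apply S (S ⧸ q) L,
      IsScalarTower.algebraMap_apply S (S ⧸ q) L]
    rfl
  obtain ⟨r', hr', b, ⟨s, hs, hqf⟩, hcomap⟩ :=
    GrothLib.FibreDimRing.exists_prescribed q' p hp n hdimT Θ hΘ hfrac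
  obtain rfl : r' = r := Nat.cast_injective (R := Cardinal.{u}) (hr'.symm.trans hr)
  obtain ⟨l, r₀, hr₀⟩ := IsLocalization.Away.surj a s
  have hassoc : Associated s (algebraMap S T r₀) :=
    ⟨((IsLocalization.Away.algebraMap_isUnit (S := T) a).pow l).unit, hr₀⟩
  haveI := IsLocalization.Away.mul_of_associated (R := S) (S := T) (T := Localization.Away s) a r₀ s
    hassoc.symm
  have hg : a * r₀ ∉ q := fun hmem => by
    rcases Ideal.IsPrime.mem_or_mem ‹_› hmem with h | h
    · exact ha h
    · have h1 : algebraMap S T r₀ ∈ q'.asIdeal := Ideal.mem_map_of_mem _ h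
      rw [← hr₀] at h1
      exact (q'.isPrime.mem_or_mem h1).elim hs fun h2 =>
        ha (hq' ▸ Ideal.mem_comap.2 (q'.isPrime.mem_of_pow_mem l h2))
  let G := Localization.Away (a * r₀)
  let e : Localization.Away s ≃ₐ[R] G :=
    ((IsLocalization.algEquiv (Submonoid.powers (a * r₀)) (Localization.Away s) G).restrictScalars R)
  let φ₀ : MvPolynomial (Fin n) R →ₐ[R] G :=
    e.toAlgHom.comp ((IsScalarTower.toAlgHom R T (Localization.Away s)).comp (MvPolynomial.aeval b))
  have hqf₀ : φ₀.toRingHom.QuasiFinite :=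
    RingHom.QuasiFinite.comp (RingHom.QuasiFinite.of_finite (RingHom.Finite.of_surjective _ e.surjective)) hqf
  have hcomap₀ : (q.map (algebraMap S G)).comap φ₀ =
      p.map (algebraMap R (MvPolynomial (Fin n) R)) ⊔
        Ideal.span (Set.range fun i : {i : Fin n // r' ≤ (i : ℕ)} =>
          (MvPolynomial.X (i : Fin n) : MvPolynomial (Fin n) R)) := by
    rw [← hcomap]
    have hdisj' : Disjoint (Submonoid.powers (a * r₀) : Set S) (q : Set S) := by
      rw [Set.disjoint_left]
      rintro x ⟨i, rfl⟩ hx
      exact hg (Ideal.IsPrime.mem_of_pow_mem ‹_› i hx)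
    have hT : (q.map (algebraMap S G)).comap
        (e.toAlgHom.comp (IsScalarTower.toAlgHom R T (Localization.Away s))) = q'.asIdeal := by
      rw [← IsLocalization.map_under (Submonoid.powers a) T ((q.map (algebraMap S G)).comap
        (e.toAlgHom.comp (IsScalarTower.toAlgHom R T (Localization.Away s))))]
      show _ = q.map (algebraMap S T)
      congr 1
      ext x
      show e (algebraMap T (Localization.Away s) (algebraMap S T x)) ∈ q.map (algebraMap S G) ↔ x ∈ q
      rw [← IsScalarTower.algebraMap_apply S T (Localization.Away s)]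
      show (IsLocalization.algEquiv (Submonoid.powers (a * r₀)) (Localization.Away s) G)
        (algebraMap S _ x) ∈ _ ↔ _
      rw [AlgEquiv.commutes]
      exact SetLike.ext_iff.1
        (IsLocalization.under_map_of_isPrime_disjoint (Submonoid.powers (a * r₀)) G ‹_› hdisj') x
    ext F
    exact SetLike.ext_iff.1 hT (MvPolynomial.aeval b F)
  let E : MvPolynomial (Fin n) R ≃ₐ[R] MvPolynomial (Fin n) (Localization.Away (1 : R)) :=
    MvPolynomial.mapAlgEquiv (Fin n)
      (IsLocalization.atUnit R (Localization.Away (1 : R)) 1 isUnit_one)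
  refine ⟨1, a * r₀, (Ideal.ne_top_iff_one p).1 Ideal.IsPrime.ne_top', hg,
    φ₀.comp E.symm.toAlgHom, ?_, ?_, ?_⟩
  · refine RingHom.FiniteType.of_comp_finiteType
      (f := algebraMap R (MvPolynomial (Fin n) (Localization.Away (1 : R)))) ?_
    rw [AlgHom.toRingHom_eq_coe, AlgHom.comp_algebraMap]
    exact RingHom.finiteType_algebraMap.2 inferInstance
  · exact RingHom.QuasiFinite.comp hqf₀
      (RingHom.QuasiFinite.of_finite (RingHom.Finite.of_surjective _ E.symm.surjective))
  · have h1 : (q.map (algebraMap S G)).comap (φ₀.comp E.symm.toAlgHom) =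
        ((q.map (algebraMap S G)).comap φ₀).map E.toAlgHom.toRingHom := by
      ext x
      rw [Ideal.mem_map_iff_of_surjective E.toAlgHom.toRingHom E.surjective]
      constructor
      · intro h
        exact ⟨E.symm x, h, E.apply_symm_apply x⟩
      · rintro ⟨y, hy, rfl⟩
        show φ₀ (E.symm (E y)) ∈ q.map (algebraMap S G)
        rw [E.symm_apply_apply]
        exact hy
    rw [h1, hcomap₀, Ideal.map_sup, Ideal.map_map, Ideal.map_span, ← Set.range_comp]
    congr 1
    · congr 1
      exact E.toAlgHom.comp_algebraMap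
    · congr 2
      funext i
      show E (MvPolynomial.X (i : Fin n)) = _
      simp [E]

end Groth.Agent.S9181
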