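import Groth.Statements.S9182
import Groth.Agent.Lib.CotSchanuel.Basic
-- import your own Groth.Agent.* helpers here

set_option autoImplicit false
universe u
open CAlg

namespace Groth.Agent.S9182

set_option backward.isDefEq.respectTransparency false in
/-- For presentations α : R[x_1, …, x_n] → S and β : R[y_1, …, y_m] → S_g (g ∈ S) with kernels I and J,
the S_g-modules (I/I²)_g ⊕ S_g^m and J/J² ⊕ S_g^n are isomorphic. -/
theorem result (R S : Type u) [CommRing R] [CommRing S] [Algebra R S]
    (g : S) (n m : ℕ) (α : MvPolynomial (Fin n) R →ₐ[R] S) (hα : Function.Surjective α)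
    (β : MvPolynomial (Fin m) R →ₐ[R] Localization.Away g) (hβ : Function.Surjective β) :
    Nonempty ((LocalizedModule (Submonoid.powers g) (Algebra.Extension.ofSurjective α hα).Cotangent ×
        (Fin m → Localization.Away g)) ≃ₗ[Localization.Away g]
      ((Algebra.Extension.ofSurjective β hβ).Cotangent × (Fin n → Localization.Away g))) := by
  let P : Algebra.Extension R S := Algebra.Extension.ofSurjective α hα
  let M : Submonoid S := Submonoid.powers g
  let M' : Submonoid P.Ring := M.comap (algebraMap P.Ring S)
  let fQ : Localization M' →ₐ[R] Localization.Away g := IsLocalization.liftAlgHom (M := M')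
    (f := (IsScalarTower.toAlgHom R S (Localization.Away g)).comp (IsScalarTower.toAlgHom R P.Ring S)) (fun ⟨y, hy⟩ ↦
    by simpa using IsLocalization.map_units (Localization.Away g) (⟨algebraMap P.Ring S y, hy⟩ : M))
  let Q : Algebra.Extension R (Localization.Away g) := .ofSurjective fQ (by
    intro x
    obtain ⟨x, ⟨s, hs⟩, rfl⟩ := IsLocalization.exists_mk'_eq M x
    obtain ⟨x, rfl⟩ := P.algebraMap_surjective x
    obtain ⟨s, rfl⟩ := P.algebraMap_surjective s
    refine ⟨IsLocalization.mk' _ x ⟨s, show s ∈ M' from hs⟩, ?_⟩
    simp only [fQ, IsLocalization.coe_liftAlgHom, AlgHom.toRingHom_eq_coe]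
    rw [IsLocalization.lift_mk'_spec]
    simp)
  let f : P.Hom Q :=
  { toRingHom := algebraMap P.Ring (Localization M')
    toRingHom_algebraMap x := (IsScalarTower.algebraMap_apply R P.Ring (Localization M') _).symm
    algebraMap_toRingHom x := @IsLocalization.lift_eq .. }
  haveI : Algebra.FormallySmooth R P.Ring := inferInstanceAs (Algebra.FormallySmooth R (MvPolynomial (Fin n) R))
  haveI : Algebra.FormallySmooth P.Ring (Localization M') := .of_isLocalization M'
  haveI : Algebra.FormallySmooth R Q.Ring := .comp R P.Ring (Localization M')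
  haveI : Algebra.FormallySmooth R (Algebra.Extension.ofSurjective β hβ).Ring :=
    inferInstanceAs (Algebra.FormallySmooth R (MvPolynomial (Fin m) R))
  letI : Algebra P.Ring Q.Ring := (inferInstance : Algebra P.Ring (Localization M'))
  letI := fQ.toRingHom.toAlgebra
  haveI : IsScalarTower P.Ring (Localization M') (Localization.Away g) :=
    .of_algebraMap_eq fun r ↦ (f.algebraMap_toRingHom r).symm
  haveI : IsLocalizedModule M' (IsScalarTower.toAlgHom P.Ring S (Localization.Away g)).toLinearMap := by
    rw [isLocalizedModule_iff_isLocalization]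
    convert! (inferInstance : IsLocalization M (Localization.Away g)) using 1
    exact Submonoid.map_comap_eq_of_surjective P.algebraMap_surjective _
  have H1 : f.toRingHom.FormallyEtale :=
    RingHom.formallyEtale_algebraMap.mpr
      (Algebra.FormallyEtale.of_isLocalization (M := M') (Rₘ := Localization M'))
  have H2 : Function.Bijective ((f.mapKer rfl).liftBaseChange Q.Ring) := by
    let F : P.ker →ₗ[P.Ring] RingHom.ker fQ := f.mapKer rfl
    refine (isLocalizedModule_iff_isBaseChange M' (Localization M') F).mp ?_
    have : (LinearMap.ker <| Algebra.linearMap P.Ring S).localized' (Localization M') M'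
        (Algebra.linearMap P.Ring (Localization M')) = RingHom.ker fQ := by
      rw [LinearMap.localized'_ker_eq_ker_localizedMap (Localization M') M'
        (Algebra.linearMap P.Ring (Localization M'))
        (f' := (IsScalarTower.toAlgHom P.Ring S (Localization.Away g)).toLinearMap)]
      ext x
      obtain ⟨x, ⟨s, hs⟩, rfl⟩ := IsLocalization.exists_mk'_eq M' x
      simp only [LinearMap.mem_ker, LinearMap.extendScalarsOfIsLocalization_apply', RingHom.mem_ker,
        IsLocalization.coe_liftAlgHom, AlgHom.toRingHom_eq_coe, IsLocalization.lift_mk'_spec,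
        RingHom.coe_coe, AlgHom.coe_comp, IsScalarTower.coe_toAlgHom', Function.comp_apply,
        mul_zero, fQ]
      have : IsLocalization.mk' (Localization M') x ⟨s, hs⟩ =
          IsLocalizedModule.mk' (Algebra.linearMap P.Ring (Localization M')) x ⟨s, hs⟩ := by
        rw [IsLocalization.mk'_eq_iff_eq_mul, mul_comm, ← Algebra.smul_def, ← Submonoid.smul_def,
          IsLocalizedModule.mk'_cancel']
        rfl
      simp [this, ← IsScalarTower.algebraMap_apply]
    have : F = ((LinearEquiv.ofEq _ _ this).restrictScalars P.Ring).toLinearMap ∘ₗ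
      P.ker.toLocalized' (Localization M') M' (Algebra.linearMap P.Ring (Localization M')) := by
      ext; rfl
    rw [this]
    exact IsLocalizedModule.of_linearEquiv _ _ _
  let eC : LocalizedModule M P.Cotangent ≃ₗ[Localization.Away g] Q.Cotangent :=
    (LocalizedModule.equivTensorProduct M P.Cotangent) ≪≫ₗ Algebra.Extension.tensorCotangent f rfl H2
  let eS : (Fin n → Localization.Away g) ≃ₗ[Localization.Away g] Q.CotangentSpace :=
    (TensorProduct.piScalarRight S (Localization.Away g) (Localization.Away g) (Fin n)).symm ≪≫ₗ
      (GrothLib.CotSchanuel.cotangentSpaceEquivPi α hα).symm.baseChange S (Localization.Away g) ≪≫ₗ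
      Algebra.Extension.tensorCotangentSpaceOfFormallyEtale f H1
  obtain ⟨e⟩ := GrothLib.CotSchanuel.nonempty_cotangent_prod_equiv Q (Algebra.Extension.ofSurjective β hβ)
  exact ⟨(eC.prodCongr (GrothLib.CotSchanuel.cotangentSpaceEquivPi β hβ).symm) ≪≫ₗ e ≪≫ₗ
    ((LinearEquiv.refl _ _).prodCongr eS.symm)⟩

end Groth.Agent.S9182
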