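import Groth.Statements.S9185
import Mathlib
-- import your own Groth.Agent.* helpers here

set_option autoImplicit false
universe u
open Diff16

namespace Groth.Agent.S9185

open TensorProduct

section Aux
variable (R S : Type u) [CommRing R] [CommRing S] [Algebra R S] (M : Type u) [AddCommGroup M] [Module R M]
  [Module S M] [IsScalarTower R S M] (N : Type u) [AddCommGroup N] [Module R N] [Module S N] [IsScalarTower R S N]

/-- Iterated commutators. -/
noncomputable def iter : List S → (M →ₗ[R] N) → (M →ₗ[R] N)
  | [], D => D
  | b :: l, D => iter l (Diff16.commutator R S M N D b)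

variable {R S M N}

theorem isDiffOpLE_iff : ∀ (k : ℕ) (D : M →ₗ[R] N),
    Diff16.IsDiffOpLE R S M N k D ↔ ∀ l : List S, l.length = k + 1 → iter R S M N l D = 0
  | 0, D => by
    constructor
    · intro h l hl
      obtain ⟨b, rfl⟩ := List.length_eq_one_iff.mp hl
      ext m
      show D (b • m) - b • D m = 0
      rw [h b m, sub_self]
    · intro h b m
      have h2 : D (b • m) - b • D m = 0 := LinearMap.congr_fun (h [b] rfl) m
      exact sub_eq_zero.mp h2
  | k + 1, D => by
    constructor
    · intro h l hl
      match l, hl with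
      | b :: l, hl => exact (isDiffOpLE_iff k _).mp (h b) l (Nat.succ.inj hl)
    · intro h b
      exact (isDiffOpLE_iff k _).mpr fun l hl => h (b :: l) (by rw [List.length_cons, hl])

variable {N' : Type u} [AddCommGroup N'] [Module R N'] [Module S N'] [IsScalarTower R S N']

theorem iter_comp (α : N →ₗ[S] N') : ∀ (l : List S) (D : M →ₗ[R] N),
    iter R S M N' l (α.restrictScalars R ∘ₗ D) = α.restrictScalars R ∘ₗ iter R S M N l D
  | [], D => rfl
  | b :: l, D => by
    show iter R S M N' l _ = α.restrictScalars R ∘ₗ iter R S M N l _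
    rw [← iter_comp α l]
    congr 1
    ext m
    show α (D (b • m)) - b • α (D m) = α (D (b • m) - b • D m)
    rw [map_sub, α.map_smul]

end Aux

/-- For a ring map R → S, an S-module M and k ≥ 0 there is an S-module P together with a differential
operator D : M → P of order at most k (relative to R → S) such that every differential operator of
order at most k from M to an S-module N is α ∘ D for a unique S-linear map α : P → N; that is,
differential operators of order ≤ k out of M are represented by P. (Target modules N are taken in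
the same universe.) -/
theorem result (R S : Type u) [CommRing R] [CommRing S] [Algebra R S] (M : Type u)
    [AddCommGroup M] [Module S M] [Module R M] [IsScalarTower R S M] (k : ℕ) :
    ∃ (P : Type u) (_ : AddCommGroup P) (_ : Module S P) (_ : Module R P) (_ : IsScalarTower R S P)
      (D : M →ₗ[R] P), Diff16.IsDiffOpLE R S M P k D ∧
        ∀ (N : Type u) [AddCommGroup N] [Module S N] [Module R N] [IsScalarTower R S N] (D' : M →ₗ[R] N),
          Diff16.IsDiffOpLE R S M N k D' → ∃! α : P →ₗ[S] N, α.restrictScalars R ∘ₗ D = D' := by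
  classical
  let D0 : M →ₗ[R] S ⊗[R] M := (TensorProduct.mk R S M) 1
  let Rel : Submodule S (S ⊗[R] M) :=
    Submodule.span S {x | ∃ (l : List S) (m : M), l.length = k + 1 ∧ iter R S M (S ⊗[R] M) l D0 m = x}
  let q : S ⊗[R] M →ₗ[S] (S ⊗[R] M) ⧸ Rel := Rel.mkQ
  refine ⟨(S ⊗[R] M) ⧸ Rel, inferInstance, inferInstance, inferInstance, inferInstance,
    q.restrictScalars R ∘ₗ D0, ?_, ?_⟩
  · rw [isDiffOpLE_iff]
    intro l hl
    rw [iter_comp]
    ext m
    exact (Submodule.Quotient.mk_eq_zero Rel).mpr (Submodule.subset_span ⟨l, m, hl, rfl⟩)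
  · intro N _ _ _ _ D' hD'
    let α0 : S ⊗[R] M →ₗ[S] N := D'.liftBaseChange S
    have hα0 : α0.restrictScalars R ∘ₗ D0 = D' := by
      ext m
      simp [α0, D0]
    have hRel : Rel ≤ LinearMap.ker α0 := by
      rw [Submodule.span_le]
      rintro _ ⟨l, m, hl, rfl⟩
      show α0 (iter R S M (S ⊗[R] M) l D0 m) = 0
      have := LinearMap.congr_fun (iter_comp (N := S ⊗[R] M) (N' := N) α0 l D0) m
      rw [hα0, (isDiffOpLE_iff k D').mp hD' l hl] at this
      exact this.symm
    refine ⟨Rel.liftQ α0 hRel, ?_, ?_⟩
    · ext m
      exact LinearMap.congr_fun hα0 m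
    · intro β hβ
      apply Submodule.linearMap_qext
      ext m
      have := LinearMap.congr_fun hβ m
      simp only [LinearMap.comp_apply, LinearMap.restrictScalars_apply] at this
      show β (q (1 ⊗ₜ[R] m)) = α0 (1 ⊗ₜ[R] m)
      rw [show β (q (1 ⊗ₜ[R] m)) = D' m from this]
      simp [α0]

end Groth.Agent.S9185
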