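import Groth.Statements.S9195
import Groth.Agent.Lib.AbsApprox.EventualDim

set_option autoImplicit false
universe u
open CategoryTheory AlgebraicGeometry
open Lim

namespace Groth.Agent.S9195

/-- Let S = lim S_i be a cofiltered limit of schemes with affine transition morphisms, S_{i₀} a
quasi-compact quasi-separated stage, f₀ : X₀ → Y₀ a morphism of quasi-compact quasi-separated
schemes over S_{i₀}, and f : X → Y its base change along S → S_{i₀} (base changes expressed by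
pullback squares). Let d be a natural number. If f₀ is locally of finite type and f has relative
dimension at most d (every fibre of f has local dimension at most d at each of its points), then for
some index i over i₀ the base change f_i : X_i → Y_i of f₀ along S_i → S_{i₀} has relative dimension
at most d. -/
theorem result {I : Type u} [SmallCategory I] [IsCofiltered I]
    (D : I ⥤ Scheme.{u}) (c : Limits.Cone D) (hc : Limits.IsLimit c)
    [∀ (i j : I) (f : i ⟶ j), IsAffineHom (D.map f)] (i₀ : I) [CompactSpace (D.obj i₀)]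
    [QuasiSeparatedSpace (D.obj i₀)] {X₀ Y₀ : Scheme.{u}} (f₀ : X₀ ⟶ Y₀) (g₀ : Y₀ ⟶ D.obj i₀)
    [CompactSpace X₀] [QuasiSeparatedSpace X₀] [CompactSpace Y₀] [QuasiSeparatedSpace Y₀]
    [LocallyOfFiniteType f₀] (d : ℕ)
    {X Y : Scheme.{u}} (f : X ⟶ Y) (g : Y ⟶ c.pt) (qY : Y ⟶ Y₀) (qX : X ⟶ X₀)
    (hY : IsPullback qY g g₀ (c.π.app i₀)) (hX : IsPullback qX f f₀ qY) (hd : ∀ x : X, FlatMor.fibreDimAt f x ≤ d) :
    ∃ (i : I) (φ : i ⟶ i₀) (Xi Yi : Scheme.{u}) (fi : Xi ⟶ Yi) (gi : Yi ⟶ D.obj i) (pY : Yi ⟶ Y₀)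
      (pX : Xi ⟶ X₀), IsPullback pY gi g₀ (D.map φ) ∧ IsPullback pX fi f₀ pY ∧ ∀ x : Xi, FlatMor.fibreDimAt fi x ≤ d := by
  let a' := f₀ ≫ g₀
  let G := GrothLib.LimDesc.diag D i₀ a'
  let cG := GrothLib.LimDesc.cone D i₀ a' (hX.paste_vert hY)
  have hG : Limits.IsLimit cG := GrothLib.LimDesc.isLimitCone D i₀ a' (hX.paste_vert hY) hc
  let N := GrothLib.LimDesc.mapNat D i₀ g₀ a' f₀ rfl
  haveI : ∀ j, LocallyOfFiniteType (N.app j) := fun j => MorphismProperty.of_isPullback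
    (P := @LocallyOfFiniteType) (GrothLib.LimDesc.isPullback_mapNat D i₀ g₀ a' f₀ rfl j) inferInstance
  haveI : ∀ (j k : Over i₀) (φ : j ⟶ k), IsAffineHom (G.map φ) := fun j k φ =>
    GrothLib.LimDesc.isAffineHom_map D i₀ a' φ
  haveI : ∀ j, CompactSpace ↥(G.obj j) := fun j => GrothLib.LimDesc.compactSpace_obj D i₀ a' j
  obtain ⟨j, hj⟩ := GrothLib.AbsApprox.exists_fibreDimAt_le G cG hG _ (fun j => N.app j) d
    (fun j k φ x => (GrothLib.AlgSp.fibreDimAt_of_isPullback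
      (GrothLib.LimDesc.isPullback_mapNat_map D i₀ g₀ a' f₀ rfl φ) x).le)
    (fun x => ⟨Over.mk (𝟙 i₀), by
      have h := GrothLib.LimDesc.isPullback_π D i₀ g₀ a' hY f₀ rfl (hX.paste_vert hY) f hX.w.symm rfl (Over.mk (𝟙 i₀))
      exact (GrothLib.AlgSp.fibreDimAt_of_isPullback h x).symm.trans_le (hd x)⟩)
  exact GrothLib.LimDesc.exists_stage D i₀ f₀ g₀
    (fun {A B} (h : A ⟶ B) => ∀ x, FlatMor.fibreDimAt h x ≤ (d : WithBot ℕ∞)) ⟨j, hj⟩

end Groth.Agent.S9195
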