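import Groth.Statements.S9196
import Groth.Agent.Lib.LimDesc.Finite
import Groth.Agent.Lib.LimDesc.Inj
import Groth.Agent.Lib.LimDesc.Single
import Groth.Agent.Lib.Equidim6.RelDim
import Groth.Agent.Lib.Equidim6.Retro
import Groth.Agent.Lib.AlgSp.FibreDimBC
import Groth.Agent.Lib.AlgSp.FibreDimZero
-- import your own Groth.Agent.* helpers here

set_option autoImplicit false
universe u
open CategoryTheory AlgebraicGeometry
open Lim

namespace Groth.Agent.S9196

/-- Let S = lim S_i be a cofiltered limit of schemes with affine transition morphisms, S_{i₀} a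
quasi-compact quasi-separated stage, f₀ : X₀ → Y₀ a morphism of quasi-compact quasi-separated
schemes over S_{i₀}, and f : X → Y its base change along S → S_{i₀} (base changes expressed by
pullback squares). Let d be a natural number. If f₀ is locally of finite presentation and f has
relative dimension d (every irreducible component of every fibre of f has dimension d), then for
some index i over i₀ the base change f_i : X_i → Y_i of f₀ along S_i → S_{i₀} has relative dimension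
d. -/
theorem result {I : Type u} [SmallCategory I] [IsCofiltered I]
    (D : I ⥤ Scheme.{u}) (c : Limits.Cone D) (hc : Limits.IsLimit c)
    [∀ (i j : I) (f : i ⟶ j), IsAffineHom (D.map f)] (i₀ : I) [CompactSpace (D.obj i₀)]
    [QuasiSeparatedSpace (D.obj i₀)] {X₀ Y₀ : Scheme.{u}} (f₀ : X₀ ⟶ Y₀) (g₀ : Y₀ ⟶ D.obj i₀)
    [CompactSpace X₀] [QuasiSeparatedSpace X₀] [CompactSpace Y₀] [QuasiSeparatedSpace Y₀]
    [LocallyOfFinitePresentation f₀] (d : ℕ)
    {X Y : Scheme.{u}} (f : X ⟶ Y) (g : Y ⟶ c.pt) (qY : Y ⟶ Y₀) (qX : X ⟶ X₀)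
    (hY : IsPullback qY g g₀ (c.π.app i₀)) (hX : IsPullback qX f f₀ qY) (hd : Cyc.HasRelDim f d) :
    ∃ (i : I) (φ : i ⟶ i₀) (Xi Yi : Scheme.{u}) (fi : Xi ⟶ Yi) (gi : Yi ⟶ D.obj i) (pY : Yi ⟶ Y₀)
      (pX : Xi ⟶ X₀), IsPullback pY gi g₀ (D.map φ) ∧ IsPullback pX fi f₀ pY ∧ Cyc.HasRelDim fi d := by
  classical
  refine GrothLib.LimDesc.exists_stage D i₀ f₀ g₀ (fun f => Cyc.HasRelDim f d) ?_
  let N := GrothLib.LimDesc.mapNat D i₀ g₀ (f₀ ≫ g₀) f₀ rfl
  let j : Over i₀ := Over.mk (𝟙 i₀)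
  haveI hlfp : ∀ l, LocallyOfFinitePresentation (N.app l) := fun l =>
    MorphismProperty.of_isPullback (P := @LocallyOfFinitePresentation)
      (GrothLib.LimDesc.isPullback_mapNat D i₀ g₀ (f₀ ≫ g₀) f₀ rfl l) inferInstance
  haveI : LocallyOfFiniteType f :=
    MorphismProperty.of_isPullback (P := @LocallyOfFiniteType) hX inferInstance
  haveI : ∀ (a b : Over i₀) (φ : a ⟶ b), IsAffineHom ((GrothLib.LimDesc.diag D i₀ (f₀ ≫ g₀)).map φ) :=
    fun a b φ => GrothLib.LimDesc.isAffineHom_map D i₀ (f₀ ≫ g₀) φ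
  haveI : ∀ a, CompactSpace ↥((GrothLib.LimDesc.diag D i₀ (f₀ ≫ g₀)).obj a) :=
    fun a => GrothLib.LimDesc.compactSpace_obj D i₀ (f₀ ≫ g₀) a
  haveI : ∀ a, QuasiSeparatedSpace ↥((GrothLib.LimDesc.diag D i₀ (f₀ ≫ g₀)).obj a) :=
    fun a => GrothLib.LimDesc.quasiSeparatedSpace_obj D i₀ (f₀ ≫ g₀) a
  have hA : ∀ n : ℕ, Topology.IsConstructible {x | FlatMor.fibreDimAt (N.app j) x ≤ (n : WithBot ℕ∞)} :=
    fun n => (GrothLib.Equidim6.isRetrocompact_fibreDimAt_le (N.app j) n).isConstructible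
      (GrothLib.FibreDimAt6.isOpen_fibreDimAt_le (N.app j) n)
  have hT : Topology.IsConstructible {x | ¬ FlatMor.fibreDimAt (N.app j) x = (d : WithBot ℕ∞)} := by
    cases d with
    | zero =>
      convert (hA 0).compl using 1
      ext x
      exact not_congr ⟨fun h => h.le, fun h => le_antisymm h (GrothLib.AlgSp.localDim_nonneg _)⟩
    | succ e =>
      convert ((hA (e + 1)).compl).union (hA e) using 1
      ext x
      simp only [Set.mem_setOf_eq, Set.mem_union, Set.mem_compl_iff]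
      cases hv : FlatMor.fibreDimAt (N.app j) x with
      | bot =>
        rw [show ((e + 1 : ℕ) : WithBot ℕ∞) = (((e + 1 : ℕ) : ℕ∞) : WithBot ℕ∞) from rfl]
        simp [-Nat.cast_add, -Nat.cast_succ]
      | coe v =>
        cases v with
        | top =>
          rw [show ((e + 1 : ℕ) : WithBot ℕ∞) = (((e + 1 : ℕ) : ℕ∞) : WithBot ℕ∞) from rfl,
            show ((e : ℕ) : WithBot ℕ∞) = (((e : ℕ) : ℕ∞) : WithBot ℕ∞) from rfl,
            WithBot.coe_le_coe, WithBot.coe_le_coe, WithBot.coe_inj]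
          simp [-Nat.cast_add, -Nat.cast_succ]
        | coe m =>
          rw [show ((e + 1 : ℕ) : WithBot ℕ∞) = (((e + 1 : ℕ) : ℕ∞) : WithBot ℕ∞) from rfl,
            show ((e : ℕ) : WithBot ℕ∞) = (((e : ℕ) : ℕ∞) : WithBot ℕ∞) from rfl,
            WithBot.coe_le_coe, WithBot.coe_le_coe, WithBot.coe_inj]
          norm_cast
          omega
  let hX' := hX.paste_vert hY
  have hsq := GrothLib.LimDesc.isPullback_π D i₀ g₀ (f₀ ≫ g₀) hY f₀ rfl hX' f hX.w.symm rfl j
  have hd' := (GrothLib.Equidim6.hasRelDim_iff f d).1 hd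
  obtain ⟨l, φ, hl⟩ := GrothLib.LimDesc.exists_preimage_eq_empty (GrothLib.LimDesc.diag D i₀ (f₀ ≫ g₀)) _
    (GrothLib.LimDesc.isLimitCone D i₀ (f₀ ≫ g₀) hX' hc) j _ hT
    (Set.eq_empty_iff_forall_notMem.mpr fun x hx =>
      hx ((GrothLib.AlgSp.fibreDimAt_of_isPullback hsq x).symm.trans (hd' x)))
  have hsq' := GrothLib.LimDesc.isPullback_mapNat_map D i₀ g₀ (f₀ ≫ g₀) f₀ rfl φ
  refine ⟨l, (GrothLib.Equidim6.hasRelDim_iff _ d).2 fun x => ?_⟩
  exact (GrothLib.AlgSp.fibreDimAt_of_isPullback hsq' x).trans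
    (not_not.mp fun h => Set.eq_empty_iff_forall_notMem.mp hl x h)

end Groth.Agent.S9196
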