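import Groth.Statements.S9197
import Groth.Agent.Lib.LimDesc.Finite
import Groth.Agent.Lib.FlatLimit.Scheme
import Groth.Agent.Lib.LimDesc.Single
-- import your own Groth.Agent.* helpers here

set_option autoImplicit false
universe u
open CategoryTheory AlgebraicGeometry
open Lim

namespace Groth.Agent.S9197

/-- Let S = lim S_i be a cofiltered limit of schemes with affine transition morphisms, S_{i₀} a
quasi-compact quasi-separated stage, f₀ : X₀ → Y₀ a morphism of quasi-compact quasi-separated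
schemes over S_{i₀}, and f : X → Y its base change along S → S_{i₀} (base changes expressed by
pullback squares). Let d be a natural number. If f₀ is locally of finite presentation and f is
finite locally free of degree d (finite, flat, locally of finite presentation, with rank function
constant equal to d), then for some index i over i₀ the base change f_i : X_i → Y_i of f₀ along S_i
→ S_{i₀} is finite locally free of degree d. -/
theorem result {I : Type u} [SmallCategory I] [IsCofiltered I]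
    (D : I ⥤ Scheme.{u}) (c : Limits.Cone D) (hc : Limits.IsLimit c)
    [∀ (i j : I) (f : i ⟶ j), IsAffineHom (D.map f)] (i₀ : I) [CompactSpace (D.obj i₀)]
    [QuasiSeparatedSpace (D.obj i₀)] {X₀ Y₀ : Scheme.{u}} (f₀ : X₀ ⟶ Y₀) (g₀ : Y₀ ⟶ D.obj i₀)
    [CompactSpace X₀] [QuasiSeparatedSpace X₀] [CompactSpace Y₀] [QuasiSeparatedSpace Y₀]
    [LocallyOfFinitePresentation f₀] (d : ℕ)
    {X Y : Scheme.{u}} (f : X ⟶ Y) (g : Y ⟶ c.pt) (qY : Y ⟶ Y₀) (qX : X ⟶ X₀)
    (hY : IsPullback qY g g₀ (c.π.app i₀)) (hX : IsPullback qX f f₀ qY) (hf : Mor2.IsFinLocFreeOfDeg d f) :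
    ∃ (i : I) (φ : i ⟶ i₀) (Xi Yi : Scheme.{u}) (fi : Xi ⟶ Yi) (gi : Yi ⟶ D.obj i) (pY : Yi ⟶ Y₀)
      (pX : Xi ⟶ X₀), IsPullback pY gi g₀ (D.map φ) ∧ IsPullback pX fi f₀ pY ∧ Mor2.IsFinLocFreeOfDeg d fi := by
  classical
  obtain ⟨⟨hfin, hflat, -⟩, hrk⟩ := hf
  haveI := hfin
  haveI := hflat
  refine GrothLib.LimDesc.exists_stage D i₀ f₀ g₀ (fun f => Mor2.IsFinLocFreeOfDeg d f) ?_
  obtain ⟨j₁, h₁⟩ := GrothLib.LimDesc.exists_isFinite D hc f₀ g₀ hY hX
  obtain ⟨j₂, h₂⟩ := GrothLib.LimDesc.exists_flat D hc f₀ g₀ hY hX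
  let j := IsCofiltered.min j₁ j₂
  let N := GrothLib.LimDesc.mapNat D i₀ g₀ (f₀ ≫ g₀) f₀ rfl
  haveI : IsFinite (N.app j) := MorphismProperty.of_isPullback (P := @IsFinite)
    (GrothLib.LimDesc.isPullback_mapNat_map D i₀ g₀ (f₀ ≫ g₀) f₀ rfl (IsCofiltered.minToLeft j₁ j₂)) h₁
  haveI : Flat (N.app j) := MorphismProperty.of_isPullback (P := @Flat)
    (GrothLib.LimDesc.isPullback_mapNat_map D i₀ g₀ (f₀ ≫ g₀) f₀ rfl (IsCofiltered.minToRight j₁ j₂)) h₂
  haveI hlfp : ∀ l, LocallyOfFinitePresentation (N.app l) := fun l =>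
    MorphismProperty.of_isPullback (P := @LocallyOfFinitePresentation)
      (GrothLib.LimDesc.isPullback_mapNat D i₀ g₀ (f₀ ≫ g₀) f₀ rfl l) inferInstance
  haveI : ∀ (a b : Over i₀) (φ : a ⟶ b), IsAffineHom ((GrothLib.LimDesc.diag D i₀ g₀).map φ) :=
    fun a b φ => GrothLib.LimDesc.isAffineHom_map D i₀ g₀ φ
  haveI : ∀ a, CompactSpace ↥((GrothLib.LimDesc.diag D i₀ g₀).obj a) :=
    fun a => GrothLib.LimDesc.compactSpace_obj D i₀ g₀ a
  haveI : ∀ a, QuasiSeparatedSpace ↥((GrothLib.LimDesc.diag D i₀ g₀).obj a) :=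
    fun a => GrothLib.LimDesc.quasiSeparatedSpace_obj D i₀ g₀ a
  have hsq := GrothLib.LimDesc.isPullback_π D i₀ g₀ (f₀ ≫ g₀) hY f₀ rfl (hX.paste_vert hY) f hX.w.symm rfl j
  let U : ((GrothLib.LimDesc.diag D i₀ g₀).obj j).Opens :=
    ⟨(N.app j).finrank ⁻¹' {d}, (N.app j).isLocallyConstant_finrank.isOpen_fiber d⟩
  have hall : (GrothLib.LimDesc.cone D i₀ g₀ hY).π.app j ⁻¹ᵁ U = ⊤ := by
    refine top_le_iff.mp fun y _ => ?_
    show (N.app j).finrank _ = d
    refine (Scheme.Hom.finrank_of_isPullback _ _ _ _ hsq y).symm.trans ?_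
    exact hrk y
  obtain ⟨l, φ, hl⟩ := exists_map_eq_top (GrothLib.LimDesc.diag D i₀ g₀) _
    (GrothLib.LimDesc.isLimitCone D i₀ g₀ hY hc) U hall
  have hsq' := GrothLib.LimDesc.isPullback_mapNat_map D i₀ g₀ (f₀ ≫ g₀) f₀ rfl φ
  refine ⟨l, ⟨MorphismProperty.of_isPullback (P := @IsFinite) hsq' inferInstance,
    MorphismProperty.of_isPullback (P := @Flat) hsq' inferInstance, hlfp l⟩, fun y => ?_⟩
  refine (Scheme.Hom.finrank_of_isPullback _ _ _ _ hsq' y).trans ?_
  exact hl.ge (show y ∈ (⊤ : Scheme.Opens _) from trivial)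

end Groth.Agent.S9197
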