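import Groth.Agent.Lib.LciGrp13.Affine
import Groth.Agent.Lib.LCI6.Syntomic
import Groth.Agent.Lib.SyntLoc.Scheme
import Groth.Agent.Lib.LimSmooth.Reduction
import Groth.Agent.Lib.FlatLimit.Affine
import Groth.Agent.Lib.LimDesc.Single
import Groth.Statements.S9198
-- import your own Groth.Agent.* helpers here

set_option autoImplicit false
universe u
open CategoryTheory AlgebraicGeometry
open Lim

namespace Groth.Agent.S9198

/-- Let S = lim S_i be a cofiltered limit of schemes with affine transition morphisms, S_{i₀} a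
quasi-compact quasi-separated stage, f₀ : X₀ → Y₀ a morphism of quasi-compact quasi-separated
schemes over S_{i₀}, and f : X → Y its base change along S → S_{i₀} (base changes expressed by
pullback squares). If f₀ is locally of finite presentation and f is syntomic (flat, locally of
finite presentation, with local complete intersection fibres, tested on affine opens around each
point), then for some index i over i₀ the base change f_i : X_i → Y_i of f₀ along S_i → S_{i₀} is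
syntomic. -/
theorem result {I : Type u} [SmallCategory I] [IsCofiltered I]
    (D : I ⥤ Scheme.{u}) (c : Limits.Cone D) (hc : Limits.IsLimit c)
    [∀ (i j : I) (f : i ⟶ j), IsAffineHom (D.map f)] (i₀ : I) [CompactSpace (D.obj i₀)]
    [QuasiSeparatedSpace (D.obj i₀)] {X₀ Y₀ : Scheme.{u}} (f₀ : X₀ ⟶ Y₀) (g₀ : Y₀ ⟶ D.obj i₀)
    [CompactSpace X₀] [QuasiSeparatedSpace X₀] [CompactSpace Y₀] [QuasiSeparatedSpace Y₀]
    [LocallyOfFinitePresentation f₀]
    {X Y : Scheme.{u}} (f : X ⟶ Y) (g : Y ⟶ c.pt) (qY : Y ⟶ Y₀) (qX : X ⟶ X₀)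
    (hY : IsPullback qY g g₀ (c.π.app i₀)) (hX : IsPullback qX f f₀ qY) (hf : Synt.IsSyntomicMor f) :
    ∃ (i : I) (φ : i ⟶ i₀) (Xi Yi : Scheme.{u}) (fi : Xi ⟶ Yi) (gi : Yi ⟶ D.obj i) (pY : Yi ⟶ Y₀)
      (pX : Xi ⟶ X₀), IsPullback pY gi g₀ (D.map φ) ∧ IsPullback pX fi f₀ pY ∧ Synt.IsSyntomicMor fi := by
  classical
  refine GrothLib.LimDesc.exists_stage D i₀ f₀ g₀ (fun f => Synt.IsSyntomicMor f) ?_
  haveI : Flat f := GrothLib.SyntLoc.flat_of_isSyntomicMor hf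
  haveI : QuasiCompact f₀ := quasiCompact_of_compactSpace f₀
  obtain ⟨j, hj⟩ := GrothLib.LimSmooth.exists_stage_of_affineCase D hc f₀ g₀ hY hX @Flat
    (fun a b _ h => haveI := h; inferInstance) GrothLib.LimDesc.affineCase_flat ‹Flat f›
  let N := GrothLib.LimDesc.mapNat D i₀ g₀ (f₀ ≫ g₀) f₀ rfl
  haveI : Flat (N.app j) := hj
  haveI : LocallyOfFinitePresentation (N.app j) := MorphismProperty.of_isPullback (P := @LocallyOfFinitePresentation)
    (GrothLib.LimDesc.isPullback_mapNat D i₀ g₀ (f₀ ≫ g₀) f₀ rfl j) inferInstance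
  haveI : ∀ (a b : Over i₀) (φ : a ⟶ b), IsAffineHom ((GrothLib.LimDesc.diag D i₀ (f₀ ≫ g₀)).map φ) :=
    fun a b φ => GrothLib.LimDesc.isAffineHom_map D i₀ (f₀ ≫ g₀) φ
  haveI : ∀ a, CompactSpace ↥((GrothLib.LimDesc.diag D i₀ (f₀ ≫ g₀)).obj a) :=
    fun a => GrothLib.LimDesc.compactSpace_obj D i₀ (f₀ ≫ g₀) a
  haveI : ∀ a, QuasiSeparatedSpace ↥((GrothLib.LimDesc.diag D i₀ (f₀ ≫ g₀)).obj a) :=
    fun a => GrothLib.LimDesc.quasiSeparatedSpace_obj D i₀ (f₀ ≫ g₀) a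
  let hX' := hX.paste_vert hY
  have hsq := GrothLib.LimDesc.isPullback_π D i₀ g₀ (f₀ ≫ g₀) hY f₀ rfl hX' f hX.w.symm rfl j
  let U : ((GrothLib.LimDesc.diag D i₀ (f₀ ≫ g₀)).obj j).Opens :=
    ⟨{x | GrothLib.LCI6.InLocus (N.app j) x}, GrothLib.LCI6.isOpen_inLocus _⟩
  have hall : (GrothLib.LimDesc.cone D i₀ (f₀ ≫ g₀) hX').π.app j ⁻¹ᵁ U = ⊤ := by
    refine top_le_iff.mp fun x _ => ?_
    show GrothLib.LCI6.InLocus (N.app j) _
    refine (GrothLib.LciGrp13.inLocus_iff_of_isPullback hsq x).1 ?_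
    obtain ⟨U', V', e, hx, hs⟩ := hf x
    letI := (f.appLE V'.1 U'.1 e).hom.toAlgebra
    exact ⟨U'.1, V'.1, U'.2, V'.2, e, hx, (GrothLib.LCI6.isSyntomic_iff.1 hs).2⟩
  obtain ⟨l, φ, hl⟩ := exists_map_eq_top (GrothLib.LimDesc.diag D i₀ (f₀ ≫ g₀)) _
    (GrothLib.LimDesc.isLimitCone D i₀ (f₀ ≫ g₀) hX' hc) U hall
  refine ⟨l, fun x => ?_⟩
  have hsq' := GrothLib.LimDesc.isPullback_mapNat_map D i₀ g₀ (f₀ ≫ g₀) f₀ rfl φ
  haveI : Flat (N.app l) := MorphismProperty.of_isPullback hsq' hj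
  obtain ⟨U', V', hU', hV', e, hx, hlci⟩ := (GrothLib.LciGrp13.inLocus_iff_of_isPullback hsq' x).2
    (show x ∈ (GrothLib.LimDesc.diag D i₀ (f₀ ≫ g₀)).map φ ⁻¹ᵁ U by rw [hl]; trivial)
  refine ⟨⟨U', hU'⟩, ⟨V', hV'⟩, e, hx, ?_⟩
  letI := ((N.app l).appLE V' U' e).hom.toAlgebra
  exact GrothLib.LCI6.isSyntomic_iff.mpr
    ⟨HasRingHomProperty.appLE (P := @Flat) (N.app l) inferInstance ⟨V', hV'⟩ ⟨U', hU'⟩ e, hlci⟩

end Groth.Agent.S9198
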