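import Groth.Statements.S9201
import Groth.Agent.Lib.LimDesc.EventualClosed

set_option autoImplicit false
universe u
open CategoryTheory AlgebraicGeometry
open Lim

namespace Groth.Agent.S9201

/-- Let S be a quasi-separated scheme and X = lim X_i a cofiltered limit of S-schemes X_i (a diagram
with a compatible family of structure maps to S) whose transition morphisms are closed immersions,
every X_i quasi-compact, quasi-separated and locally of finite type over S; the structure map X → S
is the composite X → X_{i₀} → S for any index i₀. If X → S is an immersion, then X_i → S is an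
immersion for all i beyond some index i₁. -/
theorem result {I : Type u} [SmallCategory I] [IsCofiltered I] (S : Scheme.{u}) [QuasiSeparatedSpace S]
    (D : I ⥤ Scheme.{u}) (t : D ⟶ (Functor.const I).obj S) (c : Limits.Cone D) (hc : Limits.IsLimit c)
    [∀ (i j : I) (a : i ⟶ j), IsClosedImmersion (D.map a)]
    [∀ i, CompactSpace (D.obj i)] [∀ i, QuasiSeparatedSpace (D.obj i)]
    [∀ i, LocallyOfFiniteType (t.app i)] (i₀ : I)
    [IsImmersion (c.π.app i₀ ≫ t.app i₀)] :
    ∃ i₁ : I, ∀ (i : I) (_ : i ⟶ i₁), IsImmersion (t.app i) := by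
  haveI : ∀ (i j : I) (f : i ⟶ j), IsAffineHom (D.map f) := fun _ _ _ => inferInstance
  haveI : CompactSpace c.pt := Scheme.compactSpace_of_isLimit D c hc
  let p : c.pt ⟶ S := c.π.app i₀ ≫ t.app i₀
  haveI : IsImmersion p := ‹IsImmersion (c.π.app i₀ ≫ t.app i₀)›
  obtain ⟨O, hOc, hpO, hOle⟩ : ∃ O : S.Opens, IsCompact (O : Set S) ∧
      Set.range p ⊆ O ∧ O ≤ p.coborderRange := by
    have hcov : Set.range p ⊆
        ⋃ A : {A : S.Opens // IsAffineOpen A ∧ A ≤ p.coborderRange}, (A.1 : Set S) := by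
      rintro _ ⟨x, rfl⟩
      obtain ⟨_, ⟨A, hA, rfl⟩, hxA, hAle⟩ :=
        S.isBasis_affineOpens.exists_subset_of_mem_open
          (show p x ∈ p.coborderRange from subset_coborder ⟨x, rfl⟩) p.coborderRange.2
      exact Set.mem_iUnion.mpr ⟨⟨A, hA, hAle⟩, hxA⟩
    obtain ⟨s, hs⟩ := (isCompact_range p.continuous).elim_finite_subcover _ (fun A => A.1.2) hcov
    refine ⟨⨆ A ∈ s, A.1, ?_, fun x hx => ?_, iSup₂_le fun A _ => A.2.2⟩
    · simp only [TopologicalSpace.Opens.coe_iSup]
      exact s.finite_toSet.isCompact_biUnion fun A _ => A.2.1.isCompact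
    · obtain ⟨A, hA, hxA⟩ := Set.mem_iUnion₂.mp (hs hx)
      exact TopologicalSpace.Opens.mem_iSup.mpr ⟨A, TopologicalSpace.Opens.mem_iSup.mpr ⟨hA, hxA⟩⟩
  obtain ⟨k, φ, hk⟩ := exists_map_eq_top D c hc ((t.app i₀ : D.obj i₀ ⟶ S) ⁻¹ᵁ O)
    (top_le_iff.mp fun x _ => hpO ⟨x, rfl⟩)
  haveI : CompactSpace O.toScheme := isCompact_iff_compactSpace.mp hOc
  haveI : QuasiSeparatedSpace O.toScheme :=
    (isQuasiSeparated_iff_quasiSeparatedSpace _ O.2).mp (.of_quasiSeparatedSpace _)
  let E := Over.forget k ⋙ D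
  have hr : ∀ l : Over k, Set.range (t.app l.left : D.obj l.left ⟶ S) ⊆ Set.range O.ι := by
    rintro l _ ⟨x, rfl⟩
    rw [Scheme.Opens.range_ι]
    have h : D.map φ (D.map l.hom x) ∈ (t.app i₀ : D.obj i₀ ⟶ S) ⁻¹ᵁ O := hk.ge (Set.mem_univ (D.map l.hom x))
    change ((D.map φ ≫ t.app i₀) : D.obj k ⟶ S) (D.map l.hom x) ∈ O at h
    rw [GrothLib.LimDesc.map_structure D t φ] at h
    change (D.map l.hom ≫ t.app k) x ∈ O at h
    rw [GrothLib.LimDesc.map_structure D t l.hom] at h
    exact h
  let tO : E ⟶ (Functor.const (Over k)).obj O.toScheme :=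
    { app := fun l => IsOpenImmersion.lift O.ι (t.app l.left : D.obj l.left ⟶ S) (hr l)
      naturality := fun l m ψ => by
        change D.map ψ.left ≫ _ = _ ≫ 𝟙 _
        rw [Category.comp_id, ← cancel_mono O.ι, Category.assoc]
        erw [IsOpenImmersion.lift_fac, IsOpenImmersion.lift_fac]
        exact GrothLib.LimDesc.map_structure D t ψ.left }
  haveI : ∀ l : Over k, LocallyOfFiniteType (tO.app l : E.obj l ⟶ O.toScheme) := fun l => by
    haveI : LocallyOfFiniteType ((tO.app l : E.obj l ⟶ O.toScheme) ≫ O.ι) := by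
      change LocallyOfFiniteType (IsOpenImmersion.lift O.ι _ (hr l) ≫ O.ι)
      rw [IsOpenImmersion.lift_fac]
      exact inferInstanceAs (LocallyOfFiniteType (t.app l.left))
    exact locallyOfFiniteType_of_comp _ O.ι
  haveI : ∀ (l m : Over k) (f : l ⟶ m), IsClosedImmersion (E.map f) := fun l m f =>
    inferInstanceAs (IsClosedImmersion (D.map f.left))
  haveI : ∀ (l m : Over k) (f : l ⟶ m), IsAffineHom (E.map f) := fun _ _ _ => inferInstance
  haveI : ∀ l : Over k, CompactSpace ↥(E.obj l) := fun l =>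
    inferInstanceAs (CompactSpace ↥(D.obj l.left))
  haveI : ∀ l : Over k, QuasiSeparatedSpace ↥(E.obj l) := fun l =>
    inferInstanceAs (QuasiSeparatedSpace ↥(D.obj l.left))
  let top : Over k := Over.mk (𝟙 k)
  let cE := c.whisker (Over.forget k)
  have he : (cE.π.app top ≫ tO.app top) ≫ O.ι = p := by
    change (c.π.app k ≫ IsOpenImmersion.lift O.ι _ (hr top)) ≫ O.ι = p
    rw [Category.assoc, IsOpenImmersion.lift_fac]
    exact GrothLib.LimDesc.π_structure D t k i₀
  let m : c.pt ⟶ O.toScheme := cE.π.app top ≫ tO.app top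
  haveI : IsImmersion (m ≫ O.ι) := by rw [he]; infer_instance
  haveI : IsImmersion m := IsImmersion.of_comp m O.ι
  haveI : IsClosedImmersion (cE.π.app top ≫ tO.app top) := by
    refine IsClosedImmersion.of_isPreimmersion m ?_
    have hrm : Set.range m = O.ι ⁻¹' Set.range p := by
      ext y
      constructor
      · rintro ⟨x, rfl⟩
        exact ⟨x, congr($(he).base x).symm⟩
      · rintro ⟨x, hx⟩
        refine ⟨x, O.ι.isOpenEmbedding.injective ?_⟩
        exact (congr($(he).base x)).trans hx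
    rw [hrm]
    have hcl : O.ι ⁻¹' Set.range p = O.ι ⁻¹' closure (Set.range p) := by
      refine Set.Subset.antisymm (Set.preimage_mono subset_closure) fun y hy => ?_
      exact (coborder_inter_closure (s := Set.range p)).le
        (show O.ι y ∈ coborder (Set.range p) ∩ closure (Set.range p) from ⟨hOle y.2, hy⟩)
    rw [hcl]
    exact isClosed_closure.preimage O.ι.continuous
  obtain ⟨l, hl⟩ := GrothLib.LimDesc.eventually_isClosedImmersion E
    (cF := cE) ((Functor.Initial.isLimitWhiskerEquiv (Over.forget k) c).symm hc) tO top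
  refine ⟨l.left, fun i ψ => ?_⟩
  let li : Over k := Over.mk (ψ ≫ l.hom)
  haveI : IsClosedImmersion (IsOpenImmersion.lift O.ι (t.app li.left : D.obj i ⟶ S) (hr li)) :=
    hl li (Over.homMk ψ rfl : li ⟶ l)
  have : t.app i = IsOpenImmersion.lift O.ι (t.app li.left : D.obj i ⟶ S) (hr li) ≫ O.ι :=
    (IsOpenImmersion.lift_fac _ _ _).symm
  rw [this]
  exact inferInstanceAs (IsImmersion (IsOpenImmersion.lift O.ι (t.app li.left : D.obj i ⟶ S) (hr li) ≫ O.ι))

end Groth.Agent.S9201
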