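import Groth.Statements.S9203
import Groth.Agent.Lib.AffUnion.Basic

set_option autoImplicit false
set_option backward.isDefEq.respectTransparency false
universe u v
open CategoryTheory AlgebraicGeometry
open Lim

namespace Groth.Agent.S9203

/-- Suppose a scheme X is covered, as a topological space, by finitely many closed subschemes each of
which is affine: there are closed immersions Z_k → X, indexed by a finite type, with each Z_k affine
and whose images cover X. Then X is affine. -/
theorem result (X : Scheme.{u}) {κ : Type v} [Finite κ]
    (Z : κ → Scheme.{u}) (ι : ∀ k, Z k ⟶ X) [∀ k, IsClosedImmersion (ι k)] [∀ k, IsAffine (Z k)]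
    (hcov : ∀ x : X, ∃ k, x ∈ Set.range (ι k).base) : IsAffine X := by
  classical
  haveI := Fintype.ofFinite κ
  let C : Finset κ → TopologicalSpace.Closeds X := fun s => s.sup fun k => ⟨Set.range (ι k), (ι k).isClosedEmbedding.isClosed_range⟩
  let W : Finset κ → Scheme.{u} := fun s => (Scheme.IdealSheafData.vanishingIdeal (C s)).subscheme
  let w : ∀ s, W s ⟶ X := fun s => (Scheme.IdealSheafData.vanishingIdeal (C s)).subschemeι
  have hw : ∀ s, Set.range (w s) = (C s : Set X) := fun s => by
    rw [Scheme.IdealSheafData.range_subschemeι, Scheme.IdealSheafData.coe_support_vanishingIdeal]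
  have key : ∀ s, IsAffine (W s) := by
    intro s
    induction s using Finset.induction with
    | empty =>
      haveI : IsEmpty ↥(W ∅) := ⟨fun z => by
        have hz : w ∅ z ∈ (C ∅ : Set X) := hw ∅ ▸ ⟨z, rfl⟩
        simp [C] at hz⟩
      exact isAffine_of_isEmpty
    | insert a s has ih =>
      haveI := ih
      let p₁ := Limits.pullback.fst (w (insert a s)) (ι a)
      let p₂ := Limits.pullback.fst (w (insert a s)) (w s)
      haveI : IsClosedImmersion (Limits.pullback.snd (w (insert a s)) (ι a)) :=
        MorphismProperty.pullback_snd _ _ inferInstance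
      haveI : IsClosedImmersion (Limits.pullback.snd (w (insert a s)) (w s)) :=
        MorphismProperty.pullback_snd _ _ inferInstance
      haveI : IsAffine (Limits.pullback (w (insert a s)) (ι a)) :=
        isAffine_of_isAffineHom (Limits.pullback.snd (w (insert a s)) (ι a))
      haveI : IsAffine (Limits.pullback (w (insert a s)) (w s)) :=
        isAffine_of_isAffineHom (Limits.pullback.snd (w (insert a s)) (w s))
      refine GrothLib.AffUnion.isAffine_of_cover p₁ p₂ ?_
      rw [Scheme.Pullback.range_fst, Scheme.Pullback.range_fst, ← Set.preimage_union, Set.preimage_eq_univ_iff, hw, hw]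
      simp [C, Finset.sup_insert]
  haveI := key Finset.univ
  haveI : Surjective (w Finset.univ) := ⟨fun x => by
    obtain ⟨k, hk⟩ := hcov x
    have : x ∈ (C Finset.univ : Set X) :=
      (Finset.le_sup (f := fun k => (⟨Set.range (ι k), (ι k).isClosedEmbedding.isClosed_range⟩ : TopologicalSpace.Closeds X))
        (Finset.mem_univ k)) hk
    rwa [← hw] at this⟩
  exact GrothLib.AffUnion.isAffine_of_cover (w Finset.univ) (w Finset.univ)
    (by rw [Set.union_self]; exact (w Finset.univ).surjective.range_eq)

end Groth.Agent.S9203
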