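import Groth.Statements.S9208
import Groth.Agent.Lib.FPCrit.Basic

set_option autoImplicit false
set_option backward.isDefEq.respectTransparency false
universe u
open CategoryTheory AlgebraicGeometry
open Lim

namespace Groth.Agent.S9208

/-- Let f : X → S be a morphism of schemes. Suppose that for every inverse system (T_j) of affine
schemes over S indexed by a nonempty directed preordered set, with limit T, the canonical map
colim_j Mor_S(T_j, X) → Mor_S(T, X) is surjective: every S-morphism T → X is the composite of the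
projection T → T_j with an S-morphism T_j → X for some j. Then f is locally of finite presentation
(surjectivity alone suffices; bijectivity is not required). -/
theorem result {X S : Scheme.{u}} (f : X ⟶ S)
    (h : ∀ (J : Type u) [Preorder J] [IsDirected J (· ≤ ·)] [Nonempty J] (D : Jᵒᵖ ⥤ Scheme.{u})
      (t : D ⟶ (Functor.const Jᵒᵖ).obj S) (c : Limits.Cone D) (_ : Limits.IsLimit c),
      (∀ j, IsAffine (D.obj j)) → ∀ (j₀ : Jᵒᵖ) (g : c.pt ⟶ X), g ≫ f = c.π.app j₀ ≫ t.app j₀ →
        ∃ (j : Jᵒᵖ) (gj : D.obj j ⟶ X), gj ≫ f = t.app j ∧ c.π.app j ≫ gj = g) :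
    LocallyOfFinitePresentation f := by
    refine GrothLib.FPCrit.locallyOfFinitePresentation_of_lifts f fun U hU J _ _ _ F c hc G hG => ?_
    let D : Jᵒᵖ ⥤ Scheme.{u} := (F ⋙ Under.forget _).op ⋙ Scheme.Spec
    let t : D ⟶ (Functor.const Jᵒᵖ).obj S :=
      { app := fun j => Spec.map (F.obj j.unop).hom ≫ hU.fromSpec
        naturality := fun a b ψ => by
          change Spec.map (F.map ψ.unop).right ≫ _ ≫ _ = (_ ≫ _) ≫ 𝟙 _
          rw [Category.comp_id, ← Spec.map_comp_assoc, Under.w] }
    let j₀ : J := Classical.arbitrary J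
    obtain ⟨j, gj, h1, h2⟩ := h J D t (Scheme.Spec.mapCone ((Under.forget _).mapCocone c).op)
      (Limits.isLimitOfPreserves Scheme.Spec hc.op) (fun j => inferInstanceAs (IsAffine (Spec _)))
      (Opposite.op j₀) G (by
        refine hG.trans ?_
        change _ = Spec.map (c.ι.app j₀).right ≫ Spec.map (F.obj j₀).hom ≫ hU.fromSpec
        rw [← Category.assoc, ← Spec.map_comp, Under.w]
        rfl)
    exact ⟨j.unop, gj, h1, h2⟩

end Groth.Agent.S9208
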