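import Groth.Statements.S9212
import Groth.Agent.Lib.DVRDom.Scheme

set_option autoImplicit false
universe u
open CategoryTheory CategoryTheory.Limits AlgebraicGeometry
open Lim

namespace Groth.Agent.S9212

/-- Let S be a locally Noetherian scheme and f : X → S a morphism of finite type. Then f is proper if
and only if: for every generic point η of an irreducible component of X, every discrete valuation
ring A contained in the residue field κ(η) with fraction field κ(η) (a valuation subring of κ(η)
which is a discrete valuation ring), and every morphism Spec A → S whose restriction to Spec κ(η) is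
the canonical morphism Spec κ(η) → X followed by f, there is exactly one morphism Spec A → X over S
restricting to the canonical morphism on Spec κ(η). -/
theorem result {X S : Scheme.{u}} [IsLocallyNoetherian S] (f : X ⟶ S)
    [LocallyOfFiniteType f] [QuasiCompact f] :
    IsProper f ↔ ∀ (η : X), closure {η} ∈ irreducibleComponents (X : Type u) →
      ∀ (A : ValuationSubring (X.residueField η)), IsDiscreteValuationRing A →
        ∀ y : Spec (CommRingCat.of A) ⟶ S,
          Spec.map (CommRingCat.ofHom A.subtype) ≫ y = X.fromSpecResidueField η ≫ f →
          ∃! l : Spec (CommRingCat.of A) ⟶ X,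
            l ≫ f = y ∧ Spec.map (CommRingCat.ofHom A.subtype) ≫ l = X.fromSpecResidueField η := by
  constructor
  · intro hP η _ A _ y w
    have hE : ValuativeCriterion.Existence f :=
      ((UniversallyClosed.eq_valuativeCriterion.{u}).le _ _ _ hP.toUniversallyClosed).1
    obtain ⟨l, hl, hl'⟩ := GrothLib.DVRDom.exists_lift_of_existence (K := X.residueField η) hE
      (X.fromSpecResidueField η) y w.symm
    exact ⟨l, ⟨hl, hl'⟩, fun l' h' ↦
      GrothLib.DVRDom.eq_of_isSeparated (K := X.residueField η) f l' l (h'.1.trans hl.symm) (h'.2.trans hl'.symm)⟩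
  · intro H
    have : IsSeparated f := by
      refine GrothLib.DVRDom.isSeparated_of_lifts f (𝟙 X)
        (fun η ↦ closure {η} ∈ irreducibleComponents (X : Type u))
        (fun x ↦ GrothLib.DVRDom.exists_genericPoint_specializes x) ?_
      intro η V hη hV l₁ l₂ h h₁ h₂
      have h₁' := h₁.trans (Category.comp_id _)
      exact (H η hη V hV (l₁ ≫ f) ((Category.assoc _ _ _).symm.trans (congrArg (· ≫ f) h₁'))).unique
        ⟨rfl, h₁'⟩ ⟨h.symm, h₂.trans (Category.comp_id _)⟩
    have : UniversallyClosed f := by
      refine UniversallyClosed.of_valuativeCriterion f (GrothLib.DVRDom.existence_of_lifts_of_isSeparated f (𝟙 X)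
        (fun η ↦ closure {η} ∈ irreducibleComponents (X : Type u))
        (fun x ↦ GrothLib.DVRDom.exists_genericPoint_specializes x)
        (fun η V ↦ IsDiscreteValuationRing V) (GrothLib.DVRDom.exists_dvr_pick f (𝟙 X)) ?_)
      intro η V hη hV y w
      obtain ⟨l, hl, hl'⟩ := (H η hη V hV y
        (w.trans (congrArg (· ≫ f) (Category.comp_id _)))).exists
      exact ⟨l, hl, hl'.trans (Category.comp_id _).symm⟩
    exact {}

end Groth.Agent.S9212
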