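import Groth.Statements.S9213
import Groth.Agent.Lib.DVRDom.Scheme

set_option autoImplicit false
universe u
open CategoryTheory CategoryTheory.Limits AlgebraicGeometry
open Lim

namespace Groth.Agent.S9213

/-- Let S be a locally Noetherian scheme and f : X → S a morphism of finite type. Then f is universally
closed if and only if for every discrete valuation ring A with fraction field K and every
commutative square formed by morphisms Spec K → X and Spec A → S there is some morphism Spec A → X
making the diagram commute (the existence part of the valuative criterion, tested on discrete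
valuation rings only). -/
theorem result {X S : Scheme.{u}} [IsLocallyNoetherian S] (f : X ⟶ S)
    [LocallyOfFiniteType f] [QuasiCompact f] :
    UniversallyClosed f ↔ ∀ (A : Type u) [CommRing A] [IsDomain A] [IsDiscreteValuationRing A]
      (x : Spec (CommRingCat.of (FractionRing A)) ⟶ X) (y : Spec (CommRingCat.of A) ⟶ S),
      x ≫ f = Spec.map (CommRingCat.ofHom (algebraMap A (FractionRing A))) ≫ y → ∃ l : Spec (CommRingCat.of A) ⟶ X, l ≫ f = y ∧ Spec.map (CommRingCat.ofHom (algebraMap A (FractionRing A))) ≫ l = x := by
  constructor
  · intro hU A _ _ _ x y w
    have hE : ValuativeCriterion.Existence f :=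
      ((UniversallyClosed.eq_valuativeCriterion.{u}).le _ _ _ hU).1
    exact GrothLib.DVRDom.exists_lift_of_existence hE x y w
  · intro H
    refine UniversallyClosed.of_valuativeCriterion f (GrothLib.DVRDom.existence_of_lifts f
      (fun x V ↦ IsDiscreteValuationRing V) ?_ ?_)
    · intro x V₀ hV₀ hq C hC hCB hCn
      have := hCn (IsLocallyNoetherian.component_noetherian ⟨V₀, hV₀⟩)
      obtain ⟨s, hs⟩ := GrothLib.DVRDom.exists_finset_residueField x f hV₀ hq
      exact GrothLib.DVRDom.exists_dvr_dominating_localSubring C hC s (eq_top_iff.mpr (hs.ge.trans
        (Subfield.closure_mono (Set.union_subset_union_left _ (by rintro _ ⟨b, rfl⟩; exact hCB b)))))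
    · intro x V hV
      exact GrothLib.DVRDom.lifts_of_fractionRing (L := X.residueField x) f _ V
        fun a b w _ ↦ H V a b w

end Groth.Agent.S9213
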