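import Groth.Statements.S9214
import Groth.Agent.Lib.AbsApprox.ClosedSystem
import Groth.Agent.Lib.LimDesc.Snd

set_option autoImplicit false
universe u
open CategoryTheory CategoryTheory.Limits AlgebraicGeometry
open Lim

namespace Groth.Agent.S9214

/-- Let S = lim S_i be a cofiltered limit of Noetherian schemes with affine transition morphisms, and
suppose X → S is of finite type and quasi-separated. One can then find an index i, a finite type
morphism W → S_i and a morphism X → W over S_i (compatible with X → S → S_i) for which the resulting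
map X → S ×_{S_i} W into the fibre product is a closed immersion. -/
theorem result {I : Type u} [SmallCategory I] [IsCofiltered I]
    (D : I ⥤ Scheme.{u}) (c : Limits.Cone D) (hc : Limits.IsLimit c)
    [∀ (i j : I) (f : i ⟶ j), IsAffineHom (D.map f)] [∀ i, IsNoetherian (D.obj i)]
    {X : Scheme.{u}} (a : X ⟶ c.pt) [QuasiSeparated a] [QuasiCompact a] [LocallyOfFiniteType a] :
    ∃ (i : I) (W : Scheme.{u}) (w : W ⟶ D.obj i) (b : X ⟶ W) (hb : a ≫ c.π.app i = b ≫ w),
      LocallyOfFiniteType w ∧ QuasiCompact w ∧ IsClosedImmersion (pullback.lift a b hb) := by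
  classical
  obtain ⟨i₀⟩ : Nonempty I := IsCofiltered.nonempty
  haveI : CompactSpace c.pt := Scheme.compactSpace_of_isLimit _ _ hc
  haveI : QuasiSeparatedSpace c.pt := GrothLib.ConsLim.quasiSeparatedSpace_limit D c hc i₀
  haveI : CompactSpace X := QuasiCompact.compactSpace_of_compactSpace a
  haveI : QuasiSeparatedSpace X := quasiSeparatedSpace_of_quasiSeparated a
  obtain ⟨J, _, _, _, E, π, -, h1, -, h3⟩ := GrothLib.AbsApprox.exists_closed_system a
  obtain ⟨k⟩ : Nonempty J := inferInstance
  obtain ⟨hp, hqc, hqs, -, -⟩ := h1 (Opposite.op k)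
  let f₁ : (E.obj (Opposite.op k)).left ⟶ c.pt := (E.obj (Opposite.op k)).hom
  haveI : LocallyOfFinitePresentation f₁ := hp
  haveI : QuasiCompact f₁ := hqc
  haveI : QuasiSeparated f₁ := hqs
  let ι : X ⟶ (E.obj (Opposite.op k)).left := (π.app (Opposite.op k)).left
  haveI : IsClosedImmersion ι := h3 _
  have hι : ι ≫ f₁ = a := Over.w (π.app (Opposite.op k))
  obtain ⟨j, _, ⟨M⟩⟩ := GrothLib.LimDescend.exists_model_over D c hc i₀ f₁
  haveI := M.lfp
  haveI := M.qc
  have hb : a ≫ c.π.app j = (ι ≫ M.proj) ≫ M.hom := by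
    rw [Category.assoc, M.isPullback.w, ← Category.assoc, hι]
  refine ⟨j, M.obj, M.hom, ι ≫ M.proj, hb, inferInstance, inferInstance, ?_⟩
  have e : Limits.pullback.lift a (ι ≫ M.proj) hb = ι ≫ M.isPullback.flip.isoPullback.hom := by
    apply Limits.pullback.hom_ext
    · rw [Limits.pullback.lift_fst, Category.assoc, M.isPullback.flip.isoPullback_hom_fst, hι]
    · rw [Limits.pullback.lift_snd, Category.assoc, M.isPullback.flip.isoPullback_hom_snd]
  rw [e]
  infer_instance

end Groth.Agent.S9214
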