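import Groth.Statements.S9216
import Groth.Agent.Lib.AbsApprox.EventualDim
import Groth.Agent.Lib.AbsApprox.ClosedApprox
import Mathlib.CategoryTheory.Limits.Connected

set_option autoImplicit false
universe u
open CategoryTheory CategoryTheory.Limits AlgebraicGeometry
open Lim

namespace Groth.Agent.S9216

/-- Let S be a quasi-compact quasi-separated scheme, f : X → S a morphism of finite presentation and d a
natural number. Let Z be a closed subscheme of X such that every fibre of Z → S has dimension at
most d. Then there is a closed subscheme Z' of X containing Z such that Z' → X is of finite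
presentation and every fibre of Z' → S has dimension at most d. -/
theorem result {X S Z : Scheme.{u}} [CompactSpace S]
    [QuasiSeparatedSpace S] (f : X ⟶ S) [LocallyOfFinitePresentation f] [QuasiCompact f] [QuasiSeparated f]
    (d : ℕ) (ι : Z ⟶ X) [IsClosedImmersion ι] (hZ : ∀ s : S, topologicalKrullDim ↥((ι ≫ f).fiber s) ≤ d) :
    ∃ (Z' : Scheme.{u}) (ι' : Z' ⟶ X) (k : Z ⟶ Z'), IsClosedImmersion ι' ∧ LocallyOfFinitePresentation ι' ∧
      k ≫ ι' = ι ∧ ∀ s : S, topologicalKrullDim ↥((ι' ≫ f).fiber s) ≤ d := by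
  classical
  haveI : CompactSpace X := QuasiCompact.compactSpace_of_compactSpace f
  haveI : QuasiSeparatedSpace X := quasiSeparatedSpace_of_quasiSeparated f
  let DX := GrothLib.AbsApprox.closedSys ι ⋙ Over.forget X
  let DS : (GrothLib.AbsApprox.FgSub ι)ᵒᵖ ⥤ Scheme.{u} := (Functor.const _).obj S
  let cX := (Over.forget X).mapCone (GrothLib.AbsApprox.closedCone ι)
  have hX : Limits.IsLimit cX := Limits.isLimitOfPreserves _ (GrothLib.AbsApprox.isLimitClosedCone ι)
  let φ : DX ⟶ DS :=
    { app := fun i => i.unop.1.subschemeι ≫ f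
      naturality := fun i j a => by
        show Scheme.IdealSheafData.inclusion _ ≫ j.unop.1.subschemeι ≫ f = (i.unop.1.subschemeι ≫ f) ≫ 𝟙 S
        rw [Scheme.IdealSheafData.inclusion_subschemeι_assoc, Category.comp_id] }
  let cS : Limits.Cone DS := Limits.constCone (GrothLib.AbsApprox.FgSub ι)ᵒᵖ S
  haveI : IsConnected (GrothLib.AbsApprox.FgSub ι)ᵒᵖ := IsCofiltered.isConnected _
  have hS : Limits.IsLimit cS := Limits.isLimitConstCone _ _
  haveI : ∀ i, LocallyOfFiniteType (φ.app i) := fun i =>
    inferInstanceAs (LocallyOfFiniteType (i.unop.1.subschemeι ≫ f))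
  haveI : ∀ i, QuasiCompact (φ.app i) := fun i => inferInstanceAs (QuasiCompact (i.unop.1.subschemeι ≫ f))
  haveI : ∀ i, CompactSpace ↥(DS.obj i) := fun i => inferInstanceAs (CompactSpace S)
  haveI : ∀ (i j) (a : i ⟶ j), IsAffineHom (DS.map a) := fun i j a => inferInstanceAs (IsAffineHom (𝟙 S))
  obtain ⟨i, hi⟩ := GrothLib.AbsApprox.exists_dim_fiber_le DX DS φ cX cS hX hS (fun i j a => by
    haveI : IsClosedImmersion (DX.map a) :=
      GrothLib.AbsApprox.isClosedImmersion_inclusion (show j.unop.1 ≤ i.unop.1 from a.unop.le)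
    haveI : IsIso (DS.map a) := inferInstanceAs (IsIso (𝟙 S))
    haveI : IsClosedImmersion (Limits.pullback.lift (DX.map a) (φ.app i) (φ.naturality a) ≫
        Limits.pullback.fst _ _) := by
      rw [Limits.pullback.lift_fst]; infer_instance
    exact IsClosedImmersion.of_comp _ (Limits.pullback.fst _ _))
    (ι ≫ f) (fun i => by
      show (ι ≫ f) ≫ 𝟙 S = ((GrothLib.AbsApprox.closedCone ι).π.app i).left ≫ i.unop.1.subschemeι ≫ f
      rw [Category.comp_id, ← Category.assoc]
      exact congrArg (· ≫ f) (Over.w ((GrothLib.AbsApprox.closedCone ι).π.app i)).symm) d hZ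
  exact ⟨_, i.unop.1.subschemeι, ((GrothLib.AbsApprox.closedCone ι).π.app i).left, inferInstance,
    GrothLib.AbsApprox.lfp_subschemeι _ i.unop.2.2, Over.w ((GrothLib.AbsApprox.closedCone ι).π.app i), hi⟩

end Groth.Agent.S9216
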