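import Groth.Statements.S9219
import Groth.Agent.Lib.LimDescend.Hom

set_option autoImplicit false
universe u
open CategoryTheory CategoryTheory.Limits AlgebraicGeometry
open Lim

set_option backward.isDefEq.respectTransparency false

namespace Groth.Agent.S9219

/-- Let S = lim S_i be a cofiltered limit of schemes with affine transition morphisms (the S_i are not
assumed quasi-compact or quasi-separated), i an index, and X_i → S_i, Y_i → S_i morphisms locally of
finite presentation with X_i, Y_i quasi-compact and quasi-separated; let X be the base change of X_i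
to S (a pullback square). If two S_i-morphisms f_i, g_i : X_i → Y_i have the same base change to S
(equivalently, the same composite with X → X_i), then for some index j over i their base changes to
S_j agree, i.e. they have the same composite with X_i ×_{S_i} S_j → X_i. This is the faithfulness
part of the equivalence between the colimit of the categories of quasi-compact quasi-separated
schemes locally of finite presentation over the S_i and the corresponding category over S. -/
theorem result {I : Type u} [SmallCategory I] [IsCofiltered I]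
    (D : I ⥤ Scheme.{u}) (c : Limits.Cone D) (hc : Limits.IsLimit c)
    [∀ (i j : I) (f : i ⟶ j), IsAffineHom (D.map f)] (i : I)
    {Xi Yi : Scheme.{u}} (xi : Xi ⟶ D.obj i) (yi : Yi ⟶ D.obj i)
    [CompactSpace Xi] [QuasiSeparatedSpace Xi] [LocallyOfFinitePresentation xi]
    [CompactSpace Yi] [QuasiSeparatedSpace Yi] [LocallyOfFinitePresentation yi]
    {X : Scheme.{u}} (qX : X ⟶ Xi) (pX : X ⟶ c.pt) (hX : IsPullback qX pX xi (c.π.app i))
    (fi gi : Xi ⟶ Yi) (hfi : fi ≫ yi = xi) (hgi : gi ≫ yi = xi) (h : qX ≫ fi = qX ≫ gi) :
    ∃ (j : I) (φ : j ⟶ i), pullback.fst xi (D.map φ) ≫ fi = pullback.fst xi (D.map φ) ≫ gi := by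
  let top : Over i := Over.mk (𝟙 i)
  let a := pullback.fst xi (D.map top.hom)
  have hb : ∀ h : Xi ⟶ Yi, h ≫ yi = xi → (a ≫ h) ≫ yi = pullback.snd xi (D.map top.hom) ≫ D.map top.hom :=
    fun h hh => by rw [Category.assoc, hh]; exact pullback.condition
  have hY' : IsPullback (pullback.fst yi (c.π.app i)) (pullback.snd yi (c.π.app i)) yi (c.π.app i) :=
    IsPullback.of_hasPullback _ _
  let u : pullback xi (D.map top.hom) ⟶ pullback yi (D.map top.hom) :=
    pullback.lift (a ≫ fi) (pullback.snd _ _) (hb fi hfi)
  let v : pullback xi (D.map top.hom) ⟶ pullback yi (D.map top.hom) :=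
    pullback.lift (a ≫ gi) (pullback.snd _ _) (hb gi hgi)
  obtain ⟨l, φ, hl⟩ := GrothLib.LimDescend.exists_hom_eq D xi yi hX hc u v
    (pullback.lift_snd _ _ _) (pullback.lift_snd _ _ _) (by
      apply pullback.hom_ext
      · rw [Category.assoc, Category.assoc, show u ≫ pullback.fst _ _ = a ≫ fi from pullback.lift_fst _ _ _,
        show v ≫ pullback.fst _ _ = a ≫ gi from pullback.lift_fst _ _ _,
          GrothLib.LimDesc.π_fst_assoc, GrothLib.LimDesc.π_fst_assoc, h]
      · rw [Category.assoc, Category.assoc, show u ≫ pullback.snd _ _ = _ from pullback.lift_snd _ _ _,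
        show v ≫ pullback.snd _ _ = _ from pullback.lift_snd _ _ _])
  refine ⟨l.left, l.hom, ?_⟩
  have := congr($hl ≫ pullback.fst yi (D.map top.hom))
  rw [Category.assoc, Category.assoc, show u ≫ pullback.fst _ _ = a ≫ fi from pullback.lift_fst _ _ _,
    show v ≫ pullback.fst _ _ = a ≫ gi from pullback.lift_fst _ _ _, GrothLib.LimDesc.map_fst_assoc,
    GrothLib.LimDesc.map_fst_assoc] at this
  exact this

end Groth.Agent.S9219
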