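import Groth.Statements.S9221
import Groth.Agent.S2074
import Groth.Agent.Lib.ProperOver.Basic
import Groth.Agent.Lib.QCoh.SupportPullback
import Groth.Agent.S0020

set_option autoImplicit false
universe u
open CategoryTheory AlgebraicGeometry
open Lim

namespace Groth.Agent.S9221

/-- Let S = lim S_i be a cofiltered limit of schemes with affine transition morphisms, S_{i₀} a
quasi-compact quasi-separated stage, f₀ : X₀ → Y₀ a morphism of quasi-compact quasi-separated
schemes over S_{i₀}, and f : X → Y its base change along S → S_{i₀} (base changes expressed by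
pullback squares). Let F₀ be a quasi-coherent O_{X₀}-module of finite type, with pullbacks F to X
and F_i to X_i, and assume f₀ is locally of finite type. If the support of F (a closed subset of X,
taken with its reduced structure; equivalently the scheme-theoretic support of F) is proper over Y,
then for some index i over i₀, with f_i : X_i → Y_i the base change of f₀ along S_i → S_{i₀}, the
support of F_i is proper over Y_i. -/
theorem result {I : Type u} [SmallCategory I] [IsCofiltered I]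
    (D : I ⥤ Scheme.{u}) (c : Limits.Cone D) (hc : Limits.IsLimit c)
    [∀ (i j : I) (f : i ⟶ j), IsAffineHom (D.map f)] (i₀ : I) [CompactSpace (D.obj i₀)]
    [QuasiSeparatedSpace (D.obj i₀)] {X₀ Y₀ : Scheme.{u}} (f₀ : X₀ ⟶ Y₀) (g₀ : Y₀ ⟶ D.obj i₀)
    [CompactSpace X₀] [QuasiSeparatedSpace X₀] [CompactSpace Y₀] [QuasiSeparatedSpace Y₀]
    [LocallyOfFiniteType f₀] (F₀ : X₀.Modules) [Coh.IsQCoh F₀] (hF₀ : CohB1.IsFT F₀)
    {X Y : Scheme.{u}} (f : X ⟶ Y) (g : Y ⟶ c.pt) (qY : Y ⟶ Y₀) (qX : X ⟶ X₀)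
    (hY : IsPullback qY g g₀ (c.π.app i₀)) (hX : IsPullback qX f f₀ qY) (hF : ClSub.IsProperOver f (CohB1.support ((Scheme.Modules.pullback qX).obj F₀))) :
    ∃ (i : I) (φ : i ⟶ i₀) (Xi Yi : Scheme.{u}) (fi : Xi ⟶ Yi) (gi : Yi ⟶ D.obj i) (pY : Yi ⟶ Y₀)
      (pX : Xi ⟶ X₀), IsPullback pY gi g₀ (D.map φ) ∧ IsPullback pX fi f₀ pY ∧ ClSub.IsProperOver fi (CohB1.support ((Scheme.Modules.pullback pX).obj F₀)) := by
  let Z := CohB1.support F₀
  have hZ : IsClosed Z := GrothLib.QCoh.isClosed_support F₀ hF₀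
  have hsupp : ∀ {T : Scheme.{u}} (q : T ⟶ X₀), CohB1.support ((Scheme.Modules.pullback q).obj F₀) = q.base ⁻¹' Z :=
    fun q => GrothLib.QCoh.support_pullback q F₀ ⟨‹Coh.IsQCoh F₀›, hF₀⟩
  let j₀ := GrothLib.ProperOver.redι Z hZ
  let f₁ := j₀ ≫ f₀
  haveI : CompactSpace ↥((Scheme.IdealSheafData.vanishingIdeal (⟨Z, hZ⟩ : TopologicalSpace.Closeds X₀)).subscheme) :=
    QuasiCompact.compactSpace_of_compactSpace j₀
  haveI : QuasiSeparatedSpace ↥((Scheme.IdealSheafData.vanishingIdeal (⟨Z, hZ⟩ : TopologicalSpace.Closeds X₀)).subscheme) :=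
    quasiSeparatedSpace_of_quasiSeparated j₀
  haveI : LocallyOfFiniteType f := MorphismProperty.of_isPullback (P := @LocallyOfFiniteType) hX ‹_›
  have hZq : IsPullback (Limits.pullback.fst j₀ qX) (Limits.pullback.snd j₀ qX ≫ f) f₁ qY :=
    (IsPullback.of_hasPullback j₀ qX).paste_vert hX
  haveI : IsProper (Limits.pullback.snd j₀ qX ≫ f) := by
    refine GrothLib.ProperOver.isProper_of_isProperOver f (Limits.pullback.snd j₀ qX) ?_
    rw [Scheme.Pullback.range_snd, GrothLib.ProperOver.range_redι, ← hsupp]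
    exact hF
  obtain ⟨i, φ, Zi, Yi, fz, gi, pY, pZ, sY, sZ, hp⟩ := Groth.Agent.S2074.result D c hc i₀ f₁ g₀
    (Limits.pullback.snd j₀ qX ≫ f) g qY (Limits.pullback.fst j₀ qX) hY hZq
  refine ⟨i, φ, Limits.pullback f₀ pY, Yi, Limits.pullback.snd f₀ pY, gi, pY, Limits.pullback.fst f₀ pY, sY,
    IsPullback.of_hasPullback _ _, ?_⟩
  let pX := Limits.pullback.fst f₀ pY
  have hZi : IsPullback (Limits.pullback.fst j₀ pX) (Limits.pullback.snd j₀ pX ≫ Limits.pullback.snd f₀ pY) f₁ pY :=
    (IsPullback.of_hasPullback j₀ pX).paste_vert (IsPullback.of_hasPullback f₀ pY)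
  haveI : IsProper (Limits.pullback.snd j₀ pX ≫ Limits.pullback.snd f₀ pY) := by
    rw [← hZi.isoIsPullback_hom_snd _ _ sZ]
    haveI := hp
    infer_instance
  rw [hsupp]
  refine GrothLib.ProperOver.isProperOver_of_closedImmersion (Limits.pullback.snd f₀ pY) (Limits.pullback.snd j₀ pX)
    (hZ.preimage pX.continuous) ?_
  rw [Scheme.Pullback.range_snd, GrothLib.ProperOver.range_redι]

end Groth.Agent.S9221
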