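import Groth.Statements.S9224
import Groth.Agent.Lib.RLpsi8.FibreAvoid

set_option autoImplicit false
universe u
open CategoryTheory CategoryTheory.Limits AlgebraicGeometry
open Lim

namespace Groth.Agent.S9224

/-- Let f : X → S be a quasi-compact morphism, g : T → S a morphism, t a point of T and Z a closed
subset of X_T = X ×_S T which does not meet the fibre of X_T → T over t. Then there exist an affine
open neighbourhood V of t in T, an affine scheme T' with a morphism b : T' → S locally of finite
presentation, a morphism a : V → T' whose composite with b is the restriction of g, and a closed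
subset Z' of X_{T'} = X ×_S T' which does not meet the fibre over t' = a(t), such that the induced
morphism X_V → X_{T'} maps every point of X_V lying over Z (under X_V → X_T) into Z'. The morphisms
X_V → X_T and X_V → X_{T'} are the canonical ones, characterised by their projections. -/
theorem result {X S T : Scheme.{u}} (f : X ⟶ S) [QuasiCompact f] (g : T ⟶ S) (t : T)
    (Z : Set ↥(pullback f g)) (hZ : IsClosed Z) (hZt : ∀ z ∈ Z, (pullback.snd f g).base z ≠ t) :
    ∃ (V : T.Opens) (ht : t ∈ V) (T' : Scheme.{u}) (b : T' ⟶ S) (a : (V : Scheme.{u}) ⟶ T')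
      (n : pullback f (V.ι ≫ g) ⟶ pullback f g) (m : pullback f (V.ι ≫ g) ⟶ pullback f b)
      (Z' : Set ↥(pullback f b)),
      IsAffineOpen V ∧ IsAffine T' ∧ LocallyOfFinitePresentation b ∧ a ≫ b = V.ι ≫ g ∧
      n ≫ pullback.fst f g = pullback.fst f (V.ι ≫ g) ∧ n ≫ pullback.snd f g = pullback.snd f (V.ι ≫ g) ≫ V.ι ∧
      m ≫ pullback.fst f b = pullback.fst f (V.ι ≫ g) ∧ m ≫ pullback.snd f b = pullback.snd f (V.ι ≫ g) ≫ a ∧
      IsClosed Z' ∧ (∀ z' ∈ Z', (pullback.snd f b).base z' ≠ a.base ⟨t, ht⟩) ∧
      ∀ z : ↥(pullback f (V.ι ≫ g)), n.base z ∈ Z → m.base z ∈ Z' := by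
  exact RLpsi8.FibreAvoid.exists_affine_lfp f g t Z hZ hZt

end Groth.Agent.S9224
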