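import Groth.Statements.S9226
import Groth.Agent.Lib.Serre.Partial
import Mathlib.LinearAlgebra.Matrix.ToLinearEquiv
-- import your own Groth.Agent.* helpers here

set_option autoImplicit false
universe u
open CAlg

namespace Groth.Agent.S9226

/-- Let R be a regular local ring, m ≥ 1, f_1, ..., f_m elements of the maximal ideal, and D_1, ..., D_m
derivations of R such that the determinant of the matrix (D_i(f_j)) is a unit of R. Then R/(f_1,
..., f_m) is a regular local ring and f_1, ..., f_m is a regular sequence on R. -/
theorem result (R : Type u) [CommRing R]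
    [IsRegularLocalRing R] (m : ℕ) (hm : 1 ≤ m) (f : Fin m → R)
    (hf : ∀ i, f i ∈ IsLocalRing.maximalIdeal R) (D : Fin m → Derivation ℤ R R)
    (hdet : IsUnit (Matrix.det (Matrix.of (fun i j : Fin m => D i (f j))))) :
    IsRegularLocalRing (R ⧸ Ideal.span (Set.range f)) ∧
      RingTheory.Sequence.IsRegular R (List.ofFn f) := by
  classical
  have hind : GrothLib.Serre.IndepSq f := by
    intro c hc i
    have hD : ∀ (i : Fin m) (a : R), a ∈ IsLocalRing.maximalIdeal R ^ 2 → D i a ∈ IsLocalRing.maximalIdeal R := by
      intro i a ha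
      rw [pow_two] at ha
      refine Submodule.mul_induction_on ha (fun x hx y hy => ?_) fun x y hx hy => by
        rw [map_add]; exact add_mem hx hy
      rw [(D i).leibniz]
      exact add_mem (Ideal.mul_mem_right _ _ hx) (Ideal.mul_mem_right _ _ hy)
    let M : Matrix (Fin m) (Fin m) (IsLocalRing.ResidueField R) :=
      (Matrix.of fun i j : Fin m => D i (f j)).map (IsLocalRing.residue R)
    have hM : M.det ≠ 0 := by
      show ((Matrix.of fun i j : Fin m => D i (f j)).map (IsLocalRing.residue R)).det ≠ 0
      rw [← RingHom.mapMatrix_apply, ← RingHom.map_det]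
      exact (hdet.map _).ne_zero
    have h0 : M.mulVec (fun j => IsLocalRing.residue R (c j)) = 0 := by
      funext i
      have h := hD i _ hc
      rw [← IsLocalRing.residue_eq_zero_iff, map_sum, map_sum] at h
      rw [Pi.zero_apply, ← h]
      show ∑ j, M i j * IsLocalRing.residue R (c j) = _
      refine Finset.sum_congr rfl fun j _ => ?_
      rw [(D i).leibniz, map_add, smul_eq_mul, smul_eq_mul, map_mul, map_mul,
        (IsLocalRing.residue_eq_zero_iff _).2 (hf j), zero_mul, add_zero, mul_comm]
      rfl
    exact (IsLocalRing.residue_eq_zero_iff _).1 (congrFun (Matrix.eq_zero_of_mulVec_eq_zero hM h0) i)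
  obtain ⟨h1, h2⟩ := GrothLib.Serre.isRegularLocalRing_quotient_of_indepSq m R f hf hind
  refine ⟨h1, h2, fun htop => (IsLocalRing.maximalIdeal.isMaximal R).ne_top (top_le_iff.1 ?_)⟩
  rw [smul_eq_mul, Ideal.mul_top] at htop
  rw [htop, Ideal.ofList, Ideal.span_le]
  intro r hr
  obtain ⟨i, rfl⟩ := List.mem_ofFn.1 hr
  exact hf i

end Groth.Agent.S9226
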