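import Groth.Statements.S9227
import Groth.Agent.Lib.Serre.Hypersurface
import Mathlib.RingTheory.Derivation.MapCoeffs
-- import your own Groth.Agent.* helpers here

set_option autoImplicit false
universe u
open CAlg

namespace Groth.Agent.S9227

/-- Let R be a regular ring, f an element of R and D a derivation of R with D(f) a unit of R. Then for
every polynomial p with integer coefficients the ring R[z]/(p(z) - f) is regular; in particular
R[z]/(z^n - f) is regular for every n ≥ 1. -/
theorem result (R : Type u) [CommRing R]
    [IsRegularRing R] (f : R) (D : Derivation ℤ R R) (hD : IsUnit (D f)) (p : Polynomial ℤ) :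
    IsRegularRing (Polynomial R ⧸
      Ideal.span ({Polynomial.map (Int.castRingHom R) p - Polynomial.C f} : Set (Polynomial R))) := by
  letI : Differential R := ⟨D⟩
  let E : Derivation ℤ (Polynomial R) (Polynomial R) := Derivation.mk'
    (AddMonoidHom.toIntLinearMap
      { toFun := fun q => Differential.mapCoeffs q
        map_zero' := map_zero Differential.mapCoeffs
        map_add' := map_add Differential.mapCoeffs })
    (fun a b => (Differential.mapCoeffs : Derivation ℤ (Polynomial R) (Polynomial R)).leibniz a b)
  refine GrothLib.Serre.isRegularRing_quotient_of_derivation _ E (IsUnit.map _ ?_)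
  show IsUnit (Differential.mapCoeffs _)
  have h0 : Differential.mapCoeffs (Polynomial.map (Int.castRingHom R) p) = 0 := by
    ext i
    rw [Differential.coeff_mapCoeffs, Polynomial.coeff_map, Polynomial.coeff_zero, eq_intCast]
    exact D.map_intCast _
  rw [map_sub, h0, zero_sub, Differential.mapCoeffs_C, IsUnit.neg_iff, Polynomial.isUnit_C]
  exact hD

end Groth.Agent.S9227
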