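import Groth.Statements.S9242
import Groth.Agent.Lib.Hensel.CompletionHens
-- import your own Groth.Agent.* helpers here

set_option autoImplicit false
universe u
open Brnch

namespace Groth.Agent.S9242

/-- Let A be a Noetherian local ring with henselization S and completion A^, let ψ : S → A^ be the ring
map compatible with the structure maps from A, and let q be a minimal prime of A^ with dim(A^/q) =
1. Then q is the radical of the extension along ψ of some minimal prime of S. -/
theorem result (A S : Type u) [CommRing A]
    [IsLocalRing A] [IsNoetherianRing A] [CommRing S] [IsLocalRing S] [Algebra A S]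
    [IsLocalHom (algebraMap A S)] [Hensel.IsHenselization A S]
    (ψ : S →+* AdicCompletion (IsLocalRing.maximalIdeal A) A)
    (hψ : ψ.comp (algebraMap A S) = algebraMap A (AdicCompletion (IsLocalRing.maximalIdeal A) A))
    (q : Ideal (AdicCompletion (IsLocalRing.maximalIdeal A) A))
    (hq : q ∈ minimalPrimes (AdicCompletion (IsLocalRing.maximalIdeal A) A))
    (hdim : ringKrullDim (AdicCompletion (IsLocalRing.maximalIdeal A) A ⧸ q) = 1) :
    ∃ q' ∈ minimalPrimes S, (Ideal.map ψ q').radical = q := by
  let _ := ψ.toAlgebra
  have := GrothLib.Hensel.faithfullyFlat_completion ψ hψ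
  have : IsNoetherianRing S :=
    (GrothLib.Hensel.IsHenselization.isNoetherianRing_iff (R := A) (S := S)).mp ‹_›
  have : HenselianLocalRing S := ‹Hensel.IsHenselization A S›.henselian
  have hqp := hq.1.1
  refine ⟨_, GrothLib.Hensel.mapsTo_minimalPrimes hq, GrothLib.Hensel.radical_map_comap_eq
    (GrothLib.Hensel.map_maximalIdeal_completion ψ hψ)
    (GrothLib.Hensel.completion_exists_sub_mem' ψ hψ) hq (fun h ↦ ?_) fun p hp hle ↦ ?_⟩
  · subst h
    let _ := Ideal.Quotient.field (IsLocalRing.maximalIdeal (AdicCompletion (IsLocalRing.maximalIdeal A) A))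
    rw [ringKrullDim_eq_zero_of_field] at hdim
    exact zero_ne_one hdim
  · have hd : Ring.KrullDimLE 1 (AdicCompletion (IsLocalRing.maximalIdeal A) A ⧸ q) :=
      Ring.krullDimLE_iff.mpr (by rw [hdim]; simp)
    have : (p.map (Ideal.Quotient.mk q)).IsPrime :=
      Ideal.map_isPrime_of_surjective Ideal.Quotient.mk_surjective (by rw [Ideal.mk_ker]; exact hle)
    have hc : (p.map (Ideal.Quotient.mk q)).comap (Ideal.Quotient.mk q) = p := by
      rw [Ideal.comap_map_of_surjective' _ Ideal.Quotient.mk_surjective, Ideal.mk_ker, sup_eq_left.mpr hle]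
    rcases Ring.krullDimLE_one_iff.mp hd _ this with hmin | hmax
    · left
      rw [← hc]
      have hb : p.map (Ideal.Quotient.mk q) = ⊥ :=
        le_antisymm (hmin.2 ⟨Ideal.isPrime_bot, bot_le⟩ bot_le) bot_le
      rw [hb, ← RingHom.ker_eq_comap_bot, Ideal.mk_ker]
    · right
      rw [← hc]
      exact IsLocalRing.eq_maximalIdeal (Ideal.comap_isMaximal_of_surjective _ Ideal.Quotient.mk_surjective)

end Groth.Agent.S9242
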