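import Groth.Statements.S9243
import Groth.Agent.Lib.Hensel.CompletionHens
-- import your own Groth.Agent.* helpers here

set_option autoImplicit false
universe u
open Brnch

namespace Groth.Agent.S9243

/-- Let A be a Noetherian local ring with henselization S and completion A^, and ψ : S → A^ the ring map
compatible with the structure maps from A. Then A and A^ have the same number of branches if and
only if, for every minimal prime q of S, the radical of the extension of q along ψ is a prime ideal
of A^. -/
theorem result (A S : Type u) [CommRing A] [IsLocalRing A]
    [IsNoetherianRing A] [CommRing S] [IsLocalRing S] [Algebra A S] [IsLocalHom (algebraMap A S)]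
    [Hensel.IsHenselization A S] (ψ : S →+* AdicCompletion (IsLocalRing.maximalIdeal A) A)
    (hψ : ψ.comp (algebraMap A S) = algebraMap A (AdicCompletion (IsLocalRing.maximalIdeal A) A)) :
    Brnch.numBranches A = Brnch.numBranches (AdicCompletion (IsLocalRing.maximalIdeal A) A) ↔
      ∀ q ∈ minimalPrimes S, (Ideal.map ψ q).radical.IsPrime := by
  let _ := ψ.toAlgebra
  have := GrothLib.Hensel.faithfullyFlat_completion ψ hψ
  rw [GrothLib.Hensel.numBranches_completion_eq,
    ← GrothLib.Hensel.IsHenselization.card_minimalPrimes (A := A) (S := S),
    GrothLib.Hensel.card_minimalPrimes_eq_iff_injOn, GrothLib.Hensel.injOn_iff_isPrime_radical]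
  rfl

end Groth.Agent.S9243
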