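import Groth.Statements.S9244
import Groth.Agent.S2811
import Groth.Agent.S4754
import Groth.Agent.S2046
import Groth.Agent.S9243
import Groth.Agent.S9230
import Groth.Agent.Lib.Hensel.CompletionHens
import Groth.Agent.Lib.Hensel.TensorIntegral
import Groth.Agent.Lib.Smoothing.Approx.GRing
import Groth.Agent.Lib.NormalIndEt.Basic
-- import your own Groth.Agent.* helpers here

set_option autoImplicit false
universe u
open Brnch

namespace Groth.Agent.S9244


section Aux

open IsLocalRing GrothLib.Hensel

theorem isPrime_radical_geom (A : Type u) [CommRing A] [IsLocalRing A] [IsNoetherianRing A]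
    (hA : EGA4.HasGeomNormalFormalFibres A) :
    Brnch.numGeomBranches (AdicCompletion (maximalIdeal A) A) = Brnch.numGeomBranches A := by
  let B := AdicCompletion (maximalIdeal A) A
  let T := StrictHens A
  let T' := StrictHens B
  haveI : IsNoetherianRing B := (GrothLib.Ratliff.isUniversallyCatenary_cpl (A := A)).1
  letI : Algebra A T' := ((algebraMap B T').comp (algebraMap A B)).toAlgebra
  haveI : IsScalarTower A B T' := IsScalarTower.of_algebraMap_eq fun _ => rfl
  haveI : IsLocalHom (algebraMap A T') := by
    rw [IsScalarTower.algebraMap_eq A B T']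
    infer_instance
  have hT : _root_.Hensel.IsStrictHenselization A T := inferInstance
  have hT' : _root_.Hensel.IsStrictHenselization B T' := inferInstance
  have := hT'.henselian
  have := hT.henselian
  have hsep := hT.isSepClosure
  have hsep' := hT'.isSepClosure
  have hbij : Function.Bijective (algebraMap (ResidueField A) (ResidueField B)) :=
    AdicCompletion.residueField_map_bijective A
  haveI : IsScalarTower (ResidueField A) (ResidueField B) (ResidueField T') :=
    IsScalarTower.of_algebraMap_eq fun x => by
      obtain ⟨a, rfl⟩ := residue_surjective x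
      rfl
  haveI : IsSepClosure (ResidueField A) (ResidueField T') := by
    refine ⟨hsep'.sep_closed, ⟨fun x => ?_⟩⟩
    have hxB := hsep'.separable.isSeparable' x
    let e : ResidueField A ≃+* ResidueField B := RingEquiv.ofBijective _ hbij
    have hm : (minpoly (ResidueField B) x).map e.symm.toRingHom |>.Separable :=
      Polynomial.Separable.map hxB
    refine Polynomial.Separable.of_dvd hm (minpoly.dvd _ _ ?_)
    rw [← Polynomial.aeval_map_algebraMap (ResidueField B), Polynomial.map_map]
    have : (algebraMap (ResidueField A) (ResidueField B)).comp e.symm.toRingHom = RingHom.id _ :=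
      RingHom.ext fun y => e.apply_symm_apply y
    rw [this, Polynomial.map_id, minpoly.aeval]
  let τ := IsSepClosure.equiv (ResidueField A) (ResidueField T) (ResidueField T')
  obtain ⟨g, hg⟩ := GrothLib.Hensel.IsStrictHenselization.exists_algHom (S := T) T' τ.toAlgHom
  letI : Algebra T T' := g.toRingHom.toAlgebra
  haveI : IsScalarTower A T T' := IsScalarTower.of_algebraMap_eq fun a => (g.commutes a).symm
  haveI := GrothLib.Hensel.IsStrictHenselization.faithfullyFlat (R := B) (S := T')
  haveI : Module.Flat A T' := Module.Flat.trans A B T'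
  haveI : Module.Flat T T' :=
    (GrothLib.Hensel.IsStrictHenselization.etaleStages (A := A) (S := T)).flat_of_restrictScalars _
  haveI hlocal : IsLocalHom (algebraMap T T') := ⟨fun x hx => by
    by_contra hu
    have h0 : residue T x = 0 := (residue_eq_zero_iff x).mpr hu
    exact (residue_ne_zero_iff_isUnit (g x)).mpr hx (by rw [hg, h0, map_zero])⟩
  haveI : Module.FaithfullyFlat T T' := .of_flat_of_isLocalHom
  have hmax : (maximalIdeal T).map (algebraMap T T') = maximalIdeal T' := by
    rw [← GrothLib.Hensel.IsStrictHenselization.map_maximalIdeal (R := A) (S := T), Ideal.map_map,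
      ← IsScalarTower.algebraMap_eq, IsScalarTower.algebraMap_eq A B T', ← Ideal.map_map,
      ← AdicCompletion.maximalIdeal_eq_map, GrothLib.Hensel.IsStrictHenselization.map_maximalIdeal]
  have hres : Function.Bijective (ResidueField.map (algebraMap T T')) := by
    have h1 : ∀ x, ResidueField.map (algebraMap T T') x = τ x := fun x => by
      obtain ⟨r, rfl⟩ := residue_surjective x
      rw [ResidueField.map_residue]
      exact hg r
    exact ⟨fun x y h => τ.injective (by rwa [h1, h1] at h), fun y => ⟨τ.symm y, by rw [h1, AlgEquiv.apply_symm_apply]⟩⟩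
  haveI : IsNoetherianRing T :=
    (GrothLib.Hensel.IsStrictHenselization.isNoetherianRing_iff (R := A) (S := T)).mp inferInstance
  haveI : IsNoetherianRing T' :=
    (GrothLib.Hensel.IsStrictHenselization.isNoetherianRing_iff (R := B) (S := T')).mp inferInstance
  -- the completion of `T'`
  let C := EGA4.Cpl T'
  haveI : IsNoetherianRing C := (GrothLib.Ratliff.isUniversallyCatenary_cpl (A := T')).1
  haveI : IsAdicComplete (maximalIdeal B) B := by
    rw [AdicCompletion.maximalIdeal_eq_map]
    exact AdicCompletion.isAdicComplete_self _ (maximalIdeal A).fg_of_isNoetherianRing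
  have hG : CAlg.IsGRing T' :=
    Groth.Agent.S2046.result (GrothLib.GRingComplete.isGRing_of_isAdicComplete B)
  have hC : CAlg.IsRegularHom T' C := Smoothing.Approx.isRegularHom_adicCompletion hG (maximalIdeal T')
  haveI : Module.Flat A B := AdicCompletion.flat_of_isNoetherian _
  have hAB : EGA4.IsNormalHom A B := ⟨inferInstance, hA⟩
  have hBT : EGA4.IsNormalHom B T' := GrothLib.NormalHom.isNormalHom_of_isRegularHom
    (GrothLib.Hensel.IsStrictHenselization.etaleStages (A := B) (S := T')).isRegularHom
  have hAC : EGA4.IsNormalHom A C :=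
    GrothLib.NormalHom.isNormalHom_comp (B := T') (GrothLib.NormalHom.isNormalHom_comp (B := B) hAB hBT)
      (GrothLib.NormalHom.isNormalHom_of_isRegularHom hC)
  obtain ⟨ψ, hψ⟩ := GrothLib.GeomReg.exists_completion_map T T'
  have hb := GrothLib.AdicExtra.bijective_completion ψ hψ hmax hres
  let e : EGA4.Cpl T ≃ₐ[T] C := AlgEquiv.ofBijective ({ ψ with
    commutes' := fun r => (RingHom.congr_fun hψ r).trans (IsScalarTower.algebraMap_apply T T' C r).symm } :
      EGA4.Cpl T →ₐ[T] C) hb
  have hTC : EGA4.HasGeomNormalFormalFibres T := fun q _ K _ _ hK => GrothLib.Excellent.isNormalRing_congr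
    (Algebra.TensorProduct.congr (AlgEquiv.refl : K ≃ₐ[q.ResidueField] K)
      (Algebra.TensorProduct.congr (AlgEquiv.refl : q.ResidueField ≃ₐ[q.ResidueField] q.ResidueField) e.symm)).toRingEquiv
    (GrothLib.NormalIndEt.isGeomNormal_fiber (GrothLib.Hensel.IsStrictHenselization.etaleStages (A := A) (S := T))
      hAC.2 q K hK)
  rw [← GrothLib.Hensel.IsStrictHenselization.card_minimalPrimes (A := A) (S := T),
    ← GrothLib.Hensel.IsStrictHenselization.card_minimalPrimes (A := B) (S := T'), eq_comm,
    card_minimalPrimes_eq_iff_injOn, injOn_iff_isPrime_radical]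
  intro q hq
  haveI := hq.1.1
  haveI : IsLocalRing (T ⧸ q) := IsLocalRing.of_surjective' (Ideal.Quotient.mk q) Ideal.Quotient.mk_surjective
  haveI : IsLocalHom (algebraMap T (T ⧸ q)) := IsLocalHom.of_surjective _ Ideal.Quotient.mk_surjective
  haveI : HenselianLocalRing (T ⧸ q) := GrothLib.Hensel.henselianLocalRing_of_isIntegral_isLocalHom (R := T)
  haveI : IsDomain (EGA4.Cpl (T ⧸ q)) :=
    Groth.Agent.S2811.result (T ⧸ q) (Groth.Agent.S4754.result T hTC q)
  obtain ⟨e'⟩ := GrothLib.Ratliff.exists_cpl_quot_equiv (A := T) q
  haveI : IsDomain (EGA4.Cpl T ⧸ q.map (algebraMap T (EGA4.Cpl T))) := MulEquiv.isDomain _ e'.symm.toMulEquiv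
  haveI hP : (q.map (algebraMap T (EGA4.Cpl T))).IsPrime := (Ideal.Quotient.isDomain_iff_prime _).1 inferInstance
  have hPC : ((q.map (algebraMap T T')).map (algebraMap T' C)).IsPrime := by
    rw [Ideal.map_map, ← IsScalarTower.algebraMap_eq, ← e.toAlgHom.comp_algebraMap, ← Ideal.map_map]
    exact Ideal.map_isPrime_of_equiv e.toRingEquiv
  haveI : Module.Flat T' C := hC.1
  haveI : Module.FaithfullyFlat T' C := .of_flat_of_isLocalHom
  have hq' : (q.map (algebraMap T T')).IsPrime := by
    rw [← Ideal.comap_map_eq_self_of_faithfullyFlat (B := C) (q.map (algebraMap T T'))]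
    exact hPC.comap _
  rwa [hq'.radical]

end Aux


/-- Let A be a Noetherian local ring all of whose formal fibres are geometrically normal (for example a
quasi-excellent local ring). Then A and its completion A^ have the same number of branches and the
same number of geometric branches. (The published statement also concludes that A is Nagata; this
row omits that conclusion.) -/
theorem result (A : Type u) [CommRing A]
    [IsLocalRing A] [IsNoetherianRing A] (hA : EGA4.HasGeomNormalFormalFibres A) :
    Brnch.numBranches (AdicCompletion (IsLocalRing.maximalIdeal A) A) = Brnch.numBranches A ∧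
      Brnch.numGeomBranches (AdicCompletion (IsLocalRing.maximalIdeal A) A) =
        Brnch.numGeomBranches A := by
  refine ⟨?_, isPrime_radical_geom A hA⟩
  obtain ⟨ψ, hψ⟩ := GrothLib.Hensel.exists_completion_hom (A := A) (S := GrothLib.Hensel.Hens A)
  let S := GrothLib.Hensel.Hens A
  haveI : IsNoetherianRing S :=
    (GrothLib.Hensel.IsHenselization.isNoetherianRing_iff (R := A) (S := S)).mp inferInstance
  haveI : HenselianLocalRing S := Hensel.IsHenselization.henselian (R := A)
  refine ((Groth.Agent.S9243.result A S ψ hψ).2 fun q hq => ?_).symm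
  haveI := hq.1.1
  haveI : IsLocalRing (S ⧸ q) := IsLocalRing.of_surjective' (Ideal.Quotient.mk q) Ideal.Quotient.mk_surjective
  haveI : IsLocalHom (algebraMap S (S ⧸ q)) := IsLocalHom.of_surjective _ Ideal.Quotient.mk_surjective
  haveI : HenselianLocalRing (S ⧸ q) := GrothLib.Hensel.henselianLocalRing_of_isIntegral_isLocalHom (R := S)
  have hS : EGA4.HasGeomNormalFormalFibres S := Groth.Agent.S9230.hasGeomNormalFormalFibres_henselization A S hA
  haveI : IsDomain (EGA4.Cpl (S ⧸ q)) :=
    Groth.Agent.S2811.result (S ⧸ q) (Groth.Agent.S4754.result S hS q)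
  obtain ⟨e'⟩ := GrothLib.Ratliff.exists_cpl_quot_equiv (A := S) q
  haveI : IsDomain (EGA4.Cpl S ⧸ q.map (algebraMap S (EGA4.Cpl S))) := MulEquiv.isDomain _ e'.symm.toMulEquiv
  haveI hP : (q.map (algebraMap S (EGA4.Cpl S))).IsPrime := (Ideal.Quotient.isDomain_iff_prime _).1 inferInstance
  obtain ⟨e⟩ := GrothLib.Hensel.IsHenselization.nonempty_completion_algEquiv A S
  have hcomp : ψ = e.symm.toRingEquiv.toRingHom.comp (algebraMap S (EGA4.Cpl S)) := by
    obtain ⟨g, -, hg⟩ := (inferInstance : Hensel.IsHenselization A S).universal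
      (AdicCompletion (IsLocalRing.maximalIdeal A) A) (algebraMap A _) inferInstance
    refine (hg ψ hψ).trans (hg _ (RingHom.ext fun a => ?_)).symm
    show e.symm (algebraMap S _ (algebraMap A S a)) = _
    rw [← IsScalarTower.algebraMap_apply]
    exact e.symm.commutes a
  have hprime : (q.map ψ).IsPrime := by
    rw [hcomp, ← Ideal.map_map]
    exact Ideal.map_isPrime_of_equiv e.symm.toRingEquiv
  rwa [hprime.radical]

end Groth.Agent.S9244
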