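import Groth.Statements.S9245
import Groth.Agent.Lib.Hensel.Noetherian
import Mathlib
-- import your own Groth.Agent.* helpers here

set_option autoImplicit false
universe u
open CAlg

namespace Groth.Agent.S9245

/-- For an étale ring map A → B and a prime q of B with contraction p in A, the localization A_p is a
Noetherian ring exactly when the localization B_q is. -/
theorem result (A B : Type u) [CommRing A] [CommRing B]
    [Algebra A B] [Algebra.Etale A B] (q : Ideal B) [q.IsPrime] :
    IsNoetherianRing (Localization.AtPrime (Ideal.comap (algebraMap A B) q)) ↔
      IsNoetherianRing (Localization.AtPrime q) := by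
  classical
  set p := Ideal.comap (algebraMap A B) q with hpdef
  let P := Localization.AtPrime p
  let Q := Localization.AtPrime q
  letI : Algebra P Q := (Localization.localRingHom p q (algebraMap A B) rfl).toAlgebra
  haveI : IsScalarTower A P Q := IsScalarTower.of_algebraMap_eq fun x => by
    show algebraMap A Q x = Localization.localRingHom p q (algebraMap A B) rfl (algebraMap A P x)
    rw [Localization.localRingHom_to_map, ← IsScalarTower.algebraMap_apply]
  haveI : IsLocalHom (algebraMap P Q) := Localization.isLocalHom_localRingHom p q (algebraMap A B) rfl
  constructor
  · intro hP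
    haveI : IsNoetherianRing P := hP
    haveI : Algebra.EssFiniteType B Q := Algebra.EssFiniteType.of_isLocalization Q q.primeCompl
    haveI : Algebra.EssFiniteType A Q := Algebra.EssFiniteType.comp A B Q
    haveI : Algebra.EssFiniteType P Q := Algebra.EssFiniteType.of_comp A P Q
    exact Algebra.EssFiniteType.isNoetherianRing P Q
  · intro hQ
    haveI : IsNoetherianRing Q := hQ
    haveI : Module.Flat B Q := IsLocalization.flat Q q.primeCompl
    haveI : Module.Flat A Q := Module.Flat.trans A B Q
    haveI : Module.Flat P Q := (Module.flat_iff_of_isLocalization P p.primeCompl Q).mpr inferInstance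
    haveI : Module.FaithfullyFlat P Q := Module.FaithfullyFlat.of_flat_of_isLocalHom
    exact GrothLib.Hensel.isNoetherianRing_of_faithfullyFlat P Q

end Groth.Agent.S9245
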