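import Groth.Statements.S9249
import Groth.Agent.Lib.Hensel.FibreLocal
import Groth.Agent.Lib.Hensel.CompletionHens
-- import your own Groth.Agent.* helpers here

set_option autoImplicit false
universe u
open CAlg

namespace Groth.Agent.S9249

/-- A Noetherian local ring is Cohen-Macaulay if and only if its completion is. -/
theorem result (A : Type u) [CommRing A] [IsLocalRing A]
    [IsNoetherianRing A] :
    LocCoh.IsCohenMacaulayLocalRing A ↔
      LocCoh.IsCohenMacaulayLocalRing (AdicCompletion (IsLocalRing.maximalIdeal A) A) := by
  have hflat : Module.Flat A (AdicCompletion (IsLocalRing.maximalIdeal A) A) := inferInstance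
  exact (GrothLib.Hensel.isCohenMacaulayLocalRing_iff_of_flat_of_map_eq
    (AdicCompletion.maximalIdeal_eq_map).symm).symm

end Groth.Agent.S9249
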