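import Groth.Statements.S9255
import Groth.Agent.Lib.GenFree.Presentation
import Groth.Agent.Lib.GeomReg.FG
import Groth.Agent.Lib.Serre.Ring

set_option autoImplicit false
universe u
open EGA4

namespace Groth.Agent.S9255

open TensorProduct in
theorem aux (R T : Type u) [CommRing R] [IsDomain R] [IsNoetherianRing R] [CommRing T] [IsDomain T] [Algebra R T]
    [Algebra.FiniteType R T] [IsRegularRing T] (hinj : Function.Injective (algebraMap R T)) :
    ∃ f : R, f ≠ 0 ∧ IsRegularRing (Localization.Away f) := by
  obtain ⟨f, -, hf, hfree, -⟩ := GrothLib.GenFree.exists_free_and_finitePresentation (R := R) T T 1 one_ne_zero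
  haveI := hfree
  let Rf := Localization.Away f
  haveI : IsRegularRing (T ⊗[R] Rf) :=
    GrothLib.GeomReg.isRegularRing_of_isLocalization (Algebra.algebraMapSubmonoid T (Submonoid.powers f)) _
  haveI : Nontrivial (T ⊗[R] Rf) := by
    refine (IsLocalization.injective (S := T ⊗[R] Rf) (M := Algebra.algebraMapSubmonoid T (Submonoid.powers f)) ?_).nontrivial
    rintro _ ⟨_, ⟨n, rfl⟩, rfl⟩
    refine mem_nonZeroDivisors_of_ne_zero fun hn => ?_
    rw [map_pow] at hn
    exact hf (hinj ((eq_zero_of_pow_eq_zero hn).trans (map_zero _).symm))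
  haveI : IsRegularRing (Rf ⊗[R] T) :=
    IsRegularRing.of_ringEquiv (R := T ⊗[R] Rf) (Algebra.TensorProduct.comm R T Rf).toRingEquiv
  haveI : Nontrivial (Rf ⊗[R] T) := (Algebra.TensorProduct.comm R T Rf).injective.nontrivial
  exact ⟨f, hf, GrothLib.Serre.isRegularRing_of_faithfullyFlat Rf (Rf ⊗[R] T)⟩

/-- Let R be a Noetherian domain and R → S an injective ring map of finite type with S a domain. If the
regular locus of Spec S contains a nonempty open subset, then the regular locus of Spec R contains a
nonempty open subset. -/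
theorem result (R S : Type u) [CommRing R]
    [IsDomain R] [IsNoetherianRing R] [CommRing S] [IsDomain S] [Algebra R S] [Algebra.FiniteType R S]
    (hinj : Function.Injective (algebraMap R S))
    (hS : ∃ U : Set (PrimeSpectrum S), IsOpen U ∧ U.Nonempty ∧ U ⊆ EGA4.regLocus S) :
    ∃ U : Set (PrimeSpectrum R), IsOpen U ∧ U.Nonempty ∧ U ⊆ EGA4.regLocus R := by
  obtain ⟨U, hUo, ⟨q0, hq0⟩, hU⟩ := hS
  obtain ⟨_, ⟨g, rfl⟩, hg0, hgU⟩ := PrimeSpectrum.isTopologicalBasis_basic_opens.exists_subset_of_mem_open hq0 hUo
  have hg : g ≠ 0 := fun h => hg0 (by rw [h]; exact q0.asIdeal.zero_mem)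
  let T := Localization.Away g
  haveI : IsNoetherianRing S := Algebra.FiniteType.isNoetherianRing R S
  haveI : IsDomain T := IsLocalization.isDomain_of_le_nonZeroDivisors (M := Submonoid.powers g) (S := T) (R := S)
    (powers_le_nonZeroDivisors_of_noZeroDivisors hg)
  haveI : IsNoetherianRing T := IsLocalization.isNoetherianRing (Submonoid.powers g) _ inferInstance
  haveI : Algebra.FiniteType S T := by
    have : Algebra.FinitePresentation S T := IsLocalization.Away.finitePresentation g
    infer_instance
  haveI : Algebra.FiniteType R T := Algebra.FiniteType.trans (S := S) ‹_› ‹_›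
  have hinjT : Function.Injective (algebraMap R T) := by
    rw [IsScalarTower.algebraMap_eq R S T]
    exact (IsLocalization.injective T (powers_le_nonZeroDivisors_of_noZeroDivisors hg)).comp hinj
  haveI : IsRegularRing T := by
    rw [isRegularRing_iff]
    intro Q _
    haveI : IsRegularLocalRing (Localization.AtPrime (Q.comap (algebraMap S T))) :=
      hU (hgU (show g ∉ Q.comap (algebraMap S T) from fun hmem => (inferInstance : Q.IsPrime).ne_top
        (Q.eq_top_of_isUnit_mem hmem (IsLocalization.Away.algebraMap_isUnit g))) : (⟨Q.comap (algebraMap S T), inferInstance⟩ : PrimeSpectrum S) ∈ U)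
    exact IsRegularLocalRing.of_ringEquiv (R := Localization.AtPrime (Q.comap (algebraMap S T)))
      (IsLocalization.localizationLocalizationAtPrimeIsoLocalization (Submonoid.powers g) Q).toRingEquiv
  obtain ⟨f, hf, hreg⟩ := aux R T hinjT
  refine ⟨PrimeSpectrum.basicOpen f, (PrimeSpectrum.basicOpen f).isOpen, ⟨⟨⊥, Ideal.isPrime_bot⟩, hf⟩, ?_⟩
  intro p hp
  let Rf := Localization.Away f
  obtain ⟨P, hP⟩ : p ∈ Set.range (PrimeSpectrum.comap (algebraMap R Rf)) := by
    rw [PrimeSpectrum.localization_away_comap_range Rf f]; exact hp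
  haveI : IsRegularLocalRing (Localization.AtPrime P.asIdeal) := isRegularRing_iff.1 hreg P.asIdeal
  subst hP
  exact IsRegularLocalRing.of_ringEquiv (R := Localization.AtPrime P.asIdeal)
    (IsLocalization.localizationLocalizationAtPrimeIsoLocalization (Submonoid.powers f) P.asIdeal).toRingEquiv.symm

end Groth.Agent.S9255
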