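import Groth.Statements.S9256
import Groth.Agent.Lib.GeomReg.Basic
-- import your own Groth.Agent.* helpers here

set_option autoImplicit false
universe u
open CAlg

namespace Groth.Agent.S9256
open TensorProduct

/-- For a field extension K of k, the ring map k → K is regular exactly when K is separable over k, that
is, geometrically reduced over k. -/
theorem result (k K : Type u) [Field k] [Field K]
    [Algebra k K] : CAlg.IsRegularHom k K ↔ Algebra.IsGeometricallyReduced k K := by
  rw [← GrothLib.GeomReg.isGeometricallyRegular_field_iff]
  constructor
  · intro h k' _ _ hk'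
    let p : Ideal k := ⊥
    have : p.IsPrime := Ideal.isPrime_bot
    let e := (p.algEquivResidueFieldOfField : k ≃ₐ[k] p.ResidueField)
    let _ : Algebra p.ResidueField k' := ((algebraMap k k').comp e.symm.toRingHom).toAlgebra
    have : IsScalarTower k p.ResidueField k' :=
      IsScalarTower.of_algebraMap_eq fun x => congrArg (algebraMap k k') (e.symm.commutes x).symm
    have hfin : Module.Finite p.ResidueField k' := Module.Finite.of_restrictScalars_finite k _ _
    have := (h.2 p).2 k' hfin
    exact IsRegularRing.of_ringEquiv (R := k' ⊗[p.ResidueField] (p.Fiber K))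
      (Algebra.TensorProduct.cancelBaseChange k p.ResidueField k' k' K).toRingEquiv
  · intro h
    refine ⟨inferInstance, fun p _ => ⟨?_, ?_⟩⟩
    · exact isNoetherianRing_of_ringEquiv K ((Algebra.TensorProduct.lid k K).symm.trans
        (Algebra.TensorProduct.congr (p.algEquivResidueFieldOfField : k ≃ₐ[k] p.ResidueField)
          AlgEquiv.refl)).toRingEquiv
    · intro k'' _ _ hk''
      let _ : Algebra k k'' := ((algebraMap p.ResidueField k'').comp (algebraMap k p.ResidueField)).toAlgebra
      have : IsScalarTower k p.ResidueField k'' := IsScalarTower.of_algebraMap_eq fun _ => rfl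
      have : Module.Finite k p.ResidueField :=
        Module.Finite.equiv (p.algEquivResidueFieldOfField : k ≃ₐ[k] p.ResidueField).toLinearEquiv
      have := h k'' (Module.Finite.trans p.ResidueField k'')
      exact IsRegularRing.of_ringEquiv (R := k'' ⊗[k] K)
        (Algebra.TensorProduct.cancelBaseChange k p.ResidueField k'' k'' K).symm.toRingEquiv

end Groth.Agent.S9256
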