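import Groth.Statements.S9257
import Groth.Agent.Lib.Excellent.QuotientFibres
import Groth.Agent.Lib.Excellent.Localization
import Groth.Agent.Lib.GeomReg.FiniteGRing
import Mathlib.RingTheory.AdicCompletion.AsTensorProduct
-- import your own Groth.Agent.* helpers here

set_option autoImplicit false
universe u
open CAlg

open IsLocalRing TensorProduct

set_option maxHeartbeats 1000000
set_option synthInstance.maxHeartbeats 400000

namespace Groth.Agent.S9257

/-- A Noetherian ring R is a G-ring exactly when, for all primes q ⊆ p of R, the completion of the local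
domain (R/q)_p tensored with its fraction field κ(q) is geometrically regular over κ(q). Here the
pairs q ⊆ p are enumerated as primes P of R/q. -/
theorem result (R : Type u) [CommRing R] [IsNoetherianRing R] :
    CAlg.IsGRing R ↔
      ∀ (q : Ideal R) [q.IsPrime] (P : Ideal (R ⧸ q)) [P.IsPrime],
        CAlg.IsGeometricallyRegular (⊥ : Ideal (Localization.AtPrime P)).ResidueField
          (EGA4.formalFibre (Localization.AtPrime P) (⊥ : Ideal (Localization.AtPrime P))) := by
  constructor
  · intro h q _ P _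
    haveI : Module.Finite R (R ⧸ q) := inferInstance
    exact (((GrothLib.GeomReg.isGRing_of_finite R (R ⧸ q) h).2 P).2 ⊥).2
  intro h
  refine ⟨inferInstance, fun p _ => ⟨AdicCompletion.flat_of_isNoetherian _, fun Q _ => ?_⟩⟩
  let A := Localization.AtPrime p
  let C := EGA4.Cpl A
  refine ⟨?_, fun K _ _ hK => ?_⟩
  · have : Algebra.EssFiniteType C (C ⊗[A] Q.ResidueField) := inferInstance
    let i1 : CommRing C := inferInstance
    let i2 : CommRing (C ⊗[A] Q.ResidueField) := inferInstance
    haveI : IsNoetherianRing C := inferInstance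
    haveI : IsNoetherianRing (C ⊗[A] Q.ResidueField) := Algebra.EssFiniteType.isNoetherianRing C _
    exact isNoetherianRing_of_ringEquiv _ (Algebra.TensorProduct.comm A C Q.ResidueField).toRingEquiv
  let q := Q.comap (algebraMap R A)
  have hqp : q ≤ p := by
    intro x hx
    by_contra hxp
    exact (Ideal.IsPrime.ne_top inferInstance : Q ≠ ⊤)
      (Ideal.eq_top_of_isUnit_mem _ hx (IsLocalization.map_units A (⟨x, hxp⟩ : p.primeCompl)))
  let P : Ideal (R ⧸ q) := p.map (Ideal.Quotient.mk q)
  have hker : RingHom.ker (Ideal.Quotient.mk q) ≤ p := Ideal.mk_ker.le.trans hqp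
  haveI : P.IsPrime := Ideal.map_isPrime_of_surjective Ideal.Quotient.mk_surjective hker
  have hPc : p = P.comap (Ideal.Quotient.mk q) := by
    rw [Ideal.comap_map_of_surjective _ Ideal.Quotient.mk_surjective, ← RingHom.ker_eq_comap_bot, sup_eq_left.2 hker]
  let D := Localization.AtPrime P
  let f : A →+* D := Localization.localRingHom p P (Ideal.Quotient.mk q) hPc
  have hf : ∀ r, f (algebraMap R A r) = algebraMap (R ⧸ q) D (Ideal.Quotient.mk q r) := fun r =>
    Localization.localRingHom_to_map _ _ _ hPc r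
  have hfs : Function.Surjective f := fun y => by
    obtain ⟨⟨x, s⟩, hxs⟩ := IsLocalization.surj P.primeCompl y
    obtain ⟨r, rfl⟩ := Ideal.Quotient.mk_surjective x
    obtain ⟨t, ht⟩ := Ideal.Quotient.mk_surjective (s : R ⧸ q)
    have htp : t ∈ p.primeCompl := fun htp => s.2 (by rw [← ht]; exact Ideal.mem_map_of_mem _ htp)
    refine ⟨IsLocalization.mk' A r ⟨t, htp⟩, ?_⟩
    refine (IsLocalization.map_units D s).mul_right_cancel ?_
    show f _ * algebraMap (R ⧸ q) D (s : R ⧸ q) = _
    rw [hxs]
    show f _ * _ = algebraMap (R ⧸ q) D (Ideal.Quotient.mk q r)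
    rw [← ht, ← hf, ← map_mul, IsLocalization.mk'_spec A r ⟨t, htp⟩, hf]
  haveI : Q.IsPrime := inferInstance
  have hfk : RingHom.ker f = Q := by
    ext a
    obtain ⟨⟨r, s⟩, hrs⟩ := IsLocalization.surj p.primeCompl a
    have hs : algebraMap R A (s : R) ∉ Q := fun hs =>
      (Ideal.IsPrime.ne_top inferInstance : Q ≠ ⊤) (Ideal.eq_top_of_isUnit_mem _ hs (IsLocalization.map_units A s))
    have hinj : Function.Injective (algebraMap (R ⧸ q) D) :=
      IsLocalization.injective D P.primeCompl_le_nonZeroDivisors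
    rw [RingHom.mem_ker]
    constructor
    · intro h0
      have h1 : algebraMap R A r ∈ Q := by
        have h2 := congrArg f hrs
        rw [map_mul, h0, zero_mul, hf] at h2
        exact (Ideal.Quotient.eq_zero_iff_mem.1 (hinj (h2.symm.trans (map_zero _).symm)) : r ∈ q)
      rw [← hrs] at h1
      exact (Ideal.IsPrime.mem_or_mem inferInstance h1).resolve_right hs
    · intro ha
      have h1 : r ∈ q := by
        show algebraMap R A r ∈ Q
        rw [← hrs]
        exact Ideal.mul_mem_right _ _ ha
      have h2 := congrArg f hrs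
      rw [map_mul, hf, hf, Ideal.Quotient.eq_zero_iff_mem.2 h1, map_zero] at h2
      refine ((IsUnit.mul_left_eq_zero ?_).1 h2)
      rw [← hf]
      exact (IsLocalization.map_units A s).map f
  haveI : IsLocalRing (A ⧸ Q) :=
    haveI : Nontrivial (A ⧸ Q) := Ideal.Quotient.nontrivial_iff.2 (Ideal.IsPrime.ne_top inferInstance)
    IsLocalRing.of_surjective' (Ideal.Quotient.mk Q) Ideal.Quotient.mk_surjective
  haveI : Nontrivial (A ⧸ Q) := Ideal.Quotient.nontrivial_iff.2 (Ideal.IsPrime.ne_top inferInstance)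
  let e : (A ⧸ Q) ≃+* D := (Ideal.quotEquivOfEq hfk.symm).trans (RingHom.quotientKerEquivOfSurjective hfs)
  have he : ∀ a : A, e (Ideal.Quotient.mk Q a) = f a := fun a => rfl
  letI : Algebra (A ⧸ Q) D := e.toRingHom.toAlgebra
  letI : Algebra A D := f.toAlgebra
  haveI : IsLocalization (⊥ : Submonoid (A ⧸ Q)) D := GrothLib.Excellent.isLocalization_bot_of_bijective e.bijective
  haveI : IsLocalHom (algebraMap (A ⧸ Q) D) := ⟨fun a ha => (isUnit_map_iff e a).1 ha⟩
  haveI : Module.Flat (A ⧸ Q) D := IsLocalization.flat D (⊥ : Submonoid (A ⧸ Q))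
  obtain ⟨ψ, hψ⟩ := GrothLib.GeomReg.exists_completion_map (A ⧸ Q) D
  have hψb : Function.Bijective ψ := by
    refine GrothLib.AdicExtra.bijective_completion ψ hψ
      (IsLocalRing.eq_maximalIdeal (Ideal.IsMaximal.map_bijective (algebraMap (A ⧸ Q) D) e.bijective (maximalIdeal.isMaximal _)))
      ⟨(ResidueField.map _).injective, fun y => ?_⟩
    obtain ⟨x, rfl⟩ := residue_surjective y
    obtain ⟨x, rfl⟩ := e.surjective x
    exact ⟨residue _ x, ResidueField.map_residue _ _⟩
  let eψ : EGA4.Cpl (A ⧸ Q) ≃ₐ[A ⧸ Q] EGA4.Cpl D := AlgEquiv.ofRingEquiv (f := RingEquiv.ofBijective ψ hψb) fun x => by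
    rw [IsScalarTower.algebraMap_apply (A ⧸ Q) D (EGA4.Cpl D)]
    exact RingHom.congr_fun hψ x
  letI : Algebra A K := ((algebraMap Q.ResidueField K).comp (algebraMap A Q.ResidueField)).toAlgebra
  haveI : IsScalarTower A Q.ResidueField K := IsScalarTower.of_algebraMap_eq fun _ => rfl
  letI : Algebra (A ⧸ Q) K := ((algebraMap Q.ResidueField K).comp (algebraMap (A ⧸ Q) Q.ResidueField)).toAlgebra
  haveI : IsScalarTower A (A ⧸ Q) K := IsScalarTower.of_algebraMap_eq fun a => by
    show algebraMap Q.ResidueField K (algebraMap A Q.ResidueField a) =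
      algebraMap Q.ResidueField K (algebraMap (A ⧸ Q) Q.ResidueField (algebraMap A (A ⧸ Q) a))
    rw [← IsScalarTower.algebraMap_apply A (A ⧸ Q) Q.ResidueField]
  letI : Algebra D K := ((algebraMap (A ⧸ Q) K).comp e.symm.toRingHom).toAlgebra
  haveI : IsScalarTower (A ⧸ Q) D K := IsScalarTower.of_algebraMap_eq fun x =>
    (congrArg (algebraMap (A ⧸ Q) K) (e.symm_apply_apply x)).symm
  haveI : IsScalarTower A D K := IsScalarTower.of_algebraMap_eq fun a => by
    show algebraMap A K a = algebraMap (A ⧸ Q) K (e.symm (f a))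
    rw [← he, e.symm_apply_apply]
    exact IsScalarTower.algebraMap_apply A (A ⧸ Q) K a
  haveI : IsScalarTower A (A ⧸ Q) D := IsScalarTower.of_algebraMap_eq fun a => rfl
  have hker0 : RingHom.ker (algebraMap D K) = ⊥ := (RingHom.injective_iff_ker_eq_bot _).1
    (((algebraMap Q.ResidueField K).injective.comp (by
      intro x y hxy
      exact Ideal.injective_algebraMap_quotient_residueField Q hxy)).comp e.symm.injective)
  let φ : (⊥ : Ideal D).ResidueField →ₐ[D] K := Ideal.ResidueField.liftₐ ⊥ (Algebra.ofId D K)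
    (fun x hx => by rw [Ideal.mem_bot] at hx; subst hx; simp)
    (fun a ha => isUnit_iff_ne_zero.2 fun h0 => ha (hker0.le h0))
  letI : Algebra (⊥ : Ideal D).ResidueField K := φ.toRingHom.toAlgebra
  haveI : IsScalarTower D (⊥ : Ideal D).ResidueField K := IsScalarTower.of_algebraMap_eq fun a => (φ.commutes a).symm
  haveI hbot : (⊥ : Ideal D).IsPrime := inferInstance
  have hbc : (⊥ : Ideal D).comap f = Q := hfk
  let θ := Ideal.ResidueField.mapₐ Q (⊥ : Ideal D) (Algebra.ofId A D) hbc.symm
  letI : Algebra Q.ResidueField (⊥ : Ideal D).ResidueField := θ.toRingHom.toAlgebra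
  haveI : IsScalarTower Q.ResidueField (⊥ : Ideal D).ResidueField K := IsScalarTower.of_algebraMap_eq' (by
    refine Ideal.ResidueField.ringHom_ext ?_
    refine RingHom.ext fun a => ?_
    show algebraMap Q.ResidueField K (algebraMap A Q.ResidueField a) =
      algebraMap (⊥ : Ideal D).ResidueField K (θ (algebraMap A Q.ResidueField a))
    rw [θ.commutes, ← IsScalarTower.algebraMap_apply A Q.ResidueField K,
      IsScalarTower.algebraMap_apply A D (⊥ : Ideal D).ResidueField, ← IsScalarTower.algebraMap_apply D (⊥ : Ideal D).ResidueField K,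
      ← IsScalarTower.algebraMap_apply A D K])
  haveI : Module.Finite (⊥ : Ideal D).ResidueField K := Module.Finite.of_restrictScalars_finite Q.ResidueField _ K
  haveI := h q P K inferInstance
  let i3 : CommRing (EGA4.Cpl D) := inferInstance
  let i5 : Algebra D (EGA4.Cpl D) := inferInstance
  let i4 : CommRing (K ⊗[D] EGA4.Cpl D) := inferInstance
  haveI : IsRegularRing (K ⊗[D] EGA4.Cpl D) := IsRegularRing.of_ringEquiv
    (R := K ⊗[(⊥ : Ideal D).ResidueField] EGA4.formalFibre D (⊥ : Ideal D))
    (Algebra.TensorProduct.cancelBaseChange D (⊥ : Ideal D).ResidueField K K (EGA4.Cpl D)).toRingEquiv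
  haveI : TensorProduct.CompatibleSMul (A ⧸ Q) D K (EGA4.Cpl D) :=
    IsLocalization.tensorProduct_compatibleSMul (⊥ : Submonoid (A ⧸ Q)) D K (EGA4.Cpl D)
  obtain ⟨e2⟩ := GrothLib.Excellent.exists_tensor_cpl_quotient_equiv Q K
  haveI : IsRegularRing (K ⊗[A] C) := IsRegularRing.of_ringEquiv (R := K ⊗[D] EGA4.Cpl D)
    (((Algebra.TensorProduct.equivOfCompatibleSMul (A ⧸ Q) D (A ⧸ Q) K (EGA4.Cpl D)).toRingEquiv.trans
      (Algebra.TensorProduct.congr (AlgEquiv.refl : K ≃ₐ[A ⧸ Q] K) eψ.symm).toRingEquiv).trans e2.toRingEquiv)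
  exact IsRegularRing.of_ringEquiv (R := K ⊗[A] C)
    (Algebra.TensorProduct.cancelBaseChange A Q.ResidueField K K C).symm.toRingEquiv

end Groth.Agent.S9257
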