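import Groth.Statements.S9258
import Mathlib
-- import your own Groth.Agent.* helpers here

set_option autoImplicit false
universe u
open CAlg

namespace Groth.Agent.S9258

/-- Suppose A → B is a local map of Noetherian local rings, B is complete, and A → B is formally smooth
for the adic topology of the maximal ideal of B. Then each derivation D of A extends to a derivation
D' of B, in the sense that D' restricted along A → B equals D followed by A → B. -/
theorem result (A B : Type u) [CommRing A]
    [CommRing B] [IsLocalRing A] [IsLocalRing B] [IsNoetherianRing A] [IsNoetherianRing B]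
    [Algebra A B] [IsLocalHom (algebraMap A B)]
    [IsAdicComplete (IsLocalRing.maximalIdeal B) B]
    (hfs : CAlgX.IsAdicFormallySmooth A B (IsLocalRing.maximalIdeal B)) (D : Derivation ℤ A A) :
    ∃ D' : Derivation ℤ B B, ∀ a : A, D' (algebraMap A B a) = algebraMap A B (D a) := by
  classical
  set m := IsLocalRing.maximalIdeal B with hm
  let P : ∀ n : ℕ, (B → B ⧸ m ^ n) → Prop := fun n d =>
    (∀ x y, d (x + y) = d x + d y) ∧
      (∀ x y, d (x * y) = Ideal.Quotient.mk _ x * d y + Ideal.Quotient.mk _ y * d x) ∧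
      ∀ a, d (algebraMap A B a) = Ideal.Quotient.mk _ (algebraMap A B (D a))
  have step : ∀ (n : ℕ) (d : { d // P n d }), ∃ d' : { d // P (n + 1) d },
      ∀ x, Ideal.Quotient.factor (Ideal.pow_le_pow_right n.le_succ) (d'.1 x) = d.1 x := by
    intro n ⟨d, hadd, hmul, halg⟩
    let red : (B ⧸ m ^ (n + 1)) →+* B ⧸ m ^ n := Ideal.Quotient.factor (Ideal.pow_le_pow_right n.le_succ)
    letI : Module (B ⧸ m ^ (n + 1)) (B ⧸ m ^ n) := Module.compHom _ red
    letI : Module (B ⧸ m ^ (n + 1))ᵐᵒᵖ (B ⧸ m ^ n) := Module.compHom _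
      ((RingHom.id (B ⧸ m ^ (n + 1))).fromOpposite mul_comm)
    haveI : IsCentralScalar (B ⧸ m ^ (n + 1)) (B ⧸ m ^ n) := ⟨fun s x => rfl⟩
    let i₁ : A →+* (TrivSqZeroExt (B ⧸ m ^ (n + 1)) (B ⧸ m ^ (n + 1))) :=
      { toFun := fun a => TrivSqZeroExt.inl (Ideal.Quotient.mk _ (algebraMap A B a)) +
          TrivSqZeroExt.inr (Ideal.Quotient.mk _ (algebraMap A B (D a)))
        map_one' := by ext <;> simp
        map_mul' := fun a b => by
          ext
          · simp
          · simp only [TrivSqZeroExt.snd_mul, TrivSqZeroExt.fst_add, TrivSqZeroExt.snd_add, TrivSqZeroExt.fst_inl, TrivSqZeroExt.fst_inr,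
              TrivSqZeroExt.snd_inl, TrivSqZeroExt.snd_inr, zero_add, add_zero,
              D.leibniz, smul_eq_mul, map_add, map_mul, MulOpposite.smul_eq_mul_unop,
              MulOpposite.unop_op]
            ring
        map_zero' := by ext <;> simp
        map_add' := fun a b => by
          ext <;> simp only [map_add, TrivSqZeroExt.fst_add, TrivSqZeroExt.snd_add, TrivSqZeroExt.fst_inl,
            TrivSqZeroExt.fst_inr, TrivSqZeroExt.snd_inl, TrivSqZeroExt.snd_inr, zero_add, add_zero] }
    have hi₁s : ∀ a, (i₁ a).snd = Ideal.Quotient.mk _ (algebraMap A B (D a)) := fun a => by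
      simp only [i₁, RingHom.coe_mk, MonoidHom.coe_mk, OneHom.coe_mk, TrivSqZeroExt.snd_add,
        TrivSqZeroExt.snd_inl, TrivSqZeroExt.snd_inr, zero_add]
    let F : (TrivSqZeroExt (B ⧸ m ^ (n + 1)) (B ⧸ m ^ (n + 1))) →+* (TrivSqZeroExt (B ⧸ m ^ (n + 1)) (B ⧸ m ^ n)) :=
      { toFun := fun z => TrivSqZeroExt.inl z.fst + TrivSqZeroExt.inr (red z.snd)
        map_one' := by ext <;> simp
        map_mul' := fun z w => by
          ext
          · simp
          · simp only [TrivSqZeroExt.snd_mul, TrivSqZeroExt.fst_add, TrivSqZeroExt.snd_add, TrivSqZeroExt.fst_inl, TrivSqZeroExt.fst_inr,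
              TrivSqZeroExt.snd_inl, TrivSqZeroExt.snd_inr, zero_add, add_zero, map_add,
              smul_eq_mul, MulOpposite.smul_eq_mul_unop, MulOpposite.unop_op, map_mul]
            change _ = red z.fst * red w.snd + red w.fst * red z.snd
            ring
        map_zero' := by ext <;> simp
        map_add' := fun z w => by ext <;> simp }
    letI : Algebra A (TrivSqZeroExt (B ⧸ m ^ (n + 1)) (B ⧸ m ^ (n + 1))) := i₁.toAlgebra
    letI : Algebra A (TrivSqZeroExt (B ⧸ m ^ (n + 1)) (B ⧸ m ^ n)) := (F.comp i₁).toAlgebra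
    let Fa : (TrivSqZeroExt (B ⧸ m ^ (n + 1)) (B ⧸ m ^ (n + 1))) →ₐ[A] (TrivSqZeroExt (B ⧸ m ^ (n + 1)) (B ⧸ m ^ n)) := { F with commutes' := fun _ => rfl }
    have hFsurj : Function.Surjective Fa := fun z => by
      obtain ⟨t, ht⟩ : ∃ t, red t = z.snd := Ideal.Quotient.factor_surjective _ z.snd
      refine ⟨TrivSqZeroExt.inl z.fst + TrivSqZeroExt.inr t, ?_⟩
      change TrivSqZeroExt.inl _ + TrivSqZeroExt.inr (red _) = z
      ext <;> simp [ht]
    have hFf : ∀ z, (Fa z).fst = z.fst := fun z => by simp [Fa, F]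
    have hFs : ∀ z, (Fa z).snd = red z.snd := fun z => by simp [Fa, F]
    have hJ : RingHom.ker Fa ^ 2 = ⊥ := by
      rw [pow_two, eq_bot_iff, Ideal.mul_le]
      intro z hz w hw
      have hz1 : z.fst = 0 := by rw [← hFf, RingHom.mem_ker.mp hz, TrivSqZeroExt.fst_zero]
      have hw1 : w.fst = 0 := by rw [← hFf, RingHom.mem_ker.mp hw, TrivSqZeroExt.fst_zero]
      rw [Ideal.mem_bot]
      ext <;> simp [hz1, hw1]
    have hone : d 1 = 0 := by
      have := hmul 1 1
      rw [one_mul, map_one, one_mul] at this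
      simpa using this
    have hzero : d 0 = 0 := by
      have := hadd 0 0
      rw [add_zero] at this
      simpa using this
    let θ : B →ₐ[A] (TrivSqZeroExt (B ⧸ m ^ (n + 1)) (B ⧸ m ^ n)) :=
      { toFun := fun x => TrivSqZeroExt.inl (Ideal.Quotient.mk _ x) + TrivSqZeroExt.inr (d x)
        map_one' := by ext <;> simp [hone]
        map_mul' := fun x y => by
          ext
          · simp
          · simp only [TrivSqZeroExt.snd_mul, TrivSqZeroExt.fst_add, TrivSqZeroExt.snd_add, TrivSqZeroExt.fst_inl, TrivSqZeroExt.fst_inr,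
              TrivSqZeroExt.snd_inl, TrivSqZeroExt.snd_inr, zero_add, add_zero, hmul,
              op_smul_eq_smul]
            change _ = red (Ideal.Quotient.mk (m ^ (n + 1)) x) • d y +
              red (Ideal.Quotient.mk (m ^ (n + 1)) y) • d x
            simp [red]
        map_zero' := by ext <;> simp [hzero]
        map_add' := fun x y => by ext <;> simp [hadd]
        commutes' := fun a => by
          rw [← Fa.commutes a]
          refine TrivSqZeroExt.ext ?_ ?_
          · rw [hFf]
            simp [RingHom.algebraMap_toAlgebra, i₁]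
          · rw [hFs]
            simp only [RingHom.algebraMap_toAlgebra, hi₁s]
            rw [TrivSqZeroExt.snd_add, TrivSqZeroExt.snd_inl, TrivSqZeroExt.snd_inr, zero_add, halg]
            exact (Ideal.Quotient.factor_mk _ _).symm }
    have hθf : ∀ x, (θ x).fst = Ideal.Quotient.mk _ x := fun x => by simp [θ]
    have hθs : ∀ x, (θ x).snd = d x := fun x => by simp [θ]
    let e := Ideal.quotientKerAlgEquivOfSurjective hFsurj
    obtain ⟨χ, hχ⟩ := hfs (TrivSqZeroExt (B ⧸ m ^ (n + 1)) (B ⧸ m ^ (n + 1))) (RingHom.ker Fa) hJ (e.symm.toAlgHom.comp θ) ⟨(n + 1) * 2, fun x hx => by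
      suffices θ x = 0 by rw [AlgHom.comp_apply, this, map_zero]
      have hsub : ∀ y ∈ m ^ (n + 1), (θ y).fst = 0 := fun y hy => by
        rw [hθf, Ideal.Quotient.eq_zero_iff_mem]; exact hy
      have h2 : (m ^ (n + 1) * m ^ (n + 1)) ≤ RingHom.ker θ := by
        rw [Ideal.mul_le]
        intro y hy z hz
        rw [RingHom.mem_ker, map_mul]
        refine TrivSqZeroExt.ext ?_ ?_ <;> simp [hsub y hy, hsub z hz]
      rw [pow_mul, pow_two] at hx
      exact RingHom.mem_ker.mp (h2 hx)⟩
    have hχ' : ∀ x, Fa (χ x) = θ x := fun x => by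
      have h := congr(e ($hχ x))
      rw [AlgHom.comp_apply, AlgHom.comp_apply] at h
      change e (Ideal.Quotient.mk _ (χ x)) = e (e.symm (θ x)) at h
      rw [AlgEquiv.apply_symm_apply] at h
      exact h
    have hfst : ∀ x, (χ x).fst = Ideal.Quotient.mk _ x := fun x =>
      by rw [← hFf, hχ', hθf]
    refine ⟨⟨fun x => (χ x).snd, fun x y => by simp, fun x y => ?_, fun a => ?_⟩, fun x => ?_⟩
    · change (χ (x * y)).snd = _
      rw [map_mul, TrivSqZeroExt.snd_mul, hfst, hfst, op_smul_eq_smul, smul_eq_mul, smul_eq_mul]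
    · change (χ (algebraMap A B a)).snd = _
      rw [χ.commutes]
      exact hi₁s a
    · change red (χ x).snd = d x
      rw [← hFs, hχ', hθs]
  choose next hnext using step
  have htriv : P 0 (fun _ => 0) := by
    refine ⟨fun _ _ => (add_zero _).symm, fun _ _ => by simp, fun a => ?_⟩
    symm
    rw [Ideal.Quotient.eq_zero_iff_mem, pow_zero, Ideal.one_eq_top]
    exact trivial
  let seq : ∀ n, { d // P n d } :=
    fun n => Nat.rec (motive := fun n => { d // P n d }) ⟨fun _ => 0, htriv⟩ (fun n d => next n d) n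
  have hcompat : ∀ {a b : ℕ} (hab : a ≤ b) x,
      Ideal.Quotient.factor (Ideal.pow_le_pow_right hab) ((seq b).1 x) = (seq a).1 x := by
    intro a b hab x
    induction hab with
    | refl => rw [Ideal.Quotient.factor_eq]; rfl
    | @step b hab ih =>
      rw [← ih, ← hnext b (seq b) x, Ideal.Quotient.factor_comp_apply]
  choose r hr using fun x n => Ideal.Quotient.mk_surjective (I := m ^ n) ((seq n).1 x)
  choose L hL using fun x => IsPrecomplete.prec (inferInstance : IsPrecomplete m B)
    (f := r x) (fun {a b} hab => by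
      rw [SModEq.sub_mem, smul_eq_mul, Ideal.mul_top, ← Ideal.Quotient.eq, hr]
      have := hcompat hab x
      rw [← hr x b, Ideal.Quotient.factor_mk] at this
      exact this.symm)
  have hL' : ∀ x n, Ideal.Quotient.mk (m ^ n) (L x) = (seq n).1 x := fun x n => by
    rw [← hr x n, Ideal.Quotient.eq, ← neg_sub]
    have := hL x n
    rw [SModEq.sub_mem, smul_eq_mul, Ideal.mul_top] at this
    exact (Ideal.neg_mem_iff _).mpr this
  have ext' : ∀ u v : B, (∀ n, Ideal.Quotient.mk (m ^ n) u = Ideal.Quotient.mk (m ^ n) v) → u = v :=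
    fun u v h => sub_eq_zero.mp <| IsHausdorff.haus (inferInstance : IsHausdorff m B) _ fun n => by
      rw [SModEq.zero, smul_eq_mul, Ideal.mul_top, ← Ideal.Quotient.eq]
      exact h n
  let L₀ : B →+ B := AddMonoidHom.mk' L fun x y => ext' _ _ fun n => by
    rw [map_add, hL', hL', hL']
    exact (seq n).2.1 x y
  refine ⟨Derivation.mk' L₀.toIntLinearMap fun x y => ext' _ _ fun n => ?_, fun a => ext' _ _ fun n => ?_⟩
  · change Ideal.Quotient.mk _ (L (x * y)) = Ideal.Quotient.mk _ (x * L y + y * L x)
    rw [map_add, map_mul, map_mul, hL', hL', hL']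
    exact (seq n).2.2.1 x y
  · change Ideal.Quotient.mk _ (L (algebraMap A B a)) = _
    rw [hL']
    exact (seq n).2.2.2 a

end Groth.Agent.S9258
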