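import Groth.Statements.S9260
import Mathlib.Algebra.MvPolynomial.Eval
import Mathlib.Algebra.Polynomial.BigOperators
import Mathlib.Algebra.Polynomial.Monic
import Mathlib.RingTheory.Invariant.Defs
import Mathlib.RingTheory.Ideal.Quotient.Operations
-- import your own Groth.Agent.* helpers here

set_option autoImplicit false
universe u
open CAlg

namespace Groth.Agent.S9260

/-- Suppose a finite group G with n elements acts on a ring R by ring automorphisms, A → R is a ring map
compatible with the action whose image contains the invariants (so that A maps onto R^G), J is an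
ideal of A, and x lies in JR. Then ∏_σ (T - σ(x)) is the image of a monic polynomial over A of
degree at most n whose coefficients below degree n all lie in J. (The published statement takes A =
R^G and a polynomial of degree n; this row allows any such A mapping onto R^G and asks degree at
most n, which is the same when A is nonzero.) -/
theorem result (A R G : Type u) [CommRing A]
    [CommRing R] [Algebra A R] [Group G] [Fintype G] [MulSemiringAction G R] [SMulCommClass G A R]
    [Algebra.IsInvariant A R G] (J : Ideal A) (x : R) (hx : x ∈ Ideal.map (algebraMap A R) J) :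
    ∃ P : Polynomial A, P.Monic ∧ P.natDegree ≤ Fintype.card G ∧
      (∀ i : ℕ, i < Fintype.card G → P.coeff i ∈ J) ∧
      Polynomial.map (algebraMap A R) P = ∏ σ : G, (Polynomial.X - Polynomial.C (σ • x)) := by
  classical
  rw [Ideal.map, ← Set.image_id' (_ '' _)] at hx
  obtain ⟨s, j, r, hj, hxs⟩ : ∃ (s : ℕ) (j : Fin s → A) (r : Fin s → R), (∀ k, j k ∈ J) ∧
      x = ∑ k, algebraMap A R (j k) * r k := by
    rw [Set.image_id'] at hx
    obtain ⟨s, c, g, rfl⟩ := Submodule.mem_span_set'.mp hx
    choose a ha hag using fun k => (g k).2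
    exact ⟨s, a, c, ha, Finset.sum_congr rfl fun k _ => by rw [hag, smul_eq_mul, mul_comm]⟩
  let n := Fintype.card G
  let φ : A →+* R := algebraMap A R
  let ev : MvPolynomial (Fin s) R →+* R := MvPolynomial.eval₂Hom (RingHom.id R) fun k => φ (j k)
  let Y : G → MvPolynomial (Fin s) R := fun σ => ∑ k, MvPolynomial.C (σ • r k) * MvPolynomial.X k
  let Q : Polynomial (MvPolynomial (Fin s) R) := ∏ σ : G, (Polynomial.X - Polynomial.C (Y σ))
  have hQev : Q.map ev = ∏ σ : G, (Polynomial.X - Polynomial.C (σ • x)) := by
    rw [Polynomial.map_prod]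
    refine Finset.prod_congr rfl fun σ _ => ?_
    rw [Polynomial.map_sub, Polynomial.map_X, Polynomial.map_C, hxs, Finset.smul_sum, map_sum ev]
    congr 2
    refine Finset.sum_congr rfl fun k _ => ?_
    rw [smul_mul', smul_algebraMap, map_mul]
    simp [ev, φ, mul_comm]
  have hQinv : ∀ i d, ∃ a : A, φ a = (Q.coeff i).coeff d := by
    intro i d
    refine Algebra.IsInvariant.isInvariant (G := G) _ fun τ => ?_
    let T : MvPolynomial (Fin s) R →+* MvPolynomial (Fin s) R :=
      MvPolynomial.map (MulSemiringAction.toRingHom G R τ)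
    have hQT : Q.map T = Q := by
      rw [Polynomial.map_prod]
      refine Fintype.prod_equiv (Equiv.mulLeft τ) _ _ fun σ => ?_
      simp [Y, T, map_sum, mul_smul, Polynomial.map_sum]
    have := congrArg (fun p : Polynomial (MvPolynomial (Fin s) R) => (p.coeff i).coeff d) hQT
    rw [Polynomial.coeff_map] at this
    rwa [MvPolynomial.coeff_map] at this
  have hQ0 : ∀ i < n, MvPolynomial.constantCoeff (Q.coeff i) = 0 := by
    intro i hi
    rw [← Polynomial.coeff_map, Polynomial.map_prod]
    simp only [Y, Polynomial.map_sub, Polynomial.map_X, Polynomial.map_sum, Polynomial.map_mul, Polynomial.map_C, map_sum, map_mul,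
      MvPolynomial.constantCoeff_X, mul_zero, Finset.sum_const_zero, map_zero, sub_zero,
      Finset.prod_const, Finset.card_univ, Polynomial.coeff_X_pow, if_neg hi.ne, n]
  have hpre : ∀ i, ∃ c : MvPolynomial (Fin s) A, MvPolynomial.map φ c = Q.coeff i := fun i => by
    rw [← Set.mem_range, MvPolynomial.mem_range_map_iff_coeffs_subset]
    intro a ha
    obtain ⟨d, -, rfl⟩ := MvPolynomial.mem_coeffs_iff.mp ha
    exact hQinv i d
  choose c hc using hpre
  let b : ℕ → A := fun i => MvPolynomial.eval j (c i) - MvPolynomial.constantCoeff (c i)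
  have hbJ : ∀ i, b i ∈ J := by
    intro i
    refine Ideal.Quotient.eq.mp ?_
    rw [← RingHom.comp_apply, ← RingHom.comp_apply]
    refine RingHom.congr_fun ?_ _
    refine MvPolynomial.ringHom_ext (fun a => by simp) fun k => ?_
    simp [Ideal.Quotient.eq_zero_iff_mem.mpr (hj k)]
  have hbmap : ∀ i < n, φ (b i) = (Q.map ev).coeff i := by
    intro i hi
    rw [Polynomial.coeff_map, map_sub, ← hc i]
    have h0 : φ (MvPolynomial.constantCoeff (c i)) = 0 := by
      rw [← MvPolynomial.constantCoeff_map, hc i, hQ0 i hi]
    rw [h0, sub_zero]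
    simp [ev, MvPolynomial.eval₂_map, ← MvPolynomial.coe_eval₂Hom, MvPolynomial.map_eval₂Hom, MvPolynomial.eval]
  refine ⟨Polynomial.X ^ n + ∑ i ∈ Finset.range n, Polynomial.C (b i) * Polynomial.X ^ i, ?_, ?_, ?_, ?_⟩
  · refine Polynomial.monic_X_pow_add ((Polynomial.degree_sum_le _ _).trans_lt ?_)
    refine (Finset.sup_lt_iff (WithBot.bot_lt_coe n)).mpr fun i hi => ?_
    exact (Polynomial.degree_C_mul_X_pow_le i (b i)).trans_lt (WithBot.coe_lt_coe.mpr (Finset.mem_range.mp hi))
  · refine Polynomial.natDegree_add_le_of_degree_le (Polynomial.natDegree_X_pow_le n) ?_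
    refine Polynomial.natDegree_sum_le_of_forall_le _ _ fun i hi => ?_
    exact (Polynomial.natDegree_C_mul_X_pow_le _ i).trans (Finset.mem_range.mp hi).le
  · intro i hi
    simp [Polynomial.coeff_X_pow, hi.ne, Finset.mem_range.mpr hi, n, hbJ, hi]
  · rw [← hQev]
    have hmon : (Q.map ev).Monic := (Polynomial.monic_prod_of_monic _ _ fun σ _ => Polynomial.monic_X_sub_C _).map ev
    rcases subsingleton_or_nontrivial R with hR | hR
    · exact Subsingleton.elim _ _
    have hdeg : (Q.map ev).natDegree = n := by
      rw [hQev, Polynomial.natDegree_prod_of_monic _ _ fun σ _ => Polynomial.monic_X_sub_C _]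
      simp [n]
    ext i
    rcases lt_trichotomy i n with hi | rfl | hi
    · rw [← hbmap i hi]
      simp [Polynomial.coeff_X_pow, hi.ne, hi, φ]
    · rw [← hdeg, hmon.coeff_natDegree, hdeg]
      simp [Polynomial.coeff_X_pow]
    · rw [Polynomial.coeff_eq_zero_of_natDegree_lt (p := Q.map ev) (hdeg.trans_lt hi)]
      simp [Polynomial.coeff_X_pow, hi.ne', hi.not_gt]

end Groth.Agent.S9260
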