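import Groth.Statements.S9261
import Mathlib
-- import your own Groth.Agent.* helpers here

set_option autoImplicit false
universe u
open CAlg

namespace Groth.Agent.S9261

open scoped TensorProduct

/-- Let G be a finite group acting on a ring R, S = R^G its ring of invariants (here: S → R injective
with image the invariants) and A a flat S-algebra. Then the map A → A ⊗_S R is injective with image
the invariants of G acting on A ⊗_S R through the second factor; that is, A → (A ⊗_S R)^G is an
isomorphism. -/
theorem result (S R A G : Type u) [CommRing S] [CommRing R] [Algebra S R]
    [FaithfulSMul S R] [Group G] [Finite G] [MulSemiringAction G R] [SMulCommClass G S R]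
    [Algebra.IsInvariant S R G] [CommRing A] [Algebra S A] [Module.Flat S A] :
    Function.Injective (algebraMap A (TensorProduct S A R)) ∧
      ∀ x : TensorProduct S A R,
        (∀ σ : G, Algebra.TensorProduct.map (AlgHom.id S A) (MulSemiringAction.toAlgHom S R σ) x = x) →
          x ∈ Set.range (algebraMap A (TensorProduct S A R)) := by
  have hi : Function.Injective (algebraMap S R) := FaithfulSMul.algebraMap_injective S R
  let e : A ≃ₗ[S] A ⊗[S] S := (TensorProduct.rid S A).symm
  have hcomp : ∀ a : A, algebraMap A (A ⊗[S] R) a = (Algebra.linearMap S R).lTensor A (e a) := by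
    intro a
    simp [e, Algebra.TensorProduct.algebraMap_apply]
  refine ⟨fun a b hab => ?_, fun x hx => ?_⟩
  · rw [hcomp, hcomp] at hab
    exact e.injective (Module.Flat.lTensor_preserves_injective_linearMap _ hi hab)
  · have := Fintype.ofFinite G
    classical
    let d : R →ₗ[S] (G → R) := LinearMap.pi fun σ : G =>
      (MulSemiringAction.toAlgHom S R σ).toLinearMap - LinearMap.id
    have hex : Function.Exact (Algebra.linearMap S R) d := by
      intro r
      refine ⟨fun h => ?_, ?_⟩
      · obtain ⟨s, hs⟩ := Algebra.IsInvariant.isInvariant (A := S) (G := G) r fun σ => by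
          have := congrFun h σ
          simpa [d, sub_eq_zero] using this
        exact ⟨s, hs⟩
      · rintro ⟨s, rfl⟩
        funext σ
        simp [d]
    have hexA := Module.Flat.lTensor_exact A hex
    have hdx : d.lTensor A x = 0 := by
      apply (TensorProduct.piRight S S A fun _ : G => R).injective
      rw [map_zero]
      funext σ
      have key : ∀ z : A ⊗[S] R, (TensorProduct.piRight S S A fun _ : G => R) (d.lTensor A z) σ =
          Algebra.TensorProduct.map (AlgHom.id S A) (MulSemiringAction.toAlgHom S R σ) z - z := by
        intro z
        induction z using TensorProduct.induction_on with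
        | zero => simp
        | tmul a r => simp [d, TensorProduct.tmul_sub]
        | add u v hu hv =>
          rw [map_add, map_add, map_add, Pi.add_apply, hu, hv]
          abel
      rw [key, hx, sub_self]
      rfl
    obtain ⟨w, hw⟩ := (hexA x).1 hdx
    exact ⟨e.symm w, by rw [hcomp, e.apply_symm_apply, hw]⟩

end Groth.Agent.S9261
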