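import Groth.Statements.S9262
import Groth.Agent.Lib.AdicExtra.Completion
import Groth.Agent.Lib.Hensel.Dim
import Groth.Agent.Lib.Hensel.Regular
-- import your own Groth.Agent.* helpers here

set_option autoImplicit false
universe u
open Hensel

namespace Groth.Agent.S9262

/-- Let R be a Noetherian local ring with henselization S and strict henselization T. Then R is a
discrete valuation ring exactly when S is one, and exactly when T is one. -/
theorem result (R S T : Type u)
    [CommRing R] [IsLocalRing R] [IsNoetherianRing R] [CommRing S] [IsLocalRing S] [Algebra R S]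
    [IsLocalHom (algebraMap R S)] [Hensel.IsHenselization R S] [CommRing T] [IsLocalRing T]
    [Algebra R T] [IsLocalHom (algebraMap R T)] [Hensel.IsStrictHenselization R T] :
    ((∃ _ : IsDomain R, IsDiscreteValuationRing R) ↔ (∃ _ : IsDomain S, IsDiscreteValuationRing S)) ∧
      ((∃ _ : IsDomain R, IsDiscreteValuationRing R) ↔
        (∃ _ : IsDomain T, IsDiscreteValuationRing T)) := by
  have : IsNoetherianRing S :=
    (GrothLib.Hensel.IsHenselization.isNoetherianRing_iff (R := R) (S := S)).mp ‹_›
  have : IsNoetherianRing T :=
    (GrothLib.Hensel.IsStrictHenselization.isNoetherianRing_iff (R := R) (S := T)).mp ‹_›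
  simp only [GrothLib.AdicExtra.exists_dvr_iff_regular_dim_one,
    GrothLib.Hensel.IsHenselization.ringKrullDim_eq (R := R) (S := S),
    GrothLib.Hensel.IsStrictHenselization.ringKrullDim_eq (R := R) (S := T),
    ← GrothLib.Hensel.IsHenselization.isRegularLocalRing_iff (R := R) (S := S),
    ← GrothLib.Hensel.IsStrictHenselization.isRegularLocalRing_iff (R := R) (S := T), and_self]

end Groth.Agent.S9262
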