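import Groth.Statements.S9263
import Groth.Agent.Lib.ExtCech.Basic

set_option autoImplicit false
universe u
attribute [local instance] HasDerivedCategory.standard
open CategoryTheory
open DerCA

namespace Groth.Agent.S9263

/-- Let R be a ring, f_1, ..., f_r elements of R such that some f_i is a unit, and M an R-module. Then
the extended alternating Cech complex of M with respect to f_1, ..., f_r is homotopy equivalent to
zero: its identity map is null-homotopic. -/
theorem result (R : Type u) [CommRing R] (fs : List R)
    (hf : ∃ f ∈ fs, IsUnit f) (M : ModuleCat.{u} R) :
    Nonempty (Homotopy (𝟙 (DerCA.extCech M fs)) 0) := by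
  exact (HomotopyCategory.isZero_quotient_obj_iff _).1 (GrothLib.ExtCech.contractible M fs hf)

end Groth.Agent.S9263
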