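import Groth.Statements.S9266
import Groth.Agent.Lib.ExtCech.Basic

set_option autoImplicit false
universe u
attribute [local instance] HasDerivedCategory.standard
open CategoryTheory
open DerCA

namespace Groth.Agent.S9266

/-- If some element f of the ideal (f_1, ..., f_r) acts invertibly on the module M, then the extended
alternating Cech complex of M with respect to f_1, ..., f_r has zero cohomology in every degree. -/
theorem result (R : Type u) [CommRing R] (fs : List R)
    (M : ModuleCat.{u} R) (f : R) (hf : f ∈ Ideal.span {a : R | a ∈ fs})
    (hbij : Function.Bijective (fun m : M => f • m)) (q : ℤ) :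
    Limits.IsZero (DerCA.extCechH fs M q) := by
  exact GrothLib.ExtCech.isZero_of_smul_bijective fs M f hf hbij q

end Groth.Agent.S9266
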