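import Groth.Statements.S9268
import Mathlib
import Groth.Agent.Lib.AdicFSFlat.Criterion
import Groth.Agent.Lib.LocProp.AtPrime
import Groth.Agent.S4578

set_option autoImplicit false
universe u
open CAlg

namespace Groth.Agent.S9268

open TensorProduct IsLocalRing in
theorem formallySmooth_of_adic (k D : Type u) [Field k] [CommRing D] [Algebra k D] [IsLocalRing D]
    [Algebra.EssFiniteType k D] (h : CAlgX.IsAdicFormallySmooth k D (IsLocalRing.maximalIdeal D)) :
    Algebra.FormallySmooth k D := by
  let S₀ := Algebra.EssFiniteType.subalgebra k D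
  let M := Algebra.EssFiniteType.submonoid k D
  haveI : IsLocalization M D := Algebra.EssFiniteType.isLocalization k D
  let P : Ideal S₀ := (IsLocalRing.maximalIdeal D).comap (algebraMap S₀ D)
  haveI : IsLocalization.AtPrime D P := by
    refine IsLocalization.of_le M P.primeCompl (fun x hx hP => ?_) fun x hx => ?_
    · exact hP (IsLocalization.map_units D ⟨x, hx⟩)
    · by_contra hu
      exact hx hu
  let e : Localization.AtPrime P ≃ₐ[k] D :=
    (IsLocalization.algEquiv P.primeCompl (Localization.AtPrime P) D).restrictScalars k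
  have h' : CAlgX.IsAdicFormallySmooth k (Localization.AtPrime P)
      (IsLocalRing.maximalIdeal (Localization.AtPrime P)) := by
    intro T _ _ J hJ ψ hψ
    obtain ⟨t, ht⟩ := hψ
    obtain ⟨χ, hχ⟩ := h T J hJ (ψ.comp e.symm.toAlgHom) ⟨t, fun x hx => ht _ (by
      have h1 := Ideal.mem_map_of_mem e.symm.toRingEquiv.toRingHom hx
      rw [Ideal.map_pow] at h1
      refine Ideal.pow_right_mono (Ideal.map_le_iff_le_comap.2 fun y hy => ?_) t h1
      rw [Ideal.mem_comap, IsLocalRing.mem_maximalIdeal, mem_nonunits_iff]
      exact fun hu => (IsLocalRing.mem_maximalIdeal y).1 hy ((MulEquiv.isUnit_map e.symm).1 hu))⟩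
    exact ⟨χ.comp e.toAlgHom, AlgHom.ext fun x => by
      have := DFunLike.congr_fun hχ (e x)
      simpa using this⟩
  haveI : Algebra.FormallySmooth k (Localization.AtPrime P) :=
    ((Groth.Agent.S4578.result (k₀ := k) (k := k) P).out 1 0).1 h'
  exact Algebra.FormallySmooth.of_equiv e

open TensorProduct


/-- Suppose A is a Noetherian ring and B is a finitely generated A-algebra, and consider a prime q of B
lying over p in A. Then A → B is smooth at q (meaning some g not in q makes A → B_g smooth) exactly
when the induced map A_p → B_q is formally smooth with respect to the adic topology defined by the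
maximal ideal of B_q. -/
theorem result (A B : Type u) [CommRing A] [IsNoetherianRing A]
    [CommRing B] [Algebra A B] [Algebra.FiniteType A B] (q : Ideal B) [q.IsPrime] :
    (∃ g : B, g ∉ q ∧ Algebra.Smooth A (Localization.Away g)) ↔
      letI := (Localization.localRingHom (Ideal.comap (algebraMap A B) q) q (algebraMap A B) rfl).toAlgebra
      CAlgX.IsAdicFormallySmooth (Localization.AtPrime (Ideal.comap (algebraMap A B) q))
        (Localization.AtPrime q) (IsLocalRing.maximalIdeal (Localization.AtPrime q)) := by
  let p := Ideal.comap (algebraMap A B) q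
  haveI : q.LiesOver p := ⟨rfl⟩
  haveI : IsNoetherianRing B := Algebra.FiniteType.isNoetherianRing A B
  haveI : IsNoetherianRing (Localization.AtPrime q) := IsLocalization.isNoetherianRing q.primeCompl _ inferInstance
  haveI : Algebra.FinitePresentation A B := Algebra.FinitePresentation.of_finiteType.mp inferInstance
  letI := (Localization.localRingHom p q (algebraMap A B) rfl).toAlgebra
  let Ap := Localization.AtPrime p
  let Bq := Localization.AtPrime q
  haveI : IsScalarTower A Ap Bq := IsScalarTower.of_algebraMap_eq fun a => by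
    show _ = Localization.localRingHom p q (algebraMap A B) rfl (algebraMap A Ap a)
    rw [Localization.localRingHom_to_map, ← IsScalarTower.algebraMap_apply]
  haveI : Localization.AtPrime.IsLiesOverAlgebra p q := ⟨rfl⟩
  haveI : IsLocalHom (algebraMap Ap Bq) := Localization.isLocalHom_localRingHom p q _ rfl
  constructor
  · rintro ⟨g, hg, hsm⟩
    haveI : Algebra.IsSmoothAt A q := Algebra.basicOpen_subset_smoothLocus_iff_smooth.mpr hsm
      (show (⟨q, inferInstance⟩ : PrimeSpectrum B) ∈ PrimeSpectrum.basicOpen g from hg)
    haveI : Algebra.FormallyEtale A Ap := .of_isLocalization p.primeCompl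
    haveI : Algebra.FormallySmooth Ap Bq := Algebra.FormallySmooth.iff_restrictScalars (R := A).mp inferInstance
    exact fun T _ _ J hJ ψ _ =>
      ⟨Algebra.FormallySmooth.lift J ⟨2, hJ⟩ ψ, Algebra.FormallySmooth.comp_lift J ⟨2, hJ⟩ ψ⟩
  · intro h
    haveI : Module.Flat Ap Bq := (GrothLib.AdicFSFlat.isAdicFormallySmooth_iff.2 h).1
    let κ := IsLocalRing.ResidueField Ap
    let D := κ ⊗[Ap] Bq
    have hbc := GrothLib.AdicFSLoc.baseChange h κ
    let i : Bq →ₐ[Ap] D := Algebra.TensorProduct.includeRight
    have hsurj : Function.Surjective i := fun z => by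
      induction z using TensorProduct.induction_on with
      | zero => exact ⟨0, map_zero i⟩
      | add x y hx hy =>
        obtain ⟨a, rfl⟩ := hx
        obtain ⟨b, rfl⟩ := hy
        exact ⟨a + b, map_add i a b⟩
      | tmul c b =>
        obtain ⟨a, rfl⟩ := IsLocalRing.residue_surjective c
        refine ⟨a • b, ?_⟩
        show (1 : κ) ⊗ₜ[Ap] (a • b) = _
        rw [TensorProduct.tmul_smul, TensorProduct.smul_tmul', Algebra.smul_def, mul_one]
        rfl
    haveI : Algebra.EssFiniteType Ap Bq := Algebra.EssFiniteType.of_comp A Ap Bq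
    haveI : Nontrivial D := (Algebra.TensorProduct.lift (IsScalarTower.toAlgHom Ap κ (IsLocalRing.ResidueField Bq))
      (IsScalarTower.toAlgHom Ap Bq (IsLocalRing.ResidueField Bq)) fun _ _ => Commute.all _ _).toRingHom.domain_nontrivial
    haveI : IsLocalRing D := IsLocalRing.of_surjective' i.toRingHom hsurj
    have hmax : (IsLocalRing.maximalIdeal Bq).map i ≤ IsLocalRing.maximalIdeal D := by
      haveI : IsLocalHom i.toRingHom := Function.Surjective.isLocalHom _ hsurj
      exact Ideal.map_le_iff_le_comap.2 fun x hx hu => hx ((isUnit_map_iff i.toRingHom x).1 hu)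
    haveI : Algebra.FormallySmooth κ D :=
      formallySmooth_of_adic κ D (GrothLib.AdicFSLoc.mono hbc hmax)
    haveI : Algebra.IsSmoothAt A q := GrothLib.LocProp.isSmoothAt_of_flat p q
    exact Algebra.IsSmoothAt.exists_notMem_smooth A q

end Groth.Agent.S9268
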