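import Groth.Statements.S9271
import Mathlib
import Groth.Agent.Lib.QRegNil.Flat
-- import your own Groth.Agent.* helpers here

set_option autoImplicit false
universe u
open CAlg

open scoped TensorProduct

namespace Groth.Agent.S9271

/-- Suppose A' → B' is a flat ring map of finite presentation (smooth maps being one example), and let I
be a locally nilpotent ideal of A', with A = A'/I and B = B'/IB'. Let f'_1, ..., f'_r be elements of
B' whose images f_1, ..., f_r in B form a quasi-regular sequence with B/(f_1, ..., f_r) smooth over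
A. Then B'/(f'_1, ..., f'_r) is smooth over A'. -/
theorem result (A' B' : Type u) [CommRing A']
    [CommRing B'] [Algebra A' B'] [Module.Flat A' B'] [Algebra.FinitePresentation A' B']
    (I : Ideal A') (hI : ∀ x ∈ I, IsNilpotent x) (r : ℕ) (f' : Fin r → B')
    (hq : CAlgX.IsQuasiRegular
      (fun i => Ideal.Quotient.mk (Ideal.map (algebraMap A' B') I) (f' i)))
    (hsm : Algebra.Smooth (A' ⧸ I)
      ((B' ⧸ Ideal.map (algebraMap A' B') I) ⧸
        Ideal.span (Set.range (fun i => Ideal.Quotient.mk (Ideal.map (algebraMap A' B') I) (f' i))))) :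
    Algebra.Smooth A' (B' ⧸ Ideal.span (Set.range f')) := by
  set C := B' ⧸ Ideal.span (Set.range f') with hC
  set IB := Ideal.map (algebraMap A' B') I with hIB
  haveI : Module.Flat A' C := GrothLib.QRegNil.flat_quot_of_quasiRegular_mod_nil I hI f' hq (by
    haveI := hsm
    exact inferInstance)
  haveI : Algebra.FinitePresentation A' C :=
    Algebra.FinitePresentation.quotient (Submodule.fg_span (Set.finite_range f'))
  -- `(A'/I) ⊗ C` is the given smooth algebra
  let D := (B' ⧸ IB) ⧸ Ideal.span (Set.range fun i => Ideal.Quotient.mk IB (f' i))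
  have hJ : Ideal.span (Set.range fun i => Ideal.Quotient.mk IB (f' i)) =
      (Ideal.span (Set.range f')).map (Ideal.Quotient.mk IB) := by
    rw [Ideal.map_span, ← Set.range_comp]; rfl
  have hI' : IB.map (Ideal.Quotient.mk (Ideal.span (Set.range f'))) = I.map (algebraMap A' C) := by
    rw [hIB, Ideal.map_map]; rfl
  let e₀ : D ≃+* (A' ⧸ I) ⊗[A'] C :=
    (Ideal.quotEquivOfEq hJ).trans ((DoubleQuot.quotQuotEquivComm IB (Ideal.span (Set.range f'))).trans
      ((Ideal.quotEquivOfEq hI').trans
        ((Algebra.TensorProduct.quotIdealMapEquivTensorQuot C I).toRingEquiv.trans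
          (Algebra.TensorProduct.comm A' C (A' ⧸ I)).toRingEquiv)))
  let e : D ≃ₐ[A' ⧸ I] (A' ⧸ I) ⊗[A'] C := AlgEquiv.ofRingEquiv (f := e₀) fun c => by
    obtain ⟨a, rfl⟩ := Ideal.Quotient.mk_surjective c
    show (Algebra.TensorProduct.comm A' C (A' ⧸ I))
      (Algebra.TensorProduct.quotIdealMapEquivTensorQuot C I (Ideal.Quotient.mk _ (algebraMap A' C a))) = _
    rw [Algebra.TensorProduct.quotIdealMapEquivTensorQuot_mk, Algebra.TensorProduct.comm_tmul,
      Algebra.TensorProduct.algebraMap_apply, Algebra.algebraMap_self, RingHom.id_apply,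
      Algebra.algebraMap_eq_smul_one (A := C), TensorProduct.tmul_smul, TensorProduct.smul_tmul',
      ← Algebra.algebraMap_eq_smul_one]
    rfl
  haveI : Algebra.Smooth (A' ⧸ I) D := hsm
  haveI : Algebra.Smooth (A' ⧸ I) ((A' ⧸ I) ⊗[A'] C) := Algebra.Smooth.of_equiv e
  refine Algebra.Smooth.of_formallySmooth_fiber fun p hp => ?_
  have hIp : ∀ x ∈ I, algebraMap A' p.ResidueField x = 0 := fun x hx => by
    obtain ⟨m, hm⟩ := hI x hx
    exact eq_zero_of_pow_eq_zero (n := m) (by rw [← map_pow, hm, map_zero])
  letI : Algebra (A' ⧸ I) p.ResidueField := (Ideal.Quotient.lift I (algebraMap A' p.ResidueField) hIp).toAlgebra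
  haveI : IsScalarTower A' (A' ⧸ I) p.ResidueField := IsScalarTower.of_algebraMap_eq fun a => rfl
  haveI : Algebra.FormallySmooth p.ResidueField (p.ResidueField ⊗[A' ⧸ I] ((A' ⧸ I) ⊗[A'] C)) := inferInstance
  exact Algebra.FormallySmooth.of_equiv
    (Algebra.TensorProduct.cancelBaseChange A' (A' ⧸ I) p.ResidueField p.ResidueField C)

end Groth.Agent.S9271
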