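import Groth.Statements.S9272
import Groth.Agent.Lib.SeqKinds.BaseChange

set_option autoImplicit false
universe u
open CAlgX

namespace Groth.Agent.S9272

/-- Let A → B and A → A' be ring maps and B' = A' ⊗_A B. If f_1, ..., f_r is a quasi-regular sequence in
B with B/(f_1, ..., f_r) flat over A, then the images of the f_i in B' form a quasi-regular
sequence. -/
theorem result (A B A' : Type u) [CommRing A] [CommRing B]
    [CommRing A'] [Algebra A B] [Algebra A A'] (r : ℕ) (f : Fin r → B)
    (hflat : Module.Flat A (B ⧸ Ideal.span (Set.range f))) (hq : CAlgX.IsQuasiRegular f) :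
    CAlgX.IsQuasiRegular (fun i => ((1 : A') ⊗ₜ[A] f i : TensorProduct A A' B)) := by
  haveI := hflat
  exact GrothLib.SeqKinds.isQuasiRegular_baseChange A' f hq

end Groth.Agent.S9272
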