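import Groth.Statements.S9274
import Groth.Agent.Lib.GeomReg.FiniteGRing
import Groth.Agent.Lib.GeomReg.Local
import Groth.Agent.Lib.Excellent.FormalFibres
import Groth.Agent.Lib.AdicExtra.Local
import Groth.Agent.Lib.AdicExtra.FiniteAlg
import Mathlib.RingTheory.AdicCompletion.AsTensorProduct
import Mathlib.RingTheory.AdjoinRoot
-- import your own Groth.Agent.* helpers here

set_option autoImplicit false
universe u
open CAlg

open IsLocalRing TensorProduct

set_option maxHeartbeats 2000000
set_option synthInstance.maxHeartbeats 100000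

namespace Groth.Agent.S9274

/-- Regularity at a prime of a base change can be checked after localising the base. -/
theorem isRegularLocalRing_localization_tensor {S T K : Type u} [CommRing S] [CommRing T] [CommRing K] [Algebra S T]
    [Algebra S K] (M : Ideal T) [M.IsPrime] (N : Ideal (T ⊗[S] K)) [N.IsPrime]
    (hNM : N.comap (algebraMap T (T ⊗[S] K)) ≤ M) [IsRegularRing (K ⊗[S] Localization.AtPrime M)] :
    IsRegularLocalRing (Localization.AtPrime N) := by
  let L := (T ⊗[S] K) ⊗[T] Localization.AtPrime M
  have : IsRegularRing L :=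
    IsRegularRing.of_ringEquiv (R := K ⊗[S] Localization.AtPrime M)
      ((Algebra.TensorProduct.comm T (T ⊗[S] K) (Localization.AtPrime M)).toRingEquiv.trans
        ((Algebra.TensorProduct.cancelBaseChange S T (Localization.AtPrime M) (Localization.AtPrime M) K).toRingEquiv.trans
          (Algebra.TensorProduct.comm S (Localization.AtPrime M) K).toRingEquiv)).symm
  let Nc := Algebra.algebraMapSubmonoid (T ⊗[S] K) M.primeCompl
  have hdisj : Disjoint (Nc : Set (T ⊗[S] K)) N := by
    rw [Set.disjoint_left]
    rintro _ ⟨x, hx, rfl⟩ hN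
    exact hx (hNM hN)
  set P := N.map (algebraMap (T ⊗[S] K) L) with hPdef
  have : P.IsPrime := IsLocalization.isPrime_of_isPrime_disjoint Nc L N inferInstance hdisj
  have hPN : P.comap (algebraMap (T ⊗[S] K) L) = N :=
    IsLocalization.comap_map_of_isPrime_disjoint Nc L inferInstance hdisj
  have : IsRegularLocalRing (Localization.AtPrime P) := IsRegularRing.isRegularLocalRing_localization P
  have : IsLocalization.AtPrime (Localization.AtPrime P) N := by
    have := IsLocalization.isLocalization_isLocalization_atPrime_isLocalization Nc (Localization.AtPrime P) P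
    simpa [hPN] using this
  exact IsRegularLocalRing.of_ringEquiv (R := Localization.AtPrime P)
    (IsLocalization.algEquiv N.primeCompl (Localization.AtPrime P) _).toRingEquiv

/-- For a Noetherian ring R, being a G-ring is equivalent to the following: whenever S is an R-algebra
that is finite and free as an R-module, every formal fibre of every local ring of S is a regular
ring. -/
theorem result (R : Type u) [CommRing R] [IsNoetherianRing R] :
    CAlg.IsGRing R ↔
      ∀ (S : Type u) [CommRing S] [Algebra R S] [Module.Finite R S] [Module.Free R S]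
        (q : Ideal S) [q.IsPrime] (p : Ideal (Localization.AtPrime q)) [p.IsPrime],
        IsRegularRing (EGA4.formalFibre (Localization.AtPrime q) p) := by
  constructor
  · intro h S _ _ _ _ q _ p' _
    exact GrothLib.Excellent.isRegularRing_of_isGeometricallyRegular
      (((GrothLib.GeomReg.isGRing_of_finite R S h).2 q).2 p').2
  intro h
  refine ⟨inferInstance, fun p _ => ⟨AdicCompletion.flat_of_isNoetherian _, fun Q _ => ?_⟩⟩
  let A := Localization.AtPrime p
  let C := EGA4.Cpl A
  refine ⟨?_, fun K _ _ hK => ?_⟩
  · have : Algebra.EssFiniteType C (C ⊗[A] Q.ResidueField) := inferInstance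
    let i1 : CommRing C := inferInstance
    let i2 : CommRing (C ⊗[A] Q.ResidueField) := inferInstance
    haveI : IsNoetherianRing (C ⊗[A] Q.ResidueField) := Algebra.EssFiniteType.isNoetherianRing C _
    exact isNoetherianRing_of_ringEquiv _ (Algebra.TensorProduct.comm A C Q.ResidueField).toRingEquiv
  let q := Q.comap (algebraMap R A)
  -- the residue field does not change under localisation
  letI : Algebra q.ResidueField Q.ResidueField :=
    (Ideal.ResidueField.mapₐ q Q (Algebra.ofId R A) rfl).toRingHom.toAlgebra
  haveI : IsScalarTower R q.ResidueField Q.ResidueField := IsScalarTower.of_algebraMap_eq fun x =>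
    ((Ideal.ResidueField.mapₐ q Q (Algebra.ofId R A) rfl).commutes x).symm
  have hbij : Function.Bijective (algebraMap q.ResidueField Q.ResidueField) :=
    RingHom.SurjectiveOnStalks.residueFieldMap_bijective
      (RingHom.surjectiveOnStalks_of_isLocalization (M := p.primeCompl) A) q Q rfl
  haveI : Module.Finite q.ResidueField Q.ResidueField :=
    Module.Finite.of_surjective (Algebra.linearMap q.ResidueField Q.ResidueField) hbij.2
  letI : Algebra A K := ((algebraMap Q.ResidueField K).comp (algebraMap A Q.ResidueField)).toAlgebra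
  haveI : IsScalarTower A Q.ResidueField K := IsScalarTower.of_algebraMap_eq fun _ => rfl
  letI : Algebra R K := ((algebraMap A K).comp (algebraMap R A)).toAlgebra
  haveI : IsScalarTower R A K := IsScalarTower.of_algebraMap_eq fun _ => rfl
  letI : Algebra q.ResidueField K :=
    ((algebraMap Q.ResidueField K).comp (algebraMap q.ResidueField Q.ResidueField)).toAlgebra
  haveI : IsScalarTower q.ResidueField Q.ResidueField K := IsScalarTower.of_algebraMap_eq fun _ => rfl
  haveI : IsScalarTower R q.ResidueField K := IsScalarTower.of_algebraMap_eq fun x => by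
    show algebraMap A K (algebraMap R A x) =
      algebraMap Q.ResidueField K (algebraMap q.ResidueField Q.ResidueField (algebraMap R q.ResidueField x))
    rw [← IsScalarTower.algebraMap_apply R q.ResidueField Q.ResidueField, IsScalarTower.algebraMap_apply R A Q.ResidueField,
      ← IsScalarTower.algebraMap_apply A Q.ResidueField K]
  haveI : Module.Finite q.ResidueField K := Module.Finite.trans Q.ResidueField K
  letI : Algebra (R ⧸ q) K := ((algebraMap q.ResidueField K).comp (algebraMap (R ⧸ q) q.ResidueField)).toAlgebra
  haveI : IsScalarTower (R ⧸ q) q.ResidueField K := IsScalarTower.of_algebraMap_eq fun _ => rfl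
  haveI : IsScalarTower R (R ⧸ q) K := IsScalarTower.of_algebraMap_eq fun x => by
    show algebraMap R K x = algebraMap q.ResidueField K (algebraMap (R ⧸ q) q.ResidueField (algebraMap R (R ⧸ q) x))
    rw [← IsScalarTower.algebraMap_apply R (R ⧸ q) q.ResidueField, ← IsScalarTower.algebraMap_apply]
  -- integral generators
  obtain ⟨n, b, hb⟩ := Module.Finite.exists_fin (R := q.ResidueField) (M := K)
  have hmul : ∀ i, ∃ y : R ⧸ q, y ≠ 0 ∧ IsIntegral R (y • b i) := fun i => by
    have halg : IsAlgebraic (R ⧸ q) (b i) :=
      (IsFractionRing.isAlgebraic_iff (R ⧸ q) q.ResidueField K).2 (Algebra.IsAlgebraic.isAlgebraic (b i))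
    obtain ⟨y, hy, hi⟩ := halg.exists_integral_multiple
    exact ⟨y, hy, isIntegral_trans _ hi⟩
  choose y hy hint using hmul
  -- the finite free algebra
  have hfree : ∀ t : Finset (Fin n), ∃ (S : Type u) (_ : CommRing S) (_ : Algebra R S),
      Module.Finite R S ∧ Module.Free R S ∧ ∃ φ : S →ₐ[R] K, ∀ i ∈ t, y i • b i ∈ φ.range := by
    intro t
    induction t using Finset.induction_on with
    | empty => exact ⟨R, inferInstance, inferInstance, inferInstance, inferInstance, Algebra.ofId R K, by simp⟩
    | @insert i t hi ih =>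
      obtain ⟨S, _, _, hfin, hfr, φ, hφ⟩ := ih
      obtain ⟨f, hf, hfb⟩ := hint i
      let g : AdjoinRoot f →ₐ[R] K := AdjoinRoot.liftAlgHom f (Algebra.ofId R K) (y i • b i) hfb
      haveI := hf.finite_adjoinRoot
      haveI := hf.free_adjoinRoot
      refine ⟨S ⊗[R] AdjoinRoot f, inferInstance, inferInstance, inferInstance, inferInstance,
        Algebra.TensorProduct.lift φ g fun _ _ => Commute.all _ _, fun j hj => ?_⟩
      rcases Finset.mem_insert.1 hj with rfl | hj
      · exact ⟨1 ⊗ₜ AdjoinRoot.root f, by simp [g]⟩
      · obtain ⟨x, hx⟩ := hφ j hj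
        exact ⟨x ⊗ₜ 1, by simpa using hx⟩
  obtain ⟨S, _, _, hSfin, hSfree, φ, hφ⟩ := hfree Finset.univ
  haveI : IsNoetherianRing S := IsNoetherianRing.of_finite R S
  letI : Algebra S K := φ.toRingHom.toAlgebra
  haveI : IsScalarTower R S K := IsScalarTower.of_algebraMap_eq fun x => (φ.commutes x).symm
  let s := RingHom.ker (algebraMap S K)
  haveI : s.IsPrime := RingHom.ker_isPrime _
  -- the completed base change
  let T := S ⊗[R] C
  let i3 : CommRing T := inferInstance
  letI : Algebra C T := Algebra.TensorProduct.rightAlgebra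
  haveI : Module.Finite C T :=
    Module.Finite.equiv ({ Algebra.TensorProduct.comm R C S with
      commutes' := fun r => rfl } : (C ⊗[R] S) ≃ₐ[C] T).toLinearEquiv
  haveI : IsNoetherianRing T := IsNoetherianRing.of_finite C T
  haveI : IsAdicComplete (maximalIdeal C) C := by
    rw [AdicCompletion.maximalIdeal_eq_map]
    exact AdicCompletion.isAdicComplete_self _ (maximalIdeal A).fg_of_isNoetherianRing
  haveI hflatC : Module.Flat R C := by
    haveI : Module.Flat A C := AdicCompletion.flat_of_isNoetherian _
    haveI : Module.Flat R A := IsLocalization.flat A p.primeCompl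
    exact Module.Flat.trans R A C
  haveI : Module.Flat S T := Module.Flat.baseChange R S C
  suffices hreg : IsRegularRing (T ⊗[S] K) by
    haveI : IsRegularRing (K ⊗[S] T) := IsRegularRing.of_ringEquiv (R := T ⊗[S] K)
      (Algebra.TensorProduct.comm S T K).toRingEquiv
    haveI : IsRegularRing (K ⊗[R] C) := IsRegularRing.of_ringEquiv (R := K ⊗[S] T)
      (Algebra.TensorProduct.cancelBaseChange R S K K C).toRingEquiv
    haveI : TensorProduct.CompatibleSMul R A K C := IsLocalization.tensorProduct_compatibleSMul p.primeCompl A K C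
    haveI : IsRegularRing (K ⊗[A] C) := IsRegularRing.of_ringEquiv (R := K ⊗[R] C)
      (Algebra.TensorProduct.equivOfCompatibleSMul R A R K C).symm.toRingEquiv
    exact IsRegularRing.of_ringEquiv (R := K ⊗[A] C)
      (Algebra.TensorProduct.cancelBaseChange A Q.ResidueField K K C).symm.toRingEquiv
  let i4 : CommRing (T ⊗[S] K) := inferInstance
  haveI : Algebra.EssFiniteType S K := by
    haveI : Algebra.EssFiniteType R K := .comp R q.ResidueField K
    exact Algebra.EssFiniteType.of_comp R S K
  haveI : Algebra.EssFiniteType T (T ⊗[S] K) := inferInstance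
  haveI : IsNoetherianRing (T ⊗[S] K) := Algebra.EssFiniteType.isNoetherianRing T _
  refine GrothLib.Serre.isRegularRing_of_forall_isMaximal _ fun N _ => ?_
  obtain ⟨M, hM, hNM⟩ := Ideal.exists_le_maximal (N.comap (algebraMap T (T ⊗[S] K))) (Ideal.IsPrime.ne_top inferInstance)
  haveI : M.IsMaximal := hM
  haveI : Algebra.IsIntegral C T := Algebra.IsIntegral.of_finite C T
  have hMC : M.comap (algebraMap C T) = maximalIdeal C :=
    IsLocalRing.eq_maximalIdeal (Ideal.isMaximal_comap_of_isIntegral_of_isMaximal (R := C) M)
  let w := M.comap (algebraMap S T)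
  have hwp : w.comap (algebraMap R S) = p := by
    rw [Ideal.comap_comap, ← IsScalarTower.algebraMap_eq R S T]
    haveI : IsScalarTower R C T := IsScalarTower.of_algebraMap_eq fun a =>
      ((Algebra.TensorProduct.includeRight : C →ₐ[R] T).commutes a).symm
    rw [IsScalarTower.algebraMap_eq R C T, ← Ideal.comap_comap, hMC, IsScalarTower.algebraMap_eq R A C,
      ← Ideal.comap_comap]
    haveI : IsLocalHom (algebraMap A C) := inferInstance
    rw [IsLocalRing.maximalIdeal_comap]
    exact IsLocalization.AtPrime.comap_maximalIdeal A p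
  have hsw : s ≤ w := fun x hx => hNM (by
    show algebraMap T (T ⊗[S] K) (algebraMap S T x) ∈ N
    rw [← IsScalarTower.algebraMap_apply S T (T ⊗[S] K),
      ← (Algebra.TensorProduct.includeRight (R := S) (A := T) (B := K)).commutes, RingHom.mem_ker.1 hx, map_zero]
    exact zero_mem _)
  let Sw := Localization.AtPrime w
  let TM := Localization.AtPrime M
  haveI : IsNoetherianRing TM := IsLocalization.isNoetherianRing M.primeCompl _ inferInstance
  haveI hTMc : IsAdicComplete (maximalIdeal TM) TM :=
    ((GrothLib.AdicExtra.finite_algebra_pi_localizations C T).2.2 ⟨M, hM⟩).2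
  letI : Algebra Sw TM := (Localization.localRingHom w M (algebraMap S T) rfl).toAlgebra
  haveI : IsScalarTower S Sw TM :=
    IsScalarTower.of_algebraMap_eq fun x => (Localization.localRingHom_to_map _ _ _ rfl x).symm
  haveI : IsLocalHom (algebraMap Sw TM) := Localization.isLocalHom_localRingHom _ _ _ rfl
  haveI : Module.Flat Sw TM := by
    haveI : Module.Flat T TM := IsLocalization.flat TM M.primeCompl
    haveI : Module.Flat S TM := Module.Flat.trans S T TM
    exact (Module.flat_iff_of_isLocalization Sw w.primeCompl TM).2 inferInstance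
  have hmaxC : maximalIdeal C = p.map (algebraMap R C) := calc
    maximalIdeal C = (maximalIdeal A).map (algebraMap _ C) := AdicCompletion.maximalIdeal_eq_map
    _ = (p.map (algebraMap R A)).map (algebraMap _ C) :=
      congrArg (Ideal.map _) Localization.AtPrime.map_eq_maximalIdeal.symm
    _ = p.map (algebraMap R C) := by rw [Ideal.map_map, ← IsScalarTower.algebraMap_eq]
  have hfracC : ∀ r : C, ∃ t ∉ w.comap (algebraMap R S), ∃ a : R,
      algebraMap R C t * r - algebraMap R C a ∈ maximalIdeal C := fun r => by
    obtain ⟨z, hz⟩ := (AdicCompletion.residueField_map_bijective A).2 (residue C r)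
    obtain ⟨r₀, rfl⟩ := residue_surjective z
    obtain ⟨⟨a, t⟩, has⟩ := IsLocalization.surj p.primeCompl r₀
    refine ⟨t, by rw [hwp]; exact t.2, a, ?_⟩
    have hr₀ : r - algebraMap _ C r₀ ∈ maximalIdeal C := by
      rw [← residue_eq_zero_iff, map_sub, ← hz, ResidueField.map_residue, sub_self]
    have h2 : algebraMap R C a = algebraMap R C (t : R) * algebraMap _ C r₀ := by
      rw [IsScalarTower.algebraMap_apply R A C a, IsScalarTower.algebraMap_apply R A C (t : R), ← map_mul,
        mul_comm (algebraMap R A (t : R)), has]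
    rw [h2, ← mul_sub]
    exact Ideal.mul_mem_left _ _ hr₀
  obtain ⟨hqT, hres⟩ := GrothLib.GeomReg.fibre_of_fractions (A := R) w M rfl
    (GrothLib.GeomReg.exists_frac_congr w (by rw [hwp]; exact hmaxC) hfracC)
  have hk : Function.Bijective (ResidueField.map (algebraMap Sw TM)) := by
    refine ⟨(ResidueField.map _).injective, fun x => ?_⟩
    obtain ⟨t, rfl⟩ := residue_surjective x
    obtain ⟨z, hz⟩ := hres t
    exact ⟨residue _ z, (ResidueField.map_residue _ z).trans (Ideal.Quotient.eq.mpr hz)⟩
  obtain ⟨ψ, hψ⟩ := GrothLib.GeomReg.exists_completion_map Sw TM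
  have hψb := GrothLib.AdicExtra.bijective_completion ψ hψ hqT hk
  let eψ : EGA4.Cpl Sw ≃ₐ[Sw] TM := AlgEquiv.ofRingEquiv
    (f := (RingEquiv.ofBijective ψ hψb).trans (AdicCompletion.ofAlgEquiv (maximalIdeal TM)).symm.toRingEquiv) fun x => by
      show (AdicCompletion.ofAlgEquiv (maximalIdeal TM)).symm (ψ (algebraMap Sw _ x)) = _
      rw [show ψ (algebraMap Sw _ x) = algebraMap TM _ (algebraMap Sw TM x) from RingHom.congr_fun hψ x,
        AdicCompletion.algebraMap_apply]
      exact AdicCompletion.ofAlgEquiv_symm_of (maximalIdeal TM) _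
  -- the residue field at the prime of the local ring
  have hu : ∀ x : w.primeCompl, IsUnit (algebraMap S K x) := fun x =>
    isUnit_iff_ne_zero.2 fun h0 => x.2 (hsw h0)
  letI : Algebra Sw K := (IsLocalization.lift hu).toAlgebra
  haveI : IsScalarTower S Sw K := IsScalarTower.of_algebraMap_eq fun x => (IsLocalization.lift_eq hu x).symm
  let σ := RingHom.ker (algebraMap Sw K)
  haveI : σ.IsPrime := RingHom.ker_isPrime _
  let ι : σ.ResidueField →ₐ[Sw] K := Ideal.ResidueField.liftₐ σ (Algebra.ofId Sw K) le_rfl
    (fun a ha => isUnit_iff_ne_zero.2 fun h0 => ha h0)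
  have hιS : ∀ x : S, algebraMap S K x ∈ ι.toRingHom.fieldRange := fun x => ⟨algebraMap Sw σ.ResidueField (algebraMap S Sw x), by
    show ι _ = _
    rw [ι.commutes, ← IsScalarTower.algebraMap_apply]⟩
  have hιD : ∀ z : R ⧸ q, algebraMap (R ⧸ q) K z ∈ ι.toRingHom.fieldRange := fun z => by
    obtain ⟨r, rfl⟩ := Ideal.Quotient.mk_surjective z
    rw [← Ideal.Quotient.algebraMap_eq, ← IsScalarTower.algebraMap_apply, IsScalarTower.algebraMap_apply R S K]
    exact hιS _
  have hι : Function.Bijective ι := by
    refine ⟨ι.toRingHom.injective, fun x => ?_⟩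
    have hc : ∀ c : q.ResidueField, algebraMap q.ResidueField K c ∈ ι.toRingHom.fieldRange := fun c => by
      obtain ⟨a, d, -, rfl⟩ := IsFractionRing.div_surjective (R ⧸ q) c
      rw [map_div₀, ← IsScalarTower.algebraMap_apply, ← IsScalarTower.algebraMap_apply]
      exact div_mem (hιD a) (hιD d)
    have hbi : ∀ i, b i ∈ ι.toRingHom.fieldRange := fun i => by
      obtain ⟨z, hz⟩ := hφ i (Finset.mem_univ i)
      have hy0 : algebraMap (R ⧸ q) K (y i) ≠ 0 := fun h0 => hy i (by
        rw [IsScalarTower.algebraMap_apply (R ⧸ q) q.ResidueField K, map_eq_zero] at h0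
        exact IsFractionRing.injective (R ⧸ q) q.ResidueField (h0.trans (map_zero _).symm))
      have : b i = algebraMap S K z / algebraMap (R ⧸ q) K (y i) := by
        rw [show algebraMap S K z = y i • b i from hz, Algebra.smul_def, mul_div_cancel_left₀ _ hy0]
      rw [this]
      exact div_mem (hιS z) (hιD _)
    have hx : x ∈ Submodule.span q.ResidueField (Set.range b) := hb ▸ Submodule.mem_top
    obtain ⟨c, rfl⟩ := (Submodule.mem_span_range_iff_exists_fun _).1 hx
    have : (∑ i, c i • b i) ∈ ι.toRingHom.fieldRange := sum_mem fun i _ => by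
      rw [Algebra.smul_def]
      exact mul_mem (hc _) (hbi i)
    exact this
  let i5 : CommRing (EGA4.Cpl Sw) := inferInstance
  haveI : IsRegularRing (σ.ResidueField ⊗[Sw] EGA4.Cpl Sw) := h S w σ
  haveI : IsRegularRing (K ⊗[Sw] TM) := IsRegularRing.of_ringEquiv (R := σ.ResidueField ⊗[Sw] EGA4.Cpl Sw)
    (Algebra.TensorProduct.congr (AlgEquiv.ofBijective ι hι) eψ).toRingEquiv
  haveI : TensorProduct.CompatibleSMul S Sw K TM := IsLocalization.tensorProduct_compatibleSMul w.primeCompl Sw K TM
  haveI : IsRegularRing (K ⊗[S] TM) := IsRegularRing.of_ringEquiv (R := K ⊗[Sw] TM)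
    (Algebra.TensorProduct.equivOfCompatibleSMul S Sw S K TM).toRingEquiv
  exact isRegularLocalRing_localization_tensor M N hNM

end Groth.Agent.S9274
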