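import Groth.Statements.S9275
import Groth.Agent.Lib.Hensel.FlatNhd
import Mathlib.RingTheory.RingHom.Etale
-- import your own Groth.Agent.* helpers here

set_option autoImplicit false
universe u
open EtAlg

namespace Groth.Agent.S9275

/-- Let A → B be a ring map and J an ideal of B such that A → B is étale at every prime of V(J), in the
sense that every prime q ⊇ J has some h ∉ q with A → B_h étale. Then there is g ∈ B mapping to a
unit of B/J such that A → B_g is étale. -/
theorem result (A B : Type u) [CommRing A] [CommRing B]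
    [Algebra A B] (J : Ideal B)
    (h : ∀ (q : Ideal B) [q.IsPrime], J ≤ q → ∃ h : B, h ∉ q ∧ Algebra.Etale A (Localization.Away h)) :
    ∃ g : B, IsUnit (Ideal.Quotient.mk J g) ∧ Algebra.Etale A (Localization.Away g) := by
  let U : Set (PrimeSpectrum B) :=
    ⋃ (t : B) (_ : Algebra.Etale A (Localization.Away t)), (PrimeSpectrum.basicOpen t : Set (PrimeSpectrum B))
  have hU : IsOpen U := isOpen_iUnion fun t => isOpen_iUnion fun _ => (PrimeSpectrum.basicOpen t).isOpen
  obtain ⟨g, hgJ, hgU⟩ := GrothLib.Hensel.exists_one_sub_mem_basicOpen_subset J hU fun q hq => by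
    obtain ⟨t, ht, ht'⟩ := h q.asIdeal hq
    exact Set.mem_iUnion₂.mpr ⟨t, ht', ht⟩
  refine ⟨g, ?_, ?_⟩
  · rw [show Ideal.Quotient.mk J g = 1 from (Ideal.Quotient.eq.mpr hgJ).symm]
    exact isUnit_one
  rw [← RingHom.etale_algebraMap]
  let Bg := Localization.Away g
  refine RingHom.Etale.ofLocalizationSpanTarget _
    ((algebraMap B Bg) '' {t : B | Algebra.Etale A (Localization.Away t)}) ?_ ?_
  · rw [← Ideal.map_span]
    by_contra hne
    obtain ⟨m, hm, hle⟩ := Ideal.exists_le_maximal _ hne
    let q : PrimeSpectrum B := PrimeSpectrum.comap (algebraMap B Bg) ⟨m, hm.isPrime⟩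
    have hqg : q ∈ PrimeSpectrum.basicOpen g := fun hmem =>
      hm.ne_top (Ideal.eq_top_of_isUnit_mem _ hmem (IsLocalization.Away.algebraMap_isUnit g))
    obtain ⟨t, ht, hqt⟩ := Set.mem_iUnion₂.mp (hgU hqg)
    exact hqt (hle (Ideal.mem_map_of_mem _ (Ideal.subset_span ht)))
  · rintro ⟨_, t, ht, rfl⟩
    haveI : Algebra.Etale A (Localization.Away t) := ht
    let T := Localization.Away (algebraMap B Bg t)
    haveI : IsLocalization.Away (g * t) T := IsLocalization.Away.mul' Bg T g t
    let Bt := Localization.Away t
    let T' := Localization.Away (algebraMap B Bt g)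
    haveI : IsLocalization.Away (g * t) T' := by
      rw [mul_comm]; exact IsLocalization.Away.mul' Bt T' t g
    haveI : Algebra.Etale A T' :=
      haveI : Algebra.Etale Bt T' := Algebra.Etale.of_isLocalizationAway (algebraMap B Bt g)
      Algebra.Etale.comp A Bt T'
    let e : T' ≃ₐ[A] T := (IsLocalization.algEquiv (Submonoid.powers (g * t)) T' T).restrictScalars A
    haveI : Algebra.Etale A T := Algebra.Etale.of_equiv e
    have := RingHom.etale_algebraMap.mpr (inferInstance : Algebra.Etale A T)
    rwa [IsScalarTower.algebraMap_eq A Bg T] at this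

end Groth.Agent.S9275
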