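import Groth.Statements.S9278
import Mathlib
import Groth.Agent.Lib.McCoy19.Basic
-- import your own Groth.Agent.* helpers here

set_option autoImplicit false
universe u
open CAlgX

namespace Groth.Agent.S9278

/-- Let R be a Noetherian local ring and φ : R^m → R^n a map of finite free modules with matrix M. Then
φ is injective if and only if the rank of M is m and the determinantal ideal I(M) is the unit ideal
or contains a nonzerodivisor. -/
theorem result (R : Type u) [CommRing R]
    [IsLocalRing R] [IsNoetherianRing R] (m n : ℕ) (M : Matrix (Fin n) (Fin m) R) :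
    Function.Injective (Matrix.mulVecLin M) ↔
      CAlgX.matrixRank M = m ∧ (CAlgX.detIdeal M = ⊤ ∨ ∃ a ∈ CAlgX.detIdeal M, IsRegular a) := by
  classical
  rw [GrothLib.McCoy19.injective_iff_annihilator_eq_bot]
  constructor
  · intro h
    refine ⟨GrothLib.McCoy19.matrixRank_eq M h, Or.inr ?_⟩
    rw [CAlgX.detIdeal, GrothLib.McCoy19.matrixRank_eq M h]
    set I := CAlgX.minorIdeal M m
    by_contra hne
    push Not at hne
    have hsub : (I : Set R) ⊆ ⋃ p ∈ (associatedPrimes R R), (p : Set R) := by
      intro a ha
      rw [biUnion_associatedPrimes_eq_compl_nonZeroDivisors]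
      intro hnz
      exact hne a ha (isRegular_iff_mem_nonZeroDivisors.2 hnz)
    have hfin := associatedPrimes.finite R R
    obtain ⟨p, hp, hle⟩ := (Ideal.subset_union_prime (s := hfin.toFinset) (f := fun p => p) ⊥ ⊥
      (fun p hp _ _ => (hfin.mem_toFinset.1 hp).isPrime)).1 (by simpa using hsub)
    obtain ⟨hpp, x, hx⟩ := isAssociatedPrime_iff.1 (hfin.mem_toFinset.1 hp)
    have hx0 : x ∈ I.annihilator := by
      rw [Submodule.mem_annihilator]
      intro y hy
      have := hle hy
      rw [hx, Submodule.mem_colon_singleton, Submodule.mem_bot] at this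
      rwa [smul_eq_mul, mul_comm] at this
    rw [h, Submodule.mem_bot] at hx0
    refine hpp.ne_top ?_
    rw [hx, hx0]
    ext z
    simp [Submodule.mem_colon_singleton]
  · rintro ⟨hr, h⟩
    rw [CAlgX.detIdeal, hr] at h
    rw [eq_bot_iff]
    intro x hx
    rw [Submodule.mem_bot]
    rcases h with h | ⟨a, ha, hreg⟩
    · have := Submodule.mem_annihilator.1 hx 1 (h ▸ Submodule.mem_top)
      simpa using this
    · exact hreg.right (show x * a = 0 * a by rw [zero_mul]; exact Submodule.mem_annihilator.1 hx a ha)

end Groth.Agent.S9278
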