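import Groth.Statements.S9280
import Groth.Agent.Lib.N2.Reduced
import Groth.Agent.Lib.N2.LocalCriterion
import Groth.Agent.Lib.J2.FiniteType
import Groth.Agent.Lib.Dim.Ring
import Mathlib.RingTheory.RegularLocalRing.Defs
import Mathlib.RingTheory.DedekindDomain.Basic
import Mathlib.RingTheory.Localization.Integral
-- import your own Groth.Agent.* helpers here

set_option autoImplicit false
universe u
open EGA4

namespace Groth.Agent.S9280

/-- A Nagata ring of dimension 1 is J-2, that is, every finite type algebra over it has open regular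
locus. -/
theorem result (R : Type u) [CommRing R] (hR : CAlg.IsNagata R)
    (hdim : ringKrullDim R = 1) : EGA4.IsJ2 R := by
  haveI := hR.1
  refine GrothLib.J2.isJ2_of_finiteJ0 fun B _ _ _ hfin => ?_
  haveI := hfin
  haveI : IsNoetherianRing B := IsNoetherianRing.of_finite R B
  have hB : CAlg.IsNagata B := GrothLib.N2.isNagata_of_finite hR
  haveI : Algebra.IsIntegral R B := Algebra.IsIntegral.of_finite R B
  haveI : Ring.KrullDimLE 1 B := Ring.krullDimLE_iff.2 ((GrothLib.Dim.ringKrullDim_le_of_isIntegral R B).trans hdim.le)
  haveI : Ring.DimensionLEOne B := ⟨fun {p} hp hprime => by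
    haveI := hprime
    rcases Ring.krullDimLE_one_iff.1 ‹Ring.KrullDimLE 1 B› p hprime with h | h
    · rw [IsDomain.minimalPrimes_eq_singleton_bot] at h
      exact absurd h hp
    · exact h⟩
  let K := FractionRing B
  haveI : Algebra.EssFiniteType B K := Algebra.EssFiniteType.of_isLocalization K (nonZeroDivisors B)
  haveI : Module.Finite B (integralClosure B K) := GrothLib.N2.finite_integralClosure_field hB K
  classical
  obtain ⟨s, hs⟩ := (Module.Finite.fg_top : (⊤ : Submodule B (integralClosure B K)).FG)
  obtain ⟨f, hf⟩ := IsLocalization.exist_integer_multiples (nonZeroDivisors B) s (fun c => (c : K))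
  have hf0 : (f : B) ≠ 0 := nonZeroDivisors.ne_zero f.2
  have hC : ∀ c : integralClosure B K, ∃ b : B, algebraMap B K b = (f : B) • (c : K) := by
    intro c
    have hc : c ∈ Submodule.span B (s : Set (integralClosure B K)) := hs ▸ Submodule.mem_top
    induction hc using Submodule.span_induction with
    | mem x hx => exact hf x hx
    | zero => exact ⟨0, by simp⟩
    | add x y _ _ hx hy =>
      obtain ⟨a, ha⟩ := hx
      obtain ⟨b, hb⟩ := hy
      exact ⟨a + b, by rw [map_add, ha, hb, ← smul_add]; rfl⟩
    | smul r x _ hx =>
      obtain ⟨a, ha⟩ := hx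
      exact ⟨r * a, by rw [map_mul, ha, ← Algebra.smul_def, smul_comm]; rfl⟩
  refine ⟨f, hf0, ?_⟩
  let L := Localization.Away (f : B)
  have hle : Submonoid.powers (f : B) ≤ nonZeroDivisors B :=
    powers_le_nonZeroDivisors_of_noZeroDivisors hf0
  haveI : IsDomain L := IsLocalization.isDomain_of_le_nonZeroDivisors (S := L) hle
  haveI : IsNoetherianRing L := IsLocalization.isNoetherianRing (Submonoid.powers (f : B)) L inferInstance
  letI : Algebra L K := IsLocalization.localizationAlgebraOfSubmonoidLe L K _ _ hle
  haveI : IsScalarTower B L K := IsLocalization.localization_isScalarTower_of_submonoid_le L K _ _ hle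
  haveI : IsFractionRing L K := IsFractionRing.isFractionRing_of_isDomain_of_isLocalization (Submonoid.powers (f : B)) L K
  haveI : IsIntegrallyClosed L := by
    refine (isIntegrallyClosed_iff K).2 fun {x} hx => ?_
    obtain ⟨⟨m, hm⟩, hmx⟩ := IsIntegral.exists_multiple_integral_of_isLocalization (Submonoid.powers (f : B)) x hx
    obtain ⟨b, hb⟩ := hC ⟨_, hmx⟩
    refine ⟨IsLocalization.mk' L b (⟨(f : B) * m, mul_mem (Submonoid.mem_powers _) hm⟩ : Submonoid.powers (f : B)), ?_⟩
    have h1 : IsUnit (algebraMap L K (algebraMap B L ((f : B) * m))) :=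
      (IsLocalization.map_units L (⟨(f : B) * m, mul_mem (Submonoid.mem_powers _) hm⟩ : Submonoid.powers (f : B))).map _
    refine h1.mul_left_cancel ?_
    rw [← map_mul, mul_comm, IsLocalization.mk'_spec, ← IsScalarTower.algebraMap_apply, ← IsScalarTower.algebraMap_apply,
      hb, ← Algebra.smul_def]
    show (f : B) • (m • x) = _
    rw [smul_smul]
  haveI : Ring.DimensionLEOne L := Ring.DimensionLEOne.localization L hle
  haveI : IsDedekindDomain L := {}
  exact inferInstance

end Groth.Agent.S9280
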