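import Groth.Statements.S9282
import Mathlib.RingTheory.Extension.Cotangent.Basic
import Mathlib.RingTheory.Smooth.Basic
-- import your own Groth.Agent.* helpers here

set_option autoImplicit false
universe u
open CAlg

namespace Groth.Agent.S9282

/-- Let A → B be a local ring map between Noetherian local rings that is formally smooth for the adic
topology of the maximal ideal of B, and write K for the residue field of B. In the Jacobi–Zariski
sequence attached to A → B → K, the map from H_1(NL_{K/A}) to H_1(NL_{K/B}), which is m_B/m_B^2, is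
injective; the remaining terms are exact in general, so that sequence starts with a zero. -/
theorem result (A B : Type u) [CommRing A]
    [CommRing B] [IsLocalRing A] [IsLocalRing B] [IsNoetherianRing A] [IsNoetherianRing B]
    [Algebra A B] [IsLocalHom (algebraMap A B)]
    (hfs : CAlgX.IsAdicFormallySmooth A B (IsLocalRing.maximalIdeal B)) :
    Function.Injective
      (Algebra.H1Cotangent.map A B (IsLocalRing.ResidueField B) (IsLocalRing.ResidueField B)) := by
  classical
  let K := IsLocalRing.ResidueField B
  let P := (Algebra.Generators.self A K).toExtension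
  let Q := (Algebra.Generators.self B K).toExtension
  let f : P.Hom Q := (Algebra.Generators.defaultHom (Algebra.Generators.self A K) (Algebra.Generators.self B K)).toExtensionHom
  choose l hl using (IsLocalRing.residue_surjective (R := B))
  let ev : Q.Ring →ₐ[B] B := MvPolynomial.aeval l
  have hev : ∀ y : Q.Ring, IsLocalRing.residue B (ev y) = algebraMap Q.Ring K y := by
    intro y
    have h1 : ((Algebra.ofId B K).comp ev) = IsScalarTower.toAlgHom B Q.Ring K := by
      refine MvPolynomial.algHom_ext fun k => ?_
      show IsLocalRing.residue B (MvPolynomial.aeval l (MvPolynomial.X k)) = algebraMap Q.Ring K (MvPolynomial.X k)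
      rw [MvPolynomial.aeval_X, hl]
      exact ((Algebra.Generators.self B K).aeval_val_σ' k).symm
    exact AlgHom.congr_fun h1 y
  let C := P.infinitesimal.Ring
  let J : Ideal C := P.infinitesimal.ker
  have hJ : J ^ 2 = ⊥ := by
    show P.infinitesimal.ker ^ 2 = ⊥
    rw [Algebra.Extension.ker_infinitesimal]
    exact Ideal.cotangentIdeal_square _
  let eJ : (C ⧸ J) ≃ₐ[A] K := Ideal.quotientKerAlgEquivOfSurjective (f := IsScalarTower.toAlgHom A C K)
    P.infinitesimal.algebraMap_surjective
  let ψ : B →ₐ[A] C ⧸ J := eJ.symm.toAlgHom.comp (IsScalarTower.toAlgHom A B K)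
  obtain ⟨χ, hχ⟩ := hfs C J hJ ψ ⟨1, fun b hb => by
    show eJ.symm (IsLocalRing.residue B b) = 0
    rw [(IsLocalRing.residue_eq_zero_iff b).2 (by simpa using hb), map_zero]⟩
  have hχK : ∀ b, algebraMap C K (χ b) = IsLocalRing.residue B b := fun b => by
    have h1 : Ideal.Quotient.mk J (χ b) = eJ.symm (IsLocalRing.residue B b) := AlgHom.congr_fun hχ b
    have h2 := congrArg eJ h1
    rw [AlgEquiv.apply_symm_apply] at h2
    exact h2
  let F : P.Ring →ₐ[A] C :=
    { χ.toRingHom.comp (ev.toRingHom.comp f.toRingHom) with
      commutes' := fun a => by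
        show χ (ev (f.toRingHom (algebraMap A P.Ring a))) = _
        rw [f.toRingHom_algebraMap, ev.commutes]
        exact χ.commutes a }
  let g : P.Hom P.infinitesimal :=
    { toRingHom := F.toRingHom
      toRingHom_algebraMap := fun a => F.commutes a
      algebraMap_toRingHom := fun y => by
        show algebraMap C K (χ (ev (f.toRingHom y))) = _
        rw [hχK, hev, f.algebraMap_toRingHom] }
  rw [injective_iff_map_eq_zero]
  intro x hx
  obtain ⟨ξ, hξ⟩ := Algebra.Extension.Cotangent.mk_surjective x.1
  have h1 : Algebra.Extension.Cotangent.map f x.1 = 0 := congrArg Subtype.val hx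
  rw [← hξ, Algebra.Extension.Cotangent.map_mk, Algebra.Extension.Cotangent.mk_eq_zero_iff] at h1
  have h2 : F ξ.1 = 0 := by
    have hle : Q.ker.map ev.toRingHom ≤ IsLocalRing.maximalIdeal B := Ideal.map_le_iff_le_comap.2 fun y hy => by
      rw [Ideal.mem_comap, ← IsLocalRing.residue_eq_zero_iff]
      exact (hev y).trans hy
    have hm : ev (f.toRingHom ξ.1) ∈ IsLocalRing.maximalIdeal B ^ 2 :=
      Ideal.pow_right_mono hle 2 (by rw [← Ideal.map_pow]; exact Ideal.mem_map_of_mem _ h1)
    have hle2 : (IsLocalRing.maximalIdeal B).map χ.toRingHom ≤ J := Ideal.map_le_iff_le_comap.2 fun b hb => by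
      show algebraMap C K (χ b) = 0
      rw [hχK]
      exact (IsLocalRing.residue_eq_zero_iff b).2 hb
    have : χ (ev (f.toRingHom ξ.1)) ∈ J ^ 2 :=
      Ideal.pow_right_mono hle2 2 (by rw [← Ideal.map_pow]; exact Ideal.mem_map_of_mem _ hm)
    rw [hJ] at this
    exact Ideal.mem_bot.1 this
  have h3 : Algebra.Extension.Cotangent.map g x.1 = 0 := by
    rw [← hξ, Algebra.Extension.Cotangent.map_mk, Algebra.Extension.Cotangent.mk_eq_zero_iff]
    show F ξ.1 ∈ _
    rw [h2]
    exact zero_mem _
  have h4 : Algebra.Extension.Cotangent.map P.toInfinitesimal x.1 = 0 := by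
    have h5 := congrArg Subtype.val (LinearMap.congr_fun (Algebra.Extension.H1Cotangent.map_eq P.toInfinitesimal g) x)
    exact h5.trans h3
  rw [← hξ, Algebra.Extension.Cotangent.map_mk, Algebra.Extension.Cotangent.mk_eq_zero_iff] at h4
  change (Ideal.Quotient.mk (P.ker ^ 2) ξ.1) ∈ J ^ 2 at h4
  rw [hJ] at h4
  have h4 := Ideal.Quotient.eq_zero_iff_mem.1 (Ideal.mem_bot.1 h4)
  refine Algebra.Extension.h1Cotangentι_ext _ _ ?_
  rw [← hξ]
  exact ((Algebra.Extension.Cotangent.mk_eq_zero_iff ξ).2 h4).trans rfl

end Groth.Agent.S9282
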