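import Groth.Statements.S9283
import Mathlib.RingTheory.LocalRing.MaximalIdeal.Basic
import Mathlib.RingTheory.Ideal.Operations

set_option autoImplicit false
universe u
open CAlg

namespace Groth.Agent.S9283

/-- Let R be an auto-associated ring, that is, a local ring whose maximal ideal is weakly associated to
R: some nonzero x ∈ R is killed by a power of every element of the maximal ideal. Then every proper
finitely generated ideal of R has a nonzero annihilator. -/
theorem result (R : Type u) [CommRing R] [IsLocalRing R]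
    (h : ∃ x : R, x ≠ 0 ∧ ∀ f ∈ IsLocalRing.maximalIdeal R, ∃ n : ℕ, f ^ n * x = 0)
    (I : Ideal R) (hI : I.FG) (hI' : I ≠ ⊤) : I.annihilator ≠ ⊥ := by
  classical
  obtain ⟨x, hx, h⟩ := h
  have hIm : I ≤ IsLocalRing.maximalIdeal R := IsLocalRing.le_maximalIdeal hI'
  obtain ⟨G, hG⟩ := hI
  have key : ∀ T : Finset R, (T : Set R) ⊆ I → ∃ y : R, y ≠ 0 ∧
      (∀ f ∈ IsLocalRing.maximalIdeal R, ∃ n : ℕ, f ^ n * y = 0) ∧ ∀ g ∈ T, g * y = 0 := by
    intro T
    induction T using Finset.induction with
    | empty => exact fun _ => ⟨x, hx, h, by simp⟩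
    | insert g T hg ih =>
      intro hT
      rw [Finset.coe_insert, Set.insert_subset_iff] at hT
      obtain ⟨y, hy, hy1, hy2⟩ := ih hT.2
      have hex := hy1 g (hIm hT.1)
      have hne : Nat.find hex ≠ 0 := fun h0 => hy (by
        have := Nat.find_spec hex
        rwa [h0, pow_zero, one_mul] at this)
      refine ⟨g ^ (Nat.find hex - 1) * y, Nat.find_min hex (Nat.sub_one_lt hne), fun f hf => ?_,
        fun g' hg' => ?_⟩
      · obtain ⟨n, hn⟩ := hy1 f hf
        exact ⟨n, by rw [mul_left_comm, hn, mul_zero]⟩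
      · rcases Finset.mem_insert.1 hg' with rfl | hg'
        · rw [← mul_assoc, ← pow_succ', Nat.sub_add_cancel (Nat.one_le_iff_ne_zero.2 hne)]
          exact Nat.find_spec hex
        · rw [mul_left_comm, hy2 g' hg', mul_zero]
  obtain ⟨y, hy, -, hy2⟩ := key G (fun g hg => hG ▸ Submodule.subset_span hg)
  intro hbot
  apply hy
  have : y ∈ I.annihilator := by
    rw [← hG, Submodule.mem_annihilator_span]
    intro g
    rw [smul_eq_mul, mul_comm]
    exact hy2 g g.2
  rwa [hbot, Submodule.mem_bot] at this

end Groth.Agent.S9283
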