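import Groth.Statements.S9284
import Mathlib
import Groth.Agent.Lib.McCoy19.Basic
-- import your own Groth.Agent.* helpers here

set_option autoImplicit false
universe u
open CAlgX

namespace Groth.Agent.S9284

open TensorProduct in


/-- Let R be a ring such that every proper finitely generated ideal of R has a nonzero annihilator, and
let u : N → M be an R-linear map between projective R-modules. Then u stays injective after
tensoring with every R-module exactly when u is injective. -/
theorem result (R : Type u) [CommRing R]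
    (hP : (∀ I : Ideal R, I.FG → I ≠ ⊤ → I.annihilator ≠ ⊥))
    (N M : Type u) [AddCommGroup N] [Module R N] [Module.Projective R N] [AddCommGroup M]
    [Module R M] [Module.Projective R M] (u : N →ₗ[R] M) :
    CAlgX.UniversallyInjective R u ↔ Function.Injective u := by
  classical
  constructor
  · intro h
    have h1 := h R
    intro a b hab
    have h2 : u.rTensor R (a ⊗ₜ 1) = u.rTensor R (b ⊗ₜ 1) := by simp [hab]
    have h3 := congrArg (TensorProduct.rid R N) (h1 h2)
    simpa using h3
  intro hu Q _ _
  -- embed in free modules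
  obtain ⟨s, hs⟩ := (Module.projective_def' (R := R) (P := N)).1 inferInstance
  obtain ⟨t, ht⟩ := (Module.projective_def' (R := R) (P := M)).1 inferInstance
  let π : (N →₀ R) →ₗ[R] N := Finsupp.linearCombination R id
  have hπs : ∀ x, π (s x) = x := fun x => LinearMap.congr_fun hs x
  have htinj : Function.Injective t := fun a b hab => by
    have := congrArg (Finsupp.linearCombination R id) hab
    rwa [show Finsupp.linearCombination R id (t a) = a from LinearMap.congr_fun ht a,
      show Finsupp.linearCombination R id (t b) = b from LinearMap.congr_fun ht b] at this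
  let e := (Finsupp.sumFinsuppLEquivProdFinsupp R (α := M) (β := N) (M := R)).symm
  let v : (N →₀ R) →ₗ[R] (M ⊕ N →₀ R) :=
    e.toLinearMap ∘ₗ ((t ∘ₗ u ∘ₗ π).prod (LinearMap.id - s ∘ₗ π))
  have hv : Function.Injective v := by
    rw [← LinearMap.ker_eq_bot, LinearMap.ker_eq_bot']
    intro a ha
    have ha' := e.map_eq_zero_iff.1 ha
    simp only [LinearMap.prod_apply, Function.prod_apply, Prod.mk_eq_zero, LinearMap.coe_comp,
      Function.comp_apply, LinearMap.sub_apply, LinearMap.id_apply] at ha'
    have : π a = 0 := hu ((htinj (ha'.1.trans (map_zero t).symm)).trans (map_zero u).symm)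
    simpa [this] using ha'.2
  suffices hfree : Function.Injective (v.rTensor Q) by
    rw [injective_iff_map_eq_zero]
    intro z hz
    have h1 : v.rTensor Q (s.rTensor Q z) = 0 := by
      have hcomp : v ∘ₗ s = e.toLinearMap ∘ₗ ((LinearMap.inl R _ _) ∘ₗ t ∘ₗ u) := by
        apply LinearMap.ext
        intro x
        simp [v, hπs, LinearMap.prod_apply]
      rw [← LinearMap.rTensor_comp_apply, hcomp]
      simp only [LinearMap.rTensor_comp_apply, hz, map_zero]
    have h2 := hfree (h1.trans (map_zero (v.rTensor Q)).symm)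
    have h3 : π.rTensor Q (s.rTensor Q z) = z := by
      rw [← LinearMap.rTensor_comp_apply, show π ∘ₗ s = LinearMap.id from LinearMap.ext hπs,
        LinearMap.rTensor_id, LinearMap.id_apply]
    rw [← h3, h2, map_zero]
  -- free modules
  rw [injective_iff_map_eq_zero]
  intro z hz
  obtain ⟨S, hS⟩ := TensorProduct.exists_finset z
  let A0 : Finset N := S.biUnion fun i => i.1.support
  let C0 : Finset (M ⊕ N) := A0.biUnion fun a => (v (Finsupp.single a 1)).support
  let p := A0.card
  let q := C0.card
  let a : Fin p → N := fun i => (A0.equivFin.symm i : N)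
  let c : Fin q → M ⊕ N := fun i => (C0.equivFin.symm i : M ⊕ N)
  let j : (Fin p → R) →ₗ[R] (N →₀ R) := Fintype.linearCombination R fun i => Finsupp.single (a i) 1
  let r : (M ⊕ N →₀ R) →ₗ[R] (Fin q → R) := LinearMap.pi fun i => Finsupp.lapply (c i)
  have ha : Function.Injective a := Subtype.val_injective.comp A0.equivFin.symm.injective
  have hc : ∀ x ∈ C0, ∃ i, c i = x := fun x hx => ⟨C0.equivFin ⟨x, hx⟩, by simp [c]⟩
  have hj : ∀ w i, j w (a i) = w i := by
    intro w i
    simp only [j, Fintype.linearCombination_apply, Finsupp.finset_sum_apply, Finsupp.smul_apply,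
      Finsupp.single_apply, ha.eq_iff]
    simp
  let w : Matrix (Fin q) (Fin p) R := LinearMap.toMatrix' (r ∘ₗ v ∘ₗ j)
  have hsupp : ∀ (y : Fin p → R) x, x ∉ C0 → v (j y) x = 0 := by
    intro y x hx
    simp only [j, Fintype.linearCombination_apply, map_sum, map_smul, Finsupp.finset_sum_apply,
      Finsupp.smul_apply]
    refine Finset.sum_eq_zero fun i _ => ?_
    have : v (Finsupp.single (a i) 1) x = 0 := by
      by_contra hne
      exact hx (Finset.mem_biUnion.2 ⟨a i, (A0.equivFin.symm i).2, Finsupp.mem_support_iff.2 hne⟩)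
    rw [this, smul_zero]
  have hw : Function.Injective w.mulVecLin := by
    rw [show w.mulVecLin = r ∘ₗ v ∘ₗ j by
      rw [← Matrix.toLin'_apply']; exact Matrix.toLin'_toMatrix' _,
      ← LinearMap.ker_eq_bot, LinearMap.ker_eq_bot']
    intro y hy
    have hvy : v (j y) = 0 := by
      ext x
      by_cases hx : x ∈ C0
      · obtain ⟨i, rfl⟩ := hc x hx
        exact congrFun hy i
      · exact hsupp y x hx
    funext i
    rw [← hj y i, hv (hvy.trans (map_zero v).symm)]
    rfl
  obtain ⟨L, hL⟩ := GrothLib.McCoy19.exists_leftInverse w hP hw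
  have hid : L.mulVecLin ∘ₗ (r ∘ₗ v ∘ₗ j) = LinearMap.id := by
    rw [show r ∘ₗ v ∘ₗ j = w.mulVecLin by
      rw [← Matrix.toLin'_apply']; exact (Matrix.toLin'_toMatrix' _).symm,
      ← Matrix.mulVecLin_mul, hL, Matrix.mulVecLin_one]
  obtain ⟨z0, rfl⟩ : ∃ z0, j.rTensor Q z0 = z := by
    refine LinearMap.mem_range.1 ?_
    rw [hS]
    refine Submodule.sum_mem _ fun i hi => ?_
    refine LinearMap.mem_range.2 ⟨(fun k => i.1 (a k)) ⊗ₜ i.2, ?_⟩
    rw [LinearMap.rTensor_tmul]
    congr 1
    ext x
    by_cases hx : x ∈ A0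
    · obtain ⟨k, rfl⟩ : ∃ k, a k = x := ⟨A0.equivFin ⟨x, hx⟩, by simp [a]⟩
      exact hj _ k
    · have hx1 : i.1 x = 0 := by
        by_contra hne
        exact hx (Finset.mem_biUnion.2 ⟨i, hi, Finsupp.mem_support_iff.2 hne⟩)
      rw [hx1]
      simp only [j, Fintype.linearCombination_apply, Finsupp.finset_sum_apply, Finsupp.smul_apply]
      refine Finset.sum_eq_zero fun k _ => ?_
      rw [Finsupp.single_eq_of_ne (fun h : x = a k => hx (by rw [h]; exact (A0.equivFin.symm k).2)), smul_zero]
  have h4 : (L.mulVecLin ∘ₗ (r ∘ₗ v ∘ₗ j)).rTensor Q z0 = 0 := by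
    simp only [LinearMap.rTensor_comp_apply, hz, map_zero]
  rw [hid, LinearMap.rTensor_id, LinearMap.id_apply] at h4
  rw [h4, map_zero]

end Groth.Agent.S9284
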