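import Groth.Statements.S9285
import Mathlib.LinearAlgebra.Finsupp.LinearCombination
import Mathlib.RingTheory.Finiteness.Basic
-- import your own Groth.Agent.* helpers here

set_option autoImplicit false
universe u
open CAlg

namespace Groth.Agent.S9285

/-- A ring R has the property that every proper finitely generated ideal has a nonzero annihilator if
and only if every injective linear map R → R^n admits a retraction. -/
theorem result (R : Type u) [CommRing R] :
    (∀ I : Ideal R, I.FG → I ≠ ⊤ → I.annihilator ≠ ⊥) ↔
      ∀ (n : ℕ) (u : R →ₗ[R] (Fin n → R)), Function.Injective u →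
        ∃ v : (Fin n → R) →ₗ[R] R, v.comp u = LinearMap.id := by
  classical
  constructor
  · intro h n u hu
    let I : Ideal R := Ideal.span (Set.range (u 1))
    have hI : I = ⊤ := by
      by_contra hne
      obtain ⟨a, ha, ha0⟩ := Submodule.exists_mem_ne_zero_of_ne_bot (h I (Submodule.fg_span (Set.finite_range _)) hne)
      refine ha0 (hu ?_)
      rw [map_zero, show u a = a • u 1 by rw [← map_smul, smul_eq_mul, mul_one]]
      funext i
      simpa using Submodule.mem_annihilator.mp ha (u 1 i) (Ideal.subset_span ⟨i, rfl⟩)
    obtain ⟨c, hc⟩ := (Submodule.mem_span_range_iff_exists_fun R).mp (hI ▸ Submodule.mem_top : (1 : R) ∈ I)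
    refine ⟨∑ i, c i • LinearMap.proj i, LinearMap.ext_ring ?_⟩
    simpa using hc
  · intro h I hI hne hann
    obtain ⟨s, hs⟩ := hI
    let f : Fin s.card → R := fun i => (s.equivFin.symm i : R)
    have hrange : Set.range f = (s : Set R) := by
      ext x
      exact ⟨by rintro ⟨i, rfl⟩; exact (s.equivFin.symm i).2, fun hx => ⟨s.equivFin ⟨x, hx⟩, by simp [f]⟩⟩
    let u : R →ₗ[R] (Fin s.card → R) := LinearMap.toSpanSingleton R _ f
    have hu : Function.Injective u := by
      rw [← LinearMap.ker_eq_bot, eq_bot_iff]
      intro a ha
      rw [← hann, Submodule.mem_annihilator, ← hs]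
      intro x hx
      induction hx using Submodule.span_induction with
      | mem y hy =>
        obtain ⟨i, rfl⟩ := hrange.ge hy
        exact congrFun (LinearMap.mem_ker.mp ha) i
      | zero => simp
      | add y z _ _ hy hz => rw [smul_add, hy, hz, add_zero]
      | smul c y _ hy => rw [smul_comm, hy, smul_zero]
    obtain ⟨v, hv⟩ := h _ u hu
    refine hne ((Ideal.eq_top_iff_one I).mpr ?_)
    have h1 : v (∑ i, f i • Pi.single i 1) = 1 := by
      have := LinearMap.congr_fun hv 1
      simp only [LinearMap.comp_apply, u, LinearMap.toSpanSingleton_apply, one_smul, LinearMap.id_apply] at this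
      rw [← pi_eq_sum_univ' f]; exact this
    rw [map_sum] at h1
    rw [← h1]
    refine Submodule.sum_mem _ fun i _ => ?_
    rw [map_smul, smul_eq_mul]
    exact I.mul_mem_right _ (hs ▸ Submodule.subset_span (hrange.le ⟨i, rfl⟩))

end Groth.Agent.S9285
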