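import Groth.Statements.S9288
import Groth.Agent.Lib.AdicFSFlat.Criterion
import Groth.Agent.Lib.CIPres.Factor
import Groth.Agent.S2088
import Groth.Agent.S2471
import Mathlib.RingTheory.Kaehler.Basic
import Mathlib.Algebra.MvPolynomial.PDeriv
import Mathlib.RingTheory.Flat.EquationalCriterion
import Mathlib.RingTheory.Ideal.Cotangent
-- import your own Groth.Agent.* helpers here

set_option autoImplicit false
universe u
open CAlg

open IsLocalRing TensorProduct

set_option maxHeartbeats 2000000
set_option synthInstance.maxHeartbeats 100000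
set_option backward.isDefEq.respectTransparency false

namespace Groth.Agent.S9288

/-- A square-zero flat deformation of a residue field extension, with the independence of parameters. -/
theorem exists_deformation {R K : Type u} [CommRing R] [IsLocalRing R] [Field K] (w : R →+* K)
    (hw : ∀ a ∈ maximalIdeal R, w a = 0) :
    ∃ (C : Type u) (_ : CommRing C) (ι : R →+* C) (pr : C →+* K), Function.Surjective pr ∧ pr.comp ι = w ∧
      RingHom.ker pr ^ 2 = ⊥ ∧ ∀ (h : ℕ) (x : Fin h → R) (c : Fin h → C), ∑ i, c i * ι (x i) = 0 →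
        (∀ d : Fin h → R, ∑ i, d i * x i ∈ maximalIdeal R ^ 2 → ∀ i, d i ∈ maximalIdeal R) →
        ∀ i, c i ∈ RingHom.ker pr := by
  have h2le : maximalIdeal R ^ 2 ≤ maximalIdeal R := Ideal.pow_le_self two_ne_zero
  haveI : IsLocalRing (R ⧸ maximalIdeal R ^ 2) := GrothLib.RegLoc.isLocalRing_quotient h2le
  have hmE := GrothLib.RegLoc.map_maximalIdeal_quotient (maximalIdeal R ^ 2)
  let uE : R ⧸ maximalIdeal R ^ 2 →+* K := Ideal.Quotient.lift _ w fun a ha => hw a (h2le ha)
  have huE : ∀ a ∈ maximalIdeal (R ⧸ maximalIdeal R ^ 2), uE a = 0 := fun a ha => by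
    rw [← hmE, Ideal.mem_map_iff_of_surjective _ Ideal.Quotient.mk_surjective] at ha
    obtain ⟨b, hb, rfl⟩ := ha
    exact hw b hb
  letI : Algebra (ResidueField (R ⧸ maximalIdeal R ^ 2)) K := (Ideal.Quotient.lift _ uE huE).toAlgebra
  obtain ⟨C, _, _, _, _, hflat, hmC, ⟨eC⟩⟩ := Groth.Agent.S2088.result (R := R ⧸ maximalIdeal R ^ 2) (K := K)
  haveI := hflat
  let pr : C →+* K := eC.toRingEquiv.toRingHom.comp (residue C)
  have hker : RingHom.ker pr = maximalIdeal C := by
    ext z
    refine Iff.trans ?_ (residue_eq_zero_iff z)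
    exact map_eq_zero_iff eC eC.injective
  refine ⟨C, inferInstance, (algebraMap (R ⧸ maximalIdeal R ^ 2) C).comp (Ideal.Quotient.mk _), pr,
    eC.surjective.comp residue_surjective, ?_, ?_, ?_⟩
  · refine RingHom.ext fun a => ?_
    exact (congrArg eC (ResidueField.map_residue (algebraMap (R ⧸ maximalIdeal R ^ 2) C) _).symm).trans
      (eC.commutes (residue _ (Ideal.Quotient.mk (maximalIdeal R ^ 2) a)))
  · rw [hker, ← hmC, ← Ideal.map_pow, ← hmE, ← Ideal.map_pow, Ideal.map_quotient_self, Ideal.map_bot]
  · intro h x c hc hind i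
    obtain ⟨κ, a, b, hab, hab0⟩ := Module.Flat.isTrivialRelation_of_sum_smul_eq_zero
      (M := C) (f := fun i => Ideal.Quotient.mk (maximalIdeal R ^ 2) (x i)) (x := c) (by
        simpa [Algebra.smul_def, mul_comm] using hc)
    rw [hker, hab i]
    refine Ideal.sum_mem _ fun j _ => ?_
    rw [Algebra.smul_def]
    refine Ideal.mul_mem_right _ _ ?_
    rw [← hmC]
    refine Ideal.mem_map_of_mem _ ?_
    choose a' ha' using fun l => Ideal.Quotient.mk_surjective (a l j)
    rw [← ha' i, ← hmE]
    refine Ideal.mem_map_of_mem _ (hind a' ?_ i)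
    rw [← Ideal.Quotient.eq_zero_iff_mem, map_sum, ← hab0 j]
    exact Finset.sum_congr rfl fun l _ => by rw [map_mul, ha' l, mul_comm]

/-- Minimal generators of the maximal ideal are independent modulo its square. -/
theorem coeff_mem_of_sum_mem_sq {R : Type u} [CommRing R] [IsLocalRing R] [IsNoetherianRing R] {h : ℕ}
    (x : Fin h → R) (hx : Ideal.span (Set.range x) = maximalIdeal R) (hh : (maximalIdeal R).spanFinrank = h)
    (c : Fin h → R) (hc : ∑ i, c i * x i ∈ maximalIdeal R ^ 2) (i : Fin h) : c i ∈ maximalIdeal R := by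
  classical
  by_contra hci
  have hlt : Ideal.span (Set.range fun j : {j // j ≠ i} => x j) ⊔ maximalIdeal R ^ 2 = maximalIdeal R := by
    refine le_antisymm (sup_le (Ideal.span_le.2 ?_) (Ideal.pow_le_self two_ne_zero)) ?_
    · rintro _ ⟨j, rfl⟩
      exact hx ▸ Ideal.subset_span ⟨j.1, rfl⟩
    · conv_lhs => rw [← hx]
      rw [Ideal.span_le]
      rintro _ ⟨j, rfl⟩
      rcases eq_or_ne j i with rfl | hj
      · refine (Ideal.unit_mul_mem_iff_mem _ (notMem_maximalIdeal.1 hci)).1 ?_
        rw [← Finset.add_sum_erase _ _ (Finset.mem_univ j)] at hc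
        have h3 : ∑ l ∈ Finset.univ.erase j, c l * x l ∈ Ideal.span (Set.range fun l : {l // l ≠ j} => x l) :=
          Ideal.sum_mem _ fun l hl => Ideal.mul_mem_left _ _ (Ideal.subset_span ⟨⟨l, (Finset.mem_erase.1 hl).1⟩, rfl⟩)
        have := sub_mem (Ideal.mem_sup_right (S := Ideal.span (Set.range fun l : {l // l ≠ j} => x l)) hc) (Ideal.mem_sup_left h3)
        simpa using this
      · exact Ideal.mem_sup_left (Ideal.subset_span ⟨⟨j, hj⟩, rfl⟩)
  have hspan := GrothLib.RegLoc.eq_maximalIdeal_of_sup_sq (le_sup_left.trans_eq hlt) hlt.ge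
  have hcard : (maximalIdeal R).spanFinrank ≤ Fintype.card {j // j ≠ i} := by
    rw [← hspan]
    refine (Submodule.spanFinrank_span_le_ncard_of_finite (Set.finite_range _)).trans ?_
    rw [← Set.image_univ]
    exact (Set.ncard_image_le Set.finite_univ).trans (by rw [Set.ncard_univ, Nat.card_eq_fintype_card])
  rw [hh, Fintype.card_subtype_compl, Fintype.card_fin, Fintype.card_subtype_eq] at hcard
  exact absurd hcard (by have := i.isLt; omega)

/-- Let k be a field of positive characteristic p and (A, m, K) a Noetherian local k-algebra which is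
geometrically regular over k. Let F ⊆ K be a subfield containing k, finitely generated over k, and φ
: k[y_1, ..., y_m] → A a k-algebra map such that each y_i maps into F (modulo m) and such that the
differentials of the images of y_1, ..., y_m form a basis of Ω_{F/k}. Let 𝔭 be the inverse image of
m in k[y_1, ..., y_m]. Then A is flat over k[y_1, ..., y_m] (equivalently over its localization at
𝔭, since A is local) and A/𝔭A is a regular local ring. -/
theorem result (p : ℕ)
    [Fact p.Prime] (k : Type u) [Field k] [CharP k p] (A : Type u) [CommRing A] [IsLocalRing A]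
    [IsNoetherianRing A] [Algebra k A] (hA : CAlg.IsGeometricallyRegular k A)
    (F : IntermediateField k (IsLocalRing.ResidueField A)) (hF : F.FG) (m : ℕ)
    (φ : MvPolynomial (Fin m) k →ₐ[k] A)
    (hφ : ∀ i : Fin m, IsLocalRing.residue A (φ (MvPolynomial.X i)) ∈ F)
    (hb : LinearIndependent F
        (fun i : Fin m => KaehlerDifferential.D k F ⟨IsLocalRing.residue A (φ (MvPolynomial.X i)), hφ i⟩) ∧
      Submodule.span F (Set.range
        (fun i : Fin m => KaehlerDifferential.D k F ⟨IsLocalRing.residue A (φ (MvPolynomial.X i)), hφ i⟩)) = ⊤) :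
    letI := φ.toRingHom.toAlgebra
    Module.Flat (MvPolynomial (Fin m) k) A ∧
      IsRegularLocalRing (A ⧸ Ideal.map φ.toRingHom
        (Ideal.comap φ.toRingHom (IsLocalRing.maximalIdeal A))) := by
  classical
  letI := φ.toRingHom.toAlgebra
  let P := MvPolynomial (Fin m) k
  let K := IsLocalRing.ResidueField A
  -- formal smoothness over the field
  have hfs : CAlgX.IsAdicFormallySmooth k A (maximalIdeal A) := by
    haveI : IsLocalHom (algebraMap k A) := ⟨fun c hc => isUnit_iff_ne_zero.2 fun h0 => by
      rw [h0, map_zero] at hc; exact not_isUnit_zero hc⟩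
    haveI : Module.Flat k A := inferInstance
    refine GrothLib.AdicFSFlat.isAdicFormallySmooth_iff.1 ⟨inferInstance, fun L _ _ hL => ?_⟩
    let κ := (maximalIdeal k).ResidueField
    haveI : Module.Finite k κ := by
      haveI : Module.Finite k (k ⧸ maximalIdeal k) := inferInstance
      exact Module.Finite.of_surjective (IsScalarTower.toAlgHom k (k ⧸ maximalIdeal k) κ).toLinearMap
        (Ideal.bijective_algebraMap_quotient_residueField (maximalIdeal k)).2
    letI : Algebra k L := ((algebraMap κ L).comp (algebraMap k κ)).toAlgebra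
    haveI : IsScalarTower k κ L := IsScalarTower.of_algebraMap_eq fun _ => rfl
    haveI : Module.Finite k L := Module.Finite.trans κ L
    haveI := hA L inferInstance
    exact IsRegularRing.of_ringEquiv (R := L ⊗[k] A) (Algebra.TensorProduct.cancelBaseChange k κ L L A).symm.toRingEquiv
  haveI : IsRegularLocalRing A := (Groth.Agent.S2471.result.1 hfs).1
  -- the prime below
  set q := Ideal.comap φ.toRingHom (maximalIdeal A) with hqdef
  haveI : q.IsPrime := Ideal.IsPrime.comap _
  let Pq := Localization.AtPrime q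
  haveI : IsRegularRing (MvPolynomial (Fin m) k) := inferInstance
  haveI : IsRegularLocalRing Pq := IsRegularRing.isRegularLocalRing_localization q
  have huA : ∀ s : q.primeCompl, IsUnit (algebraMap P A s) := fun s => by
    by_contra hs
    exact s.2 (by show φ.toRingHom (s : P) ∈ maximalIdeal A; exact hs)
  letI : Algebra Pq A := (IsLocalization.lift huA).toAlgebra
  haveI : IsScalarTower P Pq A := IsScalarTower.of_algebraMap_eq fun x => (IsLocalization.lift_eq huA x).symm
  have hmA : (maximalIdeal Pq).map (algebraMap Pq A) ≤ maximalIdeal A := by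
    rw [← Localization.AtPrime.map_eq_maximalIdeal, Ideal.map_map, ← IsScalarTower.algebraMap_eq,
      Ideal.map_le_iff_le_comap]
    exact le_rfl
  -- derivatives of elements of the prime stay in the prime
  let y : Fin m → F := fun i => ⟨residue A (φ (MvPolynomial.X i)), hφ i⟩
  let θ : P →ₐ[k] F := MvPolynomial.aeval y
  have hθ : ∀ g, (θ g : K) = residue A (φ g) := fun g => by
    have h1 : F.val.comp θ = ((IsScalarTower.toAlgHom k A K).comp φ) :=
      MvPolynomial.algHom_ext fun i => by
        show ((MvPolynomial.aeval y (MvPolynomial.X i) : F) : K) = _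
        rw [MvPolynomial.aeval_X]
        rfl
    exact AlgHom.congr_fun h1 g
  have hθq : ∀ g, g ∈ q ↔ θ g = 0 := fun g => by
    show φ g ∈ maximalIdeal A ↔ _
    rw [← residue_eq_zero_iff, ← hθ]
    exact ⟨fun h => Subtype.ext h, fun h => by rw [h]; rfl⟩
  have hdθ : ∀ g : P, KaehlerDifferential.D k F (θ g) =
      ∑ i, θ (MvPolynomial.pderiv i g) • KaehlerDifferential.D k F (y i) := by
    intro g
    induction g using MvPolynomial.induction_on with
    | C c =>
      rw [show θ (MvPolynomial.C c) = algebraMap k F c from θ.commutes c, Derivation.map_algebraMap]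
      refine (Finset.sum_eq_zero fun i _ => ?_).symm
      rw [MvPolynomial.pderiv_C, map_zero, zero_smul]
    | add a b ha hb => simp [map_add, ha, hb, add_smul, Finset.sum_add_distrib]
    | mul_X a j ha =>
      rw [map_mul, Derivation.leibniz, ha, show θ (MvPolynomial.X j) = y j from MvPolynomial.aeval_X y j,
        Finset.smul_sum]
      have h1 : ∀ i, θ (MvPolynomial.pderiv i (a * MvPolynomial.X j)) • KaehlerDifferential.D k F (y i) =
          y j • (θ (MvPolynomial.pderiv i a) • KaehlerDifferential.D k F (y i)) +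
            if i = j then θ a • KaehlerDifferential.D k F (y i) else 0 := fun i => by
        rw [Derivation.leibniz, smul_eq_mul, smul_eq_mul, map_add, map_mul, map_mul, MvPolynomial.pderiv_X,
          show θ (MvPolynomial.X j) = y j from MvPolynomial.aeval_X y j, smul_smul]
        rcases eq_or_ne i j with rfl | hij
        · simp [add_smul, add_comm]
        · simp [hij, Pi.single_eq_of_ne (Ne.symm hij)]
      rw [Finset.sum_congr rfl (fun i _ => h1 i), Finset.sum_add_distrib, Finset.sum_ite_eq', if_pos (Finset.mem_univ j)]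
      abel
  have hder : ∀ g ∈ q, ∀ i, MvPolynomial.pderiv i g ∈ q := by
    intro g hg i
    have h1 := hdθ g
    rw [(hθq g).1 hg, map_zero] at h1
    exact (hθq _).2 (Fintype.linearIndependent_iff.1 hb.1 _ h1.symm i)
  -- the deformation of the residue field
  have h2le : maximalIdeal Pq ^ 2 ≤ maximalIdeal Pq := Ideal.pow_le_self two_ne_zero
  obtain ⟨C, _, ι₀, pr, hprs, hpr, hsq, hindC⟩ := exists_deformation ((residue A).comp (algebraMap Pq A))
    (fun a ha => (residue_eq_zero_iff _).2 (hmA (Ideal.mem_map_of_mem _ ha)))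
  let ι : P →+* C := ι₀.comp (algebraMap P Pq)
  have hι : ∀ g, pr (ι g) = residue A (φ g) := fun g => by
    refine (RingHom.congr_fun hpr _).trans ?_
    show residue A (algebraMap Pq A (algebraMap P Pq g)) = _
    rw [← IsScalarTower.algebraMap_apply]
    rfl
  letI : Algebra k C := (ι.comp MvPolynomial.C).toAlgebra
  let J := RingHom.ker pr
  have hkerpr : RingHom.ker pr = J := rfl
  have hm2 : J ^ 2 = ⊥ := hsq
  have hprc : ∀ c : k, pr (algebraMap k C c) = algebraMap k K c := fun c => by
    show pr (ι (MvPolynomial.C c)) = _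
    rw [hι]
    show residue A (φ (algebraMap k P c)) = _
    rw [φ.commutes]
    rfl
  let prk : C →ₐ[k] K := { pr with commutes' := hprc }
  let eJ : (C ⧸ J) ≃ₐ[k] K :=
    (Ideal.quotientEquivAlgOfEq k hkerpr.symm).trans (Ideal.quotientKerAlgEquivOfSurjective (f := prk) hprs)
  obtain ⟨χ, hχ⟩ := hfs C J hm2 (eJ.symm.toAlgHom.comp (IsScalarTower.toAlgHom k A K)) ⟨1, fun b hb' => by
    show eJ.symm (residue A b) = 0
    rw [(residue_eq_zero_iff b).2 (by simpa using hb'), map_zero]⟩
  have hχK : ∀ b, pr (χ b) = residue A b := fun b => by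
    have h2 := congrArg eJ (AlgHom.congr_fun hχ b)
    simp only [AlgHom.comp_apply] at h2
    exact h2.trans (eJ.apply_symm_apply _)
  have hJ0 : ∀ a b, a ∈ J → b ∈ J → a * b = 0 := fun a b ha hb' => by
    have := Ideal.mul_mem_mul ha hb'
    rw [← pow_two, hm2] at this
    exact Ideal.mem_bot.1 this
  have hdiff : ∀ g, χ (φ g) - ι g ∈ J := fun g => by
    rw [← hkerpr, RingHom.mem_ker, map_sub, hχK, hι, sub_self]
  have htaylor : ∀ g, χ (φ g) - ι g =
      ∑ i, ι (MvPolynomial.pderiv i g) * (χ (φ (MvPolynomial.X i)) - ι (MvPolynomial.X i)) := by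
    intro g
    induction g using MvPolynomial.induction_on with
    | C c =>
      rw [show χ (φ (MvPolynomial.C c)) = ι (MvPolynomial.C c) by
        rw [show φ (MvPolynomial.C c) = algebraMap k A c from φ.commutes c, χ.commutes]; rfl, sub_self]
      refine (Finset.sum_eq_zero fun i _ => ?_).symm
      rw [MvPolynomial.pderiv_C, map_zero, zero_mul]
    | add a b ha hb =>
      simp only [map_add, add_mul, Finset.sum_add_distrib, ← ha, ← hb]
      ring
    | mul_X a j ha =>
      have h1 : ∀ i, ι (MvPolynomial.pderiv i (a * MvPolynomial.X j)) * (χ (φ (MvPolynomial.X i)) - ι (MvPolynomial.X i)) =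
          ι (MvPolynomial.X j) * (ι (MvPolynomial.pderiv i a) * (χ (φ (MvPolynomial.X i)) - ι (MvPolynomial.X i))) +
            if i = j then ι a * (χ (φ (MvPolynomial.X i)) - ι (MvPolynomial.X i)) else 0 := fun i => by
        rw [Derivation.leibniz, smul_eq_mul, smul_eq_mul, map_add, map_mul, map_mul, MvPolynomial.pderiv_X]
        rcases eq_or_ne i j with rfl | hij
        · simp; ring
        · simp [hij, Pi.single_eq_of_ne (Ne.symm hij)]; ring
      rw [Finset.sum_congr rfl (fun i _ => h1 i), Finset.sum_add_distrib, Finset.sum_ite_eq',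
        if_pos (Finset.mem_univ j), ← Finset.mul_sum, ← ha, map_mul, map_mul, map_mul]
      have h2 := hJ0 _ _ (hdiff a) (hdiff (MvPolynomial.X j))
      linear_combination h2
  have hχq : ∀ g ∈ q, χ (φ g) = ι g := by
    intro g hg
    refine sub_eq_zero.1 ((htaylor g).trans (Finset.sum_eq_zero fun i _ => ?_))
    refine hJ0 _ _ ?_ (hdiff _)
    rw [← hkerpr, RingHom.mem_ker, hι, residue_eq_zero_iff]
    exact hder g hg i
  have hχJ : (maximalIdeal A).map χ.toRingHom ≤ J := Ideal.map_le_iff_le_comap.2 fun a ha => by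
    rw [Ideal.mem_comap, ← hkerpr, RingHom.mem_ker]
    exact (hχK a).trans ((residue_eq_zero_iff a).2 ha)
  -- parameters of the base
  obtain ⟨h, hdim, -⟩ := GrothLib.RegLoc.exists_dim_eq (R := Pq)
  have hsf : (maximalIdeal Pq).spanFinrank = h := by
    have := IsRegularLocalRing.spanFinrank_maximalIdeal (R := Pq)
    rw [hdim] at this
    exact_mod_cast this
  obtain ⟨g, hg⟩ : ∃ g : Fin h → P, Ideal.span (Set.range fun i => algebraMap P Pq (g i)) = maximalIdeal Pq ∧ ∀ i, g i ∈ q := by
    obtain ⟨x₀, hx₀⟩ := GrothLib.RegLoc.exists_generators_fin (maximalIdeal Pq)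
    obtain ⟨x, hx⟩ : ∃ x : Fin h → Pq, Ideal.span (Set.range x) = maximalIdeal Pq := by
      subst hsf
      exact ⟨x₀, hx₀⟩
    choose a ha using fun i => IsLocalization.surj q.primeCompl (x i)
    refine ⟨fun i => (a i).1, ?_, fun i => ?_⟩
    · rw [← hx]
      refine le_antisymm (Ideal.span_le.2 ?_) (Ideal.span_le.2 ?_)
      · rintro _ ⟨i, rfl⟩
        show algebraMap P Pq (a i).1 ∈ _
        rw [← ha i]
        exact Ideal.mul_mem_right _ _ (Ideal.subset_span ⟨i, rfl⟩)
      · rintro _ ⟨i, rfl⟩
        have hu := IsLocalization.map_units Pq (a i).2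
        exact (Ideal.mul_unit_mem_iff_mem _ hu).1 (by rw [ha i]; exact Ideal.subset_span ⟨i, rfl⟩)
    · have h1 : algebraMap P Pq (a i).1 ∈ maximalIdeal Pq := by
        rw [← ha i]
        exact Ideal.mul_mem_right _ _ (hx ▸ Ideal.subset_span ⟨i, rfl⟩)
      exact (IsLocalization.AtPrime.to_map_mem_maximal_iff Pq q _).1 h1
  obtain ⟨hgspan, hgq⟩ := hg
  -- independence in the cotangent space
  have hindE := coeff_mem_of_sum_mem_sq (fun i => algebraMap P Pq (g i)) hgspan hsf
  have hindA : ∀ c : Fin h → A, ∑ i, c i * φ (g i) ∈ maximalIdeal A ^ 2 → ∀ i, c i ∈ maximalIdeal A := by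
    intro c hc i
    have h1 : χ (∑ i, c i * φ (g i)) = 0 := by
      have h2 : (maximalIdeal A ^ 2).map χ.toRingHom ≤ ⊥ := by
        rw [Ideal.map_pow, ← hm2]
        exact Ideal.pow_right_mono hχJ 2
      exact Ideal.mem_bot.1 (h2 (Ideal.mem_map_of_mem _ hc))
    rw [map_sum, Finset.sum_congr rfl (fun i _ => by rw [map_mul, hχq _ (hgq i)])] at h1
    have h4 : χ (c i) ∈ J := hindC h (fun j => algebraMap P Pq (g j)) (fun j => χ (c j)) h1 hindE i
    rw [← hkerpr, RingHom.mem_ker, hχK, residue_eq_zero_iff] at h4
    exact h4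
  -- completing to a system of parameters of `A`
  let v : Fin h → CotangentSpace A := fun i => (maximalIdeal A).toCotangent
    ⟨φ (g i), hgq i⟩
  have hv : LinearIndependent (ResidueField A) v := by
    rw [Fintype.linearIndependent_iff]
    intro c hc i
    choose c' hc' using fun i => residue_surjective (c i)
    have h5 : (maximalIdeal A).toCotangent (∑ i, c' i • ⟨φ (g i), hgq i⟩) = 0 := by
      rw [map_sum, ← hc]
      refine Finset.sum_congr rfl fun j _ => ?_
      rw [map_smul, ← hc' j]
      exact (algebraMap_smul (ResidueField A) (c' j) (v j)).symm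
    rw [Ideal.toCotangent_eq_zero] at h5
    rw [← hc' i]
    exact (residue_eq_zero_iff _).2 (hindA c' (by simpa using h5) i)
  obtain ⟨n, z, hzspan, hzcard⟩ : ∃ (n : ℕ) (z : Fin n → A),
      Ideal.span (Set.range (Fin.append (fun i => φ (g i)) z)) = maximalIdeal A ∧
        (maximalIdeal A).spanFinrank = h + n := by
    let W : Submodule (ResidueField A) (CotangentSpace A) := Submodule.span _ (Set.range v)
    obtain ⟨W', hW'⟩ := Submodule.exists_isCompl W
    let bW := Module.finBasis (ResidueField A) W'
    choose z hz using fun i => Ideal.toCotangent_surjective (maximalIdeal A) (bW i : CotangentSpace A)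
    refine ⟨_, fun i => (z i : A), ?_, ?_⟩
    · refine GrothLib.RegLoc.eq_maximalIdeal_of_sup_sq (Ideal.span_le.2 ?_) ?_
      · rintro _ ⟨i, rfl⟩
        refine Fin.addCases (fun i => ?_) (fun i => ?_) i
        · rw [Fin.append_left]; exact hgq i
        · rw [Fin.append_right]; exact (z i).2
      · intro x hx
        have hmem : (maximalIdeal A).toCotangent ⟨x, hx⟩ ∈ W ⊔ W' := hW'.sup_eq_top ▸ Submodule.mem_top
        obtain ⟨w, hw, w', hw', hww⟩ := Submodule.mem_sup.1 hmem
        obtain ⟨a, ha⟩ := (Submodule.mem_span_range_iff_exists_fun _).1 hw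
        choose a' ha' using fun i => residue_surjective (a i)
        choose b' hb' using fun i => residue_surjective (bW.repr ⟨w', hw'⟩ i)
        let x' : maximalIdeal A := ∑ i, a' i • ⟨φ (g i), hgq i⟩ + ∑ i, b' i • z i
        have h7 : (maximalIdeal A).toCotangent x' = (maximalIdeal A).toCotangent ⟨x, hx⟩ := by
          rw [← hww, map_add, map_sum, map_sum, ← ha]
          congr 1
          · refine Finset.sum_congr rfl fun j _ => ?_
            rw [map_smul, ← ha' j]
            exact (algebraMap_smul (ResidueField A) (a' j) (v j)).symm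
          · have h8 := congrArg Subtype.val (bW.sum_repr ⟨w', hw'⟩)
            rw [Submodule.coe_sum] at h8
            refine Eq.trans (Finset.sum_congr rfl fun j _ => ?_) h8
            rw [map_smul, hz, Submodule.coe_smul, ← hb' j]
            exact (algebraMap_smul (ResidueField A) (b' j) (bW j : CotangentSpace A)).symm
        rw [Ideal.toCotangent_eq] at h7
        have h9 : (x' : A) ∈ Ideal.span (Set.range (Fin.append (fun i => φ (g i)) fun i => (z i : A))) := by
          rw [Submodule.coe_add, Submodule.coe_sum, Submodule.coe_sum]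
          refine add_mem (Ideal.sum_mem _ fun j _ => ?_) (Ideal.sum_mem _ fun j _ => ?_)
          · exact Ideal.mul_mem_left _ _ (Ideal.subset_span ⟨Fin.castAdd _ j, Fin.append_left _ _ _⟩)
          · exact Ideal.mul_mem_left _ _ (Ideal.subset_span ⟨Fin.natAdd _ j, Fin.append_right _ _ _⟩)
        have := sub_mem (Ideal.mem_sup_left (T := maximalIdeal A ^ 2) h9) (Ideal.mem_sup_right h7)
        simpa using this
    · rw [IsLocalRing.spanFinrank_maximalIdeal_eq_finrank_cotangentSpace,
        ← Submodule.finrank_add_eq_of_isCompl hW', finrank_span_eq_card hv, Fintype.card_fin]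
  obtain ⟨-, hflatA, hregA⟩ := GrothLib.CIPres.flat_and_regular_fibre (R := Pq) (S := A)
    (fun i => algebraMap P Pq (g i)) z hgspan hsf (by
      simp only [← IsScalarTower.algebraMap_apply P Pq A]
      exact hzspan) hzcard
  haveI := hflatA
  haveI : Module.Flat P Pq := IsLocalization.flat Pq q.primeCompl
  refine ⟨Module.Flat.trans P Pq A, ?_⟩
  have hJeq : Ideal.map φ.toRingHom q = (maximalIdeal Pq).map (algebraMap Pq A) := by
    rw [← Localization.AtPrime.map_eq_maximalIdeal, Ideal.map_map, ← IsScalarTower.algebraMap_eq]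
    rfl
  exact IsRegularLocalRing.of_ringEquiv (R := A ⧸ (maximalIdeal Pq).map (algebraMap Pq A)) (Ideal.quotEquivOfEq hJeq.symm)

end Groth.Agent.S9288
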