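import Groth.Statements.S9290
import Groth.Agent.Lib.GRingFT.QuasiFinite
import Groth.Agent.Lib.GeomReg.Local
import Groth.Agent.Lib.AdicExtra.FiniteAlg
import Mathlib.RingTheory.AdicCompletion.AsTensorProduct
-- import your own Groth.Agent.* helpers here

set_option autoImplicit false
universe u
open CAlg

open IsLocalRing TensorProduct

set_option maxHeartbeats 3000000
set_option synthInstance.maxHeartbeats 100000

namespace Groth.Agent.S9290

/-- The last step: regularity goes from the base change over the base to the local completion. -/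
theorem regular_end {R D : Type u} [CommRing R] [CommRing D] [Algebra R D] (p : Ideal R) [p.IsPrime]
    (q : Ideal D) [q.IsPrime]
    {A Bp C CB κ κ' L : Type u} [CommRing A] [CommRing Bp] [CommRing C] [CommRing CB] [CommRing κ] [CommRing κ']
    [CommRing L] [Algebra R A] [IsLocalization.AtPrime A p] [Algebra A C] [Algebra R C] [IsScalarTower R A C]
    [Algebra A κ] [Algebra D Bp] [IsLocalization.AtPrime Bp q] [Algebra Bp CB] [Algebra Bp κ'] [Algebra A L]
    [Algebra R L] [IsScalarTower R A L] [Algebra κ L] [IsScalarTower A κ L] [Algebra D L] [IsScalarTower R D L]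
    [Algebra Bp L] [IsScalarTower D Bp L] [Algebra κ' L] [IsScalarTower Bp κ' L]
    (M : Ideal (D ⊗[R] C)) [M.IsPrime] [Algebra Bp (Localization.AtPrime M)]
    [IsScalarTower D Bp (Localization.AtPrime M)] (e : CB ≃ₐ[Bp] Localization.AtPrime M)
    [IsRegularRing (L ⊗[κ] (κ ⊗[A] C))] : IsRegularRing (L ⊗[κ'] (κ' ⊗[Bp] CB)) := by
  haveI : IsRegularRing (L ⊗[A] C) := IsRegularRing.of_ringEquiv (R := L ⊗[κ] (κ ⊗[A] C))
    (Algebra.TensorProduct.cancelBaseChange A κ L L C).toRingEquiv
  haveI : TensorProduct.CompatibleSMul R A L C := IsLocalization.tensorProduct_compatibleSMul p.primeCompl A L C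
  haveI : IsRegularRing (L ⊗[R] C) := IsRegularRing.of_ringEquiv (R := L ⊗[A] C)
    (Algebra.TensorProduct.equivOfCompatibleSMul R A R L C).toRingEquiv
  haveI : IsRegularRing (L ⊗[D] (D ⊗[R] C)) := IsRegularRing.of_ringEquiv (R := L ⊗[R] C)
    (Algebra.TensorProduct.cancelBaseChange R D L L C).symm.toRingEquiv
  haveI : IsRegularRing (L ⊗[D] Localization.AtPrime M) :=
    GrothLib.GeomReg.isRegularRing_tensor_localization (S := D ⊗[R] C) M.primeCompl L
  haveI : TensorProduct.CompatibleSMul D Bp L (Localization.AtPrime M) :=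
    IsLocalization.tensorProduct_compatibleSMul q.primeCompl Bp L (Localization.AtPrime M)
  haveI : IsRegularRing (L ⊗[Bp] Localization.AtPrime M) := IsRegularRing.of_ringEquiv (R := L ⊗[D] Localization.AtPrime M)
    (Algebra.TensorProduct.equivOfCompatibleSMul D Bp D L (Localization.AtPrime M)).symm.toRingEquiv
  haveI : IsRegularRing (L ⊗[Bp] CB) := IsRegularRing.of_ringEquiv (R := L ⊗[Bp] Localization.AtPrime M)
    (Algebra.TensorProduct.congr (AlgEquiv.refl : L ≃ₐ[Bp] L) e.symm).toRingEquiv
  exact IsRegularRing.of_ringEquiv (R := L ⊗[Bp] CB)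
    (Algebra.TensorProduct.cancelBaseChange Bp κ' L L CB).symm.toRingEquiv

/-- The statement for a local ring of a finite algebra. -/
theorem geometricallyRegular_formalFibre {R D Bp : Type u} [CommRing R] [IsNoetherianRing R] [CommRing D]
    [Algebra R D] [Module.Finite R D] [IsNoetherianRing D] [CommRing Bp] [IsLocalRing Bp] [IsNoetherianRing Bp]
    [Algebra D Bp] [Algebra R Bp] [IsScalarTower R D Bp] (q : Ideal D) [q.IsPrime] [IsLocalization.AtPrime Bp q]
    (p : Ideal R) [p.IsPrime] (hp : p = q.comap (algebraMap R D))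
    (Q' : Ideal Bp) [Q'.IsPrime] (Q : Ideal (Localization.AtPrime p)) [Q.IsPrime]
    (hQ : Ideal.comap (algebraMap R (Localization.AtPrime p)) Q = Ideal.comap (algebraMap R Bp) Q')
    (h : CAlg.IsGeometricallyRegular Q.ResidueField (EGA4.formalFibre (Localization.AtPrime p) Q)) :
    CAlg.IsGeometricallyRegular Q'.ResidueField (EGA4.formalFibre Bp Q') := by
  let A := Localization.AtPrime p
  let C := AdicCompletion (maximalIdeal (Localization.AtPrime p)) (Localization.AtPrime p)
  letI : Algebra p.ResidueField q.ResidueField :=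
    (Ideal.ResidueField.mapₐ p q (Algebra.ofId R D) hp).toRingHom.toAlgebra
  haveI : IsScalarTower R p.ResidueField q.ResidueField :=
    IsScalarTower.of_algebraMap_eq fun x =>
      ((Ideal.ResidueField.mapₐ p q (Algebra.ofId R D) hp).commutes x).symm
  let ρ₀ : Localization.AtPrime p →ₐ[R] q.ResidueField :=
    (IsScalarTower.toAlgHom R p.ResidueField q.ResidueField).comp
      (IsScalarTower.toAlgHom R (Localization.AtPrime p) p.ResidueField)
  let ρ : C →ₐ[R] q.ResidueField :=
    (Ideal.Quotient.liftₐ (maximalIdeal (Localization.AtPrime p)) ρ₀ fun a ha => by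
      show algebraMap p.ResidueField q.ResidueField (residue (Localization.AtPrime p) a) = 0
      rw [(residue_eq_zero_iff a).mpr ha, map_zero]).comp
      ((AdicCompletion.evalOneₐ (maximalIdeal (Localization.AtPrime p))).restrictScalars R)
  have hmax : maximalIdeal C = p.map (algebraMap R C) := calc
    maximalIdeal C = (maximalIdeal (Localization.AtPrime p)).map (algebraMap _ C) :=
      AdicCompletion.maximalIdeal_eq_map
    _ = (p.map (algebraMap R (Localization.AtPrime p))).map (algebraMap _ C) :=
      congrArg (Ideal.map _) Localization.AtPrime.map_eq_maximalIdeal.symm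
    _ = p.map (algebraMap R C) := by rw [Ideal.map_map, ← IsScalarTower.algebraMap_eq]
  haveI : IsAdicComplete (maximalIdeal C) C := by
    rw [AdicCompletion.maximalIdeal_eq_map]
    exact AdicCompletion.isAdicComplete_self _ (maximalIdeal _).fg_of_isNoetherianRing
  let i1 : CommRing C := inferInstance
  -- the completed base change
  let T := D ⊗[R] C
  let i3 : CommRing T := inferInstance
  letI : Algebra C T := Algebra.TensorProduct.rightAlgebra
  haveI : Module.Finite C T :=
    Module.Finite.equiv ({ Algebra.TensorProduct.comm R C D with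
      commutes' := fun r => rfl } : (C ⊗[R] D) ≃ₐ[C] T).toLinearEquiv
  haveI : IsNoetherianRing T := IsNoetherianRing.of_finite C T
  let Φ : T →ₐ[R] q.ResidueField :=
    Algebra.TensorProduct.lift (IsScalarTower.toAlgHom R D q.ResidueField) ρ fun _ _ => Commute.all _ _
  let M := RingHom.ker Φ.toRingHom
  haveI : M.IsPrime := RingHom.ker_isPrime _
  have hΦ : ∀ d c, Φ (d ⊗ₜ c) = algebraMap D q.ResidueField d * ρ c := fun _ _ => rfl
  have hMq : M.comap (algebraMap D T) = q := by
    ext d
    show Φ (algebraMap D T d) = 0 ↔ _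
    rw [Algebra.TensorProduct.algebraMap_apply, Algebra.algebraMap_self, RingHom.id_apply, hΦ, map_one, mul_one]
    exact Ideal.algebraMap_residueField_eq_zero
  have hρ : ∀ c ∈ maximalIdeal C, ρ c = 0 := fun c hc => by
    rw [hmax] at hc
    refine (Ideal.map_le_iff_le_comap.mpr fun a ha => ?_ :
      p.map (algebraMap R C) ≤ RingHom.ker ρ.toRingHom) hc
    show ρ (algebraMap R C a) = 0
    rw [ρ.commutes, IsScalarTower.algebraMap_apply R D q.ResidueField]
    exact Ideal.algebraMap_residueField_eq_zero.mpr (by rw [hp] at ha; exact ha)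
  haveI : Algebra.IsIntegral C T := Algebra.IsIntegral.of_finite C T
  have hMC : M.comap (algebraMap C T) = maximalIdeal C := by
    refine ((maximalIdeal.isMaximal C).eq_of_le (Ideal.IsPrime.ne_top inferInstance) ?_).symm
    intro c hc
    show Φ ((1 : D) ⊗ₜ c) = 0
    rw [hΦ, hρ c hc, mul_zero]
  haveI hMmax : M.IsMaximal :=
    Ideal.isMaximal_of_isIntegral_of_isMaximal_comap (R := C) M (hMC ▸ maximalIdeal.isMaximal C)
  let TM := Localization.AtPrime M
  haveI : IsNoetherianRing TM := IsLocalization.isNoetherianRing M.primeCompl _ inferInstance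
  haveI : IsAdicComplete (maximalIdeal TM) TM :=
    ((GrothLib.AdicExtra.finite_algebra_pi_localizations C T).2.2 ⟨M, hMmax⟩).2
  haveI hflatC : Module.Flat R C := by
    haveI : Module.Flat A C := AdicCompletion.flat_of_isNoetherian _
    haveI : Module.Flat R A := IsLocalization.flat A p.primeCompl
    exact Module.Flat.trans R A C
  let Dq := Localization.AtPrime q
  letI : Algebra Dq TM := (Localization.localRingHom q M (algebraMap D T) hMq.symm).toAlgebra
  haveI : IsScalarTower D Dq TM :=
    IsScalarTower.of_algebraMap_eq fun x => (Localization.localRingHom_to_map _ _ _ hMq.symm x).symm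
  have hfracC : ∀ c : C, ∃ t ∉ q.comap (algebraMap R D), ∃ a : R,
      algebraMap R C t * c - algebraMap R C a ∈ maximalIdeal C := fun c => by
    obtain ⟨z, hz⟩ := (AdicCompletion.residueField_map_bijective A).2 (residue C c)
    obtain ⟨c₀, rfl⟩ := residue_surjective z
    obtain ⟨⟨a, t⟩, has⟩ := IsLocalization.surj p.primeCompl c₀
    refine ⟨t, by rw [← hp]; exact t.2, a, ?_⟩
    have h₀ : c - algebraMap _ C c₀ ∈ maximalIdeal C := by
      rw [← residue_eq_zero_iff, map_sub, ← hz, ResidueField.map_residue, sub_self]
    have h2 : algebraMap R C a = algebraMap R C (t : R) * algebraMap _ C c₀ := by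
      rw [IsScalarTower.algebraMap_apply R A C a, IsScalarTower.algebraMap_apply R A C (t : R), ← map_mul,
        mul_comm (algebraMap R A (t : R)), has]
    rw [h2, ← mul_sub]
    exact Ideal.mul_mem_left _ _ h₀
  obtain ⟨hqT, hres⟩ := GrothLib.GeomReg.fibre_of_fractions (A := R) q M hMq
    (GrothLib.GeomReg.exists_frac_congr q (hp ▸ hmax) hfracC)
  -- move the structure to the local ring of `R'`
  let eB : Dq ≃ₐ[D] Bp := IsLocalization.algEquiv q.primeCompl Dq Bp
  letI : Algebra Bp TM := ((algebraMap Dq TM).comp eB.symm.toRingEquiv.toRingHom).toAlgebra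
  have hBT : ∀ z, algebraMap Bp TM (eB z) = algebraMap Dq TM z := fun z => congrArg (algebraMap Dq TM) (eB.symm_apply_apply z)
  haveI : IsScalarTower D Bp TM := IsScalarTower.of_algebraMap_eq fun x => by
    rw [← eB.commutes, hBT, ← IsScalarTower.algebraMap_apply]
  haveI : Module.Flat Bp TM := by
    haveI : Module.Flat D T := Module.Flat.baseChange R D C
    haveI : Module.Flat T TM := IsLocalization.flat TM M.primeCompl
    haveI : Module.Flat D TM := Module.Flat.trans D T TM
    exact (Module.flat_iff_of_isLocalization Bp q.primeCompl TM).2 inferInstance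
  have hqT' : (maximalIdeal Bp).map (algebraMap Bp TM) = maximalIdeal TM := by
    have h1 : maximalIdeal Bp = (maximalIdeal Dq).map eB.toRingEquiv.toRingHom :=
      (IsLocalRing.eq_maximalIdeal (Ideal.IsMaximal.map_bijective eB.toRingEquiv.toRingHom eB.bijective
        (maximalIdeal.isMaximal Dq))).symm
    rw [h1, Ideal.map_map, ← hqT]
    congr 1
    exact RingHom.ext hBT
  haveI : IsLocalHom (algebraMap Bp TM) := ((local_hom_TFAE _).out 0 2 rfl rfl).mpr hqT'.le
  have hk : Function.Bijective (ResidueField.map (algebraMap Bp TM)) := by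
    refine ⟨(ResidueField.map _).injective, fun x => ?_⟩
    obtain ⟨t, rfl⟩ := residue_surjective x
    obtain ⟨z, hz⟩ := hres t
    exact ⟨residue _ (eB z), (ResidueField.map_residue _ _).trans (Ideal.Quotient.eq.mpr (by rw [hBT]; exact hz))⟩
  obtain ⟨ψ, hψ⟩ := GrothLib.GeomReg.exists_completion_map Bp TM
  have hψb := GrothLib.AdicExtra.bijective_completion ψ hψ hqT' hk
  let eψ : EGA4.Cpl Bp ≃ₐ[Bp] TM := AlgEquiv.ofRingEquiv
    (f := (RingEquiv.ofBijective ψ hψb).trans (AdicCompletion.ofAlgEquiv (maximalIdeal TM)).symm.toRingEquiv) fun x => by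
      show (AdicCompletion.ofAlgEquiv (maximalIdeal TM)).symm (ψ (algebraMap Bp _ x)) = _
      rw [show ψ (algebraMap Bp _ x) = algebraMap TM _ (algebraMap Bp TM x) from RingHom.congr_fun hψ x,
        AdicCompletion.algebraMap_apply]
      exact AdicCompletion.ofAlgEquiv_symm_of (maximalIdeal TM) _
  -- the field extension
  intro L _ _ hL
  letI : Algebra Bp L := ((algebraMap Q'.ResidueField L).comp (algebraMap Bp Q'.ResidueField)).toAlgebra
  haveI : IsScalarTower Bp Q'.ResidueField L := IsScalarTower.of_algebraMap_eq fun _ => rfl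
  letI : Algebra D L := ((algebraMap Bp L).comp (algebraMap D Bp)).toAlgebra
  haveI : IsScalarTower D Bp L := IsScalarTower.of_algebraMap_eq fun _ => rfl
  letI : Algebra R L := ((algebraMap Bp L).comp (algebraMap R Bp)).toAlgebra
  haveI : IsScalarTower R Bp L := IsScalarTower.of_algebraMap_eq fun _ => rfl
  haveI : IsScalarTower R D L := IsScalarTower.of_algebraMap_eq fun x => by
    show algebraMap Bp L (algebraMap R Bp x) = algebraMap Bp L (algebraMap D Bp (algebraMap R D x))
    rw [← IsScalarTower.algebraMap_apply R D Bp]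
  let s := Q'.comap (algebraMap D Bp)
  let q0 := Ideal.comap (algebraMap R A) Q
  have hs0 : q0 = s.comap (algebraMap R D) := by
    show Ideal.comap (algebraMap R A) Q = _
    rw [Ideal.comap_comap, ← IsScalarTower.algebraMap_eq]
    exact hQ
  letI : Algebra s.ResidueField Q'.ResidueField :=
    (Ideal.ResidueField.mapₐ s Q' (Algebra.ofId D Bp) rfl).toRingHom.toAlgebra
  haveI : IsScalarTower D s.ResidueField Q'.ResidueField := IsScalarTower.of_algebraMap_eq fun x =>
    ((Ideal.ResidueField.mapₐ s Q' (Algebra.ofId D Bp) rfl).commutes x).symm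
  have hbs : Function.Bijective (algebraMap s.ResidueField Q'.ResidueField) :=
    RingHom.SurjectiveOnStalks.residueFieldMap_bijective
      (RingHom.surjectiveOnStalks_of_isLocalization (M := q.primeCompl) Bp) s Q' rfl
  letI : Algebra q0.ResidueField s.ResidueField :=
    (Ideal.ResidueField.mapₐ q0 s (Algebra.ofId R D) hs0).toRingHom.toAlgebra
  haveI : IsScalarTower R q0.ResidueField s.ResidueField := IsScalarTower.of_algebraMap_eq fun x =>
    ((Ideal.ResidueField.mapₐ q0 s (Algebra.ofId R D) hs0).commutes x).symm
  haveI : Module.Finite s.ResidueField Q'.ResidueField :=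
    Module.Finite.of_surjective (Algebra.linearMap s.ResidueField Q'.ResidueField) hbs.2
  haveI hfin0 : Module.Finite q0.ResidueField s.ResidueField := by
    haveI : Algebra.EssFiniteType R s.ResidueField := .comp R D s.ResidueField
    haveI : Algebra.EssFiniteType q0.ResidueField s.ResidueField := Algebra.EssFiniteType.of_comp R q0.ResidueField _
    haveI : Algebra.IsIntegral q0.ResidueField s.ResidueField := ⟨fun z => by
      obtain ⟨a, d, -, rfl⟩ := IsFractionRing.div_surjective (D ⧸ s) z
      have hi : ∀ y : D ⧸ s, IsIntegral q0.ResidueField (algebraMap (D ⧸ s) s.ResidueField y) := fun y => by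
        obtain ⟨y, rfl⟩ := Ideal.Quotient.mk_surjective y
        rw [← Ideal.Quotient.algebraMap_eq, ← IsScalarTower.algebraMap_apply D (D ⧸ s) s.ResidueField]
        exact ((Algebra.IsIntegral.isIntegral (R := R) y).map (IsScalarTower.toAlgHom R D s.ResidueField)).tower_top
      rw [div_eq_mul_inv]
      exact (hi a).mul (hi d).inv⟩
    exact Algebra.finite_of_essFiniteType_of_isAlgebraic
  letI : Algebra q0.ResidueField L := ((algebraMap Q'.ResidueField L).comp
    ((algebraMap s.ResidueField Q'.ResidueField).comp (algebraMap q0.ResidueField s.ResidueField))).toAlgebra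
  letI : Algebra s.ResidueField L :=
    ((algebraMap Q'.ResidueField L).comp (algebraMap s.ResidueField Q'.ResidueField)).toAlgebra
  haveI : IsScalarTower s.ResidueField Q'.ResidueField L := IsScalarTower.of_algebraMap_eq fun _ => rfl
  haveI : IsScalarTower q0.ResidueField s.ResidueField L := IsScalarTower.of_algebraMap_eq fun _ => rfl
  haveI : Module.Finite s.ResidueField L := Module.Finite.trans Q'.ResidueField L
  haveI : Module.Finite q0.ResidueField L := Module.Finite.trans s.ResidueField L
  haveI : IsScalarTower R q0.ResidueField L := IsScalarTower.of_algebraMap_eq fun x => by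
    show algebraMap Bp L (algebraMap R Bp x) = algebraMap Q'.ResidueField L
      (algebraMap s.ResidueField Q'.ResidueField (algebraMap q0.ResidueField s.ResidueField (algebraMap R q0.ResidueField x)))
    rw [← IsScalarTower.algebraMap_apply R q0.ResidueField s.ResidueField,
      IsScalarTower.algebraMap_apply R D s.ResidueField, ← IsScalarTower.algebraMap_apply D s.ResidueField Q'.ResidueField,
      IsScalarTower.algebraMap_apply R D Bp, IsScalarTower.algebraMap_apply D Bp Q'.ResidueField,
      ← IsScalarTower.algebraMap_apply Bp Q'.ResidueField L]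
  letI : Algebra q0.ResidueField Q.ResidueField :=
    (Ideal.ResidueField.mapₐ q0 Q (Algebra.ofId R A) rfl).toRingHom.toAlgebra
  haveI : IsScalarTower R q0.ResidueField Q.ResidueField := IsScalarTower.of_algebraMap_eq fun x =>
    ((Ideal.ResidueField.mapₐ q0 Q (Algebra.ofId R A) rfl).commutes x).symm
  have hbQ : Function.Bijective (algebraMap q0.ResidueField Q.ResidueField) :=
    RingHom.SurjectiveOnStalks.residueFieldMap_bijective
      (RingHom.surjectiveOnStalks_of_isLocalization (M := p.primeCompl) A) q0 Q rfl
  let eQ : q0.ResidueField ≃+* Q.ResidueField := RingEquiv.ofBijective _ hbQ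
  letI : Algebra Q.ResidueField L := ((algebraMap q0.ResidueField L).comp eQ.symm.toRingHom).toAlgebra
  haveI : IsScalarTower q0.ResidueField Q.ResidueField L := IsScalarTower.of_algebraMap_eq fun x =>
    (congrArg (algebraMap q0.ResidueField L) (eQ.symm_apply_apply x)).symm
  haveI : Module.Finite Q.ResidueField L := Module.Finite.of_restrictScalars_finite q0.ResidueField _ L
  letI : Algebra A L := ((algebraMap Q.ResidueField L).comp (algebraMap A Q.ResidueField)).toAlgebra
  haveI : IsScalarTower A Q.ResidueField L := IsScalarTower.of_algebraMap_eq fun _ => rfl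
  haveI : IsScalarTower R A L := IsScalarTower.of_algebraMap_eq fun x => by
    show algebraMap R L x = algebraMap Q.ResidueField L (algebraMap A Q.ResidueField (algebraMap R A x))
    rw [← IsScalarTower.algebraMap_apply R A Q.ResidueField, IsScalarTower.algebraMap_apply R q0.ResidueField Q.ResidueField,
      ← IsScalarTower.algebraMap_apply q0.ResidueField Q.ResidueField L, ← IsScalarTower.algebraMap_apply]
  haveI := h L inferInstance
  exact regular_end (A := A) (C := C) (κ := Q.ResidueField) p q M eψ

/-- Let R' be a Noetherian algebra of finite type over the Noetherian ring R, quasi-finite at the prime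
p' over p, and let Q' ⊆ R'_{p'} and Q ⊆ R_p be primes with the same contraction to R (that is, a
prime q' ⊆ p' of R' lying over the prime q ⊆ p of R). If the formal fibre of R_p at Q is
geometrically regular over κ(Q), then the formal fibre of R'_{p'} at Q' is geometrically regular
over κ(Q'). -/
theorem result (R R' : Type u) [CommRing R] [CommRing R']
    [IsNoetherianRing R] [IsNoetherianRing R'] [Algebra R R'] [Algebra.FiniteType R R']
    (p' : Ideal R') [p'.IsPrime] [Algebra.QuasiFiniteAt R p']
    (Q' : Ideal (Localization.AtPrime p')) [Q'.IsPrime]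
    (Q : Ideal (Localization.AtPrime (Ideal.comap (algebraMap R R') p'))) [Q.IsPrime]
    (hQ : Ideal.comap (algebraMap R (Localization.AtPrime (Ideal.comap (algebraMap R R') p'))) Q =
      Ideal.comap (algebraMap R (Localization.AtPrime p')) Q')
    (h : CAlg.IsGeometricallyRegular Q.ResidueField
      (EGA4.formalFibre (Localization.AtPrime (Ideal.comap (algebraMap R R') p')) Q)) :
    CAlg.IsGeometricallyRegular Q'.ResidueField (EGA4.formalFibre (Localization.AtPrime p') Q') := by
  obtain ⟨D, hfg, r, hr, hbij⟩ := Algebra.QuasiFiniteAt.exists_fg_and_exists_notMem_and_awayMap_bijective (R := R) p'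
  haveI : Module.Finite R D := Module.Finite.iff_fg.2 hfg
  haveI : IsNoetherianRing D := IsNoetherianRing.of_finite R D
  haveI : IsNoetherianRing R' := Algebra.FiniteType.isNoetherianRing R R'
  have hx : ∀ x : R', ∃ (N : ℕ) (a : D), (r : R') ^ N * x = a := fun x => by
    obtain ⟨y, hy⟩ := hbij.2 (algebraMap R' _ x)
    obtain ⟨⟨a, ⟨_, n, rfl⟩⟩, hy'⟩ := IsLocalization.surj (Submonoid.powers r) y
    have h1 := congrArg (Localization.awayMap D.val.toRingHom r) hy'
    rw [map_mul, hy] at h1
    simp only [Localization.awayMap, IsLocalization.Away.map, IsLocalization.map_eq, map_pow] at h1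
    rw [← map_pow, ← map_mul] at h1
    obtain ⟨⟨_, k, rfl⟩, hk⟩ := IsLocalization.exists_of_eq (M := Submonoid.powers (D.val.toRingHom r)) h1
    refine ⟨k + n, r ^ k * a, ?_⟩
    change (r : R') ^ k * (x * (r : R') ^ n) = (r : R') ^ k * (a : R') at hk
    push_cast
    rw [← hk, pow_add]
    ring
  let q := p'.comap (algebraMap D R')
  haveI : IsLocalization.AtPrime (Localization.AtPrime p') q := by
    refine ⟨fun s => IsLocalization.map_units (Localization.AtPrime p') (⟨(s : D), s.2⟩ : p'.primeCompl),
      fun z => ?_, fun {a b} hab => ?_⟩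
    · obtain ⟨⟨x, s⟩, hz⟩ := IsLocalization.surj p'.primeCompl z
      obtain ⟨N, a, ha⟩ := hx x
      obtain ⟨M, b, hb⟩ := hx s
      refine ⟨⟨r ^ M * a, ⟨r ^ N * b, ?_⟩⟩, ?_⟩
      · show ((r ^ N * b : D) : R') ∉ p'
        push_cast
        rw [← hb]
        exact ‹p'.IsPrime›.mul_notMem (fun h => hr (‹p'.IsPrime›.mem_of_pow_mem N h))
          (‹p'.IsPrime›.mul_notMem (fun h => hr (‹p'.IsPrime›.mem_of_pow_mem M h)) s.2)
      · show z * algebraMap R' _ ((r ^ N * b : D) : R') = algebraMap R' _ ((r ^ M * a : D) : R')
        push_cast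
        rw [← hb, ← ha]
        simp only [map_mul, map_pow, ← hz]
        ring
    · obtain ⟨⟨s, hs⟩, hsab⟩ := IsLocalization.exists_of_eq (M := p'.primeCompl) hab
      obtain ⟨N, b', hb'⟩ := hx s
      refine ⟨⟨b', ?_⟩, Subtype.ext ?_⟩
      · show (b' : R') ∉ p'
        rw [← hb']
        exact ‹p'.IsPrime›.mul_notMem (fun h => hr (‹p'.IsPrime›.mem_of_pow_mem N h)) hs
      · push_cast
        rw [← hb', mul_assoc, mul_assoc]
        exact congrArg ((r : R') ^ N * ·) hsab
  haveI : IsNoetherianRing (Localization.AtPrime p') := IsLocalization.isNoetherianRing p'.primeCompl _ inferInstance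
  exact geometricallyRegular_formalFibre q (Ideal.comap (algebraMap R R') p') rfl Q' Q hQ h

end Groth.Agent.S9290
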