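import Groth.Statements.S9291
import Groth.Agent.Lib.Hensel.PairNbhd
-- import your own Groth.Agent.* helpers here

set_option autoImplicit false
universe u
open EtAlg

namespace Groth.Agent.S9291

/-- Let A be a ring, I an ideal and u a unit of A/I. Then there is an étale ring map A → A' such that
A/I → A'/IA' is an isomorphism, together with a unit of A' mapping to the image of u. -/
theorem result (A : Type u) [CommRing A] (I : Ideal A) (u : (A ⧸ I)ˣ) :
    ∃ (A' : Type u) (_ : CommRing A') (_ : Algebra A A'), Algebra.Etale A A' ∧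
      Function.Bijective (Ideal.quotientMap (Ideal.map (algebraMap A A') I) (algebraMap A A')
        Ideal.le_comap_map) ∧
      ∃ u' : A'ˣ, Ideal.Quotient.mk (Ideal.map (algebraMap A A') I) (u' : A') =
        Ideal.quotientMap (Ideal.map (algebraMap A A') I) (algebraMap A A') Ideal.le_comap_map
          (u : A ⧸ I) := by
  obtain ⟨a, ha⟩ := Ideal.Quotient.mk_surjective (u : A ⧸ I)
  let σ : Localization.Away a →ₐ[A] A ⧸ I :=
    IsLocalization.Away.liftAlgHom a (f := Ideal.Quotient.mkₐ A I) (by
      show IsUnit (Ideal.Quotient.mk I a); rw [ha]; exact u.isUnit)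
  have : Algebra.Etale A (Localization.Away a) := .of_isLocalizationAway a
  obtain ⟨A', _, _, _, hb, φ, σ', hσ⟩ := GrothLib.Hensel.exists_bijective_refine σ
  have hu : IsUnit (algebraMap A A' a) := by
    rw [← φ.commutes]
    exact (IsLocalization.Away.algebraMap_isUnit a).map φ
  refine ⟨A', inferInstance, inferInstance, inferInstance, hb, hu.unit, ?_⟩
  rw [IsUnit.unit_spec, ← ha, Ideal.quotientMap_mk]
end Groth.Agent.S9291
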