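import Groth.Statements.S9292
import Groth.Agent.Lib.Hensel.PairNbhd
import Mathlib.RingTheory.Idempotents
-- import your own Groth.Agent.* helpers here

set_option autoImplicit false
universe u
open EtAlg

namespace Groth.Agent.S9292

/-- Let A be a ring, I an ideal, and e_1, ..., e_n a complete system of orthogonal idempotents of A/I
(equivalently a finite disjoint open covering of Spec(A/I)). Then one can find an A-algebra A' that
is étale over A, such that the induced map A/I → A'/IA' is bijective, together with a complete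
system of orthogonal idempotents of A' lifting the e_j. -/
theorem result (A : Type u) [CommRing A] (I : Ideal A)
    (n : ℕ) (e : Fin n → A ⧸ I) (he : CompleteOrthogonalIdempotents e) :
    ∃ (A' : Type u) (_ : CommRing A') (_ : Algebra A A'), Algebra.Etale A A' ∧
      Function.Bijective (Ideal.quotientMap (Ideal.map (algebraMap A A') I) (algebraMap A A')
        Ideal.le_comap_map) ∧
      ∃ e' : Fin n → A', CompleteOrthogonalIdempotents e' ∧
        ∀ j, Ideal.Quotient.mk (Ideal.map (algebraMap A A') I) (e' j) =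
          Ideal.quotientMap (Ideal.map (algebraMap A A') I) (algebraMap A A') Ideal.le_comap_map
            (e j) := by
  classical
  let H := GrothLib.Hensel.Hull A (A ⧸ I)
  have hH := GrothLib.Hensel.PairHull.isPairHenselization A I
  have := hH.1
  set J := I.map (algebraMap A H)
  choose a ha using fun j ↦ Ideal.Quotient.mk_surjective (e j)
  have hidem : ∀ j, ∃ E : H, IsIdempotentElem E ∧ E - algebraMap A H (a j) ∈ J := fun j ↦ by
    obtain ⟨E, hE, hE'⟩ := GrothLib.Hensel.exists_isIdempotentElem_lift (A := H) (I := J) (B := H)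
      (b := algebraMap A H (a j)) (by
        rw [Algebra.algebraMap_self, Ideal.map_id, ← map_mul, ← map_sub]
        refine Ideal.mem_map_of_mem _ (Ideal.Quotient.eq.mp ?_)
        rw [map_mul, ha, (he.idem j).eq])
    exact ⟨E, hE, by simpa using hE'⟩
  choose E hE hEJ using hidem
  have hproj : ∀ j, GrothLib.Hensel.Hull.proj (E j) = e j := fun j ↦ by
    have h1 := hEJ j
    rw [show J = RingHom.ker _ from GrothLib.Hensel.PairHull.ker_proj.symm] at h1
    have h2 : GrothLib.Hensel.Hull.proj (E j - algebraMap A H (a j)) = 0 := h1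
    rw [map_sub, AlgHom.commutes, sub_eq_zero] at h2
    rw [h2, Ideal.Quotient.algebraMap_eq, ha]
  have hjac : RingHom.ker (GrothLib.Hensel.Hull.proj : H →ₐ[A] A ⧸ I).toRingHom ≤ Ideal.jacobson ⊥ :=
    GrothLib.Hensel.Hull.ker_proj_le_jacobson
  have horth : ∀ i j, i ≠ j → E i * E j = 0 := fun i j hij ↦
    GrothLib.Hensel.eq_of_isIdempotentElem_of_sub_mem hjac ((hE i).mul (hE j)) .zero (by
      show GrothLib.Hensel.Hull.proj (E i * E j - 0) = 0
      rw [sub_zero, map_mul, hproj, hproj, he.ortho hij])
  have hoi : OrthogonalIdempotents E := ⟨hE, fun i j h ↦ horth i j h⟩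
  have hsum : ∑ j, E j = 1 :=
    GrothLib.Hensel.eq_of_isIdempotentElem_of_sub_mem hjac hoi.isIdempotentElem_sum .one (by
      show GrothLib.Hensel.Hull.proj (∑ j, E j - 1) = 0
      rw [map_sub, map_sum, Finset.sum_congr rfl fun j _ ↦ hproj j, he.complete, map_one, sub_self])
  obtain ⟨N, b, hb⟩ := GrothLib.Hensel.Hull.exists_ι_family E
  let rel : (Fin n × Fin n) ⊕ Unit → N.Ring := Sum.elim
    (fun p ↦ b p.1 * b p.2 - if p.1 = p.2 then b p.1 else 0) (fun _ ↦ ∑ j, b j - 1)
  obtain ⟨M, f, hf⟩ := GrothLib.Hensel.Hull.exists_map_eq_zero_family Finset.univ rel fun r _ ↦ by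
    rcases r with ⟨i, j⟩ | _
    · simp only [rel, Sum.elim_inl, map_sub, map_mul, hb]
      split_ifs with h
      · rw [hb]; subst h; rw [(hE i).eq, sub_self]
      · rw [map_zero, horth i j h, sub_self]
    · simp only [rel, Sum.elim_inr, map_sub, map_sum, hb, hsum, map_one, sub_self]
  obtain ⟨A', _, _, _, hb', φ, σ, hσ⟩ := GrothLib.Hensel.exists_bijective_refine M.pt
  let ψ : N.Ring →ₐ[A] A' := φ.comp f.map
  have hψ : σ.comp ψ = N.pt := by rw [← AlgHom.comp_assoc, hσ, f.comp_pt]
  refine ⟨A', inferInstance, inferInstance, inferInstance, hb', fun j ↦ ψ (b j), ⟨⟨fun i ↦ ?_, fun i j hij ↦ ?_⟩, ?_⟩, fun j ↦ ?_⟩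
  · have := congrArg φ (hf (Sum.inl (i, i)) (Finset.mem_univ _))
    simp only [rel, Sum.elim_inl, if_true, map_sub, map_mul, map_zero, sub_eq_zero] at this
    exact this
  · have := congrArg φ (hf (Sum.inl (i, j)) (Finset.mem_univ _))
    simp only [rel, Sum.elim_inl, if_neg hij, sub_zero, map_mul, map_zero] at this
    exact this
  · have := congrArg φ (hf (Sum.inr ()) (Finset.mem_univ _))
    simp only [rel, Sum.elim_inr, map_sub, map_sum, map_one, map_zero, sub_eq_zero] at this
    exact this
  · rw [GrothLib.Hensel.mk_eq_quotientMap hb' σ]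
    congr 1
    rw [← hproj, ← hb, GrothLib.Hensel.Hull.proj_ι, ← hψ]
    rfl
end Groth.Agent.S9292
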