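import Groth.Statements.S9295
import Groth.Agent.Lib.GeomReg.Local
import Mathlib.RingTheory.Flat.FaithfullyFlat.Algebra
-- import your own Groth.Agent.* helpers here

set_option autoImplicit false
universe u
open CAlg

namespace Groth.Agent.S9295

/-- For ring maps A → B → C, if the composite A → C is a regular map and C is flat over B with every
prime of B lying under a prime of C (that is, B → C is faithfully flat), then A → B is a regular
map. -/
theorem result (A B C : Type u) [CommRing A] [CommRing B] [CommRing C]
    [Algebra A B] [Algebra B C] [Algebra A C] [IsScalarTower A B C]
    (hAC : CAlg.IsRegularHom A C) [Module.Flat B C]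
    (hsurj : Function.Surjective (PrimeSpectrum.comap (algebraMap B C))) :
    CAlg.IsRegularHom A B := by
  have : Module.FaithfullyFlat B C := Module.FaithfullyFlat.of_comap_surjective hsurj
  exact GrothLib.GeomReg.isRegularHom_of_faithfullyFlat hAC

end Groth.Agent.S9295
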