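import Groth.Statements.S9296
import Groth.Agent.Lib.Excellent.RkLocus
-- import your own Groth.Agent.* helpers here

set_option autoImplicit false
universe u
open EGA4

namespace Groth.Agent.S9296

/-- For a Noetherian ring R, the set of primes at which R is regular is open in Spec R (R is J-1)
exactly when, for each such prime p, some nonempty open part of the closed set V(p) consists of
primes at which R is regular. Stated with an open U of Spec R whose trace on V(p) is nonempty and
contained in the regular locus. -/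
theorem result (R : Type u) [CommRing R] [IsNoetherianRing R] :
    IsOpen (EGA4.regLocus R) ↔
      ∀ p ∈ EGA4.regLocus R, ∃ U : Set (PrimeSpectrum R), IsOpen U ∧
        (U ∩ PrimeSpectrum.zeroLocus (p.asIdeal : Set R)).Nonempty ∧
        U ∩ PrimeSpectrum.zeroLocus (p.asIdeal : Set R) ⊆ EGA4.regLocus R := by
  refine ⟨fun h p hp => ⟨_, h, ⟨p, hp, fun _ hx => hx⟩, Set.inter_subset_left⟩, fun h => ?_⟩
  refine GrothLib.J2.isOpen_of_stable _ (fun _ _ => GrothLib.J2.regLocus_stable) fun p hp => ?_
  obtain ⟨U, hU, ⟨r, hrU, hrp⟩, hsub⟩ := h p hp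
  obtain ⟨_, ⟨g, rfl⟩, hrg, hgU⟩ :=
    PrimeSpectrum.isTopologicalBasis_basic_opens.exists_subset_of_mem_open hrU hU
  exact ⟨g, fun hgp => hrg (hrp hgp), fun q hpq hq => hsub ⟨hgU hq, hpq⟩⟩

end Groth.Agent.S9296
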