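import Groth.Statements.S9297
import Groth.Agent.Lib.Ratliff.Equidim

set_option autoImplicit false
universe u
open EGA4

namespace Groth.Agent.S9297

/-- Let A → B be a flat local homomorphism of Noetherian local rings with B catenary and Spec(B)
equidimensional. Then Spec(B/pB) is equidimensional for every prime p of A. -/
theorem result (A B : Type u) [CommRing A] [CommRing B]
    [IsNoetherianRing A] [IsNoetherianRing B] [IsLocalRing A] [IsLocalRing B] [Algebra A B]
    [IsLocalHom (algebraMap A B)] [Module.Flat A B] (hcat : CAlg.IsCatenary B) (heq : EGA4.IsEquidim B)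
    (p : Ideal A) [p.IsPrime] : EGA4.IsEquidim (B ⧸ Ideal.map (algebraMap A B) p) := by
  refine (GrothLib.Ratliff.isEquidim_quotient_map_iff heq hcat p).2 fun q hq => ?_
  rw [IsDomain.minimalPrimes_eq_singleton_bot, Set.mem_singleton_iff] at hq
  subst hq
  exact ringKrullDim_eq_of_ringEquiv (RingEquiv.quotientBot _)

end Groth.Agent.S9297
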