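import Groth.Statements.S9300
import Mathlib.RingTheory.Ideal.MinimalPrime.Localization

set_option autoImplicit false
universe u
open CAlg

namespace Groth.Agent.S9300

/-- Let A and B be domains and A → B a ring map for which the generic point of Spec(A) has a unique
preimage in Spec(B). Then every nonzero ideal of B has nonzero preimage in A. -/
theorem result (A B : Type u) [CommRing A] [IsDomain A]
    [CommRing B] [IsDomain B] (φ : A →+* B)
    (h : ∃! q : PrimeSpectrum B, Ideal.comap φ q.asIdeal = ⊥) (J : Ideal B) (hJ : J ≠ ⊥) :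
    Ideal.comap φ J ≠ ⊥ := by
  intro hJ0
  obtain ⟨q, hq, huniq⟩ := h
  obtain ⟨b, hbJ, hb⟩ := Submodule.exists_mem_ne_zero_of_ne_bot hJ
  -- `(0)` lies over the generic point
  have hinj : Function.Injective φ := by
    rw [RingHom.injective_iff_ker_eq_bot, RingHom.ker, ← hq]
    exact le_antisymm (Ideal.comap_mono bot_le) (hq.le.trans bot_le)
  have hbot : q = ⟨⊥, Ideal.isPrime_bot⟩ :=
    (huniq _ (Ideal.comap_bot_of_injective φ hinj)).symm
  -- a prime containing `J` and missing `A ∖ 0`
  have hdisj : Disjoint (J : Set B) (Submonoid.map φ (nonZeroDivisors A)) := by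
    rw [Set.disjoint_left]
    rintro _ hy ⟨a, ha, rfl⟩
    have : a ∈ Ideal.comap φ J := hy
    rw [hJ0, Ideal.mem_bot] at this
    exact nonZeroDivisors.ne_zero ha this
  obtain ⟨P, hP, hJP, hPd⟩ := Ideal.exists_le_prime_disjoint J _ hdisj
  have hP0 : Ideal.comap φ P = ⊥ := by
    refine eq_bot_iff.2 fun a ha => ?_
    by_contra hne
    exact Set.disjoint_left.1 hPd ha ⟨a, mem_nonZeroDivisors_of_ne_zero hne, rfl⟩
  have := (huniq ⟨P, hP⟩ hP0).trans hbot
  have hPb : P = ⊥ := congrArg PrimeSpectrum.asIdeal this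
  exact hb ((Ideal.mem_bot).1 (hPb ▸ hJP hbJ))

end Groth.Agent.S9300
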