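import Groth.Statements.S9301
import Mathlib.RingTheory.Flat.TorsionFree


set_option autoImplicit false
universe u
open CAlg

namespace Groth.Agent.S9301

/-- Let A and B be domains and A → B a flat ring map which is the localization of a quasi-finite ring
map A → B₀ (of finite type with finite fibres). Then every nonzero ideal of B has nonzero preimage
in A. -/
theorem result (A B₀ B : Type u) [CommRing A] [IsDomain A]
    [CommRing B₀] [CommRing B] [IsDomain B] [Algebra A B₀] [Algebra.FiniteType A B₀]
    [Algebra.QuasiFinite A B₀] (S : Submonoid B₀) [Algebra B₀ B] [IsLocalization S B] [Algebra A B]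
    [IsScalarTower A B₀ B] [Module.Flat A B] (J : Ideal B) (hJ : J ≠ ⊥) :
    Ideal.comap (algebraMap A B) J ≠ ⊥ := by
  haveI : Nontrivial B := inferInstance
  have hinj : Function.Injective (algebraMap A B) := by
    rw [injective_iff_map_eq_zero]
    intro a ha
    by_contra h0
    have hreg : IsRegular a := isRegular_of_ne_zero h0
    have h1 : IsSMulRegular B a := Module.Flat.isSMulRegular_of_isRegular hreg
    refine one_ne_zero (α := B) (h1 ?_)
    show a • (1 : B) = a • (0 : B)
    rw [smul_zero, Algebra.smul_def, mul_one, ha]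
  intro h
  refine hJ (eq_bot_iff.2 fun b hb => ?_)
  -- a prime of `B` containing `J` and avoiding `A ∖ 0`
  have hdisj : Disjoint (J : Set B) ((nonZeroDivisors A).map (algebraMap A B)) := by
    rw [Set.disjoint_left]
    rintro _ hx ⟨a, ha, rfl⟩
    exact nonZeroDivisors.ne_zero ha (by
      have : a ∈ Ideal.comap (algebraMap A B) J := hx
      rwa [h, Ideal.mem_bot] at this)
  obtain ⟨P, hP, hJP, hPd⟩ := Ideal.exists_le_prime_disjoint J _ hdisj
  have hP0 : P.comap (algebraMap A B) = ⊥ := eq_bot_iff.2 fun a ha => by
    rw [Ideal.mem_bot]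
    by_contra ha0
    exact Set.disjoint_left.1 hPd ha ⟨a, mem_nonZeroDivisors_of_ne_zero ha0, rfl⟩
  haveI : Algebra.QuasiFinite A B := .of_isLocalization (R := A) S
  haveI : (⊥ : Ideal B).IsPrime := Ideal.isPrime_bot
  have : (⊥ : Ideal B) = P := by
    refine Algebra.QuasiFinite.eq_of_le_of_under_eq (R := A) ⊥ P bot_le ?_
    show (⊥ : Ideal B).comap (algebraMap A B) = P.comap (algebraMap A B)
    rw [hP0, Ideal.comap_bot_of_injective _ hinj]
  rw [this]
  exact hJP hb

end Groth.Agent.S9301
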