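import Groth.Statements.S9302
import Mathlib
-- import your own Groth.Agent.* helpers here

set_option autoImplicit false
universe u
open CategoryTheory
open EtAlg

namespace Groth.Agent.S9302

section
open CategoryTheory Polynomial

variable {J : Type u} [Preorder J] (F : J ⥤ CommRingCat.{u})

lemma exists_lift (s : ∀ j, F.obj j) (hs : ∀ (i j : J) (φ : i ⟶ j), (F.map φ).hom (s i) = s j) :
    ∃! x : (Limits.limit F : CommRingCat.{u}), ∀ j, (Limits.limit.π F j).hom x = s j :=
  (Limits.Types.isLimit_iff _).1 ⟨Limits.isLimitOfPreserves (forget CommRingCat)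
    (Limits.limit.isLimit F)⟩ s (fun {i j} φ => hs i j φ)

lemma lim_ext {x y : (Limits.limit F : CommRingCat.{u})}
    (hxy : ∀ j, (Limits.limit.π F j).hom x = (Limits.limit.π F j).hom y) : x = y :=
  Limits.Concrete.limit_ext F x y hxy

lemma π_map {i j : J} (φ : i ⟶ j) (x : (Limits.limit F : CommRingCat.{u})) :
    (F.map φ).hom ((Limits.limit.π F i).hom x) = (Limits.limit.π F j).hom x := by
  rw [← Limits.limit.w F φ]
  rfl

lemma isUnit_lim {x : (Limits.limit F : CommRingCat.{u})}
    (hx : ∀ j, IsUnit ((Limits.limit.π F j).hom x)) : IsUnit x := by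
  obtain ⟨y, hy, -⟩ := exists_lift F (fun j => ((hx j).unit⁻¹ : (F.obj j)ˣ)) (fun i j φ => by
    apply (hx j).mul_left_cancel
    conv_lhs => rw [← π_map F φ x, ← map_mul, (hx i).mul_val_inv, map_one]
    rw [(hx j).mul_val_inv])
  exact .of_mul_eq_one y (lim_ext F fun j => by rw [map_mul, hy, (hx j).mul_val_inv, map_one])

lemma root_unique {R : Type*} [CommRing R] {I : Ideal R} (hI : I ≤ Ideal.jacobson ⊥) (f : R[X])
    {b c : R} (hb : f.IsRoot b) (hc : f.IsRoot c) (hbc : c - b ∈ I)
    (hu : IsUnit (f.derivative.eval b)) : b = c := by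
  obtain ⟨k, hk⟩ := Polynomial.binomExpansion f b (c - b)
  rw [add_sub_cancel, hb.eq_zero, hc.eq_zero, zero_add] at hk
  have hunit : IsUnit (f.derivative.eval b + k * (c - b)) := by
    have := Ideal.mem_jacobson_bot.1 (hI hbc) (k * (hu.unit⁻¹ : Rˣ))
    have h2 := hu.mul this
    convert! h2 using 1
    linear_combination -(k * (c - b)) * hu.mul_val_inv
  have h0 : (c - b) * (f.derivative.eval b + k * (c - b)) = 0 := by linear_combination -hk
  rw [hunit.mul_left_eq_zero, sub_eq_zero] at h0
  exact h0.symm

end

/-- Henselian pairs are preserved under limits: for an inverse system (A_j, I_j) of henselian pairs over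
a preordered set J, the limit A = lim A_j with the ideal I = lim I_j (elements all of whose
projections lie in the I_j) is a henselian pair. -/
theorem result (J : Type u) [Preorder J] (F : J ⥤ CommRingCat.{u})
    (I : ∀ j : J, Ideal (F.obj j))
    (hI : ∀ (i j : J) (φ : i ⟶ j), Ideal.map (F.map φ).hom (I i) ≤ I j)
    (h : ∀ j : J, HenselianRing (F.obj j) (I j)) :
    HenselianRing ((Limits.limit F : CommRingCat.{u}) : Type u)
      (⨅ j : J, Ideal.comap (Limits.limit.π F j).hom (I j)) := by
  set K := ⨅ j : J, Ideal.comap (Limits.limit.π F j).hom (I j) with hK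
  have hjac : K ≤ Ideal.jacobson ⊥ := by
    intro x hx
    rw [Ideal.mem_jacobson_bot]
    intro y
    refine isUnit_lim F fun j => ?_
    rw [map_add, map_mul, map_one]
    have hxj : (Limits.limit.π F j).hom x ∈ I j := (Submodule.mem_iInf _).1 hx j
    exact Ideal.mem_jacobson_bot.1 ((h j).jac hxj) _
  refine ⟨hjac, fun f hf a₀ h₁ h₂ => ?_⟩
  have hu : IsUnit (f.derivative.eval a₀) := by
    have := isLocalHom_of_le_jacobson_bot K hjac
    exact IsUnit.of_map (Ideal.Quotient.mk K) _ h₂
  have key : ∀ j, ∃ a : F.obj j, (f.map (Limits.limit.π F j).hom).IsRoot a ∧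
      a - (Limits.limit.π F j).hom a₀ ∈ I j := by
    intro j
    refine (h j).is_henselian _ (hf.map _) _ ?_ ?_
    · rw [Polynomial.eval_map_apply]
      exact (Submodule.mem_iInf _).1 h₁ j
    · rw [Polynomial.derivative_map, Polynomial.eval_map_apply]
      exact (hu.map _).map _
  choose a ha₁ ha₂ using key
  have hs : ∀ (i j : J) (φ : i ⟶ j), (F.map φ).hom (a i) = a j := by
    intro i j φ
    have e : (F.map φ).hom.comp (Limits.limit.π F i).hom = (Limits.limit.π F j).hom := by
      ext x; exact π_map F φ x
    refine root_unique (h j).jac (f.map (Limits.limit.π F j).hom) ?_ (ha₁ j) ?_ ?_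
    · rw [← e, ← Polynomial.map_map]
      exact (ha₁ i).map
    · have h3 : (F.map φ).hom (a i) - (Limits.limit.π F j).hom a₀ ∈ I j := by
        rw [← π_map F φ a₀, ← map_sub]
        exact hI i j φ (Ideal.mem_map_of_mem _ (ha₂ i))
      have := sub_mem (ha₂ j) h3
      rwa [sub_sub_sub_cancel_right] at this
    · -- the derivative at an approximation is a unit
      have hua : IsUnit ((f.map (Limits.limit.π F i).hom).derivative.eval (a i)) := by
        have := isLocalHom_of_le_jacobson_bot (I i) (h i).jac
        refine IsUnit.of_map (Ideal.Quotient.mk (I i)) _ ?_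
        rw [Polynomial.derivative_map, ← Polynomial.eval_map_apply, Ideal.Quotient.eq.2 (ha₂ i),
          Polynomial.eval_map_apply, Polynomial.eval_map_apply]
        exact (hu.map _).map _
      have := hua.map (F.map φ).hom
      rwa [← Polynomial.eval_map_apply, ← Polynomial.derivative_map, Polynomial.map_map, e] at this
  obtain ⟨x, hx, -⟩ := exists_lift F a hs
  refine ⟨x, ?_, ?_⟩
  · refine lim_ext F fun j => ?_
    rw [map_zero, ← Polynomial.eval_map_apply, hx j]
    exact ha₁ j
  · refine (Submodule.mem_iInf _).2 fun j => ?_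
    rw [Ideal.mem_comap, map_sub, hx j]
    exact ha₂ j

end Groth.Agent.S9302
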