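import Groth.Statements.S9303
import Mathlib
-- import your own Groth.Agent.* helpers here

set_option autoImplicit false
universe u
open CAlg

namespace Groth.Agent.S9303

section
variable {A C : Type u} [CommRing A] [CommRing C] [Algebra A C]

lemma key_elem (f : A) (e : Localization.Away f) (he : IsIdempotentElem e)
    [IsLocalization.Away e (Localization (Algebra.algebraMapSubmonoid C (Submonoid.powers f)))] :
    (∃ (N : ℕ) (x : A), algebraMap A C (f ^ N - x) = 0 ∧
      ∀ b, algebraMap A C b = 0 → ∃ k, f ^ k * (x * b) = 0) ∧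
    (∀ γ : C, ∃ (N : ℕ) (r : A), algebraMap A C r = algebraMap A C (f ^ N) * γ) := by
  let M := Algebra.algebraMapSubmonoid C (Submonoid.powers f)
  let Cf := Localization M
  have tower : ∀ a : A, algebraMap (Localization.Away f) Cf (algebraMap A _ a) =
      algebraMap C Cf (algebraMap A C a) := fun a => by
    rw [← IsScalarTower.algebraMap_apply, ← IsScalarTower.algebraMap_apply]
  have zeroC : ∀ γ : C, algebraMap C Cf γ = 0 → ∃ m, algebraMap A C (f ^ m) * γ = 0 := fun γ hγ => by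
    obtain ⟨⟨_, _, ⟨m, rfl⟩, rfl⟩, hm⟩ := (IsLocalization.map_eq_zero_iff M Cf γ).1 hγ
    exact ⟨m, hm⟩
  have hu : IsUnit (algebraMap (Localization.Away f) Cf e) := IsLocalization.Away.algebraMap_isUnit e
  have he1 : algebraMap (Localization.Away f) Cf e = 1 :=
    hu.mul_left_cancel (by rw [mul_one, ← map_mul, he.eq])
  obtain ⟨⟨x₀, _, N₀, rfl⟩, hx₀⟩ := IsLocalization.surj (Submonoid.powers f) e
  simp only at hx₀
  refine ⟨?_, fun γ => ?_⟩
  · have h0 : algebraMap C Cf (algebraMap A C (f ^ N₀ - x₀)) = 0 := by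
      rw [← tower, map_sub, map_sub, ← hx₀, map_mul, he1, one_mul, sub_self]
    obtain ⟨m, hm⟩ := zeroC _ h0
    refine ⟨m + N₀, f ^ m * x₀, ?_, fun b hb => ?_⟩
    · rw [pow_add, ← mul_sub, map_mul, hm]
    · have hb' : algebraMap (Localization.Away f) Cf (algebraMap A _ b) = 0 := by rw [tower, hb, map_zero]
      obtain ⟨⟨_, k, rfl⟩, hk⟩ := (IsLocalization.map_eq_zero_iff (Submonoid.powers e) Cf _).1 hb'
      have heb : e * algebraMap A _ b = 0 := by
        cases k with
        | zero => simp_all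
        | succ k => simpa [he.pow_succ_eq] using hk
      have : algebraMap A (Localization.Away f) (x₀ * b) = 0 := by
        rw [map_mul, ← hx₀, mul_right_comm, heb, zero_mul]
      obtain ⟨⟨_, j, rfl⟩, hj⟩ := (IsLocalization.map_eq_zero_iff (Submonoid.powers f) _ _).1 this
      exact ⟨j, by linear_combination (f ^ m) * hj⟩
  · obtain ⟨⟨w, _, k, rfl⟩, hw⟩ := IsLocalization.surj (Submonoid.powers e) (algebraMap C Cf γ)
    simp only [map_pow, he1, one_pow, mul_one] at hw
    obtain ⟨⟨r, _, n, rfl⟩, hr⟩ := IsLocalization.surj (Submonoid.powers f) w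
    simp only at hr
    have h0 : algebraMap C Cf (algebraMap A C r - algebraMap A C (f ^ n) * γ) = 0 := by
      rw [map_sub, map_mul, ← tower, ← tower, ← hr, map_mul, hw, mul_comm, sub_self]
    obtain ⟨m, hm⟩ := zeroC _ h0
    refine ⟨m + n, f ^ m * r, ?_⟩
    rw [pow_add, map_mul, map_mul, mul_assoc, ← sub_eq_zero, ← mul_sub]
    exact hm

lemma torsion_of_gens {S : Set A} (f a : A) (hf : f ∈ Ideal.span S) (h : ∀ g ∈ S, ∃ n, g ^ n * a = 0) :
    ∃ n, f ^ n * a = 0 := by
  have : S ⊆ (((⊥ : Ideal A).colon {a}).radical : Set A) := fun g hg => by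
    obtain ⟨n, hn⟩ := h g hg
    exact ⟨n, Submodule.mem_colon_singleton.2 ((Submodule.mem_bot A).2 hn)⟩
  obtain ⟨n, hn⟩ := Ideal.span_le.2 this hf
  exact ⟨n, (Submodule.mem_bot A).1 (Submodule.mem_colon_singleton.1 hn)⟩

variable (C) in
/-- Elements whose product with the kernel of `A → C` is killed by powers of the members of `S`. -/
def cmpl (S : Set A) : Ideal A where
  carrier := {a | ∀ b, algebraMap A C b = 0 → ∀ g ∈ S, ∃ n, g ^ n * (a * b) = 0}
  zero_mem' := fun b _ g _ => ⟨0, by simp⟩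
  add_mem' := fun {a a'} ha ha' b hb g hg => by
    obtain ⟨n, hn⟩ := ha b hb g hg
    obtain ⟨n', hn'⟩ := ha' b hb g hg
    exact ⟨n + n', by rw [pow_add]; linear_combination (g ^ n') * hn + (g ^ n) * hn'⟩
  smul_mem' := fun c a ha b hb g hg => by
    obtain ⟨n, hn⟩ := ha b hb g hg
    exact ⟨n, by rw [smul_eq_mul]; linear_combination c * hn⟩

lemma exists_good (S : Finset A) (f : A)
    (hf : ∃ (N : ℕ) (x : A), algebraMap A C (f ^ N - x) = 0 ∧
      ∀ b, algebraMap A C b = 0 → ∃ k, f ^ k * (x * b) = 0)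
    (hS : ∀ g ∈ S, ∃ (N : ℕ) (x : A), algebraMap A C (g ^ N - x) = 0 ∧
      ∀ b, algebraMap A C b = 0 → ∃ k, g ^ k * (x * b) = 0) :
    ∃ (N : ℕ) (x : A), x ∈ cmpl C (S : Set A) ∧ algebraMap A C (f ^ N - x) = 0 := by
  obtain ⟨N₀, x₀, hx₀, hk⟩ := hf
  choose n y hy hy' using hS
  choose m hm using fun g : S => hk _ (hy g.1 g.2)
  refine ⟨(∑ g, m g) + N₀, f ^ (∑ g, m g) * x₀, fun b hb g hg => ?_, by rw [pow_add, ← mul_sub, map_mul, hx₀, mul_zero]⟩
  obtain ⟨k, hk'⟩ := hy' g hg b hb
  have hle : m ⟨g, hg⟩ ≤ ∑ g, m g := Finset.single_le_sum (f := m) (fun _ _ => Nat.zero_le _) (Finset.mem_univ _)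
  refine ⟨k + n g hg, ?_⟩
  have h1 := hm ⟨g, hg⟩
  rw [← Nat.sub_add_cancel hle, pow_add f, pow_add g]
  linear_combination (f ^ ((∑ g, m g) - m ⟨g, hg⟩) * f ^ m ⟨g, hg⟩ * x₀) * hk' +
    (f ^ ((∑ g, m g) - m ⟨g, hg⟩) * g ^ k * b) * h1

end

/-- Let A be a ring, I a finitely generated ideal and A → C a ring map such that for every f ∈ I the map
A_f → C_f is the localization of A_f at an idempotent. Then there is a surjection A → C' (C' = A/K
for an ideal K) such that A_f → (C × C')_f is an isomorphism for every f ∈ I. -/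
theorem result (A : Type u) [CommRing A]
    (I : Ideal A) (hI : I.FG) (C : Type u) [CommRing C] [Algebra A C]
    (h : ∀ f ∈ I, ∃ e : Localization.Away f, IsIdempotentElem e ∧
      IsLocalization.Away e (Localization (Algebra.algebraMapSubmonoid C (Submonoid.powers f)))) :
    ∃ K : Ideal A, ∀ f ∈ I, Function.Bijective
      (algebraMap (Localization.Away f)
        (Localization (Algebra.algebraMapSubmonoid (C × (A ⧸ K)) (Submonoid.powers f)))) := by
  classical
  obtain ⟨S, hS⟩ := hI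
  have key : ∀ f ∈ I, (∃ (N : ℕ) (x : A), algebraMap A C (f ^ N - x) = 0 ∧
      ∀ b, algebraMap A C b = 0 → ∃ k, f ^ k * (x * b) = 0) ∧
      (∀ γ : C, ∃ (N : ℕ) (r : A), algebraMap A C r = algebraMap A C (f ^ N) * γ) := fun f hf => by
    obtain ⟨e, he, hloc⟩ := h f hf
    exact key_elem f e he
  have hSI : ∀ g ∈ S, g ∈ I := fun g hg => hS ▸ Ideal.subset_span hg
  refine ⟨cmpl C (S : Set A), fun f hf => ?_⟩
  obtain ⟨N, x, hxK, hxC⟩ := exists_good S f (key f hf).1 fun g hg => (key g (hSI g hg)).1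
  set K := cmpl C (S : Set A)
  let B := C × (A ⧸ K)
  let M := Algebra.algebraMapSubmonoid B (Submonoid.powers f)
  let L := Localization M
  have tower : ∀ a : A, algebraMap (Localization.Away f) L (algebraMap A _ a) =
      algebraMap B L (algebraMap A B a) := fun a => by
    rw [← IsScalarTower.algebraMap_apply, ← IsScalarTower.algebraMap_apply]
  have kill : ∀ a ∈ K, ∀ b, algebraMap A C b = 0 → ∃ k, f ^ k * (a * b) = 0 := fun a ha b hb =>
    torsion_of_gens (S := (S : Set A)) f _ (hS ▸ hf) fun g hg => ha b hb g hg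
  refine ⟨?_, ?_⟩
  · rw [injective_iff_map_eq_zero]
    intro z hz
    obtain ⟨⟨a, s⟩, rfl⟩ := IsLocalization.mk'_surjective (Submonoid.powers f) z
    have ha : algebraMap B L (algebraMap A B a) = 0 := by
      rw [← tower, ← IsLocalization.mk'_spec (Localization.Away f) a s, map_mul]
      exact (congrArg (· * _) hz).trans (zero_mul _)
    obtain ⟨⟨_, _, ⟨m, rfl⟩, rfl⟩, hm⟩ := (IsLocalization.map_eq_zero_iff M L _).1 ha
    change algebraMap A B (f ^ m) * algebraMap A B a = 0 at hm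
    rw [← map_mul] at hm
    have hC : algebraMap A C (f ^ m * a) = 0 := congrArg Prod.fst hm
    have hK : f ^ m * a ∈ K := Ideal.Quotient.eq_zero_iff_mem.1 (congrArg Prod.snd hm)
    obtain ⟨k₁, h₁⟩ := kill x hxK _ hC
    obtain ⟨k₂, h₂⟩ := kill _ hK _ hxC
    rw [IsLocalization.mk'_eq_zero_iff]
    refine ⟨⟨f ^ (k₁ + k₂ + N + m), _, rfl⟩, ?_⟩
    change f ^ (k₁ + k₂ + N + m) * a = 0
    rw [pow_add, pow_add, pow_add]
    linear_combination (f ^ k₂) * h₁ + (f ^ k₁) * h₂
  · intro z
    obtain ⟨⟨⟨γ, α⟩, s⟩, rfl⟩ := IsLocalization.mk'_surjective M z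
    obtain ⟨s, _, ⟨n, rfl⟩, rfl⟩ := s
    obtain ⟨a, rfl⟩ := Ideal.Quotient.mk_surjective α
    obtain ⟨P, r, hr⟩ := (key f hf).2 γ
    set y := x * r + (f ^ N - x) * (f ^ P * a) with hy
    have hyB : algebraMap A B y = algebraMap A B (f ^ (N + P)) * ((γ, Ideal.Quotient.mk K a) : B) := by
      refine Prod.ext ?_ ?_
      · change algebraMap A C y = algebraMap A C (f ^ (N + P)) * γ
        rw [hy, map_add, map_mul, map_mul (algebraMap A C) (f ^ N - x), hxC, zero_mul, add_zero, hr, pow_add, map_mul,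
          mul_assoc, ← mul_assoc, ← mul_assoc]
        congr 2
        rw [map_sub, sub_eq_zero] at hxC
        rw [hxC]
      · change Ideal.Quotient.mk K y = Ideal.Quotient.mk K (f ^ (N + P)) * Ideal.Quotient.mk K a
        rw [← map_mul, Ideal.Quotient.eq, hy, pow_add]
        have : x * (r - f ^ P * a) ∈ K := K.mul_mem_right _ hxK
        convert! this using 1
        ring
    refine ⟨IsLocalization.mk' _ y (⟨f ^ (N + P + n), _, rfl⟩ : Submonoid.powers f), ?_⟩
    rw [IsLocalization.eq_mk'_iff_mul_eq]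
    change _ * algebraMap B L (algebraMap A B (f ^ n)) = algebraMap B L _
    have hu : IsUnit (algebraMap B L (algebraMap A B (f ^ (N + P)))) :=
      IsLocalization.map_units L (⟨_, _, ⟨N + P, rfl⟩, rfl⟩ : M)
    apply hu.mul_right_cancel
    rw [mul_assoc, ← map_mul, ← map_mul, mul_comm (f ^ n), ← pow_add, ← tower, ← map_mul, IsLocalization.mk'_spec,
      tower, hyB, map_mul, mul_comm]

end Groth.Agent.S9303
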