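import Groth.Statements.S9304
import Groth.Agent.Lib.MinPrimesHens1.Basic
-- import your own Groth.Agent.* helpers here

set_option autoImplicit false
universe u
open CAlg

namespace Groth.Agent.S9304

open TensorProduct in
/-- Let A be a local ring with finitely many minimal primes, A' the integral closure of A_red in its
total ring of fractions and A^sh a strict henselization of A. Then contraction along A^sh → A' ⊗_A
A^sh is a bijection from the minimal primes of A' ⊗_A A^sh onto the minimal primes of A^sh. -/
theorem result {A Ash : Type u} [CommRing A]
    [IsLocalRing A] (hfin : (minimalPrimes A).Finite) [CommRing Ash] [IsLocalRing Ash] [Algebra A Ash]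
    [IsLocalHom (algebraMap A Ash)] [Hensel.IsStrictHenselization A Ash] :
    Set.BijOn (fun P : Ideal ((CAlg2.normRed A) ⊗[A] Ash) =>
        P.comap (Algebra.TensorProduct.includeRight.toRingHom :
          Ash →+* (CAlg2.normRed A) ⊗[A] Ash))
      (minimalPrimes ((CAlg2.normRed A) ⊗[A] Ash))
      (minimalPrimes Ash) := by
  have := GrothLib.Hensel.IsStrictHenselization.faithfullyFlat (R := A) (S := Ash)
  exact GrothLib.MinPrimesHens1.bijOn_normRed hfin GrothLib.Hensel.IsStrictHenselization.etaleStages

end Groth.Agent.S9304
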