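import Groth.Statements.S9307
import Groth.Agent.Lib.TameAbh21.Root

set_option autoImplicit false
universe u
open EtRam

namespace Groth.Agent.S9307

open TensorProduct in
/-- Let A → B be an injective local homomorphism of discrete valuation rings with fraction fields K ⊆ L,
and let K' be a finite separable extension of K that is tamely ramified relative to A. Then every
field F onto which K' ⊗_K L surjects is, as an extension of L, tamely ramified relative to B. (The
published statement also records that K' ⊗_K L is a finite product of fields, whose factors are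
these F; this row does not state that part.) -/
theorem result (A B K L K' : Type u) [CommRing A] [IsDomain A]
    [IsDiscreteValuationRing A] [CommRing B] [IsDomain B] [IsDiscreteValuationRing B] [Algebra A B]
    [IsLocalHom (algebraMap A B)] (hinj : Function.Injective (algebraMap A B))
    [Field K] [Field L] [Field K'] [Algebra A K] [IsFractionRing A K] [Algebra B L] [IsFractionRing B L]
    [Algebra K L] [Algebra A L] [IsScalarTower A K L] [IsScalarTower A B L]
    [Algebra K K'] [FiniteDimensional K K'] [Algebra.IsSeparable K K']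
    (h : EtRam.IsTamelyRamified A ((algebraMap K K').comp (algebraMap A K)))
    (F : Type u) [Field F] [Algebra (K' ⊗[K] L) F] (hF : Function.Surjective (algebraMap (K' ⊗[K] L) F)) :
    EtRam.IsTamelyRamified B ((algebraMap (K' ⊗[K] L) F).comp
      ((Algebra.TensorProduct.includeRight : L →ₐ[K] K' ⊗[K] L).toRingHom.comp (algebraMap B L))) := by
  letI : Algebra L F := ((algebraMap (K' ⊗[K] L) F).comp
    (Algebra.TensorProduct.includeRight : L →ₐ[K] K' ⊗[K] L).toRingHom).toAlgebra
  let ι : K' →+* F := (algebraMap (K' ⊗[K] L) F).comp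
    (Algebra.TensorProduct.includeLeftRingHom : K' →+* K' ⊗[K] L)
  have hcomm : ι.comp (algebraMap K K') = (algebraMap L F).comp (algebraMap K L) := by
    refine RingHom.ext fun r => ?_
    show algebraMap (K' ⊗[K] L) F (algebraMap K K' r ⊗ₜ 1) = algebraMap (K' ⊗[K] L) F (1 ⊗ₜ algebraMap K L r)
    rw [Algebra.TensorProduct.tmul_one_eq_one_tmul]
  have hgen : IntermediateField.adjoin L (Set.range ι) = ⊤ := by
    rw [eq_top_iff]
    intro x _
    obtain ⟨t, rfl⟩ := hF x
    induction t with
    | zero => rw [map_zero]; exact zero_mem _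
    | add a b ha hb => rw [map_add]; exact add_mem (ha trivial) (hb trivial)
    | tmul a l =>
      rw [show a ⊗ₜ[K] l = (a ⊗ₜ[K] 1) * (1 ⊗ₜ[K] l) by rw [Algebra.TensorProduct.tmul_mul_tmul, mul_one, one_mul],
        map_mul]
      exact mul_mem (IntermediateField.subset_adjoin _ _ ⟨a, rfl⟩)
        (show algebraMap L F l ∈ _ from IntermediateField.algebraMap_mem _ l)
  intro V hV
  letI : Algebra B V := (RingHom.codRestrict ((algebraMap (K' ⊗[K] L) F).comp
    ((Algebra.TensorProduct.includeRight : L →ₐ[K] K' ⊗[K] L).toRingHom.comp (algebraMap B L))) V hV.1).toAlgebra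
  intro hloc
  obtain ⟨V', h', hs, hdvd⟩ := @GrothLib.TameAbh21.baseChange A B K L K' F _ _ _ _ _ _ _ _ hinj _ _ _ _ _ _ _ _ _ _ _
    _ _ _ h _ _ ι hcomm hgen V hV hloc
  refine ⟨hs, fun p hp hc hpe => ?_⟩
  obtain ⟨hdvr', hinj', hl'⟩ := GrothLib.DVRExt.dominates_algebra A K K' V' h'
  obtain ⟨-, hp'⟩ := @h V' h' hl'
  haveI : CharP (IsLocalRing.ResidueField A) p :=
    (RingHom.charP_iff _ (IsLocalRing.ResidueField.map (algebraMap A B)).injective p).mpr hc
  exact hp' p hp this (hpe.trans hdvd)

end Groth.Agent.S9307
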