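import Groth.Statements.S9310
import Mathlib
import Groth.Agent.Lib.RegLoc.PowerSeries
import Groth.Agent.Lib.AdicFS.PowerSeries

set_option autoImplicit false
universe u
open CAlg

namespace Groth.Agent.S9310

/-- Let K be a field, A = K[[x_1, ..., x_n]], and y_1, ..., y_n ∈ A a regular system of parameters (n
elements generating the maximal ideal). Then the substitution map K[[y_1, ..., y_n]] → A is an
isomorphism: f ↦ f(y_1, ..., y_n) is a bijection of K[[x_1, ..., x_n]] onto itself. -/
theorem result (K : Type u) [Field K] (n : ℕ)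
    (y : Fin n → MvPowerSeries (Fin n) K)
    (hy : Ideal.span (Set.range y) = IsLocalRing.maximalIdeal (MvPowerSeries (Fin n) K)) :
    Function.Bijective (MvPowerSeries.subst y : MvPowerSeries (Fin n) K → MvPowerSeries (Fin n) K) := by
  have hy0 : ∀ i, MvPowerSeries.constantCoeff (y i) = 0 := fun i =>
    (GrothLib.RegLoc.PS.mem_max K).1 (hy ▸ Ideal.subset_span ⟨i, rfl⟩)
  have ha := MvPowerSeries.hasSubst_of_constantCoeff_zero hy0
  rw [← MvPowerSeries.coe_substAlgHom ha]
  have hX : (fun i : Fin n => MvPowerSeries.substAlgHom (R := K) ha (MvPowerSeries.X i)) = y :=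
    funext fun i => MvPowerSeries.substAlgHom_X ha i
  have hsp : Ideal.span (Set.range fun i : Fin n => MvPowerSeries.substAlgHom (R := K) ha (MvPowerSeries.X i)) =
      IsLocalRing.maximalIdeal (MvPowerSeries (Fin n) K) := by rw [hX, hy]
  have hd : (IsLocalRing.maximalIdeal (MvPowerSeries (Fin n) K)).spanFinrank = n := by
    have h1 : (IsLocalRing.maximalIdeal (MvPowerSeries (Fin n) K)).spanFinrank ≤ n :=
      GrothLib.RegLoc.spanFinrank_le_of_span _ (GrothLib.RegLoc.PS.span_X K)
    have h2 := GrothLib.RegLoc.PS.natCast_le_ringKrullDim K n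
    rw [← IsRegularLocalRing.spanFinrank_maximalIdeal] at h2
    have h3 : n ≤ (IsLocalRing.maximalIdeal (MvPowerSeries (Fin n) K)).spanFinrank := by exact_mod_cast h2
    omega
  refine ⟨GrothLib.RegLoc.PS.injective _ hsp hd, GrothLib.RegLoc.PS.surjective ?_ _ hsp⟩
  intro r
  obtain ⟨f, rfl⟩ := IsLocalRing.residue_surjective r
  refine ⟨MvPowerSeries.constantCoeff f, ?_⟩
  rw [RingHom.comp_apply, ← sub_eq_zero, ← map_sub, IsLocalRing.residue_eq_zero_iff, GrothLib.RegLoc.PS.mem_max K]
  simp [MvPowerSeries.algebraMap_apply]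

end Groth.Agent.S9310
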