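import Groth.Statements.S9311
import Mathlib
import Groth.Agent.S10826
-- import your own Groth.Agent.* helpers here

set_option autoImplicit false
universe u
open CAlg

namespace Groth.Agent.S9311

/-- Let Λ be a Cohen ring (a complete discrete valuation ring whose maximal ideal is generated by a
prime number p), B = Λ[[x_1, ..., x_n]], and y_1, ..., y_n ∈ B with zero constant terms such that p,
y_1, ..., y_n is a regular system of parameters of B (these n + 1 elements generate the maximal
ideal). Then the substitution map Λ[[y_1, ..., y_n]] → B is an isomorphism: f ↦ f(y_1, ..., y_n) is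
a bijection of Λ[[x_1, ..., x_n]] onto itself. (The published statement allows the y_i to have
constant terms in pΛ, the substitution being defined through the (p, x)-adic topology of B; this row
asks the constant terms to vanish, the case in which substitution is defined coefficientwise with no
topology on Λ.) -/
theorem result (Λ : Type u) [CommRing Λ] [IsDomain Λ]
    [IsDiscreteValuationRing Λ] [IsAdicComplete (IsLocalRing.maximalIdeal Λ) Λ] (p : ℕ) (hp : p.Prime)
    (hm : IsLocalRing.maximalIdeal Λ = Ideal.span {(p : Λ)}) (n : ℕ)
    (y : Fin n → MvPowerSeries (Fin n) Λ) (hy0 : ∀ i, MvPowerSeries.constantCoeff (y i) = 0)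
    (hy : Ideal.span (insert (p : MvPowerSeries (Fin n) Λ) (Set.range y)) =
      IsLocalRing.maximalIdeal (MvPowerSeries (Fin n) Λ)) :
    Function.Bijective (MvPowerSeries.subst y : MvPowerSeries (Fin n) Λ → MvPowerSeries (Fin n) Λ) := by
  classical
  have hs : MvPowerSeries.HasSubst y := MvPowerSeries.hasSubst_of_constantCoeff_zero hy0
  rcases Nat.eq_zero_or_pos n with rfl | hn
  · have h1 : ∀ f : MvPowerSeries (Fin 0) Λ, f = MvPowerSeries.C (MvPowerSeries.constantCoeff f) := by
      intro f
      ext e
      obtain rfl : e = 0 := Subsingleton.elim _ _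
      simp
    have h2 : ∀ f : MvPowerSeries (Fin 0) Λ, MvPowerSeries.subst y f = f := by
      intro f
      have hc : ∀ c, MvPowerSeries.subst y (MvPowerSeries.C c : MvPowerSeries (Fin 0) Λ) = MvPowerSeries.C c := by
        intro c
        rw [← MvPowerSeries.substAlgHom_apply hs,
          ← Algebra.algebraMap_self_apply c, ← MvPowerSeries.algebraMap_apply, AlgHom.commutes]
      rw [h1 f, hc]
    exact ⟨fun a b h => by rwa [h2, h2] at h, fun b => ⟨b, h2 b⟩⟩
  let φ : MvPowerSeries (Fin n) Λ →ₐ[Λ] MvPowerSeries (Fin n) Λ := MvPowerSeries.substAlgHom hs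
  have hX : ∀ i, φ (MvPowerSeries.X i) = y i := fun i => MvPowerSeries.substAlgHom_X hs i
  let J : Matrix (Fin n) (Fin n) Λ := Matrix.of fun i j => MvPowerSeries.coeff (Finsupp.single j 1) (y i)
  have hmem : ∀ j : Fin n, (MvPowerSeries.X j : MvPowerSeries (Fin n) Λ) ∈
      Ideal.span (insert (p : MvPowerSeries (Fin n) Λ) (Set.range y)) := by
    intro j
    rw [hy, IsLocalRing.mem_maximalIdeal]
    intro hu
    have := hu.map (MvPowerSeries.constantCoeff (σ := Fin n) (R := Λ))
    rw [MvPowerSeries.constantCoeff_X] at this
    exact not_isUnit_zero this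
  choose a z hz hza using fun j => Ideal.mem_span_insert.mp (hmem j)
  choose b hb using fun j => (Ideal.mem_span_range_iff_exists_fun).mp (hz j)
  let B : Matrix (Fin n) (Fin n) Λ := Matrix.of fun j i => MvPowerSeries.constantCoeff (b j i)
  have hlin : ∀ (u v : MvPowerSeries (Fin n) Λ) (l : Fin n), MvPowerSeries.constantCoeff v = 0 →
      MvPowerSeries.coeff (Finsupp.single l 1) (u * v) =
        MvPowerSeries.constantCoeff u * MvPowerSeries.coeff (Finsupp.single l 1) v := by
    intro u v l hv
    rw [MvPowerSeries.coeff_mul, Finset.sum_eq_single ((0 : Fin n →₀ ℕ), Finsupp.single l 1)]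
    · simp
    · rintro ⟨c, d⟩ hcd hne
      rw [Finset.HasAntidiagonal.mem_antidiagonal] at hcd
      have hd : d = 0 := by
        by_contra hd
        have hl : ∀ i, c i + d i = Finsupp.single l 1 i := fun i => congrArg (fun e : Fin n →₀ ℕ => e i) hcd
        have hd' : d = Finsupp.single l 1 := by
          ext i
          by_cases hil : i = l
          · subst hil
            have := hl i
            rw [Finsupp.single_eq_same] at this
            rw [Finsupp.single_eq_same]
            by_contra h
            have h0 : d i = 0 := by omega
            apply hd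
            ext j
            by_cases hji : j = i
            · subst hji; simpa using h0
            · have := hl j
              rw [Finsupp.single_eq_of_ne hji] at this
              simp only [Finsupp.coe_zero, Pi.zero_apply]
              omega
          · have := hl i
            rw [Finsupp.single_eq_of_ne hil] at this
            rw [Finsupp.single_eq_of_ne hil]
            omega
        apply hne
        refine Prod.ext ?_ hd'
        ext i
        have := hl i
        rw [hd'] at this
        simp only [Finsupp.coe_zero, Pi.zero_apply]
        omega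
      simp [hd, hv]
    · simp
  have hBJ : ∀ j l, (B * J) j l - (1 : Matrix (Fin n) (Fin n) Λ) j l ∈ IsLocalRing.maximalIdeal Λ := by
    intro j l
    have h := congrArg (MvPowerSeries.coeff (Finsupp.single l 1)) (hza j)
    rw [MvPowerSeries.coeff_X, map_add, ← hb j, map_sum] at h
    simp only [hlin _ _ _ (hy0 _)] at h
    have hp' : MvPowerSeries.coeff (Finsupp.single l 1) (a j * (p : MvPowerSeries (Fin n) Λ)) ∈
        IsLocalRing.maximalIdeal Λ := by
      rw [← map_natCast (MvPowerSeries.C (σ := Fin n) (R := Λ)), MvPowerSeries.coeff_mul_C, hm]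
      exact Ideal.mul_mem_left _ _ (Ideal.mem_span_singleton_self _)
    have h1 : (B * J) j l - (1 : Matrix (Fin n) (Fin n) Λ) j l =
        -MvPowerSeries.coeff (Finsupp.single l 1) (a j * (p : MvPowerSeries (Fin n) Λ)) := by
      have e : ((1 : Matrix (Fin n) (Fin n) Λ) j l) =
          if Finsupp.single l 1 = Finsupp.single j 1 then 1 else 0 := by
        simp [Matrix.one_apply, Finsupp.single_eq_single_iff, eq_comm]
      rw [e, h, Matrix.mul_apply]
      simp [B, J]
    rw [h1]
    exact neg_mem hp'
  have hdet : IsUnit J.det := by
    have h1 : IsLocalRing.residue Λ (B * J).det = 1 := by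
      rw [RingHom.map_det]
      have : (IsLocalRing.residue Λ).mapMatrix (B * J) = 1 := by
        ext j l
        rw [RingHom.mapMatrix_apply, Matrix.map_apply]
        have := (IsLocalRing.residue_eq_zero_iff _).mpr (hBJ j l)
        rw [map_sub, sub_eq_zero] at this
        rw [this]
        simp [Matrix.one_apply, apply_ite]
      rw [this, Matrix.det_one]
    have h2 : IsUnit (B * J).det := by
      by_contra hu
      rw [(IsLocalRing.residue_eq_zero_iff _).mpr ((IsLocalRing.mem_maximalIdeal _).mpr hu)] at h1
      exact zero_ne_one h1
    rw [Matrix.det_mul] at h2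
    exact isUnit_of_mul_isUnit_right h2
  have := Groth.Agent.S10826.result Λ n hn φ (fun i => by rw [hX]; exact hy0 i) (by simp only [hX]; exact hdet)
  simpa [φ, MvPowerSeries.coe_substAlgHom] using this

end Groth.Agent.S9311
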