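import Groth.Statements.S9312
import Mathlib


set_option autoImplicit false
set_option linter.all false
universe u
open CAlg

namespace Groth.Agent.S9312

open scoped TensorProduct

variable (R G : Type u) [CommRing R] [Group G] [Fintype G] [MulSemiringAction G R] (I : Type u)

/-- Substitution of variables. -/
noncomputable def ev {K : Type u} [CommRing K] {σ τ : Type u} (v : σ → MvPolynomial τ K) :
    MvPolynomial σ K →+* MvPolynomial τ K := MvPolynomial.eval₂Hom MvPolynomial.C v

@[simp] theorem ev_X {K : Type u} [CommRing K] {σ τ : Type u} (v : σ → MvPolynomial τ K) (i : σ) :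
    ev v (MvPolynomial.X i) = v i := MvPolynomial.eval₂Hom_X' _ _ i

@[simp] theorem ev_C {K : Type u} [CommRing K] {σ τ : Type u} (v : σ → MvPolynomial τ K) (r : K) :
    ev v (MvPolynomial.C r) = MvPolynomial.C r := MvPolynomial.eval₂Hom_C _ _ r

theorem exists_normPoly (B : MvPolynomial I R) :
    ∃ Q : Polynomial (MvPolynomial I (FixedPoints.subring R G)),
      Q.map (MvPolynomial.map (algebraMap (FixedPoints.subring R G) R)) =
        ∏ σ : G, (Polynomial.X - Polynomial.C (MvPolynomial.map (MulSemiringAction.toRingHom G R σ) B)) := by
  classical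
  set N := ∏ σ : G, (Polynomial.X - Polynomial.C (MvPolynomial.map (MulSemiringAction.toRingHom G R σ) B))
  have hN : ∀ τ : G, N.map (MvPolynomial.map (MulSemiringAction.toRingHom G R τ)) = N := by
    intro τ
    simp only [N, Polynomial.map_prod, Polynomial.map_sub, Polynomial.map_X, Polynomial.map_C]
    refine Fintype.prod_equiv (Equiv.mulLeft τ) _ _ fun σ => ?_
    rw [MvPolynomial.map_map]
    congr 3
    exact congrArg MvPolynomial.map (RingHom.ext fun r => (mul_smul τ σ r).symm)
  refine (Polynomial.mem_lifts N).1 ((Polynomial.lifts_iff_coeff_lifts N).2 fun n => ?_)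
  refine (MvPolynomial.mem_range_map_iff_coeffs_subset).2 ?_
  intro r hr
  obtain ⟨e, -, rfl⟩ := MvPolynomial.mem_coeffs_iff.1 hr
  refine ⟨⟨_, fun τ => ?_⟩, rfl⟩
  have h := congrArg (fun q => (Polynomial.coeff q n).coeff e) (hN τ)
  rw [Polynomial.coeff_map, MvPolynomial.coeff_map] at h
  exact h

theorem monic_of_normPoly (B : MvPolynomial I R) {Q : Polynomial (MvPolynomial I (FixedPoints.subring R G))}
    (hQ : Q.map (MvPolynomial.map (algebraMap (FixedPoints.subring R G) R)) =
        ∏ σ : G, (Polynomial.X - Polynomial.C (MvPolynomial.map (MulSemiringAction.toRingHom G R σ) B))) :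
    Q.Monic :=
  Polynomial.monic_of_injective (MvPolynomial.map_injective _ Subtype.val_injective)
    (hQ ▸ Polynomial.monic_prod_of_monic _ _ fun _ _ => Polynomial.monic_X_sub_C _)


/-- Let a finite group G with n elements act on a ring R by ring automorphisms, with invariant ring R^G,
and let A be an algebra over R^G; G acts on A ⊗ R through the factor R. (1) For every G-invariant b
∈ A ⊗ R there is a monic polynomial over A whose image in (A ⊗ R)[T] is (T - b)^n. (2) For every a
in the kernel of A → A ⊗ R, all coefficients of (T - a)^n below degree n vanish, that is (T - a)^n =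
T^n in A[T]. -/
theorem result (R G A : Type u) [CommRing R] [Group G] [Fintype G]
    [MulSemiringAction G R] [CommRing A] [Algebra (FixedPoints.subring R G) A] :
    (∀ b : TensorProduct (FixedPoints.subring R G) A R,
      (∀ σ : G, Algebra.TensorProduct.map (AlgHom.id (FixedPoints.subring R G) A)
        (MulSemiringAction.toAlgHom (FixedPoints.subring R G) R σ) b = b) →
      ∃ P : Polynomial A, P.Monic ∧
        Polynomial.map (algebraMap A (TensorProduct (FixedPoints.subring R G) A R)) P =
          (Polynomial.X - Polynomial.C b) ^ Fintype.card G) ∧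
    (∀ a : A, algebraMap A (TensorProduct (FixedPoints.subring R G) A R) a = 0 →
      ∀ i : ℕ, i < Fintype.card G → ((Polynomial.X - Polynomial.C a) ^ Fintype.card G).coeff i = 0) := by
  classical
  let π : MvPolynomial A (FixedPoints.subring R G) →ₐ[(FixedPoints.subring R G)] A := MvPolynomial.aeval id
  have hπ : Function.Surjective π := fun a => ⟨MvPolynomial.X a, MvPolynomial.aeval_X _ _⟩
  let ι : MvPolynomial A (FixedPoints.subring R G) →+* MvPolynomial A R := MvPolynomial.map (algebraMap (FixedPoints.subring R G) R)
  let Φ : MvPolynomial A R →+* TensorProduct (FixedPoints.subring R G) A R :=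
    MvPolynomial.eval₂Hom (Algebra.TensorProduct.includeRight : R →ₐ[(FixedPoints.subring R G)] TensorProduct (FixedPoints.subring R G) A R).toRingHom
      (fun a => algebraMap A (TensorProduct (FixedPoints.subring R G) A R) a)
  have hΦC : ∀ r, Φ (MvPolynomial.C r) = (1 : A) ⊗ₜ[(FixedPoints.subring R G)] r := fun r => MvPolynomial.eval₂Hom_C _ _ r
  have hΦX : ∀ a, Φ (MvPolynomial.X a) = a ⊗ₜ[(FixedPoints.subring R G)] (1 : R) := fun a => MvPolynomial.eval₂Hom_X' _ _ a
  have hΦι : Φ.comp ι = (algebraMap A (TensorProduct (FixedPoints.subring R G) A R)).comp π.toRingHom := by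
    refine MvPolynomial.ringHom_ext (fun r => ?_) (fun a => ?_)
    · show Φ (ι (MvPolynomial.C r)) = (π (MvPolynomial.C r)) ⊗ₜ[(FixedPoints.subring R G)] (1 : R)
      rw [show ι (MvPolynomial.C r) = MvPolynomial.C (algebraMap (FixedPoints.subring R G) R r) from MvPolynomial.map_C _ r,
        hΦC, show π (MvPolynomial.C r) = algebraMap (FixedPoints.subring R G) A r from π.commutes r,
        Algebra.algebraMap_eq_smul_one, Algebra.algebraMap_eq_smul_one, TensorProduct.tmul_smul,
        TensorProduct.smul_tmul']
    · show Φ (ι (MvPolynomial.X a)) = (π (MvPolynomial.X a)) ⊗ₜ[(FixedPoints.subring R G)] (1 : R)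
      rw [show ι (MvPolynomial.X a) = MvPolynomial.X a from MvPolynomial.map_X _ a, hΦX,
        show π (MvPolynomial.X a) = a from MvPolynomial.aeval_X _ _]
  constructor
  · intro b hb
    obtain ⟨B, hB⟩ : ∃ B, Φ B = b := by
      clear hb
      induction b using TensorProduct.induction_on with
      | zero => exact ⟨0, map_zero _⟩
      | tmul a r => exact ⟨MvPolynomial.X a * MvPolynomial.C r, by
          rw [map_mul, hΦX, hΦC, Algebra.TensorProduct.tmul_mul_tmul, mul_one, one_mul]⟩
      | add x y hx hy =>
        obtain ⟨B₁, hB₁⟩ := hx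
        obtain ⟨B₂, hB₂⟩ := hy
        exact ⟨B₁ + B₂, by rw [map_add, hB₁, hB₂]⟩
    obtain ⟨Q, hQ⟩ := exists_normPoly R G A B
    refine ⟨Q.map π.toRingHom, (monic_of_normPoly R G A B hQ).map _, ?_⟩
    rw [Polynomial.map_map, ← hΦι, ← Polynomial.map_map, hQ, Polynomial.map_prod]
    rw [show Fintype.card G = (Finset.univ : Finset G).card from rfl, ← Finset.prod_const]
    refine Finset.prod_congr rfl fun σ _ => ?_
    rw [Polynomial.map_sub, Polynomial.map_X, Polynomial.map_C]
    congr 2
    rw [← hb σ, ← hB]
    have key : Φ.comp (MvPolynomial.map (MulSemiringAction.toRingHom G R σ)) =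
        (Algebra.TensorProduct.map (AlgHom.id (FixedPoints.subring R G) A) (MulSemiringAction.toAlgHom (FixedPoints.subring R G) R σ)).toRingHom.comp Φ := by
      refine MvPolynomial.ringHom_ext (fun r => ?_) (fun a => ?_)
      · simp [hΦC]
      · simp [hΦX]
    exact RingHom.congr_fun key B
  · intro a ha i hi
    have hJ : MvPolynomial.X a ∈ (RingHom.ker π.toRingHom).map ι := by
      set J := (RingHom.ker π.toRingHom).map ι with hJdef
      letI : Algebra (FixedPoints.subring R G) (MvPolynomial A R ⧸ J) := inferInstance
      let fA : A →ₐ[(FixedPoints.subring R G)] MvPolynomial A R ⧸ J :=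
        AlgHom.liftOfSurjective π hπ ((Ideal.Quotient.mkₐ (FixedPoints.subring R G) J).comp
          (MvPolynomial.aeval (fun a : A => (MvPolynomial.X a : MvPolynomial A R)))) (fun f hf => by
            show Ideal.Quotient.mk J _ = 0
            rw [Ideal.Quotient.eq_zero_iff_mem]
            have : (MvPolynomial.aeval fun a : A => (MvPolynomial.X a : MvPolynomial A R)) f = ι f := by
              show _ = MvPolynomial.map (algebraMap (FixedPoints.subring R G) R) f
              clear hf
              induction f using MvPolynomial.induction_on with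
              | C c => simp
              | add p q hp hq => rw [map_add, map_add, hp, hq]
              | mul_X p x hp => rw [map_mul, map_mul, hp, MvPolynomial.aeval_X, MvPolynomial.map_X]
            exact this.symm ▸ Ideal.mem_map_of_mem ι hf)
      let fR : R →ₐ[(FixedPoints.subring R G)] MvPolynomial A R ⧸ J :=
        (Ideal.Quotient.mkₐ (FixedPoints.subring R G) J).comp (IsScalarTower.toAlgHom (FixedPoints.subring R G) R (MvPolynomial A R))
      let Ψ := Algebra.TensorProduct.lift fA fR (fun _ _ => Commute.all _ _)
      have key : Ψ.toRingHom.comp Φ = Ideal.Quotient.mk J := by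
        refine MvPolynomial.ringHom_ext (fun r => ?_) (fun x => ?_)
        · show Ψ (Φ (MvPolynomial.C r)) = _
          rw [hΦC, Algebra.TensorProduct.lift_tmul, map_one, one_mul]
          rfl
        · show Ψ (Φ (MvPolynomial.X x)) = _
          rw [hΦX, Algebra.TensorProduct.lift_tmul, map_one, mul_one]
          have hx : π (MvPolynomial.X x) = x := MvPolynomial.aeval_X _ _
          rw [← hx, AlgHom.liftOfSurjective_apply]
          simp [hx]
      have h := RingHom.congr_fun key (MvPolynomial.X a)
      rw [RingHom.comp_apply, hΦX, show a ⊗ₜ[(FixedPoints.subring R G)] (1 : R) = 0 from ha, map_zero] at h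
      exact Ideal.Quotient.eq_zero_iff_mem.1 h.symm
    obtain ⟨c, hc⟩ := Finsupp.mem_ideal_span_range_iff_exists_finsupp.1
      (show MvPolynomial.X a ∈ Ideal.span (Set.range fun f : RingHom.ker π.toRingHom => ι f.1) by
        refine (show (RingHom.ker π.toRingHom).map ι ≤ _ from ?_) hJ
        rw [Ideal.map_le_iff_le_comap]
        exact fun z hz => Ideal.subset_span ⟨⟨z, hz⟩, rfl⟩)
    let B : MvPolynomial (A ⊕ RingHom.ker π.toRingHom) R :=
      c.sum fun f r => MvPolynomial.rename Sum.inl r * MvPolynomial.X (Sum.inr f)
    obtain ⟨Q, hQ⟩ := exists_normPoly R G (A ⊕ RingHom.ker π.toRingHom) B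
    let θ : MvPolynomial (A ⊕ RingHom.ker π.toRingHom) (FixedPoints.subring R G) →+* MvPolynomial A (FixedPoints.subring R G) :=
      ev (Sum.elim MvPolynomial.X (fun f => f.1))
    let Θ : MvPolynomial (A ⊕ RingHom.ker π.toRingHom) R →+* MvPolynomial A R :=
      ev (Sum.elim MvPolynomial.X (fun f => ι f.1))
    let ε : MvPolynomial (A ⊕ RingHom.ker π.toRingHom) (FixedPoints.subring R G) →+* MvPolynomial (A ⊕ RingHom.ker π.toRingHom) (FixedPoints.subring R G) :=
      ev (Sum.elim (fun x => MvPolynomial.X (Sum.inl x)) (fun _ => 0))
    let E : MvPolynomial (A ⊕ RingHom.ker π.toRingHom) R →+* MvPolynomial (A ⊕ RingHom.ker π.toRingHom) R :=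
      ev (Sum.elim (fun x => MvPolynomial.X (Sum.inl x)) (fun _ => 0))
    have hθ : ι.comp θ = Θ.comp (MvPolynomial.map (algebraMap (FixedPoints.subring R G) R)) := by
      refine MvPolynomial.ringHom_ext (fun r => ?_) (fun x => ?_)
      · simp only [θ, Θ, ι]
        rw [RingHom.comp_apply, RingHom.comp_apply]
        repeat (first | rw [MvPolynomial.map_C] | rw [ev_C])
      · simp only [θ, Θ, ι]
        rw [RingHom.comp_apply, RingHom.comp_apply, ev_X, MvPolynomial.map_X, ev_X]
        rcases x with x | x
        · exact MvPolynomial.map_X _ x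
        · rfl
    have hε : (MvPolynomial.map (algebraMap (FixedPoints.subring R G) R)).comp ε =
        E.comp (MvPolynomial.map (algebraMap (FixedPoints.subring R G) R)) := by
      refine MvPolynomial.ringHom_ext (fun r => ?_) (fun x => ?_)
      · simp only [ε, E]
        rw [RingHom.comp_apply, RingHom.comp_apply]
        repeat (first | rw [MvPolynomial.map_C] | rw [ev_C])
      · simp only [ε, E]
        rw [RingHom.comp_apply, RingHom.comp_apply, ev_X, MvPolynomial.map_X, ev_X]
        rcases x with x | x
        · exact MvPolynomial.map_X _ _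
        · exact map_zero _
    have hΘB : Θ B = MvPolynomial.X a := by
      rw [← hc]
      simp only [B, Finsupp.sum, map_sum, map_mul]
      refine Finset.sum_congr rfl fun f _ => ?_
      congr 1
      · show MvPolynomial.eval₂Hom _ _ (MvPolynomial.rename _ _) = _
        rw [MvPolynomial.eval₂Hom_rename]
        exact MvPolynomial.eval₂_eta _
      · exact ev_X _ _
    have hEB : E B = 0 := by
      simp only [B, Finsupp.sum, map_sum, map_mul]
      exact Finset.sum_eq_zero fun f _ => by
        rw [show E (MvPolynomial.X (Sum.inr f)) = 0 from ev_X _ _, mul_zero]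
    have hσX : ∀ σ : G, Θ (MvPolynomial.map (MulSemiringAction.toRingHom G R σ) B) =
        MvPolynomial.map (MulSemiringAction.toRingHom G R σ) (Θ B) := by
      intro σ
      refine RingHom.congr_fun (show Θ.comp (MvPolynomial.map (MulSemiringAction.toRingHom G R σ)) =
        (MvPolynomial.map (MulSemiringAction.toRingHom G R σ)).comp Θ from
        MvPolynomial.ringHom_ext (fun r => by
          simp only [Θ]
          rw [RingHom.comp_apply, RingHom.comp_apply]
          repeat (first | rw [MvPolynomial.map_C] | rw [ev_C]))
        (fun x => by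
          simp only [Θ]
          rw [RingHom.comp_apply, RingHom.comp_apply, ev_X, MvPolynomial.map_X, ev_X]
          rcases x with x | x
          · exact (MvPolynomial.map_X _ x).symm
          · show ι x.1 = MvPolynomial.map _ (ι x.1)
            rw [MvPolynomial.map_map, show (MulSemiringAction.toRingHom G R σ).comp
              (algebraMap (FixedPoints.subring R G) R) = algebraMap (FixedPoints.subring R G) R from
                RingHom.ext fun s => s.2 σ])) B
    have hσE : ∀ σ : G, E (MvPolynomial.map (MulSemiringAction.toRingHom G R σ) B) =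
        MvPolynomial.map (MulSemiringAction.toRingHom G R σ) (E B) := by
      intro σ
      refine RingHom.congr_fun (show E.comp (MvPolynomial.map (MulSemiringAction.toRingHom G R σ)) =
        (MvPolynomial.map (MulSemiringAction.toRingHom G R σ)).comp E from
        MvPolynomial.ringHom_ext (fun r => by
          simp only [E]
          rw [RingHom.comp_apply, RingHom.comp_apply]
          repeat (first | rw [MvPolynomial.map_C] | rw [ev_C]))
        (fun x => by
          simp only [E]
          rw [RingHom.comp_apply, RingHom.comp_apply, ev_X, MvPolynomial.map_X, ev_X]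
          rcases x with x | x
          · exact (MvPolynomial.map_X _ _).symm
          · exact (map_zero _).symm)) B
    have hinj : ∀ J' : Type u, Function.Injective
        (Polynomial.map (MvPolynomial.map (σ := J') (algebraMap (FixedPoints.subring R G) R))) := fun J' =>
      Polynomial.map_injective _ (MvPolynomial.map_injective _ Subtype.val_injective)
    have h1 : Q.map θ = (Polynomial.X - Polynomial.C (MvPolynomial.X a)) ^ Fintype.card G := by
      apply hinj A
      rw [Polynomial.map_map, hθ, ← Polynomial.map_map, hQ, Polynomial.map_prod, Polynomial.map_pow,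
        Polynomial.map_sub, Polynomial.map_X, Polynomial.map_C,
        show Fintype.card G = (Finset.univ : Finset G).card from rfl, ← Finset.prod_const]
      refine Finset.prod_congr rfl fun σ _ => ?_
      rw [Polynomial.map_sub, Polynomial.map_X, Polynomial.map_C, hσX, hΘB, MvPolynomial.map_X,
        MvPolynomial.map_X]
    have h2 : Q.map ε = Polynomial.X ^ Fintype.card G := by
      apply hinj (A ⊕ RingHom.ker π.toRingHom)
      rw [Polynomial.map_map, hε, ← Polynomial.map_map, hQ, Polynomial.map_prod, Polynomial.map_pow,
        Polynomial.map_X, show Fintype.card G = (Finset.univ : Finset G).card from rfl, ← Finset.prod_const]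
      refine Finset.prod_congr rfl fun σ _ => ?_
      rw [Polynomial.map_sub, Polynomial.map_X, Polynomial.map_C, hσE, hEB, map_zero, map_zero, sub_zero]
    have h3 : π.toRingHom.comp θ = (π.toRingHom.comp θ).comp ε := by
      refine MvPolynomial.ringHom_ext (fun r => ?_) (fun x => ?_)
      · simp only [θ, ε]
        rw [RingHom.comp_apply, RingHom.comp_apply, RingHom.comp_apply, ev_C, ev_C, ev_C]
      · simp only [θ, ε]
        rw [RingHom.comp_apply, RingHom.comp_apply, RingHom.comp_apply, ev_X, ev_X]
        rcases x with x | x
        · exact congrArg _ (ev_X _ _).symm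
        · have h0 : π.toRingHom (ev (Sum.elim MvPolynomial.X fun f : RingHom.ker π.toRingHom => f.1) 0) = 0 := by
            rw [map_zero, map_zero]
          exact (RingHom.mem_ker.1 x.2).trans h0.symm
    have h4 : (Polynomial.X - Polynomial.C a) ^ Fintype.card G = (Polynomial.X : Polynomial A) ^ Fintype.card G := by
      have h := congrArg (Polynomial.map π.toRingHom) h1
      rw [Polynomial.map_map, h3, ← Polynomial.map_map, h2] at h
      rw [Polynomial.map_pow, Polynomial.map_X, Polynomial.map_pow, Polynomial.map_sub, Polynomial.map_X, Polynomial.map_C] at h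
      simpa [π] using h.symm
    rw [h4, Polynomial.coeff_X_pow, if_neg hi.ne]

end Groth.Agent.S9312
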