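import Groth.Statements.S9313
import Groth.Agent.Lib.IdemLiftZMT.Basic

set_option autoImplicit false
set_option linter.style.haveILetI false
universe u
open CAlg

namespace Groth.Agent.S9313

/-- Let A be a ring with an ideal I and A → B a ring map of finite type, and suppose B/IB = C_1 × C_2
(given by an idempotent e of B/IB with C_1 = (B/IB)/(1 - e)) where C_1 is finite over A/I. Writing
B' for the integral closure of A in B, some g ∈ B' has idempotent image in B'/IB' lifting e (so
B'/IB' = C_1' × C_2' compatibly with the decomposition of B/IB), and the map B'_g → B_g is an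
isomorphism (whence C_1' = C_1). -/
theorem result (A B : Type u) [CommRing A] [CommRing B]
    [Algebra A B] [Algebra.FiniteType A B] (I : Ideal A) (e : B ⧸ Ideal.map (algebraMap A B) I)
    (he : IsIdempotentElem e)
    (hfin : Module.Finite (A ⧸ I) ((B ⧸ Ideal.map (algebraMap A B) I) ⧸ Ideal.span {1 - e})) :
    ∃ g : integralClosure A B,
      IsIdempotentElem (Ideal.Quotient.mk (Ideal.map (algebraMap A (integralClosure A B)) I) g) ∧
      Ideal.Quotient.mk (Ideal.map (algebraMap A B) I) (g : B) = e ∧
      Function.Bijective (algebraMap (Localization.Away g)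
        (Localization (Algebra.algebraMapSubmonoid B (Submonoid.powers g)))) := by
    obtain ⟨e, rfl⟩ := Ideal.Quotient.mk_surjective e
    set IB := Ideal.map (algebraMap A B) I with hIB
    haveI : Module.Finite A ((B ⧸ IB) ⧸ Ideal.span {1 - Ideal.Quotient.mk IB e}) := by
      haveI : IsScalarTower A (A ⧸ I) ((B ⧸ IB) ⧸ Ideal.span {1 - Ideal.Quotient.mk IB e}) :=
        ⟨fun a x y => by
          obtain ⟨x, rfl⟩ := Ideal.Quotient.mk_surjective x
          obtain ⟨y, rfl⟩ := Ideal.Quotient.mk_surjective y
          obtain ⟨y, rfl⟩ := Ideal.Quotient.mk_surjective y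
          exact congrArg (Submodule.Quotient.mk (p := Ideal.span {1 - Ideal.Quotient.mk IB e}))
            (smul_assoc a (Ideal.Quotient.mk I x) (Ideal.Quotient.mk IB y))⟩
      haveI := hfin
      exact Module.Finite.trans (A ⧸ I) _
    let π : B →ₐ[A] ((B ⧸ IB) ⧸ Ideal.span {1 - Ideal.Quotient.mk IB e}) :=
      (Ideal.Quotient.mkₐ A _).comp (Ideal.Quotient.mkₐ A IB)
    have hπ : Function.Surjective π := Ideal.Quotient.mk_surjective.comp Ideal.Quotient.mk_surjective
    have hI : ∀ b ∈ IB, π b = 0 := fun b hb => by
      show Ideal.Quotient.mk _ (Ideal.Quotient.mk IB b) = 0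
      rw [Ideal.Quotient.eq_zero_iff_mem.2 hb, map_zero]
    have he1 : π e = 1 := by
      show Ideal.Quotient.mk _ (Ideal.Quotient.mk IB e) = Ideal.Quotient.mk _ 1
      rw [Ideal.Quotient.eq, Ideal.mem_span_singleton']
      exact ⟨-1, by ring⟩
    have hker : ∀ b, π b = 0 → e * b ∈ IB := fun b hb => by
      obtain ⟨c, hc⟩ := Ideal.mem_span_singleton'.1 (Ideal.Quotient.eq_zero_iff_mem.1 hb)
      obtain ⟨c, rfl⟩ := Ideal.Quotient.mk_surjective c
      rw [← Ideal.Quotient.eq_zero_iff_mem, map_mul]
      rw [← (show Ideal.Quotient.mk IB c * (1 - Ideal.Quotient.mk IB e) = Ideal.Quotient.mk IB b from hc)]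
      linear_combination -(Ideal.Quotient.mk IB c) * he.eq
    obtain ⟨g, hg1, hg2, hg3⟩ := GrothLib.IdemLiftZMT.exists_idempotent I π hπ hI he1 hker
    refine ⟨g, ?_, Ideal.Quotient.eq.2 hg2, ?_⟩
    · show _ * _ = _
      rw [← map_mul, Ideal.Quotient.eq]
      exact hg1
    · let S := Submonoid.powers g
      haveI : IsLocalization (Algebra.algebraMapSubmonoid B S) (Localization.Away (g : B)) := by
        rw [show Algebra.algebraMapSubmonoid B S = Submonoid.powers (g : B) from Submonoid.map_powers _ _]
        infer_instance
      let φ : Localization.Away (g : B) ≃ₐ[B] Localization (Algebra.algebraMapSubmonoid B S) :=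
        IsLocalization.algEquiv (Algebra.algebraMapSubmonoid B S) _ _
      have hcomp : (algebraMap (Localization.Away g) (Localization (Algebra.algebraMapSubmonoid B S))) =
          φ.toRingEquiv.toRingHom.comp (Localization.awayMap (integralClosure A B).val.toRingHom g) := by
        refine IsLocalization.ringHom_ext S ?_
        ext x
        haveI : IsLocalization (Submonoid.powers ((integralClosure A B).val.toRingHom g))
            (Localization.Away (g : B)) := inferInstanceAs (IsLocalization (Submonoid.powers (g : B)) _)
        have h1 : algebraMap (Localization.Away g) (Localization (Algebra.algebraMapSubmonoid B S))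
            (algebraMap (integralClosure A B) (Localization.Away g) x) =
            algebraMap B (Localization (Algebra.algebraMapSubmonoid B S)) (x : B) :=
          IsLocalization.map_eq _ x
        have h2 : Localization.awayMap (integralClosure A B).val.toRingHom g
            (algebraMap (integralClosure A B) (Localization.Away g) x) =
            algebraMap B (Localization.Away (g : B)) (x : B) := IsLocalization.map_eq _ x
        exact h1.trans ((φ.commutes _).symm.trans (congrArg φ h2.symm))
      rw [hcomp]
      exact φ.bijective.comp hg3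

end Groth.Agent.S9313
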