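import Groth.Statements.S9314
import Groth.Agent.Lib.AdicFSFlat.Andre
import Groth.Agent.Lib.AdicExtra.Local
import Groth.Agent.Lib.AdicExtra.Complete
import Groth.Agent.Lib.GeomReg.FiniteGRing
import Groth.Agent.Lib.FormalDescent.Basic
import Groth.Agent.S9317
import Mathlib.RingTheory.AdicCompletion.AsTensorProduct
-- import your own Groth.Agent.* helpers here

set_option autoImplicit false
universe u
open CAlg

namespace Groth.Agent.S9314

/-- Let `A` and `B` be Noetherian local rings and `A → B` a local ring map, and suppose that the map
from `A` to its completion along the maximal ideal is a regular ring map. If `A → B` is formally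
smooth for the adic topology of the maximal ideal of `B`, then `A → B` is a regular ring map: flat,
with Noetherian fibres that are geometrically regular over the residue fields of `A`. -/
theorem result {A B : Type u}
    [CommRing A] [CommRing B] [IsLocalRing A] [IsLocalRing B] [IsNoetherianRing A]
    [IsNoetherianRing B] [Algebra A B] [IsLocalHom (algebraMap A B)]
    (hA : CAlg.IsRegularHom A (AdicCompletion (IsLocalRing.maximalIdeal A) A))
    (h : CAlgX.IsAdicFormallySmooth A B (IsLocalRing.maximalIdeal B)) :
    CAlg.IsRegularHom A B := by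
  obtain ⟨ψ, hψ⟩ := GrothLib.GeomReg.exists_completion_map A B
  let Â := AdicCompletion (IsLocalRing.maximalIdeal A) A
  let B' := AdicCompletion (IsLocalRing.maximalIdeal B) B
  letI : Algebra Â B' := ψ.toAlgebra
  haveI : IsScalarTower A Â B' := IsScalarTower.of_algebraMap_eq fun a => by
    rw [IsScalarTower.algebraMap_apply A B B']
    exact (RingHom.congr_fun hψ a).symm
  haveI : IsLocalHom (algebraMap Â B') := GrothLib.AdicExtra.isLocalHom_completion ψ hψ
  haveI : IsAdicComplete (IsLocalRing.maximalIdeal Â) Â := by
    rw [AdicCompletion.maximalIdeal_eq_map]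
    exact AdicCompletion.isAdicComplete_self _ (IsLocalRing.maximalIdeal _).fg_of_isNoetherianRing
  haveI : IsAdicComplete (IsLocalRing.maximalIdeal B') B' := by
    rw [AdicCompletion.maximalIdeal_eq_map]
    exact AdicCompletion.isAdicComplete_self _ (IsLocalRing.maximalIdeal _).fg_of_isNoetherianRing
  have hfs : CAlgX.IsAdicFormallySmooth Â B' (IsLocalRing.maximalIdeal B') := by
    have h1 := (Groth.Agent.S9317.result (IsLocalRing.maximalIdeal A) (IsLocalRing.maximalIdeal B)
      (IsNoetherian.noetherian _) (IsNoetherian.noetherian _)
      ⟨1, by rw [pow_one]; exact ((IsLocalRing.local_hom_TFAE (algebraMap A B)).out 0 2 rfl rfl).mp inferInstance⟩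
      ψ hψ).1 h
    rwa [← AdicCompletion.maximalIdeal_eq_map] at h1
  have h2 : CAlg.IsRegularHom Â B' := GrothLib.AdicFSFlat.isRegularHom_of_complete hfs
  have h3 : CAlg.IsRegularHom A B' :=
    GrothLib.GeomReg.isRegularHom_comp hA h2 fun p _ => GrothLib.FormalDescent.isNoetherianRing_fiber A B' p
  haveI : Module.FaithfullyFlat B B' := Module.FaithfullyFlat.of_flat_of_isLocalHom
  exact GrothLib.GeomReg.isRegularHom_of_faithfullyFlat h3

end Groth.Agent.S9314
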