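import Groth.Statements.S9315
import Mathlib

set_option autoImplicit false
universe u
open CAlg

namespace Groth.Agent.S9315

open IsLocalRing in
/-- Let `R → S` be a local homomorphism of local rings (no Noetherian hypothesis). Then `R → S` is
formally smooth for the adic topology of the maximal ideal of `S` if and only if the following
lifting property holds: for every local ring `A` with a local structure map `R → A`, every ideal `J`
of `A` of square zero such that some power of the maximal ideal of `A` is zero, and every local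
`R`-algebra homomorphism `ψ : S → A/J` inducing a bijection on residue fields, there is an
`R`-algebra homomorphism `S → A` lifting `ψ`. -/
theorem result {R S : Type u} [CommRing R] [CommRing S]
    [IsLocalRing R] [IsLocalRing S] [Algebra R S] [IsLocalHom (algebraMap R S)] :
    CAlgX.IsAdicFormallySmooth R S (maximalIdeal S) ↔
      ∀ (A : Type u) [CommRing A] [IsLocalRing A] [Algebra R A] [IsLocalHom (algebraMap R A)]
        (J : Ideal A), J ^ 2 = ⊥ → (∃ n : ℕ, maximalIdeal A ^ n = ⊥) →
        ∀ [IsLocalRing (A ⧸ J)] (ψ : S →ₐ[R] A ⧸ J) [IsLocalHom ψ.toRingHom],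
          Function.Bijective (ResidueField.map ψ.toRingHom) →
          ∃ χ : S →ₐ[R] A, (Ideal.Quotient.mkₐ R J).comp χ = ψ := by
  constructor
  · intro h A _ _ _ _ J hJ hA _ ψ _ _
    obtain ⟨n, hn⟩ := hA
    refine h A J hJ ψ ⟨n, fun x hx => ?_⟩
    have h1 : (maximalIdeal S).map ψ ≤ maximalIdeal (A ⧸ J) := Ideal.map_le_iff_le_comap.mpr
      fun y hy => map_nonunit ψ.toRingHom y hy
    have h2 : maximalIdeal (A ⧸ J) ≤ (maximalIdeal A).map (Ideal.Quotient.mk J) := fun z hz => by
      obtain ⟨a, rfl⟩ := Ideal.Quotient.mk_surjective z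
      refine Ideal.mem_map_of_mem _ ?_
      rw [mem_maximalIdeal, mem_nonunits_iff] at hz ⊢
      exact fun hu => hz (hu.map _)
    rw [← Ideal.mem_bot, ← Ideal.map_bot (f := Ideal.Quotient.mk J), ← hn, Ideal.map_pow]
    refine Ideal.pow_right_mono (h1.trans h2) n ?_
    rw [← Ideal.map_pow]
    exact Ideal.mem_map_of_mem _ hx
  · intro h A _ _ J hJ ψ hψ
    obtain ⟨k, hk⟩ := hψ
    rcases subsingleton_or_nontrivial A with hA | hA
    · refine ⟨{ toFun := 0, map_one' := Subsingleton.elim _ _, map_mul' := fun _ _ => Subsingleton.elim _ _,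
                map_zero' := rfl, map_add' := fun _ _ => Subsingleton.elim _ _,
                commutes' := fun _ => Subsingleton.elim _ _ }, AlgHom.ext fun x => ?_⟩
      haveI : Subsingleton (A ⧸ J) := Ideal.Quotient.mk_surjective.subsingleton
      exact Subsingleton.elim _ _
    haveI : Nontrivial (A ⧸ J) := Ideal.Quotient.nontrivial_iff.mpr fun hJt => by
      rw [hJt, pow_two, Ideal.top_mul] at hJ
      exact top_ne_bot hJ
    let A' : Subalgebra R A := ψ.range.comap (Ideal.Quotient.mkₐ R J)
    let J' : Ideal A' := J.comap A'.val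
    let ι : A' ⧸ J' →ₐ[R] A ⧸ J := Ideal.quotientMapₐ J A'.val le_rfl
    have hι : Function.Injective ι := Ideal.quotientMap_injective
    have hmem : ∀ s : S, ψ s ∈ ι.range := fun s => by
      obtain ⟨a, ha⟩ := Ideal.Quotient.mk_surjective (ψ s)
      exact ⟨Ideal.Quotient.mk J' ⟨a, ⟨s, ha.symm⟩⟩, ha⟩
    let ψ' : S →ₐ[R] A' ⧸ J' :=
      (AlgEquiv.ofInjective ι hι).symm.toAlgHom.comp (ψ.codRestrict ι.range hmem)
    have hψ' : ∀ s, ι (ψ' s) = ψ s := fun s => by
      show ι ((AlgEquiv.ofInjective ι hι).symm ⟨ψ s, hmem s⟩) = ψ s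
      exact congrArg Subtype.val ((AlgEquiv.ofInjective ι hι).apply_symm_apply ⟨ψ s, hmem s⟩)
    have hψs : Function.Surjective ψ' := fun z => by
      obtain ⟨⟨a, s, hs⟩, rfl⟩ := Ideal.Quotient.mk_surjective z
      exact ⟨s, hι ((hψ' s).trans hs)⟩
    haveI : Nontrivial (A' ⧸ J') := ι.toRingHom.domain_nontrivial
    haveI : IsLocalRing (A' ⧸ J') := IsLocalRing.of_surjective' ψ'.toRingHom hψs
    haveI : IsLocalHom ψ'.toRingHom := IsLocalHom.of_surjective _ hψs
    have hJ' : J' ^ 2 = ⊥ := by
      rw [eq_bot_iff]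
      intro x hx
      have hx' := Ideal.le_comap_pow A'.val 2 hx
      rw [Ideal.mem_comap, hJ, Ideal.mem_bot] at hx'
      rw [Ideal.mem_bot]
      exact Subtype.ext hx'
    -- an element is a unit as soon as it is one modulo J'
    have hunit : ∀ a : A', IsUnit (Ideal.Quotient.mk J' a) → IsUnit a := fun a ha => by
      haveI : IsLocalHom (Ideal.Quotient.mk J') := isLocalHom_of_le_jacobson_bot J' (by
        refine le_trans (fun x hx => ?_) ((nilradical_le_jacobson A').trans (Ideal.jacobson_bot (R := A')).ge)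
        exact mem_nilradical.mpr ⟨2, by
          rw [← Ideal.mem_bot, ← hJ']
          exact Ideal.pow_mem_pow hx 2⟩)
      exact isUnit_of_map_unit _ a ha
    haveI : IsLocalHom (Ideal.Quotient.mk J') := ⟨hunit⟩
    haveI : IsLocalRing A' := RingHom.domain_isLocalRing (Ideal.Quotient.mk J')
    have hm : maximalIdeal A' ^ (k * 2) = ⊥ := by
      have h1 : maximalIdeal A' ^ k ≤ J' := by
        refine (Ideal.map_eq_bot_iff_le_ker (Ideal.Quotient.mk J')).mp ?_ |>.trans Ideal.mk_ker.le
        rw [Ideal.map_pow, eq_bot_iff]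
        have h3 : (maximalIdeal A').map (Ideal.Quotient.mk J') ≤ (maximalIdeal S).map ψ' := by
          refine Ideal.map_le_iff_le_comap.mpr fun a ha => ?_
          obtain ⟨s, hs⟩ := hψs (Ideal.Quotient.mk J' a)
          rw [Ideal.mem_comap, ← hs]
          refine Ideal.mem_map_of_mem _ ?_
          rw [mem_maximalIdeal, mem_nonunits_iff] at ha ⊢
          exact fun hu => ha (hunit a (hs ▸ hu.map ψ'))
        refine (Ideal.pow_right_mono h3 k).trans ?_
        rw [← Ideal.map_pow, Ideal.map_le_iff_le_comap]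
        intro x hx
        rw [Ideal.mem_comap, Ideal.mem_bot]
        exact hι (by rw [hψ', hk x hx, map_zero])
      rw [pow_mul, eq_bot_iff, ← hJ']
      exact Ideal.pow_right_mono h1 2
    haveI : IsLocalHom (algebraMap R A') := ⟨fun r hr => by
      have h2 : IsUnit (ψ' (algebraMap R S r)) := by
        rw [AlgHom.commutes]
        exact hr.map (Ideal.Quotient.mkₐ R J')
      exact isUnit_of_map_unit _ r (isUnit_of_map_unit ψ'.toRingHom _ h2)⟩
    obtain ⟨χ, hχ⟩ := h A' J' hJ' ⟨k * 2, hm⟩ ψ' ⟨RingHom.injective _, fun z => by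
      obtain ⟨y, rfl⟩ := residue_surjective z
      obtain ⟨x, rfl⟩ := hψs y
      exact ⟨residue S x, ResidueField.map_residue _ x⟩⟩
    refine ⟨A'.val.comp χ, AlgHom.ext fun s => ?_⟩
    rw [← hψ', ← hχ]
    rfl

end Groth.Agent.S9315
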