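import Groth.Statements.S9316
import Mathlib

set_option autoImplicit false
universe u
open CAlg

namespace Groth.Agent.S9316

open IsLocalRing

section aux

variable {R S : Type u} [CommRing R] [CommRing S] [IsLocalRing S] [Algebra R S]

noncomputable def pr : MvPolynomial S R →ₐ[R] S := MvPolynomial.aeval id

noncomputable def ev : MvPolynomial S R →+* ResidueField S :=
  (residue S).comp (pr (R := R) (S := S)).toRingHom

lemma pr_surj : Function.Surjective (pr (R := R) (S := S)) := fun s =>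
  ⟨MvPolynomial.X s, MvPolynomial.aeval_X _ _⟩

lemma ev_surj : Function.Surjective (ev (R := R) (S := S)) :=
  residue_surjective.comp pr_surj

noncomputable def sec (a : ResidueField S) : MvPolynomial S R :=
  Function.surjInv (ev_surj (R := R) (S := S)) a

lemma ev_sec (a : ResidueField S) : ev (sec (R := R) a) = a := Function.surjInv_eq _ _

noncomputable def dd (p : MvPolynomial S R) : S →₀ ResidueField S :=
  Finsupp.mapRange (ev (R := R) (S := S)) (map_zero _)
    (MvPolynomial.mkDerivation R (fun i : S => Finsupp.single i (1 : MvPolynomial S R)) p)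

lemma dd_add (p q : MvPolynomial S R) : dd (p + q) = dd p + dd q := by
  unfold dd
  rw [map_add, Finsupp.mapRange_add (map_add _)]

lemma dd_C (r : R) : dd (MvPolynomial.C r : MvPolynomial S R) = 0 := by
  unfold dd
  rw [MvPolynomial.derivation_C, Finsupp.mapRange_zero]

lemma dd_X (i : S) : dd (MvPolynomial.X i : MvPolynomial S R) = Finsupp.single i 1 := by
  unfold dd
  rw [MvPolynomial.mkDerivation_X, Finsupp.mapRange_single, map_one]

lemma dd_mul (p q : MvPolynomial S R) : dd (p * q) = ev p • dd q + ev q • dd p := by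
  unfold dd
  rw [Derivation.leibniz]
  ext a
  simp [Finsupp.mapRange_apply, smul_eq_mul]

lemma dd_sum {ι : Type*} (t : Finset ι) (f : ι → MvPolynomial S R) :
    dd (∑ i ∈ t, f i) = ∑ i ∈ t, dd (f i) := by
  classical
  induction t using Finset.induction_on with
  | empty => simp [dd]
  | insert a t ha ih => rw [Finset.sum_insert ha, Finset.sum_insert ha, dd_add, ih]

variable {C : Type u} [CommRing C] [Algebra R C] {I : Ideal C}
  (f : MvPolynomial S R →ₐ[R] C)

lemma eq_mul_of_ev_eq (hf : ∀ p, ev (R := R) (S := S) p = 0 → ∀ x ∈ I, f p * x = 0)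
    {p q : MvPolynomial S R} (h : ev p = ev q) {x : C} (hx : x ∈ I) : f p * x = f q * x := by
  have := hf (p - q) (by rw [map_sub, h, sub_self]) x hx
  rw [map_sub, sub_mul] at this
  exact sub_eq_zero.mp this

@[reducible] noncomputable def modK (hf : ∀ p, ev (R := R) (S := S) p = 0 → ∀ x ∈ I, f p * x = 0) :
    Module (ResidueField S) I where
  smul a x := ⟨f (sec (R := R) (S := S) a) * x, I.mul_mem_left _ x.2⟩
  one_smul x := Subtype.ext (by
    show f (sec (R := R) (S := S) 1) * (x : C) = x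
    rw [eq_mul_of_ev_eq f hf (q := 1) (by rw [ev_sec, map_one]) x.2, map_one, one_mul])
  mul_smul a b x := Subtype.ext (by
    show f (sec (R := R) (S := S) (a * b)) * (x : C) =
      f (sec (R := R) (S := S) a) *
        (f (sec (R := R) (S := S) b) * (x : C))
    rw [eq_mul_of_ev_eq f hf (q := sec (R := R) (S := S) a *
      sec (R := R) (S := S) b)
      (by rw [map_mul, ev_sec, ev_sec, ev_sec]) x.2,
      map_mul, mul_assoc])
  smul_zero a := Subtype.ext (mul_zero _)
  smul_add a x y := Subtype.ext (mul_add _ _ _)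
  add_smul a b x := Subtype.ext (by
    show f (sec (R := R) (S := S) (a + b)) * (x : C) =
      f (sec (R := R) (S := S) a) * (x : C) +
        f (sec (R := R) (S := S) b) * (x : C)
    rw [eq_mul_of_ev_eq f hf (q := sec (R := R) (S := S) a +
      sec (R := R) (S := S) b)
      (by rw [map_add, ev_sec, ev_sec, ev_sec]) x.2,
      map_add, add_mul])
  zero_smul x := Subtype.ext (by
    show f (sec (R := R) (S := S) 0) * (x : C) = 0
    rw [eq_mul_of_ev_eq f hf (q := 0) (by rw [ev_sec, map_zero]) x.2, map_zero, zero_mul])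

lemma coe_ev_smul (hf : ∀ p, ev (R := R) (S := S) p = 0 → ∀ x ∈ I, f p * x = 0)
    (p : MvPolynomial S R) (x : I) :
    letI := modK f hf
    ((ev p • x : I) : C) = f p * (x : C) :=
  eq_mul_of_ev_eq f hf (ev_sec _) x.2

lemma taylor (hI : I ^ 2 = ⊥) (hf : ∀ p, ev (R := R) (S := S) p = 0 → ∀ x ∈ I, f p * x = 0)
    (f' : MvPolynomial S R →ₐ[R] C) :
    letI := modK f hf
    ∀ (g : (S →₀ ResidueField S) →ₗ[ResidueField S] I),
      (∀ i, f' (MvPolynomial.X i) = f (MvPolynomial.X i) + (g (Finsupp.single i 1) : C)) →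
        ∀ p, f' p = f p + (g (dd p) : C) := by
  intro g hg p
  letI := modK f hf
  induction p using MvPolynomial.induction_on with
  | C r =>
    rw [dd_C, map_zero, ZeroMemClass.coe_zero, add_zero,
      ← MvPolynomial.algebraMap_eq, AlgHom.commutes, AlgHom.commutes]
  | add p q hp hq =>
    rw [dd_add, map_add, map_add, hp, hq, map_add, Submodule.coe_add]; ring
  | mul_X p i hp =>
    have h0 : ∀ x ∈ I, ∀ y ∈ I, x * y = (0 : C) := fun x hx y hy => by
      rw [← Ideal.mem_bot, ← hI, pow_two]; exact Ideal.mul_mem_mul hx hy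
    rw [dd_mul, dd_X, map_add, map_smul, map_smul, Submodule.coe_add, coe_ev_smul f hf,
      coe_ev_smul f hf, map_mul, map_mul, hp, hg i]
    linear_combination h0 _ (g (dd p)).2 _ (g (Finsupp.single i 1)).2

lemma taylor_of_congr (hI : I ^ 2 = ⊥) (hf : ∀ p, ev (R := R) (S := S) p = 0 → ∀ x ∈ I, f p * x = 0)
    (f' : MvPolynomial S R →ₐ[R] C) (h : ∀ i, f' (MvPolynomial.X i) - f (MvPolynomial.X i) ∈ I)
    {w : MvPolynomial S R} (hw : dd w = 0) : f' w = f w := by
  letI := modK f hf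
  rw [taylor f hI hf f' (Finsupp.linearCombination (ResidueField S)
    (fun i => (⟨_, h i⟩ : I))) (fun i => by simp) w, hw, map_zero, ZeroMemClass.coe_zero, add_zero]

/-- The kernel of the differential is contained in `MJ + (J ∩ M^N)` for every `N`. -/
def Crit (R S : Type u) [CommRing R] [CommRing S] [IsLocalRing S] [Algebra R S] : Prop :=
  ∀ (N : ℕ) (w : MvPolynomial S R), pr (R := R) (S := S) w = 0 → dd w = 0 →
    w ∈ RingHom.ker (ev (R := R) (S := S)) * RingHom.ker (pr (R := R) (S := S)) +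
      RingHom.ker (ev (R := R) (S := S)) ^ N

lemma mem_ker_ev_iff (p : MvPolynomial S R) :
    p ∈ RingHom.ker (ev (R := R) (S := S)) ↔ pr p ∈ maximalIdeal S := by
  rw [RingHom.mem_ker]
  exact residue_eq_zero_iff _

lemma map_pr_ker_ev :
    (RingHom.ker (ev (R := R) (S := S))).map (pr (R := R) (S := S)) = maximalIdeal S := by
  refine le_antisymm (Ideal.map_le_iff_le_comap.mpr fun p hp => (mem_ker_ev_iff p).mp hp) ?_
  intro s hs
  obtain ⟨p, rfl⟩ := pr_surj (R := R) s
  exact Ideal.mem_map_of_mem _ ((mem_ker_ev_iff p).mpr hs)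

omit f in
lemma oneStep (hc : Crit R S) (hI : I ^ 2 = ⊥) (ψ : S →ₐ[R] C ⧸ I) (n : ℕ)
    (hn : ∀ x ∈ maximalIdeal S ^ n, ψ x = 0)
    (hkill : ∀ x ∈ maximalIdeal S, ∀ c : C, Ideal.Quotient.mk I c = ψ x → ∀ y ∈ I, c * y = 0) :
    ∃ χ : S →ₐ[R] C, (Ideal.Quotient.mkₐ R I).comp χ = ψ := by
  classical
  set π := pr (R := R) (S := S)
  choose lft hlft using fun s : S => Ideal.Quotient.mk_surjective (ψ s)
  let φ : MvPolynomial S R →ₐ[R] C := MvPolynomial.aeval lft
  have hφ : (Ideal.Quotient.mkₐ R I).comp φ = ψ.comp π := by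
    ext i
    simp [φ, π, pr, hlft]
  have hφ' : ∀ p, Ideal.Quotient.mk I (φ p) = ψ (π p) := fun p => congr($hφ p)
  have hf : ∀ p, ev (R := R) (S := S) p = 0 → ∀ x ∈ I, φ p * x = 0 := fun p hp =>
    hkill (π p) ((mem_ker_ev_iff p).mp hp) (φ p) (hφ' p)
  letI := modK φ hf
  have hJ : ∀ w, π w = 0 → φ w ∈ I := fun w hw => by
    rw [← Ideal.Quotient.eq_zero_iff_mem, hφ', hw, map_zero]
  have hker : ∀ w, π w = 0 → dd w = 0 → φ w = 0 := by
    intro w hw hdw
    have := hc (n * 2) w hw hdw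
    refine (show (RingHom.ker (ev (R := R) (S := S)) * RingHom.ker π +
      RingHom.ker (ev (R := R) (S := S)) ^ (n * 2)) ≤ RingHom.ker φ from sup_le ?_ ?_) this
    · exact Ideal.mul_le.mpr fun p hp q hq =>
        RingHom.mem_ker.mpr (by rw [map_mul]; exact hf p hp _ (hJ q hq))
    · have h1 : (RingHom.ker (ev (R := R) (S := S)) ^ n).map φ ≤ I := Ideal.map_le_iff_le_comap.mpr
        fun p hp => by
          show φ p ∈ I
          rw [← Ideal.Quotient.eq_zero_iff_mem, hφ']
          refine hn _ ?_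
          rw [← map_pr_ker_ev (R := R) (S := S), ← Ideal.map_pow]
          exact Ideal.mem_map_of_mem _ hp
      rw [← Ideal.map_eq_bot_iff_le_ker, pow_mul, Ideal.map_pow, eq_bot_iff]
      exact (Ideal.pow_right_mono h1 2).trans hI.le
  let W := RingHom.ker π
  let L : (↥W →₀ ResidueField S) →ₗ[ResidueField S] (S →₀ ResidueField S) :=
    Finsupp.linearCombination _ fun v : W => dd (v : MvPolynomial S R)
  let Δ : (↥W →₀ ResidueField S) →ₗ[ResidueField S] I :=
    Finsupp.linearCombination _ fun v : W => (⟨φ (v : MvPolynomial S R), hJ _ v.2⟩ : I)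
  have hLΔ : LinearMap.ker L ≤ LinearMap.ker Δ := by
    intro c hc'
    rw [LinearMap.mem_ker] at hc' ⊢
    let w : MvPolynomial S R := ∑ v ∈ c.support, sec (R := R) (c v) * (v : MvPolynomial S R)
    have hw : π w = 0 := by
      simp only [w, map_sum, map_mul]
      exact Finset.sum_eq_zero fun v _ => by rw [show π (v : MvPolynomial S R) = 0 from v.2, mul_zero]
    have hev : ∀ v : W, ev (v : MvPolynomial S R) = 0 := fun v => by
      show residue S (π v) = 0
      rw [show π (v : MvPolynomial S R) = 0 from v.2, map_zero]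
    have hdw : dd w = 0 := by
      rw [← hc']
      simp only [w, L, dd_sum, dd_mul, Finsupp.linearCombination_apply, Finsupp.sum, hev,
        zero_smul, add_zero, ev_sec]
    have hΔ : ((Δ c : I) : C) = φ w := by
      simp only [w, Δ, Finsupp.linearCombination_apply, Finsupp.sum, map_sum, map_mul,
        Submodule.coe_sum]
      refine Finset.sum_congr rfl fun v _ => ?_
      conv_lhs => rw [← ev_sec (R := R) (c v)]
      exact coe_ev_smul φ hf _ _
    exact Subtype.ext (by rw [hΔ, hker w hw hdw]; rfl)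
  obtain ⟨g, hg⟩ : ∃ g : (S →₀ ResidueField S) →ₗ[ResidueField S] I, g ∘ₗ L = Δ := by
    let q := (LinearMap.ker L).liftQ L le_rfl
    obtain ⟨r, hr⟩ := q.exists_leftInverse_of_injective
      (Submodule.ker_liftQ_eq_bot _ _ _ le_rfl)
    refine ⟨((LinearMap.ker L).liftQ Δ hLΔ) ∘ₗ r, LinearMap.ext fun c => ?_⟩
    have : r (L c) = Submodule.Quotient.mk c := LinearMap.congr_fun hr (Submodule.Quotient.mk c)
    simp [this]
  let φ' : MvPolynomial S R →ₐ[R] C :=
    MvPolynomial.aeval fun i => φ (MvPolynomial.X i) + ((-g) (Finsupp.single i 1) : I)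
  have hφ'' : ∀ p, φ' p = φ p + (((-g) (dd p) : I) : C) :=
    taylor φ hI hf φ' (-g) fun i => MvPolynomial.aeval_X _ _
  have hkerle : RingHom.ker π.toRingHom ≤ RingHom.ker φ'.toRingHom := by
    intro w hw
    have h2 := LinearMap.congr_fun hg (Finsupp.single (⟨w, hw⟩ : W) 1)
    simp only [LinearMap.comp_apply, L, Δ, Finsupp.linearCombination_single, one_smul] at h2
    show φ' w = 0
    rw [hφ'', LinearMap.neg_apply, h2]
    simp
  refine ⟨AlgHom.liftOfSurjective π pr_surj φ' hkerle, ?_⟩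
  refine AlgHom.ext fun s => ?_
  obtain ⟨p, rfl⟩ := pr_surj (R := R) s
  show Ideal.Quotient.mk I (AlgHom.liftOfSurjective π pr_surj φ' hkerle (π p)) = _
  rw [AlgHom.liftOfSurjective_apply]
  rw [hφ'', map_add, hφ',
    Ideal.Quotient.eq_zero_iff_mem.mpr (Subtype.prop _), add_zero]

omit f in
lemma multiStep (hc : Crit R S) (l : ℕ) : ∀ (C : Type u) [CommRing C] [Algebra R C] (I : Ideal C),
    I ^ 2 = ⊥ → ∀ ψ : S →ₐ[R] C ⧸ I, (∃ n : ℕ, ∀ x ∈ maximalIdeal S ^ n, ψ x = 0) →
      ((maximalIdeal S).map ψ).comap (Ideal.Quotient.mk I) ^ l * I = ⊥ →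
        ∃ χ : S →ₐ[R] C, (Ideal.Quotient.mkₐ R I).comp χ = ψ := by
  induction l with
  | zero =>
    intro C _ _ I _ ψ _ hl
    rw [pow_zero, one_mul] at hl
    subst hl
    exact ⟨(AlgEquiv.quotientBot R C).toAlgHom.comp ψ, AlgHom.ext fun s => by
      obtain ⟨c, hc⟩ := Ideal.Quotient.mk_surjective (ψ s)
      simp [← hc]⟩
  | succ l ih =>
    intro C _ _ I hI ψ hn hl
    set T := ((maximalIdeal S).map ψ).comap (Ideal.Quotient.mk I) with hT
    set I₁ := T ^ l * I with hI₁
    have hle : I₁ ≤ I := Ideal.mul_le_right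
    let e : ((C ⧸ I₁) ⧸ I.map (Ideal.Quotient.mk I₁)) ≃ₐ[R] C ⧸ I :=
      DoubleQuot.quotQuotEquivQuotOfLEₐ R hle
    let ψ' : S →ₐ[R] (C ⧸ I₁) ⧸ I.map (Ideal.Quotient.mk I₁) := e.symm.toAlgHom.comp ψ
    obtain ⟨n, hn⟩ := hn
    have hψ' : ∀ x c, Ideal.Quotient.mk (I.map (Ideal.Quotient.mk I₁)) (Ideal.Quotient.mk I₁ c) = ψ' x ↔
        Ideal.Quotient.mk I c = ψ x := by
      intro x c
      rw [← e.injective.eq_iff]
      show e _ = e (e.symm (ψ x)) ↔ _
      rw [e.apply_symm_apply]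
      rfl
    obtain ⟨χ₁, hχ₁⟩ := ih (C ⧸ I₁) (I.map (Ideal.Quotient.mk I₁))
      (by rw [← Ideal.map_pow, hI, Ideal.map_bot]) ψ'
      ⟨n, fun x hx => by simp [ψ', hn x hx]⟩ (by
        have hT' : ((maximalIdeal S).map ψ').comap (Ideal.Quotient.mk (I.map (Ideal.Quotient.mk I₁))) ≤
            T.map (Ideal.Quotient.mk I₁) := by
          intro z hz
          obtain ⟨c, rfl⟩ := Ideal.Quotient.mk_surjective z
          refine Ideal.mem_map_of_mem _ ?_
          rw [hT, Ideal.mem_comap]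
          rw [Ideal.mem_comap] at hz
          have h3 := Ideal.mem_map_of_mem e.toAlgHom hz
          rw [Ideal.map_mapₐ] at h3
          have h4 : e.toAlgHom.comp ψ' = ψ := AlgHom.ext fun x => by simp [ψ']
          rw [h4] at h3
          exact h3
        rw [eq_bot_iff]
        refine (Ideal.mul_mono_left (Ideal.pow_right_mono hT' l)).trans ?_
        rw [← Ideal.map_pow, ← Ideal.map_mul, ← hI₁, Ideal.map_quotient_self])
    have hχ₁' : ∀ x c, Ideal.Quotient.mk I₁ c = χ₁ x → Ideal.Quotient.mk I c = ψ x := by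
      intro x c hc
      rw [← hψ', hc]
      exact congr($hχ₁ x)
    have hI₁2 : I₁ ^ 2 = ⊥ := eq_bot_iff.mpr ((Ideal.pow_right_mono hle 2).trans hI.le)
    have hTI : ∀ x ∈ maximalIdeal S, ∀ c, Ideal.Quotient.mk I c = ψ x → c ∈ T := by
      intro x hx c hc
      rw [hT, Ideal.mem_comap, hc]
      exact Ideal.mem_map_of_mem _ hx
    obtain ⟨χ, hχ⟩ := oneStep hc (I := I₁) hI₁2 χ₁ (n * 2) (by
      intro x hx
      have h1 : (maximalIdeal S ^ n).map χ₁ ≤ I.map (Ideal.Quotient.mk I₁) :=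
        Ideal.map_le_iff_le_comap.mpr fun y hy => by
          rw [Ideal.mem_comap]
          rw [← Ideal.Quotient.eq_zero_iff_mem]
          have := congr($hχ₁ y)
          simp only [AlgHom.comp_apply, Ideal.Quotient.mkₐ_eq_mk] at this
          rw [this]
          simp [ψ', hn y hy]
      have h2 : (maximalIdeal S ^ (n * 2)).map χ₁ = ⊥ := by
        rw [pow_mul, Ideal.map_pow, eq_bot_iff]
        refine (Ideal.pow_right_mono h1 2).trans ?_
        rw [← Ideal.map_pow, hI, Ideal.map_bot]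
      rw [← Ideal.mem_bot, ← h2]
      exact Ideal.mem_map_of_mem _ hx) (by
      intro x hx c hc y hy
      rw [← Ideal.mem_bot, ← hl, pow_succ', mul_assoc]
      exact Ideal.mul_mem_mul (hTI x hx c (hχ₁' x c hc)) hy)
    refine ⟨χ, AlgHom.ext fun x => ?_⟩
    exact hχ₁' x (χ x) congr($hχ x)

omit f in
lemma exists_lift {A : Type u} [CommRing A] [Algebra R A] (m : MvPolynomial S R →ₐ[R] A)
    (h : ∀ v, pr (R := R) (S := S) v = 0 → m v = 0) :
    ∃ ψ : S →ₐ[R] A, ∀ p, ψ (pr p) = m p := by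
  have hle : RingHom.ker (pr (R := R) (S := S)).toRingHom ≤ RingHom.ker m.toRingHom :=
    fun v hv => h v hv
  exact ⟨AlgHom.liftOfSurjective _ pr_surj m hle,
    AlgHom.liftOfSurjective_apply _ pr_surj m hle⟩

omit f in
lemma crit_of_small (hsmall : ∀ (A : Type u) [CommRing A] [IsLocalRing A] [IsArtinianRing A]
      [Algebra R A] (J : Ideal A), J ^ 2 = ⊥ → Module.length A J = 1 →
      ∀ [IsLocalRing (A ⧸ J)] (ψ : S →ₐ[R] A ⧸ J), Function.Surjective ψ →
        ∃ χ : S →ₐ[R] A, (Ideal.Quotient.mkₐ R J).comp χ = ψ)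
    [IsNoetherianRing S] : Crit R S := by
  classical
  intro N w hw hdw
  by_contra hwn
  set π := pr (R := R) (S := S)
  set M := RingHom.ker (ev (R := R) (S := S))
  set W := RingHom.ker π with hW
  set Q0 := M * W + M ^ (N + 1) with hQ0
  set U := W + M ^ (N + 1) with hU
  have hM : M.IsMaximal := RingHom.ker_isMaximal_of_surjective _ ev_surj
  have hwn' : w ∉ Q0 := fun h => hwn ((show Q0 ≤ M * W + M ^ N from sup_le_sup le_rfl (Ideal.pow_le_pow_right (Nat.le_succ N))) h)
  have hWU : W ≤ U := le_sup_left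
  have hUM : U ≤ M := sup_le (fun v hv => by
      rw [mem_ker_ev_iff, show pr v = 0 from hv]; exact zero_mem _)
    (Ideal.pow_le_self (Nat.succ_ne_zero N))
  have hQ0U : Q0 ≤ U := sup_le_sup Ideal.mul_le_right le_rfl
  have hMU : M * U ≤ Q0 := by
    rw [hU, mul_add]
    exact sup_le_sup le_rfl Ideal.mul_le_right
  obtain ⟨Q, hQ0Q, hQ⟩ := zorn_le_nonempty₀ {Q : Ideal (MvPolynomial S R) | Q0 ≤ Q ∧ Q ≤ U ∧ w ∉ Q}
    (fun c hcS hc y hy => ⟨sSup c, ⟨(hcS hy).1.trans (le_sSup hy),
      sSup_le fun z hz => (hcS hz).2.1, fun h => by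
        obtain ⟨z, hz, hwz⟩ := (Submodule.mem_sSup_of_directed ⟨y, hy⟩ hc.directedOn).mp h
        exact (hcS hz).2.2 hwz⟩, fun z hz => le_sSup hz⟩) Q0 ⟨le_rfl, hQ0U, hwn'⟩
  obtain ⟨⟨-, hQU, hwQ⟩, hQmax⟩ := hQ
  -- `U/Q` is spanned by `w`
  have hspan : U ≤ Q ⊔ Ideal.span {w} := by
    intro a ha
    by_cases haQ : a ∈ Q
    · exact Submodule.mem_sup_left haQ
    have hwa : w ∈ Q ⊔ Ideal.span {a} := by
      by_contra h
      exact haQ (hQmax ⟨hQ0Q.trans le_sup_left, sup_le hQU ((Ideal.span_singleton_le_iff_mem _).mpr ha), h⟩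
        le_sup_left (Submodule.mem_sup_right (Ideal.mem_span_singleton_self a)))
    obtain ⟨q, hq, _, hx, hqx⟩ := Submodule.mem_sup.mp hwa
    obtain ⟨p, rfl⟩ := Ideal.mem_span_singleton'.mp hx
    by_cases hp : p ∈ M
    · exact (hwQ (hqx ▸ add_mem hq (hQ0Q (hMU (Ideal.mul_mem_mul hp ha))))).elim
    obtain ⟨r, m, hm, hr⟩ := hM.exists_inv hp
    have he : a = (m * a + (-r) * q) + r * w := by
      rw [← hqx]
      linear_combination (-a) * hr
    rw [he]
    exact Submodule.add_mem_sup (add_mem (hQ0Q (hMU (Ideal.mul_mem_mul hm ha))) (Q.mul_mem_left _ hq))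
      (Ideal.mul_mem_left _ _ (Ideal.mem_span_singleton_self w))
  have hQM : Q ≤ M := hQU.trans hUM
  have hMQ : M ^ (N + 1) ≤ Q := le_sup_right.trans hQ0Q
  let mQ := Ideal.Quotient.mkₐ R Q
  have hmQ : Function.Surjective mQ := Ideal.Quotient.mk_surjective
  haveI : Nontrivial (MvPolynomial S R ⧸ Q) :=
    Ideal.Quotient.nontrivial_iff.mpr (ne_top_of_le_ne_top hM.ne_top hQM)
  haveI hloc : IsLocalRing (MvPolynomial S R ⧸ Q) := by
    refine IsLocalRing.of_unique_max_ideal ⟨M.map (Ideal.Quotient.mk Q), ?_, ?_⟩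
    · exact Ideal.IsMaximal.map_of_surjective_of_ker_le Ideal.Quotient.mk_surjective
        (by rw [Ideal.mk_ker]; exact hQM)
    · intro P hP
      have hP' : (P.comap (Ideal.Quotient.mk Q)).IsMaximal :=
        Ideal.comap_isMaximal_of_surjective _ Ideal.Quotient.mk_surjective
      have h1 : Q ≤ P.comap (Ideal.Quotient.mk Q) := fun x hx => by
        rw [Ideal.mem_comap, Ideal.Quotient.eq_zero_iff_mem.mpr hx]; exact zero_mem _
      have h2 := hM.eq_of_le hP'.ne_top (hP'.isPrime.le_of_pow_le (hMQ.trans h1))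
      rw [h2, Ideal.map_comap_of_surjective _ Ideal.Quotient.mk_surjective]
  let J : Ideal (MvPolynomial S R ⧸ Q) := U.map (Ideal.Quotient.mk Q)
  have hJspan : J = Ideal.span {Ideal.Quotient.mk Q w} := by
    refine le_antisymm ?_ ((Ideal.span_singleton_le_iff_mem _).mpr
      (Ideal.mem_map_of_mem _ (hWU hw)))
    refine (Ideal.map_mono hspan).trans ?_
    rw [Ideal.map_sup, Ideal.map_quotient_self, bot_sup_eq, Ideal.map_span, Set.image_singleton]
  have hMJ : M.map (Ideal.Quotient.mk Q) * J = ⊥ := by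
    rw [← Ideal.map_mul, Ideal.map_eq_bot_iff_le_ker, Ideal.mk_ker]
    exact hMU.trans hQ0Q
  have hJ2 : J ^ 2 = ⊥ := eq_bot_iff.mpr (by
    rw [pow_two, ← hMJ]
    exact Ideal.mul_mono_left (Ideal.map_mono hUM))
  have hJ0 : J ≠ ⊥ := fun h => hwQ (by
    rw [← Ideal.Quotient.eq_zero_iff_mem, ← Ideal.mem_bot, ← h]
    exact Ideal.mem_map_of_mem _ (hWU hw))
  haveI hsimp : IsSimpleModule (MvPolynomial S R ⧸ Q) J := by
    rw [isSimpleModule_iff_isAtom]
    refine ⟨hJ0, fun K hK => by_contra fun hK0 => hK.not_ge ?_⟩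
    obtain ⟨z, hz, hz0⟩ := Submodule.exists_mem_ne_zero_of_ne_bot hK0
    obtain ⟨c, rfl⟩ := Ideal.mem_span_singleton'.mp (hJspan ▸ hK.le hz)
    obtain ⟨c, rfl⟩ := Ideal.Quotient.mk_surjective c
    have hc : c ∉ M := fun hc => hz0 (by
      rw [← Ideal.mem_bot, ← hMJ]
      exact Ideal.mul_mem_mul (Ideal.mem_map_of_mem _ hc) (Ideal.mem_map_of_mem _ (hWU hw)))
    obtain ⟨r, m, hm, hr⟩ := hM.exists_inv hc
    rw [hJspan, Ideal.span_singleton_le_iff_mem]
    have h0 : Ideal.Quotient.mk Q (m * w) = 0 := by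
      rw [← Ideal.mem_bot, ← hMJ, map_mul]
      exact Ideal.mul_mem_mul (Ideal.mem_map_of_mem _ hm) (Ideal.mem_map_of_mem _ (hWU hw))
    have he : Ideal.Quotient.mk Q w = Ideal.Quotient.mk Q r * (Ideal.Quotient.mk Q c * Ideal.Quotient.mk Q w) := by
      calc Ideal.Quotient.mk Q w = Ideal.Quotient.mk Q (r * c * w + m * w) := by
            rw [← add_mul, hr, one_mul]
        _ = _ := by rw [map_add, h0, add_zero, map_mul, map_mul, mul_assoc]
    rw [he]
    exact K.smul_mem _ hz
  have hlen : Module.length (MvPolynomial S R ⧸ Q) J = 1 := Module.length_eq_one ..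
  let mJ : MvPolynomial S R →ₐ[R] (MvPolynomial S R ⧸ Q) ⧸ J := (Ideal.Quotient.mkₐ R J).comp mQ
  obtain ⟨ψ, hψπ⟩ := exists_lift (A := (MvPolynomial S R ⧸ Q) ⧸ J) mJ (fun v hv =>
    Ideal.Quotient.eq_zero_iff_mem.mpr (Ideal.mem_map_of_mem (Ideal.Quotient.mk Q) (hWU hv)))
  have hψs : Function.Surjective ψ := fun z => by
    obtain ⟨y, rfl⟩ := Ideal.Quotient.mk_surjective z
    obtain ⟨p, rfl⟩ := hmQ y
    exact ⟨π p, hψπ p⟩
  haveI : Nontrivial ((MvPolynomial S R ⧸ Q) ⧸ J) := Ideal.Quotient.nontrivial_iff.mpr fun h =>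
    hM.ne_top (top_le_iff.mp fun x _ => by
      have h1 : Ideal.Quotient.mk Q x ∈ J := h ▸ Submodule.mem_top
      obtain ⟨u, hu, hux⟩ := (Ideal.mem_map_iff_of_surjective _ Ideal.Quotient.mk_surjective).mp h1
      rw [Ideal.Quotient.eq] at hux
      have := sub_mem (hUM hu) (hQM hux)
      rwa [sub_sub_cancel] at this)
  haveI : IsLocalRing ((MvPolynomial S R ⧸ Q) ⧸ J) :=
    IsLocalRing.of_surjective' _ Ideal.Quotient.mk_surjective
  haveI hart : IsArtinianRing (MvPolynomial S R ⧸ Q) := by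
    haveI : IsArtinianRing (S ⧸ maximalIdeal S ^ (N + 1)) :=
      IsLocalRing.quotient_artinian_of_mem_minimalPrimes_of_isLocalRing _
        ⟨⟨inferInstance, Ideal.pow_le_self (Nat.succ_ne_zero N)⟩, fun P hP _ => hP.1.le_of_pow_le hP.2⟩
    have hfac : ∀ x ∈ maximalIdeal S ^ (N + 1), ψ x = 0 := by
      intro x hx
      rw [← map_pr_ker_ev (R := R) (S := S), ← Ideal.map_pow] at hx
      obtain ⟨p, hp, rfl⟩ := (Ideal.mem_map_iff_of_surjective _ pr_surj).mp hx
      rw [hψπ]
      exact Ideal.Quotient.eq_zero_iff_mem.mpr (Ideal.mem_map_of_mem _ (le_sup_right (a := W) hp))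
    haveI : IsArtinianRing ((MvPolynomial S R ⧸ Q) ⧸ J) :=
      Function.Surjective.isArtinianRing (f := Ideal.Quotient.lift _ ψ.toRingHom hfac) fun z => by
        obtain ⟨x, rfl⟩ := hψs z
        exact ⟨Ideal.Quotient.mk _ x, rfl⟩
    haveI : IsArtinian (MvPolynomial S R ⧸ Q) ((MvPolynomial S R ⧸ Q) ⧸ J) :=
      isArtinian_of_surjective_algebraMap (R := (MvPolynomial S R ⧸ Q) ⧸ J) Ideal.Quotient.mk_surjective
    haveI : IsArtinian (MvPolynomial S R ⧸ Q) J := inferInstance
    exact isArtinian_of_range_eq_ker (Submodule.subtype J) (Submodule.mkQ J) (by simp)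
  obtain ⟨χ, hχ⟩ := hsmall _ J hJ2 hlen ψ hψs
  have hf : ∀ p, ev (R := R) (S := S) p = 0 → ∀ x ∈ J, mQ p * x = 0 := fun p hp x hx => by
    rw [← Ideal.mem_bot, ← hMJ]
    exact Ideal.mul_mem_mul (Ideal.mem_map_of_mem _ hp) hx
  have h := taylor_of_congr mQ hJ2 hf (χ.comp π) (fun i => by
    rw [← Ideal.Quotient.eq_zero_iff_mem, map_sub, sub_eq_zero]
    exact (congr($hχ (π (MvPolynomial.X i)))).trans (hψπ _)) hdw
  apply hwQ
  rw [← Ideal.Quotient.eq_zero_iff_mem]
  show mQ w = 0
  rw [← h, AlgHom.comp_apply, show π w = 0 from hw, map_zero]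

end aux

open IsLocalRing in
/-- Let `R → S` be a local homomorphism of local rings with `S` Noetherian. Then `R → S` is formally
smooth for the adic topology of the maximal ideal of `S` if and only if lifts exist along small
extensions: for every Artinian local ring `A` with a local structure map `R → A`, every ideal `J` of
`A` of square zero which has length one as an `A`-module, and every local `R`-algebra homomorphism
`ψ : S → A/J` inducing a bijection on residue fields, there is an `R`-algebra homomorphism `S → A`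
lifting `ψ`. -/
theorem result {R S : Type u} [CommRing R] [CommRing S]
    [IsLocalRing R] [IsLocalRing S] [IsNoetherianRing S] [Algebra R S] [IsLocalHom (algebraMap R S)] :
    CAlgX.IsAdicFormallySmooth R S (maximalIdeal S) ↔
      ∀ (A : Type u) [CommRing A] [IsLocalRing A] [IsArtinianRing A] [Algebra R A]
        [IsLocalHom (algebraMap R A)] (J : Ideal A), J ^ 2 = ⊥ → Module.length A J = 1 →
        ∀ [IsLocalRing (A ⧸ J)] (ψ : S →ₐ[R] A ⧸ J) [IsLocalHom ψ.toRingHom],
          Function.Bijective (ResidueField.map ψ.toRingHom) →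
          ∃ χ : S →ₐ[R] A, (Ideal.Quotient.mkₐ R J).comp χ = ψ := by
  constructor
  · intro h A _ _ _ _ _ J hJ _ _ ψ _ _
    refine h A J hJ ψ ?_
    obtain ⟨k, hk⟩ := IsArtinianRing.isNilpotent_jacobson_bot (R := A ⧸ J)
    refine ⟨k, fun x hx => ?_⟩
    have h1 : (maximalIdeal S).map ψ ≤ maximalIdeal (A ⧸ J) := Ideal.map_le_iff_le_comap.mpr
      fun y hy => map_nonunit ψ.toRingHom y hy
    rw [IsLocalRing.jacobson_eq_maximalIdeal ⊥ bot_ne_top] at hk
    rw [← Ideal.mem_bot, ← Ideal.zero_eq_bot, ← hk]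
    refine Ideal.pow_right_mono h1 k ?_
    rw [← Ideal.map_pow]
    exact Ideal.mem_map_of_mem _ hx
  · intro hsmall C _ _ I hI ψ hψ
    have hc : Crit R S := crit_of_small fun A _ _ _ _ J hJ hlen _ ψ hψs => by
      haveI : IsLocalHom ψ.toRingHom := IsLocalHom.of_surjective _ hψs
      haveI : IsLocalHom (algebraMap R A) := ⟨fun r hr => by
        have h1 : IsUnit (ψ (algebraMap R S r)) := by
          rw [AlgHom.commutes, IsScalarTower.algebraMap_apply R A (A ⧸ J)]
          exact hr.map _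
        exact isUnit_of_map_unit _ r (isUnit_of_map_unit ψ.toRingHom _ h1)⟩
      exact hsmall A J hJ hlen ψ ⟨RingHom.injective _, fun z => by
        obtain ⟨y, rfl⟩ := residue_surjective z
        obtain ⟨x, rfl⟩ := hψs y
        exact ⟨residue S x, ResidueField.map_residue _ x⟩⟩
    obtain ⟨n, hn⟩ := hψ
    refine multiStep hc n C I hI ψ ⟨n, hn⟩ ?_
    rw [eq_bot_iff, ← hI, pow_two]
    refine Ideal.mul_mono_left ?_
    refine (Ideal.le_comap_pow (Ideal.Quotient.mk I) n).trans ?_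
    rw [← Ideal.map_pow, show (maximalIdeal S ^ n).map ψ = ⊥ from
      (Ideal.map_eq_bot_iff_le_ker _).mpr hn]
    exact fun c hc => Ideal.Quotient.eq_zero_iff_mem.mp hc

end Groth.Agent.S9316
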