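import Groth.Statements.S9320
import Groth.Agent.S2469
import Groth.Agent.Lib.FieldExtra.H1Cotangent
import Mathlib.RingTheory.Kaehler.JacobiZariski

set_option autoImplicit false
universe u
open CAlg

namespace Groth.Agent.S9320

open TensorProduct

/-- The index is additive under composition. -/
theorem index_comp {F U V W : Type*} [Field F] [AddCommGroup U] [Module F U] [AddCommGroup V] [Module F V]
    [AddCommGroup W] [Module F W] (a : U →ₗ[F] V) (b : V →ₗ[F] W)
    [Module.Finite F (LinearMap.ker a)] [Module.Finite F (V ⧸ LinearMap.range a)]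
    [Module.Finite F (LinearMap.ker b)] [Module.Finite F (W ⧸ LinearMap.range b)] :
    Module.Finite F (LinearMap.ker (b ∘ₗ a)) ∧ Module.Finite F (W ⧸ LinearMap.range (b ∘ₗ a)) ∧
      ((Module.finrank F (LinearMap.ker (b ∘ₗ a)) : ℤ) - Module.finrank F (W ⧸ LinearMap.range (b ∘ₗ a)) =
        ((Module.finrank F (LinearMap.ker a) : ℤ) - Module.finrank F (V ⧸ LinearMap.range a)) +
          ((Module.finrank F (LinearMap.ker b) : ℤ) - Module.finrank F (W ⧸ LinearMap.range b))) := by
  -- the kernel
  let A : LinearMap.ker (b ∘ₗ a) →ₗ[F] LinearMap.ker b :=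
    (a ∘ₗ (LinearMap.ker (b ∘ₗ a)).subtype).codRestrict _ fun x => x.2
  let eK : LinearMap.ker A ≃ₗ[F] LinearMap.ker a :=
    { toFun := fun x => ⟨x.1.1, congrArg Subtype.val x.2⟩
      invFun := fun x => ⟨⟨x.1, show b (a x.1) = 0 by rw [show a x.1 = 0 from x.2, map_zero]⟩, Subtype.ext x.2⟩
      left_inv := fun x => rfl
      right_inv := fun x => rfl
      map_add' := fun _ _ => rfl
      map_smul' := fun _ _ => rfl }
  haveI : Module.Finite F (LinearMap.ker A) := Module.Finite.equiv eK.symm
  haveI hK : Module.Finite F (LinearMap.ker (b ∘ₗ a)) :=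
    haveI := Module.Finite.equiv A.quotKerEquivRange.symm
    Module.Finite.of_submodule_quotient (LinearMap.ker A)
  have k1 := LinearMap.finrank_range_add_finrank_ker A
  rw [eK.finrank_eq] at k1
  -- the cokernel
  let φ : (V ⧸ LinearMap.range a) →ₗ[F] (W ⧸ LinearMap.range (b ∘ₗ a)) :=
    Submodule.mapQ _ _ b (by rintro _ ⟨x, rfl⟩; exact ⟨x, rfl⟩)
  let π : (W ⧸ LinearMap.range (b ∘ₗ a)) →ₗ[F] (W ⧸ LinearMap.range b) :=
    Submodule.mapQ _ _ LinearMap.id (by rintro _ ⟨x, rfl⟩; exact ⟨a x, rfl⟩)
  have hπs : Function.Surjective π := fun y => by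
    obtain ⟨w, rfl⟩ := Submodule.Quotient.mk_surjective _ y
    exact ⟨Submodule.Quotient.mk w, rfl⟩
  have hπk : LinearMap.ker π = LinearMap.range φ := by
    ext y
    obtain ⟨w, rfl⟩ := Submodule.Quotient.mk_surjective _ y
    constructor
    · intro h
      obtain ⟨v, rfl⟩ := (Submodule.Quotient.mk_eq_zero (LinearMap.range b)).1 h
      exact ⟨Submodule.Quotient.mk v, rfl⟩
    · rintro ⟨z, hz⟩
      obtain ⟨v, rfl⟩ := Submodule.Quotient.mk_surjective _ z
      rw [← hz]
      exact (Submodule.Quotient.mk_eq_zero (LinearMap.range b)).2 ⟨v, rfl⟩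
  haveI : Module.Finite F (LinearMap.ker π) := by rw [hπk]; infer_instance
  haveI hC : Module.Finite F (W ⧸ LinearMap.range (b ∘ₗ a)) :=
    haveI := Module.Finite.equiv (π.quotKerEquivOfSurjective hπs).symm
    Module.Finite.of_submodule_quotient (LinearMap.ker π)
  have c1 := LinearMap.finrank_range_add_finrank_ker π
  rw [LinearMap.range_eq_top.2 hπs, finrank_top, hπk] at c1
  have c2 := LinearMap.finrank_range_add_finrank_ker φ
  let ψ : LinearMap.ker b →ₗ[F] V ⧸ LinearMap.range a := (LinearMap.range a).mkQ ∘ₗ (LinearMap.ker b).subtype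
  have hψr : LinearMap.range ψ = LinearMap.ker φ := by
    ext y
    obtain ⟨v, rfl⟩ := Submodule.Quotient.mk_surjective _ y
    constructor
    · rintro ⟨z, hz⟩
      rw [← hz]
      exact (Submodule.Quotient.mk_eq_zero (LinearMap.range (b ∘ₗ a))).2
        (show b z.1 ∈ _ by rw [show b z.1 = 0 from z.2]; exact zero_mem _)
    · intro h
      obtain ⟨x, hx⟩ := (Submodule.Quotient.mk_eq_zero (LinearMap.range (b ∘ₗ a))).1 h
      refine ⟨⟨v - a x, show b (v - a x) = 0 by rw [map_sub, sub_eq_zero]; exact hx.symm⟩, ?_⟩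
      exact (Submodule.Quotient.eq _).2 ⟨-x, by rw [map_neg]; show -a x = v - a x - v; abel⟩
  have hψk : LinearMap.ker ψ = LinearMap.range A := by
    ext z
    constructor
    · intro h
      obtain ⟨x, hx⟩ := (Submodule.Quotient.mk_eq_zero (LinearMap.range a)).1 h
      exact ⟨⟨x, show b (a x) = 0 by rw [hx]; exact z.2⟩, Subtype.ext hx⟩
    · rintro ⟨x, rfl⟩
      exact (Submodule.Quotient.mk_eq_zero (LinearMap.range a)).2 ⟨x.1, rfl⟩
  have c3 := LinearMap.finrank_range_add_finrank_ker ψ
  rw [hψr, hψk] at c3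
  exact ⟨hK, hC, by omega⟩

theorem cokerEquiv {F U V W : Type*} [CommRing F] [AddCommGroup U] [Module F U] [AddCommGroup V] [Module F V]
    [AddCommGroup W] [Module F W] {a : U →ₗ[F] V} {b : V →ₗ[F] W} (h : Function.Exact a b)
    (hb : Function.Surjective b) : Nonempty ((V ⧸ LinearMap.range a) ≃ₗ[F] W) :=
  ⟨(Submodule.quotEquivOfEq _ _ h.linearMap_ker_eq.symm).trans (b.quotKerEquivOfSurjective hb)⟩

theorem cokerEquivRange {F U V W : Type*} [CommRing F] [AddCommGroup U] [Module F U] [AddCommGroup V] [Module F V]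
    [AddCommGroup W] [Module F W] {a : U →ₗ[F] V} {b : V →ₗ[F] W} (h : Function.Exact a b) :
    Nonempty ((V ⧸ LinearMap.range a) ≃ₗ[F] LinearMap.range b) :=
  ⟨(Submodule.quotEquivOfEq _ _ h.linearMap_ker_eq.symm).trans b.quotKerEquivRange⟩

open TensorProduct in
/-- Consider a commutative square of fields with maps `k → K`, `k → k'`, `k' → K'` and `K → K'`, where
`k'` is a finitely generated field extension of `k` and `K'` is a finitely generated field extension
of `K`. Let `α : Ω_{K/k} ⊗_K K' → Ω_{K'/k'}` and `β : H_1(L_{K/k}) ⊗_K K' → H_1(L_{K'/k'})` be the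
comparison maps (`H_1(L)` the first homology of the naive cotangent complex). Then the kernels and
cokernels of `α` and `β` are finite-dimensional `K'`-vector spaces, and the difference of
transcendence degrees trdeg_k(k') − trdeg_K(K') equals (dim Ker α + dim Coker β) − (dim Coker α +
dim Ker β). -/
theorem result {k k' K K' : Type u} [Field k] [Field k']
    [Field K] [Field K'] [Algebra k k'] [Algebra k K] [Algebra k K'] [Algebra k' K'] [Algebra K K']
    [IsScalarTower k k' K'] [IsScalarTower k K K']
    [Algebra.EssFiniteType k k'] [Algebra.EssFiniteType K K'] :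
    Module.Finite K' (LinearMap.ker ((KaehlerDifferential.map k k' K K').liftBaseChange K')) ∧
      Module.Finite K' (Ω[K'⁄k'] ⧸ LinearMap.range ((KaehlerDifferential.map k k' K K').liftBaseChange K')) ∧
      Module.Finite K' (LinearMap.ker ((Algebra.H1Cotangent.map k k' K K').liftBaseChange K')) ∧
      Module.Finite K' (Algebra.H1Cotangent k' K' ⧸ LinearMap.range ((Algebra.H1Cotangent.map k k' K K').liftBaseChange K')) ∧
      ((Module.finrank K' (LinearMap.ker ((KaehlerDifferential.map k k' K K').liftBaseChange K')) : ℤ)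
          - Module.finrank K' (Ω[K'⁄k'] ⧸ LinearMap.range ((KaehlerDifferential.map k k' K K').liftBaseChange K'))
          - Module.finrank K' (LinearMap.ker ((Algebra.H1Cotangent.map k k' K K').liftBaseChange K'))
          + Module.finrank K' (Algebra.H1Cotangent k' K' ⧸ LinearMap.range ((Algebra.H1Cotangent.map k k' K K').liftBaseChange K'))
        = (Cardinal.toNat (Algebra.trdeg k k') : ℤ) - Cardinal.toNat (Algebra.trdeg K K')) := by
  obtain ⟨hΩA, hHA, hA⟩ := Groth.Agent.S2469.euler_h1Cotangent (K := K) (L := K')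
  obtain ⟨hΩB, hHB, hB⟩ := Groth.Agent.S2469.euler_h1Cotangent (K := k) (L := k')
  haveI := hΩA; haveI := hHA; haveI := hΩB; haveI := hHB
  -- first tower
  have ex1 := Algebra.H1Cotangent.exact_liftBaseChange_map_of_flat k K K'
  have ex2 := Algebra.H1Cotangent.exact_map_δ k K K'
  have ex3 := Algebra.H1Cotangent.exact_δ_mapBaseChange k K K'
  have ex4 := KaehlerDifferential.exact_mapBaseChange_map k K K'
  have su4 := KaehlerDifferential.map_surjective k K K'
  have in1 := GrothLib.FieldExtra.h1Cotangent_liftBaseChange_injective k K K'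
  -- second tower
  have ey1 := Algebra.H1Cotangent.exact_liftBaseChange_map_of_flat k k' K'
  have ey2 := Algebra.H1Cotangent.exact_map_δ k k' K'
  have ey3 := Algebra.H1Cotangent.exact_δ_mapBaseChange k k' K'
  have ey4 := KaehlerDifferential.exact_mapBaseChange_map k k' K'
  have su5 := KaehlerDifferential.map_surjective k k' K'
  have in2 := GrothLib.FieldExtra.h1Cotangent_liftBaseChange_injective k k' K'
  have hα : (KaehlerDifferential.map k k' K K').liftBaseChange K' =
      KaehlerDifferential.map k k' K' K' ∘ₗ KaehlerDifferential.mapBaseChange k K K' := by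
    have h : KaehlerDifferential.map k k' K K' =
        (KaehlerDifferential.map k k' K' K').restrictScalars K ∘ₗ KaehlerDifferential.map k k K K' :=
      Derivation.liftKaehlerDifferential_unique _ _ (Derivation.ext fun a => by simp)
    refine TensorProduct.AlgebraTensorModule.ext fun c w => ?_
    rw [LinearMap.liftBaseChange_tmul, LinearMap.comp_apply, KaehlerDifferential.mapBaseChange_tmul,
      LinearMap.map_smul, h]
    rfl
  have hβ : (Algebra.H1Cotangent.map k k' K K').liftBaseChange K' =
      Algebra.H1Cotangent.map k k' K' K' ∘ₗ (Algebra.H1Cotangent.map k k K K').liftBaseChange K' := by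
    have h : Algebra.H1Cotangent.map k k' K K' =
        (Algebra.H1Cotangent.map k k' K' K').restrictScalars K ∘ₗ Algebra.H1Cotangent.map k k K K' := by
      rw [Algebra.H1Cotangent.map, Algebra.H1Cotangent.map, Algebra.H1Cotangent.map,
        ← Algebra.Extension.H1Cotangent.map_comp, Algebra.Extension.H1Cotangent.map_eq]
    refine TensorProduct.AlgebraTensorModule.ext fun c w => ?_
    rw [LinearMap.liftBaseChange_tmul, LinearMap.comp_apply, LinearMap.liftBaseChange_tmul,
      LinearMap.map_smul, h]
    rfl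
  rw [hα, hβ]
  haveI f1 : Module.Finite K' (LinearMap.ker (KaehlerDifferential.mapBaseChange k K K')) := by
    rw [ex3.linearMap_ker_eq]; infer_instance
  have d1 := LinearMap.finrank_range_add_finrank_ker (Algebra.H1Cotangent.δ k K K')
  rw [← ex3.linearMap_ker_eq] at d1
  obtain ⟨c1⟩ := cokerEquiv ex4 su4
  haveI f2 : Module.Finite K' (_ ⧸ LinearMap.range (KaehlerDifferential.mapBaseChange k K K')) :=
    Module.Finite.equiv c1.symm
  obtain ⟨c2⟩ := cokerEquivRange ex1
  haveI f3 : Module.Finite K' (_ ⧸ LinearMap.range ((Algebra.H1Cotangent.map k k K K').liftBaseChange K')) :=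
    Module.Finite.equiv c2.symm
  haveI f4 : Module.Finite K' (LinearMap.ker ((Algebra.H1Cotangent.map k k K K').liftBaseChange K')) := by
    rw [LinearMap.ker_eq_bot.2 in1]; infer_instance
  have z4 : Module.finrank K' (LinearMap.ker ((Algebra.H1Cotangent.map k k K K').liftBaseChange K')) = 0 := by
    rw [LinearMap.ker_eq_bot.2 in1]; exact finrank_bot _ _
  rw [← ex2.linearMap_ker_eq] at c2
  haveI f5 : Module.Finite K' (LinearMap.ker (KaehlerDifferential.map k k' K' K')) := by
    rw [ey4.linearMap_ker_eq]; infer_instance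
  have d5 := LinearMap.finrank_range_add_finrank_ker (KaehlerDifferential.mapBaseChange k k' K')
  rw [← ey4.linearMap_ker_eq, ey3.linearMap_ker_eq, Module.finrank_baseChange] at d5
  haveI f6 : Module.Finite K' (_ ⧸ LinearMap.range (KaehlerDifferential.map k k' K' K')) := by
    rw [LinearMap.range_eq_top.2 su5]; infer_instance
  have z6 : Module.finrank K' (_ ⧸ LinearMap.range (KaehlerDifferential.map k k' K' K')) = 0 := by
    rw [LinearMap.range_eq_top.2 su5]; exact Module.finrank_zero_of_subsingleton
  haveI f7 : Module.Finite K' (LinearMap.ker (Algebra.H1Cotangent.map k k' K' K')) := by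
    rw [ey1.linearMap_ker_eq]; infer_instance
  have d7 : Module.finrank K' (LinearMap.ker (Algebra.H1Cotangent.map k k' K' K')) =
      Module.finrank k' (Algebra.H1Cotangent k k') := by
    rw [ey1.linearMap_ker_eq, LinearMap.finrank_range_of_inj in2, Module.finrank_baseChange]
  obtain ⟨c3⟩ := cokerEquivRange ey2
  haveI f8 : Module.Finite K' (_ ⧸ LinearMap.range (Algebra.H1Cotangent.map k k' K' K')) :=
    Module.Finite.equiv c3.symm
  obtain ⟨p1, p2, p3⟩ := index_comp (KaehlerDifferential.mapBaseChange k K K') (KaehlerDifferential.map k k' K' K')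
  obtain ⟨q1, q2, q3⟩ := index_comp ((Algebra.H1Cotangent.map k k K K').liftBaseChange K') (Algebra.H1Cotangent.map k k' K' K')
  refine ⟨p1, p2, q1, q2, ?_⟩
  have e1 := c1.finrank_eq
  have e2 := c2.finrank_eq
  have e3 := c3.finrank_eq
  omega

end Groth.Agent.S9320
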