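import Groth.Statements.S9323
import Mathlib
import Groth.Agent.Lib.AdicPS2.Basic
import Groth.Agent.Lib.SepField.Smooth
import Groth.Agent.Lib.Cohen.Smooth

set_option autoImplicit false
open CAlg

namespace Groth.Agent.S9323

/-- Let `Λ` be a Cohen ring (a complete discrete valuation ring whose maximal ideal is generated by a
prime number) and `n ≥ 0`. Then `ℤ → Λ[[x_1, …, x_n]]` is formally smooth for the adic topology of
the maximal ideal of the power series ring. (`Λ` is taken in the lowest universe, where `ℤ` lives.) -/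
theorem result (Λ : Type) [CommRing Λ] [IsLocalRing Λ]
    (hΛ : CAlg.IsCohenRing Λ) (n : ℕ) :
    CAlgX.IsAdicFormallySmooth ℤ (MvPowerSeries (Fin n) Λ)
      (IsLocalRing.maximalIdeal (MvPowerSeries (Fin n) Λ)) := by
  obtain ⟨hdom, hdvr, hc, p, hp, hm⟩ := hΛ
  haveI := hdvr
  haveI := GrothLib.Cohen.charZero_of_maximalIdeal_eq_span Λ p hp hm
  refine GrothLib.AdicPS2.isAdicFormallySmooth_powerSeries ℤ Λ n ?_
  intro A _ _ J hJ ψ ⟨t, ht⟩
  let N := t * 2 + 1
  have hpA : (p : A) ^ N = 0 := by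
    have h1 : (p : Λ) ^ t ∈ IsLocalRing.maximalIdeal Λ ^ t :=
      Ideal.pow_mem_pow (hm ▸ Ideal.mem_span_singleton_self _) t
    have h2 := ht _ h1
    rw [map_pow, map_natCast, ← map_natCast (Ideal.Quotient.mk J), ← map_pow, Ideal.Quotient.eq_zero_iff_mem] at h2
    have h3 := Ideal.pow_mem_pow h2 2
    rw [hJ, Ideal.mem_bot, ← pow_mul] at h3
    rw [show N = t * 2 + 1 from rfl, pow_succ, h3, zero_mul]
  let S := Λ ⧸ Ideal.span {((p : Λ) ^ N)}
  have hcast : ∀ (B : Type) [CommRing B], (p : B) ^ N = 0 → ∃ f : ZMod (p ^ N) →+* B, True := fun B _ hB =>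
    ⟨(Ideal.Quotient.lift (Ideal.span {((p ^ N : ℕ) : ℤ)}) (Int.castRingHom B) fun a ha => by
        obtain ⟨c, rfl⟩ := Ideal.mem_span_singleton.1 ha
        simp [hB]).comp (Int.quotientSpanNatEquivZMod (p ^ N)).symm.toRingHom, trivial⟩
  obtain ⟨fS, -⟩ := hcast S (by
    rw [← map_natCast (Ideal.Quotient.mk _), ← map_pow, Ideal.Quotient.eq_zero_iff_mem]
    exact Ideal.mem_span_singleton_self _)
  obtain ⟨fA, -⟩ := hcast A hpA
  letI : Algebra (ZMod (p ^ N)) S := fS.toAlgebra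
  letI : Algebra (ZMod (p ^ N)) A := fA.toAlgebra
  haveI := GrothLib.Cohen.formallySmooth_zmod_pow Λ p hp (hm ▸ IsLocalRing.maximalIdeal.isMaximal Λ) N (by omega)
  let u : S →+* A ⧸ J := Ideal.Quotient.lift _ ψ.toRingHom fun x hx => by
    obtain ⟨c, rfl⟩ := Ideal.mem_span_singleton.1 hx
    rw [map_mul, map_pow, map_natCast, show ((p : A ⧸ J)) ^ N = 0 by
      rw [← map_natCast (Ideal.Quotient.mk J), ← map_pow, hpA, map_zero], zero_mul]
  let u' : S →ₐ[ZMod (p ^ N)] A ⧸ J :=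
    { u with commutes' := fun z => RingHom.congr_fun (RingHom.ext_zmod (u.comp fS) (algebraMap _ _)) z }
  let v := Algebra.FormallySmooth.lift J ⟨2, hJ⟩ u'
  refine ⟨{ toRingHom := v.toRingHom.comp (Ideal.Quotient.mk _), commutes' := fun z => ?_ }, AlgHom.ext fun x => ?_⟩
  · exact RingHom.congr_fun (RingHom.ext_int ((v.toRingHom.comp (Ideal.Quotient.mk _)).comp (algebraMap ℤ Λ)) (algebraMap ℤ A)) z
  show Ideal.Quotient.mk J (v (Ideal.Quotient.mk _ x)) = ψ x
  exact Algebra.FormallySmooth.mk_lift J ⟨2, hJ⟩ u' (Ideal.Quotient.mk _ x)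

end Groth.Agent.S9323
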