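import Groth.Statements.S9324
import Groth.Agent.Lib.Hensel.PairFP
import Groth.Agent.Lib.Hensel.PairHull
import Groth.Agent.Lib.Hensel.Properties
import Mathlib.RingTheory.IntegralClosure.Algebra.Basic

set_option autoImplicit false
universe u
open Hensel

namespace Groth.Agent.S9324

open scoped TensorProduct
open GrothLib.Hensel

theorem radical_map_eq {R S : Type u} [CommRing R] [CommRing S] (f : R →+* S) {J K : Ideal R}
    (h : J.radical = K.radical) : (J.map f).radical = (K.map f).radical := by
  have key : ∀ P Q : Ideal R, P ≤ Q.radical → (P.map f).radical ≤ (Q.map f).radical :=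
    fun P Q hPQ => Ideal.radical_le_radical_iff.mpr
      ((Ideal.map_mono hPQ).trans (Ideal.map_radical_le f))
  exact le_antisymm (key J K (h ▸ Ideal.le_radical)) (key K J (h.symm ▸ Ideal.le_radical))

/-- Henselization of pairs commutes with integral base change. -/
theorem isPairHenselization_tensor {A B Ah : Type u} [CommRing A] [CommRing B] [CommRing Ah]
    [Algebra A B] (I : Ideal A) (J : Ideal B) (hIJ : I.map (algebraMap A B) ≤ J)
    (hrad : J.radical = (I.map (algebraMap A B)).radical) [Algebra.IsIntegral A B]
    [Algebra A Ah] (hA : Hens2.IsPairHenselization A I Ah) :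
    letI : Algebra B (Ah ⊗[A] B) := Algebra.TensorProduct.includeRight.toRingHom.toAlgebra
    Hens2.IsPairHenselization B J (Ah ⊗[A] B) := by
  letI : Algebra B (Ah ⊗[A] B) := Algebra.TensorProduct.includeRight.toRingHom.toAlgebra
  haveI := hA.1
  haveI hint : Algebra.IsIntegral Ah (Ah ⊗[A] B) := inferInstance
  have hcomm : (algebraMap Ah (Ah ⊗[A] B)).comp (algebraMap A Ah) =
      (algebraMap B (Ah ⊗[A] B)).comp (algebraMap A B) := RingHom.ext fun a => by
    show (algebraMap A Ah a) ⊗ₜ[A] (1 : B) = (1 : Ah) ⊗ₜ[A] algebraMap A B a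
    rw [Algebra.algebraMap_eq_smul_one, Algebra.algebraMap_eq_smul_one, TensorProduct.smul_tmul]
  refine isPairHenselization_mk ?_ ?_ ?_
  · have h1 := henselianRing_of_isIntegral (I.map (algebraMap A Ah)) (Ah ⊗[A] B)
    rw [Ideal.map_map, hcomm, ← Ideal.map_map] at h1
    exact (henselianRing_iff_of_radical_eq (radical_map_eq _ hrad)).mpr h1
  · intro C _ K f hC hf
    letI : Algebra A C := (f.comp (algebraMap A B)).toAlgebra
    have hI : I.map (algebraMap A C) ≤ K := by
      show I.map (f.comp (algebraMap A B)) ≤ K
      rw [← Ideal.map_map]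
      exact (Ideal.map_mono hIJ).trans hf
    obtain ⟨⟨⟨g⟩, -⟩⟩ := IsPairHenselization.existsUnique_algHom hA C K hI
    let f' : B →ₐ[A] C := { f with commutes' := fun a => rfl }
    refine ⟨(Algebra.TensorProduct.productMap g f').toRingHom, RingHom.ext fun b => ?_⟩
    show Algebra.TensorProduct.productMap g f' ((1 : Ah) ⊗ₜ[A] b) = f b
    rw [Algebra.TensorProduct.productMap_apply_tmul, map_one, one_mul]
    rfl
  · intro C _ K g₁ g₂ hC hK hg
    have h1 : g₁.comp (algebraMap Ah (Ah ⊗[A] B)) = g₂.comp (algebraMap Ah (Ah ⊗[A] B)) := by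
      refine IsPairHenselization.ringHom_ext hA K (hJ := hC) ?_ ?_
      · rw [RingHom.comp_assoc, RingHom.comp_assoc, hcomm, ← RingHom.comp_assoc, hg,
          RingHom.comp_assoc]
      · rw [RingHom.comp_assoc, hcomm, ← RingHom.comp_assoc, ← Ideal.map_map]
        exact (Ideal.map_mono hIJ).trans hK
    refine RingHom.ext fun x => ?_
    induction x using TensorProduct.induction_on with
    | zero => rw [map_zero, map_zero]
    | add x y hx hy => rw [map_add, map_add, hx, hy]
    | tmul a b =>
      have e : a ⊗ₜ[A] b = algebraMap Ah (Ah ⊗[A] B) a * algebraMap B (Ah ⊗[A] B) b := by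
        show _ = a ⊗ₜ[A] (1 : B) * (1 : Ah) ⊗ₜ[A] b
        rw [Algebra.TensorProduct.tmul_mul_tmul, mul_one, one_mul]
      rw [e, map_mul, map_mul]
      exact congrArg₂ (· * ·) (RingHom.congr_fun h1 a) (RingHom.congr_fun hg b)

end Groth.Agent.S9324

namespace Groth.Agent.S9324

open TensorProduct in
/-- Let `(A, I) → (B, J)` be a map of pairs, i.e. `I B ⊆ J`, such that `J` and `I B` have the same
radical, and suppose `A → B` is integral. Let `A^h` be a henselization of the pair `(A, I)`, `B^h` a
henselization of the pair `(B, J)`, and `φ : A^h → B^h` an `A`-algebra homomorphism (there is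
exactly one, by the universal property of `A^h`). Then the induced map `A^h ⊗_A B → B^h` is
bijective: henselization commutes with integral base change. -/
theorem result {A B Ah Bh : Type u} [CommRing A]
    [CommRing B] [CommRing Ah] [CommRing Bh] [Algebra A B] (I : Ideal A) (J : Ideal B)
    (hIJ : I.map (algebraMap A B) ≤ J) (hrad : J.radical = (I.map (algebraMap A B)).radical)
    [Algebra.IsIntegral A B] [Algebra A Ah] (hA : Hens2.IsPairHenselization A I Ah)
    [Algebra B Bh] [Algebra A Bh] [IsScalarTower A B Bh] (hB : Hens2.IsPairHenselization B J Bh)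
    (φ : Ah →ₐ[A] Bh) :
    Function.Bijective (Algebra.TensorProduct.productMap φ (IsScalarTower.toAlgHom A B Bh)) := by
  letI : Algebra B (TensorProduct A Ah B) :=
    Algebra.TensorProduct.includeRight.toRingHom.toAlgebra
  have hT : Hens2.IsPairHenselization B J (TensorProduct A Ah B) :=
    isPairHenselization_tensor I J hIJ hrad hA
  haveI := hB.1
  let Φ : TensorProduct A Ah B →ₐ[B] Bh :=
    { (Algebra.TensorProduct.productMap φ (IsScalarTower.toAlgHom A B Bh)).toRingHom with
      commutes' := fun b => by
        show Algebra.TensorProduct.productMap φ (IsScalarTower.toAlgHom A B Bh)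
          (TensorProduct.tmul A (1 : Ah) b) = _
        rw [Algebra.TensorProduct.productMap_apply_tmul, map_one, one_mul]
        rfl }
  obtain ⟨e⟩ := GrothLib.Hensel.IsPairHenselization.nonempty_algEquiv hT hB
  have := GrothLib.Hensel.IsPairHenselization.subsingleton_algHom hT Bh
    (J.map (algebraMap B Bh)) le_rfl
  have h : (e : TensorProduct A Ah B →ₐ[B] Bh) = Φ := Subsingleton.elim _ _
  show Function.Bijective Φ
  rw [← h]
  exact e.bijective

end Groth.Agent.S9324
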