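import Groth.Statements.S9326
import Mathlib
-- import your own Groth.Agent.* helpers here

set_option autoImplicit false
universe u
open CAlg

namespace Groth.Agent.S9326

/-- Let `u : N → M` be a continuous homomorphism of topological abelian groups. Assume `M` is Hausdorff
and `N` is Hausdorff and complete, linearly topologized (every neighbourhood of zero contains an
open subgroup) and first countable (zero has a countable basis of neighbourhoods). Then exactly one
of two things holds: `u` is an open map; or there is an open subgroup of `N` whose image is nowhere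
dense in `M`. -/
theorem result {N M : Type u} [AddCommGroup N]
    [AddCommGroup M] [UniformSpace N] [IsUniformAddGroup N] [TopologicalSpace M]
    [IsTopologicalAddGroup M] [T2Space M] [T2Space N] [CompleteSpace N] [NonarchimedeanAddGroup N]
    [FirstCountableTopology N] (u : N →+ M) (hu : Continuous u) :
    Xor (IsOpenMap u) (∃ V : OpenAddSubgroup N, IsNowhereDense (u '' (V : Set N))) := by
  classical
  have key : ∀ (P Q : Prop), (P → ¬Q) → (¬Q → P) → Xor P Q := by
    intro P Q h1 h2
    by_cases hp : P
    · exact Or.inl ⟨hp, h1 hp⟩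
    · exact Or.inr ⟨by by_contra hq; exact hp (h2 hq), hp⟩
  refine key _ _ ?_ ?_
  · rintro hopen ⟨V, hV⟩
    have h0 : (0 : M) ∈ u '' (V : Set N) := ⟨0, V.zero_mem, map_zero u⟩
    have hsub : u '' (V : Set N) ⊆ interior (closure (u '' (V : Set N))) :=
      interior_maximal subset_closure (hopen _ V.isOpen)
    change interior (closure (u '' (V : Set N))) = ∅ at hV
    rw [hV] at hsub
    exact hsub h0
  intro hno
  have hint : ∀ V : OpenAddSubgroup N, IsOpen (((V.toAddSubgroup.map u).topologicalClosure : AddSubgroup M) : Set M) := by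
    intro V
    obtain ⟨x, hx⟩ : (interior (closure (u '' (V : Set N)))).Nonempty := by
      rw [Set.nonempty_iff_ne_empty]
      exact fun h => hno ⟨V, h⟩
    refine AddSubgroup.isOpen_of_mem_nhds _ (g := x) ?_
    rw [AddSubgroup.topologicalClosure_coe, AddSubgroup.coe_map]
    exact mem_interior_iff_mem_nhds.mp hx
  -- a decreasing basis of open subgroups
  obtain ⟨U, hU⟩ := (nhds (0 : N)).exists_antitone_basis
  have hW : ∀ n, ∃ W : OpenAddSubgroup N, (W : Set N) ⊆ U n := fun n =>
    NonarchimedeanAddGroup.is_nonarchimedean (U n) (hU.1.mem_of_mem trivial)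
  choose W hW using hW
  intro s hs
  rw [isOpen_iff_mem_nhds]
  rintro _ ⟨x₀, hx₀, rfl⟩
  obtain ⟨V₀, hV₀⟩ := NonarchimedeanAddGroup.is_nonarchimedean ((fun y => x₀ + y) ⁻¹' s)
    ((continuous_const_add x₀).continuousAt.preimage_mem_nhds (by rw [add_zero]; exact hs.mem_nhds hx₀))
  let V : ℕ → OpenAddSubgroup N := fun n => Nat.rec V₀ (fun n W' => W' ⊓ W n) n
  have hVanti : ∀ {m n : ℕ}, m ≤ n → (SetLike.coe (V n)) ⊆ (SetLike.coe (V m)) := by
    intro m n h
    induction h with
    | refl => exact subset_rfl
    | step _ ih => exact fun y hy => ih hy.1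
  have hVbasis : ∀ O ∈ nhds (0 : N), ∃ n, (SetLike.coe (V n)) ⊆ O := by
    intro O hO
    obtain ⟨n, -, hn⟩ := hU.1.mem_iff.mp hO
    exact ⟨n + 1, fun y hy => hn (hW n hy.2)⟩
  let C : ℕ → AddSubgroup M := fun n => ((V n).toAddSubgroup.map u).topologicalClosure
  have hcore : (C 0 : Set M) ⊆ u '' (SetLike.coe (V 0)) := by
    intro z hz
    have step : ∀ n (r : M), r ∈ C n → ∃ y ∈ V n, r - u y ∈ C (n + 1) := by
      intro n r hr
      have hmem : {w | r - w ∈ C (n + 1)} ∈ nhds r :=
        ((hint (V (n + 1))).preimage (continuous_const.sub continuous_id)).mem_nhds (by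
          change r - r ∈ C (n + 1)
          rw [sub_self]; exact zero_mem _)
      rw [← SetLike.mem_coe, AddSubgroup.topologicalClosure_coe] at hr
      obtain ⟨w, hw1, y, hy, rfl⟩ := mem_closure_iff_nhds.mp hr _ hmem
      exact ⟨y, hy, hw1⟩
    choose! g hgV hgC using step
    let R : ℕ → M := fun n => Nat.rec z (fun n r => r - u (g n r)) n
    have hR : ∀ n, R n ∈ C n := fun n => by
      induction n with
      | zero => exact hz
      | succ n ih => exact hgC n (R n) ih
    let S : ℕ → N := fun n => ∑ i ∈ Finset.range n, g i (R i)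
    have hS : ∀ n, R n = z - u (S n) := fun n => by
      induction n with
      | zero => simp [R, S]
      | succ n ih =>
        change R n - u (g n (R n)) = _
        simp only [S, Finset.sum_range_succ, map_add]
        rw [ih]
        simp only [S]
        abel
    have hdiff : ∀ n m, n ≤ m → S m - S n ∈ V n := by
      intro n m h
      induction h with
      | refl => simp
      | @step m h ih =>
        have h2 : g m (R m) ∈ V n := hVanti h (hgV m (R m) (hR m))
        have h3 := (V n).add_mem ih h2
        simp only [S, Finset.sum_range_succ] at *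
        convert h3 using 1
        try abel_nf
        try rfl
    have hcauchy : CauchySeq S := by
      rw [cauchySeq_iff]
      intro O hO
      rw [uniformity_eq_comap_nhds_zero, Filter.mem_comap] at hO
      obtain ⟨O', hO', hOO⟩ := hO
      obtain ⟨n, hn⟩ := hVbasis O' hO'
      refine ⟨n, fun k hk l hl => hOO ?_⟩
      have := (V n).sub_mem (hdiff n l hl) (hdiff n k hk)
      rw [sub_sub_sub_cancel_right] at this
      exact hn this
    obtain ⟨y, hy⟩ := cauchySeq_tendsto_of_complete hcauchy
    have hyV : ∀ n, y - S n ∈ V n := fun n =>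
      ((V n).isClosed.mem_of_tendsto (hy.sub_const (S n))
        (Filter.eventually_atTop.mpr ⟨n, fun m hm => hdiff n m hm⟩))
    refine ⟨y, by simpa [S] using hyV 0, ?_⟩
    have hmem : ∀ n, z - u y ∈ C n := fun n => by
      have h1 : u (y - S n) ∈ C n :=
        AddSubgroup.le_topologicalClosure _ ⟨_, hyV n, rfl⟩
      have := (C n).sub_mem (hS n ▸ hR n) h1
      rw [map_sub] at this
      convert this using 1
      abel
    by_contra hne
    have hne0 : z - u y ≠ 0 := fun h => hne (sub_eq_zero.mp h).symm
    obtain ⟨O, hO, hOclosed, hOsub⟩ := exists_mem_nhds_isClosed_subset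
      (isOpen_compl_singleton.mem_nhds (Ne.symm hne0))
    obtain ⟨n, hn⟩ := hVbasis (u ⁻¹' O) (hu.continuousAt.preimage_mem_nhds (by rwa [map_zero]))
    have h2 : (C n : Set M) ⊆ O := by
      rw [AddSubgroup.topologicalClosure_coe, AddSubgroup.coe_map]
      exact closure_minimal (Set.image_subset_iff.mpr hn) hOclosed
    exact hOsub (h2 (hmem n)) rfl
  have hnhds : (fun w => u x₀ + w) '' (C 0 : Set M) ∈ nhds (u x₀) := by
    refine ((isOpenMap_add_left (u x₀)) _ (hint (V 0))).mem_nhds ⟨0, (C 0).zero_mem, add_zero _⟩
  refine Filter.mem_of_superset hnhds ?_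
  rintro _ ⟨w, hw, rfl⟩
  obtain ⟨y, hy, rfl⟩ := hcore hw
  exact ⟨x₀ + y, hV₀ hy, map_add u _ _⟩

end Groth.Agent.S9326
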