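import Groth.Statements.S9327
import Groth.Agent.Lib.MinPrimeTensor4.Main
-- import your own Groth.Agent.* helpers here

set_option autoImplicit false
set_option linter.all false
set_option backward.isDefEq.respectTransparency false
universe u
open Hensel

namespace Groth.Agent.S9327

open TensorProduct IsLocalRing in
/-- Let `k` be an algebraically closed field and `A`, `B` henselian local `k`-algebras with residue
field `k` (the composites `k → A → A/m_A` and `k → B → B/m_B` are bijective; as `k` is algebraically
closed, `A` and `B` are strictly henselian). Let `𝔪 = m_A ⊗ B + A ⊗ m_B`, a maximal ideal of `A ⊗_k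
B`, and let `C` be a strict henselization of the local ring `(A ⊗_k B)_𝔪`. Then sending a prime of
`C` to the pair of its preimages in `A` and in `B` is a bijection from the set of minimal primes of
`C` onto the set of pairs (minimal prime of `A`, minimal prime of `B`). -/
theorem result {k A B C : Type u} [Field k]
    [IsAlgClosed k] [CommRing A] [CommRing B] [HenselianLocalRing A] [HenselianLocalRing B]
    [Algebra k A] [Algebra k B]
    (hA : Function.Bijective ((residue A).comp (algebraMap k A)))
    (hB : Function.Bijective ((residue B).comp (algebraMap k B)))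
    (𝔪 : Ideal (A ⊗[k] B)) [𝔪.IsPrime]
    (h𝔪 : 𝔪 = (maximalIdeal A).map (Algebra.TensorProduct.includeLeft : A →ₐ[k] A ⊗[k] B) ⊔
      (maximalIdeal B).map (Algebra.TensorProduct.includeRight : B →ₐ[k] A ⊗[k] B))
    [CommRing C] [IsLocalRing C] [Algebra (Localization.AtPrime 𝔪) C]
    [IsLocalHom (algebraMap (Localization.AtPrime 𝔪) C)]
    [Hensel.IsStrictHenselization (Localization.AtPrime 𝔪) C] :
    Set.BijOn
      (fun 𝔯 : Ideal C =>
        (𝔯.comap ((algebraMap (Localization.AtPrime 𝔪) C).comp
            ((algebraMap (A ⊗[k] B) (Localization.AtPrime 𝔪)).comp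
              (Algebra.TensorProduct.includeLeft : A →ₐ[k] A ⊗[k] B).toRingHom)),
          𝔯.comap ((algebraMap (Localization.AtPrime 𝔪) C).comp
            ((algebraMap (A ⊗[k] B) (Localization.AtPrime 𝔪)).comp
              (Algebra.TensorProduct.includeRight : B →ₐ[k] A ⊗[k] B).toRingHom))))
      (minimalPrimes C) (minimalPrimes A ×ˢ minimalPrimes B) := by
  exact GrothLib.MinPrimeTensor4.bijOn hA hB 𝔪 h𝔪 C

end Groth.Agent.S9327
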