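import Groth.Statements.S9330
import Groth.Agent.Lib.Hensel.Limit
-- import your own Groth.Agent.* helpers here

set_option autoImplicit false
universe u
open Hensel

namespace Groth.Agent.S9330

/-- Let `(A_i, I_i)` be a directed system of pairs (rings `A_i` with ideals `I_i`, the transition maps
sending `I_i` into `I_j`), with colimit ring `A` and `I ⊆ A` the ideal generated by (equivalently,
the union of) the images of the `I_i`. For each `i` let `B_i` be a henselization of the pair `(A_i,
I_i)`, with the compatible transition maps `B_i → B_j` over `A_i → A_j` (these are the induced ones,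
being unique), and give the colimit of the `B_i` the `A`-algebra structure induced by the maps `A_i
→ B_i`. Then `colim B_i`, with the extension of `I`, is a henselization of the pair `(A, I)`. (The
index set is taken in the universe of the rings; the statement fails for non-filtered colimits.) -/
theorem result {ι : Type u} [Preorder ι] [IsDirectedOrder ι] [Nonempty ι]
    (G : ι → Type u) [∀ i, CommRing (G i)] (f : ∀ i j : ι, i ≤ j → (G i →+* G j))
    [DirectedSystem G (fun i j h => f i j h)] (I : ∀ i, Ideal (G i))
    (hI : ∀ (i j : ι) (h : i ≤ j), (I i).map (f i j h) ≤ I j)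
    (B : ι → Type u) [∀ i, CommRing (B i)] [∀ i, Algebra (G i) (B i)]
    (hB : ∀ i, Hens2.IsPairHenselization (G i) (I i) (B i))
    (g : ∀ i j : ι, i ≤ j → (B i →+* B j)) [DirectedSystem B (fun i j h => g i j h)]
    (hg : ∀ (i j : ι) (h : i ≤ j), (g i j h).comp (algebraMap (G i) (B i)) = (algebraMap (G j) (B j)).comp (f i j h))
    [Algebra (DirectLimit G f) (DirectLimit B g)]
    (halg : ∀ (i : ι) (x : G i), algebraMap (DirectLimit G f) (DirectLimit B g) (DirectLimit.Ring.of G f i x) =
      DirectLimit.Ring.of B g i (algebraMap (G i) (B i) x)) :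
    Hens2.IsPairHenselization (DirectLimit G f) (⨆ i, (I i).map (DirectLimit.Ring.of G f i))
      (DirectLimit B g) := by
  have hsysB := fun i j k (h₁ : i ≤ j) (h₂ : j ≤ k) x ↦
    DirectedSystem.map_map (f := fun i j h ↦ ⇑(g i j h)) h₁ h₂ x
  have hofB : ∀ i j (h : i ≤ j) x,
      DirectLimit.Ring.of B g j (g i j h x) = DirectLimit.Ring.of B g i x :=
    fun i j h x ↦ DirectLimit.Ring.of_f h x
  have hofG : ∀ i j (h : i ≤ j) x,
      DirectLimit.Ring.of G f j (f i j h x) = DirectLimit.Ring.of G f i x :=
    fun i j h x ↦ DirectLimit.Ring.of_f h x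
  have hcomp : ∀ i, (algebraMap (DirectLimit G f) (DirectLimit B g)).comp
      (DirectLimit.Ring.of G f i) = (DirectLimit.Ring.of B g i).comp (algebraMap (G i) (B i)) :=
    fun i ↦ RingHom.ext (halg i)
  refine ⟨?_, fun C _ J F hJ hle ↦ ?_⟩
  · rw [Ideal.map_iSup]
    simp only [Ideal.map_map, hcomp]
    simp only [← Ideal.map_map]
    refine GrothLib.Hensel.henselianRing_of_directed (φ := fun i ↦ DirectLimit.Ring.of B g i)
      hsysB hofB (fun x ↦ ?_) (fun i a h ↦ ?_) (fun i j h ↦ ?_) fun i ↦ (hB i).1
    · induction x using DirectLimit.induction with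
      | ih i a => exact ⟨i, a, rfl⟩
    · obtain ⟨j, h₁, h₂, he⟩ := Quotient.exact (h.trans (map_zero (DirectLimit.Ring.of B g i)).symm)
      exact ⟨j, h₁, he.trans (map_zero (g i j h₂))⟩
    · rw [Ideal.map_map, hg, ← Ideal.map_map]
      exact Ideal.map_mono (hI i j h)
  have hlei : ∀ i, (I i).map (F.comp (DirectLimit.Ring.of G f i)) ≤ J := fun i ↦ by
    rw [← Ideal.map_map]
    exact (Ideal.map_mono (le_iSup (fun i ↦ (I i).map (DirectLimit.Ring.of G f i)) i)).trans hle
  choose l hl hluniq using fun i ↦ (hB i).2 C J (F.comp (DirectLimit.Ring.of G f i)) hJ (hlei i)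
  have hlcomp : ∀ i j (h : i ≤ j) x, l j (g i j h x) = l i x := fun i j h ↦
    RingHom.congr_fun (hluniq i ((l j).comp (g i j h)) (by
      show ((l j).comp (g i j h)).comp (algebraMap (G i) (B i)) = _
      rw [RingHom.comp_assoc, hg, ← RingHom.comp_assoc, hl, RingHom.comp_assoc]
      congr 1
      exact RingHom.ext (hofG i j h)))
  refine ⟨DirectLimit.Ring.lift B g C l hlcomp, ?_, fun g' hg' ↦ ?_⟩
  · refine RingHom.ext fun x ↦ ?_
    induction x using DirectLimit.induction with
    | ih i a =>
      show DirectLimit.Ring.lift B g C l hlcomp (algebraMap (DirectLimit G f) (DirectLimit B g)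
        (DirectLimit.Ring.of G f i a)) = _
      rw [halg]
      exact RingHom.congr_fun (hl i) a
  · refine RingHom.ext fun x ↦ ?_
    induction x using DirectLimit.induction with
    | ih i a =>
      exact RingHom.congr_fun (hluniq i (g'.comp (DirectLimit.Ring.of B g i)) (by
        show (g'.comp (DirectLimit.Ring.of B g i)).comp (algebraMap (G i) (B i)) = _
        rw [RingHom.comp_assoc, ← hcomp, ← RingHom.comp_assoc, hg'])) a
end Groth.Agent.S9330
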