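import Groth.Statements.S9331
import Mathlib.AlgebraicGeometry.Fiber
import Mathlib.RingTheory.Algebraic.Integral
-- import your own Groth.Agent.* helpers here

set_option autoImplicit false
universe u
open QFin

namespace Groth.Agent.S9331

open AlgebraicGeometry CategoryTheory in
/-- Let f : X → S be a morphism of schemes, x ∈ X, s = f x. If κ(x) is algebraic over κ(s) (through the
residue field map of f at x), then x is a closed point of the fibre X_s, and if in addition s is
closed in S then x is closed in X. -/
theorem result {X S : Scheme.{u}} (f : X ⟶ S) (x : X)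
    (halg : @Algebra.IsAlgebraic (S.residueField (f.base x)) (X.residueField x) _ _ (f.residueFieldMap x).hom.toAlgebra) :
    IsClosed ({f.asFiber x} : Set ↑(f.fiber (f.base x))) ∧
      (IsClosed ({f.base x} : Set ↑S) → IsClosed ({x} : Set ↑X)) := by
  set φ := (f.residueFieldMap x).hom with hφ
  letI := φ.toAlgebra
  have key : ∀ x' : X, x ⤳ x' → f.base x' = f.base x → x' = x := by
    intro x' hsp hfx
    let ψ : X.presheaf.stalk x' →+* X.residueField x :=
      (X.residue x).hom.comp (X.presheaf.stalkSpecializes hsp).hom
    have hrange : ∀ c, φ c ∈ ψ.range := by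
      intro c
      obtain ⟨a, rfl⟩ := IsLocalRing.residue_surjective c
      obtain ⟨V, hV, t, rfl⟩ := S.presheaf.germ_exist a
      have hV' : f.base x' ∈ V := hfx.symm ▸ hV
      refine ⟨X.presheaf.germ (f ⁻¹ᵁ V) x' hV' (f.app V t), ?_⟩
      have h2 := congr($(Scheme.residue_residueFieldMap f x) (S.presheaf.germ V (f.base x) hV t))
      simp only [CommRingCat.comp_apply] at h2
      refine Eq.trans ?_ h2.symm
      show (X.residue x).hom ((X.presheaf.stalkSpecializes hsp).hom _) = _
      rw [Scheme.Hom.germ_stalkMap_apply]
      exact congrArg _ (TopCat.Presheaf.germ_stalkSpecializes_apply X.presheaf hV' hsp (f.app V t))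
    let R : Subalgebra (S.residueField (f.base x)) (X.residueField x) :=
      { ψ.range with algebraMap_mem' := hrange }
    haveI := halg
    have hF : IsField R := R.isField_of_algebraic
    let ψ' : X.presheaf.stalk x' →+* R := ψ.codRestrict R (fun a => ⟨a, rfl⟩)
    have hs : Function.Surjective ψ' := by
      rintro ⟨_, a, rfl⟩
      exact ⟨a, rfl⟩
    letI := hF.toField
    have hm : (RingHom.ker ψ').IsMaximal := RingHom.ker_isMaximal_of_surjective ψ' hs
    have hk : RingHom.ker ψ' = IsLocalRing.maximalIdeal _ := IsLocalRing.eq_maximalIdeal hm
    have hc : Spec.map (X.presheaf.stalkSpecializes hsp) (IsLocalRing.closedPoint _) =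
        IsLocalRing.closedPoint _ := by
      apply PrimeSpectrum.ext
      show Ideal.comap (X.presheaf.stalkSpecializes hsp).hom (IsLocalRing.maximalIdeal _) = _
      show _ = IsLocalRing.maximalIdeal _
      rw [← hk]
      ext a
      simp only [Ideal.mem_comap, RingHom.mem_ker]
      rw [← IsLocalRing.ker_residue, RingHom.mem_ker]
      exact ⟨fun h => Subtype.ext h, fun h => congrArg Subtype.val h⟩
    have := congr($(Scheme.SpecMap_stalkSpecializes_fromSpecStalk hsp) (IsLocalRing.closedPoint _))
    rw [Scheme.Hom.comp_apply, hc, Scheme.fromSpecStalk_closedPoint,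
      Scheme.fromSpecStalk_closedPoint] at this
    exact this
  constructor
  · have : ({f.asFiber x} : Set ↑(f.fiber (f.base x))) =
        (f.fiberι (f.base x)).base ⁻¹' closure {x} := by
      ext z
      constructor
      · rintro rfl
        simp only [Set.mem_preimage, Scheme.Hom.fiberι_asFiber]
        exact subset_closure rfl
      · intro hz
        have hzs : f.base ((f.fiberι (f.base x)).base z) = f.base x := by
          have : (f.fiberι (f.base x)).base z ∈ Set.range (f.fiberι (f.base x)) := ⟨z, rfl⟩
          rw [Scheme.Hom.range_fiberι] at this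
          exact this
        have := key _ (specializes_iff_mem_closure.mpr hz) hzs
        exact (f.fiberι (f.base x)).isEmbedding.injective (this.trans (f.fiberι_asFiber x).symm)
    rw [this]
    exact isClosed_closure.preimage (f.fiberι (f.base x)).continuous
  · intro hs
    rw [← closure_subset_iff_isClosed]
    intro x' hx'
    have hsp := specializes_iff_mem_closure.mpr hx'
    exact key x' hsp ((hsp.map f.continuous).mem_closed hs rfl)

end Groth.Agent.S9331
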