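import Groth.Statements.S9332
import Mathlib.AlgebraicGeometry.Morphisms.Finite
import Mathlib.AlgebraicGeometry.Fiber
-- import your own Groth.Agent.* helpers here

set_option autoImplicit false
universe u
open QFin

namespace Groth.Agent.S9332

open AlgebraicGeometry CategoryTheory in
/-- Let f : X → S be locally of finite type and x ∈ X. Then x is closed in its fibre X_{f x} if and only
if κ(x) is a finite extension of κ(f x) (via the residue field map of f at x). -/
theorem result {X S : Scheme.{u}} (f : X ⟶ S) [LocallyOfFiniteType f] (x : X) :
    IsClosed ({f.asFiber x} : Set ↑(f.fiber (f.base x))) ↔ (f.residueFieldMap x).hom.Finite := by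
  haveI : LocallyOfFiniteType (f.fiberToSpecResidueField (f x)) :=
    MorphismProperty.pullback_snd _ _ inferInstance
  haveI : JacobsonSpace ↑(f.fiber (f x)) := LocallyOfFiniteType.jacobsonSpace (f.fiberToSpecResidueField (f x))
  constructor
  · intro hc
    haveI : IsClosedImmersion (f.asFiberHom x) :=
      IsClosedImmersion.of_isPreimmersion _ (by rw [f.range_asFiberHom]; exact hc)
    have h : LocallyOfFiniteType (Spec.map (f.residueFieldMap x)) := by
      rw [← f.asFiberHom_fiberToSpecResidueField]; infer_instance
    rw [HasRingHomProperty.Spec_iff (P := @LocallyOfFiniteType)] at h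
    letI := (f.residueFieldMap x).hom.toAlgebra
    haveI : Algebra.FiniteType (S.residueField (f x)) (X.residueField x) := h
    exact finite_of_finite_type_of_isJacobsonRing (S.residueField (f x)) (X.residueField x)
  · intro hfin
    haveI : LocallyOfFiniteType (f.asFiberHom x ≫ f.fiberToSpecResidueField (f x)) := by
      rw [f.asFiberHom_fiberToSpecResidueField, HasRingHomProperty.Spec_iff (P := @LocallyOfFiniteType)]
      exact RingHom.FiniteType.of_finite hfin
    haveI := locallyOfFiniteType_of_comp (f.asFiberHom x) (f.fiberToSpecResidueField (f x))
    have := (f.asFiberHom x).closePoints_subset_preimage_closedPoints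
      (IsLocalRing.isClosed_singleton_closedPoint (X.residueField x))
    rw [Set.mem_preimage, f.asFiberHom_apply] at this
    exact this

end Groth.Agent.S9332
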