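import Groth.Statements.S9333
import Groth.Agent.Lib.FibreBC.Basic
import Mathlib.AlgebraicGeometry.Morphisms.Finite
-- import your own Groth.Agent.* helpers here

set_option autoImplicit false
universe u
open QFin CategoryTheory CategoryTheory.Limits AlgebraicGeometry

namespace Groth.Agent.S9333

open AlgebraicGeometry CategoryTheory in
/-- Let f : X → S be locally of finite type, g : S' → S any morphism and X' = X ×_S S' with projections
g' : X' → X and f' : X' → S'. If x' ∈ X' maps to x ∈ X and x is closed in the fibre X_{f x}, then x'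
is closed in the fibre X'_{f' x'}. -/
theorem result {X S X' S' : Scheme.{u}} (f : X ⟶ S) [LocallyOfFiniteType f] (g : S' ⟶ S)
    (g' : X' ⟶ X) (f' : X' ⟶ S') (hsq : IsPullback g' f' f g) (x' : X')
    (hx : IsClosed ({f.asFiber (g'.base x')} : Set ↑(f.fiber (f.base (g'.base x'))))) :
    IsClosed ({f'.asFiber x'} : Set ↑(f'.fiber (f'.base x'))) := by
  obtain ⟨i, hi₁, hi⟩ := GrothLib.FibreBC.exists_isPullback_fiber hsq (f' x')
  have key : ∀ (v : S) (p : f.fiber v), f.fiberι v p = g' x' → IsClosed ({p} : Set (f.fiber v)) := by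
    intro v p hp
    obtain rfl : v = f (g' x') := by
      have hm : f.fiberι v p ∈ Set.range (f.fiberι v) := ⟨p, rfl⟩
      rw [Scheme.Hom.range_fiberι, hp] at hm
      exact hm.symm
    obtain rfl : p = f.asFiber (g' x') :=
      (f.fiberι _).isEmbedding.injective (hp.trans (f.fiberι_asFiber _).symm)
    exact hx
  set p := i (f'.asFiber x')
  have hp : IsClosed ({p} : Set _) := key _ p (by
    show f.fiberι _ (i (f'.asFiber x')) = _
    rw [← Scheme.Hom.comp_apply, hi₁, Scheme.Hom.comp_apply, Scheme.Hom.fiberι_asFiber])
  haveI : LocallyOfFiniteType (f.fiberToSpecResidueField (g (f' x'))) :=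
    MorphismProperty.pullback_snd f _ inferInstance
  haveI := isClosed_singleton_iff_isClosedImmersion.mp hp
  haveI : IsFinite ((f.fiber (g (f' x'))).fromSpecResidueField p ≫ f.fiberToSpecResidueField (g (f' x'))) :=
    (isFinite_iff_locallyOfFiniteType_of_jacobsonSpace
      (f := (f.fiber (g (f' x'))).fromSpecResidueField p ≫ f.fiberToSpecResidueField (g (f' x')))).mpr inferInstance
  let c := pullback.fst i ((f.fiber (g (f' x'))).fromSpecResidueField p)
  have hW := ((IsPullback.of_hasPullback i ((f.fiber (g (f' x'))).fromSpecResidueField p)).flip.paste_vert hi)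
  haveI : IsFinite (c ≫ f'.fiberToSpecResidueField (f' x')) :=
    MorphismProperty.of_isPullback hW inferInstance
  haveI : IsClosedImmersion c := MorphismProperty.pullback_fst _ _ inferInstance
  haveI : DiscreteTopology ↑(pullback i ((f.fiber (g (f' x'))).fromSpecResidueField p)) := by
    have h1 := (c ≫ f'.fiberToSpecResidueField (f' x')).isDiscrete_preimage_singleton (IsLocalRing.closedPoint _)
    have h2 : (c ≫ f'.fiberToSpecResidueField (f' x')) ⁻¹' {IsLocalRing.closedPoint _} = Set.univ :=
      Set.eq_univ_of_forall fun z => Subsingleton.elim (α := PrimeSpectrum (S'.residueField (f' x'))) _ _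
    replace h1 : _root_.IsDiscrete (Set.univ : Set ↑(pullback i ((f.fiber (g (f' x'))).fromSpecResidueField p))) := h2 ▸ h1
    haveI := isDiscrete_iff_discreteTopology.1 h1
    exact Homeomorph.discreteTopology (Homeomorph.Set.univ _)
  have hmem : f'.asFiber x' ∈ Set.range c := by
    rw [Scheme.Pullback.range_fst, Set.mem_preimage, Scheme.range_fromSpecResidueField]
    rfl
  obtain ⟨w, hw⟩ := hmem
  rw [← hw, ← Set.image_singleton]
  exact c.isClosedEmbedding.isClosedMap _ (isClosed_discrete _)

end Groth.Agent.S9333
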