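import Groth.Statements.S9335
import Mathlib.AlgebraicGeometry.Morphisms.QuasiFinite
import Mathlib.AlgebraicGeometry.Noetherian
import Mathlib.Topology.NoetherianSpace
-- import your own Groth.Agent.* helpers here

set_option autoImplicit false
universe u
open QFin

namespace Groth.Agent.S9335

open AlgebraicGeometry CategoryTheory in
/-- If f : X → S is of finite type and s ∈ S, then f is quasi-finite at only finitely many points of the
fibre over s. -/
theorem result {X S : Scheme.{u}} (f : X ⟶ S) [LocallyOfFiniteType f] [QuasiCompact f] (s : S) :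
    {x : ↑X | f.base x = s ∧ f.QuasiFiniteAt x}.Finite := by
  haveI : LocallyOfFiniteType (f.fiberToSpecResidueField s) := MorphismProperty.pullback_snd _ _ inferInstance
  haveI : IsLocallyNoetherian (f.fiber s) := LocallyOfFiniteType.isLocallyNoetherian (f.fiberToSpecResidueField s)
  haveI : CompactSpace ↑(f.fiber s) := QuasiCompact.compactSpace_of_compactSpace (f.fiberToSpecResidueField s)
  haveI : IsNoetherian (f.fiber s) := {}
  let O : Set ↑(f.fiber s) := {a | IsOpen ({a} : Set ↑(f.fiber s))}
  have hO : O.Finite := by
    have hc : IsCompact O := TopologicalSpace.NoetherianSpace.isCompact O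
    obtain ⟨t, ht, htf, htO⟩ := hc.elim_finite_subcover_image (b := O) (c := fun a => ({a} : Set ↑(f.fiber s)))
      (fun a ha => ha) (fun a ha => Set.mem_biUnion ha rfl)
    exact htf.subset fun a ha => by
      obtain ⟨b, hb, rfl⟩ := Set.mem_iUnion₂.1 (htO ha)
      exact hb
  refine (hO.image (f.fiberι s)).subset ?_
  rintro x ⟨rfl, hx⟩
  exact ⟨f.asFiber x, Scheme.Hom.quasiFiniteAt_iff_isOpen_singleton_asFiber.1 hx, f.fiberι_asFiber x⟩

end Groth.Agent.S9335
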