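import Groth.Statements.S9336
import Mathlib.AlgebraicGeometry.Morphisms.QuasiFinite
import Mathlib.AlgebraicGeometry.Morphisms.Finite
import Mathlib.AlgebraicGeometry.Artinian
import Mathlib.AlgebraicGeometry.Fiber
-- import your own Groth.Agent.* helpers here

set_option autoImplicit false
universe u
open QFin CategoryTheory CategoryTheory.Limits AlgebraicGeometry

namespace Groth.Agent.S9336

open AlgebraicGeometry CategoryTheory in
/-- Let f : X → Y be surjective and g : Y → S locally of finite type. If g ∘ f is locally quasi-finite
(and locally of finite type), then g is locally quasi-finite. -/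
theorem result {X Y S : Scheme.{u}} (f : X ⟶ Y) (g : Y ⟶ S) [Surjective f]
    [LocallyQuasiFinite (f ≫ g)] [LocallyOfFiniteType (f ≫ g)] [LocallyOfFiniteType g] :
    LocallyQuasiFinite g := by
  rw [locallyQuasiFinite_iff_isDiscrete_preimage_singleton]
  intro s
  let i := S.fromSpecResidueField s
  let φ : (f ≫ g).fiber s ⟶ g.fiber s := (pullbackRightPullbackFstIso g i f).inv ≫ pullback.snd f (pullback.fst g i)
  have hsurj : Function.Surjective φ := by
    have : Surjective (pullback.snd f (pullback.fst g i)) := MorphismProperty.pullback_snd _ _ inferInstance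
    exact (pullback.snd f (pullback.fst g i)).surjective.comp (pullbackRightPullbackFstIso g i f).inv.surjective
  have hφ : φ ≫ g.fiberToSpecResidueField s = (f ≫ g).fiberToSpecResidueField s := by
    simp only [φ, Category.assoc, Scheme.Hom.fiberToSpecResidueField]
    exact pullbackRightPullbackFstIso_inv_snd_snd g i f
  have : LocallyOfFiniteType (g.fiberToSpecResidueField s) := MorphismProperty.pullback_snd _ _ inferInstance
  have : LocallyOfFiniteType ((f ≫ g).fiberToSpecResidueField s) := MorphismProperty.pullback_snd _ _ inferInstance
  have : LocallyOfFiniteType (φ ≫ g.fiberToSpecResidueField s) := hφ ▸ inferInstance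
  have : LocallyOfFiniteType φ := locallyOfFiniteType_of_comp φ (g.fiberToSpecResidueField s)
  have : JacobsonSpace (g.fiber s) := LocallyOfFiniteType.jacobsonSpace (g.fiberToSpecResidueField s)
  have : DiscreteTopology ((f ≫ g).fiber s) := by
    have := isDiscrete_iff_discreteTopology.1 ((f ≫ g).isDiscrete_preimage_singleton s)
    exact Homeomorph.discreteTopology ((f ≫ g).fiberHomeo s).symm
  have : T1Space (g.fiber s) := ⟨fun y => by
    obtain ⟨x, rfl⟩ := hsurj y
    exact φ.closePoints_subset_preimage_closedPoints (isClosed_discrete {x})⟩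
  have : IsLocallyNoetherian (g.fiber s) := LocallyOfFiniteType.isLocallyNoetherian (g.fiberToSpecResidueField s)
  have : IsLocallyArtinian (g.fiber s) := IsLocallyArtinian.of_topologicalKrullDim_le_zero (by
    refine Order.krullDim_nonpos_iff_forall_isMax.2 fun Z W hZW => ?_
    obtain ⟨w, hw⟩ := QuasiSober.sober W.isIrreducible W.isClosed
    rw [IsGenericPoint, (isClosed_singleton).closure_eq] at hw
    obtain ⟨z, hz⟩ := Z.isIrreducible.nonempty
    have hz' : z ∈ (W : Set _) := hZW hz
    rw [← hw, Set.mem_singleton_iff] at hz'
    intro x hx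
    replace hx : x ∈ (W : Set _) := hx
    rw [← hw, Set.mem_singleton_iff] at hx
    rw [hx, ← hz']
    exact hz)
  exact isDiscrete_iff_discreteTopology.2 (Homeomorph.discreteTopology (g.fiberHomeo s))

end Groth.Agent.S9336
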