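import Groth.Statements.S9343
import Groth.Agent.Lib.LocNoeth.Scheme
import Mathlib.AlgebraicGeometry.PullbackCarrier

set_option autoImplicit false
universe u
open Dom

namespace Groth.Agent.S9343

open AlgebraicGeometry CategoryTheory in
/-- The base change of a quasi-compact dominant morphism f : X → S along a morphism g : S' → S along
which generalizations lift is dominant. -/
theorem result {X S X' S' : Scheme.{u}} (f : X ⟶ S) [QuasiCompact f] [IsDominant f]
    (g : S' ⟶ S) (g' : X' ⟶ X) (f' : X' ⟶ S') (hsq : IsPullback g' f' f g) (hg : GeneralizingMap g.base) :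
    IsDominant f' := by
  refine ⟨fun y => ?_⟩
  obtain ⟨η, hη, hηy⟩ := GrothLib.LocNoeth.exists_maximal_specializes y
  refine hηy.mem_closed isClosed_closure (subset_closure ?_)
  obtain ⟨σ, hσ, hσg⟩ := GrothLib.LocNoeth.exists_maximal_specializes (g.base η)
  obtain ⟨x, hx⟩ := GrothLib.LocNoeth.mem_range_of_maximal f hσ
    (by rw [f.denseRange.closure_range]; trivial)
  obtain ⟨η', hη', hgη'⟩ := hg hσg
  have h1 : η' = η := ((hη' : η' ⤳ η).antisymm (specializes_iff_closure_subset.mpr
    (hη.2 isIrreducible_singleton.closure (hη' : η' ⤳ η).closure_subset))).eq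
  obtain ⟨p, -, hp⟩ := Scheme.exists_preimage_of_isPullback hsq x η
    (by rw [← h1]; exact hx.trans hgη'.symm)
  exact ⟨p, hp⟩

end Groth.Agent.S9343
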