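import Groth.Statements.S9345
import Groth.Agent.Lib.LocNoeth.Scheme

set_option autoImplicit false
universe u
open Dom

namespace Groth.Agent.S9345

open AlgebraicGeometry CategoryTheory in
/-- For a morphism f : X → S whose source has only finitely many irreducible components, the image of f
is dense exactly when it contains the generic point of each irreducible component of S, and then S
too has finitely many. -/
theorem result {X S : Scheme.{u}} (f : X ⟶ S)
    (hX : (irreducibleComponents (↑X : Type u)).Finite) :
    (IsDominant f ↔ ∀ s : ↑S, closure {s} ∈ irreducibleComponents (↑S : Type u) → s ∈ Set.range f.base) ∧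
      (IsDominant f → (irreducibleComponents (↑S : Type u)).Finite) := by
  have hfin : (genericPoints (↑X : Type u)).Finite := genericPoints.finite hX
  have himg : ∀ [IsDominant f] (s : S), closure {s} ∈ irreducibleComponents (↑S : Type u) →
      s ∈ f.base '' genericPoints (↑X : Type u) := by
    intro _ s hs
    have h1 : Set.range f.base ⊆ ⋃ η ∈ genericPoints (↑X : Type u), closure {f.base η} := by
      rintro _ ⟨x, rfl⟩
      obtain ⟨η, hη, hηx⟩ := GrothLib.LocNoeth.exists_maximal_specializes x
      exact Set.mem_biUnion hη (hηx.map f.continuous).mem_closure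
    have h2 : s ∈ ⋃ η ∈ genericPoints (↑X : Type u), closure {f.base η} := by
      refine closure_minimal h1 (hfin.isClosed_biUnion fun _ _ => isClosed_closure) ?_
      exact f.denseRange s
    simp only [Set.mem_iUnion] at h2
    obtain ⟨η, hη, hs'⟩ := h2
    have h3 : closure {s} ⊆ closure {f.base η} := closure_minimal (by simpa using hs') isClosed_closure
    have h4 := hs.2 isIrreducible_singleton.closure h3
    exact ⟨η, hη, ((specializes_iff_closure_subset.mpr h3).antisymm
      (specializes_iff_closure_subset.mpr h4)).eq⟩
  constructor
  · constructor
    · intro _ s hs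
      obtain ⟨η, -, rfl⟩ := himg s hs
      exact ⟨η, rfl⟩
    · intro h
      refine ⟨fun y => ?_⟩
      obtain ⟨η, hη, hηy⟩ := GrothLib.LocNoeth.exists_maximal_specializes y
      exact hηy.mem_closed isClosed_closure (subset_closure (h η hη))
  · intro _
    refine ((hfin.image f.base).image (fun s => closure ({s} : Set S))).subset ?_
    intro Z hZ
    obtain ⟨s, hs⟩ := QuasiSober.sober hZ.1 (isClosed_of_mem_irreducibleComponents Z hZ)
    exact ⟨s, himg s (by rw [hs.def]; exact hZ), hs.def⟩

end Groth.Agent.S9345
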