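import Groth.Statements.S9346
import Mathlib.AlgebraicGeometry.FunctionField
import Mathlib.AlgebraicGeometry.Stalk
import Mathlib.AlgebraicGeometry.Morphisms.UnderlyingMap

set_option autoImplicit false
universe u
open Dom

namespace Groth.Agent.S9346

open AlgebraicGeometry CategoryTheory in
/-- For a morphism f : X → Y between integral schemes, these six conditions coincide: (1) f is dominant;
(2) f sends the generic point of X to that of Y; (3) there exist affine opens U ⊆ X, V ⊆ Y with U
nonempty and U ⊆ f⁻¹V such that the induced ring map on sections is injective; (4) the same for all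
such pairs; (5) for some x ∈ X the map of local rings O_{Y,f x} → O_{X,x} is injective; (6) the same
for all x. -/
theorem result {X Y : Scheme.{u}} [AlgebraicGeometry.IsIntegral X] [AlgebraicGeometry.IsIntegral Y] (f : X ⟶ Y) :
    [IsDominant f,
      f.base (genericPoint ↑X) = genericPoint ↑Y,
      ∃ (U : X.Opens) (V : Y.Opens) (hUV : U ≤ f ⁻¹ᵁ V), IsAffineOpen U ∧ IsAffineOpen V ∧ (U : Set ↑X).Nonempty ∧
        Function.Injective (f.appLE V U hUV),
      ∀ (U : X.Opens) (V : Y.Opens) (hUV : U ≤ f ⁻¹ᵁ V), IsAffineOpen U → IsAffineOpen V → (U : Set ↑X).Nonempty →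
        Function.Injective (f.appLE V U hUV),
      ∃ x : ↑X, Function.Injective (f.stalkMap x),
      ∀ x : ↑X, Function.Injective (f.stalkMap x)].TFAE := by
  set ξ := genericPoint (↑X : Type u) with hξ
  set η := genericPoint (↑Y : Type u) with hη
  tfae_have 1 → 2 := by
    intro h
    have h1 : closure ({f.base ξ} : Set Y) = Set.univ := by
      apply Set.eq_univ_of_univ_subset
      rw [← f.denseRange.closure_range]
      refine closure_minimal ?_ isClosed_closure
      rintro _ ⟨x, rfl⟩
      exact ((genericPoint_specializes x).map f.continuous).mem_closure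
    exact IsGenericPoint.eq h1 (genericPoint_spec (↑Y : Type u))
  tfae_have 2 → 1 := fun h => ⟨fun y =>
    (genericPoint_specializes y).mem_closed isClosed_closure (subset_closure ⟨ξ, h⟩)⟩
  tfae_have 2 → 4 := by
    intro h U V hUV hU hV hne
    have hξU : ξ ∈ U := ((genericPoint_spec (↑X : Type u)).mem_open_set_iff U.isOpen).mpr (by simpa using hne)
    rw [injective_iff_map_eq_zero]
    intro s hs
    have hηV : η ∈ V := by rw [← h]; exact hUV hξU
    have h1 := congrArg (X.presheaf.germ U ξ hξU) hs
    rw [map_zero, Scheme.Hom.appLE, CommRingCat.comp_apply, X.presheaf.germ_res_apply,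
      ← Scheme.Hom.germ_stalkMap_apply f V ξ (hUV hξU)] at h1
    have hinj : Function.Injective (f.stalkMap ξ) := by
      have : IsField (Y.presheaf.stalk (f.base ξ)) := by
        rw [h]; exact Field.toIsField Y.functionField
      let := this.toField
      exact RingHom.injective (f.stalkMap ξ).hom
    rw [map_eq_zero_iff _ hinj] at h1
    exact germ_injective_of_isIntegral Y (f.base ξ) (hUV hξU) (h1.trans (map_zero _).symm)
  tfae_have 4 → 3 := by
    intro h
    obtain ⟨_, ⟨V, hV, rfl⟩, hyV, -⟩ :=
      Y.isBasis_affineOpens.exists_subset_of_mem_open (Set.mem_univ (f.base ξ)) isOpen_univ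
    obtain ⟨_, ⟨U, hU, rfl⟩, hxU, hUV⟩ :=
      X.isBasis_affineOpens.exists_subset_of_mem_open (show ξ ∈ f ⁻¹ᵁ V from hyV) (f ⁻¹ᵁ V).isOpen
    exact ⟨U, V, hUV, hU, hV, ⟨ξ, hxU⟩, h U V hUV hU hV ⟨ξ, hxU⟩⟩
  tfae_have 3 → 2 := by
    rintro ⟨U, V, hUV, hU, hV, hne, hinj⟩
    by_contra hne'
    have hξU : ξ ∈ U := ((genericPoint_spec (↑X : Type u)).mem_open_set_iff U.isOpen).mpr (by simpa using hne)
    have hyV : f.base ξ ∈ V := hUV hξU
    have : Nonempty V := ⟨⟨_, hyV⟩⟩
    have hp : (hV.primeIdealOf ⟨f.base ξ, hyV⟩).asIdeal ≠ ⊥ := by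
      intro hbot
      apply hne'
      have hq := hV.primeIdealOf_genericPoint
      have : hV.primeIdealOf ⟨f.base ξ, hyV⟩ = hV.primeIdealOf
          ⟨η, ((genericPoint_spec (↑Y : Type u)).mem_open_set_iff V.isOpen).mpr
            (by simpa using (inferInstance : Nonempty V))⟩ := by
        rw [hq]
        apply PrimeSpectrum.ext
        rw [hbot, genericPoint_eq_bot_of_affine]
        rfl
      have h2 := congrArg hV.fromSpec this
      rwa [hV.fromSpec_primeIdealOf, hV.fromSpec_primeIdealOf] at h2
    obtain ⟨s, hs, hs0⟩ := Submodule.exists_mem_ne_zero_of_ne_bot hp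
    apply hs0
    refine hinj ?_
    rw [map_zero, ← basicOpen_eq_bot_iff]
    by_contra hb
    obtain ⟨z, hz⟩ := TopologicalSpace.Opens.ne_bot_iff_nonempty _ |>.mp hb
    have hξb : ξ ∈ X.basicOpen (f.appLE V U hUV s) :=
      ((genericPoint_spec (↑X : Type u)).mem_open_set_iff (X.basicOpen _).isOpen).mpr ⟨z, trivial, hz⟩
    rw [Scheme.basicOpen_appLE] at hξb
    have hyb : f.base ξ ∈ Y.basicOpen s := hξb.2
    have h3 : hV.primeIdealOf ⟨f.base ξ, hyV⟩ ∈ PrimeSpectrum.basicOpen s := by
      rw [← hV.fromSpec_preimage_basicOpen s]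
      show hV.fromSpec _ ∈ Y.basicOpen s
      rw [hV.fromSpec_primeIdealOf]; exact hyb
    exact h3 hs
  tfae_have 2 → 6 := by
    intro h x
    have hx : ξ ⤳ x := genericPoint_specializes x
    rw [injective_iff_map_eq_zero]
    intro a ha
    obtain ⟨V, hV, s, rfl⟩ := Y.presheaf.exists_germ_eq a
    rw [Scheme.Hom.germ_stalkMap_apply] at ha
    have h1 : f.app V s = 0 := germ_injective_of_isIntegral _ _ _ (ha.trans (map_zero _).symm)
    have hξV : f.base ξ ∈ V := (hx.map f.continuous).mem_open V.isOpen hV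
    have h2 := congrArg (X.presheaf.germ (f ⁻¹ᵁ V) ξ hξV) h1
    rw [map_zero, ← Scheme.Hom.germ_stalkMap_apply] at h2
    have hinj : Function.Injective (f.stalkMap ξ) := by
      have : IsField (Y.presheaf.stalk (f.base ξ)) := by
        rw [h]; exact Field.toIsField Y.functionField
      let := this.toField
      exact RingHom.injective (f.stalkMap ξ).hom
    rw [map_eq_zero_iff _ hinj] at h2
    have h3 : s = 0 := germ_injective_of_isIntegral _ _ hξV (h2.trans (map_zero _).symm)
    rw [h3, map_zero]
  tfae_have 6 → 5 := fun h => ⟨ξ, h ξ⟩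
  tfae_have 5 → 2 := by
    rintro ⟨x, hx⟩
    let bX : ↥(Spec (X.presheaf.stalk x)) := (⊥ : PrimeSpectrum (X.presheaf.stalk x))
    let bY : ↥(Spec (Y.presheaf.stalk (f.base x))) := (⊥ : PrimeSpectrum (Y.presheaf.stalk (f.base x)))
    have hspec : Spec.map (f.stalkMap x) bX = bY := by
      apply PrimeSpectrum.ext
      show Ideal.comap (f.stalkMap x).hom ⊥ = ⊥
      exact Ideal.comap_bot_of_injective _ hx
    have hz : f.base (X.fromSpecStalk x bX) = Y.fromSpecStalk (f.base x) bY := by
      rw [← Scheme.Hom.comp_apply, ← Scheme.SpecMap_stalkMap_fromSpecStalk, Scheme.Hom.comp_apply,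
        hspec]
    have hy : Y.fromSpecStalk (f.base x) bY ⤳ η := by
      obtain ⟨q, hq⟩ : η ∈ Set.range (Y.fromSpecStalk (f.base x)) := by
        rw [Scheme.range_fromSpecStalk]; exact genericPoint_specializes _
      rw [← hq]
      exact ((PrimeSpectrum.le_iff_specializes (⊥ : PrimeSpectrum (Y.presheaf.stalk (f.base x))) q).mp bot_le).map (Y.fromSpecStalk _).continuous
    have h1 : f.base ξ ⤳ η := by
      refine Specializes.trans ?_ (hz ▸ hy)
      exact (genericPoint_specializes _).map f.continuous
    exact (h1.antisymm (genericPoint_specializes _)).eq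
  tfae_finish

end Groth.Agent.S9346
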