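import Groth.Statements.S9348
import Mathlib.AlgebraicGeometry.PullbackCarrier
import Mathlib.AlgebraicGeometry.Morphisms.QuasiCompact

set_option autoImplicit false
universe u
open Dom

namespace Groth.Agent.S9348

open AlgebraicGeometry CategoryTheory in
/-- Let f : X → Y be a morphism and g : Y' → Y open and surjective. If the base change f' : X ×_Y Y' →
Y' of f is quasi-compact, then so is f. -/
theorem result {X Y X' Y' : Scheme.{u}} (f : X ⟶ Y) (g : Y' ⟶ Y) [Surjective g]
    (hg : IsOpenMap g.base) (g' : X' ⟶ X) (f' : X' ⟶ Y') (hsq : IsPullback g' f' f g) [QuasiCompact f'] :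
    QuasiCompact f := by
  rw [quasiCompact_iff]
  intro U hUo hU
  let B := {V : Y'.Opens | IsAffineOpen V ∧ (V : Set Y') ⊆ g.base ⁻¹' U}
  obtain ⟨t, ht⟩ := hU.elim_finite_subcover (fun V : B => g.base '' (V.1 : Set Y'))
    (fun V => hg _ V.1.isOpen) (fun y hy => by
      obtain ⟨y', rfl⟩ := g.surjective y
      obtain ⟨_, ⟨V, hV, rfl⟩, hyV, hVU⟩ := Y'.isBasis_affineOpens.exists_subset_of_mem_open
        (show y' ∈ g.base ⁻¹' U from hy) (hUo.preimage g.continuous)
      exact Set.mem_iUnion.mpr ⟨⟨V, hV, hVU⟩, y', hyV, rfl⟩)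
  have hc : IsCompact (g'.base '' (f'.base ⁻¹' ⋃ V ∈ t, (V.1 : Set Y'))) := by
    refine IsCompact.image ((f'.isCompact_preimage (U := ⨆ V ∈ t, V.1) ?_) |> fun h => by simpa using h) g'.continuous
    · simp only [TopologicalSpace.Opens.coe_iSup]
      exact t.isCompact_biUnion fun V _ => V.2.1.isCompact
  convert hc using 1
  ext x
  constructor
  · intro hx
    obtain ⟨V, hVt, y', hy', hgy⟩ := Set.mem_iUnion₂.mp (ht hx)
    obtain ⟨p, hp1, hp2⟩ := Scheme.exists_preimage_of_isPullback hsq x y' hgy.symm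
    exact ⟨p, by simp only [Set.mem_preimage, hp2, Set.mem_iUnion]; exact ⟨V, hVt, hy'⟩, hp1⟩
  · rintro ⟨p, hp, rfl⟩
    obtain ⟨V, hVt, hV⟩ := Set.mem_iUnion₂.mp hp
    show f.base (g'.base p) ∈ U
    rw [show f.base (g'.base p) = g.base (f'.base p) by rw [← Scheme.Hom.comp_apply, hsq.w]; rfl]
    exact V.2.2 hV

end Groth.Agent.S9348
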