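import Groth.Statements.S9349
import Groth.Agent.Lib.BCCoh.Flat
import Groth.Agent.Lib.QCoh.Qcqs

set_option autoImplicit false
universe u
open FlatMod

namespace Groth.Agent.S9349

open AlgebraicGeometry CategoryTheory in
/-- Let f : X → Y be an affine morphism of S-schemes, with q : Y → S, and F a quasi-coherent O_X-module.
Flatness of F over S (along f ≫ q) is equivalent to flatness of f_*F over S (along q). -/
theorem result {X Y S : Scheme.{u}} (f : X ⟶ Y) [IsAffineHom f] (q : Y ⟶ S)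
    (F : X.Modules) (hF : Coh.IsQCoh F) :
    FlatMod.IsFlatOver (f ≫ q) F ↔ FlatMod.IsFlatOver q ((Coh.push f).obj F) := by
  haveI : F.IsQuasicoherent := hF
  haveI : ((Coh.push f).obj F).IsQuasicoherent := GrothLib.QCoh.isQuasicoherent_pushforward f F
  have key : ∀ (W : S.Opens) (V : Y.Opens) (e : V ≤ q ⁻¹ᵁ W),
      (letI : Module Γ(S, W) Γ(F, f ⁻¹ᵁ V) :=
        Module.compHom _ ((f ≫ q).appLE W (f ⁻¹ᵁ V) (fun y hy => e hy)).hom
      Module.Flat Γ(S, W) Γ(F, f ⁻¹ᵁ V)) ↔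
      (letI : Module Γ(S, W) Γ((Coh.push f).obj F, V) := Module.compHom _ (q.appLE W V e).hom
      Module.Flat Γ(S, W) Γ((Coh.push f).obj F, V)) := by
    intro W V e
    letI i1 : Module Γ(S, W) Γ(F, f ⁻¹ᵁ V) :=
      Module.compHom _ ((f ≫ q).appLE W (f ⁻¹ᵁ V) (fun y hy => e hy)).hom
    letI i2 : Module Γ(S, W) Γ((Coh.push f).obj F, V) := Module.compHom _ (q.appLE W V e).hom
    have heq : (f ≫ q).appLE W (f ⁻¹ᵁ V) (fun y hy => e hy) = q.appLE W V e ≫ f.app V := by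
      rw [Scheme.Hom.app_eq_appLE, Scheme.Hom.appLE_comp_appLE]
    have E : Γ(F, f ⁻¹ᵁ V) ≃ₗ[Γ(S, W)] Γ((Coh.push f).obj F, V) :=
      { toFun := fun x => x
        invFun := fun x => x
        map_add' := fun _ _ => rfl
        left_inv := fun _ => rfl
        right_inv := fun _ => rfl
        map_smul' := fun r x => by
          show ((f ≫ q).appLE W (f ⁻¹ᵁ V) _).hom r • x = (f.app V).hom ((q.appLE W V e).hom r) • x
          rw [heq]
          rfl }
    exact ⟨fun h => Module.Flat.of_linearEquiv E.symm, fun h => Module.Flat.of_linearEquiv E⟩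
  constructor
  · intro h
    refine GrothLib.BCCoh.isFlatOver_of_flat_sections q _ fun V W e hV hW => ?_
    exact (key W V e).1 (GrothLib.BCCoh.flat_sections (f ≫ q) F h (hV.preimage f) hW fun y hy => e hy)
  · intro h x
    obtain ⟨W, hW, hxW, -⟩ := exists_isAffineOpen_mem_and_subset
      (show q.base (f.base x) ∈ (⊤ : S.Opens) from trivial)
    obtain ⟨V, hV, hxV, e⟩ := exists_isAffineOpen_mem_and_subset (show f.base x ∈ q ⁻¹ᵁ W from hxW)
    have eU : f ⁻¹ᵁ V ≤ (f ≫ q) ⁻¹ᵁ W := fun y hy => e hy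
    letI : Algebra Γ(S, W) Γ(X, f ⁻¹ᵁ V) := ((f ≫ q).appLE W (f ⁻¹ᵁ V) eU).hom.toAlgebra
    letI : Module Γ(S, W) Γ(F, f ⁻¹ᵁ V) := Module.compHom _ ((f ≫ q).appLE W (f ⁻¹ᵁ V) eU).hom
    haveI : IsScalarTower Γ(S, W) Γ(X, f ⁻¹ᵁ V) Γ(F, f ⁻¹ᵁ V) :=
      IsScalarTower.of_algebraMap_smul fun _ _ => rfl
    haveI : Module.Flat Γ(S, W) Γ(F, f ⁻¹ᵁ V) :=
      (key W V e).2 (GrothLib.BCCoh.flat_sections q _ h hV hW e)
    rw [GrothLib.FlatFP.isFlatOverAt_iff (f ≫ q) F hW (hV.preimage f) eU hxV rfl]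
    exact GrothLib.FlatModel.flat_localizedModule _

end Groth.Agent.S9349
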