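import Groth.Statements.S9350
import Groth.Agent.Lib.FunFlat6.Point
-- import your own Groth.Agent.* helpers here

set_option autoImplicit false
universe u
open FlatMod

namespace Groth.Agent.S9350

open AlgebraicGeometry CategoryTheory in
/-- Let h : X → Y be a morphism of S-schemes, q : Y → S, G a quasi-coherent O_Y-module and x ∈ X with h
flat at x. Flatness of G over S at h x is equivalent to flatness of h^*G over S at x. -/
theorem result {X Y S : Scheme.{u}} (h : X ⟶ Y) (q : Y ⟶ S)
    (G : Y.Modules) (hG : Coh.IsQCoh G) (x : X) (hflat : (h.stalkMap x).hom.Flat) :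
    FlatMod.IsFlatOverAt q G (h.base x) ↔ FlatMod.IsFlatOverAt (h ≫ q) ((Scheme.Modules.pullback h).obj G) x := by
  exact (GrothLib.FunFlat6.isFlatOverAt_comp_pullback_iff' h q G x hflat).symm

end Groth.Agent.S9350
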