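import Groth.Statements.S9353
import Groth.Agent.Lib.BCCoh.Flat

set_option autoImplicit false
universe u
open FlatMod

namespace Groth.Agent.S9353

open AlgebraicGeometry CategoryTheory Opposite in
/-- Let f : X → S be a morphism of schemes and let F be an O_X-module that is quasi-coherent. Flatness
of F over S is equivalent to the following: for all affine opens U ⊆ X and V ⊆ S with U ⊆ f⁻¹V the
module F(U) is flat over O_S(V). -/
theorem result {X S : Scheme.{u}} (f : X ⟶ S) (F : X.Modules) (hF : Coh.IsQCoh F) :
    FlatMod.IsFlatOver f F ↔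
      ∀ (U : X.Opens) (V : S.Opens) (hUV : U ≤ f ⁻¹ᵁ V), IsAffineOpen U → IsAffineOpen V →
        @Module.Flat Γ(S, V) (F.val.obj (op U)) _ _ (Module.compHom (F.val.obj (op U)) (f.appLE V U hUV).hom) := by
  haveI : F.IsQuasicoherent := hF
  exact ⟨fun h U V e hU hV => GrothLib.BCCoh.flat_sections f F h hU hV e,
    fun h => GrothLib.BCCoh.isFlatOver_of_flat_sections f F h⟩

end Groth.Agent.S9353
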