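import Groth.Statements.S9360
import Groth.Agent.Lib.SchDense6.Basic
-- import your own Groth.Agent.* helpers here

set_option autoImplicit false
universe u
open SchDense

namespace Groth.Agent.S9360

open AlgebraicGeometry CategoryTheory in
/-- Let U ⊆ X be a reduced open subscheme. Then the scheme-theoretic closure of U in X is X if and only
if U is scheme-theoretically dense in X (for every open W the scheme-theoretic closure of U ∩ W in W
is W); and in that case X is reduced. -/
theorem result (X : Scheme.{u}) (U : X.Opens) [IsReduced (↑U : Scheme.{u})] :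
    (IsSchemeTheoreticallyDominant U.ι ↔
        ∀ W : X.Opens, IsSchemeTheoreticallyDominant (X.homOfLE (inf_le_right : U ⊓ W ≤ W))) ∧
      (IsSchemeTheoreticallyDominant U.ι → IsReduced X) := by
  have h0 : IsSchemeTheoreticallyDominant U.ι → IsReduced X := fun _ => SchDense6.isReduced_of_std U.ι
  refine ⟨⟨fun hd W => ?_, SchDense6.std_ι_of_forall U⟩, h0⟩
  haveI := h0 hd
  refine SchDense6.std_homOfLE_of_dense U W ?_
  have := SchDense6.denseRange_of_std U.ι
  rwa [DenseRange, Scheme.Opens.range_ι] at this

end Groth.Agent.S9360
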