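import Groth.Statements.S9361
import Mathlib.AlgebraicGeometry.Morphisms.ClosedImmersion
import Mathlib.AlgebraicGeometry.Morphisms.SchemeTheoreticallyDominant
import Mathlib.AlgebraicGeometry.Morphisms.Separated

set_option autoImplicit false
universe u
open SchImage

namespace Groth.Agent.S9361

open AlgebraicGeometry CategoryTheory in
/-- Let f : X → Y be separated, V ⊆ Y a retrocompact open and s : V → X a section of f over V. If Y' ⊆ X
is the scheme-theoretic image of s, then Y' → Y is an isomorphism over V. -/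
theorem result {X Y : Scheme.{u}} (f : X ⟶ Y) [IsSeparated f] (V : Y.Opens) [QuasiCompact V.ι]
    (s : (↑V : Scheme.{u}) ⟶ X) (hs : s ≫ f = V.ι) :
    IsIso ((s.imageι ≫ f) ∣_ V) := by
  have : QuasiCompact (s ≫ f) := by rw [hs]; infer_instance
  have : QuasiCompact s := QuasiCompact.of_comp s f
  set q := s.imageι ≫ f with hq
  have htq : s.toImage ≫ q = V.ι := by rw [hq, ← Category.assoc, Scheme.Hom.toImage_imageι, hs]
  have hker : s.toImage.ker = ⊥ := by
    rw [← le_bot_iff]
    apply Scheme.IdealSheafData.le_of_iSup_eq_top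
      (fun U : X.affineOpens => (⟨_, U.2.preimage s.imageι⟩ : s.image.affineOpens))
    · refine eq_top_iff.mpr fun x _ => ?_
      obtain ⟨_, ⟨U, hU, rfl⟩, hxU, -⟩ :=
        X.isBasis_affineOpens.exists_subset_of_mem_open (Set.mem_univ (s.imageι x)) isOpen_univ
      exact TopologicalSpace.Opens.mem_iSup.mpr ⟨⟨U, hU⟩, hxU⟩
    · intro U z hz
      rw [Scheme.Hom.ker_apply, RingHom.mem_ker] at hz
      simpa using (map_eq_zero_iff _ (s.toImage_app_injective U)).mp hz
  have : IsSeparated q := by rw [hq]; infer_instance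
  have h0 : V.ι ⁻¹ᵁ V = ⊤ := TopologicalSpace.Opens.ext (Set.eq_univ_of_forall fun x => x.2)
  have h1 : IsIso ((s.toImage ≫ q) ∣_ V) := by
    rw [htq]
    have e : V.ι ∣_ V = (V.ι ⁻¹ᵁ V).ι := by rw [← cancel_mono V.ι, morphismRestrict_ι]
    rw [e, h0]
    exact inferInstanceAs (IsIso (Scheme.topIso (V : Scheme)).hom)
  rw [morphismRestrict_comp] at h1
  have h2 : IsIso ((s.toImage ∣_ q ⁻¹ᵁ V) ≫ q ∣_ V) := h1
  have hc : IsClosedImmersion ((s.toImage ∣_ q ⁻¹ᵁ V) ≫ q ∣_ V) := inferInstance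
  have : IsSeparated (q ∣_ V) := MorphismProperty.of_isPullback (isPullback_morphismRestrict q V).flip ‹_›
  have : IsClosedImmersion (s.toImage ∣_ q ⁻¹ᵁ V) := IsClosedImmersion.of_comp _ (q ∣_ V)
  have hk : (s.toImage ∣_ q ⁻¹ᵁ V).ker = ⊥ := by
    ext W : 2
    rw [Scheme.ker_morphismRestrict_ideal, hker]
    simp
    rfl
  have := (IsClosedImmersion.isIso_iff_ker_eq_bot).mpr hk
  exact IsIso.of_isIso_comp_left (s.toImage ∣_ q ⁻¹ᵁ V) (q ∣_ V)

end Groth.Agent.S9361
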