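import Groth.Statements.S9362
import Groth.Agent.Lib.IdealMul9.MaxQcoh

set_option autoImplicit false
universe u
open QCohSub

namespace Groth.Agent.S9362

open AlgebraicGeometry CategoryTheory in
/-- Let F be a quasi-coherent O_X-module and G ⊆ F an O_X-submodule. There is a quasi-coherent submodule
G' ⊆ G such that Hom(H, G') → Hom(H, G) is bijective for every quasi-coherent O_X-module H; in
particular G' is the largest quasi-coherent submodule of F contained in G (it is unique up to unique
isomorphism over G). -/
theorem result (X : Scheme.{u}) (F G : X.Modules) (hF : Coh.IsQCoh F) (j : G ⟶ F) [Mono j] :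
    ∃ (G' : X.Modules) (k : G' ⟶ G), Coh.IsQCoh G' ∧ Mono k ∧
      ∀ H : X.Modules, Coh.IsQCoh H → Function.Bijective (fun φ : H ⟶ G' => φ ≫ k) := by
  haveI : F.IsQuasicoherent := hF
  exact GrothLib.IdealMul9.exists_largest_qcoh j

end Groth.Agent.S9362
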