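import Groth.Statements.S9364
import Groth.Agent.Lib.RelGCIReg.Scheme

set_option autoImplicit false
universe u
open Synt

namespace Groth.Agent.S9364


open AlgebraicGeometry CategoryTheory

theorem result {X S : Scheme.{u}} (f : X ⟶ S) (x : X) (V : S.affineOpens)
    (hV : f.base x ∈ V.1) :
    Synt.IsSyntomicAt f x ↔
      ∃ (U : X.affineOpens) (e : U.1 ≤ f ⁻¹ᵁ V.1), x ∈ U.1 ∧ Synt.IsStandardSyntomic (f.resLE V.1 U.1 e) :=
  ⟨fun h => GrothLib.RelGCIReg.exists_standard_nhd f x h V.2 hV,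
    fun ⟨U, e, hx, h⟩ => GrothLib.RelGCIReg.isSyntomicAt_of_isStandardSyntomic f U.2 V.2 e h x hx⟩

end Groth.Agent.S9364
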