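import Groth.Statements.S9365
import Groth.Agent.S9758
import Groth.Agent.Lib.LCI6.Koszul
import Groth.Agent.Lib.LCI6.LocusBaseChange

set_option autoImplicit false
universe u
open Synt

namespace Groth.Agent.S9365


open AlgebraicGeometry CategoryTheory

theorem result {X S : Scheme.{u}} (f : X ⟶ S) [Flat f] [LocallyOfFinitePresentation f]
    (hfib : ∀ s : S, Synt.IsSyntomicMor (f.fiberToSpecResidueField s)) :
    Synt.IsSyntomicMor f := by
  refine (Groth.Agent.S9758.result f).1 ⟨inferInstance, fun x => ?_⟩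
  refine (GrothLib.LCI6.isKoszulAt_iff_inLocus f x).2 ?_
  let s := f x
  let h := S.fromSpecResidueField s
  let f' := f.fiberToSpecResidueField s
  have h' := (GrothLib.LCI6.isKoszulAt_iff_inLocus f' (f.asFiber x)).1
    (((Groth.Agent.S9758.result f').2 (hfib s)).2 (f.asFiber x))
  haveI : Flat (f ≫ 𝟙 S) := by rw [Category.comp_id]; infer_instance
  haveI : LocallyOfFinitePresentation (f ≫ 𝟙 S) := by rw [Category.comp_id]; infer_instance
  have hX : IsPullback (f.fiberι s) f' f h := IsPullback.of_hasPullback _ _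
  have := (GrothLib.LCI6.inLocus_baseChange f (𝟙 S) h h (𝟙 _) (IsPullback.of_vert_isIso ⟨by simp⟩)
    (f.fiberι s) f' (by simpa using hX) hX.w (f.asFiber x)).1 h'
  rwa [f.fiberι_asFiber] at this

end Groth.Agent.S9365
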