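import Groth.Statements.S9368
import Groth.Agent.Lib.CIField.FiniteType
import Groth.Agent.Lib.RelGCIReg.Scheme

set_option autoImplicit false
universe u
open Synt

namespace Groth.Agent.S9368


open AlgebraicGeometry CategoryTheory

theorem isGlobalCI_of_algEquiv {k A B : Type u} [Field k] [CommRing A] [CommRing B] [Algebra k A] [Algebra k B]
    (e : A ≃ₐ[k] B) (h : Synt.IsGlobalCI k A) : Synt.IsGlobalCI k B := by
  rcases h with h | ⟨n, c, hc, φ, r, hφ, hker, hdim⟩
  · exact Or.inl e.symm.toEquiv.subsingleton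
  · refine Or.inr ⟨n, c, hc, e.toAlgHom.comp φ, r, e.surjective.comp hφ, ?_, ?_⟩
    · rw [← hker]
      ext x
      show e (φ x) = 0 ↔ φ x = 0
      exact EmbeddingLike.map_eq_zero_iff
    · rw [← hdim, ringKrullDim_eq_of_ringEquiv e.toRingEquiv]

/-- The structure map of an open piece over a field. -/
noncomputable def kMap (k : Type u) [Field k] {X : Scheme.{u}} (p : X ⟶ Spec (CommRingCat.of k)) (U : X.Opens) :
    CommRingCat.of k ⟶ Γ(X, U) :=
  (Scheme.ΓSpecIso (CommRingCat.of k)).inv ≫ p.appLE ⊤ U le_top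

theorem kMap_stalk (k : Type u) [Field k] {X : Scheme.{u}} (p : X ⟶ Spec (CommRingCat.of k)) (U : X.Opens) (x : X)
    (hx : x ∈ U) :
    (Scheme.ΓSpecIso (CommRingCat.of k)).inv ≫ p.appLE ⊤ ⊤ le_top ≫ X.presheaf.germ ⊤ x trivial =
      kMap k p U ≫ X.presheaf.germ U x hx := by
  rw [kMap, Category.assoc, ← Scheme.Hom.appLE_map p (V := ⊤) le_top (homOfLE (le_top : U ≤ ⊤)).op, Category.assoc,
    TopCat.Presheaf.germ_res]

theorem stalk_ci_iff (k : Type u) [Field k] {X : Scheme.{u}} (p : X ⟶ Spec (CommRingCat.of k)) {U : X.Opens}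
    (hU : IsAffineOpen U) (x : X) (hx : x ∈ U) :
    (letI := ((Scheme.ΓSpecIso (CommRingCat.of k)).inv ≫ p.appLE ⊤ ⊤ le_top ≫
        X.presheaf.germ ⊤ x trivial).hom.toAlgebra;
      Synt.IsCIOver k (X.presheaf.stalk x)) ↔
    (letI := (kMap k p U).hom.toAlgebra;
      Synt.IsCIOver k (Localization.AtPrime (hU.primeIdealOf ⟨x, hx⟩).asIdeal)) := by
  letI := (kMap k p U).hom.toAlgebra
  letI algL := X.presheaf.algebra_section_stalk ⟨x, hx⟩
  haveI := hU.isLocalization_stalk ⟨x, hx⟩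
  letI : Algebra k (X.presheaf.stalk x) := ((Scheme.ΓSpecIso (CommRingCat.of k)).inv ≫ p.appLE ⊤ ⊤ le_top ≫
    X.presheaf.germ ⊤ x trivial).hom.toAlgebra
  haveI : IsScalarTower k Γ(X, U) (X.presheaf.stalk x) := IsScalarTower.of_algebraMap_eq' (by
    show _ = (X.presheaf.germ U x hx).hom.comp (kMap k p U).hom
    rw [← CommRingCat.hom_comp, ← kMap_stalk]
    rfl)
  let e := (IsLocalization.algEquiv (hU.primeIdealOf ⟨x, hx⟩).asIdeal.primeCompl (X.presheaf.stalk x)
    (Localization.AtPrime (hU.primeIdealOf ⟨x, hx⟩).asIdeal)).restrictScalars k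
  exact ⟨GrothLib.CIField.isCIOver_of_algEquiv e, GrothLib.CIField.isCIOver_of_algEquiv e.symm⟩

theorem result (k : Type u) [Field k] (X : Scheme.{u}) (p : X ⟶ Spec (CommRingCat.of k)) [LocallyOfFiniteType p] :
    [Synt.IsSyntomicMor p,
      ∀ x : ↑X, ∃ U : X.affineOpens, x ∈ U.1 ∧
        letI := ((Scheme.ΓSpecIso (CommRingCat.of k)).inv ≫ p.appLE ⊤ U.1 le_top).hom.toAlgebra
        Synt.IsGlobalCI k Γ(X, U.1),
      ∀ x : ↑X,
        letI := ((Scheme.ΓSpecIso (CommRingCat.of k)).inv ≫ p.appLE ⊤ ⊤ le_top ≫ X.presheaf.germ ⊤ x trivial).hom.toAlgebra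
        Synt.IsCIOver k (X.presheaf.stalk x)].TFAE := by
  have hft : ∀ U : X.affineOpens, (kMap k p U.1).hom.FiniteType := fun U => by
    rw [kMap, CommRingCat.hom_comp]
    exact RingHom.FiniteType.comp
      (HasRingHomProperty.appLE @LocallyOfFiniteType p inferInstance ⟨⊤, isAffineOpen_top _⟩ U le_top)
      (RingHom.FiniteType.of_surjective _
        (ConcreteCategory.bijective_of_isIso (Scheme.ΓSpecIso (CommRingCat.of k)).inv).2)
  tfae_have 1 → 3 := by
    intro h x
    obtain ⟨U, V, e, hx, hs⟩ := h x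
    have hV : V.1 = ⊤ := by
      ext y
      exact ⟨fun _ => trivial, fun _ => Subsingleton.elim (α := PrimeSpectrum k) (p x) y ▸ e hx⟩
    obtain ⟨V, hVaff⟩ := V
    subst hV
    refine (stalk_ci_iff k p U.2 x hx).mpr ?_
    letI := (kMap k p U.1).hom.toAlgebra
    refine GrothLib.CIField.isCIOver_atPrime_of_isLCIOver (GrothLib.LCI6.isLCIOver_iff_isLCI.mpr ?_) _
    have hk : GrothLib.RelGCIReg.SyntHom (kMap k p U.1).hom := by
      rw [kMap, CommRingCat.hom_comp]
      exact GrothLib.RelGCIReg.syntHom_comp _ _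
        (GrothLib.RelGCIReg.syntHom_of_bijective _
          (ConcreteCategory.bijective_of_isIso (Scheme.ΓSpecIso (CommRingCat.of k)).inv)) hs
    exact (GrothLib.LCI6.isSyntomic_iff.mp hk).2
  tfae_have 3 → 2 := by
    intro h x
    obtain ⟨U, hU, hx, -⟩ := GrothLib.LCI6.exists_affine_le (x := x) (O := ⊤) trivial
    letI := (kMap k p U).hom.toAlgebra
    haveI : Algebra.FiniteType k Γ(X, U) := hft ⟨U, hU⟩
    obtain ⟨g, hg, hG⟩ := GrothLib.CIField.exists_isGlobalCI_away (k := k) _ ((stalk_ci_iff k p hU x hx).mp (h x))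
    refine ⟨⟨X.basicOpen g, hU.basicOpen g⟩, (GrothLib.LCI6.mem_basicOpen_iff_notMem hU hx g).mpr hg, ?_⟩
    haveI := hU.isLocalization_basicOpen g
    letI : Algebra k Γ(X, X.basicOpen g) := (kMap k p (X.basicOpen g)).hom.toAlgebra
    haveI : IsScalarTower k Γ(X, U) Γ(X, X.basicOpen g) := IsScalarTower.of_algebraMap_eq' (by
      show _ = (X.presheaf.map (homOfLE (X.basicOpen_le g)).op).hom.comp (kMap k p U).hom
      rw [← CommRingCat.hom_comp, kMap, Category.assoc, Scheme.Hom.appLE_map]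
      rfl)
    exact isGlobalCI_of_algEquiv
      ((IsLocalization.algEquiv (Submonoid.powers g) (Localization.Away g) Γ(X, X.basicOpen g)).restrictScalars k) hG
  tfae_have 2 → 1 := by
    intro h x
    obtain ⟨U, hx, hG⟩ := h x
    refine ⟨U, ⟨⊤, isAffineOpen_top _⟩, le_top, hx, ?_⟩
    letI := (kMap k p U.1).hom.toAlgebra
    haveI : Algebra.FiniteType k Γ(X, U.1) := hft U
    have hk : GrothLib.RelGCIReg.SyntHom (kMap k p U.1).hom :=
      GrothLib.LCI6.isSyntomic_iff.mpr ⟨inferInstance, GrothLib.LCI6.isLCI_of_isGlobalCI hG⟩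
    show GrothLib.RelGCIReg.SyntHom (p.appLE ⊤ U.1 le_top).hom
    have heq : p.appLE ⊤ U.1 le_top = (Scheme.ΓSpecIso (CommRingCat.of k)).hom ≫ kMap k p U.1 := by
      rw [kMap, Iso.hom_inv_id_assoc]
    rw [heq, CommRingCat.hom_comp]
    exact GrothLib.RelGCIReg.syntHom_comp _ _
      (GrothLib.RelGCIReg.syntHom_of_bijective _
        (ConcreteCategory.bijective_of_isIso (Scheme.ΓSpecIso (CommRingCat.of k)).hom)) hk
  tfae_finish

end Groth.Agent.S9368
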