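import Groth.Statements.S9379
import Groth.Agent.Lib.CIField.Scheme
import Groth.Agent.Lib.LCI6.LocusBaseChange
import Groth.Agent.Lib.FibreBC.Basic
import Groth.Agent.Lib.AlgSp.FieldBase
import Groth.Agent.Lib.DimCut.StalkFibre
import Mathlib.AlgebraicGeometry.Noetherian

set_option autoImplicit false
universe u
open Synt

namespace Groth.Agent.S9379


open AlgebraicGeometry CategoryTheory

theorem lfp_fiber {X S : Scheme.{u}} (f : X ⟶ S) [LocallyOfFiniteType f] (s : S) :
    LocallyOfFinitePresentation (f.fiberToSpecResidueField s) := by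
  haveI : LocallyOfFiniteType (f.fiberToSpecResidueField s) :=
    MorphismProperty.pullback_snd (P := @LocallyOfFiniteType) _ _ inferInstance
  exact LocallyOfFinitePresentation.iff_locallyOfFiniteType.mpr inferInstance

theorem inLocus_congr {X S : Scheme.{u}} (f : X ⟶ S) {s : S} (z : f.fiber s) {x : X} (hz : f.fiberι s z = x) :
    GrothLib.LCI6.InLocus (f.fiberToSpecResidueField s) z ↔
      GrothLib.LCI6.InLocus (f.fiberToSpecResidueField (f x)) (f.asFiber x) := by
  obtain rfl : f x = s := hz ▸ GrothLib.DimCut.apply_fiberι f s z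
  rw [GrothLib.DimCut.eq_asFiber f x z hz]

theorem ci_iff_inLocus {X S : Scheme.{u}} (f : X ⟶ S) [LocallyOfFiniteType f] (x : X) :
    (letI := ((Scheme.ΓSpecIso (S.residueField (f.base x))).inv ≫
        (f.fiberToSpecResidueField (f.base x)).appLE ⊤ ⊤ le_top ≫
          (f.fiber (f.base x)).presheaf.germ ⊤ (f.asFiber x) trivial).hom.toAlgebra;
      Synt.IsCIOver (S.residueField (f.base x)) ((f.fiber (f.base x)).presheaf.stalk (f.asFiber x))) ↔
      GrothLib.LCI6.InLocus (f.fiberToSpecResidueField (f.base x)) (f.asFiber x) := by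
  haveI : LocallyOfFiniteType (f.fiberToSpecResidueField (f.base x)) :=
    MorphismProperty.pullback_snd (P := @LocallyOfFiniteType) _ _ inferInstance
  exact GrothLib.CIField.stalk_ci_iff_inLocus (S.residueField (f.base x)) _ _

theorem result {X S X' S' : Scheme.{u}} (f : X ⟶ S) [LocallyOfFiniteType f] (g : S' ⟶ S)
    (g' : X' ⟶ X) (f' : X' ⟶ S') (hsq : IsPullback g' f' f g) :
    {x' : ↑X' |
        letI := ((Scheme.ΓSpecIso (S'.residueField (f'.base x'))).inv ≫
            (f'.fiberToSpecResidueField (f'.base x')).appLE ⊤ ⊤ le_top ≫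
              (f'.fiber (f'.base x')).presheaf.germ ⊤ (f'.asFiber x') trivial).hom.toAlgebra
        Synt.IsCIOver (S'.residueField (f'.base x')) ((f'.fiber (f'.base x')).presheaf.stalk (f'.asFiber x'))} =
      g'.base ⁻¹' {x : ↑X |
        letI := ((Scheme.ΓSpecIso (S.residueField (f.base x))).inv ≫
            (f.fiberToSpecResidueField (f.base x)).appLE ⊤ ⊤ le_top ≫
              (f.fiber (f.base x)).presheaf.germ ⊤ (f.asFiber x) trivial).hom.toAlgebra
        Synt.IsCIOver (S.residueField (f.base x)) ((f.fiber (f.base x)).presheaf.stalk (f.asFiber x))} := by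
  haveI : LocallyOfFiniteType f' := MorphismProperty.of_isPullback (P := @LocallyOfFiniteType) hsq ‹_›
  ext x'
  refine (ci_iff_inLocus f' x').trans (Iff.trans ?_ (ci_iff_inLocus f (g' x')).symm)
  obtain ⟨i, hi, hi'⟩ := GrothLib.FibreBC.exists_isPullback_fiber hsq (f' x')
  have hz : f.fiberι (g (f' x')) (i (f'.asFiber x')) = g' x' := by
    rw [← Scheme.Hom.comp_apply, hi, Scheme.Hom.comp_apply, f'.fiberι_asFiber]
  rw [← inLocus_congr f (i (f'.asFiber x')) hz]
  let s := g (f' x')
  let p := f.fiberToSpecResidueField s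
  haveI : LocallyOfFinitePresentation p := lfp_fiber f s
  haveI : Flat p := GrothLib.AlgSp.flat_to_field (k := S.residueField s) _
  haveI : Flat (p ≫ 𝟙 _) := by rw [Category.comp_id]; infer_instance
  haveI : LocallyOfFinitePresentation (p ≫ 𝟙 _) := by rw [Category.comp_id]; infer_instance
  exact GrothLib.LCI6.inLocus_baseChange p (𝟙 _) (Spec.map (g.residueFieldMap (f' x')))
    (Spec.map (g.residueFieldMap (f' x'))) (𝟙 _) (IsPullback.of_vert_isIso ⟨by simp⟩)
    i (f'.fiberToSpecResidueField (f' x')) (by simpa using hi') hi'.w (f'.asFiber x')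

end Groth.Agent.S9379
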