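import Groth.Statements.S9381
import Groth.Agent.Lib.Equidim6.RelDim
import Groth.Agent.Lib.CycFlat.Fibre
-- import your own Groth.Agent.* helpers here

set_option autoImplicit false
universe u
open FibDim

namespace Groth.Agent.S9381

open AlgebraicGeometry CategoryTheory in
/-- Let f : X → S be locally of finite type and x ⤳ x' a nontrivial specialization of points of X in the
same fibre (f x = f x'). Then trdeg_{κ(f x)} κ(x) > trdeg_{κ(f x')} κ(x'). -/
theorem result {X S : Scheme.{u}} (f : X ⟶ S) [LocallyOfFiniteType f] (x x' : X)
    (hsp : x ⤳ x') (hne : x ≠ x') (hfx : f.base x = f.base x') :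
    @Algebra.trdeg (S.residueField (f.base x')) (X.residueField x') _ _ (f.residueFieldMap x').hom.toAlgebra <
      @Algebra.trdeg (S.residueField (f.base x)) (X.residueField x) _ _ (f.residueFieldMap x).hom.toAlgebra := by
  obtain ⟨a, ha, ha'⟩ := GrothLib.Altitude.exists_trdeg_eq_dim_closure f x
  obtain ⟨b, hb, hb'⟩ := GrothLib.Altitude.exists_trdeg_eq_dim_closure f x'
  rw [ha, hb]
  have key : ∀ (v : S) (z : f.fiber v), f.fiberι v z = x → v = f x' →
      topologicalKrullDim (closure {f.asFiber x'} : Set (f.fiber (f x'))) < topologicalKrullDim (closure {z} : Set (f.fiber v)) := by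
    rintro v z hz rfl
    haveI : LocallyOfFiniteType (f.fiberToSpecResidueField (f x')) := MorphismProperty.pullback_snd f _ inferInstance
    refine GrothLib.Equidim6.ptDim_lt_of_specializes (K := S.residueField (f x')) (f.fiberToSpecResidueField (f x')) ?_ ?_
    · refine (f.fiberι (f x')).isEmbedding.isInducing.specializes_iff.1 ?_
      rw [hz, f.fiberι_asFiber]
      exact hsp
    · intro e
      exact hne (by rw [← hz, e, f.fiberι_asFiber])
  have h := key _ (f.asFiber x) (f.fiberι_asFiber x) hfx
  rw [ha', hb'] at h
  exact_mod_cast h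

end Groth.Agent.S9381
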