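import Groth.Statements.S9382
-- import your own Groth.Agent.* helpers here

set_option autoImplicit false
universe u
open QCohSub

namespace Groth.Agent.S9382

open AlgebraicGeometry CategoryTheory in
/-- For closed subschemes Z, Y ⊆ X with ideal sheaves I, J, the scheme-theoretic intersection (ideal
sheaf I ⊔ J) together with its inclusions into Z and Y forms a cartesian square over X. -/
theorem result (X : Scheme.{u}) (I J : X.IdealSheafData) :
    IsPullback (Scheme.IdealSheafData.inclusion (le_sup_left : I ≤ I ⊔ J))
      (Scheme.IdealSheafData.inclusion (le_sup_right : J ≤ I ⊔ J)) I.subschemeι J.subschemeι := by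
  let K := I ⊔ J
  refine ⟨⟨by simp⟩, ⟨Limits.PullbackCone.IsLimit.mk _
    (fun s => IsClosedImmersion.lift K.subschemeι (s.fst ≫ I.subschemeι) ?_) ?_ ?_ ?_⟩⟩
  · rw [K.ker_subschemeι]
    refine sup_le ?_ ?_
    · exact le_of_eq_of_le I.ker_subschemeι.symm (Scheme.Hom.le_ker_comp _ _)
    · rw [s.condition]
      exact le_of_eq_of_le J.ker_subschemeι.symm (Scheme.Hom.le_ker_comp _ _)
  · intro s
    rw [← cancel_mono I.subschemeι, Category.assoc, Scheme.IdealSheafData.inclusion_subschemeι,
      IsClosedImmersion.lift_fac]
  · intro s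
    rw [← cancel_mono J.subschemeι, Category.assoc, Scheme.IdealSheafData.inclusion_subschemeι,
      IsClosedImmersion.lift_fac, s.condition]
  · intro s m h₁ h₂
    rw [← cancel_mono K.subschemeι, IsClosedImmersion.lift_fac, ← h₁, Category.assoc,
      Scheme.IdealSheafData.inclusion_subschemeι]

end Groth.Agent.S9382
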