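import Groth.Statements.S9383
import Groth.Agent.Lib.Misc6.AffinePushout

set_option autoImplicit false
universe u
open QCohSub

namespace Groth.Agent.S9383

open AlgebraicGeometry CategoryTheory Limits in
theorem fibreSquare_quotient {A : Type u} [CommRing A] {I J K L : Ideal A} (hK : K = I ⊓ J) (hL : L = I ⊔ J)
    (hI : K ≤ I) (hJ : K ≤ J) (hI' : I ≤ L) (hJ' : J ≤ L) :
    GrothLib.Misc6.FibreSquare (Ideal.Quotient.factor hJ) (Ideal.Quotient.factor hI)
      (Ideal.Quotient.factor hJ') (Ideal.Quotient.factor hI') := by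
  subst hK hL
  refine ⟨?_, ?_, ?_, Ideal.Quotient.factor_surjective hI'⟩
  · exact Ideal.Quotient.ringHom_ext (RingHom.ext fun _ => rfl)
  · intro x h1 h2
    obtain ⟨x, rfl⟩ := Ideal.Quotient.mk_surjective x
    rw [Ideal.Quotient.factor_mk, Ideal.Quotient.eq_zero_iff_mem] at h1 h2
    exact Ideal.Quotient.eq_zero_iff_mem.2 ⟨h2, h1⟩
  · intro b a h
    obtain ⟨b, rfl⟩ := Ideal.Quotient.mk_surjective b
    obtain ⟨a, rfl⟩ := Ideal.Quotient.mk_surjective a
    rw [Ideal.Quotient.factor_mk, Ideal.Quotient.factor_mk, Ideal.Quotient.eq] at h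
    obtain ⟨y, hy, z, hz, hyz⟩ := Submodule.mem_sup.1 h
    refine ⟨Ideal.Quotient.mk _ (b - z), ?_, ?_⟩
    · rw [Ideal.Quotient.factor_mk, Ideal.Quotient.eq]
      simpa using neg_mem hz
    · rw [Ideal.Quotient.factor_mk, Ideal.Quotient.eq]
      rwa [show b - z - a = y by linear_combination -hyz]

open AlgebraicGeometry CategoryTheory Limits in
theorem map_cover {S : Scheme.{u}} (K : S.IdealSheafData) {U V : S.affineOpens} (h : U ≤ V) :
    K.glueDataObjMap h ≫ K.subschemeCover.f V = K.subschemeCover.f U := by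
  refine (cancel_mono K.subschemeι).1 ((Category.assoc _ _ _).trans ?_)
  refine ((congrArg (K.glueDataObjMap h ≫ ·) (K.subschemeCover_map_subschemeι V)).trans ?_).trans
    (K.subschemeCover_map_subschemeι U).symm
  rw [Scheme.IdealSheafData.glueDataObjMap_glueDataObjι_assoc, Scheme.homOfLE_ι]

open AlgebraicGeometry CategoryTheory Limits Scheme.IdealSheafData in
/-- For closed subschemes X, Y ⊆ S with ideal sheaves I, J, the scheme-theoretic union (ideal sheaf I ⊓
J) is the pushout, in the category of schemes, of X and Y along the scheme-theoretic intersection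
(ideal sheaf I ⊔ J). The exact sequence 0 → O_{X∪Y} → O_X × O_Y → O_{X∩Y} → 0 is not stated. -/
theorem result (S : Scheme.{u}) (I J : S.IdealSheafData) :
    IsPushout (Scheme.IdealSheafData.inclusion (le_sup_left : I ≤ I ⊔ J))
      (Scheme.IdealSheafData.inclusion (le_sup_right : J ≤ I ⊔ J))
      (Scheme.IdealSheafData.inclusion (inf_le_left : I ⊓ J ≤ I))
      (Scheme.IdealSheafData.inclusion (inf_le_right : I ⊓ J ≤ J)) := by
  let K := I ⊓ J
  let hI : K ≤ I := inf_le_left
  let hJ : K ≤ J := inf_le_right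
  let hI' : I ≤ I ⊔ J := le_sup_left
  let hJ' : J ≤ I ⊔ J := le_sup_right
  have hw : inclusion hI' ≫ inclusion hI = inclusion hJ' ≫ inclusion hJ := by
    rw [← cancel_mono K.subschemeι]; simp
  have haff : ∀ U : S.affineOpens, IsPushout (glueDataObjHom hI' U) (glueDataObjHom hJ' U)
      (glueDataObjHom hI U) (glueDataObjHom hJ U) := fun U =>
    GrothLib.Misc6.isPushout_spec (fibreSquare_quotient (I := I.ideal U) (J := J.ideal U) rfl rfl (hI U) (hJ U) (hI' U) (hJ' U))
  have huniq : ∀ {T : Scheme.{u}} (m m' : K.subscheme ⟶ T),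
      inclusion hI ≫ m = inclusion hI ≫ m' → inclusion hJ ≫ m = inclusion hJ ≫ m' → m = m' := by
    intro T m m' h1 h2
    refine K.subschemeCover.openCover.hom_ext _ _ fun U => ?_
    refine (haff U).hom_ext ?_ ?_
    · exact (subSchemeCover_map_inclusion_assoc hI U m).symm.trans
        ((congrArg (I.subschemeCover.f U ≫ ·) h1).trans (subSchemeCover_map_inclusion_assoc hI U m'))
    · exact (subSchemeCover_map_inclusion_assoc hJ U m).symm.trans
        ((congrArg (J.subschemeCover.f U ≫ ·) h2).trans (subSchemeCover_map_inclusion_assoc hJ U m'))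
  suffices key : ∀ {T : Scheme.{u}} (a : I.subscheme ⟶ T) (b : J.subscheme ⟶ T),
      inclusion hI' ≫ a = inclusion hJ' ≫ b → ∃ l, inclusion hI ≫ l = a ∧ inclusion hJ ≫ l = b by
    exact IsPushout.of_isColimit (Limits.PushoutCocone.IsColimit.mk hw
      (fun c => (key c.inl c.inr c.condition).choose)
      (fun c => (key c.inl c.inr c.condition).choose_spec.1)
      (fun c => (key c.inl c.inr c.condition).choose_spec.2)
      fun c m h1 h2 => huniq _ _ (h1.trans (key c.inl c.inr c.condition).choose_spec.1.symm)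
        (h2.trans (key c.inl c.inr c.condition).choose_spec.2.symm))
  intro T a b hab
  have hc : ∀ U : S.affineOpens, ∃ l : K.glueDataObj U ⟶ T,
      glueDataObjHom hI U ≫ l = I.subschemeCover.f U ≫ a ∧
      glueDataObjHom hJ U ≫ l = J.subschemeCover.f U ≫ b := fun U =>
    (haff U).exists_desc (I.subschemeCover.f U ≫ a) (J.subschemeCover.f U ≫ b)
      ((subSchemeCover_map_inclusion_assoc hI' U a).symm.trans
        ((congrArg ((I ⊔ J).subschemeCover.f U ≫ ·) hab).trans (subSchemeCover_map_inclusion_assoc hJ' U b)))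
  choose l hlI hlJ using hc
  have hnat : ∀ (L : S.IdealSheafData) (h : K ≤ L) {U V : S.affineOpens} (hUV : U ≤ V),
      glueDataObjHom h U ≫ K.glueDataObjMap hUV = L.glueDataObjMap hUV ≫ glueDataObjHom h V := by
    intro L h U V hUV
    rw [← cancel_mono (K.glueDataObjι V)]
    simp
  have hres : ∀ {U V : S.affineOpens} (hUV : U ≤ V), K.glueDataObjMap hUV ≫ l V = l U := by
    intro U V hUV
    refine (haff U).hom_ext ?_ ?_
    · rw [← Category.assoc, hnat I hI hUV, Category.assoc, hlI]
      exact ((Category.assoc _ _ _).symm.trans (congrArg (· ≫ a) (map_cover I hUV))).trans (hlI U).symm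
    · rw [← Category.assoc, hnat J hJ hUV, Category.assoc, hlJ]
      exact ((Category.assoc _ _ _).symm.trans (congrArg (· ≫ b) (map_cover J hUV))).trans (hlJ U).symm
  have hov : ∀ U V : S.affineOpens,
      pullback.fst (K.subschemeCover.f U) (K.subschemeCover.f V) ≫ l U =
        pullback.snd (K.subschemeCover.f U) (K.subschemeCover.f V) ≫ l V := by
    intro U V
    let P := pullback (K.subschemeCover.f U) (K.subschemeCover.f V)
    let g : P ⟶ K.subscheme := pullback.fst _ _ ≫ K.subschemeCover.f U
    have hmem : ∀ z : P, K.subschemeι (g z) ∈ U.1 ∧ K.subschemeι (g z) ∈ V.1 := by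
      intro z
      constructor
      · exact (K.opensRange_subschemeCover_map U).le ⟨(pullback.fst (K.subschemeCover.f U) (K.subschemeCover.f V)) z, rfl⟩
      · have hg : g = pullback.snd _ _ ≫ K.subschemeCover.f V := pullback.condition
        rw [hg]
        exact (K.opensRange_subschemeCover_map V).le ⟨(pullback.snd (K.subschemeCover.f U) (K.subschemeCover.f V)) z, rfl⟩
    choose W hW hzW hWUV using fun z : P =>
      exists_isAffineOpen_mem_and_subset (X := S) (x := K.subschemeι (g z)) (U := U.1 ⊓ V.1) (hmem z)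
    let W' : P → S.affineOpens := fun z => ⟨W z, hW z⟩
    have hU' : ∀ z, W' z ≤ U := fun z => (hWUV z).trans inf_le_left
    have hV' : ∀ z, W' z ≤ V := fun z => (hWUV z).trans inf_le_right
    let k : ∀ z : P, K.glueDataObj (W' z) ⟶ P := fun z =>
      pullback.lift (K.glueDataObjMap (hU' z)) (K.glueDataObjMap (hV' z)) ((map_cover K (hU' z)).trans (map_cover K (hV' z)).symm)
    have hkg : ∀ z, k z ≫ g = K.subschemeCover.f (W' z) := fun z => by
      exact ((Category.assoc _ _ _).symm.trans (congrArg (· ≫ K.subschemeCover.f U)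
        (pullback.lift_fst _ _ _))).trans (map_cover K (hU' z))
    have : ∀ z, IsOpenImmersion (k z) := fun z => by
      have : IsOpenImmersion (k z ≫ g) := by rw [hkg]; exact K.subschemeCover.openCover.map_prop _
      exact IsOpenImmersion.of_comp (k z) g
    let 𝒲 : P.OpenCover := Scheme.openCoverOfIsOpenCover _ (fun z => (k z).opensRange) (by
      refine eq_top_iff.2 fun z _ => TopologicalSpace.Opens.mem_iSup.2 ⟨z, ?_⟩
      have h1 : g z ∈ (K.subschemeCover.f (W' z)).opensRange :=
        (K.opensRange_subschemeCover_map (W' z)).ge (hzW z)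
      obtain ⟨y, hy⟩ := h1
      refine ⟨y, g.isOpenEmbedding.injective ?_⟩
      rw [← Scheme.Hom.comp_apply, hkg]
      exact hy)
    refine 𝒲.hom_ext _ _ fun z => ?_
    show (k z).opensRange.ι ≫ _ = (k z).opensRange.ι ≫ _
    rw [← cancel_epi (k z).isoOpensRange.hom, Scheme.Hom.isoOpensRange_hom_ι_assoc,
      Scheme.Hom.isoOpensRange_hom_ι_assoc, pullback.lift_fst_assoc, pullback.lift_snd_assoc]
    exact (hres (hU' z)).trans (hres (hV' z)).symm
  let L : K.subscheme ⟶ T := K.subschemeCover.openCover.glueMorphisms l hov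
  have hL : ∀ U, K.subschemeCover.f U ≫ L = l U := fun U =>
    Scheme.Cover.ι_glueMorphisms K.subschemeCover.openCover l hov U
  refine ⟨L, I.subschemeCover.openCover.hom_ext _ _ fun U => ?_, J.subschemeCover.openCover.hom_ext _ _ fun U => ?_⟩
  · exact (subSchemeCover_map_inclusion_assoc hI U L).trans ((congrArg (_ ≫ ·) (hL U)).trans (hlI U))
  · exact (subSchemeCover_map_inclusion_assoc hJ U L).trans ((congrArg (_ ≫ ·) (hL U)).trans (hlJ U))

end Groth.Agent.S9383
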