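import Groth.Statements.S9388
import Groth.Agent.Lib.OmegaLocal4.Affine
import Mathlib

set_option autoImplicit false
universe u
open OmegaSh

namespace Groth.Agent.S9388

open AlgebraicGeometry CategoryTheory in
/-- For f : X → S locally of finite presentation, every receptacle Ω of a universal S-derivation of O_X
is a finitely presented O_X-module. -/
theorem result {X S : Scheme.{u}} (f : X ⟶ S) [LocallyOfFinitePresentation f]
    (Ω : X.Modules) (d : OmegaSh.Der f Ω) (hd : OmegaSh.IsUniversal d) : CohB1.IsFP Ω := by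
  haveI := GrothLib.OmegaLocal4.isQuasicoherent hd
  have hc : ∀ x : X, ∃ (U : X.Opens) (V : S.Opens), IsAffineOpen U ∧ IsAffineOpen V ∧ x ∈ U ∧ U ≤ f ⁻¹ᵁ V := by
    intro x
    obtain ⟨V, hV, hxV, -⟩ := exists_isAffineOpen_mem_and_subset (x := f.base x) (U := ⊤) trivial
    obtain ⟨U, hU, hxU, hUV⟩ := exists_isAffineOpen_mem_and_subset (x := x) (U := f ⁻¹ᵁ V) hxV
    exact ⟨U, V, hU, hV, hxU, hUV⟩
  choose U V hU hV hxU hUV using hc
  have hcov : TopologicalSpace.IsOpenCover U :=
    TopologicalSpace.IsOpenCover.mk (eq_top_iff.mpr fun x _ => TopologicalSpace.Opens.mem_iSup.mpr ⟨x, hxU x⟩)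
  refine GrothLib.FlatFP.isFP_of_sections Ω U hcov hU fun x => ?_
  letI := (f.appLE (V x) (U x) (hUV x)).hom.toAlgebra
  haveI : Algebra.FinitePresentation Γ(S, V x) Γ(X, U x) :=
    HasRingHomProperty.appLE @LocallyOfFinitePresentation f inferInstance ⟨V x, hV x⟩ ⟨U x, hU x⟩ (hUV x)
  obtain ⟨e⟩ := GrothLib.OmegaLocal4.nonempty_sections hd (hU x) (hV x) (hUV x)
  exact Module.FinitePresentation.of_equiv e.symm

end Groth.Agent.S9388
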