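import Groth.Statements.S9395
import Groth.Agent.Lib.N2.UnivJap
-- import your own Groth.Agent.* helpers here

set_option autoImplicit false
universe u
open CAlg

namespace Groth.Agent.S9395

/-- For a Noetherian domain R, if the Laurent polynomial ring R[X, 1/X] (the localization of R[X] away
from X) is N-1, then R is N-1. -/
theorem result (R : Type u) [CommRing R] [IsDomain R] [IsNoetherianRing R]
    (S : Type u) [CommRing S] [IsDomain S] [Algebra (Polynomial R) S]
    [IsLocalization.Away (Polynomial.X : Polynomial R) S] (h : CAlg.IsN1 S) : CAlg.IsN1 R := by
  exact GrothLib.N2.isN1_of_isN1_laurent S h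

end Groth.Agent.S9395
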