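import Groth.Statements.S9401
import Groth.Agent.Lib.RedSmooth.Basic
import Groth.Agent.Lib.N2.Completion
import Groth.Agent.Lib.N2.FiniteType
import Groth.Agent.Lib.Hensel.Noetherian
import Mathlib.RingTheory.Flat.FaithfullyFlat.Algebra
import Mathlib.RingTheory.Smooth.Flat
import Mathlib.RingTheory.TensorProduct.Maps


set_option autoImplicit false
universe u
open CAlg

namespace Groth.Agent.S9401

open scoped TensorProduct

/-- The Nagata property descends along smooth ring maps that are surjective on spectra. -/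
theorem result (R : Type u) [CommRing R] (S : Type u)
    [CommRing S] [Algebra R S] [Algebra.Smooth R S]
    (hs : Function.Surjective (PrimeSpectrum.comap (algebraMap R S))) (hS : CAlg.IsNagata S) :
    CAlg.IsNagata R := by
  haveI : Module.FaithfullyFlat R S := Module.FaithfullyFlat.of_comap_surjective hs
  haveI := hS.1
  haveI : IsNoetherianRing R := GrothLib.Hensel.isNoetherianRing_of_faithfullyFlat R S
  refine ⟨inferInstance, fun p _ L _ _ _ _ hfin => ?_⟩
  haveI := hfin
  have hB : CAlg.IsNagata ((R ⧸ p) ⊗[R] S) :=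
    GrothLib.N2.isNagata_of_surjective
      (Algebra.TensorProduct.includeRight : S →ₐ[R] (R ⧸ p) ⊗[R] S).toRingHom
      (fun z => by
        induction z using TensorProduct.induction_on with
        | zero => exact ⟨0, map_zero _⟩
        | add a b ha hb =>
          obtain ⟨a', rfl⟩ := ha
          obtain ⟨b', rfl⟩ := hb
          exact ⟨a' + b', map_add _ _ _⟩
        | tmul d s =>
          obtain ⟨r, rfl⟩ := Ideal.Quotient.mk_surjective d
          refine ⟨r • s, ?_⟩
          show (1 : R ⧸ p) ⊗ₜ[R] (r • s) = _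
          rw [TensorProduct.tmul_smul, TensorProduct.smul_tmul', Algebra.smul_def, mul_one]
          rfl) hS
  haveI : Module.FaithfullyFlat (R ⧸ p) ((R ⧸ p) ⊗[R] S) := inferInstance
  haveI : Algebra.EssFiniteType (R ⧸ p) (FractionRing (R ⧸ p)) :=
    Algebra.EssFiniteType.of_isLocalization _ (nonZeroDivisors (R ⧸ p))
  haveI : Algebra.EssFiniteType (R ⧸ p) L := Algebra.EssFiniteType.comp _ (FractionRing (R ⧸ p)) L
  haveI hred := GrothLib.RedSmooth.isReduced_of_algebra_smooth L (L ⊗[R ⧸ p] ((R ⧸ p) ⊗[R] S))
  haveI : IsReduced (((R ⧸ p) ⊗[R] S) ⊗[R ⧸ p] L) :=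
    isReduced_of_injective (Algebra.TensorProduct.comm (R ⧸ p) _ L)
      (Algebra.TensorProduct.comm (R ⧸ p) _ L).injective
  exact GrothLib.N2.finite_integralClosure_of_faithfullyFlat hB

end Groth.Agent.S9401
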