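import Groth.Statements.S9403
import Mathlib
-- import your own Groth.Agent.* helpers here

set_option autoImplicit false
universe u
open CAlg

namespace Groth.Agent.S9403

/-- Let R → S be a ring map with S a Noetherian local ring which is an algebra over the rationals, and f
∈ S such that some S-linear form on the module of differentials of S over R sends df to 1 (df spans
a free direct summand of rank one). Then f is a nonzerodivisor of S. (The published statement asks
only that S·df be a direct summand of the module of differentials, which also holds for the
rationals with a square-zero element adjoined, where f is a zero divisor; this row asks for an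
S-linear form on the differentials sending df to 1, as the published proof uses.) -/
theorem result (R : Type u) [CommRing R]
    (S : Type u) [CommRing S] [IsLocalRing S] [IsNoetherianRing S] [Algebra R S] [Algebra ℚ S]
    (f : S) (θ : Ω[S⁄R] →ₗ[S] S) (hθ : θ (KaehlerDifferential.D R S f) = 1) : f ∈ nonZeroDivisors S := by
  classical
  have key : ∀ (n : ℕ) (g : S), f ^ n * g = 0 → f ∣ g := by
    intro n
    induction n with
    | zero => intro g hg; simp at hg; simp [hg]
    | succ n ih =>
      intro g hg
      have h1 := congrArg (fun x => θ (KaehlerDifferential.D R S x)) hg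
      simp only [Derivation.leibniz, Derivation.leibniz_pow, map_add, map_smul, map_zero, map_nsmul,
        hθ, smul_eq_mul, Nat.add_sub_cancel] at h1
      have h2 : f ^ n * (((n + 1 : ℕ) : S) * g + f * θ (KaehlerDifferential.D R S g)) = 0 := by
        rw [nsmul_eq_mul] at h1
        linear_combination h1
      obtain ⟨c, hc⟩ := ih _ h2
      have hu : IsUnit ((n + 1 : ℕ) : S) := by
        have h0 : ((n + 1 : ℕ) : ℚ) ≠ 0 := by exact_mod_cast Nat.succ_ne_zero n
        have := (isUnit_iff_ne_zero.mpr h0).map (algebraMap ℚ S)
        rwa [map_natCast] at this
      refine (hu.dvd_mul_left).mp ⟨c - θ (KaehlerDifferential.D R S g), ?_⟩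
      linear_combination hc
  rw [mem_nonZeroDivisors_iff_right]
  intro g hg
  by_cases hf : IsUnit f
  · exact hf.mul_left_eq_zero.mp hg
  have h3 : ∀ k, f ^ k ∣ g := by
    intro k
    induction k with
    | zero => simp
    | succ k ih =>
      obtain ⟨c, rfl⟩ := ih
      obtain ⟨d, rfl⟩ := key (k + 1) c (by linear_combination hg)
      exact ⟨d, by ring⟩
  have h4 : g ∈ ⨅ k : ℕ, Ideal.span {f} ^ k := by
    rw [Submodule.mem_iInf]
    intro k
    rw [Ideal.span_singleton_pow, Ideal.mem_span_singleton]
    exact h3 k
  rwa [Ideal.iInf_pow_eq_bot_of_isLocalRing (Ideal.span {f})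
    (by rwa [Ne, Ideal.span_singleton_eq_top]), Ideal.mem_bot] at h4

end Groth.Agent.S9403
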