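import Groth.Statements.S9404
import Mathlib
-- import your own Groth.Agent.* helpers here

set_option autoImplicit false
universe u
open CAlg

namespace Groth.Agent.S9404

open TensorProduct in
/-- For local homomorphisms of local rings A → B and A → C with A → C integral, if the residue field of
C or that of B is purely inseparable over the residue field of A, then B ⊗_A C is local and both
structure maps into it are local. -/
theorem result (A : Type u) [CommRing A]
    [IsLocalRing A] (B : Type u) [CommRing B] [IsLocalRing B] [Algebra A B]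
    [IsLocalHom (algebraMap A B)] (C : Type u) [CommRing C] [IsLocalRing C] [Algebra A C]
    [IsLocalHom (algebraMap A C)] [Algebra.IsIntegral A C]
    (h : IsPurelyInseparable (IsLocalRing.ResidueField A) (IsLocalRing.ResidueField C) ∨
      IsPurelyInseparable (IsLocalRing.ResidueField A) (IsLocalRing.ResidueField B)) :
    IsLocalRing (B ⊗[A] C) ∧
      IsLocalHom (Algebra.TensorProduct.includeLeft : B →ₐ[A] B ⊗[A] C).toRingHom ∧
      IsLocalHom (Algebra.TensorProduct.includeRight : C →ₐ[A] B ⊗[A] C).toRingHom := by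
  classical
  set kA := IsLocalRing.ResidueField A
  set kB := IsLocalRing.ResidueField B
  set kC := IsLocalRing.ResidueField C
  have hsub : Subsingleton (PrimeSpectrum (kB ⊗[kA] kC)) := by
    rcases h with h | h
    · exact ((PrimeSpectrum.isHomeomorph_comap_of_isPurelyInseparable kA kC kB).bijective.1).subsingleton
    · haveI := ((PrimeSpectrum.isHomeomorph_comap_of_isPurelyInseparable kA kB kC).bijective.1).subsingleton
      exact (PrimeSpectrum.comapEquiv
        (Algebra.TensorProduct.comm kA kC kB).toRingEquiv).symm.injective.subsingleton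
  let ι₁ : B →ₐ[A] kB ⊗[kA] kC :=
    ((Algebra.TensorProduct.includeLeft : kB →ₐ[kA] kB ⊗[kA] kC).restrictScalars A).comp
      (IsScalarTower.toAlgHom A B kB)
  let ι₂ : C →ₐ[A] kB ⊗[kA] kC :=
    ((Algebra.TensorProduct.includeRight : kC →ₐ[kA] kB ⊗[kA] kC).restrictScalars A).comp
      (IsScalarTower.toAlgHom A C kC)
  let φ : B ⊗[A] C →ₐ[A] kB ⊗[kA] kC := Algebra.TensorProduct.lift ι₁ ι₂ fun _ _ => Commute.all _ _
  haveI : Nontrivial (B ⊗[A] C) := φ.toRingHom.domain_nontrivial
  have hcont : ∀ M : Ideal (B ⊗[A] C), M.IsMaximal →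
      M.comap (Algebra.TensorProduct.includeLeft : B →ₐ[A] B ⊗[A] C).toRingHom = IsLocalRing.maximalIdeal B ∧
      M.comap (Algebra.TensorProduct.includeRight : C →ₐ[A] B ⊗[A] C).toRingHom = IsLocalRing.maximalIdeal C := by
    intro M hM
    haveI : Algebra.IsIntegral B (B ⊗[A] C) := inferInstance
    have h1 : (M.comap (algebraMap B (B ⊗[A] C))).IsMaximal :=
      Ideal.isMaximal_comap_of_isIntegral_of_isMaximal M
    have h1' := IsLocalRing.eq_maximalIdeal h1
    refine ⟨h1', IsLocalRing.eq_maximalIdeal ?_⟩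
    refine Ideal.isMaximal_of_isIntegral_of_isMaximal_comap (R := A) _ ?_
    have h2 : (M.comap (Algebra.TensorProduct.includeRight : C →ₐ[A] B ⊗[A] C).toRingHom).comap
        (algebraMap A C) = (M.comap (algebraMap B (B ⊗[A] C))).comap (algebraMap A B) := by
      rw [Ideal.comap_comap, Ideal.comap_comap]
      congr 1
      ext a
      show (Algebra.TensorProduct.includeRight : C →ₐ[A] B ⊗[A] C) (algebraMap A C a) = _
      rw [AlgHom.commutes, IsScalarTower.algebraMap_apply A B (B ⊗[A] C)]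
      rfl
    have h5 : (IsLocalRing.maximalIdeal B).comap (algebraMap A B) = IsLocalRing.maximalIdeal A :=
      ((IsLocalRing.local_hom_TFAE (algebraMap A B)).out (l := [_, _, _, _, _]) 0 4 : IsLocalHom (algebraMap A B) ↔ _).mp inferInstance
    rw [h2, h1', h5]
    infer_instance
  have hfac : ∀ M : Ideal (B ⊗[A] C), M.IsMaximal →
      ∃ P : PrimeSpectrum (kB ⊗[kA] kC), M = P.asIdeal.comap φ.toRingHom := by
    intro M hM
    obtain ⟨hB, hC⟩ := hcont M hM
    let gB : kB →+* (B ⊗[A] C) ⧸ M := Ideal.Quotient.lift (IsLocalRing.maximalIdeal B)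
      ((Ideal.Quotient.mk M).comp (Algebra.TensorProduct.includeLeft : B →ₐ[A] B ⊗[A] C).toRingHom)
      (fun b hb => by
        rw [← hB] at hb
        exact Ideal.Quotient.eq_zero_iff_mem.mpr hb)
    let gC : kC →+* (B ⊗[A] C) ⧸ M := Ideal.Quotient.lift (IsLocalRing.maximalIdeal C)
      ((Ideal.Quotient.mk M).comp (Algebra.TensorProduct.includeRight : C →ₐ[A] B ⊗[A] C).toRingHom)
      (fun b hb => by
        rw [← hC] at hb
        exact Ideal.Quotient.eq_zero_iff_mem.mpr hb)
    letI : Algebra kA ((B ⊗[A] C) ⧸ M) := (gB.comp (algebraMap kA kB)).toAlgebra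
    let fB : kB →ₐ[kA] (B ⊗[A] C) ⧸ M := ⟨gB, fun _ => rfl⟩
    let fC : kC →ₐ[kA] (B ⊗[A] C) ⧸ M := ⟨gC, fun a => by
      obtain ⟨a, rfl⟩ := IsLocalRing.residue_surjective a
      show Ideal.Quotient.mk M ((Algebra.TensorProduct.includeRight : C →ₐ[A] B ⊗[A] C) (algebraMap A C a)) =
        Ideal.Quotient.mk M ((Algebra.TensorProduct.includeLeft : B →ₐ[A] B ⊗[A] C) (algebraMap A B a))
      rw [AlgHom.commutes, AlgHom.commutes]⟩
    let Φ : kB ⊗[kA] kC →ₐ[kA] (B ⊗[A] C) ⧸ M := Algebra.TensorProduct.lift fB fC fun _ _ => Commute.all _ _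
    have hΦ : ∀ x, Φ (φ x) = Ideal.Quotient.mk M x := by
      intro x
      induction x using TensorProduct.induction_on with
      | zero => simp
      | add a b ha hb => rw [map_add, map_add, ha, hb, map_add]
      | tmul b c =>
        show Φ (φ (b ⊗ₜ[A] c)) = _
        simp only [φ, Φ, ι₁, ι₂, Algebra.TensorProduct.lift_tmul, map_mul, AlgHom.comp_apply,
          AlgHom.restrictScalars_apply, Algebra.TensorProduct.includeLeft_apply,
          Algebra.TensorProduct.includeRight_apply, map_one, mul_one, one_mul]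
        show Ideal.Quotient.mk M (b ⊗ₜ[A] (1 : C)) * Ideal.Quotient.mk M ((1 : B) ⊗ₜ[A] c) = _
        rw [← map_mul, Algebra.TensorProduct.tmul_mul_tmul, mul_one, one_mul]
    haveI := hM
    refine ⟨⟨RingHom.ker Φ.toRingHom, RingHom.ker_isPrime _⟩, ?_⟩
    ext x
    show x ∈ M ↔ Φ (φ x) = 0
    rw [hΦ, Ideal.Quotient.eq_zero_iff_mem]
  obtain ⟨M₀, hM₀⟩ := Ideal.exists_maximal (B ⊗[A] C)
  have hloc : IsLocalRing (B ⊗[A] C) := IsLocalRing.of_unique_max_ideal ⟨M₀, hM₀, fun M hM => by
    obtain ⟨P, rfl⟩ := hfac M hM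
    obtain ⟨P₀, rfl⟩ := hfac M₀ hM₀
    rw [Subsingleton.elim P P₀]⟩
  obtain ⟨hB, hC⟩ := hcont M₀ hM₀
  refine ⟨hloc, ⟨fun b hb => ?_⟩, ⟨fun c hc => ?_⟩⟩
  · by_contra hb'
    have : b ∈ M₀.comap (Algebra.TensorProduct.includeLeft : B →ₐ[A] B ⊗[A] C).toRingHom := by
      rw [hB]; exact hb'
    exact hM₀.ne_top (Ideal.eq_top_of_isUnit_mem _ this hb)
  · by_contra hc'
    have : c ∈ M₀.comap (Algebra.TensorProduct.includeRight : C →ₐ[A] B ⊗[A] C).toRingHom := by
      rw [hC]; exact hc'
    exact hM₀.ne_top (Ideal.eq_top_of_isUnit_mem _ this hc)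

end Groth.Agent.S9404
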