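import Groth.Statements.S9410
import Groth.Agent.Lib.GeomReg.Descent
-- import your own Groth.Agent.* helpers here

set_option autoImplicit false
universe u
open CAlg

namespace Groth.Agent.S9410

/-- Given a separable algebraic field extension k'/k and a Noetherian k'-algebra A, geometric regularity
of A over k' is equivalent to geometric regularity of A over k. -/
theorem result (k : Type u) [Field k] (k' : Type u)
    [Field k'] [Algebra k k'] [Algebra.IsSeparable k k'] (A : Type u) [CommRing A] [Algebra k' A]
    [Algebra k A] [IsScalarTower k k' A] [IsNoetherianRing A] :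
    CAlg.IsGeometricallyRegular k A ↔ CAlg.IsGeometricallyRegular k' A := by
  refine ⟨fun h => ?_, GrothLib.GeomReg.isGeometricallyRegular_of_isSeparable⟩
  let ι := {F : IntermediateField k k' // FiniteDimensional k F}
  have hF : ∀ i : ι, Module.Finite k i.1 := fun i => i.2
  have : Nonempty ι := ⟨⟨⊥, inferInstance⟩⟩
  refine GrothLib.GeomReg.isGeometricallyRegular_of_directed (fun i : ι => ↥i.1) ?_ ?_ fun i => ?_
  · intro i j
    have := hF i
    have := hF j
    exact ⟨⟨i.1 ⊔ j.1, inferInstance⟩, by rintro _ ⟨x, rfl⟩; exact ⟨⟨x.1, le_sup_left (b := j.1) x.2⟩, rfl⟩,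
      by rintro _ ⟨x, rfl⟩; exact ⟨⟨x.1, le_sup_right (a := i.1) x.2⟩, rfl⟩⟩
  · intro x
    exact ⟨⟨IntermediateField.adjoin k {x}, IntermediateField.adjoin.finiteDimensional
      (Algebra.IsSeparable.isIntegral k x)⟩, ⟨x, IntermediateField.mem_adjoin_simple_self k x⟩, rfl⟩
  · have := hF i
    exact GrothLib.GeomReg.isGeometricallyRegular_of_finite_separable (k := k) h

end Groth.Agent.S9410
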