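import Groth.Statements.S9411
import Groth.Agent.Lib.NormalHom.Colimit
import Groth.Agent.Lib.AbsFlat.Basic

set_option autoImplicit false
set_option linter.style.haveILetI false
universe u
open EGA4 TensorProduct

namespace Groth.Agent.S9411

/-- A quotient by locally trivial generators of a normal ring is normal. -/
theorem isNormalRing_of_surjective_vnr {X Y : Type u} [CommRing X] [CommRing Y] (f : X →+* Y)
    (hf : Function.Surjective f) (s : Set X) (hker : RingHom.ker f = Ideal.span s)
    (hs : ∀ a ∈ s, ∃ x : X, a * a * x = a) (hX : IsNormalRing X) : IsNormalRing Y := by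
  intro Q _
  let φ := Localization.localRingHom (Q.comap f) Q f rfl
  have hz : ∀ a, f a = 0 → algebraMap X (Localization.AtPrime (Q.comap f)) a = 0 := by
    intro a ha
    have hle : Ideal.span s ≤ RingHom.ker (algebraMap X (Localization.AtPrime (Q.comap f))) := by
      rw [Ideal.span_le]
      intro b hb
      obtain ⟨x, hx⟩ := hs b hb
      have hb0 : f b = 0 := (hker ▸ Ideal.subset_span hb : b ∈ RingHom.ker f)
      rw [SetLike.mem_coe, RingHom.mem_ker, IsLocalization.map_eq_zero_iff (Q.comap f).primeCompl]
      refine ⟨⟨1 - b * x, fun h => Ideal.IsPrime.ne_top (I := Q) inferInstance ((Ideal.eq_top_iff_one _).2 ?_)⟩,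
        show (1 - b * x) * b = 0 by linear_combination -hx⟩
      have h' : f (1 - b * x) ∈ Q := h
      rwa [map_sub, map_one, map_mul, hb0, zero_mul, sub_zero] at h'
    exact hle (hker ▸ ha)
  have hbij : Function.Bijective φ := by
    refine ⟨(injective_iff_map_eq_zero φ).2 fun z hz0 => ?_, fun w => ?_⟩
    · obtain ⟨a, m, rfl⟩ := IsLocalization.exists_mk'_eq (Q.comap f).primeCompl z
      rw [Localization.localRingHom_mk', IsLocalization.mk'_eq_zero_iff] at hz0
      obtain ⟨⟨u, hu⟩, hua⟩ := hz0
      obtain ⟨u, rfl⟩ := hf u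
      have h1 := hz (u * a) (by rw [map_mul]; exact hua)
      rw [map_mul] at h1
      have hu' : IsUnit (algebraMap X (Localization.AtPrime (Q.comap f)) u) :=
        IsLocalization.map_units _ (⟨u, hu⟩ : (Q.comap f).primeCompl)
      rw [hu'.mul_right_eq_zero] at h1
      rw [IsLocalization.mk'_eq_mul_mk'_one, h1, zero_mul]
    · obtain ⟨b, ⟨m, hm⟩, rfl⟩ := IsLocalization.exists_mk'_eq Q.primeCompl w
      obtain ⟨a, rfl⟩ := hf b
      obtain ⟨m, rfl⟩ := hf m
      exact ⟨IsLocalization.mk' _ a (⟨m, hm⟩ : (Q.comap f).primeCompl), Localization.localRingHom_mk' _ _ _ _ _ _⟩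
  obtain ⟨h1, h2⟩ := hX (Q.comap f)
  haveI := h1
  haveI := h2
  let e := RingEquiv.ofBijective φ hbij
  exact ⟨e.symm.injective.isDomain, IsIntegrallyClosed.of_equiv e⟩

open TensorProduct in
/-- The base change of a separable algebraic extension to an algebraic extension is absolutely flat. -/
theorem regular_tensor (k : Type u) [Field k] (k' L : Type u) [Field k'] [Field L]
    [Algebra k k'] [Algebra k L] [Algebra.IsSeparable k k'] [Algebra.IsAlgebraic k L] :
    Groth.Agent.AbsFlat.Regular (L ⊗[k] k') := by
  haveI : Algebra.IsGeometricallyReduced k k' :=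
    GrothLib.SepField.formallySmooth_iff_isGeometricallyReduced.1
      (have := Algebra.FormallyEtale.of_isSeparable k k'; inferInstance)
  haveI : IsReduced (L ⊗[k] k') := inferInstance
  refine Groth.Agent.AbsFlat.regular_of_isField_atPrime fun p hp =>
    Groth.Agent.AbsFlat.isField_atPrime_of_isReduced (fun q hq => ?_) p
  haveI := hq
  haveI : Algebra.IsIntegral k k' := Algebra.IsAlgebraic.isIntegral
  refine Ideal.isMaximal_of_isIntegral_of_isMaximal_comap (R := L) q ?_
  exact (Ideal.eq_bot_or_top (q.comap (algebraMap L (L ⊗[k] k')))).resolve_right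
    (Ideal.IsPrime.ne_top inferInstance) ▸ Ideal.bot_isMaximal

/-- Let k'/k be a separable algebraic field extension and A a k'-algebra. Geometric normality of A over
k' is equivalent to geometric normality of A over k. -/
theorem result (k : Type u) [Field k] (k' : Type u) [Field k']
    [Algebra k k'] [Algebra.IsSeparable k k'] (A : Type u) [CommRing A] [Algebra k' A]
    [Algebra k A] [IsScalarTower k k' A] :
    EGA4.IsGeomNormal k A ↔ EGA4.IsGeomNormal k' A := by
  haveI : Algebra.IsAlgebraic k k' := Algebra.IsSeparable.isAlgebraic k k'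
  refine ⟨fun h L _ _ hL => ?_, fun h L _ _ hL => ?_⟩
  · haveI := hL
    letI : Algebra k L := ((algebraMap k' L).comp (algebraMap k k')).toAlgebra
    haveI : IsScalarTower k k' L := IsScalarTower.of_algebraMap_eq fun _ => rfl
    haveI : Algebra.IsAlgebraic k L := Algebra.IsAlgebraic.trans k k' L
    let f : L ⊗[k] A →ₐ[k] L ⊗[k'] A := Algebra.TensorProduct.lift
      ((Algebra.TensorProduct.includeLeft : L →ₐ[k'] L ⊗[k'] A).restrictScalars k)
      ((Algebra.TensorProduct.includeRight : A →ₐ[k'] L ⊗[k'] A).restrictScalars k)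
      (fun _ _ => .all _ _)
    have hf : ∀ l a, f (l ⊗ₜ a) = l ⊗ₜ a := fun l a => by simp [f]
    have hsurj : Function.Surjective f := fun w => by
      induction w using TensorProduct.induction_on with
      | zero => exact ⟨0, map_zero f⟩
      | tmul l a => exact ⟨l ⊗ₜ a, hf l a⟩
      | add x y hx hy =>
        obtain ⟨a, rfl⟩ := hx; obtain ⟨b, rfl⟩ := hy; exact ⟨a + b, map_add f a b⟩
    let s : Set (L ⊗[k] A) := Set.range fun x : k' => algebraMap k' L x ⊗ₜ[k] (1 : A) - (1 : L) ⊗ₜ[k] algebraMap k' A x
    let π := Ideal.Quotient.mk (Ideal.span s)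
    let g : L ⊗[k'] A →+ (L ⊗[k] A) ⧸ Ideal.span s := TensorProduct.liftAddHom
      { toFun := fun l =>
          { toFun := fun a => π (l ⊗ₜ[k] a)
            map_zero' := by simp
            map_add' := fun a b => by rw [tmul_add, map_add] }
        map_zero' := by ext; simp
        map_add' := fun l m => by ext a; simp [add_tmul] }
      (fun x l a => by
        show π ((x • l) ⊗ₜ[k] a) = π (l ⊗ₜ[k] (x • a))
        rw [Algebra.smul_def, Algebra.smul_def, ← sub_eq_zero, ← map_sub, Ideal.Quotient.eq_zero_iff_mem,
          show (algebraMap k' L x * l) ⊗ₜ[k] a - l ⊗ₜ[k] (algebraMap k' A x * a)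
            = (algebraMap k' L x ⊗ₜ[k] (1 : A) - (1 : L) ⊗ₜ[k] algebraMap k' A x) * (l ⊗ₜ[k] a) by
            simp [sub_mul]]
        exact Ideal.mul_mem_right _ _ (Ideal.subset_span ⟨x, rfl⟩))
    have hg : ∀ z, g (f z) = π z := by
      intro z
      induction z using TensorProduct.induction_on with
      | zero => simp
      | tmul l a => rw [hf]; rfl
      | add x y hx hy => rw [map_add, map_add, hx, hy, map_add]
    refine isNormalRing_of_surjective_vnr f.toRingHom hsurj s (le_antisymm (fun z hz => ?_) ?_) ?_
      (GrothLib.NormalHom.isNormalRing_tensor_field h L)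
    · refine Ideal.Quotient.eq_zero_iff_mem.1 ?_
      show π z = 0
      rw [← hg, show f z = 0 from hz, map_zero]
    · rw [Ideal.span_le]
      rintro _ ⟨x, rfl⟩
      show f _ = 0
      rw [map_sub, hf, hf, Algebra.algebraMap_eq_smul_one, Algebra.algebraMap_eq_smul_one, smul_tmul, sub_self]
    · rintro _ ⟨x, rfl⟩
      let ι : L ⊗[k] k' →ₐ[k] L ⊗[k] A := Algebra.TensorProduct.map (AlgHom.id k L) (IsScalarTower.toAlgHom k k' A)
      obtain ⟨y, hy⟩ := regular_tensor k k' L (algebraMap k' L x ⊗ₜ[k] (1 : k') - (1 : L) ⊗ₜ[k] x)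
      exact ⟨ι y, by simpa [ι] using congrArg ι hy⟩
  · haveI := hL
    haveI : Algebra.IsAlgebraic k L := Algebra.IsAlgebraic.of_finite k L
    have hR0 := regular_tensor k k' L
    let R := k' ⊗[k] L
    have hR : Groth.Agent.AbsFlat.Regular R := fun a => by
      obtain ⟨x, hx⟩ := hR0 (Algebra.TensorProduct.comm k k' L a)
      exact ⟨(Algebra.TensorProduct.comm k k' L).symm x,
        (Algebra.TensorProduct.comm k k' L).injective (by simpa using hx)⟩
    haveI : IsReduced R := hR.isReduced
    let X := R ⊗[k'] A
    suffices hX : IsNormalRing X from GrothLib.Excellent.isNormalRing_congr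
      ((Algebra.TensorProduct.comm k' R A).toRingEquiv.trans
        ((Algebra.TensorProduct.cancelBaseChange k k' A A L).toRingEquiv.trans
          (Algebra.TensorProduct.comm k A L).toRingEquiv)) hX
    intro Q _
    set P := Q.comap (algebraMap R X)
    let K := Localization.AtPrime P
    letI : Field K :=
      (Groth.Agent.AbsFlat.isField_atPrime_of_isReduced (fun p hp => haveI := hp; hR.isMaximal) P).toField
    let T := X ⊗[R] K
    have hT : IsNormalRing T := GrothLib.Excellent.isNormalRing_congr
      ((Algebra.TensorProduct.cancelBaseChange k' R K K A).symm.toRingEquiv.trans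
        (Algebra.TensorProduct.comm R K X).toRingEquiv)
      (GrothLib.NormalHom.isNormalRing_tensor_field h K)
    let M := Algebra.algebraMapSubmonoid X P.primeCompl
    have hdisj : Disjoint (M : Set X) Q := by
      rw [Set.disjoint_left]
      rintro _ ⟨x, hx, rfl⟩ hM
      exact hx hM
    haveI : (Q.map (algebraMap X T)).IsPrime :=
      IsLocalization.isPrime_of_isPrime_disjoint M T Q inferInstance hdisj
    exact GrothLib.Excellent.isNormalAt_congr
      (IsLocalization.comap_map_of_isPrime_disjoint M T inferInstance hdisj)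
      ((GrothLib.Excellent.isNormalAt_localization M (Q.map (algebraMap X T))).1 (hT _))

end Groth.Agent.S9411
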