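import Groth.Statements.S9412
import Groth.Agent.Lib.Excellent.NorFiniteType
import Mathlib.RingTheory.Localization.BaseChange
-- import your own Groth.Agent.* helpers here

set_option autoImplicit false
universe u
open EGA4

namespace Groth.Agent.S9412

open TensorProduct in
theorem isNormalRing_tensor_localization {k A B : Type u} [Field k] [CommRing A] [CommRing B] [Algebra k A]
    [Algebra A B] [Algebra k B] [IsScalarTower k A B] {M : Submonoid A} [IsLocalization M B]
    {T : Type u} [CommRing T] [Algebra k T] (h : EGA4.IsNormalRing (T ⊗[k] A)) :
    EGA4.IsNormalRing (B ⊗[k] T) := by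
  have h1 : EGA4.IsNormalRing (A ⊗[k] T) :=
    GrothLib.Excellent.isNormalRing_congr (Algebra.TensorProduct.comm k T A).toRingEquiv h
  have h2 : EGA4.IsNormalRing ((A ⊗[k] T) ⊗[A] B) :=
    GrothLib.Excellent.isNormalRing_isLocalization (Algebra.algebraMapSubmonoid (A ⊗[k] T) M) h1
  exact GrothLib.Excellent.isNormalRing_congr
    ((Algebra.TensorProduct.comm A (A ⊗[k] T) B).toRingEquiv.trans
      (Algebra.TensorProduct.cancelBaseChange k A B B T).toRingEquiv) h2

/-- A localization of a geometrically normal algebra over a field k is geometrically normal over k. -/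
theorem result (k : Type u) [Field k] (A : Type u) [CommRing A]
    [Algebra k A] (M : Submonoid A) (B : Type u) [CommRing B] [Algebra A B] [IsLocalization M B]
    [Algebra k B] [IsScalarTower k A B] (h : EGA4.IsGeomNormal k A) :
    EGA4.IsGeomNormal k B := by
  intro k' _ _ hk'
  exact GrothLib.Excellent.isNormalRing_congr (Algebra.TensorProduct.comm k B k').toRingEquiv
    (isNormalRing_tensor_localization (M := M) (h k' hk'))

end Groth.Agent.S9412
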