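import Groth.Statements.S9414
import Mathlib

set_option autoImplicit false
universe u
open CAlg

namespace Groth.Agent.S9414

open TensorProduct in
/-- For an algebraically closed field k, a finite type k-algebra S and a maximal ideal m of S with
residue field κ = S/m, the κ-vector spaces κ ⊗_S Ω_{S/k} and m/m² have the same dimension. -/
theorem result (k : Type u) [Field k]
    [IsAlgClosed k] (S : Type u) [CommRing S] [Algebra k S] [Algebra.FiniteType k S]
    (m : Ideal S) [m.IsMaximal] :
    Module.finrank (S ⧸ m) ((S ⧸ m) ⊗[S] Ω[S⁄k]) = Module.finrank (S ⧸ m) m.Cotangent := by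
  letI : Field (S ⧸ m) := Ideal.Quotient.field m
  haveI : Module.Finite k (S ⧸ m) := finite_of_finite_type_of_isJacobsonRing k (S ⧸ m)
  have hb : Function.Bijective (algebraMap k (S ⧸ m)) :=
    IsAlgClosed.algebraMap_bijective_of_isIntegral
  have hε : ∀ s : S, ∃ c : k, s - algebraMap k S c ∈ m := fun s => by
    obtain ⟨c, hc⟩ := hb.2 (Ideal.Quotient.mk m s)
    refine ⟨c, ?_⟩
    rw [← Ideal.Quotient.eq_zero_iff_mem, map_sub, ← hc, sub_eq_zero]
    rfl
  choose ε hmem using hε
  have huniq : ∀ (s : S) (c : k), s - algebraMap k S c ∈ m → c = ε s := fun s c hc => hb.1 (by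
    rw [IsScalarTower.algebraMap_apply k S (S ⧸ m), IsScalarTower.algebraMap_apply k S (S ⧸ m)]
    refine Ideal.Quotient.eq.mpr ?_
    have := m.sub_mem (hmem s) hc
    simpa using this)
  -- the map m/m² → κ ⊗ Ω
  let g0 : m →ₗ[S] (S ⧸ m) ⊗[S] Ω[S⁄k] :=
    { toFun := fun x => (1 : S ⧸ m) ⊗ₜ KaehlerDifferential.D k S (x : S)
      map_add' := fun x y => by
        rw [Submodule.coe_add, map_add, TensorProduct.tmul_add]
      map_smul' := fun s x => by
        have h0 : Ideal.Quotient.mk m (x : S) = 0 := Ideal.Quotient.eq_zero_iff_mem.mpr x.2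
        rw [RingHom.id_apply, SetLike.val_smul, smul_eq_mul, Derivation.leibniz,
          TensorProduct.tmul_add, TensorProduct.tmul_smul, TensorProduct.tmul_smul,
          TensorProduct.smul_tmul' (x : S), Algebra.smul_def, mul_one, Ideal.Quotient.algebraMap_eq,
          h0, TensorProduct.zero_tmul, add_zero] }
  have hg0 : (m • ⊤ : Submodule S m) ≤ LinearMap.ker g0 := by
    refine Submodule.smul_le.mpr fun r hr x _ => ?_
    rw [LinearMap.mem_ker, map_smul]
    show r • ((1 : S ⧸ m) ⊗ₜ[S] KaehlerDifferential.D k S (x : S)) = 0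
    rw [TensorProduct.smul_tmul' r, Algebra.smul_def, mul_one, Ideal.Quotient.algebraMap_eq,
      Ideal.Quotient.eq_zero_iff_mem.mpr hr, TensorProduct.zero_tmul]
  let g : m.Cotangent →ₗ[S] (S ⧸ m) ⊗[S] Ω[S⁄k] := Submodule.liftQ _ g0 hg0
  have hgx : ∀ x : m, g (m.toCotangent x) = (1 : S ⧸ m) ⊗ₜ KaehlerDifferential.D k S (x : S) :=
    fun x => rfl
  -- the derivation S → m/m²
  have hmul : ∀ r : S, ∀ v : m.Cotangent, r ∈ m → r • v = 0 := fun r v hr => by
    obtain ⟨y, rfl⟩ := m.toCotangent_surjective v
    rw [← map_smul, Ideal.toCotangent_eq_zero, SetLike.val_smul, smul_eq_mul, pow_two]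
    exact Ideal.mul_mem_mul hr y.2
  let φ : S → m.Cotangent := fun s => m.toCotangent ⟨_, hmem s⟩
  have hφ : ∀ (s : S) (c : k) (h : s - algebraMap k S c ∈ m), φ s = m.toCotangent ⟨_, h⟩ :=
    fun s c h => by simp only [φ, ← huniq s c h]
  let δl : S →ₗ[k] m.Cotangent :=
    { toFun := φ
      map_add' := fun a b => by
        have he : a + b - algebraMap k S (ε a + ε b) =
            (a - algebraMap k S (ε a)) + (b - algebraMap k S (ε b)) := by rw [map_add]; ring
        have h1 : a + b - algebraMap k S (ε a + ε b) ∈ m := he ▸ m.add_mem (hmem a) (hmem b)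
        rw [hφ (a + b) _ h1, ← map_add]
        exact congrArg _ (Subtype.ext he)
      map_smul' := fun c a => by
        have he : c • a - algebraMap k S (c * ε a) =
            algebraMap k S c * (a - algebraMap k S (ε a)) := by rw [map_mul, Algebra.smul_def]; ring
        have h1 : c • a - algebraMap k S (c * ε a) ∈ m := he ▸ m.mul_mem_left _ (hmem a)
        rw [RingHom.id_apply, hφ (c • a) _ h1, algebra_compatible_smul S c (φ a), ← map_smul]
        exact congrArg _ (Subtype.ext he) }
  let δ : Derivation k S m.Cotangent := Derivation.mk' δl fun a b => by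
    show φ (a * b) = a • φ b + b • φ a
    have he : a * b - algebraMap k S (ε a * ε b) =
        a * (b - algebraMap k S (ε b)) + algebraMap k S (ε b) * (a - algebraMap k S (ε a)) := by
      rw [map_mul]; ring
    have h1 : a * b - algebraMap k S (ε a * ε b) ∈ m :=
      he ▸ m.add_mem (m.mul_mem_left _ (hmem b)) (m.mul_mem_left _ (hmem a))
    have h2 : b • φ a = algebraMap k S (ε b) • φ a := by
      rw [← sub_eq_zero, ← sub_smul]
      exact hmul _ _ (hmem b)
    rw [hφ (a * b) _ h1, h2, ← map_smul, ← map_smul, ← map_add]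
    exact congrArg _ (Subtype.ext he)
  have hD1 : ∀ x : m, δ (x : S) = m.toCotangent x := fun x => by
    have h1 : (x : S) - algebraMap k S 0 ∈ m := by simp
    show φ (x : S) = _
    rw [hφ (x : S) 0 h1]
    exact congrArg _ (Subtype.ext (by simp))
  let l := δ.liftKaehlerDifferential.liftBaseChange (S ⧸ m)
  have hinj : Function.Injective g := by
    refine Function.LeftInverse.injective (g := l) fun v => ?_
    obtain ⟨x, rfl⟩ := m.toCotangent_surjective v
    rw [hgx, LinearMap.liftBaseChange_one_tmul, Derivation.liftKaehlerDifferential_comp_D, hD1]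
  have hsurj : Function.Surjective g := by
    rw [← LinearMap.range_eq_top, eq_top_iff]
    rintro z -
    induction z using TensorProduct.induction_on with
    | zero => exact zero_mem _
    | add a b ha hb => exact add_mem ha hb
    | tmul a w =>
      obtain ⟨a, rfl⟩ := Ideal.Quotient.mk_surjective a
      have e : (Ideal.Quotient.mk m a) ⊗ₜ[S] w = a • ((1 : S ⧸ m) ⊗ₜ w) := by
        rw [TensorProduct.smul_tmul' a, Algebra.smul_def, mul_one]
        rfl
      rw [e]
      refine Submodule.smul_mem _ _ ?_
      have hw : w ∈ Submodule.span S (Set.range (KaehlerDifferential.D k S)) :=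
        (KaehlerDifferential.span_range_derivation k S).symm ▸ Submodule.mem_top
      clear e
      induction hw using Submodule.span_induction with
      | zero => rw [TensorProduct.tmul_zero]; exact zero_mem _
      | add a b _ _ ha hb => rw [TensorProduct.tmul_add]; exact add_mem ha hb
      | smul r a _ ha => rw [TensorProduct.tmul_smul]; exact Submodule.smul_mem _ _ ha
      | mem x hx =>
        obtain ⟨s, rfl⟩ := hx
        refine ⟨m.toCotangent ⟨_, hmem s⟩, ?_⟩
        rw [hgx, map_sub, Derivation.map_algebraMap, sub_zero]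
  exact ((LinearEquiv.ofBijective g ⟨hinj, hsurj⟩).extendScalarsOfSurjective
    (S := S ⧸ m) Ideal.Quotient.mk_surjective).symm.finrank_eq

end Groth.Agent.S9414
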