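import Groth.Statements.S9415
import Groth.Agent.Lib.SepField.Smooth
import Mathlib.RingTheory.Smooth.Kaehler
-- import your own Groth.Agent.* helpers here

set_option autoImplicit false
universe u
open CAlg

namespace Groth.Agent.S9415

/-- Let R be a Noetherian local algebra over a field k whose residue field κ is a finitely generated,
separable (that is, geometrically reduced) field extension of k. Then the map from m/m² (m the
maximal ideal, realised as the kernel of R → κ) to κ ⊗_R Ω_{R/k} sending the class of x to 1 ⊗ dx is
injective. -/
theorem result (k : Type u) [Field k] (R : Type u)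
    [CommRing R] [IsLocalRing R] [IsNoetherianRing R] [Algebra k R]
    [Algebra.EssFiniteType k (IsLocalRing.ResidueField R)]
    [Algebra.IsGeometricallyReduced k (IsLocalRing.ResidueField R)] :
    Function.Injective
      (KaehlerDifferential.kerCotangentToTensor k R (IsLocalRing.ResidueField R)) := by
  have : Algebra.FormallySmooth k (IsLocalRing.ResidueField R) :=
    GrothLib.SepField.formallySmooth_iff_isGeometricallyReduced.mpr inferInstance
  have hs : Function.Surjective (algebraMap R (IsLocalRing.ResidueField R)) :=
    IsLocalRing.residue_surjective
  let π := (IsScalarTower.toAlgHom k R (IsLocalRing.ResidueField R)).kerSquareLift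
  have hπ : Function.Surjective π := fun x => by
    obtain ⟨r, rfl⟩ := hs x
    exact ⟨Ideal.Quotient.mk _ r, rfl⟩
  have hn : IsNilpotent (RingHom.ker π.toRingHom) := ⟨2, by
    rw [AlgHom.ker_kerSquareLift, Ideal.cotangentIdeal_square, Ideal.zero_eq_bot]⟩
  let g := Algebra.FormallySmooth.liftOfSurjective (AlgHom.id k _) π hπ hn
  have hg : π.comp g = AlgHom.id k _ := Algebra.FormallySmooth.comp_liftOfSurjective _ _ _ _
  obtain ⟨l, hl⟩ := (retractionKerCotangentToTensorEquivSection (R := k) hs).symm ⟨g, hg⟩
  exact Function.LeftInverse.injective (LinearMap.congr_fun hl)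

end Groth.Agent.S9415
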