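import Groth.Statements.S9416
import Mathlib.RingTheory.Derivation.Basic
import Mathlib.FieldTheory.IntermediateField.Adjoin.Basic
import Mathlib.RingTheory.IntegralClosure.IntegrallyClosed
import Mathlib.Algebra.CharP.Lemmas
import Mathlib.Algebra.CharP.Algebra
import Mathlib.Data.Nat.Prime.Factorial
import Mathlib.FieldTheory.IntermediateField.Adjoin.Algebra
-- import your own Groth.Agent.* helpers here

set_option autoImplicit false
universe u
open CAlg

namespace Groth.Agent.S9416

/-- Suppose R is a normal Noetherian domain whose field of fractions K has prime characteristic p > 0, D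
a derivation of K preserving R, and a ∈ K with D(a) ≠ 0. For a field L generated over K by an
element x with x^p = a, the integral closure of R in L is module-finite over R. -/
theorem result (R : Type u) [CommRing R]
    [IsDomain R] [IsNoetherianRing R] [IsIntegrallyClosed R] (K : Type u) [Field K] [Algebra R K]
    [IsFractionRing R K] (p : ℕ) [Fact p.Prime] [CharP K p] (D : Derivation ℤ K K)
    (hD : ∀ r : R, ∃ s : R, D (algebraMap R K r) = algebraMap R K s) (a : K) (ha : D a ≠ 0)
    (L : Type u) [Field L] [Algebra K L] [Algebra R L] [IsScalarTower R K L] (x : L)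
    (hx : x ^ p = algebraMap K L a) (hgen : IntermediateField.adjoin K {x} = ⊤) :
    Module.Finite R (integralClosure R L) := by
  classical
  have hp : p.Prime := Fact.out
  have hpow : ∀ c : K, D (c ^ p) = 0 := fun c => by
    rw [Derivation.leibniz_pow, ← Nat.cast_smul_eq_nsmul K p, CharP.cast_eq_zero, zero_smul]
  -- make the radicand integral
  obtain ⟨b0, c0, hc0, hab⟩ := IsFractionRing.div_surjective R a
  have hc0' : algebraMap R K c0 ≠ 0 := IsFractionRing.to_map_ne_zero_of_mem_nonZeroDivisors hc0
  obtain ⟨q, hq⟩ : ∃ q, p = q + 1 := ⟨p - 1, (Nat.sub_add_cancel hp.one_le).symm⟩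
  let a' : R := b0 * c0 ^ q
  let x' : L := algebraMap K L (algebraMap R K c0) * x
  have ha' : algebraMap R K a' = algebraMap R K c0 ^ p * a := by
    rw [map_mul, map_pow, ← hab, hq, pow_succ, mul_assoc, mul_div_cancel₀ _ hc0', mul_comm]
  have hx' : x' ^ p = algebraMap K L (algebraMap R K a') := by
    rw [mul_pow, hx, ha', map_mul, map_pow]
  obtain ⟨d, hd⟩ := hD a'
  have hd0 : algebraMap R K d ≠ 0 := by
    rw [← hd, ha', Derivation.leibniz, hpow, smul_zero, add_zero, smul_eq_mul]
    exact mul_ne_zero (pow_ne_zero _ hc0') ha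
  set α := algebraMap R K a' with hα
  set δ := algebraMap R K d with hδ
  -- the normalised derivation
  let E : K → K := fun w => D w / δ
  let Mem : ℕ → K → Prop := fun N w => ∃ r : R, w * δ ^ N = algebraMap R K r
  have hEmem : ∀ m w, Mem m w → Mem (m + 2) (E w) := by
    rintro m w ⟨r, hr⟩
    obtain ⟨r', hr'⟩ := hD r
    obtain ⟨d', hd'⟩ := hD d
    refine ⟨r' * d - (m : R) * r * d', ?_⟩
    have h1 := congrArg D hr
    rw [Derivation.leibniz, Derivation.leibniz_pow, hr', hd', nsmul_eq_mul] at h1
    simp only [smul_eq_mul] at h1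
    rw [map_sub, map_mul, map_mul, map_mul, map_natCast, ← hr, ← h1, ← hδ]
    show D w / δ * δ ^ (m + 2) = _
    rcases Nat.eq_zero_or_pos m with rfl | hm
    · field_simp
      ring
    · obtain ⟨n, rfl⟩ : ∃ n, m = n + 1 := ⟨m - 1, (Nat.sub_add_cancel hm).symm⟩
      rw [Nat.add_sub_cancel]
      field_simp
      ring
  have hiter : ∀ (c : ℕ → K) (j : ℕ), E^[j] (∑ i ∈ Finset.range p, c i ^ p * α ^ i) =
      ∑ i ∈ Finset.range p, c i ^ p * ((i.descFactorial j : ℕ) : K) * α ^ (i - j) := by
    intro c j
    induction j with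
    | zero => simp
    | succ j ih =>
      rw [Function.iterate_succ_apply', ih]
      show D _ / δ = _
      rw [map_sum, div_eq_mul_inv, Finset.sum_mul]
      simp only [← div_eq_mul_inv]
      refine Finset.sum_congr rfl fun i _ => ?_
      rw [Derivation.leibniz, Derivation.leibniz, hpow, Derivation.map_natCast, Derivation.leibniz_pow, hd,
        nsmul_eq_mul, Nat.descFactorial_succ, Nat.cast_mul]
      simp only [smul_eq_mul]
      rw [Nat.sub_sub]
      field_simp
      ring
  have hup : ∀ {m N : ℕ} {w : K}, m ≤ N → Mem m w → Mem N w := by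
    rintro m N w h ⟨r, hr⟩
    refine ⟨r * d ^ (N - m), ?_⟩
    rw [map_mul, map_pow, ← hr, mul_assoc, ← pow_add, Nat.add_sub_cancel' h]
  -- the coefficients of an integral element
  have hcoef : ∀ (z : L), IsIntegral R z → ∀ c : ℕ → K,
      z = ∑ i ∈ Finset.range p, algebraMap K L (c i) * x' ^ i → ∀ i < p, Mem (2 * p) (c i) := by
    intro z hz c hzc
    have hzp : z ^ p = algebraMap K L (∑ i ∈ Finset.range p, c i ^ p * α ^ i) := by
      haveI : CharP L p := charP_of_injective_ringHom (algebraMap K L).injective p
      haveI : ExpChar L p := ExpChar.prime hp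
      rw [hzc, sum_pow_char, map_sum]
      refine Finset.sum_congr rfl fun i _ => ?_
      rw [mul_pow, ← pow_mul, mul_comm i p, pow_mul, hx', map_mul, map_pow, map_pow]
    have h0 : Mem 0 (∑ i ∈ Finset.range p, c i ^ p * α ^ i) := by
      have hi : IsIntegral R (algebraMap K L (∑ i ∈ Finset.range p, c i ^ p * α ^ i)) := hzp ▸ hz.pow p
      obtain ⟨r, hr⟩ := (IsIntegrallyClosed.isIntegral_iff (R := R) (K := K)).1
        ((isIntegral_algHom_iff (IsScalarTower.toAlgHom R K L) (algebraMap K L).injective).1 hi)
      exact ⟨r, by rw [pow_zero, mul_one, hr]⟩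
    have hj : ∀ j, Mem (2 * j) (E^[j] (∑ i ∈ Finset.range p, c i ^ p * α ^ i)) := by
      intro j
      induction j with
      | zero => exact h0
      | succ j ih =>
        rw [Function.iterate_succ_apply']
        exact hEmem _ _ ih
    have hdown : ∀ k i, i < p → p ≤ i + k → Mem (2 * p) (c i ^ p) := by
      intro k
      induction k with
      | zero => intro i h1 h2; omega
      | succ k ih =>
        intro i hip hik
        obtain ⟨r, hr⟩ := hup (show 2 * i ≤ 2 * p by omega) (hj i)
        rw [hiter] at hr
        have hsum : ∃ r' : R, (∑ l ∈ (Finset.range p).erase i,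
            c l ^ p * ((l.descFactorial i : ℕ) : K) * α ^ (l - i)) * δ ^ (2 * p) = algebraMap R K r' := by
          have : ∀ l ∈ (Finset.range p).erase i, ∃ r' : R,
              c l ^ p * ((l.descFactorial i : ℕ) : K) * α ^ (l - i) * δ ^ (2 * p) = algebraMap R K r' := by
            intro l hl
            obtain ⟨hli, hlp⟩ := Finset.mem_erase.1 hl
            rcases lt_or_gt_of_ne hli with h | h
            · exact ⟨0, by rw [Nat.descFactorial_of_lt h]; simp⟩
            · obtain ⟨t, ht⟩ := ih l (Finset.mem_range.1 hlp) (by omega)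
              refine ⟨t * (l.descFactorial i : R) * a' ^ (l - i), ?_⟩
              rw [map_mul, map_mul, map_pow, map_natCast, ← ht, ← hα]
              ring
          choose t ht using this
          refine ⟨∑ l ∈ ((Finset.range p).erase i).attach, t l.1 l.2, ?_⟩
          rw [Finset.sum_mul, map_sum, ← Finset.sum_attach]
          exact Finset.sum_congr rfl fun l _ => ht l.1 l.2
        obtain ⟨r', hr'⟩ := hsum
        rw [← Finset.add_sum_erase _ _ (Finset.mem_range.2 hip), add_mul, hr', Nat.descFactorial_self, Nat.sub_self,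
          pow_zero, mul_one] at hr
        have hcop : Nat.Coprime (Nat.factorial i) p :=
          (Nat.Prime.coprime_iff_not_dvd hp).2 (fun h => absurd ((Nat.Prime.dvd_factorial hp).1 h) (by omega)) |>.symm
        obtain ⟨n', hn'⟩ : ∃ n' : ℤ, ((Nat.factorial i : ℕ) : K) * (n' : K) = 1 := by
          obtain ⟨u, v, huv⟩ := (Nat.Coprime.isCoprime hcop : IsCoprime ((Nat.factorial i : ℕ) : ℤ) (p : ℤ))
          refine ⟨u, ?_⟩
          have := congrArg (Int.cast : ℤ → K) huv
          push_cast at this
          rw [CharP.cast_eq_zero K p, mul_zero, add_zero] at this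
          rw [mul_comm, this]
        refine ⟨(n' : R) * (r - r'), ?_⟩
        rw [map_mul, map_sub, ← hr, map_intCast]
        linear_combination (-(c i ^ p * δ ^ (2 * p))) * hn'
    intro i hi
    obtain ⟨r, hr⟩ := hdown p i hi (by omega)
    have hint : IsIntegral R (c i * δ ^ (2 * p)) := by
      refine IsIntegral.of_pow hp.pos ?_
      rw [mul_pow, show (δ ^ (2 * p)) ^ p = δ ^ (2 * p) * (δ ^ (2 * p)) ^ q by rw [← pow_succ', ← hq], ← mul_assoc,
        hr, hδ, ← map_pow, ← map_pow, ← map_mul]
      exact isIntegral_algebraMap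
    obtain ⟨t, ht⟩ := (IsIntegrallyClosed.isIntegral_iff (R := R) (K := K)).1 hint
    exact ⟨t, ht.symm⟩
  -- everything is a combination of powers of `x'`
  haveI : Algebra.IsAlgebraic R K := IsLocalization.isAlgebraic K (nonZeroDivisors R)
  let v : Fin p → L := fun i => x' ^ (i : ℕ) * algebraMap K L (δ ^ (2 * p))⁻¹
  have hle : Subalgebra.toSubmodule (integralClosure R L) ≤ Submodule.span R (Set.range v) := by
    intro z hz
    have hxint : IsIntegral K x' := ⟨Polynomial.X ^ p - Polynomial.C α, Polynomial.monic_X_pow_sub_C α hp.ne_zero, by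
      simp [hx']⟩
    have htop : Algebra.adjoin K ({x'} : Set L) = ⊤ := by
      rw [← IntermediateField.adjoin_simple_toSubalgebra_of_isAlgebraic hxint.isAlgebraic, ← IntermediateField.top_toSubalgebra]
      congr 1
      rw [eq_top_iff, ← hgen, IntermediateField.adjoin_le_iff, Set.singleton_subset_iff]
      have : x = algebraMap K L (algebraMap R K c0)⁻¹ * x' := by
        rw [map_inv₀, inv_mul_cancel_left₀ ((map_ne_zero _).2 hc0')]
      rw [SetLike.mem_coe, this]
      exact mul_mem (IntermediateField.algebraMap_mem _ _) (IntermediateField.mem_adjoin_simple_self K x')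
    obtain ⟨P, hP⟩ : ∃ P : Polynomial K, Polynomial.aeval x' P = z := by
      have h : z ∈ Algebra.adjoin K ({x'} : Set L) := htop ▸ Algebra.mem_top
      rwa [Algebra.adjoin_singleton_eq_range_aeval] at h
    let f := Polynomial.X ^ p - Polynomial.C α
    have hfm : f.Monic := Polynomial.monic_X_pow_sub_C α hp.ne_zero
    let Q := P %ₘ f
    have hQ : Polynomial.aeval x' Q = z := by
      have h1 := congrArg (Polynomial.aeval x') (Polynomial.modByMonic_add_div P f)
      rw [map_add, map_mul, show Polynomial.aeval x' f = 0 by simp [f, hx'], zero_mul, add_zero] at h1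
      rw [h1, hP]
    have hdeg : Q.natDegree < p := by
      have h1 : f.natDegree = p := Polynomial.natDegree_X_pow_sub_C
      have h2 := Polynomial.natDegree_modByMonic_lt P hfm (fun h => by
        rw [h, Polynomial.natDegree_one] at h1; exact hp.ne_zero h1.symm)
      rwa [h1] at h2
    have hzsum : z = ∑ i ∈ Finset.range p, algebraMap K L (Q.coeff i) * x' ^ i := by
      rw [← hQ, Polynomial.aeval_eq_sum_range' hdeg]
      exact Finset.sum_congr rfl fun i _ => Algebra.smul_def _ _
    have hc := hcoef z hz Q.coeff hzsum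
    rw [hzsum]
    refine sum_mem fun i hi => ?_
    obtain ⟨t, ht⟩ := hc i (Finset.mem_range.1 hi)
    have : algebraMap K L (Q.coeff i) * x' ^ i = t • v ⟨i, Finset.mem_range.1 hi⟩ := by
      rw [Algebra.smul_def, IsScalarTower.algebraMap_apply R K L, ← ht, map_mul]
      show _ = _ * (x' ^ i * algebraMap K L (δ ^ (2 * p))⁻¹)
      rw [map_inv₀, mul_mul_mul_comm, mul_inv_cancel₀ ((map_ne_zero _).2 (pow_ne_zero _ hd0)), mul_one]
    rw [this]
    exact Submodule.smul_mem _ _ (Submodule.subset_span ⟨_, rfl⟩)
  haveI : Module.Finite R (Submodule.span R (Set.range v)) :=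
    Module.Finite.iff_fg.2 (Submodule.fg_span (Set.finite_range v))
  exact Module.Finite.of_injective (Submodule.inclusion hle) (Submodule.inclusion_injective hle)

end Groth.Agent.S9416
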