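import Groth.Statements.S9425
import Mathlib
-- import your own Groth.Agent.* helpers here

set_option autoImplicit false
universe u
open CAlg

namespace Groth.Agent.S9425

/-- A directed colimit of formally étale R-algebras is formally étale over R. The colimit is encoded by
compatible R-algebra maps S_i → S which are jointly surjective and whose kernels die further along
the system. -/
theorem result {ι : Type u} [Preorder ι] [IsDirected ι (· ≤ ·)] [Nonempty ι]
    (R : Type u) [CommRing R] (G : ι → Type u) [∀ i, CommRing (G i)] [∀ i, Algebra R (G i)]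
    (f : ∀ i j, i ≤ j → (G i →ₐ[R] G j)) (S : Type u) [CommRing S] [Algebra R S]
    (g : ∀ i, G i →ₐ[R] S) (hg : ∀ i j (h : i ≤ j), (g j).comp (f i j h) = g i)
    (hsurj : ∀ s : S, ∃ i, ∃ x : G i, g i x = s)
    (hker : ∀ i (x : G i), g i x = 0 → ∃ j, ∃ h : i ≤ j, f i j h x = 0)
    (h : ∀ i, Algebra.FormallyEtale R (G i)) : Algebra.FormallyEtale R S := by
  classical
  rw [Algebra.FormallyEtale.iff_comp_bijective]
  intro B _ _ J hJ
  have hb := fun i ↦ (Algebra.FormallyEtale.iff_comp_bijective.mp (h i)) (B := B) J hJ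
  refine ⟨fun f₁ f₂ e ↦ AlgHom.ext fun s ↦ ?_, fun ψ ↦ ?_⟩
  · obtain ⟨i, x, rfl⟩ := hsurj s
    have := (hb i).1 (a₁ := f₁.comp (g i)) (a₂ := f₂.comp (g i))
      (by show (Ideal.Quotient.mkₐ R J).comp (f₁.comp (g i)) = (Ideal.Quotient.mkₐ R J).comp (f₂.comp (g i))
          rw [← AlgHom.comp_assoc, show (Ideal.Quotient.mkₐ R J).comp f₁ = (Ideal.Quotient.mkₐ R J).comp f₂ from e, AlgHom.comp_assoc])
    exact AlgHom.congr_fun this x
  choose l hl using fun i ↦ (hb i).2 (ψ.comp (g i))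
  have hl' : ∀ i, (Ideal.Quotient.mkₐ R J).comp (l i) = ψ.comp (g i) := hl
  have hcomp : ∀ i j (hij : i ≤ j), (l j).comp (f i j hij) = l i := fun i j hij ↦ (hb i).1
    (show (Ideal.Quotient.mkₐ R J).comp ((l j).comp (f i j hij)) = (Ideal.Quotient.mkₐ R J).comp (l i) by
      rw [← AlgHom.comp_assoc, hl' j, AlgHom.comp_assoc, hg i j hij, hl' i])
  have hwd : ∀ i j (x : G i) (y : G j), g i x = g j y → l i x = l j y := fun i j x y e ↦ by
    obtain ⟨k, hik, hjk⟩ := directed_of (· ≤ ·) i j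
    have h0 : g k (f i k hik x - f j k hjk y) = 0 := by
      rw [map_sub, ← AlgHom.comp_apply, ← AlgHom.comp_apply, hg, hg, e, sub_self]
    obtain ⟨m, hkm, hm⟩ := hker k _ h0
    have := congrArg (l m) hm
    rw [map_zero, ← AlgHom.comp_apply, hcomp, map_sub, sub_eq_zero, ← AlgHom.comp_apply, ← AlgHom.comp_apply, hcomp, hcomp] at this
    exact this
  choose idx elt helt using hsurj
  let φ : S → B := fun s ↦ l (idx s) (elt s)
  have hφ : ∀ i (x : G i), φ (g i x) = l i x := fun i x ↦ hwd _ _ _ _ (helt _)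
  have lift2 : ∀ s t : S, ∃ k x y, g k x = s ∧ g k y = t := fun s t ↦ by
    obtain ⟨k, hik, hjk⟩ := directed_of (· ≤ ·) (idx s) (idx t)
    exact ⟨k, f _ k hik (elt s), f _ k hjk (elt t), by rw [← AlgHom.comp_apply, hg, helt], by rw [← AlgHom.comp_apply, hg, helt]⟩
  let i₀ := Classical.arbitrary ι
  refine ⟨AlgHom.mk' { toFun := φ, map_one' := ?_, map_mul' := ?_, map_zero' := ?_, map_add' := ?_ } ?_, AlgHom.ext fun s ↦ ?_⟩
  · rw [← map_one (g i₀), hφ, map_one]
  · intro s t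
    obtain ⟨k, x, y, rfl, rfl⟩ := lift2 s t
    rw [← map_mul, hφ, hφ, hφ, map_mul]
  · rw [← map_zero (g i₀), hφ, map_zero]
  · intro s t
    obtain ⟨k, x, y, rfl, rfl⟩ := lift2 s t
    rw [← map_add, hφ, hφ, hφ, map_add]
  · intro r s
    obtain ⟨i, x, rfl⟩ : ∃ i x, g i x = s := ⟨_, _, helt s⟩
    show φ (r • g i x) = r • φ (g i x)
    rw [← map_smul, hφ, hφ, map_smul]
  · obtain ⟨i, x, rfl⟩ : ∃ i x, g i x = s := ⟨_, _, helt s⟩
    show Ideal.Quotient.mkₐ R J (φ (g i x)) = _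
    rw [hφ]
    exact AlgHom.congr_fun (hl' i) x

end Groth.Agent.S9425
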