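import Groth.Statements.S9427
import Groth.Agent.Lib.UnivThick.Extend
import Mathlib.LinearAlgebra.TensorProduct.RightExactness
-- import your own Groth.Agent.* helpers here

set_option autoImplicit false
universe u
open OmegaSh

open TensorProduct

namespace Groth.Agent.S9427

/-- Let R → A → B be ring maps with A → B formally unramified, and let B' → B be a universal first order
thickening of B relative to A (B a B'-algebra through it). Then A → B' is formally unramified, and
base changing to B the natural B'-linear map B' ⊗_A Ω_{A/R} → Ω_{B'/R} gives a bijection B ⊗_{B'}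
(B' ⊗_A Ω_{A/R}) → B ⊗_{B'} Ω_{B'/R}. -/
theorem result
    (R : Type u) [CommRing R] (A : Type u) [CommRing A] [Algebra R A] (B : Type u) [CommRing B]
    [Algebra A B] [Algebra.FormallyUnramified A B] (B' : Type u) [CommRing B'] [Algebra A B']
    [Algebra R B'] [IsScalarTower R A B'] [Algebra B' B] [IsScalarTower A B' B]
    (h : OmegaSh.IsUnivThickeningRing A B B' (IsScalarTower.toAlgHom A B' B)) :
    Algebra.FormallyUnramified A B' ∧
      Function.Bijective ((KaehlerDifferential.mapBaseChange R A B').baseChange B) := by
  classical
  refine ⟨GrothLib.UnivThick.formallyUnramified _ h, ?_, ?_⟩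
  rotate_left
  · haveI := GrothLib.UnivThick.formallyUnramified _ h
    have hs : Function.Surjective (KaehlerDifferential.mapBaseChange R A B') := fun ω => by
      obtain ⟨z, hz⟩ := (KaehlerDifferential.exact_mapBaseChange_map R A B' ω).mp (Subsingleton.elim _ _)
      exact ⟨z, hz⟩
    exact LinearMap.lTensor_surjective B hs
  · obtain ⟨hπs, hk, huniv⟩ := h
    letI : Algebra R B := ((algebraMap B' B).comp (algebraMap R B')).toAlgebra
    haveI : IsScalarTower R B' B := .of_algebraMap_eq' rfl
    let M := B ⊗[B'] (B' ⊗[A] Ω[A⁄R])
    let ι : A →+* B := algebraMap A B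
    obtain ⟨d₁, hd⟩ : ∃ d : B' → M, (∀ x y, d (x + y) = d x + d y) ∧ (∀ x y, d (x * y) = x • d y + y • d x) ∧
        ∀ a : A, d (algebraMap A B' a) = (1 : B) ⊗ₜ[B'] ((1 : B') ⊗ₜ[A] KaehlerDifferential.D R A a) :=
      GrothLib.UnivThick.exists_extension hπs huniv (fun a => (1 : B) ⊗ₜ[B'] ((1 : B') ⊗ₜ[A] KaehlerDifferential.D R A a))
        (fun x y => by simp only [map_add, tmul_add])
        (fun x y => by
          simp only [Derivation.leibniz, tmul_add, TensorProduct.tmul_smul])
    let d : Derivation R B' M := Derivation.mk'
      { toFun := d₁
        map_add' := hd.1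
        map_smul' := fun r x => by
          rw [RingHom.id_apply, Algebra.smul_def, hd.2.1, IsScalarTower.algebraMap_apply R A B', hd.2.2,
            Derivation.map_algebraMap, tmul_zero, tmul_zero, smul_zero, add_zero,
            ← IsScalarTower.algebraMap_apply R A B', algebraMap_smul] }
      hd.2.1
    let ψ : B ⊗[B'] Ω[B'⁄R] →ₗ[B] M := d.liftKaehlerDifferential.liftBaseChange B
    refine Function.LeftInverse.injective (g := ψ) fun z => ?_
    induction z using TensorProduct.induction_on with
    | zero => simp
    | add a b ha hb => rw [map_add, map_add, ha, hb]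
    | tmul b w =>
      rw [LinearMap.baseChange_tmul]
      show b • d.liftKaehlerDifferential (KaehlerDifferential.mapBaseChange R A B' w) = b ⊗ₜ w
      have key : ∀ w, d.liftKaehlerDifferential (KaehlerDifferential.mapBaseChange R A B' w) =
          (1 : B) ⊗ₜ[B'] w := by
        intro w
        induction w using TensorProduct.induction_on with
        | zero => simp
        | add a b ha hb => rw [map_add, map_add, ha, hb, tmul_add]
        | tmul x ω =>
          rw [KaehlerDifferential.mapBaseChange_tmul, map_smul]
          have hω : ω ∈ Submodule.span A (Set.range (KaehlerDifferential.D R A)) := by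
            rw [KaehlerDifferential.span_range_derivation]; trivial
          induction hω using Submodule.span_induction generalizing x with
          | mem _ hy =>
            obtain ⟨a, rfl⟩ := hy
            rw [KaehlerDifferential.map_D, Derivation.liftKaehlerDifferential_comp_D]
            show x • d₁ (algebraMap A B' a) = _
            rw [hd.2.2, ← TensorProduct.tmul_smul, smul_tmul', smul_eq_mul, mul_one]
          | zero => simp
          | add p q _ _ hp hq => rw [map_add, map_add, smul_add, hp, hq, tmul_add, tmul_add]
          | smul a p _ hp =>
            rw [map_smul, ← algebraMap_smul B' a, map_smul, smul_smul, hp,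
              ← TensorProduct.smul_tmul a x p, Algebra.smul_def, mul_comm]
      rw [key, smul_tmul', smul_eq_mul, mul_one]

end Groth.Agent.S9427
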