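import Groth.Statements.S9428
import Mathlib
import Groth.Agent.Lib.EtaleThick.Basic

set_option autoImplicit false
universe u
open CAlg

namespace Groth.Agent.S9428

/-- If R → S is formally étale and J ⊆ S is an ideal with R → S/J surjective, I ⊆ R its kernel (the
preimage of J), then R/I^n → S/J^n is bijective for all n. (The published statement adds that the
associated graded rings are then isomorphic, which follows from these bijections.) -/
theorem result (R : Type u) [CommRing R] (S : Type u)
    [CommRing S] [Algebra R S] [Algebra.FormallyEtale R S] (J : Ideal S)
    (hJ : Function.Surjective (algebraMap R (S ⧸ J))) (n : ℕ) :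
    Function.Bijective (Ideal.quotientMap (J ^ n) (algebraMap R S)
      (le_of_le_of_eq (Ideal.le_comap_pow (algebraMap R S) n) rfl :
        (J.comap (algebraMap R S)) ^ n ≤ (J ^ n).comap (algebraMap R S))) := by
  have h := GrothLib.EtaleThick.thickMap_bijective hJ n
  convert h using 1
  funext x
  obtain ⟨r, rfl⟩ := Ideal.Quotient.mk_surjective x
  rfl

end Groth.Agent.S9428
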