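import Groth.Statements.S9430
import Groth.Agent.Lib.CIField.FiniteType

set_option autoImplicit false
universe u
open Synt

namespace Groth.Agent.S9430

theorem isGlobalCI_of_algEquiv' {k A B : Type u} [Field k] [CommRing A] [CommRing B] [Algebra k A] [Algebra k B]
    (e : A ≃ₐ[k] B) (h : Synt.IsGlobalCI k A) : Synt.IsGlobalCI k B := by
  rcases h with h | ⟨n, c, hc, φ, r, hφ, hker, hdim⟩
  · exact Or.inl e.symm.toEquiv.subsingleton
  · refine Or.inr ⟨n, c, hc, e.toAlgHom.comp φ, r, e.surjective.comp hφ, ?_, ?_⟩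
    · rw [← hker]
      ext x
      show e (φ x) = 0 ↔ φ x = 0
      exact EmbeddingLike.map_eq_zero_iff
    · rw [← hdim, ringKrullDim_eq_of_ringEquiv e.toRingEquiv]

theorem result (k : Type u) [Field k] (K : Type u)
    [Field K] [Algebra k K] (E : Finset K) :
    ∃ A : Subalgebra k K, (↑E : Set K) ⊆ (A : Set K) ∧ Synt.IsGlobalCI k A := by
  let B := Algebra.adjoin k (E : Set K)
  haveI : Algebra.FiniteType k B :=
    (Subalgebra.fg_iff_finiteType B).mp ⟨E, rfl⟩
  haveI : (⊥ : Ideal B).IsPrime := Ideal.isPrime_bot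
  let L := Localization.AtPrime (⊥ : Ideal B)
  haveI : IsFractionRing B L := by
    have : (⊥ : Ideal B).primeCompl = nonZeroDivisors B := by
      ext x
      simp [mem_nonZeroDivisors_iff_ne_zero]
    show IsLocalization (nonZeroDivisors B) L
    rw [← this]
    infer_instance
  letI := IsFractionRing.toField B (K := L)
  haveI : IsRegularLocalRing L := inferInstance
  haveI : Algebra.EssFiniteType k L := Algebra.EssFiniteType.comp k B L
  have hci : Synt.IsCIOver k L := (GrothLib.CIField.isCIOver_iff k L).mpr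
    ⟨L, inferInstance, inferInstance, inferInstance, inferInstance, AlgHom.id k L, Function.surjective_id, [],
      RingTheory.Sequence.IsWeaklyRegular.nil L L, by
        rw [Ideal.ofList_nil]
        exact (RingHom.ker_eq_bot_iff_eq_zero _ |>.mpr fun x hx => hx).symm⟩
  obtain ⟨g, hg, hG⟩ := GrothLib.CIField.exists_isGlobalCI_away (⊥ : Ideal B) hci
  have hg0 : g ≠ 0 := fun h => hg (by simp [h])
  let φ : Localization.Away g →ₐ[k] K := IsLocalization.liftAlgHom (M := Submonoid.powers g) (f := B.val) (by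
    rintro ⟨y, m, rfl⟩
    rw [map_pow]
    exact (IsUnit.mk0 _ (fun h => hg0 (Subtype.ext h))).pow m)
  have hφ : ∀ b : B, φ (algebraMap B _ b) = (b : K) := fun b => IsLocalization.lift_eq _ b
  have hinj : Function.Injective φ := by
    refine (injective_iff_map_eq_zero φ).mpr fun z hz => ?_
    obtain ⟨⟨b, s⟩, hs⟩ := IsLocalization.surj (Submonoid.powers g) z
    have hb : (b : K) = 0 := by rw [← hφ, ← hs, map_mul, hz, zero_mul]
    rw [show b = 0 from Subtype.ext hb, map_zero] at hs
    exact (IsLocalization.map_units _ s).mul_left_eq_zero.mp hs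
  exact ⟨φ.range, fun x hx => ⟨algebraMap B _ ⟨x, Algebra.subset_adjoin hx⟩, hφ _⟩,
    isGlobalCI_of_algEquiv' (AlgEquiv.ofInjective φ hinj) hG⟩

end Groth.Agent.S9430
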