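import Groth.Statements.S9433
import Mathlib
-- import your own Groth.Agent.* helpers here

set_option autoImplicit false
universe u
open CAlg

namespace Groth.Agent.S9433

/-- Let R → S be a local homomorphism of local rings with S the localization of an étale R-algebra at a
prime, inducing an isomorphism of residue fields. Then for some t in the maximal ideal of R the maps
R/t^nR → S/t^nS are bijective for all n ≥ 1. -/
theorem result (R : Type u) [CommRing R] [IsLocalRing R] (T : Type u) [CommRing T] [Algebra R T]
    [Algebra.Etale R T] (q : Ideal T) [q.IsPrime] (S : Type u) [CommRing S] [IsLocalRing S]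
    [Algebra T S] [IsLocalization.AtPrime S q] [Algebra R S] [IsScalarTower R T S]
    [IsLocalHom (algebraMap R S)]
    (hres : Function.Bijective (IsLocalRing.ResidueField.map (algebraMap R S))) :
    ∃ t ∈ IsLocalRing.maximalIdeal R, ∀ n : ℕ, 1 ≤ n →
      Function.Bijective (Ideal.quotientMap ((Ideal.span {t ^ n}).map (algebraMap R S))
        (algebraMap R S) Ideal.le_comap_map) := by
  classical
  haveI : Algebra.IsEtaleAt R q :=
    (inferInstance : Algebra.FormallyEtale R (Localization.AtPrime q))
  obtain ⟨g, hgq, hst⟩ := Algebra.IsEtaleAt.exists_isStandardEtale (R := R) q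
  haveI := hst
  obtain ⟨P⟩ := Algebra.IsStandardEtale.nonempty_standardEtalePresentation (R := R) (S := Localization.Away g)
  have hgu : IsUnit (algebraMap T S g) := IsLocalization.map_units S (⟨g, hgq⟩ : q.primeCompl)
  let ι : Localization.Away g →ₐ[R] S :=
    IsLocalization.liftAlgHom (M := Submonoid.powers g) (f := IsScalarTower.toAlgHom R T S) fun y => by
      obtain ⟨n, hn⟩ := y.2
      rw [← hn, map_pow]
      exact hgu.pow n
  have hι : ∀ z, ι (algebraMap T (Localization.Away g) z) = algebraMap T S z := fun z => by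
    simp [ι]
  let xs : S := ι P.x
  obtain ⟨ka, hka⟩ := hres.2 (IsLocalRing.residue S xs)
  obtain ⟨a, rfl⟩ := IsLocalRing.residue_surjective ka
  have hres_a : IsLocalRing.residue S (algebraMap R S a) = IsLocalRing.residue S xs := by
    rw [← IsLocalRing.ResidueField.map_residue]; exact hka
  have hx0 : Polynomial.aeval xs P.f = 0 := by
    rw [Polynomial.aeval_algHom_apply, P.hasMap.1, map_zero]
  have hxg : IsUnit (Polynomial.aeval xs P.g) := by
    rw [Polynomial.aeval_algHom_apply]; exact P.hasMap.2.map ι
  have hevres : ∀ p : Polynomial R, IsLocalRing.residue S (algebraMap R S (p.eval a)) =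
      IsLocalRing.residue S (Polynomial.aeval xs p) := by
    intro p
    have h1 : algebraMap R S (p.eval a) = Polynomial.aeval (algebraMap R S a) p := by
      rw [Polynomial.aeval_algebraMap_apply_eq_algebraMap_eval]
    rw [h1, Polynomial.aeval_def, Polynomial.aeval_def, Polynomial.hom_eval₂, Polynomial.hom_eval₂, hres_a]
  let t := P.f.eval a
  have htm : t ∈ IsLocalRing.maximalIdeal R := by
    intro hu
    have h1 : IsUnit (IsLocalRing.residue S (algebraMap R S t)) := (hu.map (algebraMap R S)).map _
    rw [hevres, hx0, map_zero] at h1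
    exact not_isUnit_zero h1
  have hga : IsUnit (P.g.eval a) := by
    by_contra hu
    have h1 : IsLocalRing.residue S (algebraMap R S (P.g.eval a)) = 0 := by
      rw [IsLocalRing.residue_eq_zero_iff]
      exact fun h => hu ((isUnit_map_iff (algebraMap R S) _).1 h)
    rw [hevres] at h1
    exact (hxg.map (IsLocalRing.residue S)).ne_zero h1
  refine ⟨t, htm, fun n hn => ?_⟩
  set I : Ideal R := Ideal.span {t ^ n} with hI
  have htn : t ^ n ∈ IsLocalRing.maximalIdeal R := Ideal.pow_mem_of_mem _ htm n hn
  haveI : Nontrivial (R ⧸ I) := Ideal.Quotient.nontrivial_iff.2 (by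
    rw [hI, Ne, Ideal.span_singleton_eq_top]
    exact htn)
  haveI : IsLocalRing (R ⧸ I) := IsLocalRing.of_surjective' _ Ideal.Quotient.mk_surjective
  let B := S ⧸ I.map (algebraMap R S)
  haveI : Nontrivial B := Ideal.Quotient.nontrivial_iff.2 (by
    intro htop
    have hle : I.map (algebraMap R S) ≤ IsLocalRing.maximalIdeal S := by
      rw [hI, Ideal.map_span, Set.image_singleton, Ideal.span_le, Set.singleton_subset_iff, SetLike.mem_coe]
      exact map_nonunit (algebraMap R S) _ htn
    exact (IsLocalRing.maximalIdeal.isMaximal S).ne_top (eq_top_iff.2 (htop ▸ hle)))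
  haveI : IsLocalRing B := IsLocalRing.of_surjective' _ Ideal.Quotient.mk_surjective
  -- lift the section modulo `t`
  let J : Ideal (R ⧸ I) := Ideal.span {Ideal.Quotient.mk I t}
  have hJ : IsNilpotent J := ⟨n, by
    rw [Ideal.span_singleton_pow, ← map_pow, Ideal.Quotient.eq_zero_iff_mem.2 (Ideal.mem_span_singleton_self _),
      Ideal.span_singleton_eq_bot.2 rfl]
    rfl⟩
  let ab : (R ⧸ I) ⧸ J := Ideal.Quotient.mk J (Ideal.Quotient.mk I a)
  have hev : ∀ p : Polynomial R, Polynomial.aeval ab p = Ideal.Quotient.mk J (Ideal.Quotient.mk I (p.eval a)) := by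
    intro p
    exact Polynomial.aeval_algebraMap_apply_eq_algebraMap_eval a p
  have hmap1 : P.HasMap ab := by
    refine ⟨?_, ?_⟩
    · rw [hev, Ideal.Quotient.eq_zero_iff_mem]
      exact Ideal.mem_span_singleton_self _
    · rw [hev]; exact (hga.map _).map _
  obtain ⟨σ, hσ⟩ := Algebra.FormallySmooth.exists_lift J hJ ((P.lift ab hmap1).comp P.equivRing.toAlgHom)
  -- residue compatibility
  let kS := IsLocalRing.ResidueField S
  have hIk : ∀ r ∈ I, (IsLocalRing.residue S).comp (algebraMap R S) r = 0 := by
    intro r hr
    rw [RingHom.comp_apply, IsLocalRing.residue_eq_zero_iff]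
    obtain ⟨c, rfl⟩ := Ideal.mem_span_singleton'.1 hr
    exact map_nonunit (algebraMap R S) _ (Ideal.mul_mem_left _ c htn)
  let π : (R ⧸ I) →ₐ[R] kS :=
    { Ideal.Quotient.lift I ((IsLocalRing.residue S).comp (algebraMap R S)) hIk with
      commutes' := fun r => rfl }
  have hπunit : ∀ z, π z ≠ 0 → IsUnit z := by
    intro z hz
    obtain ⟨r, rfl⟩ := Ideal.Quotient.mk_surjective z
    by_contra hu
    refine hz ?_
    show IsLocalRing.residue S (algebraMap R S r) = 0
    rw [IsLocalRing.residue_eq_zero_iff]
    exact map_nonunit (algebraMap R S) _ (fun h : IsUnit r => hu (h.map _))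
  let resS : S →ₐ[R] kS := { IsLocalRing.residue S with commutes' := fun r => rfl }
  have hcompat : π.comp σ = resS.comp ι := by
    have h1 : (π.comp σ).comp P.equivRing.symm.toAlgHom = (resS.comp ι).comp P.equivRing.symm.toAlgHom := by
      refine StandardEtalePair.hom_ext ?_
      show π (σ (P.equivRing.symm P.X)) = resS (ι (P.equivRing.symm P.X))
      rw [StandardEtalePresentation.equivRing_symm_X]
      have h2 : Ideal.Quotient.mk J (σ P.x) = ab := by
        have h3 : Ideal.Quotient.mk J (σ P.x) = P.lift ab hmap1 (P.equivRing P.x) := DFunLike.congr_fun hσ P.x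
        rwa [StandardEtalePresentation.equivRing_x, StandardEtalePair.lift_X] at h3
      rw [Ideal.Quotient.mk_eq_mk_iff_sub_mem] at h2
      obtain ⟨c, hc⟩ := Ideal.mem_span_singleton'.1 h2
      have h4 : π (σ P.x) - π (Ideal.Quotient.mk I a) = 0 := by
        rw [← map_sub, ← hc, map_mul]
        have : π (Ideal.Quotient.mk I t) = 0 := by
          show IsLocalRing.residue S (algebraMap R S t) = 0
          rw [IsLocalRing.residue_eq_zero_iff]
          exact map_nonunit (algebraMap R S) _ htm
        rw [this, mul_zero]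
      rw [sub_eq_zero.1 h4]
      exact hres_a
    exact AlgHom.ext fun z => by simpa using DFunLike.congr_fun h1 (P.equivRing z)
  let σT : T →ₐ[R] (R ⧸ I) := σ.comp (IsScalarTower.toAlgHom R T (Localization.Away g))
  let τ : S →ₐ[R] (R ⧸ I) := IsLocalization.liftAlgHom (M := q.primeCompl) (f := σT) fun z => by
    refine hπunit _ ?_
    rw [show π (σT z) = resS (ι (algebraMap T (Localization.Away g) z)) from DFunLike.congr_fun hcompat _, hι]
    exact ((IsLocalization.map_units S z).map (IsLocalRing.residue S)).ne_zero
  have hτι : ∀ z, τ (ι z) = σ z := by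
    intro z
    have h1 : (τ.comp ι) = σ := by
      refine AlgHom.coe_ringHom_injective (IsLocalization.ringHom_ext (Submonoid.powers g) ?_)
      ext w
      simp [τ, σT, hι]
    exact DFunLike.congr_fun h1 z
  let qm : (R ⧸ I) →+* B := Ideal.quotientMap _ (algebraMap R S) Ideal.le_comap_map
  have hqm : ∀ r, qm (Ideal.Quotient.mk I r) = Ideal.Quotient.mk _ (algebraMap R S r) := fun r => rfl
  have hinv : ∀ s : S, qm (τ s) = Ideal.Quotient.mk _ s := by
    let qa : (R ⧸ I) →ₐ[R] B := { qm with commutes' := fun r => rfl }
    have h : qa.comp τ = Ideal.Quotient.mkₐ R (I.map (algebraMap R S)) := by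
      refine AlgHom.coe_ringHom_injective (IsLocalization.ringHom_ext q.primeCompl ?_)
      suffices hTg : (qa.comp τ).comp ι = (Ideal.Quotient.mkₐ R (I.map (algebraMap R S))).comp ι by
        ext w
        have h5 := DFunLike.congr_fun hTg (algebraMap T (Localization.Away g) w)
        simp only [AlgHom.comp_apply, hι] at h5
        exact h5
      suffices hX : qm (τ (ι P.x)) = Ideal.Quotient.mk _ (ι P.x) by
        have h1 : ((qa.comp τ).comp ι).comp P.equivRing.symm.toAlgHom =
            ((Ideal.Quotient.mkₐ R (I.map (algebraMap R S))).comp ι).comp P.equivRing.symm.toAlgHom := by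
          refine StandardEtalePair.hom_ext ?_
          show qm (τ (ι (P.equivRing.symm P.X))) = Ideal.Quotient.mk _ (ι (P.equivRing.symm P.X))
          rw [StandardEtalePresentation.equivRing_symm_X]
          exact hX
        exact AlgHom.ext fun z => by simpa using DFunLike.congr_fun h1 (P.equivRing z)
      -- two congruent simple roots in a local ring are equal
      set y1 : B := qm (τ (ι P.x)) with hy1
      set y2 : B := Ideal.Quotient.mk (I.map (algebraMap R S)) (ι P.x) with hy2
      have hr1 : Polynomial.aeval y1 P.f = 0 := by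
        rw [hy1, show qm (τ (ι P.x)) = (qa.comp τ) (ι P.x) from rfl, Polynomial.aeval_algHom_apply, hx0, map_zero]
      have hr2 : Polynomial.aeval y2 P.f = 0 := by
        rw [hy2, ← Ideal.Quotient.mkₐ_eq_mk R, Polynomial.aeval_algHom_apply, hx0, map_zero]
      have hd : y1 - y2 ∈ IsLocalRing.maximalIdeal B := by
        obtain ⟨r, hr⟩ := Ideal.Quotient.mk_surjective (τ (ι P.x))
        rw [hy1, hy2, ← hr, hqm, ← map_sub]
        haveI : IsLocalHom (Ideal.Quotient.mk (I.map (algebraMap R S))) :=
          IsLocalHom.of_surjective _ Ideal.Quotient.mk_surjective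
        refine map_nonunit (Ideal.Quotient.mk (I.map (algebraMap R S))) _ ?_
        rw [← IsLocalRing.residue_eq_zero_iff, map_sub, sub_eq_zero]
        have h1 : π (Ideal.Quotient.mk I r) = resS (ι P.x) := by
          rw [hr, hτι]; exact DFunLike.congr_fun hcompat P.x
        exact h1
      have hu : IsUnit (Polynomial.aeval y2 P.f.derivative) := by
        rw [hy2, ← Ideal.Quotient.mkₐ_eq_mk R, Polynomial.aeval_algHom_apply, Polynomial.aeval_algHom_apply]
        exact (P.hasMap.isUnit_derivative_f.map ι).map (Ideal.Quotient.mkₐ R (I.map (algebraMap R S)))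
      obtain ⟨c, hc⟩ := Polynomial.binomExpansion (P.f.map (algebraMap R B)) y2 (y1 - y2)
      rw [add_sub_cancel, Polynomial.derivative_map, Polynomial.eval_map_algebraMap,
        Polynomial.eval_map_algebraMap, Polynomial.eval_map_algebraMap, hr1, hr2, zero_add] at hc
      have h2 : (Polynomial.aeval y2 P.f.derivative + c * (y1 - y2)) * (y1 - y2) = 0 := by
        rw [add_mul, hc]; ring
      have hu2 : IsUnit (Polynomial.aeval y2 P.f.derivative + c * (y1 - y2)) := by
        by_contra hnu
        refine (IsLocalRing.mem_maximalIdeal _).1 ?_ hu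
        have := sub_mem ((IsLocalRing.mem_maximalIdeal _).2 hnu) (Ideal.mul_mem_left _ c hd)
        rwa [add_sub_cancel_right] at this
      exact sub_eq_zero.1 ((hu2.mul_right_eq_zero).1 h2)
    exact fun s => DFunLike.congr_fun h s
  refine ⟨fun x y hxy => ?_, fun z => ?_⟩
  · obtain ⟨r, rfl⟩ := Ideal.Quotient.mk_surjective x
    obtain ⟨r', rfl⟩ := Ideal.Quotient.mk_surjective y
    have hker : ∀ s ∈ I.map (algebraMap R S), τ s = 0 := fun s hs => by
      have hle : I.map (algebraMap R S) ≤ RingHom.ker τ.toRingHom := by
        rw [Ideal.map_le_iff_le_comap]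
        intro r hr
        rw [Ideal.mem_comap, RingHom.mem_ker]
        show τ (algebraMap R S r) = 0
        rw [τ.commutes]
        exact Ideal.Quotient.eq_zero_iff_mem.2 hr
      exact hle hs
    change Ideal.Quotient.mk (I.map (algebraMap R S)) (algebraMap R S r) = Ideal.Quotient.mk _ (algebraMap R S r') at hxy
    rw [Ideal.Quotient.mk_eq_mk_iff_sub_mem] at hxy
    have h1 := hker _ hxy
    rw [map_sub, τ.commutes, τ.commutes, sub_eq_zero] at h1
    exact h1
  · obtain ⟨s, rfl⟩ := Ideal.Quotient.mk_surjective z
    exact ⟨τ s, hinv s⟩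

end Groth.Agent.S9433
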