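import Groth.Statements.S9434
import Mathlib
import Groth.Agent.Lib.EtaleFiniteCover.Basic

set_option autoImplicit false
universe u
open CAlg

namespace Groth.Agent.S9434

/-- Let R → S be a local homomorphism of local rings with S the localization of an étale R-algebra at a
prime. Then there is a finite, finitely presented, faithfully flat R-algebra S' such that for every
maximal ideal m' of S' the structure map R → S'_{m'} factors through some R-algebra map S → S'_{m'}. -/
theorem result (R : Type u) [CommRing R] [IsLocalRing R] (T : Type u) [CommRing T] [Algebra R T]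
    [Algebra.Etale R T] (q : Ideal T) [q.IsPrime] (S : Type u) [CommRing S] [IsLocalRing S]
    [Algebra T S] [IsLocalization.AtPrime S q] [Algebra R S] [IsScalarTower R T S]
    [IsLocalHom (algebraMap R S)] :
    ∃ (S' : Type u) (_ : CommRing S') (_ : Algebra R S'),
      Module.Finite R S' ∧ Algebra.FinitePresentation R S' ∧ Module.FaithfullyFlat R S' ∧
        ∀ (m' : Ideal S') [m'.IsMaximal], Nonempty (S →ₐ[R] Localization.AtPrime m') := by
  classical
  obtain ⟨g, hg, hstd⟩ := Algebra.IsEtaleAt.exists_isStandardEtale (R := R) q
  let L := Localization.Away g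
  obtain ⟨S', _, _, h1, h2, h3, h4⟩ := GrothLib.EtaleFiniteCover.exists_cover R L
  refine ⟨S', inferInstance, inferInstance, h1, h2, h3, fun m' _ => ?_⟩
  have hd := (Ideal.disjoint_powers_iff_notMem_of_isPrime g).mpr hg
  haveI : (q.map (algebraMap T L)).IsPrime :=
    IsLocalization.isPrime_of_isPrime_disjoint (Submonoid.powers g) L q inferInstance hd
  have hqL : (q.map (algebraMap T L)).under T = q :=
    IsLocalization.under_map_of_isPrime_disjoint (Submonoid.powers g) L inferInstance hd
  have hq : q.under R = IsLocalRing.maximalIdeal R := by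
    rw [← IsLocalRing.maximalIdeal_comap (algebraMap R S), IsScalarTower.algebraMap_eq R T S,
      ← Ideal.comap_comap, ← IsLocalization.AtPrime.comap_maximalIdeal S q]
  haveI : Algebra.IsIntegral R S' := Algebra.IsIntegral.of_finite R S'
  haveI : (m'.under R).IsMaximal := Ideal.isMaximal_comap_of_isIntegral_of_isMaximal m'
  have hm : m'.under R = (q.map (algebraMap T L)).under R := by
    rw [← Ideal.under_under (B := T) (q.map (algebraMap T L)), hqL, hq]
    exact IsLocalRing.eq_maximalIdeal inferInstance
  obtain ⟨g', hg', φ, hφ⟩ := h4 (q.map (algebraMap T L)) m' hm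
  let ψ : Localization.Away g' →ₐ[R] Localization.AtPrime m' :=
    IsLocalization.liftAlgHom (M := Submonoid.powers g')
      (f := IsScalarTower.toAlgHom R S' (Localization.AtPrime m')) fun y => by
      obtain ⟨n, hn⟩ := y.2
      rw [← hn, map_pow]
      exact (IsLocalization.map_units (M := m'.primeCompl) (Localization.AtPrime m') ⟨g', hg'⟩).pow n
  have hψ : (IsLocalRing.maximalIdeal (Localization.AtPrime m')).comap ψ =
      m'.map (algebraMap S' (Localization.Away g')) := by
    rw [← IsLocalization.map_under (Submonoid.powers g') (Localization.Away g')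
      ((IsLocalRing.maximalIdeal (Localization.AtPrime m')).comap ψ)]
    congr 1
    ext s
    show ψ (algebraMap S' _ s) ∈ IsLocalRing.maximalIdeal (Localization.AtPrime m') ↔ _
    rw [show ψ (algebraMap S' _ s) = algebraMap S' (Localization.AtPrime m') s from IsLocalization.lift_eq _ s]
    exact IsLocalization.AtPrime.to_map_mem_maximal_iff _ m' s
  refine ⟨IsLocalization.liftAlgHom (M := q.primeCompl)
    (f := (ψ.comp φ).comp (IsScalarTower.toAlgHom R T L)) fun y => ?_⟩
  show IsUnit (ψ (φ (algebraMap T L y)))
  by_contra hu
  have h5 : φ (algebraMap T L y) ∈ m'.map (algebraMap S' (Localization.Away g')) := hψ.le hu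
  have h6 : algebraMap T L y ∈ q.map (algebraMap T L) := hφ.le h5
  exact y.2 (hqL.le h6)

end Groth.Agent.S9434
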