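import Groth.Statements.S9439
import Groth.Agent.Lib.AdicExtra.Completion
import Mathlib.RingTheory.Ideal.KrullsHeightTheorem
-- import your own Groth.Agent.* helpers here

set_option autoImplicit false
universe u
open CAlg

namespace Groth.Agent.S9439

/-- Let R be a Noetherian local ring, R^ its completion and p a prime with R_p a discrete valuation ring
and with R^/pR^ reduced (p analytically unramified: the completion of R/p, which is R^/pR^, is
reduced). Then the localization of R^ at any associated prime of R^/pR^ is a discrete valuation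
ring. -/
theorem result
    (R : Type u) [CommRing R] [IsLocalRing R] [IsNoetherianRing R] (p : Ideal R) [p.IsPrime]
    [IsDomain (Localization.AtPrime p)] [IsDiscreteValuationRing (Localization.AtPrime p)]
    (hp : IsReduced (AdicCompletion (IsLocalRing.maximalIdeal R) R ⧸
      p.map (algebraMap R (AdicCompletion (IsLocalRing.maximalIdeal R) R))))
    (q : Ideal (AdicCompletion (IsLocalRing.maximalIdeal R) R)) [q.IsPrime]
    (hq : q ∈ associatedPrimes (AdicCompletion (IsLocalRing.maximalIdeal R) R)
      (AdicCompletion (IsLocalRing.maximalIdeal R) R ⧸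
        p.map (algebraMap R (AdicCompletion (IsLocalRing.maximalIdeal R) R)))) :
    ∃ _ : IsDomain (Localization.AtPrime q), IsDiscreteValuationRing (Localization.AtPrime q) := by
  classical
  let Rh := AdicCompletion (IsLocalRing.maximalIdeal R) R
  let J : Ideal Rh := p.map (algebraMap R Rh)
  haveI : IsNoetherianRing Rh := GrothLib.AdicExtra.isNoetherianRing_adicCompletion _
  haveI : Module.Flat R Rh := AdicCompletion.flat_of_isNoetherian _
  have hrad : J.radical = J := (Ideal.isRadical_iff_quotient_reduced J).mpr hp |>.radical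
  -- `q` is minimal over `J`
  obtain ⟨hqprime, x, hx⟩ := hq
  obtain ⟨x, rfl⟩ := Ideal.Quotient.mk_surjective x
  have hmemq : ∀ r, r ∈ q ↔ ∃ n : ℕ, r ^ n * x ∈ J := by
    intro r
    rw [hx, Ideal.mem_radical_iff]
    refine exists_congr fun n => ?_
    rw [Submodule.mem_colon_singleton, Submodule.mem_bot, Algebra.smul_def, Ideal.Quotient.algebraMap_eq,
      ← map_mul, Ideal.Quotient.eq_zero_iff_mem]
  have hJq : J ≤ q := fun r hr => (hmemq r).mpr ⟨1, by simpa using J.mul_mem_right x hr⟩
  have hxJ : x ∉ J := fun h => hqprime.ne_top ((Ideal.eq_top_iff_one q).mpr ((hmemq 1).mpr ⟨0, by simpa using h⟩))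
  rw [← hrad, ← Ideal.sInf_minimalPrimes, Submodule.mem_sInf] at hxJ
  push Not at hxJ
  obtain ⟨P, hP, hxP⟩ := hxJ
  have hqP : q = P := by
    refine le_antisymm (fun r hr => ?_) (hP.2 ⟨hqprime, hJq⟩ fun r hr => ?_)
    · obtain ⟨n, hn⟩ := (hmemq r).mp hr
      exact hP.1.1.mem_of_pow_mem n ((hP.1.1.mem_or_mem (hP.1.2 hn)).resolve_right hxP)
    · obtain ⟨n, hn⟩ := (hmemq r).mp hr
      exact hP.1.1.mem_of_pow_mem n ((hP.1.1.mem_or_mem (hP.1.2 hn)).resolve_right hxP)
  have hqmin : q ∈ J.minimalPrimes := hqP ▸ hP
  -- `q` lies over `p`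
  have hover : q.LiesOver p := by
    have hle : p ≤ q.under R := fun r hr => hJq (Ideal.mem_map_of_mem _ hr)
    haveI : q.LiesOver (q.under R) := ⟨rfl⟩
    obtain ⟨Q, hQq, hQ, hQp⟩ := Ideal.exists_ideal_le_liesOver_of_le q hle
    have : q ≤ Q := hqmin.2 ⟨hQ, Ideal.map_le_iff_le_comap.mpr hQp.over.le⟩ hQq
    rw [le_antisymm this hQq]
    exact hQp
  -- dimension one
  have hht : q.height = 1 := by
    have hJq' : q.map (Ideal.Quotient.mk J) ∈ minimalPrimes (Rh ⧸ J) := by
      have h2 : RingHom.ker (Ideal.Quotient.mk J) ≤ q := by rw [Ideal.mk_ker]; exact hJq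
      haveI := Ideal.map_isPrime_of_surjective Ideal.Quotient.mk_surjective h2
      refine ⟨⟨this, bot_le⟩, fun Q hQ hle => ?_⟩
      have h1 : q ≤ Q.comap (Ideal.Quotient.mk J) := hqmin.2
        ⟨hQ.1.comap _, fun r hr => by
          rw [Ideal.mem_comap, Ideal.Quotient.eq_zero_iff_mem.mpr hr]; exact Q.zero_mem⟩
        ((Ideal.comap_mono hle).trans (by
          rw [Ideal.comap_map_of_surjective _ Ideal.Quotient.mk_surjective, sup_le_iff]
          exact ⟨le_rfl, by rw [← RingHom.ker_eq_comap_bot]; exact h2⟩))
      exact Ideal.map_le_iff_le_comap.mpr h1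
    haveI := hJq'.1.1
    have h3 : p.height = 1 := by
      have h4 := IsLocalization.AtPrime.ringKrullDim_eq_height p (Localization.AtPrime p)
      rw [IsDiscreteValuationRing.ringKrullDim_eq_one] at h4
      exact_mod_cast h4.symm
    haveI := hover
    rw [Ideal.height_eq_height_add_of_liesOver_of_hasGoingDown p q, h3,
      Ideal.height_eq_zero_iff.mpr hJq', add_zero]
  -- the maximal ideal of the localization
  let S := Localization.AtPrime q
  haveI : IsNoetherianRing S := IsLocalization.isNoetherianRing q.primeCompl S inferInstance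
  have hdim : ringKrullDim S = 1 := by
    rw [IsLocalization.AtPrime.ringKrullDim_eq_height q S, hht]
    rfl
  let φ : Localization.AtPrime p →+* S := Localization.localRingHom p q (algebraMap R Rh) hover.over
  have hJS : IsLocalRing.maximalIdeal S = J.map (algebraMap Rh S) := by
    refine le_antisymm ?_ ((Ideal.map_mono hJq).trans (le_of_eq (IsLocalization.AtPrime.map_eq_maximalIdeal q S)))
    conv_rhs => rw [← hrad, IsLocalization.map_radical q.primeCompl]
    rw [Ideal.radical_eq_sInf]
    refine le_sInf fun Q hQ => ?_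
    haveI := hQ.2
    have hc : Q.comap (algebraMap Rh S) ≤ q :=
      (Ideal.comap_mono (IsLocalRing.le_maximalIdeal hQ.2.ne_top)).trans
        (le_of_eq Localization.AtPrime.comap_maximalIdeal)
    have h1 : q ≤ Q.comap (algebraMap Rh S) :=
      hqmin.2 ⟨hQ.2.comap _, Ideal.map_le_iff_le_comap.mp hQ.1⟩ hc
    rw [← IsLocalization.AtPrime.map_eq_maximalIdeal q S]
    exact Ideal.map_le_iff_le_comap.mpr h1
  obtain ⟨π, hπ⟩ := (IsPrincipalIdealRing.principal (IsLocalRing.maximalIdeal (Localization.AtPrime p))).1
  have hprinc : IsLocalRing.maximalIdeal S = Ideal.span {φ π} := by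
    rw [hJS, Ideal.map_map,
      show (algebraMap Rh S).comp (algebraMap R Rh) = φ.comp (algebraMap R (Localization.AtPrime p)) from
        RingHom.ext fun r => (Localization.localRingHom_to_map p q (algebraMap R Rh) hover.over r).symm,
      ← Ideal.map_map, IsLocalization.AtPrime.map_eq_maximalIdeal p (Localization.AtPrime p), hπ,
      ← Ideal.span, Ideal.map_span, Set.image_singleton]
  haveI : IsRegularLocalRing S := by
    refine IsRegularLocalRing.of_spanFinrank_maximalIdeal_le S ?_
    rw [hdim, hprinc]
    exact_mod_cast (Submodule.spanFinrank_span_le_ncard_of_finite (Set.finite_singleton _)).trans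
      (le_of_eq (Set.ncard_singleton _))
  exact (GrothLib.AdicExtra.exists_dvr_iff_regular_dim_one (A := S)).mpr ⟨inferInstance, hdim⟩

end Groth.Agent.S9439
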