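import Groth.Statements.S9443
import Groth.Agent.Lib.RegLoc.PowerSeries
-- import your own Groth.Agent.* helpers here

set_option autoImplicit false
universe u
open CAlg

namespace Groth.Agent.S9443

/-- A complete regular local ring R with a coefficient field k (a subfield mapping isomorphically onto
the residue field) is k-isomorphic to a power series ring over k in finitely many variables
(existence of an isomorphism only; the number of variables is then the dimension of R). -/
theorem result (R : Type u)
    [CommRing R] [IsRegularLocalRing R] [IsAdicComplete (IsLocalRing.maximalIdeal R) R]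
    (k : Type u) [Field k] [Algebra k R]
    (hk : Function.Bijective (algebraMap k (IsLocalRing.ResidueField R))) :
    ∃ d : ℕ, Nonempty (R ≃ₐ[k] MvPowerSeries (Fin d) k) := by
  obtain ⟨b, hb⟩ := GrothLib.RegLoc.exists_generators_fin (IsLocalRing.maximalIdeal R)
  obtain ⟨ψ, hψ⟩ := GrothLib.RegLoc.PS.exists_algHom (A := k) (IsLocalRing.maximalIdeal R) b
    (fun i => hb ▸ Ideal.subset_span ⟨i, rfl⟩)
  have hres : Function.Surjective ((IsLocalRing.residue R).comp (algebraMap k R)) := fun r => by
    obtain ⟨c, hc⟩ := hk.2 r
    exact ⟨c, hc ▸ (IsScalarTower.algebraMap_apply k R (IsLocalRing.ResidueField R) c).symm⟩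
  have hgen : Ideal.span (Set.range fun i => ψ (MvPowerSeries.X i)) =
      IsLocalRing.maximalIdeal R := by
    simp only [hψ]; exact hb
  exact ⟨_, ⟨(AlgEquiv.ofBijective ψ ⟨GrothLib.RegLoc.PS.injective ψ hgen rfl,
    GrothLib.RegLoc.PS.surjective hres ψ hgen⟩).symm⟩⟩

end Groth.Agent.S9443
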