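import Groth.Statements.S9444
import Groth.Agent.Lib.CoeffField.Basic
import Groth.Agent.Lib.RegLoc.PowerSeries
-- import your own Groth.Agent.* helpers here

set_option autoImplicit false
universe u
open CAlg

namespace Groth.Agent.S9444

/-- A complete regular local ring containing a field (that is, containing the prime field F_p or ℚ) is
isomorphic to a power series ring in finitely many variables over its residue field (existence of an
isomorphism only). -/
theorem result (R : Type u)
    [CommRing R] [IsRegularLocalRing R] [IsAdicComplete (IsLocalRing.maximalIdeal R) R]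
    (k₀ : Type u) [Field k₀] [Algebra k₀ R] :
    ∃ d : ℕ, Nonempty (R ≃+* MvPowerSeries (Fin d) (IsLocalRing.ResidueField R)) := by
  obtain ⟨s, hs⟩ := GrothLib.CoeffField.exists_coefficientField k₀ R
  let _ : Algebra (IsLocalRing.ResidueField R) R := s.toAlgebra
  obtain ⟨z, hz⟩ := GrothLib.RegLoc.exists_generators_fin (IsLocalRing.maximalIdeal R)
  have hR : Function.Surjective ((IsLocalRing.residue R).comp
      (algebraMap (IsLocalRing.ResidueField R) R)) := fun x => ⟨x, RingHom.congr_fun hs x⟩
  obtain ⟨ψ, hψ⟩ := GrothLib.RegLoc.PS.exists_algHom (A := IsLocalRing.ResidueField R)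
    (IsLocalRing.maximalIdeal R) z (fun i => hz ▸ Ideal.subset_span ⟨i, rfl⟩)
  have hsp : Ideal.span (Set.range fun i => ψ (MvPowerSeries.X i)) = IsLocalRing.maximalIdeal R := by
    rw [funext hψ]; exact hz
  exact ⟨_, ⟨(RingEquiv.ofBijective ψ.toRingHom
    ⟨GrothLib.RegLoc.PS.injective ψ hsp rfl,
      GrothLib.RegLoc.PS.surjective hR ψ hsp⟩).symm⟩⟩

end Groth.Agent.S9444
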