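import Groth.Statements.S9445
import Mathlib
import Groth.Agent.Lib.PrincipalParts.Etale

set_option autoImplicit false
universe u
open CAlg

namespace Groth.Agent.S9445

open scoped TensorProduct in
open GrothLib.PPEtale in
theorem aux (R S S' : Type u) [CommRing R] [CommRing S] [Algebra R S] [CommRing S'] [Algebra R S']
    [Algebra S S'] [IsScalarTower R S S'] [Algebra.FormallyEtale S S'] (k : ℕ) :
    Function.Bijective (Ideal.quotientMap (KaehlerDifferential.ideal R S' ^ (k + 1))
      (Algebra.TensorProduct.map (AlgHom.id S' S') (IsScalarTower.toAlgHom R S S')).toRingHom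
      (Ideal.le_comap_pow
        (Algebra.TensorProduct.map (AlgHom.id S' S') (IsScalarTower.toAlgHom R S S')).toRingHom
        (K := KaehlerDifferential.ideal R S') (k + 1))) := by
  set π := Ideal.quotientMap (KaehlerDifferential.ideal R S' ^ (k + 1))
      (Algebra.TensorProduct.map (AlgHom.id S' S') (IsScalarTower.toAlgHom R S S')).toRingHom
      (Ideal.le_comap_pow
        (Algebra.TensorProduct.map (AlgHom.id S' S') (IsScalarTower.toAlgHom R S S')).toRingHom
        (K := KaehlerDifferential.ideal R S') (k + 1))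
  obtain ⟨g, hgS, hgN⟩ := exists_etale_section (R := R) (S := S) (S' := S') k
  have hπ : ∀ z, π (Ideal.Quotient.mk _ z) = Ideal.Quotient.mk _
      (Algebra.TensorProduct.map (AlgHom.id S' S') (IsScalarTower.toAlgHom R S S') z) := fun z => rfl
  let l : S' →ₐ[R] (S' ⊗[R] S) ⧸ bigI R S S' ^ (k + 1) :=
    (Ideal.Quotient.mkₐ R _).comp Algebra.TensorProduct.includeLeft
  let θ₀ : S' ⊗[R] S' →ₐ[R] (S' ⊗[R] S) ⧸ bigI R S S' ^ (k + 1) :=
    Algebra.TensorProduct.lift l g (fun _ _ => Commute.all _ _)
  have hθ : ∀ b c, θ₀ (b ⊗ₜ[R] c) = Ideal.Quotient.mk _ (b ⊗ₜ[R] (1 : S)) * g c := fun b c => rfl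
  have hle : ∀ z ∈ KaehlerDifferential.ideal R S' ^ (k + 1), θ₀ z = 0 := by
    intro z hz
    have h1 : (KaehlerDifferential.ideal R S').map θ₀.toRingHom ≤
        (bigI R S S').map (Ideal.Quotient.mk (bigI R S S' ^ (k + 1))) := by
      rw [← KaehlerDifferential.span_range_eq_ideal, Ideal.map_span, Ideal.span_le]
      rintro _ ⟨_, ⟨b, rfl⟩, rfl⟩
      show θ₀ _ ∈ _
      rw [map_sub, hθ, hθ, map_one, mul_one, ← Algebra.TensorProduct.one_def, map_one, one_mul]
      exact hgN b
    have h2 := Ideal.pow_right_mono (n := k + 1) h1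
    rw [← Ideal.map_pow, ← Ideal.map_pow, Ideal.map_quotient_self] at h2
    exact (Submodule.mem_bot _).1 (h2 (Ideal.mem_map_of_mem _ hz))
  let θ := Ideal.Quotient.lift (KaehlerDifferential.ideal R S' ^ (k + 1)) θ₀.toRingHom hle
  have hleft : ∀ z, θ (π (Ideal.Quotient.mk _ z)) = Ideal.Quotient.mk _ z := by
    intro z
    rw [hπ]
    show θ₀ _ = _
    induction z using TensorProduct.induction_on with
    | zero => simp
    | add a c ha hc => simp only [map_add, ha, hc]
    | tmul b s =>
      rw [Algebra.TensorProduct.map_tmul, hθ, AlgHom.id_apply, IsScalarTower.toAlgHom_apply, hgS,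
        ← map_mul, Algebra.TensorProduct.tmul_mul_tmul, mul_one, one_mul]
  refine Function.bijective_iff_has_inverse.2 ⟨θ, fun x => ?_, fun y => ?_⟩
  · obtain ⟨z, rfl⟩ := Ideal.Quotient.mk_surjective x
    exact hleft z
  · obtain ⟨z, rfl⟩ := Ideal.Quotient.mk_surjective y
    show π (θ₀ z) = _
    have key : ∀ c, π (g c) = Ideal.Quotient.mk _ ((1 : S') ⊗ₜ[R] c) := by
      let Q' := (S' ⊗[R] S') ⧸ KaehlerDifferential.ideal R S' ^ (k + 1)
      let mk' := Ideal.Quotient.mk (KaehlerDifferential.ideal R S' ^ (k + 1))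
      let algS : Algebra S Q' :=
        ((mk'.comp (Algebra.TensorProduct.includeRight (R := R) (A := S') (B := S')).toRingHom).comp
          (algebraMap S S')).toAlgebra
      letI := algS
      let N : Ideal Q' := (KaehlerDifferential.ideal R S').map mk'
      have hN : IsNilpotent N := ⟨k + 1, (Ideal.map_pow mk' _ _).symm.trans (Ideal.map_quotient_self _)⟩
      let g₁ : S' →ₐ[S] Q' := AlgHom.mk (π.comp g.toRingHom) (fun s => by
        show π (g (algebraMap S S' s)) = mk' ((1 : S') ⊗ₜ[R] algebraMap S S' s)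
        rw [hgS, hπ, Algebra.TensorProduct.map_tmul, AlgHom.id_apply, IsScalarTower.toAlgHom_apply])
      let g₂ : S' →ₐ[S] Q' := AlgHom.mk
        (mk'.comp (Algebra.TensorProduct.includeRight (R := R) (A := S') (B := S')).toRingHom)
        (fun s => rfl)
      have heq : g₁ = g₂ := by
        refine Algebra.FormallyUnramified.lift_unique N hN g₁ g₂ (AlgHom.ext fun c => ?_)
        show Ideal.Quotient.mk N (π (g c)) = Ideal.Quotient.mk N (mk' ((1 : S') ⊗ₜ[R] c))
        rw [Ideal.Quotient.eq]
        have h1 := Ideal.mem_map_of_mem π (hgN c)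
        rw [map_sub, hπ, Algebra.TensorProduct.map_tmul, AlgHom.id_apply, map_one] at h1
        have h2 : ((bigI R S S').map (Ideal.Quotient.mk (bigI R S S' ^ (k + 1)))).map π ≤ N := by
          rw [Ideal.map_map, Ideal.map_le_iff_le_comap]
          intro w hw
          show π (Ideal.Quotient.mk _ w) ∈ N
          rw [hπ]
          exact Ideal.mem_map_of_mem mk' hw
        have h3 : mk' ((1 : S') ⊗ₜ[R] c) - mk' (c ⊗ₜ[R] (1 : S')) ∈ N := by
          rw [← map_sub]
          exact Ideal.mem_map_of_mem mk' (KaehlerDifferential.one_smul_sub_smul_one_mem_ideal R c)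
        have := sub_mem (h2 h1) h3
        rwa [sub_sub_sub_cancel_right] at this
      exact fun c => AlgHom.congr_fun heq c
    induction z using TensorProduct.induction_on with
    | zero => show π (θ₀ 0) = Ideal.Quotient.mk _ 0; rw [map_zero, map_zero, map_zero]
    | add a c ha hc => simp only [map_add, ha, hc]
    | tmul b c =>
      rw [hθ, map_mul, key, hπ, Algebra.TensorProduct.map_tmul, AlgHom.id_apply, map_one, ← map_mul,
        Algebra.TensorProduct.tmul_mul_tmul, mul_one, one_mul]


open TensorProduct in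
/-- For ring maps R → S → S' with S → S' formally étale and k ≥ 0, let J' ⊆ S' ⊗_R S' be the kernel of
multiplication and I ⊆ S' ⊗_R S its preimage under the map induced by S → S' (I is the kernel of S'
⊗_R S → S', and (S' ⊗_R S)/I^{k+1} is S' ⊗_S P^k_{S/R}); then (S' ⊗_R S)/I^{k+1} → (S' ⊗_R
S')/J'^{k+1} is bijective. (The consequence S' ⊗_S Ω_{S/R} ≅ Ω_{S'/R} is Mathlib's
KaehlerDifferential.isBaseChange_of_formallyEtale.) -/
theorem result (R : Type u) [CommRing R]
    (S : Type u) [CommRing S] [Algebra R S] (S' : Type u) [CommRing S'] [Algebra R S']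
    [Algebra S S'] [IsScalarTower R S S'] [Algebra.FormallyEtale S S'] (k : ℕ) :
    Function.Bijective (Ideal.quotientMap (KaehlerDifferential.ideal R S' ^ (k + 1))
      (Algebra.TensorProduct.map (AlgHom.id S' S') (IsScalarTower.toAlgHom R S S')).toRingHom
      (Ideal.le_comap_pow
        (Algebra.TensorProduct.map (AlgHom.id S' S') (IsScalarTower.toAlgHom R S S')).toRingHom
        (K := KaehlerDifferential.ideal R S') (k + 1))) := by
  exact aux R S S' k

end Groth.Agent.S9445
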