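import Groth.Statements.S9446
import Mathlib.RingTheory.Smooth.IntegralClosure
import Mathlib.LinearAlgebra.TensorProduct.RightExactness
import Mathlib.RingTheory.FinitePresentation
-- import your own Groth.Agent.* helpers here

set_option autoImplicit false
universe u
open CAlg

namespace Groth.Agent.S9446
open TensorProduct

/-- If S is ind-smooth over R (every R-algebra map into S from a finitely presented R-algebra factors
through a smooth R-algebra) then for every R-algebra B the canonical map S ⊗_R A → A', from the base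
change of the integral closure A of R in B to the integral closure A' of S in S ⊗_R B, is bijective. -/
theorem result (R : Type u) [CommRing R] (S : Type u)
    [CommRing S] [Algebra R S] (hS : Smoothing.IndSmooth R S) (B : Type u) [CommRing B]
    [Algebra R B] : Function.Bijective (TensorProduct.toIntegralClosure R S B) := by
  classical
  have push : ∀ (D : Type u) [CommRing D] [Algebra R D] (A : Type u) [CommRing A] [Algebra R A],
      Algebra.FinitePresentation R A → ∀ (f : A →ₐ[R] S) (u : A ⊗[R] D),
      Algebra.TensorProduct.map f (AlgHom.id R D) u = 0 →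
      ∃ (C : Type u) (_ : CommRing C) (_ : Algebra R C), Algebra.Smooth R C ∧
        ∃ (g : A →ₐ[R] C) (h : C →ₐ[R] S), h.comp g = f ∧
          Algebra.TensorProduct.map g (AlgHom.id R D) u = 0 := by
    intro D _ _ A _ _ hA f u hu
    let _ : Algebra A S := f.toRingHom.toAlgebra
    have : IsScalarTower R A S := IsScalarTower.of_algebraMap_eq fun r => (f.commutes r).symm
    let P := MvPolynomial S A
    let π : P →ₐ[A] S := MvPolynomial.aeval id
    have hπ : Function.Surjective (π.restrictScalars R) := fun a => ⟨MvPolynomial.X a, MvPolynomial.aeval_X _ _⟩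
    let ιP : A →ₐ[R] P := IsScalarTower.toAlgHom R A P
    have hfac : (π.restrictScalars R).comp ιP = f := AlgHom.ext fun a => π.commutes a
    have hmem : Algebra.TensorProduct.map ιP (AlgHom.id R D) u ∈
        (RingHom.ker (π.restrictScalars R)).map
          (Algebra.TensorProduct.includeLeft : P →ₐ[R] P ⊗[R] D) := by
      rw [← Algebra.TensorProduct.rTensor_ker _ hπ, RingHom.mem_ker, ← AlgHom.comp_apply,
        ← Algebra.TensorProduct.map_comp, hfac, AlgHom.comp_id, hu]
    rw [Ideal.map] at hmem
    obtain ⟨T, hT, huT⟩ := Submodule.mem_span_finite_of_mem_span hmem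
    choose j hjker hj using fun (t : (T : Set (P ⊗[R] D))) => hT t.2
    let s : Finset S := T.attach.biUnion fun t => (j ⟨t.1, t.2⟩).vars
    let r : P →ₐ[A] MvPolynomial s A :=
      MvPolynomial.aeval fun a => if ha : a ∈ s then MvPolynomial.X ⟨a, ha⟩ else 0
    have hr : ∀ q : MvPolynomial s A, r (MvPolynomial.rename Subtype.val q) = q := fun q => by
      rw [show r (MvPolynomial.rename Subtype.val q) = MvPolynomial.aeval (R := A)
        ((fun a => if ha : a ∈ s then (MvPolynomial.X ⟨a, ha⟩ : MvPolynomial s A) else 0) ∘ Subtype.val) q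
        from MvPolynomial.aeval_rename _ _ q]
      rw [show ((fun a => if ha : a ∈ s then (MvPolynomial.X ⟨a, ha⟩ : MvPolynomial s A) else 0) ∘ Subtype.val)
        = MvPolynomial.X from funext fun a => dif_pos a.2, MvPolynomial.aeval_X_left_apply]
    let J : Ideal (MvPolynomial s A) := Ideal.span (Set.range fun t => r (j t))
    let A₂ := MvPolynomial s A ⧸ J
    have hrange : (Set.range fun t => r (j t)).Finite := Set.finite_range _
    have : Algebra.FinitePresentation A A₂ :=
      Algebra.FinitePresentation.quotient ⟨hrange.toFinset, by rw [Set.Finite.coe_toFinset]⟩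
    have hA₂ : Algebra.FinitePresentation R A₂ := Algebra.FinitePresentation.trans R A A₂
    have hval : ∀ t, MvPolynomial.aeval (R := A) (fun a : s => (a : S)) (r (j t)) = 0 := by
      intro t
      obtain ⟨q, hq⟩ := MvPolynomial.exists_rename_eq_of_vars_subset_range (j t)
        (Subtype.val : s → S) Subtype.val_injective (by
          intro a ha
          exact ⟨⟨a, Finset.mem_biUnion.2 ⟨⟨t.1, t.2⟩, Finset.mem_attach _ _, ha⟩⟩, rfl⟩)
      rw [← hq, hr]
      have h0 : π (j t) = 0 := RingHom.mem_ker.1 (hjker t)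
      rw [← hq] at h0
      rw [show π (MvPolynomial.rename Subtype.val q) = MvPolynomial.aeval (R := A) (fun a : s => (a : S)) q from
        MvPolynomial.aeval_rename _ _ q] at h0
      exact h0
    let f₂ : A₂ →ₐ[A] S := Ideal.Quotient.liftₐ J (MvPolynomial.aeval fun a : s => (a : S))
      (fun a ha => by
        have hle : J ≤ RingHom.ker (MvPolynomial.aeval (R := A) fun a : s => (a : S)) := by
          rw [Ideal.span_le]; rintro _ ⟨t, rfl⟩; exact RingHom.mem_ker.2 (hval t)
        exact RingHom.mem_ker.1 (hle ha))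
    obtain ⟨C, _, _, hC, g₂, h₂, hgh⟩ := hS A₂ hA₂ (f₂.restrictScalars R)
    let ι₂ : A →ₐ[R] A₂ := IsScalarTower.toAlgHom R A A₂
    refine ⟨C, inferInstance, inferInstance, hC, g₂.comp ι₂, h₂, ?_, ?_⟩
    · rw [← AlgHom.comp_assoc, hgh]
      exact AlgHom.ext fun a => f₂.commutes a
    · let q₂ : P →ₐ[R] A₂ := ((Ideal.Quotient.mkₐ A J).comp r).restrictScalars R
      have hq₂ : q₂.comp ιP = ι₂ := AlgHom.ext fun a => ((Ideal.Quotient.mkₐ A J).comp r).commutes a
      have h0 : Algebra.TensorProduct.map q₂ (AlgHom.id R D)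
          (Algebra.TensorProduct.map ιP (AlgHom.id R D) u) = 0 := by
        rw [← RingHom.mem_ker]
        refine (Ideal.span_le.2 fun t ht => ?_) huT
        rw [SetLike.mem_coe, RingHom.mem_ker]
        have h1 := hj ⟨t, ht⟩
        simp only at h1
        rw [← h1]
        show Algebra.TensorProduct.map q₂ (AlgHom.id R D) (j ⟨t, ht⟩ ⊗ₜ 1) = 0
        rw [Algebra.TensorProduct.map_tmul,
          show q₂ (j ⟨t, ht⟩) = 0 from
            Ideal.Quotient.eq_zero_iff_mem.2 (Ideal.subset_span ⟨⟨t, ht⟩, rfl⟩), zero_tmul]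
      rw [← AlgHom.comp_apply, ← Algebra.TensorProduct.map_comp, hq₂, AlgHom.comp_id] at h0
      rw [← AlgHom.comp_id (AlgHom.id R D), Algebra.TensorProduct.map_comp, AlgHom.comp_apply, h0, map_zero]
  let I := integralClosure R B
  have hval : ∀ {E : Type u} [CommRing E] [Algebra R E] (y : E ⊗[R] I),
      ((TensorProduct.toIntegralClosure R E B y : integralClosure E (E ⊗[R] B)) : E ⊗[R] B) =
        Algebra.TensorProduct.map (AlgHom.id R E) I.val y := by
    intro E _ _ y
    induction y using TensorProduct.induction_on with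
    | zero => simp
    | tmul a b => rfl
    | add a b ha hb => simp [map_add, ha, hb]
  have hnat : ∀ {E E' : Type u} [CommRing E] [Algebra R E] [CommRing E'] [Algebra R E']
      (φ : E →ₐ[R] E') (y : E ⊗[R] I),
      Algebra.TensorProduct.map φ (AlgHom.id R B) (Algebra.TensorProduct.map (AlgHom.id R E) I.val y) =
        Algebra.TensorProduct.map (AlgHom.id R E') I.val (Algebra.TensorProduct.map φ (AlgHom.id R I) y) := by
    intro E E' _ _ _ _ φ y
    induction y using TensorProduct.induction_on with
    | zero => simp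
    | tmul a b => simp
    | add a b ha hb => simp [map_add, ha, hb]
  constructor
  · rw [injective_iff_map_eq_zero]
    intro x hx
    obtain ⟨T, rfl⟩ := TensorProduct.exists_finset x
    let A := MvPolynomial T R
    let f : A →ₐ[R] S := MvPolynomial.aeval fun t : T => t.1.1
    let x' : A ⊗[R] I := ∑ t : T, MvPolynomial.X t ⊗ₜ t.1.2
    have hx' : Algebra.TensorProduct.map f (AlgHom.id R I) x' = ∑ i ∈ T, i.1 ⊗ₜ i.2 := by
      simp only [x', map_sum, Algebra.TensorProduct.map_tmul, AlgHom.id_apply]
      rw [← Finset.sum_coe_sort T (fun i => i.1 ⊗ₜ[R] i.2)]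
      exact Finset.sum_congr rfl fun t _ => by rw [show f (MvPolynomial.X t) = t.1.1 from MvPolynomial.aeval_X _ _]
    obtain ⟨C, _, _, hC, g, h, hgh, h0⟩ := push B A inferInstance f
      (Algebra.TensorProduct.map (AlgHom.id R A) I.val x') (by
        rw [hnat, hx', ← hval, hx]; rfl)
    have h1 : Algebra.TensorProduct.map g (AlgHom.id R I) x' = 0 := by
      refine (TensorProduct.toIntegralClosure_bijective_of_smooth (R := R) (S := C) (B := B)).1 ?_
      rw [map_zero]
      refine Subtype.ext ?_
      rw [hval, ← hnat, h0]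
      rfl
    rw [← hx', ← hgh, ← AlgHom.comp_id (AlgHom.id R I), Algebra.TensorProduct.map_comp,
      AlgHom.comp_apply, h1, map_zero]
  · rintro ⟨z, hz⟩
    obtain ⟨P, hPm, hPz⟩ := hz
    obtain ⟨T, rfl⟩ := TensorProduct.exists_finset z
    let n := P.natDegree
    let A := MvPolynomial (T ⊕ Fin n) R
    let f : A →ₐ[R] S := MvPolynomial.aeval (Sum.elim (fun t : T => t.1.1) fun i => P.coeff i)
    let z' : A ⊗[R] B := ∑ t : T, MvPolynomial.X (Sum.inl t) ⊗ₜ t.1.2
    let Φ := Algebra.TensorProduct.map f (AlgHom.id R B)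
    have hz' : Φ z' = ∑ i ∈ T, i.1 ⊗ₜ i.2 := by
      simp only [Φ, z', map_sum, Algebra.TensorProduct.map_tmul, AlgHom.id_apply]
      rw [← Finset.sum_coe_sort T (fun i => i.1 ⊗ₜ[R] i.2)]
      exact Finset.sum_congr rfl fun t _ => by
        rw [show f (MvPolynomial.X (Sum.inl t)) = t.1.1 from MvPolynomial.aeval_X _ _]
    let u : A ⊗[R] B := z' ^ n + ∑ i : Fin n, (MvPolynomial.X (Sum.inr i) ⊗ₜ 1) * z' ^ (i : ℕ)
    have hu : Φ u = 0 := by
      rw [← hPz, show P.eval₂ (algebraMap S (S ⊗[R] B)) (∑ i ∈ T, i.1 ⊗ₜ i.2) =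
        (∑ i ∈ T, i.1 ⊗ₜ[R] i.2) ^ n + ∑ i ∈ Finset.range n,
          algebraMap S (S ⊗[R] B) (P.coeff i) * (∑ i ∈ T, i.1 ⊗ₜ[R] i.2) ^ i from by
        conv_lhs => rw [hPm.as_sum]
        simp [n, Polynomial.eval₂_finsetSum]]
      simp only [u, map_add, map_pow, map_sum, map_mul, hz']
      congr 1
      rw [← Fin.sum_univ_eq_sum_range (fun i : ℕ =>
        algebraMap S (S ⊗[R] B) (P.coeff i) * (∑ i ∈ T, i.1 ⊗ₜ[R] i.2) ^ i)]
      refine Finset.sum_congr rfl fun i _ => ?_
      congr 1
      simp only [Φ, Algebra.TensorProduct.map_tmul, AlgHom.id_apply]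
      rw [show f (MvPolynomial.X (Sum.inr i)) = P.coeff i from MvPolynomial.aeval_X _ _]
      simp [Algebra.TensorProduct.algebraMap_apply]
    obtain ⟨C, _, _, hC, g, h, hgh, h0⟩ := push B A inferInstance f u hu
    let z'' := Algebra.TensorProduct.map g (AlgHom.id R B) z'
    let Q : Polynomial C := Polynomial.X ^ n +
      ∑ i : Fin n, Polynomial.C (g (MvPolynomial.X (Sum.inr i))) * Polynomial.X ^ (i : ℕ)
    have hint : IsIntegral C z'' := by
      refine ⟨Q, Polynomial.monic_X_pow_add (Polynomial.degree_sum_fin_lt _), ?_⟩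
      rw [← h0]
      simp [Q, u, z'', Polynomial.eval₂_finsetSum]
    obtain ⟨y, hy⟩ := (TensorProduct.toIntegralClosure_bijective_of_smooth (R := R) (S := C) (B := B)).2 ⟨z'', hint⟩
    refine ⟨Algebra.TensorProduct.map h (AlgHom.id R I) y, Subtype.ext ?_⟩
    rw [hval, ← hnat, ← hval, hy]
    show Algebra.TensorProduct.map h (AlgHom.id R B) z'' = _
    rw [← AlgHom.comp_apply, ← Algebra.TensorProduct.map_comp, hgh, AlgHom.comp_id]
    exact hz'

end Groth.Agent.S9446
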