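import Groth.Agent.Lib.AlgSp.FormalSmoothDescent
import Groth.Statements.S9447
-- import your own Groth.Agent.* helpers here

set_option autoImplicit false
universe u
open CAlg

namespace Groth.Agent.S9447

open TensorProduct in
/-- Formal smoothness descends along faithfully flat base change: for R → S arbitrary and R → R'
faithfully flat, the R-algebra S is formally smooth exactly when the R'-algebra R' ⊗_R S is formally
smooth. No finiteness hypothesis on S. -/
theorem result (R : Type u) [CommRing R]
    (S : Type u) [CommRing S] [Algebra R S] (R' : Type u) [CommRing R'] [Algebra R R']
    [Module.FaithfullyFlat R R'] :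
    Algebra.FormallySmooth R S ↔ Algebra.FormallySmooth R' (R' ⊗[R] S) := by
  exact ⟨fun _ => inferInstance, fun _ => GrothLib.AlgSp.formallySmooth_of_faithfullyFlat R S R'⟩

end Groth.Agent.S9447
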