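import Groth.Statements.S9448
import Groth.Agent.Lib.UnrMono.EtaleFieldMain

set_option autoImplicit false
universe u
open Unram

namespace Groth.Agent.S9448

/-- For a field k and a finite type algebra A over the polynomial ring k[x_1, …, x_n] (the variables
mapping to a_1, …, a_n), the structure map is étale if and only if (a) the local rings of A at all
maximal ideals have dimension n and (b) da_1, …, da_n generate the module of differentials of A over
k. -/
theorem result (k : Type u) [Field k] (n : ℕ)
    (A : Type u) [CommRing A] [Algebra k A] [Algebra (MvPolynomial (Fin n) k) A]
    [IsScalarTower k (MvPolynomial (Fin n) k) A] [Algebra.FiniteType (MvPolynomial (Fin n) k) A] :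
    Algebra.Etale (MvPolynomial (Fin n) k) A ↔
      (∀ (m : Ideal A) [m.IsMaximal], ringKrullDim (Localization.AtPrime m) = n) ∧
        Submodule.span A (Set.range fun i : Fin n =>
          KaehlerDifferential.D k A (algebraMap (MvPolynomial (Fin n) k) A (MvPolynomial.X i))) = ⊤ := by
  exact GrothLib.UnrMono.etale_iff k A n

end Groth.Agent.S9448
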