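import Groth.Statements.S9449
import Groth.Agent.Lib.EtLocal.Affine
-- import your own Groth.Agent.* helpers here

set_option autoImplicit false
set_option backward.isDefEq.respectTransparency false
universe u
open Unram

namespace Groth.Agent.S9449

open TensorProduct in
/-- For an unramified ring map R → S and a prime p of R there exist an étale R-algebra R', a prime p' of
R' lying over p and a decomposition R' ⊗_R S ≅ A_1 × ⋯ × A_n × B of R'-algebras with every R' → A_i
surjective, p'A_i a prime ideal of A_i whose preimage in R' is p', and no prime of B lying over p'. -/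
theorem result (R : Type u) [CommRing R]
    (S : Type u) [CommRing S] [Algebra R S] [Algebra.Unramified R S] (p : Ideal R) [p.IsPrime] :
    ∃ (R' : Type u) (_ : CommRing R') (_ : Algebra R R') (_ : Algebra.Etale R R') (p' : Ideal R')
      (_ : p'.IsPrime) (_ : p'.LiesOver p) (n : ℕ) (A : Fin n → Type u) (_ : ∀ i, CommRing (A i))
      (_ : ∀ i, Algebra R' (A i)) (B : Type u) (_ : CommRing B) (_ : Algebra R' B),
      Nonempty ((R' ⊗[R] S) ≃ₐ[R'] ((∀ i, A i) × B)) ∧
        (∀ i, Function.Surjective (algebraMap R' (A i)) ∧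
          (p'.map (algebraMap R' (A i))).IsPrime ∧
          (p'.map (algebraMap R' (A i))).comap (algebraMap R' (A i)) = p') ∧
        ∀ (q : Ideal B) [q.IsPrime], q.comap (algebraMap R' B) ≠ p' := by
  classical
  have hfin : (p.primesOver S).Finite := Algebra.QuasiFinite.finite_primesOver p
  haveI := hfin.to_subtype
  obtain ⟨m, ⟨em⟩⟩ := Finite.exists_equiv_fin (p.primesOver S)
  obtain ⟨R', i1, i2, i3, p', i4, i5, n, lab, e, P, hP, he, ho, hsurj, heP, hc, hq, -, hcov, -⟩ :=
    GrothLib.EtLocal.exists_etale_idempotents R S p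
      (fun i : Fin m => (⟨(em.symm i).1, (em.symm i).2.1⟩ : PrimeSpectrum S))
      (fun a b h => em.symm.injective (Subtype.ext (congrArg PrimeSpectrum.asIdeal h)))
      (fun i => (em.symm i).2.2.over.symm) (fun i => inferInstance)
  have hbij := GrothLib.EtLocal.piProdHom_bijective (R' := R') e he ho
  refine ⟨R', i1, i2, i3, p', i4, i5, n, _, fun _ => inferInstance, fun _ => inferInstance, _,
    inferInstance, inferInstance, ⟨AlgEquiv.ofBijective _ hbij⟩, fun k => ?_, fun q hq' hqp => ?_⟩
  · haveI := hP k
    obtain ⟨h1, h2, -⟩ := GrothLib.EtLocal.map_eq_map_mk (he k) (hsurj k) (heP k) (hc k)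
    exact ⟨hsurj k, h1, h2⟩
  · let Q := q.comap (Ideal.Quotient.mk (Ideal.span {∑ k, e k}))
    have hQp : Q.comap (algebraMap R' (R' ⊗[R] S)) = p' := by
      rw [Ideal.comap_comap, Ideal.Quotient.mk_comp_algebraMap]; exact hqp
    let J := Q.comap (Algebra.TensorProduct.includeRight : S →ₐ[R] R' ⊗[R] S).toRingHom
    have hJ : J ∈ p.primesOver S := ⟨inferInstance, ⟨by
      rw [i5.over, ← hQp]
      simp only [Ideal.under, J, Ideal.comap_comap]
      congr 1
      exact (RingHom.ext fun r => by simp).trans rfl⟩⟩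
    obtain ⟨k, -, hk⟩ := hcov Q hQp (em ⟨J, hJ⟩) (by simp [J])
    refine heP k ?_
    have hsum : ∑ l, e l ∈ P k := by
      rw [← hk]
      show Ideal.Quotient.mk _ _ ∈ q
      rw [Ideal.Quotient.eq_zero_iff_mem.mpr (Ideal.mem_span_singleton_self _)]
      exact q.zero_mem
    have hmul : e k * ∑ l, e l = e k := by
      rw [Finset.mul_sum, Finset.sum_eq_single k (fun l _ hl => ho k l hl.symm) (by simp), (he k).eq]
    rw [← hmul]
    exact (P k).mul_mem_left _ hsum

end Groth.Agent.S9449
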