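import Groth.Statements.S9450
import Groth.Agent.S9178
-- import your own Groth.Agent.* helpers here

set_option autoImplicit false
universe u
open CAlg

namespace Groth.Agent.S9450

/-- For ring maps A → B → C with A → C surjective and A → B formally smooth, writing I = ker(A → C) and
J = ker(B → C), the sequence 0 → I/I² → J/J² → C ⊗_B Ω_{B/A} → 0 is split exact: the first map is
injective and admits an A-linear retraction, its range is the kernel of the second map (class of x ↦
1 ⊗ dx), and the second map is surjective. -/
theorem result (A : Type u) [CommRing A]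
    (B : Type u) [CommRing B] [Algebra A B] [Algebra.FormallySmooth A B] (C : Type u) [CommRing C]
    [Algebra B C] [Algebra A C] [IsScalarTower A B C] (hC : Function.Surjective (algebraMap A C)) :
    Function.Injective (Ideal.mapCotangent (RingHom.ker (algebraMap A C))
        (RingHom.ker (algebraMap B C)) (Algebra.ofId A B)
        (le_of_eq (congrArg RingHom.ker (IsScalarTower.algebraMap_eq A B C)))) ∧
      (∃ r : (RingHom.ker (algebraMap B C)).Cotangent →ₗ[A] (RingHom.ker (algebraMap A C)).Cotangent,
        r ∘ₗ (Ideal.mapCotangent (RingHom.ker (algebraMap A C)) (RingHom.ker (algebraMap B C))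
          (Algebra.ofId A B)
          (le_of_eq (congrArg RingHom.ker (IsScalarTower.algebraMap_eq A B C)))) = LinearMap.id) ∧
      LinearMap.range (Ideal.mapCotangent (RingHom.ker (algebraMap A C))
          (RingHom.ker (algebraMap B C)) (Algebra.ofId A B)
          (le_of_eq (congrArg RingHom.ker (IsScalarTower.algebraMap_eq A B C)))) =
        LinearMap.ker ((KaehlerDifferential.kerCotangentToTensor A B C).restrictScalars A) ∧
      Function.Surjective (KaehlerDifferential.kerCotangentToTensor A B C) := by
  classical
  have hle := le_of_eq (congrArg RingHom.ker (IsScalarTower.algebraMap_eq A B C))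
  set I := RingHom.ker (algebraMap A C) with hIdef
  set J := RingHom.ker (algebraMap B C) with hJdef
  let q : (A ⧸ I ^ 2) →ₐ[A] C := Ideal.Quotient.liftₐ (I ^ 2) (Algebra.ofId A C)
    (fun a ha => RingHom.mem_ker.mp (Ideal.pow_le_self two_ne_zero ha))
  have hq : Function.Surjective q := fun c => by
    obtain ⟨a, rfl⟩ := hC c
    exact ⟨Ideal.Quotient.mk _ a, rfl⟩
  have hker : RingHom.ker (q : (A ⧸ I ^ 2) →+* C) = I.cotangentIdeal := by
    ext y
    obtain ⟨a, rfl⟩ := Ideal.Quotient.mk_surjective y
    rw [RingHom.mem_ker, Ideal.mk_mem_cotangentIdeal]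
    exact Iff.rfl
  have hnil : IsNilpotent (RingHom.ker (q : (A ⧸ I ^ 2) →+* C)) := ⟨2, by
    rw [hker, Ideal.zero_eq_bot]; exact I.cotangentIdeal_square⟩
  let g : B →ₐ[A] A ⧸ I ^ 2 := Algebra.FormallySmooth.liftOfSurjective (IsScalarTower.toAlgHom A B C) q hq hnil
  have hg : ∀ b, q (g b) = algebraMap B C b :=
    Algebra.FormallySmooth.liftOfSurjective_apply (IsScalarTower.toAlgHom A B C) q hq hnil
  have hgJ : ∀ x : J, g x.1 ∈ I.cotangentIdeal := fun x => by
    rw [← hker, RingHom.mem_ker]
    exact (hg x.1).trans (RingHom.mem_ker.mp x.2)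
  let r0 : J →ₗ[A] I.Cotangent :=
    { toFun := fun x => I.cotangentEquivIdeal.symm ⟨g x.1, hgJ x⟩
      map_add' := fun x y => by
        rw [← map_add]; congr 1; ext; exact map_add g _ _
      map_smul' := fun a x => by
        rw [RingHom.id_apply, ← map_smul]; congr 1; ext
        exact map_smul g a x.1 }
  let r : J.Cotangent →ₗ[A] I.Cotangent := Ideal.Cotangent.lift r0 (fun x y => by
    show I.cotangentEquivIdeal.symm ⟨g (x.1 * y.1), _⟩ = 0
    rw [LinearEquiv.map_eq_zero_iff]
    ext
    show g (x.1 * y.1) = 0
    rw [map_mul]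
    have := Ideal.mul_mem_mul (hgJ x) (hgJ y)
    rw [← sq, I.cotangentIdeal_square] at this
    exact this)
  have hr : r ∘ₗ Ideal.mapCotangent I J (Algebra.ofId A B) hle = LinearMap.id := by
    apply LinearMap.ext
    intro z
    obtain ⟨x, rfl⟩ := I.toCotangent_surjective z
    show I.cotangentEquivIdeal.symm ⟨g (algebraMap A B x.1), _⟩ = I.toCotangent x
    rw [LinearEquiv.symm_apply_eq]
    ext
    rw [Ideal.cotangentEquivIdeal_apply]
    exact (g.commutes x.1).trans rfl
  refine ⟨Function.LeftInverse.injective (g := r) (LinearMap.congr_fun hr), ⟨r, hr⟩, ?_, ?_⟩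
  · exact (LinearMap.exact_iff.mp (show Function.Exact (Ideal.mapCotangent I J (Algebra.ofId A B) hle)
      ((KaehlerDifferential.kerCotangentToTensor A B C).restrictScalars A) from
        Groth.Agent.S9178.result A B C hC hle)).symm
  · intro z
    have hBC : Function.Surjective (algebraMap B C) := fun c => by
      obtain ⟨a, ha⟩ := hC c
      exact ⟨algebraMap A B a, by rw [← IsScalarTower.algebraMap_apply, ha]⟩
    haveI : Subsingleton (Ω[C⁄A]) :=
      KaehlerDifferential.subsingleton_of_surjective A C hC
    exact (KaehlerDifferential.exact_kerCotangentToTensor_mapBaseChange A B C hBC z).mp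
      (Subsingleton.elim _ _)

end Groth.Agent.S9450
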