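import Groth.Statements.S9451
import Mathlib
import Groth.Agent.Lib.RingStage.Descent

set_option autoImplicit false
universe u
open CategoryTheory CategoryTheory.Limits TensorProduct
open CAlg

namespace Groth.Agent.S9451

open scoped GrothLib.RingStage


/-- Let (A_i) be a filtered system of rings with colimit A and B a smooth A-algebra. Then some stage A_i
carries a smooth A_i-algebra B_i with B isomorphic to A ⊗_{A_i} B_i as A-algebras (the base change
along the colimit map A_i → A; existence of an isomorphism). -/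
theorem result {I : Type u} [SmallCategory I] [IsFiltered I]
    (D : I ⥤ CommRingCat.{u}) (c : Cocone D) (hc : IsColimit c) (B : Type u) [CommRing B]
    [Algebra c.pt B] [Algebra.Smooth c.pt B] :
    ∃ (i : I) (Bi : Type u) (_ : CommRing Bi) (_ : Algebra (D.obj i) Bi),
      Algebra.Smooth (D.obj i) Bi ∧
      (letI : Algebra (D.obj i) c.pt := (c.ι.app i).hom.toAlgebra
       Nonempty (B ≃ₐ[c.pt] (c.pt ⊗[D.obj i] Bi))) := by
  have hct := isColimitOfPreserves (forget CommRingCat.{u}) hc
  haveI : Nonempty I := IsFiltered.nonempty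
  have hnat : ∀ {i j : I} (φ : i ⟶ j) (x : D.obj i), (c.ι.app j).hom ((D.map φ).hom x) = (c.ι.app i).hom x :=
    fun φ x => ConcreteCategory.congr_hom (c.w φ) x
  refine GrothLib.RingStage.exists_stage_smooth (G := fun i => (D.obj i : Type u))
    (A := c.pt) (g := fun i => (c.ι.app i).hom) ⟨inferInstance, ?_, ?_, ?_⟩ B
  · intro i i'
    refine ⟨IsFiltered.max i i', GrothLib.RingStage.toUliftInt (D.map (IsFiltered.leftToMax i i')).hom,
      GrothLib.RingStage.toUliftInt (D.map (IsFiltered.rightToMax i i')).hom, ?_, ?_⟩ <;>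
      exact AlgHom.ext fun x => hnat _ x
  · intro a
    obtain ⟨i, x, hx⟩ := Types.jointly_surjective _ hct a
    exact ⟨i, x, hx⟩
  · intro i x hx
    obtain ⟨k, φ, φ', hk⟩ := (Types.FilteredColimit.isColimit_eq_iff _ hct (xi := x)
      (xj := (0 : D.obj i))).1 (hx.trans (map_zero (c.ι.app i).hom).symm)
    refine ⟨IsFiltered.coeq φ φ', GrothLib.RingStage.toUliftInt
      (D.map (φ ≫ IsFiltered.coeqHom φ φ')).hom, AlgHom.ext fun y => hnat _ y, ?_⟩
    show (D.map (φ ≫ IsFiltered.coeqHom φ φ')).hom x = 0
    have hk' : (D.map φ).hom x = (D.map φ').hom 0 := hk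
    rw [D.map_comp, CommRingCat.hom_comp, RingHom.comp_apply, hk', map_zero, map_zero]

end Groth.Agent.S9451
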