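import Groth.Statements.S9452
import Groth.Agent.Lib.EtLocal.Affine
-- import your own Groth.Agent.* helpers here

set_option autoImplicit false
set_option backward.isDefEq.respectTransparency false
universe u
open Unram

namespace Groth.Agent.S9452

open TensorProduct in
/-- Let R → S be of finite type and unramified at a prime q lying over p. Then there are an étale
R-algebra R', a prime p' of R' over p and an R'-algebra isomorphism e : R' ⊗_R S ≅ A × B with R' → A
surjective and p'A a prime ideal of A lying over p' whose pull-back along S → R' ⊗_R S ≅ A × B → A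
is q. -/
theorem result (R : Type u) [CommRing R]
    (S : Type u) [CommRing S] [Algebra R S] [Algebra.FiniteType R S] (q : Ideal S) [q.IsPrime]
    [Algebra.IsUnramifiedAt R q] :
    ∃ (R' : Type u) (_ : CommRing R') (_ : Algebra R R') (_ : Algebra.Etale R R') (p' : Ideal R')
      (_ : p'.IsPrime) (_ : p'.LiesOver (q.under R)) (A : Type u) (_ : CommRing A) (_ : Algebra R' A)
      (B : Type u) (_ : CommRing B) (_ : Algebra R' B) (e : (R' ⊗[R] S) ≃ₐ[R'] (A × B)),
      Function.Surjective (algebraMap R' A) ∧ (p'.map (algebraMap R' A)).IsPrime ∧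
        (p'.map (algebraMap R' A)).comap (algebraMap R' A) = p' ∧
        (p'.map (algebraMap R' A)).comap (((RingHom.fst A B).comp e.toRingHom).comp
          (Algebra.TensorProduct.includeRight : S →ₐ[R] R' ⊗[R] S).toRingHom) = q := by
  classical
  obtain ⟨R', i1, i2, i3, p', i4, i5, n, lab, e, P, hP, he, ho, hsurj, heP, hc, hq, -, -, hlab⟩ :=
    GrothLib.EtLocal.exists_etale_idempotents R S (q.under R) (fun _ : Unit => (⟨q, inferInstance⟩ : PrimeSpectrum S))
      (fun _ _ _ => rfl) (fun _ => rfl) (fun _ => inferInstance)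
  obtain ⟨k, -⟩ := hlab ()
  haveI := hP k
  have hbij := GrothLib.EtLocal.piProdHom_bijective (R' := R') (fun _ : Fin 1 => e k) (fun _ => he k)
    (fun a b h => absurd (Subsingleton.elim a b) h)
  let E := (AlgEquiv.ofBijective _ hbij).trans (AlgEquiv.prodCongr
    (AlgEquiv.funUnique R' (Fin 1) _) AlgEquiv.refl)
  obtain ⟨h1, h2, h3⟩ := GrothLib.EtLocal.map_eq_map_mk (he k) (hsurj k) (heP k) (hc k)
  refine ⟨R', i1, i2, i3, p', i4, i5, _, inferInstance, inferInstance, _, inferInstance, inferInstance,
    E, hsurj k, h1, h2, ?_⟩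
  refine Eq.trans ?_ (hq k)
  refine Eq.trans ?_ (congrArg (Ideal.comap _) h3)
  rw [Ideal.comap_comap]
  rfl

end Groth.Agent.S9452
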