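import Groth.Statements.S9456
import Groth.Agent.Lib.FlatModel.Descent
import Mathlib.RingTheory.IsTensorProduct
import Mathlib.RingTheory.FinitePresentation
import Mathlib.Algebra.Module.Torsion.Basic

set_option autoImplicit false
universe u
open CAlg

namespace Groth.Agent.S9456

set_option maxHeartbeats 800000

open TensorProduct MvPolynomial

attribute [local instance] MvPolynomial.algebraMvPolynomial

theorem isPushout_quot {m : ℕ} {R₃ R S : Type u} [CommRing R₃] [CommRing R] [CommRing S]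
    [Algebra R₃ R] [Algebra R S] [Algebra R₃ S] [IsScalarTower R₃ R S]
    (J : Ideal (MvPolynomial (Fin m) R₃)) (π : MvPolynomial (Fin m) R →ₐ[R] S)
    (hπ : Function.Surjective π)
    (hker : RingHom.ker π = J.map (MvPolynomial.map (algebraMap R₃ R)))
    [Algebra (MvPolynomial (Fin m) R₃ ⧸ J) S] [IsScalarTower R₃ (MvPolynomial (Fin m) R₃ ⧸ J) S]
    (hmk : ∀ p, algebraMap (MvPolynomial (Fin m) R₃ ⧸ J) S (Ideal.Quotient.mk J p) =
      π (MvPolynomial.map (algebraMap R₃ R) p)) :
    Algebra.IsPushout R₃ R (MvPolynomial (Fin m) R₃ ⧸ J) S := by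
  letI : Algebra (MvPolynomial (Fin m) R) S := π.toRingHom.toAlgebra
  haveI : IsScalarTower R (MvPolynomial (Fin m) R) S :=
    IsScalarTower.of_algebraMap_eq fun r => (π.commutes r).symm
  letI : Algebra (MvPolynomial (Fin m) R₃) S :=
    ((algebraMap (MvPolynomial (Fin m) R₃ ⧸ J) S).comp (Ideal.Quotient.mk J)).toAlgebra
  haveI : IsScalarTower (MvPolynomial (Fin m) R₃) (MvPolynomial (Fin m) R₃ ⧸ J) S := ⟨fun p y x => by
    obtain ⟨q, rfl⟩ := Ideal.Quotient.mk_surjective y
    rw [Algebra.smul_def, Algebra.smul_def, Algebra.smul_def (Ideal.Quotient.mk J q) x]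
    show algebraMap (MvPolynomial (Fin m) R₃ ⧸ J) S (Ideal.Quotient.mk J (p * q)) * x =
      algebraMap (MvPolynomial (Fin m) R₃ ⧸ J) S (Ideal.Quotient.mk J p) *
        (algebraMap (MvPolynomial (Fin m) R₃ ⧸ J) S (Ideal.Quotient.mk J q) * x)
    rw [map_mul, map_mul, mul_assoc]⟩
  haveI : IsScalarTower (MvPolynomial (Fin m) R₃) (MvPolynomial (Fin m) R) S :=
    IsScalarTower.of_algebraMap_eq fun p => hmk p
  haveI : IsScalarTower R₃ (MvPolynomial (Fin m) R₃) S := IsScalarTower.of_algebraMap_eq fun r => by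
    rw [IsScalarTower.algebraMap_apply R₃ (MvPolynomial (Fin m) R₃ ⧸ J) S]
    rfl
  let φ := Ideal.quotEquivOfEq (hker.symm) |>.trans (RingHom.quotientKerEquivOfSurjective hπ)
  let e : MvPolynomial (Fin m) R ⊗[MvPolynomial (Fin m) R₃] (MvPolynomial (Fin m) R₃ ⧸ J)
      ≃ₗ[MvPolynomial (Fin m) R] S :=
    (Algebra.TensorProduct.quotIdealMapEquivTensorQuot (MvPolynomial (Fin m) R) J).symm.toLinearEquiv
      ≪≫ₗ AddEquiv.toLinearEquiv φ.toAddEquiv fun p x => by
        obtain ⟨x, rfl⟩ := Ideal.Quotient.mk_surjective x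
        show π (p * x) = π p * π x
        exact map_mul π p x
  have h2 : Algebra.IsPushout (MvPolynomial (Fin m) R₃) (MvPolynomial (Fin m) R)
      (MvPolynomial (Fin m) R₃ ⧸ J) S := by
    refine ⟨IsBaseChange.of_equiv e fun x => ?_⟩
    obtain ⟨p, rfl⟩ := Ideal.Quotient.mk_surjective x
    show φ ((Algebra.TensorProduct.quotIdealMapEquivTensorQuot (MvPolynomial (Fin m) R) J).symm
      ((1 : MvPolynomial (Fin m) R) ⊗ₜ Ideal.Quotient.mk J p)) = _
    refine Eq.trans ?_ (hmk p).symm
    refine (congrArg φ (Algebra.TensorProduct.quotIdealMapEquivTensorQuot_symm_tmul _ J _ p)).trans ?_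
    show π (p • (1 : MvPolynomial (Fin m) R)) = _
    rw [Algebra.smul_def, mul_one]
    rfl
  haveI : IsScalarTower R₃ (MvPolynomial (Fin m) R) S := IsScalarTower.of_algebraMap_eq fun r => by
    rw [IsScalarTower.algebraMap_apply R₃ R S, IsScalarTower.algebraMap_apply R₃ R (MvPolynomial (Fin m) R)]
    exact (π.commutes _).symm
  exact ((Algebra.IsPushout.comp_iff R₃ (MvPolynomial (Fin m) R₃) (R' := R)
    (S' := MvPolynomial (Fin m) R)).2 h2.symm).symm

theorem key (R : Type u) [CommRing R] (S : Type u) [CommRing S] [Algebra R S]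
    [Algebra.FinitePresentation R S] (M : Type u) [AddCommGroup M] [Module S M] [Module R M]
    [IsScalarTower R S M] [Module.FinitePresentation S M] [Module.Flat R M] :
    ∃ (R₀ : Type u) (_ : CommRing R₀) (_ : Algebra R₀ R) (S₀ : Type u) (_ : CommRing S₀)
      (_ : Algebra R₀ S₀) (_ : Algebra S₀ S) (_ : Algebra R₀ S) (_ : IsScalarTower R₀ R S)
      (_ : IsScalarTower R₀ S₀ S) (M₀ : Type u) (_ : AddCommGroup M₀) (_ : Module S₀ M₀)
      (_ : Module R₀ M₀) (_ : IsScalarTower R₀ S₀ M₀) (_ : Module S₀ M) (_ : IsScalarTower S₀ S M)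
      (f : M₀ →ₗ[S₀] M),
      Algebra.FiniteType ℤ R₀ ∧ Algebra.FiniteType R₀ S₀ ∧ Module.Finite S₀ M₀ ∧ Module.Flat R₀ M₀ ∧
        Algebra.IsPushout R₀ R S₀ S ∧ IsBaseChange S f := by
  obtain ⟨m, π, hπ, hker⟩ := ‹Algebra.FinitePresentation R S›.out
  letI : Algebra (MvPolynomial (Fin m) R) S := π.toRingHom.toAlgebra
  haveI : IsScalarTower R (MvPolynomial (Fin m) R) S :=
    IsScalarTower.of_algebraMap_eq fun r => (π.commutes r).symm
  letI : Module (MvPolynomial (Fin m) R) M :=
    Module.compHom M (algebraMap (MvPolynomial (Fin m) R) S)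
  haveI : IsScalarTower (MvPolynomial (Fin m) R) S M :=
    IsScalarTower.of_algebraMap_smul fun _ _ => rfl
  haveI : IsScalarTower R (MvPolynomial (Fin m) R) M := IsScalarTower.of_algebraMap_smul fun r x => by
    show π (algebraMap R (MvPolynomial (Fin m) R) r) • x = r • x
    rw [π.commutes, algebraMap_smul]
  haveI : Module.FinitePresentation (MvPolynomial (Fin m) R) S :=
    Module.finitePresentation_of_surjective (Algebra.linearMap (MvPolynomial (Fin m) R) S) hπ hker
  haveI : Module.FinitePresentation (MvPolynomial (Fin m) R) M :=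
    Module.FinitePresentation.trans (MvPolynomial (Fin m) R) M S
  obtain ⟨q, g, hg⟩ := Submodule.fg_iff_exists_fin_generating_family.1 hker
  have hg0 : ∀ j, π (g j) = 0 := fun j => RingHom.mem_ker.1
    ((hg.le : _ ≤ RingHom.ker π.toRingHom) (Submodule.subset_span ⟨j, rfl⟩))
  obtain ⟨R₃, _, _, hft, g₃, N, _, _, _, _, hfin, hflat, hg₃, hkill, ⟨eN⟩⟩ :=
    GrothLib.FlatModel.exists_flat_model M g fun j x => by
      show π (g j) • x = 0
      rw [hg0, zero_smul]
  let J := Ideal.span (Set.range g₃)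
  have hJ : RingHom.ker π = J.map (MvPolynomial.map (algebraMap R₃ R)) := by
    rw [Ideal.map_span, ← Set.range_comp]
    refine Eq.trans hg.symm ?_
    congr 2
    exact funext fun j => (hg₃ j).symm
  have hπJ : ∀ p ∈ J, (π.toRingHom.comp (MvPolynomial.map (algebraMap R₃ R))) p = 0 := fun p hp => by
    have : MvPolynomial.map (algebraMap R₃ R) p ∈ RingHom.ker π := hJ ▸ Ideal.mem_map_of_mem _ hp
    exact this
  letI algS : Algebra (MvPolynomial (Fin m) R₃ ⧸ J) S :=
    (Ideal.Quotient.lift J (π.toRingHom.comp (MvPolynomial.map (algebraMap R₃ R))) hπJ).toAlgebra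
  have hmk : ∀ p, algebraMap (MvPolynomial (Fin m) R₃ ⧸ J) S (Ideal.Quotient.mk J p) =
      π (MvPolynomial.map (algebraMap R₃ R) p) := fun p => rfl
  letI : Algebra R₃ S := ((algebraMap R S).comp (algebraMap R₃ R)).toAlgebra
  haveI : IsScalarTower R₃ R S := IsScalarTower.of_algebraMap_eq fun _ => rfl
  haveI : IsScalarTower R₃ (MvPolynomial (Fin m) R₃ ⧸ J) S :=
    IsScalarTower.of_algebraMap_eq fun r => by
      show algebraMap R S (algebraMap R₃ R r) =
        algebraMap (MvPolynomial (Fin m) R₃ ⧸ J) S (Ideal.Quotient.mk J (C r))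
      rw [hmk, MvPolynomial.map_C]
      exact (π.commutes _).symm
  have htor : Module.IsTorsionBySet (MvPolynomial (Fin m) R₃) N (J : Set _) := by
    rintro x ⟨p, hp⟩
    show p • x = 0
    induction hp using Submodule.span_induction with
    | mem y hy => obtain ⟨j, rfl⟩ := hy; exact hkill j x
    | zero => exact zero_smul _ x
    | add y z _ _ hy hz => rw [add_smul, hy, hz, add_zero]
    | smul c y _ hy => rw [smul_eq_mul, mul_smul, hy, smul_zero]
  letI : Module (MvPolynomial (Fin m) R₃ ⧸ J) N := htor.module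
  haveI : IsScalarTower (MvPolynomial (Fin m) R₃) (MvPolynomial (Fin m) R₃ ⧸ J) N :=
    htor.isScalarTower
  haveI : IsScalarTower R₃ (MvPolynomial (Fin m) R₃ ⧸ J) N := ⟨fun r y x => by
    obtain ⟨q, rfl⟩ := Ideal.Quotient.mk_surjective y
    show (r • q) • x = r • (q • x)
    exact smul_assoc r q x⟩
  haveI : Module.Finite (MvPolynomial (Fin m) R₃ ⧸ J) N :=
    Module.Finite.of_restrictScalars_finite (MvPolynomial (Fin m) R₃) _ _
  letI : Module (MvPolynomial (Fin m) R₃ ⧸ J) M :=
    Module.compHom M (algebraMap (MvPolynomial (Fin m) R₃ ⧸ J) S)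
  haveI : IsScalarTower (MvPolynomial (Fin m) R₃ ⧸ J) S M :=
    IsScalarTower.of_algebraMap_smul fun _ _ => rfl
  letI : Module (MvPolynomial (Fin m) R₃) M :=
    Module.compHom M (algebraMap (MvPolynomial (Fin m) R₃) (MvPolynomial (Fin m) R))
  haveI : IsScalarTower (MvPolynomial (Fin m) R₃) (MvPolynomial (Fin m) R) M :=
    IsScalarTower.of_algebraMap_smul fun _ _ => rfl
  letI : Algebra (MvPolynomial (Fin m) R₃) S :=
    ((algebraMap (MvPolynomial (Fin m) R₃ ⧸ J) S).comp (Ideal.Quotient.mk J)).toAlgebra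
  haveI : IsScalarTower (MvPolynomial (Fin m) R₃) (MvPolynomial (Fin m) R₃ ⧸ J) S := ⟨fun p y x => by
    obtain ⟨q, rfl⟩ := Ideal.Quotient.mk_surjective y
    rw [Algebra.smul_def, Algebra.smul_def, Algebra.smul_def (Ideal.Quotient.mk J q) x]
    show algebraMap (MvPolynomial (Fin m) R₃ ⧸ J) S (Ideal.Quotient.mk J (p * q)) * x =
      algebraMap (MvPolynomial (Fin m) R₃ ⧸ J) S (Ideal.Quotient.mk J p) *
        (algebraMap (MvPolynomial (Fin m) R₃ ⧸ J) S (Ideal.Quotient.mk J q) * x)
    rw [map_mul, map_mul, mul_assoc]⟩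
  haveI : IsScalarTower (MvPolynomial (Fin m) R₃) (MvPolynomial (Fin m) R) S :=
    IsScalarTower.of_algebraMap_eq fun _ => rfl
  haveI : IsScalarTower (MvPolynomial (Fin m) R₃) (MvPolynomial (Fin m) R₃ ⧸ J) M := ⟨fun p y x => by
    obtain ⟨q, rfl⟩ := Ideal.Quotient.mk_surjective y
    show π (MvPolynomial.map (algebraMap R₃ R) (p * q)) • x =
      π (MvPolynomial.map (algebraMap R₃ R) p) • π (MvPolynomial.map (algebraMap R₃ R) q) • x
    rw [map_mul, map_mul, mul_smul]⟩
  let f : N →ₗ[MvPolynomial (Fin m) R₃] M :=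
    (eN.restrictScalars (MvPolynomial (Fin m) R₃)).toLinearMap ∘ₗ
      TensorProduct.mk (MvPolynomial (Fin m) R₃) (MvPolynomial (Fin m) R) N 1
  have hf : IsBaseChange (MvPolynomial (Fin m) R) f :=
    IsBaseChange.of_equiv eN fun x => rfl
  let f' : N →ₗ[MvPolynomial (Fin m) R₃ ⧸ J] M :=
    LinearMap.extendScalarsOfSurjective Ideal.Quotient.mk_surjective f
  have hpush := isPushout_quot J π hπ hJ hmk
  have hbc : IsBaseChange S f' := by
    haveI : IsScalarTower (MvPolynomial (Fin m) R₃) S M := IsScalarTower.of_algebraMap_smul fun p x => rfl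
    refine IsBaseChange.of_lift_unique f' fun Q _ _ _ _ l => ?_
    letI : Module (MvPolynomial (Fin m) R₃) Q :=
      Module.compHom Q (algebraMap (MvPolynomial (Fin m) R₃) S)
    letI : Module (MvPolynomial (Fin m) R) Q :=
      Module.compHom Q (algebraMap (MvPolynomial (Fin m) R) S)
    haveI : IsScalarTower (MvPolynomial (Fin m) R₃) (MvPolynomial (Fin m) R) Q :=
      IsScalarTower.of_algebraMap_smul fun p x => rfl
    haveI : IsScalarTower (MvPolynomial (Fin m) R₃) (MvPolynomial (Fin m) R₃ ⧸ J) Q := ⟨fun p y x => by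
      obtain ⟨q, rfl⟩ := Ideal.Quotient.mk_surjective y
      show Ideal.Quotient.mk J (p * q) • x =
        algebraMap (MvPolynomial (Fin m) R₃ ⧸ J) S (Ideal.Quotient.mk J p) • (Ideal.Quotient.mk J q • x)
      rw [algebraMap_smul, smul_smul, map_mul]⟩
    haveI : IsScalarTower (MvPolynomial (Fin m) R) S Q :=
      IsScalarTower.of_algebraMap_smul fun p x => rfl
    let l₀ : N →ₗ[MvPolynomial (Fin m) R₃] Q := l.restrictScalars (MvPolynomial (Fin m) R₃)
    refine ⟨LinearMap.extendScalarsOfSurjective (R := MvPolynomial (Fin m) R) (S := S)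
      hπ (hf.lift l₀), LinearMap.ext fun x => hf.lift_eq l₀ x, fun g' hg' => ?_⟩
    apply LinearMap.restrictScalars_injective (MvPolynomial (Fin m) R)
    refine hf.algHom_ext _ _ fun x => ?_
    exact (LinearMap.congr_fun hg' x).trans (hf.lift_eq l₀ x).symm
  exact ⟨R₃, inferInstance, inferInstance, MvPolynomial (Fin m) R₃ ⧸ J, inferInstance,
    inferInstance, algS, inferInstance, inferInstance, inferInstance, N, inferInstance,
    inferInstance, inferInstance, inferInstance, inferInstance, inferInstance, f', hft,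
    inferInstance, inferInstance, hflat, hpush, hbc⟩


/-- Let R → S be of finite presentation and M a finitely presented S-module which is flat over R. Then
the triple descends to a finite type ℤ-algebra: there are R₀ of finite type over ℤ with R₀ → R, a
finite type R₀-algebra S₀ with a compatible map S₀ → S making S the base change R ⊗_{R₀} S₀, and a
finite S₀-module M₀ flat over R₀ with an S₀-linear map M₀ → M making M the base change S ⊗_{S₀} M₀. -/
theorem result (R : Type u) [CommRing R]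
    (S : Type u) [CommRing S] [Algebra R S] [Algebra.FinitePresentation R S] (M : Type u)
    [AddCommGroup M] [Module S M] [Module R M] [IsScalarTower R S M]
    [Module.FinitePresentation S M] [Module.Flat R M] :
    ∃ (R₀ : Type u) (_ : CommRing R₀) (_ : Algebra R₀ R) (S₀ : Type u) (_ : CommRing S₀)
      (_ : Algebra R₀ S₀) (_ : Algebra S₀ S) (_ : Algebra R₀ S) (_ : IsScalarTower R₀ R S)
      (_ : IsScalarTower R₀ S₀ S) (M₀ : Type u) (_ : AddCommGroup M₀) (_ : Module S₀ M₀)
      (_ : Module R₀ M₀) (_ : IsScalarTower R₀ S₀ M₀) (_ : Module S₀ M) (_ : IsScalarTower S₀ S M)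
      (f : M₀ →ₗ[S₀] M),
      Algebra.FiniteType ℤ R₀ ∧ Algebra.FiniteType R₀ S₀ ∧ Module.Finite S₀ M₀ ∧ Module.Flat R₀ M₀ ∧
        Algebra.IsPushout R₀ R S₀ S ∧ IsBaseChange S f := key R S M

end Groth.Agent.S9456
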