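import Groth.Statements.S9458
import Groth.Agent.Lib.Hensel.StrictPrimes

set_option autoImplicit false
set_option backward.isDefEq.respectTransparency false
universe u
open Hensel

namespace Groth.Agent.S9458

/-- Let R → S be of finite type and quasi-finite at a prime q lying over p, and let R_p^h, S_q^h be
henselizations of the local rings, S_q^h carrying the compatible R_p^h-algebra structure (the
canonical local map R_p^h → S_q^h). Then S_q^h is finite over R_p^h. (The published statement also
identifies S_q^h with a localization of R_p^h ⊗_{R_p} S_q; this row states only that S_q^h is finite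
over R_p^h.) -/
theorem result (R : Type u) [CommRing R] (S : Type u)
    [CommRing S] [Algebra R S] [Algebra.FiniteType R S] (p : Ideal R) [p.IsPrime] (q : Ideal S)
    [q.IsPrime] [q.LiesOver p] [Algebra.QuasiFiniteAt R q]
    (Rh : Type u) [CommRing Rh] [IsLocalRing Rh] [Algebra (Localization.AtPrime p) Rh]
    [IsLocalHom (algebraMap (Localization.AtPrime p) Rh)]
    [Hensel.IsHenselization (Localization.AtPrime p) Rh]
    (Sh : Type u) [CommRing Sh] [IsLocalRing Sh] [Algebra (Localization.AtPrime q) Sh]
    [IsLocalHom (algebraMap (Localization.AtPrime q) Sh)]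
    [Hensel.IsHenselization (Localization.AtPrime q) Sh]
    [Algebra (Localization.AtPrime p) (Localization.AtPrime q)]
    [IsScalarTower R (Localization.AtPrime p) (Localization.AtPrime q)]
    [Algebra Rh Sh] [Algebra (Localization.AtPrime p) Sh]
    [IsScalarTower (Localization.AtPrime p) Rh Sh]
    [IsScalarTower (Localization.AtPrime p) (Localization.AtPrime q) Sh] :
    Module.Finite Rh Sh := by
  haveI hA : Hensel.IsHenselization (Localization.AtPrime p) Rh := inferInstance
  haveI := GrothLib.Hensel.isLocalHom_algebraMap_localization p q
  haveI : IsLocalHom (algebraMap Rh Sh) :=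
    ((IsLocalRing.local_hom_TFAE (algebraMap Rh Sh)).out 2 0 rfl rfl).mp (by
      rw [← GrothLib.Hensel.IsHenselization.map_maximalIdeal (R := Localization.AtPrime p) (S := Rh),
        Ideal.map_map, ← IsScalarTower.algebraMap_eq,
        IsScalarTower.algebraMap_eq (Localization.AtPrime p) (Localization.AtPrime q) Sh]
      exact ((IsLocalRing.local_hom_TFAE _).out 0 2 rfl rfl).mp inferInstance)
  haveI : Algebra.EssFiniteType R (Localization.AtPrime q) := Algebra.EssFiniteType.comp R S _
  haveI : Algebra.EssFiniteType (Localization.AtPrime p) (Localization.AtPrime q) :=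
    Algebra.EssFiniteType.of_comp R _ _
  exact GrothLib.Hensel.finite_of_isHenselization (A := Localization.AtPrime p)
    (B := Localization.AtPrime q) (GrothLib.Hensel.indQuasiFinite_localization_of_quasiFiniteAt p q)

end Groth.Agent.S9458
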