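import Groth.Statements.S9465
import Mathlib
import Groth.Agent.Lib.PrincipalParts.Etale

set_option autoImplicit false
universe u
open Diff16

namespace Groth.Agent.S9465

open TensorProduct in
/-- Let R → S → S' be ring maps with S → S' formally étale, M, N modules over S and D : M → N a
differential operator of order at most k relative to R → S. Then D has exactly one extension to a
differential operator D' : S' ⊗_S M → S' ⊗_S N of order at most k relative to R → S', i.e. with D'(1
⊗ m) = 1 ⊗ D(m). (The published statement forms the base change of M over R rather than over S; with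
that reading uniqueness already fails for R the rationals, S = S' a polynomial ring in one variable,
M = N = S, D the identity and k = 1, and the published proof computes with the base change over S,
which is what this row uses. The published statement first identifies the base change to S' of the
module of principal parts of order k of M with that of S' ⊗_S M over R; this row states the
consequence for differential operators.) -/
theorem result (R S S' : Type u) [CommRing R]
    [CommRing S] [CommRing S'] [Algebra R S] [Algebra R S'] [Algebra S S'] [IsScalarTower R S S']
    [Algebra.FormallyEtale S S'] (M N : Type u) [AddCommGroup M] [Module S M] [Module R M]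
    [IsScalarTower R S M] [AddCommGroup N] [Module S N] [Module R N] [IsScalarTower R S N]
    (k : ℕ) (D : M →ₗ[R] N) (hD : Diff16.IsDiffOpLE R S M N k D) :
    ∃! D' : S' ⊗[S] M →ₗ[R] S' ⊗[S] N,
      Diff16.IsDiffOpLE R S' (S' ⊗[S] M) (S' ⊗[S] N) k D' ∧
        D' ∘ₗ (TensorProduct.mk S S' M 1).restrictScalars R =
          (TensorProduct.mk S S' N 1).restrictScalars R ∘ₗ D := by
  obtain ⟨D', h1, h2⟩ := GrothLib.PPEtale.exists_extension (S' := S') k
    ((TensorProduct.mk S S' N 1).restrictScalars R ∘ₗ D)
    (GrothLib.DiffOp.isDiffOpLE_comp (n' := 0) hD
      (GrothLib.DiffOp.isDiffOpLE_restrictScalars 0 (TensorProduct.mk S S' N 1)))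
  refine ⟨D', ⟨h1, LinearMap.ext h2⟩, fun D'' hD'' => ?_⟩
  refine sub_eq_zero.1 (GrothLib.PPEtale.eq_zero_of_comp_mk k (D'' - D')
    (GrothLib.DiffOp.isDiffOpLE_sub hD''.1 h1) fun m => ?_)
  rw [LinearMap.sub_apply, h2 m, sub_eq_zero]
  exact LinearMap.congr_fun hD''.2 m

end Groth.Agent.S9465
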