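import Groth.Statements.S9468
import Groth.Agent.Lib.Hensel.PrimeHull
-- import your own Groth.Agent.* helpers here

set_option autoImplicit false
universe u
open Hensel

namespace Groth.Agent.S9468

/-- Let R be a ring and p a prime of R. Consider pairs (S, q) with S an étale R-algebra and q a prime of
S lying over p such that κ(p) → κ(q) is bijective; a morphism of pairs is an R-algebra map pulling
the second prime back to the first. Then any two pairs admit morphisms of pairs to a common third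
pair. -/
theorem result (R : Type u) [CommRing R]
    (p : Ideal R) [p.IsPrime] (S₁ : Type u) [CommRing S₁] [Algebra R S₁] [Algebra.Etale R S₁] (q₁ : Ideal S₁) [q₁.IsPrime] (hq₁ : p = q₁.comap (algebraMap R S₁))
    (hq₁κ : Function.Bijective (Ideal.ResidueField.map p q₁ (algebraMap R S₁) hq₁))
    (S₂ : Type u) [CommRing S₂] [Algebra R S₂] [Algebra.Etale R S₂] (q₂ : Ideal S₂) [q₂.IsPrime] (hq₂ : p = q₂.comap (algebraMap R S₂))
    (hq₂κ : Function.Bijective (Ideal.ResidueField.map p q₂ (algebraMap R S₂) hq₂)) :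
    ∃ (S₃ : Type u) (_ : CommRing S₃) (_ : Algebra R S₃) (_ : Algebra.Etale R S₃) (q₃ : Ideal S₃)
      (_ : q₃.IsPrime) (hq₃ : p = q₃.comap (algebraMap R S₃)),
      Function.Bijective (Ideal.ResidueField.map p q₃ (algebraMap R S₃) hq₃) ∧
        ∃ (φ₁ : S₁ →ₐ[R] S₃) (φ₂ : S₂ →ₐ[R] S₃),
          q₃.comap φ₁.toRingHom = q₁ ∧ q₃.comap φ₂.toRingHom = q₂ := by
  obtain ⟨σ₁, hσ₁⟩ := GrothLib.Hensel.exists_point_of_bijective q₁ hq₁ hq₁κ
  obtain ⟨σ₂, hσ₂⟩ := GrothLib.Hensel.exists_point_of_bijective q₂ hq₂ hq₂κ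
  have : Algebra.Etale R (TensorProduct R S₁ S₂) := Algebra.Etale.comp R S₁ _
  let σ := Algebra.TensorProduct.productMap σ₁ σ₂
  have : (RingHom.ker σ.toRingHom).IsPrime := RingHom.ker_isPrime _
  refine ⟨TensorProduct R S₁ S₂, inferInstance, inferInstance, inferInstance, RingHom.ker σ.toRingHom,
    inferInstance, GrothLib.Hensel.comap_of_point σ rfl,
    GrothLib.Hensel.bijective_of_point σ _ rfl _, Algebra.TensorProduct.includeLeft,
    Algebra.TensorProduct.includeRight, ?_, ?_⟩
  · rw [← hσ₁]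
    ext x
    show σ (Algebra.TensorProduct.includeLeft x) = 0 ↔ σ₁ x = 0
    simp [σ]
  · rw [← hσ₂]
    ext x
    show σ (Algebra.TensorProduct.includeRight x) = 0 ↔ σ₂ x = 0
    simp [σ]
end Groth.Agent.S9468
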