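import Groth.Statements.S9469
import Groth.Agent.Lib.Hensel.PrimeHull
-- import your own Groth.Agent.* helpers here

set_option autoImplicit false
universe u
open Hensel

namespace Groth.Agent.S9469

/-- Let R be a ring and p a prime of R. Consider pairs (S, q) with S an étale R-algebra and q a prime of
S lying over p such that κ(p) → κ(q) is bijective; a morphism of pairs is an R-algebra map pulling
the second prime back to the first. Then any two parallel morphisms of pairs φ, ψ : (S₁, q₁) → (S₂,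
q₂) are coequalized by a morphism of pairs (S₂, q₂) → (S₃, q₃). -/
theorem result (R : Type u) [CommRing R]
    (p : Ideal R) [p.IsPrime] (S₁ : Type u) [CommRing S₁] [Algebra R S₁] [Algebra.Etale R S₁] (q₁ : Ideal S₁) [q₁.IsPrime] (hq₁ : p = q₁.comap (algebraMap R S₁))
    (hq₁κ : Function.Bijective (Ideal.ResidueField.map p q₁ (algebraMap R S₁) hq₁))
    (S₂ : Type u) [CommRing S₂] [Algebra R S₂] [Algebra.Etale R S₂] (q₂ : Ideal S₂) [q₂.IsPrime] (hq₂ : p = q₂.comap (algebraMap R S₂))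
    (hq₂κ : Function.Bijective (Ideal.ResidueField.map p q₂ (algebraMap R S₂) hq₂))
    (φ ψ : S₁ →ₐ[R] S₂) (hφ : q₂.comap φ.toRingHom = q₁) (hψ : q₂.comap ψ.toRingHom = q₁) :
    ∃ (S₃ : Type u) (_ : CommRing S₃) (_ : Algebra R S₃) (_ : Algebra.Etale R S₃) (q₃ : Ideal S₃)
      (_ : q₃.IsPrime) (hq₃ : p = q₃.comap (algebraMap R S₃)),
      Function.Bijective (Ideal.ResidueField.map p q₃ (algebraMap R S₃) hq₃) ∧
        ∃ χ : S₂ →ₐ[R] S₃, q₃.comap χ.toRingHom = q₂ ∧ χ.comp φ = χ.comp ψ := by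
  obtain ⟨σ₂, hσ₂⟩ := GrothLib.Hensel.exists_point_of_bijective q₂ hq₂ hq₂κ
  have hpt : σ₂.comp φ = σ₂.comp ψ := GrothLib.Hensel.point_eq_of_ker_eq _ _ (by
    rw [show RingHom.ker (σ₂.comp φ).toRingHom = q₁ by rw [← hφ, ← hσ₂]; rfl,
      show RingHom.ker (σ₂.comp ψ).toRingHom = q₁ by rw [← hψ, ← hσ₂]; rfl])
  obtain ⟨E, hE, hfg⟩ := GrothLib.Hensel.Nbhd.exists_away_equalize φ ψ σ₂ hpt
  let σ : Localization.Away E →ₐ[R] p.ResidueField :=
    IsLocalization.Away.liftAlgHom E (f := σ₂) (by rw [hE]; exact isUnit_one)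
  have : (RingHom.ker σ.toRingHom).IsPrime := RingHom.ker_isPrime _
  refine ⟨Localization.Away E, inferInstance, inferInstance, inferInstance, RingHom.ker σ.toRingHom,
    inferInstance, GrothLib.Hensel.comap_of_point σ rfl,
    GrothLib.Hensel.bijective_of_point σ _ rfl _, IsScalarTower.toAlgHom R S₂ _, ?_, ?_⟩
  · rw [← hσ₂]
    ext x
    show σ (algebraMap S₂ (Localization.Away E) x) = 0 ↔ σ₂ x = 0
    rw [show σ (algebraMap S₂ (Localization.Away E) x) = σ₂ x from IsLocalization.lift_eq _ _]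
  · refine AlgHom.ext fun x ↦ ?_
    refine (IsLocalization.Away.algebraMap_isUnit (S := Localization.Away E) E).mul_left_cancel ?_
    show algebraMap S₂ _ E * algebraMap S₂ _ (φ x) = algebraMap S₂ _ E * algebraMap S₂ _ (ψ x)
    rw [← map_mul, ← map_mul, hfg]
end Groth.Agent.S9469
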