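import Groth.Statements.S9470
import Groth.Agent.Lib.Hensel.PrimeHull
-- import your own Groth.Agent.* helpers here

set_option autoImplicit false
universe u
open Hensel

namespace Groth.Agent.S9470

/-- Let R be a ring, p a prime of R and R^h a henselization of the local ring R_p, regarded as an
R-algebra through R_p. For pairs (S, q) with S an étale R-algebra and q a prime of S over p such
that κ(p) → κ(q) is bijective: (a) there is exactly one R-algebra map f : S → R^h under which the
maximal ideal pulls back to q; (b) every element of R^h is f(s) for some such pair, map f and s ∈ S;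
(c) if such an f sends s to 0, then some R-algebra map S → S' to another such pair (S', q'), pulling
q' back to q, already sends s to 0. Together with filteredness of the category of pairs this
expresses that R^h is canonically the colimit of S over all pairs (S, q). (The published statement
also records the equal colimit of the local rings S_q.) -/
theorem result (R : Type u) [CommRing R]
    (p : Ideal R) [p.IsPrime] (Rh : Type u) [CommRing Rh] [IsLocalRing Rh]
    [Algebra (Localization.AtPrime p) Rh] [IsLocalHom (algebraMap (Localization.AtPrime p) Rh)]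
    [Hensel.IsHenselization (Localization.AtPrime p) Rh] [Algebra R Rh]
    [IsScalarTower R (Localization.AtPrime p) Rh] :
    (∀ (S : Type u) [CommRing S] [Algebra R S] [Algebra.Etale R S] (q : Ideal S) [q.IsPrime]
        (hq : p = q.comap (algebraMap R S)),
        Function.Bijective (Ideal.ResidueField.map p q (algebraMap R S) hq) →
          ∃! f : S →ₐ[R] Rh, (IsLocalRing.maximalIdeal Rh).comap f.toRingHom = q) ∧
    (∀ x : Rh, ∃ (S : Type u) (_ : CommRing S) (_ : Algebra R S) (_ : Algebra.Etale R S) (q : Ideal S)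
        (_ : q.IsPrime) (hq : p = q.comap (algebraMap R S)),
        Function.Bijective (Ideal.ResidueField.map p q (algebraMap R S) hq) ∧
          ∃ (f : S →ₐ[R] Rh) (s : S), (IsLocalRing.maximalIdeal Rh).comap f.toRingHom = q ∧ f s = x) ∧
    (∀ (S : Type u) [CommRing S] [Algebra R S] [Algebra.Etale R S] (q : Ideal S) [q.IsPrime]
        (hq : p = q.comap (algebraMap R S)),
        Function.Bijective (Ideal.ResidueField.map p q (algebraMap R S) hq) →
          ∀ (f : S →ₐ[R] Rh), (IsLocalRing.maximalIdeal Rh).comap f.toRingHom = q → ∀ s : S, f s = 0 →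
            ∃ (S' : Type u) (_ : CommRing S') (_ : Algebra R S') (_ : Algebra.Etale R S') (q' : Ideal S')
              (_ : q'.IsPrime) (hq' : p = q'.comap (algebraMap R S')),
              Function.Bijective (Ideal.ResidueField.map p q' (algebraMap R S') hq') ∧
                ∃ φ : S →ₐ[R] S', q'.comap φ.toRingHom = q ∧ φ s = 0) := by
  obtain ⟨e, he⟩ := GrothLib.Hensel.PrimeHull.exists_algEquiv p Rh
  have hker : ∀ (S : Type u) [CommRing S] [Algebra R S] [Algebra.Etale R S] (σ : S →ₐ[R] p.ResidueField),
      (IsLocalRing.maximalIdeal Rh).comap (e.toAlgHom.comp (GrothLib.Hensel.Hull.of σ)).toRingHom =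
        RingHom.ker σ.toRingHom := fun S _ _ _ σ ↦ by
    ext x
    show e (GrothLib.Hensel.Hull.of σ x) ∈ IsLocalRing.maximalIdeal Rh ↔ σ x = 0
    rw [he, ← AlgHom.comp_apply, GrothLib.Hensel.Hull.proj_comp_of]
  have huniq : ∀ (S : Type u) [CommRing S] [Algebra R S] [Algebra.Etale R S] (σ : S →ₐ[R] p.ResidueField)
      (f : S →ₐ[R] Rh), (IsLocalRing.maximalIdeal Rh).comap f.toRingHom = RingHom.ker σ.toRingHom →
        f = e.toAlgHom.comp (GrothLib.Hensel.Hull.of σ) := by
    intro S _ _ _ σ f hf
    let g : S →ₐ[R] GrothLib.Hensel.Hull R p.ResidueField := e.symm.toAlgHom.comp f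
    have hpt : GrothLib.Hensel.Hull.proj.comp g = σ := by
      refine GrothLib.Hensel.point_eq_of_ker_eq _ _ ?_
      rw [← hf]
      ext x
      show GrothLib.Hensel.Hull.proj (e.symm (f x)) = 0 ↔ f x ∈ IsLocalRing.maximalIdeal Rh
      rw [← he, e.apply_symm_apply]
    have : g = GrothLib.Hensel.Hull.of σ := by
      refine GrothLib.Hensel.algHom_eq_of_sub_mem
        (GrothLib.Hensel.Hull.ker_proj_le_jacobson (A := R) (C := p.ResidueField)) fun x ↦ ?_
      show GrothLib.Hensel.Hull.proj (g x - GrothLib.Hensel.Hull.of σ x) = 0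
      rw [map_sub, sub_eq_zero, ← AlgHom.comp_apply, hpt, ← AlgHom.comp_apply,
        GrothLib.Hensel.Hull.proj_comp_of]
    rw [← this]
    ext x
    simp [g]
  refine ⟨fun S _ _ _ q _ hq h ↦ ?_, fun x ↦ ?_, fun S _ _ _ q _ hq h f hf s hs ↦ ?_⟩
  · obtain ⟨σ, hσ⟩ := GrothLib.Hensel.exists_point_of_bijective q hq h
    exact ⟨_, (hker S σ).trans hσ, fun f hf ↦ huniq S σ f (hf.trans hσ.symm)⟩
  · obtain ⟨N, a, ha⟩ := GrothLib.Hensel.Hull.exists_ι (e.symm x)
    have : (RingHom.ker N.pt.toRingHom).IsPrime := RingHom.ker_isPrime _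
    refine ⟨N.Ring, inferInstance, inferInstance, inferInstance, RingHom.ker N.pt.toRingHom, inferInstance,
      GrothLib.Hensel.comap_of_point N.pt rfl, GrothLib.Hensel.bijective_of_point N.pt _ rfl _,
      e.toAlgHom.comp (GrothLib.Hensel.Hull.ι N), a, ?_, by simp [ha]⟩
    ext y
    show e (GrothLib.Hensel.Hull.ι N y) ∈ IsLocalRing.maximalIdeal Rh ↔ N.pt y = 0
    rw [he, GrothLib.Hensel.Hull.proj_ι]
  · obtain ⟨σ, hσ⟩ := GrothLib.Hensel.exists_point_of_bijective q hq h
    rw [huniq S σ f (hf.trans hσ.symm)] at hs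
    have h0 : GrothLib.Hensel.Hull.ι (GrothLib.Hensel.Nbhd.ofEtale S σ)
        (GrothLib.Hensel.Nbhd.ofEtaleEquiv S σ s) = 0 := e.injective (hs.trans (map_zero e).symm)
    obtain ⟨M, g, hg⟩ := GrothLib.Hensel.Hull.exists_map_eq_zero h0
    have : (RingHom.ker M.pt.toRingHom).IsPrime := RingHom.ker_isPrime _
    refine ⟨M.Ring, inferInstance, inferInstance, inferInstance, RingHom.ker M.pt.toRingHom, inferInstance,
      GrothLib.Hensel.comap_of_point M.pt rfl, GrothLib.Hensel.bijective_of_point M.pt _ rfl _,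
      g.map.comp (GrothLib.Hensel.Nbhd.ofEtaleEquiv S σ).toAlgHom, ?_, hg⟩
    rw [← hσ]
    ext y
    show M.pt (g.map (GrothLib.Hensel.Nbhd.ofEtaleEquiv S σ y)) = 0 ↔ σ y = 0
    rw [show M.pt (g.map (GrothLib.Hensel.Nbhd.ofEtaleEquiv S σ y)) = σ y from
      (AlgHom.congr_fun g.comp_pt _).trans (AlgHom.congr_fun (GrothLib.Hensel.Nbhd.ofEtale_pt S σ) y)]
end Groth.Agent.S9470
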