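import Groth.Statements.S9472
import Mathlib
import Groth.Agent.Lib.PrincipalParts.Etale

set_option autoImplicit false
universe u
open Diff16

namespace Groth.Agent.S9472

open scoped TensorProduct in
theorem aux {R S S' : Type u} [CommRing R] [CommRing S] [CommRing S'] [Algebra R S] [Algebra R S']
    [Algebra S S'] [IsScalarTower R S S'] {M N' : Type u} [AddCommGroup M] [Module S M] [Module R M]
    [IsScalarTower R S M] [AddCommGroup N'] [Module S' N'] [Module R N'] [IsScalarTower R S' N']
    [Module S N'] [IsScalarTower S S' N'] [IsScalarTower R S N'] (k : ℕ)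
    (D' : S' ⊗[S] M →ₗ[R] N') (hD' : Diff16.IsDiffOpLE R S' (S' ⊗[S] M) N' k D') :
    Diff16.IsDiffOpLE R S M N' k (D' ∘ₗ (TensorProduct.mk S S' M 1).restrictScalars R) := by
  induction k generalizing D' with
  | zero =>
    intro s m
    show D' (1 ⊗ₜ (s • m)) = s • D' (1 ⊗ₜ m)
    rw [TensorProduct.tmul_smul, ← algebraMap_smul S' s ((1 : S') ⊗ₜ[S] m), hD', algebraMap_smul]
  | succ k ih =>
    intro s
    have : Diff16.commutator R S M N' (D' ∘ₗ (TensorProduct.mk S S' M 1).restrictScalars R) s =
        (Diff16.commutator R S' (S' ⊗[S] M) N' D' (algebraMap S S' s)) ∘ₗ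
          (TensorProduct.mk S S' M 1).restrictScalars R := by
      refine LinearMap.ext fun m => ?_
      show D' (1 ⊗ₜ (s • m)) - s • D' (1 ⊗ₜ m) =
        D' (algebraMap S S' s • (1 ⊗ₜ m)) - algebraMap S S' s • D' (1 ⊗ₜ m)
      rw [algebraMap_smul, algebraMap_smul, TensorProduct.tmul_smul]
    rw [this]
    exact ih _ (hD' _)


open TensorProduct in
/-- Let R → S → S' be ring maps with S → S' formally étale, M an S-module and (P, D_u) a module of
principal parts of order k of M relative to R → S, i.e. D_u : M → P is a differential operator of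
order at most k through which every differential operator of order at most k from M to an S-module
factors by a unique S-linear map. If D_u' : S' ⊗_S M → S' ⊗_S P is a differential operator of order
at most k relative to R → S' with D_u'(1 ⊗ m) = 1 ⊗ D_u(m), then (S' ⊗_S P, D_u') is a module of
principal parts of order k of S' ⊗_S M relative to R → S'. (The published statement writes this as
an identification of S' ⊗_S P^k_{S/R}(M) with P^k_{S'/R}(M') and forms M' by base change over R
rather than over S; with base change over R the identification fails already for k = 0, R the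
rationals, S = S' a polynomial ring in one variable and M = S, and the published proof computes with
the base change over S, used here. Target modules are taken in one universe.) -/
theorem result (R S S' : Type u) [CommRing R]
    [CommRing S] [CommRing S'] [Algebra R S] [Algebra R S'] [Algebra S S'] [IsScalarTower R S S']
    [Algebra.FormallyEtale S S'] (M : Type u) [AddCommGroup M] [Module S M] [Module R M]
    [IsScalarTower R S M] (k : ℕ) (P : Type u) [AddCommGroup P] [Module S P] [Module R P]
    [IsScalarTower R S P] (Du : M →ₗ[R] P) (hDu : Diff16.IsDiffOpLE R S M P k Du)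
    (huniv : ∀ (N : Type u) [AddCommGroup N] [Module S N] [Module R N] [IsScalarTower R S N]
      (D : M →ₗ[R] N), Diff16.IsDiffOpLE R S M N k D → ∃! α : P →ₗ[S] N, α.restrictScalars R ∘ₗ Du = D)
    (Du' : S' ⊗[S] M →ₗ[R] S' ⊗[S] P) (hDu' : Diff16.IsDiffOpLE R S' (S' ⊗[S] M) (S' ⊗[S] P) k Du')
    (hext : Du' ∘ₗ (TensorProduct.mk S S' M 1).restrictScalars R =
      (TensorProduct.mk S S' P 1).restrictScalars R ∘ₗ Du) :
    ∀ (N' : Type u) [AddCommGroup N'] [Module S' N'] [Module R N'] [IsScalarTower R S' N']
      (D' : S' ⊗[S] M →ₗ[R] N'), Diff16.IsDiffOpLE R S' (S' ⊗[S] M) N' k D' →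
        ∃! α : S' ⊗[S] P →ₗ[S'] N', α.restrictScalars R ∘ₗ Du' = D' := by
  intro N' _ _ _ _ D' hD'
  letI : Module S N' := Module.compHom N' (algebraMap S S')
  haveI : IsScalarTower S S' N' := ⟨fun s c x => by rw [Algebra.smul_def, mul_smul]; rfl⟩
  haveI : IsScalarTower R S N' := ⟨fun r s x => by
    show algebraMap S S' (r • s) • x = r • algebraMap S S' s • x
    rw [Algebra.smul_def, map_mul, mul_smul, ← IsScalarTower.algebraMap_apply, algebraMap_smul]⟩
  have hD₀ : Diff16.IsDiffOpLE R S M N' k (D' ∘ₗ (TensorProduct.mk S S' M 1).restrictScalars R) :=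
    aux k D' hD'
  obtain ⟨α₀, hα₀, huniq⟩ := huniv N' _ hD₀
  let α : S' ⊗[S] P →ₗ[S'] N' := α₀.liftBaseChange S'
  have hα1 : ∀ p, α (1 ⊗ₜ p) = α₀ p := fun p => by simp [α]
  have hext' : ∀ m, Du' (1 ⊗ₜ m) = 1 ⊗ₜ Du m := fun m => LinearMap.congr_fun hext m
  refine ⟨α, ?_, fun β hβ => ?_⟩
  · refine sub_eq_zero.1 (GrothLib.PPEtale.eq_zero_of_comp_mk k _
      (GrothLib.DiffOp.isDiffOpLE_sub (GrothLib.DiffOp.isDiffOpLE_comp (n' := 0) hDu'
        (GrothLib.DiffOp.isDiffOpLE_restrictScalars 0 α)) hD') fun m => ?_)
    rw [LinearMap.sub_apply, LinearMap.comp_apply, hext' m, sub_eq_zero]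
    exact (hα1 _).trans (LinearMap.congr_fun hα₀ m)
  · have h0 : (β.restrictScalars S).comp (TensorProduct.mk S S' P 1) = α₀ := by
      refine huniq _ (LinearMap.ext fun m => ?_)
      show β (1 ⊗ₜ Du m) = D' (1 ⊗ₜ m)
      rw [← hext', ← hβ]
      rfl
    refine LinearMap.ext fun t => ?_
    induction t using TensorProduct.induction_on with
    | zero => simp
    | add p q hp hq => simp [hp, hq]
    | tmul b p =>
      rw [show b ⊗ₜ[S] p = b • ((1 : S') ⊗ₜ[S] p) by simp [TensorProduct.smul_tmul'], map_smul,
        map_smul, hα1]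
      exact congrArg (b • ·) (LinearMap.congr_fun h0 p)

end Groth.Agent.S9472
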