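import Groth.Statements.S9474
import Mathlib
import Groth.Agent.Lib.RingStage.Unramified

set_option autoImplicit false
universe u
open CAlg

namespace Groth.Agent.S9474

open TensorProduct in
/-- If R → S is unramified (of finite type with vanishing module of differentials), then there are a
finite type ℤ-algebra R₀, an unramified R₀-algebra S₀, a ring map R₀ → R, and a surjective R-algebra
map from R ⊗_{R₀} S₀ onto S. -/
theorem result (R : Type u) [CommRing R] (S : Type u)
    [CommRing S] [Algebra R S] [Algebra.Unramified R S] :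
    ∃ (R₀ : Type u) (_ : CommRing R₀) (_ : Algebra.FiniteType ℤ R₀) (S₀ : Type u) (_ : CommRing S₀)
      (_ : Algebra R₀ S₀) (_ : Algebra.Unramified R₀ S₀) (_ : Algebra R₀ R)
      (ψ : R ⊗[R₀] S₀ →ₐ[R] S), Function.Surjective ψ := by
  obtain ⟨S₁, _, _, φ, hφ, _, _⟩ := GrothLib.RingStage.exists_finitePresentation_cover R S
  obtain ⟨R₀, _, hR₀, S₀, _, _, _, _, _, ⟨e⟩⟩ := GrothLib.RingStage.exists_model_unramified R S₁
  exact ⟨R₀, inferInstance, hR₀, S₀, inferInstance, inferInstance, ⟨inferInstance, inferInstance⟩, inferInstance,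
    φ.comp e.toAlgHom, hφ.comp e.surjective⟩

end Groth.Agent.S9474
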