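import Groth.Statements.S9476
import Groth.Agent.LocFAdic21.Ess
-- import your own Groth.Agent.* helpers here

set_option autoImplicit false
universe u
open Pi1

namespace Groth.Agent.S9476

open AlgebraicGeometry CategoryTheory CategoryTheory.Limits in
/-- Let A be a Noetherian local ring with maximal ideal m and f an element of m. Assume that A is
complete for the (f)-adic topology, that f is not a zero divisor, that the local cohomology modules
H^1_m and H^2_m of A/fA are finitely generated over A, that purity holds for the local ring of A_f
at each of its maximal ideals, and that A itself satisfies purity. Then A/fA satisfies purity as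
well (a local ring; this is carried as an instance hypothesis). -/
theorem result (A : Type u) [CommRing A] [IsNoetherianRing A] [IsLocalRing A] (f : A) (hf : f ∈ IsLocalRing.maximalIdeal A)
    [IsAdicComplete (Ideal.span {f}) A] (hnz : f ∈ nonZeroDivisors A)
    (h1 : Module.Finite A (LocCoh.H (IsLocalRing.maximalIdeal A) 1 (A ⧸ Ideal.span {f})))
    (h2 : Module.Finite A (LocCoh.H (IsLocalRing.maximalIdeal A) 2 (A ⧸ Ideal.span {f})))
    (hp : ∀ P : Ideal (Localization.Away f), ∀ _ : P.IsMaximal, FEt.PurityHolds (Localization.AtPrime P))
    (hA : FEt.PurityHolds A) [IsLocalRing (A ⧸ Ideal.span {f})] :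
    FEt.PurityHolds (A ⧸ Ideal.span {f}) := by
  exact GrothLib.LocFAdic21.purityHolds_quotient hf hnz h1 h2 hp hA

end Groth.Agent.S9476
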