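import Groth.Statements.S9483
import Groth.Agent.LocFAdic21.Slice
-- import your own Groth.Agent.* helpers here

set_option autoImplicit false
universe u
open Pi1

namespace Groth.Agent.S9483

open AlgebraicGeometry CategoryTheory CategoryTheory.Limits in
/-- Let A be a Noetherian local ring with maximal ideal m, f ∈ m, U the punctured spectrum of A and U₀
that of A/fA (realised as U ×_{Spec A} Spec(A/fA)). Assume A is (f)-adically complete, f is a
nonzerodivisor and H^1_m(A/fA) is a finite A-module. Then restriction to U₀ from the system of open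
neighbourhoods of U₀ in U is fully faithful: for every open U' ⊆ U through which U₀ ⟶ Spec A factors
(as u') and finite etale covers V', W' of U': every morphism between the restrictions of V' and W'
along u' is, after shrinking U' to a smaller such open U'' (with U₀ ⟶ U'' ⟶ U' composing to u'), the
restriction of a morphism over U'' (compared through the canonical isomorphism between restricting
along u' and restricting in two steps), and two morphisms V' ⟶ W' with the same restriction along u'
agree over some such U''. -/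
theorem result (A : Type u) [CommRing A] [IsNoetherianRing A] [IsLocalRing A] (f : A) (hf : f ∈ IsLocalRing.maximalIdeal A)
    [IsAdicComplete (Ideal.span {f}) A] (hnz : f ∈ nonZeroDivisors A)
    (h1 : Module.Finite A (LocCoh.H (IsLocalRing.maximalIdeal A) 1 (A ⧸ Ideal.span {f}))) :
    ∀ (U' : (Spec (CommRingCat.of A)).Opens) (_ : U' ≤ (FEt.puncturedSpec A)) (u' : pullback (FEt.puncturedSpec A).ι (Spec.map (CommRingCat.ofHom (Ideal.Quotient.mk (Ideal.span {f})))) ⟶ (U' : Scheme.{u}))
      (_ : u' ≫ U'.ι = (pullback.fst (FEt.puncturedSpec A).ι (Spec.map (CommRingCat.ofHom (Ideal.Quotient.mk (Ideal.span {f})))) ≫ (FEt.puncturedSpec A).ι)) (V' W' : FEt.Cat (U' : Scheme.{u})),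
      (∀ φ₀ : (FEt.restrict u').obj V' ⟶ (FEt.restrict u').obj W',
        ∃ (U'' : (Spec (CommRingCat.of A)).Opens) (h : U'' ≤ U') (u'' : pullback (FEt.puncturedSpec A).ι (Spec.map (CommRingCat.ofHom (Ideal.Quotient.mk (Ideal.span {f})))) ⟶ (U'' : Scheme.{u}))
          (hu : u'' ≫ (Spec (CommRingCat.of A)).homOfLE h = u')
          (φ : (FEt.restrict ((Spec (CommRingCat.of A)).homOfLE h)).obj V' ⟶ (FEt.restrict ((Spec (CommRingCat.of A)).homOfLE h)).obj W'),
          (FEt.restrict u'').map φ =
            (MorphismProperty.Over.pullbackComp u'' ((Spec (CommRingCat.of A)).homOfLE h) u' hu.symm).inv.app V' ≫ φ₀ ≫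
              (MorphismProperty.Over.pullbackComp u'' ((Spec (CommRingCat.of A)).homOfLE h) u' hu.symm).hom.app W') ∧
      (∀ φ ψ : V' ⟶ W', (FEt.restrict u').map φ = (FEt.restrict u').map ψ →
        ∃ (U'' : (Spec (CommRingCat.of A)).Opens) (h : U'' ≤ U') (u'' : pullback (FEt.puncturedSpec A).ι (Spec.map (CommRingCat.ofHom (Ideal.Quotient.mk (Ideal.span {f})))) ⟶ (U'' : Scheme.{u})),
          u'' ≫ (Spec (CommRingCat.of A)).homOfLE h = u' ∧
          (FEt.restrict ((Spec (CommRingCat.of A)).homOfLE h)).map φ = (FEt.restrict ((Spec (CommRingCat.of A)).homOfLE h)).map ψ) := by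
  intro U' hU' u' hu' V' W'
  obtain ⟨V, hVU, hYV, hbij⟩ := GrothLib.LocFAdic21.exists_small_nhd hnz h1
  let P := pullback (FEt.puncturedSpec A).ι (Spec.map (CommRingCat.ofHom (Ideal.Quotient.mk (Ideal.span {f}))))
  let p : P ⟶ Spec (CommRingCat.of A) := pullback.fst _ _ ≫ (FEt.puncturedSpec A).ι
  let U'' : (Spec (CommRingCat.of A)).Opens := U' ⊓ V
  have hrange : Set.range p ⊆ Set.range U''.ι := by
    rw [Scheme.Opens.range_ι]
    rintro _ ⟨z, rfl⟩
    refine ⟨?_, hYV ⟨z, rfl⟩⟩
    have : (u' ≫ U'.ι) z ∈ U' := (u' z).2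
    rwa [hu'] at this
  let u'' : P ⟶ (U'' : Scheme.{u}) := IsOpenImmersion.lift U''.ι p hrange
  have hu''ι : u'' ≫ U''.ι = p := IsOpenImmersion.lift_fac _ _ _
  have hh : U'' ≤ U' := inf_le_left
  have hu : u'' ≫ (Spec (CommRingCat.of A)).homOfLE hh = u' := by
    rw [← cancel_mono U'.ι, Category.assoc, Scheme.homOfLE_ι, hu''ι]
    exact hu'.symm
  obtain ⟨hfull, hfaith⟩ := GrothLib.LocFAdic21.fullyFaithful_of_homBij U''.ι
    ((Scheme.Opens.opensRange_ι U'').le.trans (inf_le_right.trans hVU)) u'' hu''ι fun D hD =>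
      haveI : Coh.IsQCoh D := (GrothLib.Euler.isCoh_of_isFinLocFree hD).1
      hbij _ U''.ι ((Scheme.Opens.opensRange_ι U'').le.trans inf_le_right) hrange D
  haveI := hfull
  haveI := hfaith
  let c := MorphismProperty.Over.pullbackComp (P := FEt.prop) (Q := ⊤) u''
    ((Spec (CommRingCat.of A)).homOfLE hh) u' hu.symm
  constructor
  · intro φ₀
    exact ⟨U'', hh, u'', hu, (FEt.restrict u'').preimage (c.inv.app V' ≫ φ₀ ≫ c.hom.app W'),
      Functor.map_preimage _ _⟩
  · intro φ ψ he
    refine ⟨U'', hh, u'', hu, (FEt.restrict u'').map_injective ?_⟩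
    have h1 := c.inv.naturality φ
    have h2 := c.inv.naturality ψ
    rw [Functor.comp_map] at h1 h2
    have h3 : (FEt.restrict u'').map ((FEt.restrict ((Spec (CommRingCat.of A)).homOfLE hh)).map φ) ≫ c.inv.app W' =
        (FEt.restrict u'').map ((FEt.restrict ((Spec (CommRingCat.of A)).homOfLE hh)).map ψ) ≫ c.inv.app W' := by
      exact h1.trans ((congrArg (c.inv.app V' ≫ ·) he).trans h2.symm)
    exact (cancel_mono (c.inv.app W')).1 h3

end Groth.Agent.S9483
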