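import Groth.Statements.S9484
import Groth.Agent.LocFAdic21.NhdFF
-- import your own Groth.Agent.* helpers here

set_option autoImplicit false
universe u
attribute [local instance] HasDerivedCategory.standard
open Pi1

namespace Groth.Agent.S9484

open AlgebraicGeometry CategoryTheory CategoryTheory.Limits in
/-- Let A be a Noetherian local ring with maximal ideal m and a dualizing complex, f ∈ m with A complete
for the (f)-adic topology, U the punctured spectrum of A and U₀ that of A/fA (realised as U ×_{Spec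
A} Spec(A/fA)). Assume dim(A/p) ≥ 3 for every minimal prime p of A with f ∉ p. Then restriction to
U₀ from the system of open neighbourhoods of U₀ in U is fully faithful: for every open U' ⊆ U
through which U₀ ⟶ Spec A factors (as u') and finite etale covers V', W' of U': every morphism
between the restrictions of V' and W' along u' is, after shrinking U' to a smaller such open U''
(with U₀ ⟶ U'' ⟶ U' composing to u'), the restriction of a morphism over U'' (compared through the
canonical isomorphism between restricting along u' and restricting in two steps), and two morphisms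
V' ⟶ W' with the same restriction along u' agree over some such U''. -/
theorem result (A : Type u) [CommRing A] [IsNoetherianRing A] [IsLocalRing A] (f : A) (hf : f ∈ IsLocalRing.maximalIdeal A)
    (hd : ∃ ω : Dual.D A, Dual.IsDualizing A ω) [IsAdicComplete (Ideal.span {f}) A]
    (hc : ∀ p : Ideal A, p ∈ minimalPrimes A → f ∉ p → (3 : WithBot ℕ∞) ≤ ringKrullDim (A ⧸ p)) :
    ∀ (U' : (Spec (CommRingCat.of A)).Opens) (_ : U' ≤ (FEt.puncturedSpec A)) (u' : pullback (FEt.puncturedSpec A).ι (Spec.map (CommRingCat.ofHom (Ideal.Quotient.mk (Ideal.span {f})))) ⟶ (U' : Scheme.{u}))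
      (_ : u' ≫ U'.ι = (pullback.fst (FEt.puncturedSpec A).ι (Spec.map (CommRingCat.ofHom (Ideal.Quotient.mk (Ideal.span {f})))) ≫ (FEt.puncturedSpec A).ι)) (V' W' : FEt.Cat (U' : Scheme.{u})),
      (∀ φ₀ : (FEt.restrict u').obj V' ⟶ (FEt.restrict u').obj W',
        ∃ (U'' : (Spec (CommRingCat.of A)).Opens) (h : U'' ≤ U') (u'' : pullback (FEt.puncturedSpec A).ι (Spec.map (CommRingCat.ofHom (Ideal.Quotient.mk (Ideal.span {f})))) ⟶ (U'' : Scheme.{u}))
          (hu : u'' ≫ (Spec (CommRingCat.of A)).homOfLE h = u')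
          (φ : (FEt.restrict ((Spec (CommRingCat.of A)).homOfLE h)).obj V' ⟶ (FEt.restrict ((Spec (CommRingCat.of A)).homOfLE h)).obj W'),
          (FEt.restrict u'').map φ =
            (MorphismProperty.Over.pullbackComp u'' ((Spec (CommRingCat.of A)).homOfLE h) u' hu.symm).inv.app V' ≫ φ₀ ≫
              (MorphismProperty.Over.pullbackComp u'' ((Spec (CommRingCat.of A)).homOfLE h) u' hu.symm).hom.app W') ∧
      (∀ φ ψ : V' ⟶ W', (FEt.restrict u').map φ = (FEt.restrict u').map ψ →
        ∃ (U'' : (Spec (CommRingCat.of A)).Opens) (h : U'' ≤ U') (u'' : pullback (FEt.puncturedSpec A).ι (Spec.map (CommRingCat.ofHom (Ideal.Quotient.mk (Ideal.span {f})))) ⟶ (U'' : Scheme.{u})),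
          u'' ≫ (Spec (CommRingCat.of A)).homOfLE h = u' ∧
          (FEt.restrict ((Spec (CommRingCat.of A)).homOfLE h)).map φ = (FEt.restrict ((Spec (CommRingCat.of A)).homOfLE h)).map ψ) := by
  intro U' hU' u' hu' V' W'
  obtain ⟨V, hYV, hV⟩ := GrothLib.LocFAdic21.exists_nhd_fullyFaithful hd hf hc
  let p := pullback.fst (FEt.puncturedSpec A).ι
    (Spec.map (CommRingCat.ofHom (Ideal.Quotient.mk (Ideal.span {f})))) ≫ (FEt.puncturedSpec A).ι
  let U'' : (Spec (CommRingCat.of A)).Opens := U' ⊓ V
  let h : U'' ≤ U' := inf_le_left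
  let u'' : pullback (FEt.puncturedSpec A).ι
      (Spec.map (CommRingCat.ofHom (Ideal.Quotient.mk (Ideal.span {f})))) ⟶ (U'' : Scheme.{u}) :=
    IsOpenImmersion.lift U''.ι p (by
      rintro _ ⟨z, rfl⟩
      rw [Scheme.Opens.range_ι]
      refine ⟨?_, hYV ⟨z, rfl⟩⟩
      show p z ∈ U'
      have hp : (u' ≫ U'.ι) z = p z := congrArg (fun k => (k : _ ⟶ Spec (CommRingCat.of A)) z) hu'
      rw [← hp]
      exact (u' z).2)
  have hu'' : u'' ≫ U''.ι = p := IsOpenImmersion.lift_fac _ _ _
  have hu : u'' ≫ (Spec (CommRingCat.of A)).homOfLE h = u' := by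
    rw [← cancel_mono U'.ι, Category.assoc, Scheme.homOfLE_ι, hu'', hu']
  obtain ⟨hfull, hfaith⟩ := hV U'' inf_le_right (h.trans hU') u'' hu''
  haveI := hfull
  haveI := hfaith
  refine ⟨fun φ₀ => ⟨U'', h, u'', hu, (FEt.restrict u'').preimage _, (FEt.restrict u'').map_preimage _⟩,
    fun φ ψ he => ⟨U'', h, u'', hu, (FEt.restrict u'').map_injective ?_⟩⟩
  have n1 := (MorphismProperty.Over.pullbackComp (P := FEt.prop) (Q := ⊤) u''
    ((Spec (CommRingCat.of A)).homOfLE h) u' hu.symm).hom.naturality φ
  have n2 := (MorphismProperty.Over.pullbackComp (P := FEt.prop) (Q := ⊤) u''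
    ((Spec (CommRingCat.of A)).homOfLE h) u' hu.symm).hom.naturality ψ
  exact (cancel_epi ((MorphismProperty.Over.pullbackComp (P := FEt.prop) (Q := ⊤) u''
    ((Spec (CommRingCat.of A)).homOfLE h) u' hu.symm).hom.app V')).1
    (n1.symm.trans ((congrArg (· ≫ _) he).trans n2))

end Groth.Agent.S9484
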