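import Groth.Statements.S9485
import Groth.Agent.Lib.FEt21.Clopen
-- import your own Groth.Agent.* helpers here

set_option autoImplicit false
universe u
open Pi1

namespace Groth.Agent.S9485

open AlgebraicGeometry CategoryTheory CategoryTheory.Limits in
/-- Let A be a Noetherian local ring with maximal ideal m and f ∈ m, U the punctured spectrum of A and
U₀ that of A/fA (realised as U ×_{Spec A} Spec(A/fA)). Let U' ⊆ U be an open through which U₀ ⟶ Spec
A factors (as u'). If dim(A/p) ≥ 2 for every minimal prime p of A which lies in U' and does not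
contain f, then restriction of finite etale covers along u' is faithful. (Such U' exist, e.g. the
complement in U of the one-dimensional irreducible components not meeting U₀, and the condition
passes to smaller such opens, so restriction from the system of these opens is faithful.) -/
theorem result (A : Type u) [CommRing A] [IsNoetherianRing A] [IsLocalRing A] (f : A) (hf : f ∈ IsLocalRing.maximalIdeal A)
    (U' : (Spec (CommRingCat.of A)).Opens) (hU' : U' ≤ FEt.puncturedSpec A)
    (u' : pullback (FEt.puncturedSpec A).ι (Spec.map (CommRingCat.ofHom (Ideal.Quotient.mk (Ideal.span {f})))) ⟶ (U' : Scheme.{u})) (hu' : u' ≫ U'.ι = (pullback.fst (FEt.puncturedSpec A).ι (Spec.map (CommRingCat.ofHom (Ideal.Quotient.mk (Ideal.span {f})))) ≫ (FEt.puncturedSpec A).ι))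
    (hdim : ∀ p : PrimeSpectrum A, p.asIdeal ∈ minimalPrimes A → p ∈ U' → f ∉ p.asIdeal →
      (2 : WithBot ℕ∞) ≤ ringKrullDim (A ⧸ p.asIdeal)) :
    (FEt.restrict u').Faithful := by
  refine GrothLib.FEt21.faithful_of_clopenInj u' fun V =>
    GrothLib.FEt21.clopenInj_of_meets_components u' (fun y => ?_) V
  let R := CommRingCat.of A
  -- a minimal prime below `y`
  let y₀ : PrimeSpectrum A := U'.ι y
  have hy₀ : y₀ ∈ U' := y.2
  obtain ⟨p, hp, hpy⟩ := Ideal.exists_minimalPrimes_le (J := y₀.asIdeal) (bot_le : (⊥ : Ideal A) ≤ _)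
  let p₀ : PrimeSpectrum A := ⟨p, hp.1.1⟩
  have hspy : p₀ ⤳ y₀ := (PrimeSpectrum.le_iff_specializes p₀ y₀).mp hpy
  have hpU : p₀ ∈ U' := hspy.mem_open U'.2 hy₀
  -- points of the punctured closed subscheme lie in the image of `u'`
  have hrange : ∀ q : PrimeSpectrum A, f ∈ q.asIdeal → q ≠ IsLocalRing.closedPoint A →
      ∃ w, U'.ι (u' w) = q := by
    intro q hfq hqm
    let i := Spec.map (CommRingCat.ofHom (Ideal.Quotient.mk (Ideal.span {f})))
    obtain ⟨b, hb⟩ : q ∈ Set.range i := by
      change q ∈ Set.range (PrimeSpectrum.comap (Ideal.Quotient.mk (Ideal.span {f})))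
      rw [range_comap_of_surjective _ _ Ideal.Quotient.mk_surjective,
        Ideal.mk_ker, PrimeSpectrum.mem_zeroLocus, SetLike.coe_subset_coe, Ideal.span_singleton_le_iff_mem]
      exact hfq
    have hqP : q ∈ FEt.puncturedSpec A := hqm
    obtain ⟨w, hw, -⟩ := Scheme.Pullback.exists_preimage_pullback
      (f := (FEt.puncturedSpec A).ι) (g := i) ⟨q, hqP⟩ b hb.symm
    refine ⟨w, ?_⟩
    rw [← Scheme.Hom.comp_apply, hu', Scheme.Hom.comp_apply, hw]
    rfl
  obtain ⟨q, hfq, hqm, hpq⟩ : ∃ q : PrimeSpectrum A, f ∈ q.asIdeal ∧ q ≠ IsLocalRing.closedPoint A ∧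
      p₀ ⤳ q := by
    by_cases hfp : f ∈ p
    · exact ⟨p₀, hfp, hU' hpU, specializes_rfl⟩
    · by_contra! hcon
      have hd := hdim p₀ hp hpU hfp
      have : Nontrivial (A ⧸ p) := Ideal.Quotient.nontrivial_iff.mpr hp.1.1.ne_top
      have : IsLocalRing (A ⧸ p) :=
        IsLocalRing.of_surjective' (Ideal.Quotient.mk p) Ideal.Quotient.mk_surjective
      have hmax : IsLocalRing.maximalIdeal (A ⧸ p) ∈
          (Ideal.span {Ideal.Quotient.mk p f}).minimalPrimes := by
        refine ⟨⟨inferInstance, ?_⟩, fun Q hQ _ => ?_⟩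
        · rw [Ideal.span_singleton_le_iff_mem, IsLocalRing.mem_maximalIdeal]
          intro hu
          obtain ⟨c, hc⟩ := hu.exists_right_inv
          obtain ⟨c, rfl⟩ := Ideal.Quotient.mk_surjective c
          rw [← map_mul, ← map_one (Ideal.Quotient.mk p), Ideal.Quotient.eq] at hc
          have h1 : f * c - 1 ∈ IsLocalRing.maximalIdeal A := IsLocalRing.le_maximalIdeal hp.1.1.ne_top hc
          have h2 : f * c ∈ IsLocalRing.maximalIdeal A := Ideal.mul_mem_right _ _ hf
          have h3 : (1 : A) ∈ IsLocalRing.maximalIdeal A := by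
            have := sub_mem h2 h1
            rwa [sub_sub_cancel] at this
          exact (IsLocalRing.maximalIdeal.isMaximal A).ne_top ((Ideal.eq_top_iff_one _).mpr h3)
        · have := hQ.1
          let q : PrimeSpectrum A := ⟨Q.comap (Ideal.Quotient.mk p), inferInstance⟩
          have hfq : f ∈ q.asIdeal := hQ.2 (Ideal.mem_span_singleton_self _)
          have hpq : p₀ ⤳ q := (PrimeSpectrum.le_iff_specializes p₀ q).mp fun a ha => by
            show Ideal.Quotient.mk p a ∈ Q
            rw [Ideal.Quotient.eq_zero_iff_mem.mpr ha]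
            exact Q.zero_mem
          have hqc : q = IsLocalRing.closedPoint A := by_contra fun h => hcon q hfq h hpq
          intro a ha
          obtain ⟨a, rfl⟩ := Ideal.Quotient.mk_surjective a
          show a ∈ q.asIdeal
          rw [hqc]
          intro hu
          exact ha (hu.map (Ideal.Quotient.mk p))
      have hht := Ideal.height_le_one_of_isPrincipal_of_mem_minimalPrimes _ _ hmax
      rw [← IsLocalRing.maximalIdeal_height_eq_ringKrullDim] at hd
      have h2 : (2 : ℕ∞) ≤ (IsLocalRing.maximalIdeal (A ⧸ p)).height :=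
        WithBot.coe_le_coe.mp hd
      exact absurd (h2.trans hht) (by decide)
  obtain ⟨w, hw⟩ := hrange q hfq hqm
  let p' : (U' : Scheme.{u}) := ⟨p₀, hpU⟩
  have h1 : p' ⤳ y := U'.ι.isOpenEmbedding.isInducing.specializes_iff.mp hspy
  have h2 : p' ⤳ u' w := U'.ι.isOpenEmbedding.isInducing.specializes_iff.mp (hw.symm ▸ hpq)
  have hc : ∀ {a b : (U' : Scheme.{u})}, a ⤳ b → connectedComponent a = connectedComponent b :=
    fun {a b} h => (connectedComponent_eq (isPreirreducible_singleton.closure.isPreconnected
      |>.subset_connectedComponent (subset_closure rfl) (specializes_iff_mem_closure.mp h)))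
  exact ⟨u' w, (hc h1 ▸ hc h2) ▸ mem_connectedComponent, w, rfl⟩

end Groth.Agent.S9485
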