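import Groth.Statements.S9491
import Groth.Agent.Lib.FEt21.NormalizationIn
import Mathlib.AlgebraicGeometry.Morphisms.QuasiFinite

set_option autoImplicit false
set_option linter.style.haveILetI false
universe u
open Pi1

namespace Groth.Agent.S9491

open AlgebraicGeometry CategoryTheory CategoryTheory.Limits

/-- A preimmersion of the spectrum of a field at the generic point is the generic point. -/
theorem exists_iso_generic {Z : Scheme.{u}} [IsIntegral Z] (L : Type u) [Field L]
    (s : Spec (CommRingCat.of L) ⟶ Z) [IsPreimmersion s]
    (hs : s (IsLocalRing.closedPoint L) = genericPoint Z) :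
    ∃ i : Spec (CommRingCat.of L) ⟶ Spec (Z.presheaf.stalk (genericPoint Z)),
      IsIso i ∧ i ≫ Z.fromSpecStalk (genericPoint Z) = s := by
  have key : ∀ z : Z, s (IsLocalRing.closedPoint L) = z → IsField (Z.presheaf.stalk z) →
      ∃ i : Spec (CommRingCat.of L) ⟶ Spec (Z.presheaf.stalk z), IsIso i ∧ i ≫ Z.fromSpecStalk z = s := by
    rintro _ rfl hF
    letI := hF.toField
    have hb : Function.Bijective (Scheme.stalkClosedPointTo s) := by
      refine ⟨(Scheme.stalkClosedPointTo s).hom.injective, ?_⟩
      exact (ConcreteCategory.bijective_of_isIso (stalkClosedPointIso (CommRingCat.of L)).hom).2.comp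
        (s.stalkMap_surjective (IsLocalRing.closedPoint L))
    haveI : IsIso (Scheme.stalkClosedPointTo s) := (ConcreteCategory.isIso_iff_bijective _).2 hb
    exact ⟨Spec.map (Scheme.stalkClosedPointTo s), inferInstance,
      Scheme.Spec_stalkClosedPointTo_fromSpecStalk s⟩
  exact key _ hs (Field.toIsField Z.functionField)

set_option backward.isDefEq.respectTransparency false in
/-- A normal integral finite cover with generic fibre `Spec L` is the normalization in `L`. -/
theorem exists_iso_normalization {X Z : Scheme.{u}} [IsIntegral X] [IsIntegral Z] (hZ : Pi1.IsNormalScheme Z)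
    (g : Z ⟶ X) [IsFinite g] (L : Type u) [Field L] [Algebra X.functionField L]
    [QuasiCompact (GrothLib.FEt21.extPt (X := X) L)] [QuasiSeparated (GrothLib.FEt21.extPt (X := X) L)]
    (s : Spec (CommRingCat.of L) ⟶ Z) [IsPreimmersion s] (hsg : GrothLib.FEt21.extPt (X := X) L = s ≫ g)
    (hs : s (IsLocalRing.closedPoint L) = genericPoint Z) :
    IsIso ((GrothLib.FEt21.extPt (X := X) L).normalizationDesc s g hsg) := by
  haveI : QuasiCompact (s ≫ g) := hsg ▸ inferInstance
  haveI : QuasiSeparated (s ≫ g) := hsg ▸ inferInstance
  haveI : QuasiCompact s := QuasiCompact.of_comp s g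
  haveI : QuasiSeparated s := QuasiSeparated.of_comp s g
  obtain ⟨i, hi, his⟩ := exists_iso_generic L s hs
  have hz : Z.fromSpecStalk (genericPoint Z) = inv i ≫ s := by rw [← his, IsIso.inv_hom_id_assoc]
  haveI : QuasiCompact (Z.fromSpecStalk (genericPoint Z)) := hz ▸ inferInstance
  haveI : QuasiSeparated (Z.fromSpecStalk (genericPoint Z)) := hz ▸ inferInstance
  haveI := GrothLib.FEt21.isIso_fromNormalization_self hZ
  haveI := GrothLib.FEt21.isIso_fromNormalization_comp i (Z.fromSpecStalk (genericPoint Z)) s his
  exact GrothLib.FEt21.isIso_normalizationDesc _ s g hsg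


set_option backward.isDefEq.respectTransparency false in
/-- A cover with generic fibre `Spec L` is the normalization in `L`. -/
theorem forward {X : Scheme.{u}} [IsIntegral X] (hX : Pi1.IsNormalScheme X) {Z : Scheme.{u}} (g : Z ⟶ X)
    [IsFinite g] [Etale g] (L : Type u) [Field L] [Algebra X.functionField L]
    [QuasiCompact (GrothLib.FEt21.extPt (X := X) L)] [QuasiSeparated (GrothLib.FEt21.extPt (X := X) L)]
    (m : Spec (CommRingCat.of L) ⟶ pullback g (X.fromSpecStalk (genericPoint X))) [IsIso m]
    (hm : m ≫ pullback.snd g (X.fromSpecStalk (genericPoint X)) =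
      Spec.map (CommRingCat.ofHom (algebraMap X.functionField L))) :
    Etale (GrothLib.FEt21.extPt (X := X) L).fromNormalization ∧
      IsFinite (GrothLib.FEt21.extPt (X := X) L).fromNormalization := by
  have hη : ∀ w : Spec X.functionField, X.fromSpecStalk (genericPoint X) w = genericPoint X := fun w => by
    haveI : Subsingleton (Spec X.functionField) := inferInstanceAs (Subsingleton (PrimeSpectrum X.functionField))
    rw [Subsingleton.elim w (IsLocalRing.closedPoint _)]
    exact Scheme.fromSpecStalk_closedPoint
  haveI : IsPreimmersion (X.fromSpecStalk (genericPoint X)) := inferInstance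
  haveI : IsPreimmersion (pullback.fst g (X.fromSpecStalk (genericPoint X))) :=
    MorphismProperty.pullback_fst _ _ inferInstance
  let s : Spec (CommRingCat.of L) ⟶ Z := m ≫ pullback.fst g (X.fromSpecStalk (genericPoint X))
  haveI : IsPreimmersion s := inferInstanceAs (IsPreimmersion (_ ≫ _))
  have hsg : Spec.map (CommRingCat.ofHom (algebraMap X.functionField L)) ≫ X.fromSpecStalk (genericPoint X) =
      s ≫ g := by
    show _ = (m ≫ _) ≫ g
    rw [← hm, Category.assoc, Category.assoc, pullback.condition]
  let p := IsLocalRing.closedPoint L
  have hone : ∀ z : Z, g z = genericPoint X → z = s p := by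
    intro z hz
    obtain ⟨w, hw, -⟩ := Scheme.Pullback.exists_preimage_pullback (f := g)
      (g := X.fromSpecStalk (genericPoint X)) z (IsLocalRing.closedPoint _) (hz.trans (hη _).symm)
    rw [← hw, show w = m p from ?_]
    · rfl
    obtain ⟨v, rfl⟩ := m.surjective w
    exact congrArg m (Subsingleton.elim (α := PrimeSpectrum L) v p)
  have hgen : ∀ z : Z, s p ⤳ z := fun z => by
    obtain ⟨z', hz', hzη⟩ := Flat.generalizingMap g (genericPoint_specializes (g z) : genericPoint X ⤳ g z)
    exact hone z' hzη ▸ hz'
  haveI : IrreducibleSpace Z := by
    rw [irreducibleSpace_def]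
    have : (Set.univ : Set Z) = closure {s p} := (Set.eq_univ_of_forall fun z => (hgen z).mem_closure).symm
    show IsIrreducible (Set.univ : Set Z)
    rw [this]; exact isIrreducible_singleton.closure
  have hN : Pi1.IsNormalScheme Z := GrothLib.FEt21.isNormalScheme_of_etale hX g
  haveI := GrothLib.NormFac9.isReduced_of_isNormal hN
  haveI : IsIntegral Z := isIntegral_of_irreducibleSpace_of_isReduced _
  have hsp : s p = genericPoint Z := ((hgen _).antisymm (genericPoint_specializes _)).eq
  haveI := exists_iso_normalization hN g L s hsg hsp
  have hd : (GrothLib.FEt21.extPt (X := X) L).normalizationDesc s g hsg ≫ g =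
      (GrothLib.FEt21.extPt (X := X) L).fromNormalization := Scheme.Hom.normalizationDesc_comp ..
  exact ⟨hd ▸ inferInstance, hd ▸ inferInstance⟩

set_option backward.isDefEq.respectTransparency false in
open AlgebraicGeometry CategoryTheory CategoryTheory.Limits in
/-- The essential image of restriction of finite etale covers from a normal integral scheme X to its
generic point Spec K consists of the finite etale K-schemes whose points are spectra of finite
extensions L of K in which X is unramified. Precisely: let L be a finite field extension of K and Y₀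
the object Spec L → Spec K of the category of finite etale covers of Spec K; then Y₀ is isomorphic
to the restriction of a finite etale cover of X if and only if the normalization of X in Spec L is
finite etale over X. (With full faithfulness of this restriction functor for normal X, this says
that the fundamental group of X is the Galois group of the union M of all finite subextensions of a
separable closure in which X is unramified.) -/
theorem result {X : Scheme.{u}} [IsIntegral X] (hX : Pi1.IsNormalScheme X)
    (L : Type u) [Field L] [Algebra X.functionField L] [FiniteDimensional X.functionField L]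
    [QuasiCompact (Spec.map (CommRingCat.ofHom (algebraMap X.functionField L)) ≫ X.fromSpecStalk (genericPoint X))] [QuasiSeparated (Spec.map (CommRingCat.ofHom (algebraMap X.functionField L)) ≫ X.fromSpecStalk (genericPoint X))]
    (Y₀ : FEt.Cat (Spec X.functionField)) (e : Y₀.left ≅ Spec (CommRingCat.of L))
    (he : e.hom ≫ Spec.map (CommRingCat.ofHom (algebraMap X.functionField L)) = Y₀.hom) :
    (FEt.restrict (X.fromSpecStalk (genericPoint X))).essImage Y₀ ↔
      (Etale (Spec.map (CommRingCat.ofHom (algebraMap X.functionField L)) ≫ X.fromSpecStalk (genericPoint X)).fromNormalization ∧ IsFinite (Spec.map (CommRingCat.ofHom (algebraMap X.functionField L)) ≫ X.fromSpecStalk (genericPoint X)).fromNormalization) := by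
  have hη : ∀ w : Spec X.functionField, X.fromSpecStalk (genericPoint X) w = genericPoint X := fun w => by
    haveI : Subsingleton (Spec X.functionField) := inferInstanceAs (Subsingleton (PrimeSpectrum X.functionField))
    rw [Subsingleton.elim w (IsLocalRing.closedPoint _)]
    exact Scheme.fromSpecStalk_closedPoint
  constructor
  · rintro ⟨Z, ⟨φ⟩⟩
    haveI : IsFinite Z.hom := Z.prop.1
    haveI : Etale Z.hom := Z.prop.2
    haveI : IsIntegral ((Functor.fromPUnit X).obj Z.right) := ‹IsIntegral X›
    let ψ := (MorphismProperty.Over.forget FEt.prop ⊤ (Spec X.functionField) ⋙ Over.forget _).mapIso φ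
    let m : Spec (CommRingCat.of L) ⟶ pullback Z.hom (X.fromSpecStalk (genericPoint X)) := e.inv ≫ ψ.inv
    haveI : IsIso m := inferInstanceAs (IsIso (e.inv ≫ ψ.inv))
    have hm : m ≫ pullback.snd Z.hom (X.fromSpecStalk (genericPoint X)) =
        Spec.map (CommRingCat.ofHom (algebraMap X.functionField L)) := by
      have h1 : φ.inv.left ≫ pullback.snd Z.hom (X.fromSpecStalk (genericPoint X)) = Y₀.hom :=
        MorphismProperty.Over.w φ.inv
      show (e.inv ≫ φ.inv.left) ≫ _ = _
      rw [Category.assoc, h1, ← he, e.inv_hom_id_assoc]
    exact forward (X := X) hX (Z := Z.left) Z.hom L m hm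
  · rintro ⟨h1, h2⟩
    let h := GrothLib.FEt21.extPt (X := X) L
    let η := X.fromSpecStalk (genericPoint X)
    haveI : IsPreimmersion η := inferInstanceAs (IsPreimmersion (X.fromSpecStalk (genericPoint X)))
    let Z : FEt.Cat X := MorphismProperty.Over.mk ⊤ h.fromNormalization ⟨h2, h1⟩
    let Z' := pullback h.fromNormalization η
    let p₁ : Z' ⟶ h.normalization := pullback.fst _ _
    let p₂ : Z' ⟶ Spec X.functionField := pullback.snd _ _
    let m : Spec (CommRingCat.of L) ⟶ Z' := pullback.lift h.toNormalization
      (Spec.map (CommRingCat.ofHom (algebraMap X.functionField L))) (h.toNormalization_fromNormalization)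
    haveI : IsPreimmersion p₁ := MorphismProperty.pullback_fst _ _ inferInstance
    haveI : Subsingleton (Spec (CommRingCat.of L)) := inferInstanceAs (Subsingleton (PrimeSpectrum L))
    haveI : SurjectiveOnStalks h.toNormalization :=
      ⟨fun w => GrothLib.FEt21.surjective_stalkMap_toNormalization L w⟩
    haveI : IsPreimmersion h.toNormalization :=
      { isEmbedding := Topology.IsEmbedding.of_subsingleton _ }
    haveI : IsPreimmersion (m ≫ p₁) := (pullback.lift_fst _ _ _ : m ≫ p₁ = h.toNormalization).symm ▸ inferInstance
    haveI : IsPreimmersion m := IsPreimmersion.of_comp m p₁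
    haveI : IsFinite p₂ := MorphismProperty.pullback_snd (P := @IsFinite) _ _ h2
    haveI : Subsingleton (Spec X.functionField) := inferInstanceAs (Subsingleton (PrimeSpectrum X.functionField))
    have hdisc : DiscreteTopology Z' := by
      refine isDiscrete_univ_iff.1 ?_
      have := p₂.isDiscrete_preimage_singleton (IsLocalRing.closedPoint _)
      rwa [show p₂ ⁻¹' {IsLocalRing.closedPoint _} = Set.univ from
        Set.eq_univ_of_forall fun z => Subsingleton.elim _ _] at this
    let w := IsLocalRing.closedPoint L
    have hgen : h.toNormalization w = genericPoint h.normalization := by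
      refine IsGenericPoint.eq (?_ : IsGenericPoint _ ⊤) (genericPoint_spec h.normalization)
      have hd : closure (Set.range h.toNormalization) = Set.univ := h.toNormalization.denseRange.closure_range
      have hr : Set.range h.toNormalization = {h.toNormalization w} := Set.ext fun z =>
        ⟨fun ⟨v, hv⟩ => by rw [← hv, Subsingleton.elim v w]; rfl, fun hz => ⟨w, hz.symm⟩⟩
      rw [hr] at hd
      exact hd
    have hm1 : p₁ (m w) = h.toNormalization w := by rw [← Scheme.Hom.comp_apply, pullback.lift_fst]
    have hall : ∀ z : Z', z = m w := fun z => by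
      have h3 : m w ⤳ z := by
        rw [← p₁.isEmbedding.specializes_iff, hm1, hgen]
        exact genericPoint_specializes _
      exact h3.eq.symm
    haveI : IsClosedImmersion m := IsClosedImmersion.of_isPreimmersion m (isClosed_discrete _)
    haveI : Surjective m := ⟨fun z => ⟨w, (hall z).symm⟩⟩
    haveI : IsReduced Z' := by
      have : ∀ z : Z', _root_.IsReduced (Z'.presheaf.stalk z) := fun z => by
        have hz : p₁ z = genericPoint h.normalization := by rw [hall z, hm1, hgen]
        have hF : IsField (h.normalization.presheaf.stalk (p₁ z)) := by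
          rw [hz]; exact Field.toIsField h.normalization.functionField
        letI := hF.toField
        let r := RingEquiv.ofBijective (p₁.stalkMap z).hom ⟨(p₁.stalkMap z).hom.injective, p₁.stalkMap_surjective z⟩
        exact isReduced_of_injective r.symm.toRingHom r.symm.injective
      exact isReduced_of_isReduced_stalk Z'
    haveI : IsIso m := isIso_of_isClosedImmersion_of_surjective m
    refine ⟨Z, ⟨MorphismProperty.Over.isoMk ((asIso m).symm ≪≫ e.symm) ?_⟩⟩
    show ((inv m) ≫ e.inv) ≫ Y₀.hom = p₂
    rw [← he, Category.assoc, e.inv_hom_id_assoc, IsIso.inv_comp_eq]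
    exact (pullback.lift_snd _ _ _).symm

end Groth.Agent.S9491
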