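import Groth.Statements.S9498
import Groth.Agent.Lib.QCoh.Abelian

set_option autoImplicit false
universe u
open AffSch

namespace Groth.Agent.S9498

open AlgebraicGeometry in
open CategoryTheory Limits in
/-- For a commutative ring A, the functor M ↦ M~ from the category of A-modules to the category of
O-modules on Spec A is exact, i.e. it preserves finite limits and finite colimits. -/
theorem result
    (A : Type u) [CommRing A] :
    PreservesFiniteLimits (tilde.functor (CommRingCat.of A)) ∧
      PreservesFiniteColimits (tilde.functor (CommRingCat.of A)) := by
  exact ⟨GrothLib.QCoh.tildeFunctor_preservesFiniteLimits (R := CommRingCat.of A),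
    GrothLib.QCoh.tildeFunctor_preservesFiniteColimits (R := CommRingCat.of A)⟩

end Groth.Agent.S9498
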