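import Groth.Statements.S9502

set_option autoImplicit false
universe u
open SchMor

namespace Groth.Agent.S9502

open AlgebraicGeometry in
open CategoryTheory in
/-- Let f : X → Y be a morphism of schemes such that (1) the underlying continuous map of f is a
homeomorphism onto a closed subset of Y and (2) the map of sheaves of rings O_Y → f_*O_X is
surjective (locally surjective on sections). Then f is a closed immersion in the sense of locally
ringed spaces: (1) and (2) hold and (3) the kernel of O_Y → f_*O_X is locally generated by sections,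
i.e. around every point of Y there are sections of O_Y killed in f_*O_X whose germs generate the
kernel of the stalk map O_{Y,y} → (f_*O_X)_y at every nearby point y. (For a morphism of schemes (1)
and (2) alone already give surjective stalk maps; the content of this row is condition (3).) -/
theorem result
    {X Y : Scheme.{u}} (f : X ⟶ Y) (h1 : Topology.IsClosedEmbedding f)
    (h2 : TopCat.Presheaf.IsLocallySurjective f.c) :
    LRSImm.IsClosedImmersion f.toLRSHom := by
  have : QuasiCompact f := ⟨fun U _ hU => h1.isCompact_preimage hU⟩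
  refine ⟨h1, h2, fun x => ?_⟩
  obtain ⟨U, hU, hxU, -⟩ := exists_isAffineOpen_mem_and_subset (X := Y) (U := ⊤) (x := x) trivial
  refine ⟨U, hxU, RingHom.ker (f.app U).hom, fun j => j.1, fun j => j.2, fun x' hx' => ?_⟩
  apply le_antisymm
  · rw [Ideal.span_le]
    rintro _ ⟨⟨a, ha⟩, rfl⟩
    show ((TopCat.Presheaf.stalkFunctor CommRingCat x').map f.c).hom (Y.presheaf.germ U x' hx' a) = 0
    refine (TopCat.Presheaf.stalkFunctor_map_germ_apply U x' hx' f.c a).trans ?_
    have ha' : f.c.app (Opposite.op U) a = 0 := ha
    rw [ha']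
    exact map_zero _
  · intro r hr
    obtain ⟨V, hxV, a, rfl⟩ := Y.presheaf.germ_exist r
    have hr' := (TopCat.Presheaf.stalkFunctor_map_germ_apply V x' hxV f.c a).symm.trans hr
    replace hr' : ((TopCat.Presheaf.pushforward CommRingCat f.base).obj X.presheaf).germ V x' hxV
        (f.c.app (Opposite.op V) a) =
      ((TopCat.Presheaf.pushforward CommRingCat f.base).obj X.presheaf).germ V x' hxV 0 :=
      hr'.trans (map_zero (((TopCat.Presheaf.pushforward CommRingCat f.base).obj X.presheaf).germ V x' hxV).hom).symm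
    obtain ⟨W, hxW, i₁, i₂, hW⟩ := TopCat.Presheaf.germ_eq _ x' hxV hxV _ _ hr'
    obtain ⟨g, hgW, hxg⟩ := hU.exists_basicOpen_le (V := W ⊓ U) ⟨x', ⟨hxW, hx'⟩⟩ hx'
    let D : Y.affineOpens := Y.affineBasicOpen (U := ⟨U, hU⟩) g
    have hDV : D.1 ≤ V := fun y hy => i₁.le (hgW hy).1
    set a' : Γ(Y, D.1) := Y.presheaf.map (homOfLE hDV).op a
    have hDW : D.1 ≤ W := fun y hy => (hgW hy).1
    have hker : a' ∈ f.ker.ideal D := by
      rw [Scheme.Hom.ker_apply, RingHom.mem_ker]
      have h0 := congrArg (((TopCat.Presheaf.pushforward CommRingCat f.base).obj X.presheaf).map (homOfLE hDW).op) hW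
      rw [← CategoryTheory.comp_apply, ← Functor.map_comp, map_zero, map_zero] at h0
      have e := NatTrans.naturality_apply f.c (homOfLE hDV).op a
      exact e.trans h0
    rw [← f.ker.map_ideal_basicOpen ⟨U, hU⟩ g, Scheme.Hom.ker_apply] at hker
    have hgerm : Y.presheaf.germ V x' hxV a = Y.presheaf.germ D.1 x' hxg a' :=
      (TopCat.Presheaf.germ_res_apply _ (homOfLE hDV) x' hxg a).symm
    rw [hgerm]
    refine Submodule.span_induction (p := fun (b : Γ(Y, Y.basicOpen g)) _ => Y.presheaf.germ (Y.basicOpen g) x' hxg b ∈ _) ?_ ?_ ?_ ?_ hker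
    · rintro _ ⟨b, hb, rfl⟩
      refine Ideal.subset_span ⟨⟨b, hb⟩, ?_⟩
      exact (TopCat.Presheaf.germ_res_apply Y.presheaf (homOfLE (Y.basicOpen_le g)) x' hxg b).symm
    · rw [map_zero]; exact zero_mem _
    · intro p q _ _ hp hq; rw [map_add]; exact add_mem hp hq
    · intro c p _ hp
      rw [smul_eq_mul, map_mul]
      exact Ideal.mul_mem_left _ _ hp

end Groth.Agent.S9502
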