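import Groth.Statements.S9505
import Groth.Agent.Lib.LRSImm7.Affine


set_option autoImplicit false
universe u
open LRSImm

namespace Groth.Agent.S9505

open AlgebraicGeometry in
open CategoryTheory in
/-- Let X be a scheme and i : Z → X a closed immersion of locally ringed spaces: a homeomorphism onto a
closed subset of X such that O_X → i_*O_Z is surjective as a map of sheaves and its kernel is
locally generated by sections. Then the locally ringed space Z is a scheme and i is a closed
immersion of schemes (affine-locally of the form Spec(R/I) → Spec R): there are a scheme Z' and an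
isomorphism of locally ringed spaces Z' ≅ Z whose composite with i is a closed immersion of schemes
Z' → X. -/
theorem result
    (X : Scheme.{u}) (Z : LocallyRingedSpace.{u}) (i : Z ⟶ X.toLocallyRingedSpace)
    (hi : LRSImm.IsClosedImmersion i) :
    ∃ (Z' : Scheme.{u}) (e : Z'.toLocallyRingedSpace ≅ Z),
      AlgebraicGeometry.IsClosedImmersion (Scheme.Hom.mk (e.hom ≫ i) : Z' ⟶ X) := by
  exact GrothLib.LRSImm7.exists_scheme_iso (GrothLib.LRSImm7.good_of_isClosedImmersion hi)

end Groth.Agent.S9505
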