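import Groth.Statements.S9509

set_option autoImplicit false
universe u
open SchMor

namespace Groth.Agent.S9509

open AlgebraicGeometry in
open CategoryTheory in
/-- (3) ⇒ (1): Let f : X → S be a morphism of schemes. Suppose S is covered by affine opens W_i, each
preimage f⁻¹(W_i) is covered by affine opens V_{i,j}, and any two V_{i,j}, V_{i,j'} with the same
index i meet in a quasi-compact open (one covered by finitely many affine opens). Then f is
quasi-separated. -/
theorem result
    {X S : Scheme.{u}} (f : X ⟶ S) {ι : Type u} (W : ι → S.affineOpens)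
    (hW : ⨆ i, (W i : S.Opens) = ⊤) {κ : ι → Type u} (V : ∀ i, κ i → X.affineOpens)
    (hV : ∀ i, ⨆ j, (V i j : X.Opens) = f ⁻¹ᵁ (W i : S.Opens))
    (hVV : ∀ i (j j' : κ i), IsCompact ((V i j : Set X) ∩ (V i j' : Set X))) :
    QuasiSeparated f := by
  rw [HasAffineProperty.iff_of_iSup_eq_top (P := @QuasiSeparated) W hW]
  intro i
  change QuasiSeparatedSpace ↥(f ⁻¹ᵁ (W i : S.Opens))
  have hle : ∀ j, (V i j : X.Opens) ≤ f ⁻¹ᵁ (W i : S.Opens) := fun j =>
    hV i ▸ le_iSup (fun j => (V i j : X.Opens)) j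
  let O := f ⁻¹ᵁ (W i : S.Opens)
  have himg : ∀ j, O.ι ''ᵁ (O.ι ⁻¹ᵁ (V i j : X.Opens)) = (V i j : X.Opens) := fun j => by
    rw [Scheme.Hom.image_preimage_eq_opensRange_inf, Scheme.Opens.opensRange_ι]
    exact inf_eq_right.mpr (hle j)
  refine Scheme.quasiSeparatedSpace_of_isOpenCover (X := O.toScheme) (fun j => O.ι ⁻¹ᵁ (V i j : X.Opens))
    ?_ ?_ ?_
  · change (⨆ j, O.ι ⁻¹ᵁ (V i j : X.Opens)) = ⊤
    rw [← Scheme.Hom.preimage_iSup, hV i]
    exact O.ι_preimage_self
  · intro j
    have : IsAffineOpen (V i j : X.Opens) := (V i j).2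
    rw [← himg j, Scheme.Hom.isAffineOpen_iff_of_isOpenImmersion] at this
    exact this
  · intro j j'
    rw [O.ι.isOpenEmbedding.isEmbedding.isCompact_iff, Set.image_inter O.ι.isOpenEmbedding.injective]
    have e : ∀ j, O.ι '' (O.ι ⁻¹ᵁ (V i j : X.Opens) : Set O) = (V i j : Set X) := fun j =>
      congrArg SetLike.coe (himg j)
    rw [e j, e j']
    exact hVV i j j'

end Groth.Agent.S9509
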