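import Groth.Statements.S9508
import Groth.Agent.S9509

set_option autoImplicit false
universe u
open SchMor

namespace Groth.Agent.S9508

open AlgebraicGeometry in
open CategoryTheory in
/-- (1) ⇔ (2): A morphism of schemes f : X → S is quasi-separated if and only if, whenever two affine
opens U and V of X both lie in the preimage f⁻¹(W) of one affine open W of S, their intersection U ∩
V is quasi-compact (equivalently, is covered by finitely many affine opens). -/
theorem result
    {X S : Scheme.{u}} (f : X ⟶ S) :
    QuasiSeparated f ↔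
      ∀ (U V : X.affineOpens) (W : S.affineOpens),
        (U : X.Opens) ≤ f ⁻¹ᵁ (W : S.Opens) → (V : X.Opens) ≤ f ⁻¹ᵁ (W : S.Opens) →
          IsCompact ((U : Set X) ∩ (V : Set X)) := by
  constructor
  · intro hf U V W hU hV
    have := f.isQuasiSeparated_preimage W.2.isQuasiSeparated
    exact this _ _ hU U.1.2 U.2.isCompact hV V.1.2 V.2.isCompact
  · intro h
    refine Groth.Agent.S9509.result f (fun W : S.affineOpens => W) (iSup_affineOpens_eq_top S)
      (κ := fun W => {U : X.affineOpens // (U : X.Opens) ≤ f ⁻¹ᵁ (W : S.Opens)}) (fun W U => U.1) ?_ ?_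
    · intro W
      refine le_antisymm (iSup_le fun U => U.2) fun x hx => ?_
      obtain ⟨U, hU, hxU, hle⟩ := exists_isAffineOpen_mem_and_subset hx
      exact TopologicalSpace.Opens.mem_iSup.mpr ⟨⟨⟨U, hU⟩, hle⟩, hxU⟩
    · intro W U U'
      exact h U.1 U'.1 W U.2 U'.2

end Groth.Agent.S9508
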