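import Groth.Statements.S9510

set_option autoImplicit false
universe u
open SchMor

namespace Groth.Agent.S9510

open AlgebraicGeometry in
open CategoryTheory in
/-- Let X be a scheme, X = ⋃ U_i an affine open covering and V ⊆ X an affine open. Then there is a
standard open covering V = D(f_1) ∪ … ∪ D(f_m), with f_1, …, f_m sections of O_X over V, such that
each D(f_j) is also a standard open D(g) of one of the U_i (g a section over that U_i). -/
theorem result
    (X : Scheme.{u}) {ι : Type u} (U : ι → X.affineOpens) (hU : ⨆ i, (U i : X.Opens) = ⊤)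
    (V : X.affineOpens) :
    ∃ s : Finset Γ(X, (V : X.Opens)),
      (⨆ f ∈ s, X.basicOpen f) = (V : X.Opens) ∧
        ∀ f ∈ s, ∃ (i : ι) (g : Γ(X, (U i : X.Opens))), X.basicOpen f = X.basicOpen g := by
  have key : ∀ x : (V : X.Opens), ∃ f : Γ(X, (V : X.Opens)), (x : X) ∈ X.basicOpen f ∧
      ∃ (i : ι) (g : Γ(X, (U i : X.Opens))), X.basicOpen f = X.basicOpen g := by
    intro x
    obtain ⟨i, hi⟩ := TopologicalSpace.Opens.mem_iSup.mp (hU.ge (Set.mem_univ (x : X)))
    obtain ⟨f, g, e, hf⟩ := exists_basicOpen_le_affine_inter V.2 (U i).2 _ ⟨x.2, hi⟩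
    exact ⟨f, hf, i, g, e⟩
  choose f hf i g e using key
  obtain ⟨t, ht⟩ := V.2.isCompact.elim_finite_subcover (fun x => (X.basicOpen (f x) : Set X))
    (fun x => (X.basicOpen (f x)).isOpen) (fun x hx => Set.mem_iUnion.mpr ⟨⟨x, hx⟩, hf _⟩)
  classical
  refine ⟨t.image f, le_antisymm (iSup₂_le fun a _ => X.basicOpen_le a) fun x hx => ?_, ?_⟩
  · obtain ⟨y, hy, hxy⟩ := Set.mem_iUnion₂.mp (ht hx)
    exact TopologicalSpace.Opens.mem_iSup.mpr ⟨f y, TopologicalSpace.Opens.mem_iSup.mpr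
      ⟨Finset.mem_image_of_mem f hy, hxy⟩⟩
  · intro a ha
    obtain ⟨y, -, rfl⟩ := Finset.mem_image.mp ha
    exact ⟨i y, g y, e y⟩

end Groth.Agent.S9510
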