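import Groth.Statements.S9511
import Mathlib

set_option autoImplicit false
universe u
open LRSImm

namespace Groth.Agent.S9511

open AlgebraicGeometry in
open CategoryTheory TopologicalSpace in
/-- Let X be a locally ringed space and U, V ⊆ X open with X = U ⊔ V (they cover X and are disjoint),
such that the open subspaces X|_U and X|_V are affine schemes. Then X is an affine scheme: the
canonical morphism X → Spec Γ(X, O_X) is an isomorphism of locally ringed spaces. -/
theorem result
    (X : LocallyRingedSpace.{u}) (U V : Opens X.toTopCat) (hUV : IsCompl U V)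
    (A B : CommRingCat.{u})
    (eU : X.restrict U.isOpenEmbedding ≅ (Spec A).toLocallyRingedSpace)
    (eV : X.restrict V.isOpenEmbedding ≅ (Spec B).toLocallyRingedSpace) :
    IsIso X.toΓSpec := by
  have hloc : ∀ x : X, ∃ (W : OpenNhds x) (R : CommRingCat.{u}),
      Nonempty (X.restrict W.isOpenEmbedding ≅ Spec.toLocallyRingedSpace.obj (Opposite.op R)) := by
    intro x
    have hx : x ∈ U ⊔ V := by rw [hUV.sup_eq_top]; trivial
    rcases hx with hx | hx
    · exact ⟨⟨U, hx⟩, A, ⟨eU⟩⟩
    · exact ⟨⟨V, hx⟩, B, ⟨eV⟩⟩
  let S : Scheme.{u} := { toLocallyRingedSpace := X, local_affine := hloc }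
  have hU : IsAffineOpen (X := S) U :=
    @IsAffine.of_isIso _ _ ((Scheme.fullyFaithfulForgetToLocallyRingedSpace.preimageIso
      (X := Scheme.Opens.toScheme (X := S) U) (Y := Spec A) eU).hom) inferInstance _
  have hV : IsAffineOpen (X := S) V :=
    @IsAffine.of_isIso _ _ ((Scheme.fullyFaithfulForgetToLocallyRingedSpace.preimageIso
      (X := Scheme.Opens.toScheme (X := S) V) (Y := Spec B) eV).hom) inferInstance _
  have hT : IsAffineOpen (⊤ : S.Opens) := by
    rw [← hUV.sup_eq_top]
    exact IsAffineOpen.sup_of_disjoint hU hV hUV.disjoint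
  have hS : IsAffine S := @IsAffine.of_isIso _ _ S.topIso.inv inferInstance hT
  exact (Scheme.forgetToLocallyRingedSpace).map_isIso S.toSpecΓ

end Groth.Agent.S9511
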