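import Groth.Statements.S9513
import Groth.Agent.Lib.RLpsi8.AffBasisSheaf

set_option autoImplicit false
universe u
open SchMor

namespace Groth.Agent.S9513

open AlgebraicGeometry in
open CategoryTheory TopologicalSpace Opposite in
/-- (1) ⇔ (3): Let X be a scheme and B the set of affine opens of X, ordered by inclusion; let F be a
presheaf of sets on B (a functor on Bᵒᵖ) and E ∈ B the empty open. Then F is isomorphic to the
restriction to B of a sheaf of sets on X if and only if (a) F(∅) is a singleton and (b) for all U ∈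
B and sections f, g of O_X over U with U = D(f) ∪ D(g), writing V = D(f), W = D(g) and V ∩ W = D(fg)
(all in B), the map F(U) → F(V) × F(W) is injective with image exactly the pairs (s, t) whose
restrictions to D(fg) agree. (The order relations V, W ≤ U and D(fg) ≤ V, W are supplied as
hypotheses; they follow from the equations.) -/
theorem result (X : Scheme.{u})
    (F : (X.affineOpens)ᵒᵖ ⥤ Type u) (E : X.affineOpens) (hE : (E : X.Opens) = ⊥) :
    (∃ G : TopCat.Sheaf (Type u) X.carrier,
        Nonempty ((Monotone.functor (f := fun U : X.affineOpens => (U : X.Opens)) (fun _ _ h => h)).op ⋙ G.1 ≅ F)) ↔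
    ((Nonempty (F.obj (op E)) ∧ Subsingleton (F.obj (op E))) ∧
      ∀ (U V W VW : X.affineOpens) (f g : Γ(X, (U : X.Opens))),
        (V : X.Opens) = X.basicOpen f → (W : X.Opens) = X.basicOpen g →
        (VW : X.Opens) = X.basicOpen (f * g) → (U : X.Opens) = (V : X.Opens) ⊔ (W : X.Opens) →
        ∀ (hV : V ≤ U) (hW : W ≤ U) (h1 : VW ≤ V) (h2 : VW ≤ W),
        Function.Injective (fun s : F.obj (op U) => (F.map (homOfLE hV).op s, F.map (homOfLE hW).op s)) ∧
        Set.range (fun s : F.obj (op U) => (F.map (homOfLE hV).op s, F.map (homOfLE hW).op s)) =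
          {p | F.map (homOfLE h1).op p.1 = F.map (homOfLE h2).op p.2}) := by
  constructor
  · rintro ⟨G, ⟨e⟩⟩
    let Φ : ∀ U : X.affineOpens, G.1.obj (op (U : X.Opens)) ≃ F.obj (op U) := fun U => (e.app (op U)).toEquiv
    have nat : ∀ {U V : X.affineOpens} (h : V ≤ U) (x : G.1.obj (op (U : X.Opens))),
        F.map (homOfLE h).op (Φ U x) =
          Φ V (G.1.map (homOfLE (show (V : X.Opens) ≤ U from h)).op x) := fun {U V} h x =>
      (ConcreteCategory.congr_hom (e.hom.naturality (homOfLE h).op) x).symm
    refine ⟨⟨?_, ?_⟩, fun U V W VW f g hVf hWg hVWfg hU hV hW h1 h2 => ⟨?_, ?_⟩⟩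
    · obtain ⟨s, -, -⟩ := G.existsUnique_gluing' (fun i : PEmpty.{u + 1} => (⊥ : X.Opens)) (E : X.Opens)
        (fun i => i.elim) (by rw [hE]; exact bot_le) (fun i => i.elim) (fun i => i.elim)
      exact ⟨Φ E s⟩
    · refine ⟨fun a b => (Φ E).symm.injective ?_⟩
      exact G.eq_of_locally_eq' (fun i : PEmpty.{u + 1} => (⊥ : X.Opens)) (E : X.Opens)
        (fun i => i.elim) (by rw [hE]; exact bot_le) _ _ (fun i => i.elim)
    · intro a b hab
      obtain ⟨a, rfl⟩ := (Φ U).surjective a
      obtain ⟨b, rfl⟩ := (Φ U).surjective b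
      simp only [Prod.ext_iff, nat] at hab
      exact congrArg (Φ U) (G.eq_of_locally_eq₂ _ _ hU.le a b ((Φ V).injective hab.1) ((Φ W).injective hab.2))
    · refine Set.Subset.antisymm ?_ ?_
      · rintro _ ⟨s, rfl⟩
        show F.map _ (F.map _ s) = F.map _ (F.map _ s)
        rw [← Functor.map_comp_apply, ← Functor.map_comp_apply]
        rfl
      · rintro ⟨a, b⟩ hab
        obtain ⟨a, rfl⟩ := (Φ V).surjective a
        obtain ⟨b, rfl⟩ := (Φ W).surjective b
        replace hab : G.1.map (homOfLE (show (VW : X.Opens) ≤ V from h1)).op a =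
            G.1.map (homOfLE (show (VW : X.Opens) ≤ W from h2)).op b :=
          (Φ VW).injective (((nat h1 a).symm.trans hab).trans (nat h2 b))
        have hVW : (V : X.Opens) ⊓ W ≤ VW := by rw [hVf, hWg, hVWfg, X.basicOpen_mul]
        have hab' : G.1.map (homOfLE (inf_le_left : (V : X.Opens) ⊓ W ≤ V)).op a =
            G.1.map (homOfLE (inf_le_right : (V : X.Opens) ⊓ W ≤ W)).op b := by
          have := congrArg (G.1.map (homOfLE hVW).op) hab
          rw [← Functor.map_comp_apply, ← Functor.map_comp_apply] at this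
          exact this
        let Wb : ULift.{u} Bool → X.Opens := fun t => cond t.down (V : X.Opens) W
        let sb : ∀ t, G.1.obj (op (Wb t)) := fun
          | ⟨true⟩ => a
          | ⟨false⟩ => b
        obtain ⟨s, hs, -⟩ := G.existsUnique_gluing' Wb (U : X.Opens)
          (fun t => homOfLE (by rcases t with ⟨_ | _⟩ <;> [exact hW; exact hV]))
          (by
            rw [hU]
            exact sup_le (le_iSup Wb ⟨true⟩) (le_iSup Wb ⟨false⟩)) sb (by
            rintro ⟨_ | _⟩ ⟨_ | _⟩
            · rfl
            · have := congrArg (G.1.map (homOfLE (show (W : X.Opens) ⊓ V ≤ (V : X.Opens) ⊓ W from inf_comm .. |>.le)).op) hab'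
              rw [← Functor.map_comp_apply, ← Functor.map_comp_apply] at this
              exact this.symm
            · exact hab'
            · rfl)
        refine ⟨Φ U s, Prod.ext ?_ ?_⟩
        · exact (nat hV s).trans (congrArg (Φ V) (hs ⟨true⟩))
        · exact (nat hW s).trans (congrArg (Φ W) (hs ⟨false⟩))
  · rintro ⟨⟨hne, hss⟩, hglue⟩
    have hF : GrothLib.RLpsi8.AffBasis.PairGlue F := by
      refine ⟨fun E' hE' => ?_, fun E' hE' => ?_, hglue⟩
      · obtain rfl : E' = E := Subtype.ext (hE'.trans hE.symm)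
        exact hne
      · obtain rfl : E' = E := Subtype.ext (hE'.trans hE.symm)
        exact hss
    exact ⟨⟨_, hF.isSheaf_extPresheaf⟩, ⟨GrothLib.RLpsi8.AffBasis.extIso F⟩⟩

end Groth.Agent.S9513
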