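import Groth.Statements.S9518
import Groth.Agent.Lib.BCAcyc22.RelCech

set_option autoImplicit false
universe u
open CategoryTheory CategoryTheory.Limits AlgebraicGeometry
attribute [local instance] HasDerivedCategory.standard
open CechOX

namespace Groth.Agent.S9518

/-- Let f : X → S be a morphism of schemes, F a quasi-coherent O_X-module, X quasi-compact, and X and S
with affine diagonal. For a finite covering 𝒰 of X by affine opens, the relative Čech complex Č(𝒰,
f, F) (terms: products of the direct images of F restricted to the finite intersections) is a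
complex of quasi-coherent O_S-modules, and its image in the derived category of O_S-modules is
isomorphic to Rf_* F. (The published statement works in the bounded-below derived category and makes
the isomorphism functorial in F; this row uses the unbounded derived functor Rf_* under its
existence binder and asserts only the existence of an isomorphism.) -/
theorem result {X S : Scheme.{u}} (f : X ⟶ S) [CompactSpace X]
    [IsAffineHom (pullback.diagonal (terminal.from X))] [IsAffineHom (pullback.diagonal (terminal.from S))]
    (F : X.Modules) (hF : Coh.IsQCoh F) {ι : Type u} [Finite ι] (𝒰 : ι → X.Opens)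
    (h𝒰 : ∀ i, IsAffineOpen (𝒰 i)) (hcov : ⨆ i, 𝒰 i = ⊤) [DCoh.HasRpush f] :
    (∀ p : ℕ, Coh.IsQCoh (((CechOX.relCech 𝒰 f).obj F).X p)) ∧
      Nonempty (DCoh.toD S (CechOX.relCechZ 𝒰 f F) ≅ (DCoh.Rpush f).obj (DCoh.inD X F)) := by
  exact ⟨fun p => GrothLib.BCAcyc22.isQCoh_relCech_X f 𝒰 h𝒰 F hF p,
    GrothLib.BCAcyc22.nonempty_relCechZ_iso f 𝒰 h𝒰 F hF hcov⟩

end Groth.Agent.S9518
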