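import Groth.Statements.S9522
import Groth.Agent.Lib.QCoh.DevissageExt
import Groth.Agent.Lib.QCoh.Coherent

set_option autoImplicit false
universe u
open CategoryTheory CategoryTheory.Limits AlgebraicGeometry
attribute [local instance] HasDerivedCategory.standard
open Coherent

namespace Groth.Agent.S9522

/-- Let X be a Noetherian scheme, Z₀ ⊆ X an irreducible closed subset with generic point ξ, and P an
isomorphism-invariant property of O_X-modules that holds for every zero module and such that (1) for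
every short exact sequence 0 → F₁ → F → F₂ → 0 of coherent modules, P(F₁) and P(F₂) imply P(F); (2)
for coherent F, P(F^⊕r) for some r ≥ 1 implies P(F); (3) P holds for i_*I for every closed immersion
i : Z → X with Z integral, i(Z) a proper subset of Z₀, and every quasi-coherent ideal sheaf I ⊆ O_Z;
(4) there is a coherent module G with support equal to Z₀, whose stalk at ξ is annihilated by the
maximal ideal of O_{X,ξ}, and such that for every quasi-coherent sheaf of ideals J on X with ξ ∉
V(J) there is a quasi-coherent submodule G' ⊆ J·G whose inclusion into G induces an isomorphism on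
stalks at ξ and for which P holds. Then P holds for every coherent O_X-module whose support is
contained in Z₀. (The published statement does not ask that P hold for the zero module, although its
proof uses this for a filtration with no steps; without it the conclusion fails for the zero module
when Z₀ is a closed point: on the spectrum of a field, with P(F) meaning that F is nonzero, every
other hypothesis holds. This row assumes that P holds for every zero module.) -/
theorem result (X : Scheme.{u}) [IsNoetherian X]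
    (Z₀ : Set X) (hZ₀ : IsClosed Z₀) (hirr : IsIrreducible Z₀) (ξ : X) (hξ : ξ ∈ Z₀ ∧ closure {ξ} = Z₀)
    (P : X.Modules → Prop) (hP : ∀ M N : X.Modules, Nonempty (M ≅ N) → P M → P N)
    (h₀ : ∀ M : X.Modules, IsZero M → P M)
    (h₁ : ∀ S : ShortComplex X.Modules, S.ShortExact → Coh.IsCoh S.X₁ → Coh.IsCoh S.X₂ → Coh.IsCoh S.X₃ →
      P S.X₁ → P S.X₃ → P S.X₂)
    (h₂ : ∀ (F : X.Modules) (r : ℕ), Coh.IsCoh F → 1 ≤ r → P (∐ fun _ : Fin r => F) → P F)
    (h₃ : ∀ (Z : Scheme.{u}) (i : Z ⟶ X), IsClosedImmersion i → IsIntegral Z →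
      Set.range ⇑i ⊆ Z₀ → Set.range ⇑i ≠ Z₀ →
      ∀ (I : Z.Modules) (ι : I ⟶ Coh.structureModule Z), Mono ι → Coh.IsQCoh I → P ((Coh.push i).obj I))
    (h₄ : ∃ G : X.Modules, Coh.IsCoh G ∧ CohB1.support G = Z₀ ∧
      (∀ a ∈ IsLocalRing.maximalIdeal (X.presheaf.stalk ξ), ∀ m : ↑(G.presheaf.stalk ξ), a • m = 0) ∧
      ∀ J : X.IdealSheafData, ξ ∉ (J.support : Set X) →
        ∃ (G' : X.Modules) (ι' : G' ⟶ (Dual3.idealMul J).obj G), Mono ι' ∧ Coh.IsQCoh G' ∧
          IsIso ((TopCat.Presheaf.stalkFunctor _ ξ).map (ι' ≫ Dual3.idealMulι J G).mapPresheaf) ∧ P G')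
    (F : X.Modules) (hF : Coh.IsCoh F) (hsupp : CohB1.support F ⊆ Z₀) : P F := by
  obtain ⟨hξ₀, hξc⟩ := hξ
  obtain ⟨G, hG, hGs, hGm, hJ⟩ := h₄
  have := hG.1
  let P' : X.Modules → Prop := fun M ↦ CohB1.support M ⊆ Z₀ → P M
  have key : ∀ M : X.Modules, Coh.IsCoh M → (∀ (Z : Scheme.{u}) (i : Z ⟶ X), IsClosedImmersion i →
      IsIntegral Z → ∀ (N : Z.Modules) (ι : N ⟶ Coh.structureModule Z), Mono ι → Coh.IsCoh N →
      ¬ IsZero N → CohB1.support ((Coh.push i).obj N) ⊆ CohB1.support M → P' ((Coh.push i).obj N)) →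
      P' M := fun M hM h ↦ GrothLib.QCoh.coh_induction P'
    (fun A B e hA hB ↦ hP A B e (hA ((GrothLib.QCoh.support_eq_of_iso e.some).le.trans hB)))
    (fun A hA _ ↦ h₀ A hA)
    (fun S hS a b c h₁' h₃' h2 ↦ h₁ S hS a b c
      (h₁' ((have := hS.mono_f; GrothLib.QCoh.support_subset_of_mono S.f).trans h2))
      (h₃' ((have := hS.epi_g; GrothLib.QCoh.support_subset_of_epi S.g).trans h2))) M hM h
  refine key F hF (fun Z i hi hZ N ι hι hN hN0 _ hsub ↦ ?_) hsupp
  have hiZ : Set.range i ⊆ Z₀ :=
    (GrothLib.QCoh.range_subset_support_push i N ι hN hN0).trans hsub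
  by_cases heq : Set.range i = Z₀
  swap
  · exact h₃ Z i hi hZ hiZ heq N ι hι hN.1
  have hη : i (genericPoint Z) = ξ :=
    (inseparable_iff_closure_eq.2
      ((GrothLib.QCoh.closure_singleton_eq_range i).trans (heq.trans hξc.symm))).eq
  subst hη
  refine GrothLib.QCoh.piece_of_submodules i P hP h₁ (fun A d hd hA ↦ h₂ A d hA hd)
    (fun M hM hsub' hx ↦ ?_) G hG (hGs.symm ▸ hξ₀) hGm (fun G₁ m hm hG₁ hb ↦ ?_) N ι hN hN0
  · refine key M hM (fun W j hj hW N' ι' hι' hN' hN0' hsub'' _ ↦ ?_) (hsub'.trans hiZ)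
    have hjM : Set.range j ⊆ CohB1.support M :=
      (GrothLib.QCoh.range_subset_support_push j N' ι' hN' hN0').trans hsub''
    refine h₃ W j hj hW ((hjM.trans hsub').trans hiZ) (fun e ↦ hx (hjM ?_)) N' ι' hι' hN'.1
    rw [e]
    exact hξ₀
  · let C := cokernel m
    have hC : Coh.IsCoh C := GrothLib.QCoh.isCoh_cokernel m hG₁ hG
    have := hC.1
    let J := GrothLib.QCoh.annIdeal C hC.2
    have := GrothLib.QCoh.isIso_unit_annIdeal C hC.2
    obtain ⟨G', ι', hι', hG'q, hiso, hPG'⟩ := hJ J <| by
      rw [GrothLib.QCoh.coe_support_annIdeal]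
      exact GrothLib.QCoh.notMem_support_cokernel_of_surjective m hb.2
    have hιC : Dual3.idealMulι J C = 0 := by
      have h : Dual3.idealMulι J C ≫
          (Scheme.Modules.pullbackPushforwardAdjunction J.subschemeι).unit.app C = 0 :=
        kernel.condition _
      rw [← cancel_mono ((Scheme.Modules.pullbackPushforwardAdjunction J.subschemeι).unit.app C),
        zero_comp, h]
    let g := ι' ≫ Dual3.idealMulι J G
    have : Mono g := mono_comp _ _
    have hw : g ≫ cokernel.π m = 0 := by
      rw [Category.assoc, ← Dual3.idealMul_map_ι, hιC, comp_zero, comp_zero]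
    let a := Abelian.monoLift m g hw
    have ha : a ≫ m = g := Abelian.monoLift_comp m g hw
    have : Mono a := @mono_of_mono _ _ _ _ _ a m (ha.symm ▸ inferInstance)
    refine ⟨G', a, inferInstance, ⟨hG'q, ?_⟩, ?_, hPG'⟩
    · have : G'.IsQuasicoherent := hG'q
      exact GrothLib.QCoh.isFiniteType_of_mono g hG.2
    · refine (Function.Bijective.of_comp_iff' hb _).1 ?_
      rw [show ⇑(GrothLib.QCoh.stalkLin m (i (genericPoint Z))) ∘
          ⇑(GrothLib.QCoh.stalkLin a (i (genericPoint Z))) =
          ⇑(GrothLib.QCoh.stalkLin g (i (genericPoint Z))) from funext fun e ↦ by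
        rw [← ha, GrothLib.QCoh.stalkLin_comp]; rfl]
      refine ⟨GrothLib.QCoh.stalkLin_injective g _, fun e ↦ ?_⟩
      obtain ⟨z, hz⟩ := ((ConcreteCategory.isIso_iff_bijective _).1 hiso).2 e
      obtain ⟨V, hV, s, rfl⟩ := TopCat.Presheaf.exists_germ_eq G'.presheaf z
      refine ⟨G'.presheaf.germ V _ hV s, (GrothLib.QCoh.stalkLin_germ g hV s).trans ?_⟩
      exact (TopCat.Presheaf.stalkFunctor_map_germ_apply V _ hV g.mapPresheaf s).symm.trans hz

end Groth.Agent.S9522
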