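import Groth.Statements.S9523
import Groth.Agent.Lib.IdealMul9.Ops

set_option autoImplicit false
universe u
open CategoryTheory CategoryTheory.Limits AlgebraicGeometry
attribute [local instance] HasDerivedCategory.standard
open Coherent

namespace Groth.Agent.S9523

/-- Let f : Y → X be an affine morphism of schemes, F a quasi-coherent O_Y-module and I a quasi-coherent
sheaf of ideals on X. Then I·f_*F = f_*((f⁻¹I O_Y)·F) as submodules of f_*F: there is an isomorphism
I·f_*F ≅ f_*((f⁻¹I O_Y)·F) whose composite with f_* of the inclusion (f⁻¹I O_Y)·F → F is the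
inclusion I·f_*F → f_*F. (J·M denotes the submodule sheaf Dual3.idealMul J M; f⁻¹I O_Y is the
pulled-back ideal sheaf I.comap f.) -/
theorem result {Y X : Scheme.{u}} (f : Y ⟶ X) [IsAffineHom f]
    (F : Y.Modules) (hF : Coh.IsQCoh F) (I : X.IdealSheafData) :
    ∃ e : (Dual3.idealMul I).obj ((Scheme.Modules.pushforward f).obj F) ≅
        (Scheme.Modules.pushforward f).obj ((Dual3.idealMul (I.comap f)).obj F),
      e.hom ≫ (Scheme.Modules.pushforward f).map (Dual3.idealMulι (I.comap f) F) =
        Dual3.idealMulι I ((Scheme.Modules.pushforward f).obj F) := by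
  exact GrothLib.IdealMul9.exists_pushforward_iso f hF I

end Groth.Agent.S9523
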