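import Groth.Statements.S9525
import Groth.Agent.Lib.QCoh.SupportExact
import Groth.Agent.Lib.QCoh.Abelian

set_option autoImplicit false
universe u
open Coherent

namespace Groth.Agent.S9525

open CategoryTheory CategoryTheory.Limits AlgebraicGeometry in
/-- Let X be a locally Noetherian scheme, F and G coherent O_X-modules, φ : G → F a morphism and x ∈ X.
(1) If F_x = 0 there is an open neighbourhood U of x with F|_U = 0. (2) If the stalk map φ_x : G_x →
F_x is injective there is an open neighbourhood U of x with φ|_U injective. (4) If φ_x is bijective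
there is an open neighbourhood U of x with φ|_U an isomorphism. (Part (3), surjectivity, is the
finite-type statement valid on any ringed space and is not restated.) -/
theorem result (X : Scheme.{u}) [IsLocallyNoetherian X]
    (F G : X.Modules) (hF : Coh.IsCoh F) (hG : Coh.IsCoh G) (φ : G ⟶ F) (x : X) :
    (Subsingleton ↑(F.presheaf.stalk x) →
      ∃ U : X.Opens, x ∈ U ∧ IsZero ((Scheme.Modules.restrictFunctor U.ι).obj F)) ∧
    (Function.Injective ((TopCat.Presheaf.stalkFunctor _ x).map φ.mapPresheaf).hom →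
      ∃ U : X.Opens, x ∈ U ∧ Mono ((Scheme.Modules.restrictFunctor U.ι).map φ)) ∧
    (Function.Bijective ((TopCat.Presheaf.stalkFunctor _ x).map φ.mapPresheaf).hom →
      ∃ U : X.Opens, x ∈ U ∧ IsIso ((Scheme.Modules.restrictFunctor U.ι).map φ)) := by
  have hz : ∀ (M : X.Modules) (U : X.Opens), (∀ V ≤ U, Subsingleton Γ(M, V)) →
      IsZero ((Scheme.Modules.restrictFunctor U.ι).obj M) := fun M U h ↦
    (IsZero.iff_id_eq_zero _).2 (Scheme.Modules.hom_ext _ _ fun W ↦ by
      ext z
      have := h (U.ι ''ᵁ W) (U.ι_image_le W)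
      exact @Subsingleton.elim Γ(M, U.ι ''ᵁ W) _ _ _)
  have hnb : ∀ (M : X.Modules), Coh.IsCoh M → x ∉ CohB1.support M →
      ∃ U : X.Opens, x ∈ U ∧ ∀ V ≤ U, Subsingleton Γ(M, V) := fun M hM hx ↦
    GrothLib.QCoh.exists_nhd_of_notMem_support M hM.2 hx
  refine ⟨fun h ↦ ?_, fun h ↦ ?_, fun h ↦ ?_⟩
  · obtain ⟨U, hU, hU'⟩ := hnb F hF (fun hx ↦ hx h)
    exact ⟨U, hU, hz F U hU'⟩
  · obtain ⟨U, hU, hU'⟩ := hnb _ (GrothLib.QCoh.isCoh_kernel φ hG hF)
      (GrothLib.QCoh.notMem_support_kernel_of_injective φ h)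
    exact ⟨U, hU, Preadditive.mono_of_isZero_kernel _
      ((hz _ U hU').of_iso (PreservesKernel.iso (Scheme.Modules.restrictFunctor U.ι) φ).symm)⟩
  · obtain ⟨U, hU, hU'⟩ := hnb _ (GrothLib.QCoh.isCoh_kernel φ hG hF)
      (GrothLib.QCoh.notMem_support_kernel_of_injective φ h.1)
    obtain ⟨V, hV, hV'⟩ := hnb _ (GrothLib.QCoh.isCoh_cokernel φ hG hF)
      (GrothLib.QCoh.notMem_support_cokernel_of_surjective φ h.2)
    refine ⟨U ⊓ V, ⟨hU, hV⟩, ?_⟩
    have := Preadditive.mono_of_isZero_kernel _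
      ((hz _ (U ⊓ V) fun W hW ↦ hU' W (hW.trans inf_le_left)).of_iso
        (PreservesKernel.iso (Scheme.Modules.restrictFunctor (U ⊓ V).ι) φ).symm)
    have := Preadditive.epi_of_isZero_cokernel _
      ((hz _ (U ⊓ V) fun W hW ↦ hV' W (hW.trans inf_le_right)).of_iso
        (PreservesCokernel.iso (Scheme.Modules.restrictFunctor (U ⊓ V).ι) φ).symm)
    exact isIso_of_mono_of_epi _


end Groth.Agent.S9525
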