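import Groth.Statements.S9528
import Groth.Agent.Lib.CFEquiv7.Equiv

set_option autoImplicit false
universe u
open Formal2

namespace Groth.Agent.S9528

open CategoryTheory AlgebraicGeometry in
/-- For the ideal sheaves generated by ideals of a base ring: let X be a Noetherian scheme over Spec A
and I, J ideals of A such that the closed subsets of X lying over V(I) and over V(J) coincide (that
is, V(I·O_X) = V(J·O_X)). Then the category of coherent formal modules for I on X is equivalent to
the one for J. (The published statement treats arbitrary quasi-coherent ideal sheaves of X with the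
same vanishing locus; this row covers ideal sheaves generated by ideals of a base ring.) -/
theorem result (A : Type u) [CommRing A] (I J : Ideal A)
    (X : Scheme.{u}) [X.Over (Spec (CommRingCat.of A))] [IsNoetherian X]
    (hV : (fun x : X => (X ↘ Spec (CommRingCat.of A)) x) ⁻¹' PrimeSpectrum.zeroLocus (I : Set A) =
      (fun x : X => (X ↘ Spec (CommRingCat.of A)) x) ⁻¹' PrimeSpectrum.zeroLocus (J : Set A)) :
    Nonempty (Formal2.CohFormalCat I X ≌ Formal2.CohFormalCat J X) := by
  obtain ⟨a, ha⟩ := GrothLib.CFEquiv7.exists_mul_killedBy I J (le_of_eq hV.symm)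
  obtain ⟨b, hb⟩ := GrothLib.CFEquiv7.exists_mul_killedBy J I (le_of_eq hV)
  have ha' : ∀ (k : ℕ) (M : X.Modules), Formal.KilledBy (J ^ k) M → Formal.KilledBy (I ^ ((a + 1) * k)) M :=
    fun k M h => GrothLib.FormalSys.killedBy_mono (Ideal.pow_le_pow_right (Nat.mul_le_mul_right k (Nat.le_succ a))) (ha k M h)
  have hb' : ∀ (k : ℕ) (M : X.Modules), Formal.KilledBy (I ^ k) M → Formal.KilledBy (J ^ ((b + 1) * k)) M :=
    fun k M h => GrothLib.FormalSys.killedBy_mono (Ideal.pow_le_pow_right (Nat.mul_le_mul_right k (Nat.le_succ b))) (hb k M h)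
  obtain ⟨η⟩ := GrothLib.CFEquiv7.nonempty_iso_change_change I J (a + 1) ha' (b + 1) hb' (Nat.le_add_left 1 a) (Nat.le_add_left 1 b)
  obtain ⟨ε⟩ := GrothLib.CFEquiv7.nonempty_iso_change_change J I (b + 1) hb' (a + 1) ha' (Nat.le_add_left 1 b) (Nat.le_add_left 1 a)
  exact ⟨CategoryTheory.Equivalence.mk (GrothLib.CFEquiv7.change I J (a + 1) ha')
    (GrothLib.CFEquiv7.change J I (b + 1) hb') η.symm ε⟩

end Groth.Agent.S9528
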