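import Groth.Statements.S9531
import Groth.Agent.Lib.FormalExist7.Extend
import Groth.Agent.Lib.MLPro7.Basic
import Mathlib.AlgebraicGeometry.Modules.Tilde

set_option autoImplicit false
universe u
open CategoryTheory CategoryTheory.Limits AlgebraicGeometry Opposite
open Algz

namespace Groth.Agent.S9531

/-- Let A be a Noetherian ring, I ⊆ 𝔞 ideals, U = Spec A ∖ V(𝔞), and take (F_n) in Coh(U, I O_U).
Suppose (F_n) extends canonically to Spec A; then (F_n) extends to Spec A: there is an object of
Coh(Spec A, I O) whose restriction to U is isomorphic to (F_n). (Spec A is regarded over itself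
through the identity.) -/
theorem result (A : Type u) [CommRing A] [IsNoetherianRing A] (I 𝔞 : Ideal A) (hI𝔞 : I ≤ 𝔞)
    (G : ℕᵒᵖ ⥤ (↑(LocCoh.puncturedOpen A 𝔞) : Scheme.{u}).Modules) (hG : Formal.IsCohFormal I G)
    (h : Algz.CanonicallyExtends A I (LocCoh.puncturedOpen A 𝔞) G) :
    @Algz.Extends A _ (Spec (CommRingCat.of A)) ⟨𝟙 (Spec (CommRingCat.of A))⟩ I (LocCoh.puncturedOpen A 𝔞) G := by
  letI : (Spec (CommRingCat.of A)).Over (Spec (CommRingCat.of A)) := ⟨𝟙 (Spec (CommRingCat.of A))⟩
  obtain ⟨G', hG', m, hm, hle, a, ha⟩ := h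
  let U := LocCoh.puncturedOpen A 𝔞
  let R := Scheme.Modules.restrictFunctor U.ι
  let P := Scheme.Modules.pushforward U.ι
  haveI : IsLocallyNoetherian (U : Scheme.{u}) := inferInstance
  have hq : ∀ k, (P.obj (G.obj k)).IsQuasicoherent := fun k => by
    haveI := (hG.1 k.unop).1
    exact GrothLib.QCoh.isQuasicoherent_pushforward U.ι (G.obj (op k.unop))
  have this_k : ∀ k, IsIso (Scheme.Modules.fromTildeΓ (R := CommRingCat.of A) (P.obj (G.obj k))) := fun k => by
    haveI := hq k
    exact Scheme.Modules.isIso_fromTildeΓ_of_isQuasicoherent (R := CommRingCat.of A) (P.obj (G.obj k))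
  haveI : ∀ M, IsIso ((Scheme.Modules.restrictAdjunction U.ι).counit.app M) := GrothLib.K0Sub.isIso_counit U.ι
  let η : Algz.sectSys A U G ⋙ R ≅ G := NatIso.ofComponents
    (fun k => R.mapIso (@asIso _ _ _ _ _ (this_k k)) ≪≫ asIso ((Scheme.Modules.restrictAdjunction U.ι).counit.app (G.obj k)))
    (fun {k l} f => by
      have h1 := (Scheme.Modules.fromTildeΓNatTrans (R := CommRingCat.of A)).naturality (P.map (G.map f))
      have h2 := (Scheme.Modules.restrictAdjunction U.ι).counit.naturality (G.map f)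
      simp only [Iso.trans_hom, Functor.mapIso_hom, asIso_hom, Category.assoc]
      refine (Category.assoc _ _ _).symm.trans ?_
      refine (congrArg (· ≫ _) ((R.map_comp _ _).symm.trans ((congrArg R.map h1).trans (R.map_comp _ _)))).trans ?_
      exact (Category.assoc _ _ _).trans (congrArg (_ ≫ ·) h2))
  have hU : Formal.IsCohFormal I (G' ⋙ Scheme.Modules.pullback U.ι) :=
    GrothLib.FormalExist7.isCohFormal_pullback U.ι (Category.comp_id _) hG'
  let b : DerCA.reindex G hm ⟶ G' ⋙ Scheme.Modules.pullback U.ι :=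
    (Functor.isoWhiskerLeft (Monotone.functor hm).op η).inv ≫
      Functor.whiskerRight a R ≫ (Functor.isoWhiskerLeft G' (Scheme.Modules.restrictFunctorIsoPullback U.ι)).hom
  have hb : DerCA.IsProIso b := by
    refine GrothLib.MLPro7.isProIso_iso_comp (Functor.isoWhiskerLeft (Monotone.functor hm).op η).symm _ fun n => ?_
    obtain ⟨p, hp, c, h1, h2⟩ := GrothLib.MLPro7.isProIso_map R a ha n
    let e := Functor.isoWhiskerLeft G' (Scheme.Modules.restrictFunctorIsoPullback U.ι)
    refine ⟨p, hp, e.inv.app (op p) ≫ c, ?_, ?_⟩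
    · rw [NatTrans.comp_app, Category.assoc, Iso.hom_inv_id_app_assoc]
      exact h1
    · rw [NatTrans.comp_app, Category.assoc, reassoc_of% h2]
      exact (congrArg (e.inv.app (op p) ≫ ·) (e.hom.naturality _)).trans (Iso.inv_hom_id_app_assoc e _ _)
  obtain ⟨β⟩ := GrothLib.FormalSys.nonempty_iso_of_isProIso hG hU hm hle b hb
  exact ⟨G', hG', ⟨Functor.isoWhiskerLeft G' (Scheme.Modules.restrictFunctorIsoPullback U.ι) ≪≫ β.symm⟩⟩

end Groth.Agent.S9531
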