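import Groth.Statements.S9532
import Groth.Agent.Lib.FormalExist7.Induction
import Groth.Agent.Lib.MLPro7.Basic
import Mathlib.AlgebraicGeometry.Modules.Tilde

set_option autoImplicit false
universe u
open CategoryTheory CategoryTheory.Limits AlgebraicGeometry Opposite
open Algz

namespace Groth.Agent.S9532

/-- Let A be a Noetherian ring, I ⊆ 𝔞 ideals, U = Spec A ∖ V(𝔞), and let (F_n) belong to Coh(U, I O_U).
Suppose (F_n) admits a canonical extension to Spec A; then the inverse system of A-modules n ↦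
H^0(U, F_n) satisfies the Mittag-Leffler condition. -/
theorem result (A : Type u) [CommRing A] [IsNoetherianRing A] (I 𝔞 : Ideal A) (hI𝔞 : I ≤ 𝔞)
    (G : ℕᵒᵖ ⥤ (↑(LocCoh.puncturedOpen A 𝔞) : Scheme.{u}).Modules) (hG : Formal.IsCohFormal I G)
    (h : Algz.CanonicallyExtends A I (LocCoh.puncturedOpen A 𝔞) G) :
    ARSys.IsML (Algz.sectMod A (LocCoh.puncturedOpen A 𝔞) G) := by
  letI : (Spec (CommRingCat.of A)).Over (Spec (CommRingCat.of A)) := ⟨𝟙 (Spec (CommRingCat.of A))⟩
  obtain ⟨G', hG', m, hm, hle, a, ha⟩ := h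
  let Γ' := moduleSpecΓFunctor (R := CommRingCat.of A)
  let X := Algz.sectMod A (LocCoh.puncturedOpen A 𝔞) G
  let η := tilde.toTildeΓNatIso (R := CommRingCat.of A)
  let e : DerCA.reindex X hm ≅ DerCA.reindex (Algz.sectSys A (LocCoh.puncturedOpen A 𝔞) G) hm ⋙ Γ' :=
    NatIso.ofComponents (fun j => η.app _) (fun f => η.hom.naturality _)
  refine GrothLib.MLPro7.isML_of_isProIso hle (e.hom ≫ Functor.whiskerRight a Γ')
    (GrothLib.MLPro7.isProIso_iso_comp e _ (GrothLib.MLPro7.isProIso_map Γ' a ha)) fun i j hij => ?_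
  refine (ModuleCat.epi_iff_surjective _).2 ?_
  haveI := (GrothLib.FormalSys.isQuot_map hG' hij).epi
  exact GrothLib.FormalExist7.app_surjective_of_epi (G'.map (homOfLE hij).op) (hG'.1 j) (hG'.1 i) (isAffineOpen_top _)

end Groth.Agent.S9532
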