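import Groth.Statements.S9533
import Groth.Agent.Lib.Algz7.GammaSys
import Groth.Agent.Lib.Algz7.ModuleML
import Groth.Agent.Lib.MLPro7.Basic

set_option autoImplicit false
universe u
open CategoryTheory CategoryTheory.Limits AlgebraicGeometry Opposite
open Algz

namespace Groth.Agent.S9533

/-- Let A be a Noetherian ring, I ⊆ 𝔞 ideals, U = Spec A ∖ V(𝔞), (F_n) an object of Coh(U, I O_U), and M
= lim_n H^0(U, F_n). If (F_n) canonically extends to Spec A, then the limit topology of M agrees
with the I-adic one: for every k some kernel of M → H^0(U, F_n) lies inside I^k M. (Each such kernel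
contains I^(n+1) M automatically. The other part of (4), that M is finitely generated over the
completion of A with respect to I, is not stated here.) -/
theorem result (A : Type u) [CommRing A] [IsNoetherianRing A] (I 𝔞 : Ideal A) (hI𝔞 : I ≤ 𝔞)
    (G : ℕᵒᵖ ⥤ (↑(LocCoh.puncturedOpen A 𝔞) : Scheme.{u}).Modules) (hG : Formal.IsCohFormal I G)
    (h : Algz.CanonicallyExtends A I (LocCoh.puncturedOpen A 𝔞) G) (k : ℕ) :
    ∃ n : ℕ, LinearMap.ker (limit.π (Algz.sectMod A (LocCoh.puncturedOpen A 𝔞) G) (op n)).hom ≤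
      I ^ k • (⊤ : Submodule A ↑(limit (Algz.sectMod A (LocCoh.puncturedOpen A 𝔞) G))) := by
  letI := GrothLib.Algz7.specOverSelf A
  obtain ⟨G', hG', m, hm, hle, a, ha⟩ := h
  let U := LocCoh.puncturedOpen A 𝔞
  let Γ' := moduleSpecΓFunctor (R := CommRingCat.of A)
  let X := Algz.sectMod A U G
  let Y := G' ⋙ Γ'
  let η := tilde.toTildeΓNatIso (R := CommRingCat.of A)
  let e : DerCA.reindex X hm ≅ DerCA.reindex (Algz.sectSys A U G) hm ⋙ Γ' :=
    NatIso.ofComponents (fun j => η.app _) (fun f => η.hom.naturality _)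
  let b : DerCA.reindex X hm ⟶ Y := e.hom ≫ Functor.whiskerRight a Γ'
  have hb : DerCA.IsProIso b := GrothLib.MLPro7.isProIso_iso_comp e _ (GrothLib.MLPro7.isProIso_map Γ' a ha)
  let trY : ∀ {i j : ℕ}, i ≤ j → (Y.obj (op j) →ₗ[A] Y.obj (op i)) := fun h => (Y.map (homOfLE h).op).hom
  have hY : ∀ {q n : ℕ} (h : q ≤ n), Function.Surjective (trY h) ∧
      LinearMap.ker (trY h) = I ^ (q + 1) • (⊤ : Submodule A (Y.obj (op n))) :=
    fun h => GrothLib.Algz7.gammaSys_props hG' h
  haveI : Module.Finite A (Y.obj (op 0)) := GrothLib.Algz7.gammaSys_finite hG' 0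
  obtain ⟨L, iL₁, iL₂, iL₃, iL₄, -, π, hπ, hinj, hlift, -, hker⟩ :=
    GrothLib.FormalExist7.exists_limit I (fun n => Y.obj (op n)) (fun n => trY (Nat.le_succ n))
      (fun n => (hY (Nat.le_succ n)).1) (fun n => (hY (Nat.le_succ n)).2)
  have hπ' : ∀ {i j : ℕ} (h : i ≤ j) (l : L), trY h (π j l) = π i l := by
    intro i j h l
    induction h with
    | refl => exact ConcreteCategory.congr_hom (Y.map_id _) _
    | @step t h ih =>
      refine Eq.trans ?_ ih
      rw [← hπ t l]
      exact ConcreteCategory.congr_hom (Y.map_comp (homOfLE (Nat.le_succ t)).op (homOfLE h).op) _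
  have hX : ∀ {i j l : ℕ} (h : i ≤ j) (h' : j ≤ l) (x : X.obj (op l)),
      (ARSys.tr X h).hom ((ARSys.tr X h').hom x) = (ARSys.tr X (h.trans h')).hom x :=
    fun h h' x => (ConcreteCategory.congr_hom (X.map_comp (homOfLE h').op (homOfLE h).op) x).symm
  have hnat : ∀ {i j : ℕ} (h : i ≤ j) (x : X.obj (op (m j))),
      trY h ((b.app (op j)).hom x) = (b.app (op i)).hom ((ARSys.tr X (hm h)).hom x) :=
    fun h x => (ConcreteCategory.congr_hom (b.naturality (homOfLE h).op) x).symm
  have hlimw : ∀ {i j : ℕ} (h : i ≤ j) (x : ↑(limit X)),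
      (ARSys.tr X h).hom ((limit.π X (op j)).hom x) = (limit.π X (op i)).hom x :=
    fun h x => ConcreteCategory.congr_hom (limit.w X (homOfLE h).op) x
  choose p hp c h1 h2 using hb
  have hφex : ∀ x : ↑(limit X), ∃ l : L, ∀ j, π j l = (b.app (op j)).hom ((limit.π X (op (m j))).hom x) :=
    fun x => hlift (fun j => (b.app (op j)).hom ((limit.π X (op (m j))).hom x)) fun j => by
      rw [hnat, hlimw]
  choose φ hφ using hφex
  let φl : ↑(limit X) →ₗ[A] L :=
    { toFun := φ
      map_add' := fun x y => sub_eq_zero.1 (hinj _ fun j => by simp [hφ])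
      map_smul' := fun r x => sub_eq_zero.1 (hinj _ fun j => by simp [hφ]) }
  have hc : ∀ j (x : ↑(limit X)), (c j).hom (π (p j) (φ x)) = (limit.π X (op (m j))).hom x := fun j x => by
    rw [hφ]
    exact (ConcreteCategory.congr_hom (h1 j) _).trans (hlimw (hm (hp j)) x)
  have hφinj : Function.Injective φl := (injective_iff_map_eq_zero _).2 fun x hx => by
    refine GrothLib.Algz7.limit_ext X x 0 fun j => ?_
    have hx' : φ x = 0 := hx
    rw [← hlimw (hle j) x, ← hc j x, hx', map_zero]
    exact (congrArg (ARSys.tr X (hle j)).hom (map_zero (c j).hom)).trans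
      ((map_zero _).trans (map_zero _).symm)
  have hφsurj : Function.Surjective φl := by
    intro l
    have key : ∀ (j q : ℕ) (hq : p j ≤ q) (v : X.obj (op (m q))), (b.app (op q)).hom v = π q l →
        (c j).hom (π (p j) l) = (ARSys.tr X (hm ((hp j).trans hq))).hom v := fun j q hq v hv => by
      rw [← hπ' hq l, ← hv, hnat]
      exact (ConcreteCategory.congr_hom (h1 j) _).trans (hX (hm (hp j)) (hm hq) v)
    have hbsurj : ∀ q, Function.Surjective (b.app (op q)).hom := fun q y => by
      obtain ⟨z, rfl⟩ := (hY (hp q)).1 y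
      exact ⟨(c q).hom z, ConcreteCategory.congr_hom (h2 q) z⟩
    obtain ⟨x, hx⟩ := GrothLib.Algz7.exists_limit_π_eq X
      (fun j => (ARSys.tr X (hle j)).hom ((c j).hom (π (p j) l))) fun j => by
        obtain ⟨v, hv⟩ := hbsurj (max (p j) (p (j + 1))) (π _ l)
        show (ARSys.tr X (Nat.le_succ j)).hom _ = _
        rw [key j _ (le_max_left _ _) v hv, key (j + 1) _ (le_max_right _ _) v hv, hX, hX, hX]
    refine ⟨x, sub_eq_zero.1 (hinj _ fun j => ?_)⟩
    obtain ⟨v, hv⟩ := hbsurj (max j (p (m j))) (π _ l)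
    rw [map_sub, sub_eq_zero]
    refine (hφ x j).trans ?_
    rw [hx (m j), key (m j) _ (le_max_right _ _) v hv, hX, ← hπ' (le_max_left j (p (m j))) l, ← hv, hnat]
  refine ⟨m k, fun z hz => ?_⟩
  have hz' : (limit.π X (op (m k))).hom z = 0 := LinearMap.mem_ker.1 hz
  have h3 : φl z ∈ I ^ k • (⊤ : Submodule A L) := by
    refine Submodule.smul_mono_left (Ideal.pow_le_pow_right (Nat.le_succ k)) ?_
    rw [← hker k, LinearMap.mem_ker]
    refine (hφ z k).trans ?_
    exact (congrArg (b.app (op k)).hom hz').trans ((b.app (op k)).hom.map_zero)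
  rw [← LinearMap.range_eq_top.2 hφsurj, ← Submodule.map_top, ← Submodule.map_smul''] at h3
  obtain ⟨z', hz', he⟩ := h3
  exact hφinj he ▸ hz'

end Groth.Agent.S9533
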