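import Groth.Statements.S9536
import Groth.Agent.Lib.FormalExist7.Extend

set_option autoImplicit false
universe u
open CategoryTheory CategoryTheory.Limits AlgebraicGeometry Opposite
open Algz

namespace Groth.Agent.S9536

/-- (2) ⇒ (6): Let A be a Noetherian ring, I ⊆ 𝔞 ideals, U = Spec A ∖ V(𝔞) and (F_n) an object of Coh(U,
I O_U). If (F_n) is isomorphic to the completion of a coherent O_U-module, then (F_n) extends to
Spec A. -/
theorem result (A : Type u) [CommRing A] [IsNoetherianRing A] (I 𝔞 : Ideal A) (hI𝔞 : I ≤ 𝔞)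
    (G : ℕᵒᵖ ⥤ (↑(LocCoh.puncturedOpen A 𝔞) : Scheme.{u}).Modules) (hG : Formal.IsCohFormal I G)
    (F : (↑(LocCoh.puncturedOpen A 𝔞) : Scheme.{u}).Modules) (hF : Coh.IsCoh F) (e : Formal.completion I F ≅ G) :
    @Algz.Extends A _ (Spec (CommRingCat.of A)) ⟨𝟙 (Spec (CommRingCat.of A))⟩ I (LocCoh.puncturedOpen A 𝔞) G := by
  letI : (Spec (CommRingCat.of A)).Over (Spec (CommRingCat.of A)) := ⟨𝟙 (Spec (CommRingCat.of A))⟩
  obtain ⟨M, hM, ⟨ρ⟩⟩ := GrothLib.K0Sub.exists_extension (LocCoh.puncturedOpen A 𝔞).ι F hF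
  refine ⟨Formal.completion I M, GrothLib.FormalExist7.isCohFormal_completion I hM, ?_⟩
  obtain ⟨τ⟩ := GrothLib.FormalExist7.nonempty_completion_restrict (LocCoh.puncturedOpen A 𝔞).ι (Category.comp_id _) I M
  obtain ⟨τ'⟩ := GrothLib.FormalSys.exists_completion_iso (I := I) (G := Formal.completion I F)
    (fun n => ρ.hom ≫ GrothLib.FormalExist7.qπ I F n)
    (fun n => (GrothLib.FormalExist7.isQuot_qπ I F n).isIso_comp ρ.hom)
    (fun n => (Category.assoc _ _ _).trans (congrArg (ρ.hom ≫ ·) (GrothLib.FormalExist7.qπ_trans I F (Nat.le_succ n))))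
  exact ⟨τ.symm ≪≫ τ' ≪≫ e⟩

end Groth.Agent.S9536
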