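import Groth.Statements.S9539
import Groth.Agent.Lib.Algz7.IsoOverComp
import Groth.Agent.Lib.Algz7.ChangeBase
import Groth.Agent.Lib.AdicExtra.Completion
import Groth.Agent.Lib.FormalExist7.Proper
import Groth.Agent.Lib.FormalExist7.Extend
import Groth.Agent.Lib.FormalExist7.TrickyAux

set_option autoImplicit false
universe u
open CategoryTheory CategoryTheory.Limits AlgebraicGeometry Opposite
open Algz

namespace Groth.Agent.S9539

/-- Let A be a Noetherian ring, I ⊆ 𝔞 ideals, U = Spec A ∖ V(𝔞), (F_n) an object of Coh(U, I O_U); let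
A' be the I-adic completion of A, f : Spec A' → Spec A and U' the inverse image of U. Then (F_n)
extends to Spec A if and only if the pullback of (F_n) to U' is isomorphic to the completion, for
the ideal I A', of a coherent O_{U'}-module. -/
theorem result (A : Type u) [CommRing A] [IsNoetherianRing A] (I 𝔞 : Ideal A) (hI𝔞 : I ≤ 𝔞)
    (G : ℕᵒᵖ ⥤ (↑(LocCoh.puncturedOpen A 𝔞) : Scheme.{u}).Modules) (hG : Formal.IsCohFormal I G) :
    @Algz.Extends A _ (Spec (CommRingCat.of A)) ⟨𝟙 (Spec (CommRingCat.of A))⟩ I (LocCoh.puncturedOpen A 𝔞) G ↔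
      ∃ F' : (↑(Spec.map (CommRingCat.ofHom (algebraMap A (AdicCompletion I A))) ⁻¹ᵁ (LocCoh.puncturedOpen A 𝔞)) : Scheme.{u}).Modules, Coh.IsCoh F' ∧
        Nonempty (Formal.completion (I.map (algebraMap A (AdicCompletion I A))) F' ≅
          G ⋙ Scheme.Modules.pullback (morphismRestrict (Spec.map (CommRingCat.ofHom (algebraMap A (AdicCompletion I A)))) (LocCoh.puncturedOpen A 𝔞))) := by
  letI : (Spec (CommRingCat.of A)).Over (Spec (CommRingCat.of A)) := ⟨𝟙 _⟩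
  let φ := algebraMap A (AdicCompletion I A)
  let g := Spec.map (CommRingCat.ofHom φ)
  let U := LocCoh.puncturedOpen A 𝔞
  haveI : IsNoetherianRing (AdicCompletion I A) :=
    GrothLib.AdicExtra.isNoetherianRing_adicCompletion_of_fg I I.fg_of_isNoetherianRing
  haveI := AdicCompletion.isAdicComplete_self I I.fg_of_isNoetherianRing
  letI : (Spec (CommRingCat.of (AdicCompletion I A))).Over (Spec (CommRingCat.of A)) := ⟨g⟩
  letI : (Spec (CommRingCat.of (AdicCompletion I A))).Over (Spec (CommRingCat.of (AdicCompletion I A))) := ⟨𝟙 _⟩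
  letI : (↑(g ⁻¹ᵁ U) : Scheme.{u}).Over (Spec (CommRingCat.of A)) :=
    ⟨(g ∣_ U) ≫ ((U : Scheme.{u}) ↘ Spec (CommRingCat.of A))⟩
  have hg1 : g ≫ (Spec (CommRingCat.of A) ↘ Spec (CommRingCat.of A)) =
      Spec (CommRingCat.of (AdicCompletion I A)) ↘ Spec (CommRingCat.of A) := Category.comp_id _
  have hUX : U.ι ≫ (Spec (CommRingCat.of A) ↘ Spec (CommRingCat.of A)) = (U : Scheme.{u}) ↘ Spec (CommRingCat.of A) := by
    rfl
  have hX' : (Spec (CommRingCat.of (AdicCompletion I A)) ↘ Spec (CommRingCat.of (AdicCompletion I A))) ≫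
      Spec.map (CommRingCat.ofHom φ) = Spec (CommRingCat.of (AdicCompletion I A)) ↘ Spec (CommRingCat.of A) :=
    Category.id_comp _
  have hU'A : ((↑(g ⁻¹ᵁ U) : Scheme.{u}) ↘ Spec (CommRingCat.of (AdicCompletion I A))) ≫
      Spec.map (CommRingCat.ofHom φ) = (↑(g ⁻¹ᵁ U) : Scheme.{u}) ↘ Spec (CommRingCat.of A) := by
    show ((g ⁻¹ᵁ U).ι ≫ 𝟙 _) ≫ g = (g ∣_ U) ≫ U.ι ≫ 𝟙 _
    rw [Category.comp_id, Category.comp_id, morphismRestrict_ι]
  have hR' : (g ⁻¹ᵁ U).ι ≫ (Spec (CommRingCat.of (AdicCompletion I A)) ↘ Spec (CommRingCat.of (AdicCompletion I A))) =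
      (↑(g ⁻¹ᵁ U) : Scheme.{u}) ↘ Spec (CommRingCat.of (AdicCompletion I A)) := by rfl
  haveI : IsProper (Spec (CommRingCat.of (AdicCompletion I A)) ↘ Spec (CommRingCat.of (AdicCompletion I A))) :=
    inferInstanceAs (IsProper (𝟙 _))
  haveI : IsLocallyNoetherian (↑(g ⁻¹ᵁ U) : Scheme.{u}) := inferInstance
  let sq : Scheme.Modules.pullback g ⋙ Scheme.Modules.restrictFunctor (g ⁻¹ᵁ U).ι ≅
      Scheme.Modules.restrictFunctor U.ι ⋙ Scheme.Modules.pullback (g ∣_ U) :=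
    Functor.isoWhiskerLeft _ (Scheme.Modules.restrictFunctorIsoPullback _) ≪≫ Scheme.Modules.pullbackComp _ _ ≪≫
      Scheme.Modules.pullbackCongr (morphismRestrict_ι g U).symm ≪≫ (Scheme.Modules.pullbackComp _ _).symm ≪≫
      Functor.isoWhiskerRight (Scheme.Modules.restrictFunctorIsoPullback _).symm _
  have hg : ∀ n : ℕ, GrothLib.Algz7.IsIsoOver (I ^ (n + 1)) g := fun n =>
    GrothLib.Algz7.isIsoOver_completion I.fg_of_isNoetherianRing (n + 1)
  constructor
  · rintro ⟨G₁, hG₁, ⟨ε⟩⟩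
    have hG₁' : Formal.IsCohFormal (I.map φ) (G₁ ⋙ Scheme.Modules.pullback g) :=
      (GrothLib.Algz7.isCohFormal_base_iff φ hX' I _).2 (GrothLib.FormalExist7.isCohFormal_pullback g hg1 hG₁)
    obtain ⟨M, hM, ⟨ζ⟩⟩ := GrothLib.FormalExist7.existence_of_proper (I.map φ) _ hG₁'
    obtain ⟨τ⟩ := GrothLib.FormalExist7.nonempty_completion_restrict (g ⁻¹ᵁ U).ι hR' (I.map φ) M
    exact ⟨_, GrothLib.Cohom.isCoh_restrict M hM _,
      ⟨τ ≪≫ Functor.isoWhiskerRight ζ _ ≪≫ Functor.associator _ _ _ ≪≫ Functor.isoWhiskerLeft G₁ sq ≪≫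
        (Functor.associator _ _ _).symm ≪≫ Functor.isoWhiskerRight ε _⟩⟩
  · rintro ⟨F', hF', ⟨e⟩⟩
    obtain ⟨M, hM, ⟨ρ⟩⟩ := GrothLib.K0Sub.exists_extension (g ⁻¹ᵁ U).ι F' hF'
    have hC : Formal.IsCohFormal I (Formal.completion (I.map φ) M) :=
      (GrothLib.Algz7.isCohFormal_base_iff φ hX' I _).1 (GrothLib.FormalExist7.isCohFormal_completion (I.map φ) hM)
    obtain ⟨hG₁, ⟨ε₁⟩⟩ := GrothLib.Algz7.exists_descent hg1 hg hC
    refine ⟨_, hG₁, ?_⟩
    obtain ⟨τ⟩ := GrothLib.FormalExist7.nonempty_completion_restrict (g ⁻¹ᵁ U).ι hR' (I.map φ) M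
    obtain ⟨τ'⟩ := GrothLib.FormalSys.exists_completion_iso (I := I.map φ) (G := Formal.completion (I.map φ) F')
      (fun n => ρ.hom ≫ GrothLib.FormalExist7.qπ (I.map φ) F' n)
      (fun n => (GrothLib.FormalExist7.isQuot_qπ (I.map φ) F' n).isIso_comp ρ.hom)
      (fun n => (Category.assoc _ _ _).trans
        (congrArg (ρ.hom ≫ ·) (GrothLib.FormalExist7.qπ_trans (I.map φ) F' (Nat.le_succ n))))
    let H := (Formal.completion (I.map φ) M ⋙ Scheme.Modules.pushforward g) ⋙ Scheme.Modules.restrictFunctor U.ι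
    let θ : H ⋙ Scheme.Modules.pullback (g ∣_ U) ≅ G ⋙ Scheme.Modules.pullback (g ∣_ U) :=
      Functor.associator _ _ _ ≪≫ Functor.isoWhiskerLeft _ sq.symm ≪≫ (Functor.associator _ _ _).symm ≪≫
        Functor.isoWhiskerRight ε₁ _ ≪≫ τ.symm ≪≫ τ' ≪≫ e
    have hH : Formal.IsCohFormal I H := by
      have h2 := GrothLib.FormalExist7.isCohFormal_pullback U.ι hUX hG₁
      exact GrothLib.Algz7.isCohFormal_of_iso
        (Functor.isoWhiskerLeft _ (Scheme.Modules.restrictFunctorIsoPullback U.ι).symm) h2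
    exact GrothLib.Algz7.nonempty_iso_of_pullback_iso
      (fun n => GrothLib.Algz7.isIsoOver_morphismRestrict (hg n) U hUX) hH hG θ

end Groth.Agent.S9539
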