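import Groth.Statements.S9537
import Groth.Agent.S9539
import Groth.Agent.Lib.Algz7.KerCoker
import Groth.Agent.Lib.FormalExist7.EasyLeft
import Groth.Agent.Lib.FormalExist7.EasyRight

set_option autoImplicit false
universe u
open CategoryTheory CategoryTheory.Limits AlgebraicGeometry Opposite
open Algz

namespace Groth.Agent.S9537

/-- Let A be a Noetherian ring, I ⊆ 𝔞 ideals, U = Spec A ∖ V(𝔞), and α a morphism between objects (F_n),
(F'_n) of Coh(U, I O_U) such that one fixed power of I kills the kernel and the cokernel of every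
component of α. Then (F_n) extends to Spec A if and only if (F'_n) does. (Part (2), the same
equivalence for being the completion of a coherent module, is the content of the two existence
results for maps into and out of a completion and is not restated.) -/
theorem result (A : Type u) [CommRing A] [IsNoetherianRing A] (I 𝔞 : Ideal A) (hI𝔞 : I ≤ 𝔞)
    (G G' : ℕᵒᵖ ⥤ (↑(LocCoh.puncturedOpen A 𝔞) : Scheme.{u}).Modules) (hG : Formal.IsCohFormal I G) (hG' : Formal.IsCohFormal I G')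
    (α : G ⟶ G') (hα : Formal2.KerCokerKilledByIPow I α) :
    @Algz.Extends A _ (Spec (CommRingCat.of A)) ⟨𝟙 (Spec (CommRingCat.of A))⟩ I (LocCoh.puncturedOpen A 𝔞) G ↔ @Algz.Extends A _ (Spec (CommRingCat.of A)) ⟨𝟙 (Spec (CommRingCat.of A))⟩ I (LocCoh.puncturedOpen A 𝔞) G' := by
  let φ := algebraMap A (AdicCompletion I A)
  let g := Spec.map (CommRingCat.ofHom φ)
  let U := LocCoh.puncturedOpen A 𝔞
  letI : (Spec (CommRingCat.of (AdicCompletion I A))).Over (Spec (CommRingCat.of (AdicCompletion I A))) := ⟨𝟙 _⟩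
  letI : (↑(g ⁻¹ᵁ U) : Scheme.{u}).Over (Spec (CommRingCat.of A)) :=
    ⟨(g ∣_ U) ≫ ((U : Scheme.{u}) ↘ Spec (CommRingCat.of A))⟩
  haveI : IsNoetherianRing (AdicCompletion I A) :=
    GrothLib.AdicExtra.isNoetherianRing_adicCompletion_of_fg I I.fg_of_isNoetherianRing
  haveI : CompactSpace (↑(g ⁻¹ᵁ U) : Scheme.{u}) :=
    isCompact_iff_compactSpace.1 (TopologicalSpace.NoetherianSpace.isCompact _)
  haveI : IsLocallyNoetherian (↑(g ⁻¹ᵁ U) : Scheme.{u}) := inferInstance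
  haveI : IsNoetherian (↑(g ⁻¹ᵁ U) : Scheme.{u}) := {}
  have hU'A : ((↑(g ⁻¹ᵁ U) : Scheme.{u}) ↘ Spec (CommRingCat.of (AdicCompletion I A))) ≫
      Spec.map (CommRingCat.ofHom φ) = (↑(g ⁻¹ᵁ U) : Scheme.{u}) ↘ Spec (CommRingCat.of A) := by
    show ((g ⁻¹ᵁ U).ι ≫ 𝟙 _) ≫ g = (g ∣_ U) ≫ U.ι ≫ 𝟙 _
    rw [Category.comp_id, Category.comp_id, morphismRestrict_ι]
  have hgf : (g ∣_ U) ≫ ((U : Scheme.{u}) ↘ Spec (CommRingCat.of A)) =
      (↑(g ⁻¹ᵁ U) : Scheme.{u}) ↘ Spec (CommRingCat.of A) := by rfl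
  haveI : Flat g := Flat.SpecMap_iff.2 (RingHom.flat_algebraMap_iff.2 inferInstance)
  haveI : Flat (g ∣_ U) := IsZariskiLocalAtTarget.restrict ‹Flat g› U
  have hpull : ∀ {K : ℕᵒᵖ ⥤ (↑U : Scheme.{u}).Modules}, Formal.IsCohFormal I K →
      Formal.IsCohFormal (I.map φ) (K ⋙ Scheme.Modules.pullback (g ∣_ U)) := fun hK =>
    (GrothLib.Algz7.isCohFormal_base_iff φ hU'A I _).2 (GrothLib.FormalExist7.isCohFormal_pullback (g ∣_ U) hgf hK)
  have hα' := GrothLib.Algz7.kerCokerKilled_base φ hU'A _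
    (GrothLib.Algz7.kerCokerKilled_pullback (g ∣_ U) hgf α hα)
  refine (Groth.Agent.S9539.result A I 𝔞 hI𝔞 G hG).trans (Iff.trans ?_ (Groth.Agent.S9539.result A I 𝔞 hI𝔞 G' hG').symm)
  constructor
  · rintro ⟨F, hF, ⟨e⟩⟩
    obtain ⟨F', -, β, hF', -, -⟩ := GrothLib.FormalExist7.existence_easy_right (I.map φ) F hF _ (hpull hG') _
      (GrothLib.Algz7.kerCokerKilled_comp_iso e _ (Iso.refl _) hα')
    exact ⟨F', hF', ⟨β⟩⟩
  · rintro ⟨F, hF, ⟨e⟩⟩
    obtain ⟨F', -, β, hF', -, -⟩ := GrothLib.FormalExist7.existence_easy_left (I.map φ) F _ _ hF (hpull hG)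
      (GrothLib.Algz7.kerCokerKilled_comp_iso (Iso.refl _) _ e.symm hα')
    exact ⟨F', hF', ⟨β.symm⟩⟩

end Groth.Agent.S9537
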