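import Groth.Statements.S9538
import Groth.Agent.Lib.Algz7.BCNat
import Groth.Agent.Lib.Algz7.Sect
import Groth.Agent.Lib.Algz7.ChangeBase
import Groth.Agent.Lib.MLPro7.Basic

set_option autoImplicit false
universe u
open CategoryTheory CategoryTheory.Limits AlgebraicGeometry Opposite
open Algz

namespace Groth.Agent.S9538

/-- Let A be a Noetherian ring, I ⊆ 𝔞 ideals, U = Spec A ∖ V(𝔞), (F_n) an object of Coh(U, I O_U), A →
A' a flat ring map with f : Spec A' → Spec A, U' the inverse image of U, and (F'_n) the pullback of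
(F_n) along the restriction of f over U. If (F_n) canonically extends to Spec A, then (F'_n)
canonically extends to Spec A' for the ideal I A'. (The second assertion, that the canonical
extension pulls back to the canonical extension, is not stated.) -/
theorem result (A : Type u) [CommRing A] [IsNoetherianRing A] (I 𝔞 : Ideal A) (hI𝔞 : I ≤ 𝔞)
    (G : ℕᵒᵖ ⥤ (↑(LocCoh.puncturedOpen A 𝔞) : Scheme.{u}).Modules) (hG : Formal.IsCohFormal I G)
    (A' : Type u) [CommRing A'] [Algebra A A'] [Module.Flat A A']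
    (h : Algz.CanonicallyExtends A I (LocCoh.puncturedOpen A 𝔞) G) :
    Algz.CanonicallyExtends A' (I.map (algebraMap A A')) (Spec.map (CommRingCat.ofHom (algebraMap A A')) ⁻¹ᵁ (LocCoh.puncturedOpen A 𝔞))
      (G ⋙ Scheme.Modules.pullback (morphismRestrict (Spec.map (CommRingCat.ofHom (algebraMap A A'))) (LocCoh.puncturedOpen A 𝔞))) := by
  let φ := algebraMap A A'
  let g := Spec.map (CommRingCat.ofHom φ)
  let U := LocCoh.puncturedOpen A 𝔞
  letI : (Spec (CommRingCat.of A)).Over (Spec (CommRingCat.of A)) := ⟨𝟙 _⟩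
  letI : (Spec (CommRingCat.of A')).Over (Spec (CommRingCat.of A)) := ⟨g⟩
  letI : (Spec (CommRingCat.of A')).Over (Spec (CommRingCat.of A')) := ⟨𝟙 _⟩
  obtain ⟨G', hG', m, hm, hle, a, ha⟩ := h
  haveI : Flat g := Flat.SpecMap_iff.2 (RingHom.flat_algebraMap_iff.2 inferInstance)
  have hsq := (isPullback_morphismRestrict g U)
  haveI : QuasiCompact (g ⁻¹ᵁ U).ι := MorphismProperty.of_isPullback hsq (inferInstanceAs (QuasiCompact U.ι))
  have hqA : ∀ k, ((Scheme.Modules.pushforward U.ι).obj (G.obj k)).IsQuasicoherent := fun k => by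
    haveI := (hG.1 k.unop).1
    exact GrothLib.QCoh.isQuasicoherent_pushforward U.ι (G.obj (op k.unop))
  have hqB : ∀ k, ((Scheme.Modules.pushforward (g ⁻¹ᵁ U).ι).obj
      ((Scheme.Modules.pullback (g ∣_ U)).obj (G.obj k))).IsQuasicoherent := fun k => by
    haveI := (hG.1 k.unop).1
    haveI := GrothLib.FittSheaf.isQuasicoherent_pullback (g ∣_ U) (G.obj (op k.unop))
    exact GrothLib.QCoh.isQuasicoherent_pushforward (g ⁻¹ᵁ U).ι ((Scheme.Modules.pullback (g ∣_ U)).obj (G.obj (op k.unop)))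
  have hA : ∀ k, IsIso (Scheme.Modules.fromTildeΓ (R := CommRingCat.of A) ((Scheme.Modules.pushforward U.ι).obj (G.obj k))) := fun k => by
    haveI := hqA k
    exact Scheme.Modules.isIso_fromTildeΓ_of_isQuasicoherent (R := CommRingCat.of A) _
  have hB : ∀ k, IsIso (Scheme.Modules.fromTildeΓ (R := CommRingCat.of A') ((Scheme.Modules.pushforward (g ⁻¹ᵁ U).ι).obj
      ((Scheme.Modules.pullback (g ∣_ U)).obj (G.obj k)))) := fun k => by
    haveI := hqB k
    exact Scheme.Modules.isIso_fromTildeΓ_of_isQuasicoherent (R := CommRingCat.of A') _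
  have hbc : ∀ k, IsIso (GrothLib.AffBC.bcMap hsq (G.obj k)) := fun k => by
    haveI := (hG.1 k.unop).1
    exact GrothLib.FlatBC.isIso_bcMap hsq (G.obj (op k.unop))
  let eA : Algz.sectSys A U G ≅ G ⋙ Scheme.Modules.pushforward U.ι := NatIso.ofComponents
    (fun k => @asIso _ _ _ _ _ (hA k))
    (fun {k l} t => (Scheme.Modules.fromTildeΓNatTrans (R := CommRingCat.of A)).naturality ((Scheme.Modules.pushforward U.ι).map (G.map t)))
  let eB : Algz.sectSys A' (g ⁻¹ᵁ U) (G ⋙ Scheme.Modules.pullback (g ∣_ U)) ≅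
      (G ⋙ Scheme.Modules.pullback (g ∣_ U)) ⋙ Scheme.Modules.pushforward (g ⁻¹ᵁ U).ι := NatIso.ofComponents
    (fun k => @asIso _ _ _ _ _ (hB k))
    (fun {k l} t => (Scheme.Modules.fromTildeΓNatTrans (R := CommRingCat.of A')).naturality ((Scheme.Modules.pushforward (g ⁻¹ᵁ U).ι).map ((Scheme.Modules.pullback (g ∣_ U)).map (G.map t))))
  let eC : (G ⋙ Scheme.Modules.pushforward U.ι) ⋙ Scheme.Modules.pullback g ≅
      (G ⋙ Scheme.Modules.pullback (g ∣_ U)) ⋙ Scheme.Modules.pushforward (g ⁻¹ᵁ U).ι := NatIso.ofComponents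
    (fun k => @asIso _ _ _ _ _ (hbc k)) (fun {k l} t => GrothLib.Algz7.bcMap_naturality hsq (G.map t))
  let e : Algz.sectSys A' (g ⁻¹ᵁ U) (G ⋙ Scheme.Modules.pullback (g ∣_ U)) ≅
      Algz.sectSys A U G ⋙ Scheme.Modules.pullback g :=
    eB ≪≫ eC.symm ≪≫ Functor.isoWhiskerRight eA.symm _
  have hX' : (Spec (CommRingCat.of A') ↘ Spec (CommRingCat.of A')) ≫ Spec.map (CommRingCat.ofHom φ) =
      Spec (CommRingCat.of A') ↘ Spec (CommRingCat.of A) := Category.id_comp _
  refine ⟨G' ⋙ Scheme.Modules.pullback g,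
    (GrothLib.Algz7.isCohFormal_base_iff φ hX' I _).2 (GrothLib.Algz7.isCohFormal_pullback' g (Category.comp_id _) hG'),
    m, hm, hle, (Functor.isoWhiskerLeft (Monotone.functor hm).op e).hom ≫ Functor.whiskerRight a (Scheme.Modules.pullback g), ?_⟩
  exact GrothLib.MLPro7.isProIso_iso_comp (Functor.isoWhiskerLeft (Monotone.functor hm).op e) _
    (GrothLib.MLPro7.isProIso_map (Scheme.Modules.pullback g) a ha)

end Groth.Agent.S9538
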