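import Groth.Statements.S9541
import Groth.Agent.Lib.Formal2Chase7.Basic

set_option autoImplicit false
universe u
open CategoryTheory
open Formal2

namespace Groth.Agent.S9541

open AlgebraicGeometry in
/-- Second assertion, for the short exact sequence of coherent modules on U attached to a short exact
sequence 0 → M' → M → M'' → 0 of finite A-modules; I ⊆ 𝔞 ideals of a Noetherian ring A, U = Spec A ∖
V(𝔞). If the comparison map (colimit over the opens V ⊆ U containing U ∩ V(I) of the sections over
V, to the limit of the sections of the quotients by powers of I over U) is bijective for M and for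
M'', then it is bijective for M'. (The published sentence reads 'if the middle and left arrows are
isomorphisms, so is the left'; the diagram chase its proof describes, with both rows left exact,
gives the left arrow from the middle and right ones, which is what is stated here.) -/
theorem result (A : Type u) [CommRing A] [IsNoetherianRing A] (I 𝔞 : Ideal A) (hI : I ≤ 𝔞)
    (M' M M'' : Type u) [AddCommGroup M'] [Module A M'] [AddCommGroup M] [Module A M] [AddCommGroup M''] [Module A M'']
    [Module.Finite A M'] [Module.Finite A M] [Module.Finite A M'']
    (f : M' →ₗ[A] M) (g : M →ₗ[A] M'') (hf : Function.Injective f) (hg : Function.Surjective g)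
    (hfg : LinearMap.range f = LinearMap.ker g)
    (h : Formal2.FormalCohColimBijective A I M 0 (LocCoh.puncturedOpen A 𝔞))
    (h'' : Formal2.FormalCohColimBijective A I M'' 0 (LocCoh.puncturedOpen A 𝔞)) :
    Formal2.FormalCohColimBijective A I M' 0 (LocCoh.puncturedOpen A 𝔞) := by
  exact GrothLib.Formal2Chase7.bijective_left I (LocCoh.puncturedOpen A 𝔞) f g hf hg hfg h h''

end Groth.Agent.S9541
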