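import Groth.Statements.S9542
import Groth.Agent.Lib.FSecDual7.FullFaith

set_option autoImplicit false
universe u
open CategoryTheory
attribute [local instance] HasDerivedCategory.standard
open Formal2

namespace Groth.Agent.S9542

open AlgebraicGeometry Opposite in
/-- Let I ⊆ 𝔞 be ideals of a Noetherian ring A which is I-adically complete and has a dualizing complex,
let d bound the cohomological dimension of I, and let U = Spec A ∖ V(𝔞). Assume that for every
associated prime 𝔭 of A with I ⊄ 𝔭 and V(𝔭) ∩ V(I) ⊄ V(𝔞) and every prime 𝔮 ⊇ 𝔭 + 𝔞 the dimension of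
(A/𝔭)_𝔮 exceeds d + 1, and that depth A_𝔭 ≥ 2 for every prime 𝔭 with I ⊄ 𝔭 and V(𝔭) ∩ V(I) ⊆ V(𝔞).
Then the completion functor for I is fully faithful on finite locally free O_U-modules: every
morphism of systems (E/I^nE) → (E'/I^nE') comes from exactly one morphism E → E'. -/
theorem result (A : Type u) [CommRing A] [IsNoetherianRing A]
    (I 𝔞 : Ideal A) (hI : I ≤ 𝔞) [IsAdicComplete I A] (hω : ∃ ω : Dual.D A, Dual.IsDualizing A ω)
    (d : ℕ) (hd : LocCoh.CdLE A I d)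
    (h₂ : ∀ p ∈ associatedPrimes A A, ¬ I ≤ p →
      (∃ r : Ideal A, r.IsPrime ∧ p ≤ r ∧ I ≤ r ∧ ¬ 𝔞 ≤ r) →
        ∀ (q : Ideal A) [q.IsPrime], p ≤ q → 𝔞 ≤ q → ((d + 1 : ℕ) : WithBot ℕ∞) < Formal2.dimBetween A p q)
    (h₃ : ∀ (p : Ideal A) [p.IsPrime], ¬ I ≤ p →
      (∀ (r : Ideal A), r.IsPrime → p ≤ r → I ≤ r → 𝔞 ≤ r) →
        (2 : ℕ∞) ≤ LocCoh.depth (Localization.AtPrime p) (Localization.AtPrime p)) :
    ∀ (E E' : (↑(LocCoh.puncturedOpen A 𝔞) : Scheme.{u}).Modules), FlatMod.IsFinLocFree E → FlatMod.IsFinLocFree E' →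
      ∀ ψ : Formal.completion I E ⟶ Formal.completion I E',
        ∃! φ : E ⟶ E', ∀ n : ℕ, Formal.modPowπ I (n + 1) E ≫ ψ.app (op n) = φ ≫ Formal.modPowπ I (n + 1) E' := by
  refine fun E E' hE hE' ψ => GrothLib.FSecDual7.existsUnique_hom 𝔞 I ?_ E E' hE hE' ψ
  refine GrothLib.FSecDual7.bijective_of_dim_depth I 𝔞 hI hω d hd (fun p hp _ hIp hr => h₂ p hp hIp hr) ?_
  intro p _ hpa hr
  rw [GrothLib.Depth.depth_localization_self]
  exact h₃ p (fun h => hpa (hr p inferInstance le_rfl h)) hr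

end Groth.Agent.S9542
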