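import Groth.Statements.S9544
import Groth.Agent.Lib.PunctSec7.Formal
import Groth.Agent.S1711
import Groth.Agent.Lib.FaltingsT3.Compare
import Groth.Agent.Lib.Depth.CM

set_option autoImplicit false
universe u
open CategoryTheory
attribute [local instance] HasDerivedCategory.standard
open Formal2

namespace Groth.Agent.S9544

/-- The dimension between two primes is at most that of the interval. -/
theorem dimBetween_le (A : Type u) [CommRing A] (p q : PrimeSpectrum A) :
    Formal2.dimBetween A p.asIdeal q.asIdeal ≤ Order.krullDim (Set.Icc p q) := by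
  let B := Localization.AtPrime q.asIdeal
  let pB : Ideal B := p.asIdeal.map (algebraMap A B)
  let h : A →+* B ⧸ pB := (Ideal.Quotient.mk pB).comp (algebraMap A B)
  have hinj : Function.Injective (PrimeSpectrum.comap h) := fun P P' e =>
    PrimeSpectrum.comap_injective_of_surjective _ Ideal.Quotient.mk_surjective
      (PrimeSpectrum.localization_comap_injective B q.asIdeal.primeCompl
        (by simpa only [h, PrimeSpectrum.comap_comp_apply] using e))
  refine Order.krullDim_le_of_strictMono (fun P => (⟨PrimeSpectrum.comap h P, ?_, ?_⟩ : Set.Icc p q))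
    ?_
  · intro a ha
    show Ideal.Quotient.mk pB (algebraMap A B a) ∈ P.asIdeal
    rw [Ideal.Quotient.eq_zero_iff_mem.2 (Ideal.mem_map_of_mem _ ha)]
    exact zero_mem _
  · intro a ha
    by_contra haq
    exact (PrimeSpectrum.comap (Ideal.Quotient.mk pB) P).isPrime.ne_top
      (Ideal.eq_top_of_isUnit_mem _ ha (IsLocalization.map_units B (⟨a, haq⟩ : q.asIdeal.primeCompl)))
  · exact Monotone.strictMono_of_injective (fun P P' (e : P ≤ P') a ha => e ha)
      fun P P' e => hinj (congrArg Subtype.val e)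

open AlgebraicGeometry Opposite in
/-- Let A be a Noetherian ring with a dualizing complex, f an element of an ideal 𝔞 with A complete for
the f-adic topology, U = Spec A ∖ V(𝔞), and assume depth A_𝔭 + dim (A/𝔭)_𝔮 > 2 for every prime 𝔭 not
containing f and every prime 𝔮 ⊇ 𝔭 + 𝔞. Then the completion functor for the ideal (f) is fully
faithful on finite locally free O_U-modules. -/
theorem result (A : Type u) [CommRing A]
    [IsNoetherianRing A] (𝔞 : Ideal A) (f : A) (hf : f ∈ 𝔞) [IsAdicComplete (Ideal.span {f}) A]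
    (hω : ∃ ω : Dual.D A, Dual.IsDualizing A ω)
    (h₂ : ∀ (p : Ideal A) [p.IsPrime], f ∉ p → ∀ (q : Ideal A) [q.IsPrime], p ≤ q → 𝔞 ≤ q →
      ((2 : ℕ) : WithBot ℕ∞) < ((LocCoh.depth (Localization.AtPrime p) (Localization.AtPrime p) : ℕ∞) : WithBot ℕ∞) +
        Formal2.dimBetween A p q) :
    ∀ (E E' : (↑(LocCoh.puncturedOpen A 𝔞) : Scheme.{u}).Modules), FlatMod.IsFinLocFree E → FlatMod.IsFinLocFree E' →
      ∀ ψ : Formal.completion (Ideal.span {f}) E ⟶ Formal.completion (Ideal.span {f}) E',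
        ∃! φ : E ⟶ E', ∀ n : ℕ, Formal.modPowπ (Ideal.span {f}) (n + 1) E ≫ ψ.app (op n) = φ ≫ Formal.modPowπ (Ideal.span {f}) (n + 1) E' := by
  have hT : ∀ I : Ideal A, StableUnderSpecialization (PrimeSpectrum.zeroLocus (I : Set A)) :=
    fun I => (PrimeSpectrum.isClosed_zeroLocus _).stableUnderSpecialization
  obtain ⟨J, hJ, hk⟩ := (Groth.Agent.S1711.result A hω (PrimeSpectrum.zeroLocus (𝔞 : Set A))
    (PrimeSpectrum.zeroLocus ((Ideal.span {f} : Ideal A) : Set A)) (hT _) (hT _)
    (PrimeSpectrum.zeroLocus_anti_mono (SetLike.coe_subset_coe.2 ((Ideal.span_singleton_le_iff_mem _).2 hf))) 2 A).2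
    fun p q hp hq hpq => by
      have hfp : f ∉ p.asIdeal := fun h => hp ((Ideal.span_singleton_le_iff_mem _).2 h)
      refine lt_of_lt_of_le (h₂ p.asIdeal hfp q.asIdeal hpq hq) ?_
      rw [GrothLib.Depth.depth_localization_self]
      exact add_le_add_right (dimBetween_le A p q) _
  have hrad : f ∈ J.radical := by
    rw [Ideal.radical_eq_sInf, Ideal.mem_sInf]
    exact fun {P} hP => hJ (show (⟨P, hP.2⟩ : PrimeSpectrum A) ∈ PrimeSpectrum.zeroLocus (J : Set A) from hP.1)
      (Ideal.mem_span_singleton_self f)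
  obtain ⟨N, hN⟩ := hrad
  have hkill : ∀ i, i ≤ 2 → ∃ n : ℕ, ∀ x : LocCoh.H 𝔞 i A, f ^ n • x = 0 := fun i hi =>
    ⟨N, (GrothLib.FaltingsT3.killed_zeroLocus_iff 𝔞 (f ^ N) i (ModuleCat.of A A)).1 (hk i hi _ hN)⟩
  exact fun E E' hE hE' ψ => GrothLib.PunctSec7.existsUnique_hom_of_killed 𝔞 f (hkill 1 one_le_two)
    (hkill 2 le_rfl) E E' hE hE' ψ

end Groth.Agent.S9544
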