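import Groth.Statements.S9551
import Groth.Agent.Lib.Algz7.Sect
import Groth.Agent.Lib.Algz7.ModuleML

set_option autoImplicit false
universe u
open CategoryTheory CategoryTheory.Limits AlgebraicGeometry Opposite
open Algz

namespace Groth.Agent.S9551

/-- Let A be a Noetherian ring, I ⊆ 𝔞 ideals, U = Spec A ∖ V(𝔞) with inclusion j, (F_n) an object of
Coh(U, I O_U) and M = lim_n H^0(U, F_n). If the system H^0(U, F_n) is Mittag-Leffler, then for every
n the canonical map from M~|_U to F_n, adjoint (under the tilde and restriction adjunctions) to the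
projection M → H^0(U, F_n) = Γ(Spec A, j_*F_n), is an epimorphism. (The source states surjectivity
of (M/I^nM)~|_U → F_n; the map from M~|_U factors through it after the epimorphism M~ → (M/I^nM)~,
so the two surjectivity statements are equivalent.) -/
theorem result (A : Type u) [CommRing A] [IsNoetherianRing A] (I 𝔞 : Ideal A) (hI𝔞 : I ≤ 𝔞)
    (G : ℕᵒᵖ ⥤ (↑(LocCoh.puncturedOpen A 𝔞) : Scheme.{u}).Modules) (hG : Formal.IsCohFormal I G)
    (ha : ARSys.IsML (Algz.sectMod A (LocCoh.puncturedOpen A 𝔞) G)) (n : ℕ) :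
    Epi (((Scheme.Modules.restrictAdjunction (LocCoh.puncturedOpen A 𝔞).ι).homEquiv _ (G.obj (op n))).symm
      (((tilde.adjunction (R := CommRingCat.of A)).homEquiv (limit (Algz.sectMod A (LocCoh.puncturedOpen A 𝔞) G))
        ((Scheme.Modules.pushforward (LocCoh.puncturedOpen A 𝔞).ι).obj (G.obj (op n)))).symm
          (limit.π (Algz.sectMod A (LocCoh.puncturedOpen A 𝔞) G) (op n)))) := by
  let U := LocCoh.puncturedOpen A 𝔞
  let X := Algz.sectMod A U G
  let R := Scheme.Modules.restrictFunctor U.ι
  let T := tilde.functor (CommRingCat.of A)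
  suffices Epi (R.map (T.map (limit.π X (op n))) ≫ GrothLib.Algz7.sectCounit U (G.obj (op n))) by
    rw [Adjunction.homEquiv_counit, Adjunction.homEquiv_counit]
    rw [Functor.map_comp, Category.assoc]
    exact this
  obtain ⟨m, hm, hr⟩ := GrothLib.Algz7.exists_range_tr_eq_range_π X ha n
  haveI := (hG.1 m).1
  haveI := GrothLib.Algz7.isIso_sectCounit U (G.obj (op m))
  haveI : Epi (G.map (homOfLE hm).op) := (GrothLib.FormalSys.isQuot_map hG hm).epi
  haveI := (hG.1 n).1
  haveI : PreservesColimitsOfSize.{0, 0} R := (Scheme.Modules.restrictAdjunction U.ι).leftAdjoint_preservesColimits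
  haveI : R.IsLeftAdjoint := (Scheme.Modules.restrictAdjunction U.ι).isLeftAdjoint
  have hE : Epi (R.map (T.map (ARSys.tr X hm)) ≫ GrothLib.Algz7.sectCounit U (G.obj (op n))) := by
    have e := GrothLib.Algz7.sectCounit_naturality U (G.map (homOfLE hm).op)
    have hi : Epi (GrothLib.Algz7.sectCounit U (G.obj (op m))) :=
      @IsIso.epi_of_iso _ _ _ _ _ (GrothLib.Algz7.isIso_sectCounit U (G.obj (op m)))
    exact e.symm ▸ epi_comp' hi ((GrothLib.FormalSys.isQuot_map hG hm).epi)
  haveI : (T ⋙ R).PreservesEpimorphisms := Functor.preservesEpimorphisms_of_adjunction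
    ((tilde.adjunction (R := CommRingCat.of A)).comp (Scheme.Modules.restrictAdjunction U.ι))
  exact GrothLib.Algz7.epi_map_comp_of_range_le (T ⋙ R) (limit.π X (op n)) (ARSys.tr X hm) _ (hr m le_rfl).le hE

end Groth.Agent.S9551
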