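import Groth.Statements.S9553
import Groth.Agent.Lib.Algz7.Sect
import Groth.Agent.Lib.ColimSec7.Principal
import Groth.Agent.Lib.QCoh.SupportExact
import Groth.Agent.Lib.TensorPerf20.FlatKernel

set_option autoImplicit false
set_option linter.style.haveILetI false
universe u
open CategoryTheory CategoryTheory.Limits AlgebraicGeometry Opposite
open Algz

namespace Groth.Agent.S9553

/-- The transpose of a map to global sections, on the sections of an element. -/
theorem app_toOpen {R : CommRingCat.{u}} {N : ModuleCat.{u} R} {P : (Spec R).Modules}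
    (ℓ : N ⟶ (moduleSpecΓFunctor (R := R)).obj P) (V : (Spec R).Opens) (q : N) :
    ((modulesSpecToSheaf.map (((tilde.adjunction (R := R)).homEquiv N P).symm ℓ)).hom.app (op V)).hom
      (tilde.toOpen N V q) = (modulesSpecToSheaf.obj P).obj.map (homOfLE (le_top : V ≤ ⊤)).op (ℓ q) := by
  rw [Adjunction.homEquiv_counit, Functor.map_comp]
  refine (congrArg ((modulesSpecToSheaf.map (Scheme.Modules.fromTildeΓ P)).hom.app (op V)).hom
    (ConcreteCategory.congr_hom (tilde.toOpen_map_app ℓ V) q)).trans ?_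
  exact ConcreteCategory.congr_hom (Scheme.Modules.toOpen_fromTildeΓ_app P V) (ℓ q)

/-- A global section of a quasi-coherent module vanishing on a basic open is killed by a power. -/
theorem exists_pow_smul_eq_zero {R : CommRingCat.{u}} (P : (Spec R).Modules) [P.IsQuasicoherent] (f : R)
    (s : (moduleSpecΓFunctor (R := R)).obj P)
    (h : (modulesSpecToSheaf.obj P).obj.map (homOfLE (le_top : (PrimeSpectrum.basicOpen f : (Spec R).Opens) ≤ ⊤)).op s = 0) :
    ∃ l : ℕ, f ^ l • s = 0 := by
  haveI : IsIso (Scheme.Modules.fromTildeΓ P) := Scheme.Modules.isIso_fromTildeΓ_of_isQuasicoherent P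
  haveI : IsIso ((modulesSpecToSheaf.map (Scheme.Modules.fromTildeΓ P)).hom.app (op (PrimeSpectrum.basicOpen f))) :=
    inferInstance
  refine GrothLib.ColimSec7.ker_gen _ f s ((ConcreteCategory.bijective_of_isIso
    ((modulesSpecToSheaf.map (Scheme.Modules.fromTildeΓ P)).hom.app (op (PrimeSpectrum.basicOpen f)))).1 ?_)
  exact ((ConcreteCategory.congr_hom (Scheme.Modules.toOpen_fromTildeΓ_app P _) s).trans h).trans (map_zero _).symm

/-- The sheaf of a quotient of a submodule of the sections of a coherent module. -/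
theorem isCoh_of_submodule {A : Type u} [CommRing A] [IsNoetherianRing A] (U : (Spec (CommRingCat.of A)).Opens)
    {M : (U : Scheme.{u}).Modules} (hM : Coh.IsCoh M) {Q : ModuleCat.{u} A}
    (N : Submodule A ((moduleSpecΓFunctor (R := CommRingCat.of A)).obj ((Scheme.Modules.pushforward U.ι).obj M)))
    (g : N →ₗ[A] Q) (hg : Function.Surjective g) :
    Coh.IsCoh ((Scheme.Modules.restrictFunctor U.ι).obj ((tilde.functor (CommRingCat.of A)).obj Q)) := by
  haveI : IsLocallyNoetherian (U : Scheme.{u}) := isLocallyNoetherian_of_isOpenImmersion U.ι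
  let R := Scheme.Modules.restrictFunctor U.ι
  let T := tilde.functor (CommRingCat.of A)
  haveI := hM.1
  haveI := GrothLib.Algz7.isIso_sectCounit U M
  haveI : PreservesFiniteLimits T := GrothLib.QCoh.tildeFunctor_preservesFiniteLimits
  haveI : Mono (ModuleCat.ofHom N.subtype) := (ModuleCat.mono_iff_injective _).2 N.injective_subtype
  haveI : Mono (T.map (ModuleCat.ofHom N.subtype)) := inferInstance
  haveI : Mono (R.map (T.map (ModuleCat.ofHom N.subtype))) := inferInstance
  let i := R.map (T.map (ModuleCat.ofHom N.subtype)) ≫ GrothLib.Algz7.sectCounit U M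
  haveI : Mono i := mono_comp _ _
  haveI : (R.obj (T.obj (ModuleCat.of A N))).IsQuasicoherent :=
    inferInstanceAs ((tilde (R := CommRingCat.of A) (ModuleCat.of A N)).restrict U.ι).IsQuasicoherent
  have hN : Coh.IsCoh (R.obj (T.obj (ModuleCat.of A N))) :=
    ⟨inferInstance, GrothLib.QCoh.isFiniteType_of_mono i hM.2⟩
  haveI : Epi (ModuleCat.ofHom g) := (ModuleCat.epi_iff_surjective _).2 hg
  haveI : (T ⋙ R).PreservesEpimorphisms := Functor.preservesEpimorphisms_of_adjunction
    ((tilde.adjunction (R := CommRingCat.of A)).comp (Scheme.Modules.restrictAdjunction U.ι))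
  have hq : (R.obj (T.obj Q)).IsQuasicoherent :=
    inferInstanceAs ((tilde (R := CommRingCat.of A) Q).restrict U.ι).IsQuasicoherent
  haveI : Epi (R.map (T.map (ModuleCat.ofHom g))) := inferInstanceAs (Epi ((T ⋙ R).map (ModuleCat.ofHom g)))
  exact GrothLib.TensorPerf20.isCoh_of_epi (R.map (T.map (ModuleCat.ofHom g))) hN hq

/-- Let A be a Noetherian ring, I ⊆ 𝔞 ideals, U = Spec A ∖ V(𝔞) with inclusion j, (F_n) an object of
Coh(U, I O_U), M = lim_n H^0(U, F_n) and G_n = (M/I^(n+1)M)~ (positions shifted by one). Assume the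
limit topology of M agrees with the I-adic one: for every k some kernel of M → H^0(U, F_n) lies in
I^k M. Let ℓ_n : M/I^(n+1)M → H^0(U, F_n) = Γ(Spec A, j_*F_n) be the factorisations of the
projections (they exist since F_n is killed by I^(n+1); they are pinned here by that property) and
G_n → j_*F_n the adjoint maps. Then (i) each G_n|_U is coherent, and (ii) the resulting morphism
(G_n|_U) → (F_n) of inverse systems is a monomorphism in Coh(U, I O_U) (an abelian category), in the
form the printed proof establishes: for every f ∈ 𝔞, a family of sections of the G_n over D(f),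
compatible under the transition maps, whose images in the Γ(D(f), j_*F_n) = Γ(D(f) ∩ U, F_n) all
vanish, is zero. -/
theorem result (A : Type u) [CommRing A] [IsNoetherianRing A] (I 𝔞 : Ideal A) (hI𝔞 : I ≤ 𝔞)
    (G : ℕᵒᵖ ⥤ (↑(LocCoh.puncturedOpen A 𝔞) : Scheme.{u}).Modules) (hG : Formal.IsCohFormal I G)
    (hb : ∀ k : ℕ, ∃ n : ℕ, LinearMap.ker (limit.π (Algz.sectMod A (LocCoh.puncturedOpen A 𝔞) G) (op n)).hom ≤
      I ^ k • (⊤ : Submodule A ↑(limit (Algz.sectMod A (LocCoh.puncturedOpen A 𝔞) G))))
    (ℓ : ∀ n : ℕ, ModuleCat.of A (Formal2.quotPow A I ↑(limit (Algz.sectMod A (LocCoh.puncturedOpen A 𝔞) G)) n) ⟶ (Algz.sectMod A (LocCoh.puncturedOpen A 𝔞) G).obj (op n))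
    (hℓ : ∀ n : ℕ, ModuleCat.ofHom (Formal2.quotPowπ A I ↑(limit (Algz.sectMod A (LocCoh.puncturedOpen A 𝔞) G)) n) ≫ ℓ n = limit.π (Algz.sectMod A (LocCoh.puncturedOpen A 𝔞) G) (op n)) :
    (∀ n : ℕ, Coh.IsCoh ((Scheme.Modules.restrictFunctor (LocCoh.puncturedOpen A 𝔞).ι).obj (Formal2.tmod A (Formal2.quotPow A I ↑(limit (Algz.sectMod A (LocCoh.puncturedOpen A 𝔞) G)) n)))) ∧
    ∀ (f : A), f ∈ 𝔞 →
      ∀ x : (∀ n : ℕ, (Scheme.Modules.presheaf (Formal2.tmod A (Formal2.quotPow A I ↑(limit (Algz.sectMod A (LocCoh.puncturedOpen A 𝔞) G)) n))).obj (op (PrimeSpectrum.basicOpen f : (Spec (CommRingCat.of A)).Opens))),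
        (∀ n : ℕ, Scheme.Modules.Hom.app (Formal2.tmodMap A (Formal2.quotPowTrans A I ↑(limit (Algz.sectMod A (LocCoh.puncturedOpen A 𝔞) G)) n)) (PrimeSpectrum.basicOpen f : (Spec (CommRingCat.of A)).Opens) (x (n + 1)) = x n) →
        (∀ n : ℕ, Scheme.Modules.Hom.app
            (((tilde.adjunction (R := CommRingCat.of A)).homEquiv (ModuleCat.of A (Formal2.quotPow A I ↑(limit (Algz.sectMod A (LocCoh.puncturedOpen A 𝔞) G)) n))
              ((Scheme.Modules.pushforward (LocCoh.puncturedOpen A 𝔞).ι).obj (G.obj (op n)))).symm (ℓ n))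
            (PrimeSpectrum.basicOpen f : (Spec (CommRingCat.of A)).Opens) (x n) = 0) →
        ∀ n : ℕ, x n = 0 := by
  let U := LocCoh.puncturedOpen A 𝔞
  let X := Algz.sectMod A U G
  constructor
  · intro n
    obtain ⟨m, hm⟩ := hb (n + 1)
    refine isCoh_of_submodule U (hG.1 m) (LinearMap.range (limit.π X (op m)).hom)
      ((Submodule.liftQ (LinearMap.ker (limit.π X (op m)).hom) (Formal2.quotPowπ A I ↑(limit X) n)
        (fun z hz => by
          rw [LinearMap.mem_ker]
          exact (Submodule.Quotient.mk_eq_zero _).2 (hm hz))).comp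
          (limit.π X (op m)).hom.quotKerEquivRange.symm.toLinearMap) fun q => ?_
    obtain ⟨z, rfl⟩ := Submodule.Quotient.mk_surjective _ q
    refine ⟨(limit.π X (op m)).hom.quotKerEquivRange (Submodule.Quotient.mk z), ?_⟩
    rw [LinearMap.comp_apply]
    refine (congrArg _ (LinearEquiv.symm_apply_apply _ _)).trans ?_
    rfl
  · intro f hf x hx hx0 n
    let V : (Spec (CommRingCat.of A)).Opens := PrimeSpectrum.basicOpen f
    let s : ∀ j, GrothLib.ColimSec7.S (Formal2.quotPow A I ↑(limit X) j) V := fun j => x j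
    have hs : ∀ j, GrothLib.ColimSec7.mp (Formal2.quotPowTrans A I ↑(limit X) j) V (s (j + 1)) = s j := hx
    obtain ⟨N, hN⟩ := hb (n + 1)
    let N' := max N n
    obtain ⟨k, q, hq⟩ := GrothLib.ColimSec7.exists_pow_smul_eq (le_refl V) (s N')
    obtain ⟨z, rfl⟩ := Submodule.Quotient.mk_surjective _ q
    let P := (Scheme.Modules.pushforward U.ι).obj (G.obj (op N'))
    let φ := ((tilde.adjunction (R := CommRingCat.of A)).homEquiv
      (ModuleCat.of A (Formal2.quotPow A I ↑(limit X) N')) P).symm (ℓ N')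
    let app := ((modulesSpecToSheaf.map φ).hom.app (op V)).hom
    have h1 : app (s N') = 0 := hx0 N'
    have h2 : (modulesSpecToSheaf.obj P).obj.map (homOfLE (le_top : V ≤ ⊤)).op ((limit.π X (op N')).hom z) = 0 := by
      have h3 := congrArg app hq
      rw [show app (f ^ k • s N') = f ^ k • app (s N') from app.map_smul _ _, h1, smul_zero] at h3
      exact (congrArg _ (ConcreteCategory.congr_hom (hℓ N') z).symm).trans
        ((app_toOpen (R := CommRingCat.of A) (ℓ N') V _).symm.trans h3.symm)
    haveI := (hG.1 N').1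
    haveI : P.IsQuasicoherent := GrothLib.QCoh.isQuasicoherent_pushforward U.ι _
    obtain ⟨l, hl⟩ := exists_pow_smul_eq_zero (R := CommRingCat.of A) P f _ h2
    have hNz : f ^ l • z ∈ LinearMap.ker (limit.π X (op N)).hom := by
      have h4 : (limit.π X (op N')).hom (f ^ l • z) = 0 := ((limit.π X (op N')).hom.map_smul _ z).trans hl
      rw [LinearMap.mem_ker, ← limit.w X (homOfLE (le_max_left N n)).op, ModuleCat.hom_comp, LinearMap.comp_apply, h4,
        map_zero]
    have h5 : f ^ (l + k) • s n = 0 := by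
      refine (congrArg (fun w : GrothLib.ColimSec7.S _ V => f ^ (l + k) • w)
        (GrothLib.ColimSec7.tr_z s hs n N' (le_max_right N n)).symm).trans ?_
      show f ^ (l + k) • _ = (0 : GrothLib.ColimSec7.S _ V)
      rw [← map_smul, pow_add f l k, mul_smul, hq, ← map_smul, GrothLib.ColimSec7.mp_t]
      show GrothLib.ColimSec7.t _ V (Submodule.Quotient.mk (f ^ l • z) : Formal2.quotPow A I ↑(limit X) n) = 0
      rw [(Submodule.Quotient.mk_eq_zero _).2 (hN hNz), map_zero]
    exact GrothLib.ColimSec7.smul_injective le_rfl (l + k) (h5.trans (smul_zero _).symm)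

end Groth.Agent.S9553
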