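import Groth.Statements.S9559
import Groth.Agent.Lib.EtLocal.Decomp
-- import your own Groth.Agent.* helpers here

set_option autoImplicit false
open CategoryTheory CategoryTheory.Limits AlgebraicGeometry Opposite
set_option backward.isDefEq.respectTransparency false
universe u
open EtLocal

namespace Groth.Agent.S9559

/-- A finite étale morphism f : X ⟶ S becomes, after base change to a suitable étale neighbourhood (U,
u) of any point s of S, a finite disjoint union of copies of U: X_U is isomorphic over U to a finite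
coproduct of schemes V_j each of which maps isomorphically onto U. -/
theorem result {X S : Scheme.{u}} (f : X ⟶ S) [IsFinite f] [Etale f] (s : S) :
    ∃ (U : Scheme.{u}) (g : U ⟶ S) (_ : AlgebraicGeometry.Etale g) (u : U) (_ : g.base u = s)
      (n : ℕ) (V : Fin n → Scheme.{u}) (c : ∀ j, V j ⟶ U) (_ : ∀ j, IsIso (c j))
      (e : (∐ V) ≅ pullback f g), ∀ j, Sigma.ι V j ≫ e.hom ≫ pullback.snd f g = c j := by
  classical
  have hfin : (f.base ⁻¹' {s}).Finite := f.finite_preimage_singleton s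
  haveI := hfin.to_subtype
  obtain ⟨m, ⟨em⟩⟩ := Finite.exists_equiv_fin (f.base ⁻¹' {s})
  obtain ⟨U, g, u, hg, hgu, P, hP⟩ := GrothLib.EtLocal.exists_parts_iso f s
    (fun i : Fin m => (em.symm i).1) (fun a b h => em.symm.injective (Subtype.ext h))
    (fun i => (em.symm i).2)
    (fun i => ⟨⊤, trivial, by infer_instance⟩)
  haveI := hg
  obtain ⟨U', u', P', W, hu, hiso, htop, hd, hd', hW⟩ := P.exists_decomposition
  haveI := P'.fin
  haveI : IsFinite (pullback.snd f (U'.ι ≫ g)) := MorphismProperty.pullback_snd _ _ inferInstance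
  have hgu' : (U'.ι ≫ g) u' = s := by rw [Scheme.Hom.comp_apply, ← hgu, ← hu]; rfl
  have hWc : IsClosed (W : Set ↥(pullback f (U'.ι ≫ g))) := by
    have : (W : Set ↥(pullback f (U'.ι ≫ g))) = (⋃ k, (P'.V k : Set ↥(pullback f (U'.ι ≫ g))))ᶜ := by
      ext w
      constructor
      · intro hw hk
        obtain ⟨k, hk⟩ := Set.mem_iUnion.mp hk
        exact (hd k).le_bot ⟨hw, hk⟩
      · intro hw
        have hmem : w ∈ W ⊔ ⨆ k, P'.V k := by rw [htop]; trivial
        rcases hmem with h | h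
        · exact h
        · obtain ⟨k, hk⟩ := TopologicalSpace.Opens.mem_iSup.mp h
          exact absurd (Set.mem_iUnion.mpr ⟨k, hk⟩) hw
    rw [this]
    exact (isOpen_iUnion fun k => (P'.V k).2).isClosed_compl
  let U'' : U'.toScheme.Opens :=
    ⟨(pullback.snd f (U'.ι ≫ g) '' W)ᶜ, ((pullback.snd f (U'.ι ≫ g)).isClosedMap _ hWc).isOpen_compl⟩
  have hu'' : u' ∈ U'' := by
    rintro ⟨w, hw, hwu⟩
    have hfw : f (pullback.fst f (U'.ι ≫ g) w) = s := by
      rw [← Scheme.Hom.comp_apply, pullback.condition, Scheme.Hom.comp_apply, hwu, hgu']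
    exact hW w (em ⟨_, hfw⟩) hw hwu (by simp)
  let Q := P'.shrink U'' ⟨u', hu''⟩ rfl (P'.closed_restrict U'')
  have hQ : Q.AllIso := P'.shrink_allIso U'' _ rfl (fun k =>
    IsZariskiLocalAtTarget.restrict (P := MorphismProperty.isomorphisms Scheme) (hiso hP k) U'') _
  haveI := Q.fin
  obtain ⟨n, ⟨e⟩⟩ := Finite.exists_equiv_fin Q.K
  let r := GrothLib.EtLocal.restrictMap f (U'.ι ≫ g) U''
  obtain ⟨hcol⟩ := nonempty_isColimit_cofanMk_of (fun j : Fin n => (Q.V (e.symm j)).ι) (by
      refine top_le_iff.mp fun w _ => ?_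
      have hrw : r w ∈ W ⊔ ⨆ k, P'.V k := by rw [htop]; trivial
      rcases hrw with h | h
      · refine absurd (⟨r w, h, rfl⟩ : pullback.snd f (U'.ι ≫ g) (r w) ∈
          pullback.snd f (U'.ι ≫ g) '' W) ?_
        show pullback.snd f (U'.ι ≫ g) (r w) ∈ U''
        rw [← Scheme.Hom.comp_apply, GrothLib.EtLocal.restrictMap_snd, Scheme.Hom.comp_apply]
        exact (pullback.snd f (U''.ι ≫ U'.ι ≫ g) w).2
      · obtain ⟨k, hk⟩ := TopologicalSpace.Opens.mem_iSup.mp h
        refine TopologicalSpace.Opens.mem_iSup.mpr ⟨e k, ?_⟩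
        rw [Scheme.Opens.opensRange_ι, e.symm_apply_apply]
        exact hk)
    (fun a b hab => by
      simp only [Function.onFun, Scheme.Opens.opensRange_ι]
      rw [disjoint_iff_inf_le]
      rintro w ⟨ha, hb⟩
      exact (hd' _ _ (fun h => hab (e.symm.injective h))).le_bot (show r w ∈ P'.V _ ⊓ P'.V _ from ⟨ha, hb⟩))
  refine ⟨U'', U''.ι ≫ U'.ι ≫ g, inferInstance, ⟨u', hu''⟩, ?_, n,
    fun j => (Q.V (e.symm j)).toScheme,
    fun j => (Q.V (e.symm j)).ι ≫ pullback.snd f (U''.ι ≫ U'.ι ≫ g), fun j => hQ _,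
    (colimit.isColimit _).coconePointUniqueUpToIso hcol, fun j => ?_⟩
  · rw [Scheme.Hom.comp_apply]; exact hgu'
  · exact (Category.assoc _ _ _).symm.trans (congrArg (fun t => t ≫ pullback.snd f (U''.ι ≫ U'.ι ≫ g))
      (IsColimit.comp_coconePointUniqueUpToIso_hom (colimit.isColimit _) hcol ⟨j⟩))

end Groth.Agent.S9559
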