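import Groth.Statements.S9561
import Groth.Agent.Lib.CplUnram.Basic

set_option autoImplicit false
universe u
open EtLocal

namespace Groth.Agent.S9561

/-- Let A → B be a local homomorphism of Noetherian local rings with B essentially of finite type over
A, and let ψ be the induced map between the completions of A and B at their maximal ideals (a ring
map of the completions whose composite with A → A^ is A → B → B^; such a map is unique). Then A → B
is an unramified homomorphism of local rings, i.e. m_A B = m_B and the residue field of B is a
finite separable extension of that of A, if and only if ψ is an unramified ring map (of finite type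
and formally unramified). (The published statement lists a third equivalent condition, that ψ is
itself an unramified homomorphism of local rings; this row keeps the two outer ones.) -/
theorem result (A B : Type u) [CommRing A] [CommRing B]
    [IsLocalRing A] [IsLocalRing B] [IsNoetherianRing A] [IsNoetherianRing B] [Algebra A B]
    [IsLocalHom (algebraMap A B)] [Algebra.EssFiniteType A B]
    (ψ : AdicCompletion (IsLocalRing.maximalIdeal A) A →+* AdicCompletion (IsLocalRing.maximalIdeal B) B)
    (hψ : ψ.comp (algebraMap A (AdicCompletion (IsLocalRing.maximalIdeal A) A)) =
      (algebraMap B (AdicCompletion (IsLocalRing.maximalIdeal B) B)).comp (algebraMap A B)) :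
    ((IsLocalRing.maximalIdeal A).map (algebraMap A B) = IsLocalRing.maximalIdeal B ∧
        Module.Finite (IsLocalRing.ResidueField A) (IsLocalRing.ResidueField B) ∧
        Algebra.IsSeparable (IsLocalRing.ResidueField A) (IsLocalRing.ResidueField B)) ↔
      (ψ.FiniteType ∧ ψ.FormallyUnramified) := by
  letI := ψ.toAlgebra
  haveI : IsLocalHom (algebraMap (AdicCompletion (IsLocalRing.maximalIdeal A) A)
      (AdicCompletion (IsLocalRing.maximalIdeal B) B)) := GrothLib.AdicExtra.isLocalHom_completion ψ hψ
  exact GrothLib.CplUnram.unramified_iff hψ

end Groth.Agent.S9561
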