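import Groth.Statements.S9567
import Groth.Agent.Lib.UnramLoc9.Charts

set_option autoImplicit false
universe u
open EtLocal

namespace Groth.Agent.S9567

open AlgebraicGeometry CategoryTheory in
/-- Let φ : X ⟶ Y be any morphism of schemes, x a point of X and V an affine open neighbourhood of φ(x),
with ring R = Γ(Y, V). If φ is étale on some open neighbourhood of x, then there are an affine open
neighbourhood U of x with φ(U) ⊆ V, a monic polynomial p over R and an open immersion j of U into
Spec of (R[t]/(p))[1/p′] (the localization of R[t]/(p) away from the image of the derivative of p)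
such that j followed by the projection to Spec R is the morphism U → Spec R induced by φ. -/
theorem result {X Y : Scheme.{u}} (φ : X ⟶ Y) (x : X)
    (V : Y.Opens) (hV : IsAffineOpen V) (hxV : φ.base x ∈ V)
    (hφ : ∃ W : X.Opens, x ∈ W ∧ Etale (W.ι ≫ φ)) :
    ∃ (U : X.Opens) (hU : IsAffineOpen U) (_ : x ∈ U) (e : U ≤ φ ⁻¹ᵁ V)
      (p : Polynomial Γ(Y, V)) (_ : p.Monic)
      (j : U.toScheme ⟶ Spec (CommRingCat.of (Localization.Away (AdjoinRoot.mk p (Polynomial.derivative p))))),
      IsOpenImmersion j ∧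
        j ≫ Spec.map (CommRingCat.ofHom
            (algebraMap Γ(Y, V) (Localization.Away (AdjoinRoot.mk p (Polynomial.derivative p))))) =
          hU.isoSpec.hom ≫ Spec.map (φ.appLE V U e) := by
  obtain ⟨U, hU, hxU, e, hstd⟩ :=
    (GrothLib.UnramLoc9.etale_nhd_iff_chart φ x V hV hxV).mp hφ
  letI : Algebra Γ(Y, V) Γ(X, U) := (φ.appLE V U e).hom.toAlgebra
  haveI : Algebra.IsStandardEtale Γ(Y, V) Γ(X, U) := hstd
  let P : StandardEtalePresentation Γ(Y, V) Γ(X, U) :=
    Algebra.IsStandardEtale.nonempty_standardEtalePresentation.some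
  let ε : Γ(X, U) ≃ₐ[Γ(Y, V)] Localization.Away (AdjoinRoot.mk P.f P.g) :=
    P.equivRing.trans P.P.equivAwayAdjoinRoot
  let d : AdjoinRoot P.f := AdjoinRoot.mk P.f (Polynomial.derivative P.f)
  let θ₀ : AdjoinRoot P.f →ₐ[Γ(Y, V)] Γ(X, U) :=
    ε.symm.toAlgHom.comp (IsScalarTower.toAlgHom Γ(Y, V) (AdjoinRoot P.f) _)
  have hunit : IsUnit (θ₀ d) := by
    obtain ⟨p₁, p₂, n, hc⟩ := P.P.cond
    have hc' := congrArg (θ₀.toRingHom.comp (AdjoinRoot.mk P.f)) hc
    simp only [map_add, map_mul, map_pow, RingHom.comp_apply, AdjoinRoot.mk_self, map_zero,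
      zero_mul, add_zero] at hc'
    have hg : IsUnit (θ₀ (AdjoinRoot.mk P.f P.g)) :=
      (IsLocalization.Away.algebraMap_isUnit (S := Localization.Away (AdjoinRoot.mk P.f P.g))
        (AdjoinRoot.mk P.f P.g)).map ε.symm.toAlgHom
    exact isUnit_of_mul_isUnit_left (hc' ▸ hg.pow n)
  let θ : Localization.Away d →ₐ[Γ(Y, V)] Γ(X, U) :=
    IsLocalization.liftAlgHom (M := Submonoid.powers d) (f := θ₀) fun y => by
      obtain ⟨y, n, rfl⟩ := y
      simpa using hunit.pow n
  refine ⟨U, hU, hxU, e, P.f, P.monic_f,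
    hU.isoSpec.hom ≫ Spec.map (CommRingCat.ofHom θ.toRingHom), ?_, ?_⟩
  · have h1 : IsOpenImmersion (Spec.map (CommRingCat.ofHom θ₀.toRingHom)) := by
      rw [show θ₀.toRingHom = ε.symm.toRingEquiv.toRingHom.comp
        (algebraMap (AdjoinRoot P.f) (Localization.Away (AdjoinRoot.mk P.f P.g))) from rfl]
      rw [CommRingCat.ofHom_comp, Spec.map_comp]
      haveI : IsIso (CommRingCat.ofHom ε.symm.toRingEquiv.toRingHom) :=
        (ε.symm.toRingEquiv.toCommRingCatIso).isIso_hom
      haveI : IsOpenImmersion (Spec.map (CommRingCat.ofHom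
          (algebraMap (AdjoinRoot P.f) (Localization.Away (AdjoinRoot.mk P.f P.g))))) :=
        IsOpenImmersion.of_isLocalization (AdjoinRoot.mk P.f P.g)
      infer_instance
    have h2 : θ₀.toRingHom = θ.toRingHom.comp (algebraMap (AdjoinRoot P.f) (Localization.Away d)) := by
      refine RingHom.ext fun a => ?_
      simp [θ, IsLocalization.liftAlgHom_apply, IsLocalization.lift_eq]
    rw [h2, CommRingCat.ofHom_comp, Spec.map_comp] at h1
    haveI := h1
    haveI : IsOpenImmersion (Spec.map (CommRingCat.ofHom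
        (algebraMap (AdjoinRoot P.f) (Localization.Away d)))) :=
      IsOpenImmersion.of_isLocalization d
    haveI := IsOpenImmersion.of_comp (Spec.map (CommRingCat.ofHom θ.toRingHom))
      (Spec.map (CommRingCat.ofHom (algebraMap (AdjoinRoot P.f) (Localization.Away d))))
    infer_instance
  · have h3 : φ.appLE V U e =
        CommRingCat.ofHom (algebraMap Γ(Y, V) (Localization.Away d)) ≫
          CommRingCat.ofHom θ.toRingHom := by
      apply CommRingCat.hom_ext
      exact θ.comp_algebraMap.symm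
    rw [Category.assoc, ← Spec.map_comp, h3]

end Groth.Agent.S9567
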