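import Groth.Statements.S9568

set_option autoImplicit false
universe u
open EtLocal

namespace Groth.Agent.S9568

/-- Let A be a ring, φ a surjection from the polynomial ring P = A[x_1, …, x_n] onto an A-algebra B with
kernel I, q a prime of B and 𝔮 its preimage in P. Then the localization at q of the module of
differentials Ω_{B/A} vanishes if and only if the images of the differentials dg, g ∈ I, span the
localization of Ω_{P/A} at 𝔮 over P_𝔮. (Geometrically: for f locally of finite type, the stalk of
Ω_{X/Y} at x vanishes iff near x the scheme X is a closed subscheme of an affine space over the base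
cut out by an ideal whose germs at the point have differentials generating the stalk of Ω of the
affine space; the published statement also lists the equivalence with f being unramified at x and
with the diagonal being a local isomorphism at x, which this row does not restate. The published
statement asks for one such presentation near the point; this row states the equivalence for every
presentation, which is what the published proof shows and which implies the existential form.) -/
theorem result {A B : Type u} [CommRing A] [CommRing B]
    [Algebra A B] (n : ℕ) (φ : MvPolynomial (Fin n) A →ₐ[A] B) (hφ : Function.Surjective φ)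
    (q : Ideal B) [q.IsPrime] :
    Subsingleton (LocalizedModule q.primeCompl (KaehlerDifferential A B)) ↔
      Submodule.span (Localization.AtPrime (q.comap φ.toRingHom))
        ((LocalizedModule.mkLinearMap (q.comap φ.toRingHom).primeCompl
            (KaehlerDifferential A (MvPolynomial (Fin n) A))) ''
          ((KaehlerDifferential.D A (MvPolynomial (Fin n) A)) '' (RingHom.ker φ.toRingHom : Set (MvPolynomial (Fin n) A)))) = ⊤ := by
  classical
  letI : Algebra (MvPolynomial (Fin n) A) B := φ.toRingHom.toAlgebra
  haveI : IsScalarTower A (MvPolynomial (Fin n) A) B :=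
    IsScalarTower.of_algebraMap_eq fun a => (φ.commutes a).symm
  set P := MvPolynomial (Fin n) A
  set Q := q.comap φ.toRingHom
  set N : Submodule P (KaehlerDifferential A P) :=
    Submodule.span P ((KaehlerDifferential.D A P) '' (RingHom.ker φ.toRingHom : Set P))
  -- the kernel of `Ω_P → Ω_B`
  have hI : ∀ a : P, ∀ ω : KaehlerDifferential A P, a ∈ RingHom.ker φ.toRingHom → a • ω ∈ N := by
    intro a ω ha
    have hω : ω ∈ Submodule.span P (Set.range (KaehlerDifferential.D A P)) := by
      rw [KaehlerDifferential.span_range_derivation]; trivial
    induction hω using Submodule.span_induction with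
    | mem x hx =>
      obtain ⟨y, rfl⟩ := hx
      have h1 : a • KaehlerDifferential.D A P y =
          KaehlerDifferential.D A P (a * y) - y • KaehlerDifferential.D A P a := by
        rw [Derivation.leibniz]; abel
      rw [h1]
      exact N.sub_mem (Submodule.subset_span ⟨_, (RingHom.ker φ.toRingHom).mul_mem_right _ ha, rfl⟩)
        (N.smul_mem _ (Submodule.subset_span ⟨_, ha, rfl⟩))
    | zero => rw [smul_zero]; exact N.zero_mem
    | add x y _ _ hx hy => rw [smul_add]; exact N.add_mem hx hy
    | smul c x _ hx => rw [smul_comm]; exact N.smul_mem c hx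
  have hsurj : Function.Surjective (algebraMap P B) := hφ
  have hker : LinearMap.ker (KaehlerDifferential.map A A P B) = N := by
    refine le_antisymm (fun ω hω => ?_) (Submodule.span_le.2 ?_)
    · have h0 : (1 : B) ⊗ₜ[P] ω ∈ LinearMap.range (KaehlerDifferential.kerCotangentToTensor A P B) := by
        rw [KaehlerDifferential.range_kerCotangentToTensor A P B hsurj]
        simp [KaehlerDifferential.mapBaseChange_tmul, LinearMap.mem_ker.1 hω]
      obtain ⟨c, hc⟩ := h0
      obtain ⟨⟨g, hg⟩, rfl⟩ := Ideal.toCotangent_surjective _ c
      rw [KaehlerDifferential.kerCotangentToTensor_toCotangent] at hc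
      let e : B ≃ₗ[P] P ⧸ RingHom.ker (algebraMap P B) :=
        ((Ideal.quotientKerAlgEquivOfSurjective (f := Algebra.ofId P B) hsurj).symm).toLinearEquiv
      have he : e 1 = Ideal.Quotient.mk (RingHom.ker (algebraMap P B)) 1 :=
        map_one (Ideal.quotientKerAlgEquivOfSurjective (f := Algebra.ofId P B) hsurj).symm
      have h2 : (Ideal.Quotient.mk (RingHom.ker (algebraMap P B)) 1) ⊗ₜ[P]
          (ω - KaehlerDifferential.D A P g) = 0 := by
        have h3 := congrArg (TensorProduct.congr e (LinearEquiv.refl P (KaehlerDifferential A P))) hc
        simp only [TensorProduct.congr_tmul, LinearEquiv.refl_apply, he] at h3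
        rw [TensorProduct.tmul_sub, h3, sub_self]
      have h4 := congrArg (TensorProduct.quotTensorEquivQuotSMul (KaehlerDifferential A P)
        (RingHom.ker (algebraMap P B))) h2
      rw [TensorProduct.quotTensorEquivQuotSMul_mk_tmul, map_zero, one_smul,
        Submodule.Quotient.mk_eq_zero] at h4
      have h5 : ω - KaehlerDifferential.D A P g ∈ N := by
        refine Submodule.smul_induction_on h4 (fun a ha x _ => hI a x ha) fun x y => N.add_mem
      simpa using N.add_mem h5 (Submodule.subset_span ⟨g, hg, rfl⟩ : KaehlerDifferential.D A P g ∈ N)
    · rintro _ ⟨g, hg, rfl⟩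
      have hg' : algebraMap P B g = 0 := hg
      simp [KaehlerDifferential.map_D, hg']
  -- localisation
  rw [← Submodule.localized'_span (Localization.AtPrime Q) Q.primeCompl, Submodule.eq_top_iff',
    LocalizedModule.subsingleton_iff]
  constructor
  · intro h x
    obtain ⟨⟨ω, s⟩, rfl⟩ := IsLocalizedModule.mk'_surjective Q.primeCompl
      (LocalizedModule.mkLinearMap Q.primeCompl (KaehlerDifferential A P)) x
    obtain ⟨r, hr, hr0⟩ := h (KaehlerDifferential.map A A P B ω)
    obtain ⟨t, rfl⟩ := hφ r
    refine ⟨t • ω, ?_, ⟨t, hr⟩ * s, ?_⟩
    · show t • ω ∈ N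
      rw [← hker, LinearMap.mem_ker, map_smul, ← IsScalarTower.algebraMap_smul B t]
      exact hr0
    · exact IsLocalizedModule.mk'_cancel_left _ ω ⟨t, hr⟩ s
  · intro h m
    obtain ⟨ω, rfl⟩ := KaehlerDifferential.map_surjective_of_surjective A A P B hsurj m
    obtain ⟨ν, hν, s, hs⟩ := h (LocalizedModule.mkLinearMap Q.primeCompl (KaehlerDifferential A P) ω)
    rw [← IsLocalizedModule.mk'_one Q.primeCompl (LocalizedModule.mkLinearMap Q.primeCompl _) ω,
      IsLocalizedModule.mk'_eq_mk'_iff] at hs
    obtain ⟨c, hc⟩ := hs
    refine ⟨φ ((c : P) * (s : P)), (c * s).2, ?_⟩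
    replace hν : ν ∈ N := hν
    rw [← hker, LinearMap.mem_ker] at hν
    have h6 := congrArg (KaehlerDifferential.map A A P B) hc
    simp only [Submonoid.smul_def, map_smul, hν, smul_zero, OneMemClass.coe_one, one_smul] at h6
    rw [show φ ((c : P) * (s : P)) = algebraMap P B ((c : P) * (s : P)) from rfl, IsScalarTower.algebraMap_smul, mul_smul]
    first | exact h6 | exact h6.symm

end Groth.Agent.S9568
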