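import Groth.Statements.S9571
import Groth.Agent.Lib.GrTilde.Mul

set_option autoImplicit false
universe u
open CategoryTheory CategoryTheory.Limits AlgebraicGeometry TopologicalSpace Opposite
open Constr

namespace Groth.Agent.S9571

/-- Let S be a graded ring, X = Proj S and d ≥ 1; let W_d be the union of the opens D_+(ab) over pairs
of homogeneous a, b with deg a = deg b + d (the open over which the twisting sheaves O_X(nd) are
invertible with compatible multiplications). For n ≥ 1 and f homogeneous of degree nd, with s the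
section of O_X(nd) over W_d defined by f, the non-vanishing locus (W_d)_s equals D_+(f) ∩ W_d.
Pointwise: for p in some D_+(ab) as above, p ∈ D_+(f) if and only if the value f/1 of s at p
generates the module of degree-nd fractions at p (the span of the fractions c/t with t ∉ p and deg c
= deg t + nd, over the degree-zero local ring at p). -/
theorem result {R A : Type u} [CommRing R] [CommRing A] [Algebra R A] (𝒜 : ℕ → Submodule R A) [GradedAlgebra 𝒜]
    {d : ℕ} (hd : 0 < d) {i j : ℕ} {a b : A} (ha : a ∈ 𝒜 i) (hb : b ∈ 𝒜 j) (hij : i = j + d)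
    (p : ProjectiveSpectrum 𝒜) (hp : p ∈ ProjectiveSpectrum.basicOpen 𝒜 (a * b))
    {n : ℕ} (hn : 0 < n) (f : 𝒜 (n * d)) :
    p ∈ ProjectiveSpectrum.basicOpen 𝒜 (f : A) ↔
      Submodule.span (Twist.A0 𝒜 p) {(Twist.globalOf 𝒜 f).1 ⟨p, trivial⟩} = ⊤ := by
    have hpa : a ∉ p.asHomogeneousIdeal := fun h => hp (p.asHomogeneousIdeal.toIdeal.mul_mem_right b h)
    have hpb : b ∉ p.asHomogeneousIdeal := fun h => hp (p.asHomogeneousIdeal.toIdeal.mul_mem_left a h)
    set g := (Twist.globalOf 𝒜 f).1 ⟨p, trivial⟩ with hg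
    constructor
    · intro (hfp : (f : A) ∉ p.asHomogeneousIdeal)
      rw [Submodule.eq_top_iff']
      intro q
      obtain ⟨q, hq⟩ := q
      induction hq using Submodule.span_induction with
      | mem x hx =>
        obtain ⟨i', j', ⟨a', ha'⟩, ⟨s, hs'⟩, hs, hdeg, rfl⟩ := hx
        have hi' : i' = j' + n * d := by exact_mod_cast hdeg
        have hsf : s * (f : A) ∉ p.asHomogeneousIdeal := fun h => (p.isPrime.mem_or_mem h).elim hs hfp
        refine Submodule.mem_span_singleton.mpr ⟨HomogeneousLocalization.mk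
          ⟨i', ⟨a', ha'⟩, ⟨s * (f : A), hi' ▸ SetLike.mul_mem_graded hs' f.2⟩, hsf⟩, Subtype.ext ?_⟩
        rw [Twist.coe_smul_val, HomogeneousLocalization.val_mk]
        show Localization.mk a' _ * Localization.mk (f : A) _ = Localization.mk a' _
        rw [Localization.mk_mul, Localization.mk_eq_mk_iff, Localization.r_iff_exists]
        exact ⟨1, by simp only [OneMemClass.coe_one, one_mul, Submonoid.coe_mul, mul_one]; ring⟩
      | zero => exact Submodule.zero_mem _
      | add x y _ _ hx hy => exact Submodule.add_mem _ hx hy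
      | smul r x _ hx => exact Submodule.smul_mem _ r hx
    · intro h (hfp : (f : A) ∈ p.asHomogeneousIdeal)
      have hmem : Localization.mk (a ^ n) (⟨b ^ n, fun h' => hpb (p.isPrime.mem_of_pow_mem _ h')⟩ : p.asHomogeneousIdeal.toIdeal.primeCompl) ∈
          Twist.twistAt 𝒜 ((n * d : ℕ) : ℤ) p :=
        Submodule.subset_span ⟨n • i, n • j, ⟨a ^ n, SetLike.pow_mem_graded _ ha⟩, ⟨b ^ n, SetLike.pow_mem_graded _ hb⟩,
          fun h' => hpb (p.isPrime.mem_of_pow_mem _ h'), by simp only [smul_eq_mul, hij]; push_cast; ring, rfl⟩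
      have hm : (⟨_, hmem⟩ : Twist.twistAt 𝒜 ((n * d : ℕ) : ℤ) p) ∈ Submodule.span (Twist.A0 𝒜 p) {g} := h.ge trivial
      obtain ⟨c, hc⟩ := Submodule.mem_span_singleton.mp hm
      have hc' := congrArg Subtype.val hc
      rw [Twist.coe_smul_val] at hc'
      obtain ⟨x, hx⟩ := HomogeneousLocalization.mk_surjective c
      rw [← hx, HomogeneousLocalization.val_mk] at hc'
      change Localization.mk _ _ * Localization.mk (f : A) _ = Localization.mk (a ^ n) _ at hc'
      rw [Localization.mk_mul, Localization.mk_eq_mk_iff, Localization.r_iff_exists] at hc'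
      obtain ⟨⟨u, hu⟩, hu'⟩ := hc'
      simp only [Submonoid.coe_mul, mul_one] at hu'
      have h1 : u * ((x.den : A) * a ^ n) ∈ p.asHomogeneousIdeal := by
        rw [← hu']
        exact p.asHomogeneousIdeal.toIdeal.mul_mem_left _ (p.asHomogeneousIdeal.toIdeal.mul_mem_left _
          (p.asHomogeneousIdeal.toIdeal.mul_mem_left _ hfp))
      rcases p.isPrime.mem_or_mem h1 with h2 | h2
      · exact hu h2
      · exact (p.isPrime.mem_or_mem h2).elim x.den_mem fun h3 => hpa (p.isPrime.mem_of_pow_mem _ h3)

end Groth.Agent.S9571
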