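import Groth.Statements.S9572
import Groth.Agent.Lib.GradedAlg.ProjMap

set_option autoImplicit false
set_option linter.all false
set_option backward.isDefEq.respectTransparency false
universe u
open CategoryTheory CategoryTheory.Limits AlgebraicGeometry TopologicalSpace Opposite
open Constr

namespace Groth.Agent.S9572

section
variable {R A : Type u} [CommRing R] [CommRing A] [Algebra R A] {𝒜 : ℕ → Submodule R A} [GradedAlgebra 𝒜]
    {B : Type u} [CommRing B] [Algebra R B] {ℬ : ℕ → Submodule R B} [GradedAlgebra ℬ] (φ : 𝒜 →+*ᵍ ℬ)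

open HomogeneousLocalization in
theorem away_map_bijective_of_eventually (d₀ : ℕ) (hbij : ∀ n : ℕ, d₀ ≤ n → Set.BijOn φ (𝒜 n) (ℬ n)) {i : ℕ}
    (hi : 0 < i) (s : A) (hs : s ∈ 𝒜 i) : Function.Bijective (Away.map φ s) := by
  constructor
  · rw [injective_iff_map_eq_zero]
    intro y hy
    obtain ⟨n, x, hx, rfl⟩ := Away.mk_surjective 𝒜 hs y
    rw [Away.map_mk] at hy
    apply HomogeneousLocalization.val_injective
    have h0 := congrArg HomogeneousLocalization.val hy
    rw [Away.val_mk, HomogeneousLocalization.val_zero, Localization.mk_eq_mk',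
      IsLocalization.mk'_eq_zero_iff] at h0 ⊢
    obtain ⟨⟨_, k, rfl⟩, hk⟩ := h0
    refine ⟨⟨s ^ (k + d₀), k + d₀, rfl⟩, ?_⟩
    have hk' : φ s ^ k * φ x = 0 := hk
    have hmem : s ^ (k + d₀) * x ∈ 𝒜 ((k + d₀) • i + n • i) :=
      SetLike.mul_mem_graded (SetLike.pow_mem_graded _ hs) hx
    have hd : d₀ ≤ (k + d₀) • i + n • i := by
      rw [smul_eq_mul, smul_eq_mul]
      have := Nat.le_mul_of_pos_right (k + d₀) hi
      omega
    refine (hbij _ hd).injOn hmem (zero_mem _) ?_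
    rw [map_mul, map_pow, map_zero, add_comm k d₀, pow_add, mul_assoc, hk', mul_zero]
  · intro y
    obtain ⟨n, x, hx, rfl⟩ := Away.mk_surjective ℬ (φ.2 hs) y
    have hmem : x * φ s ^ d₀ ∈ ℬ ((n + d₀) • i) := by
      rw [add_smul]; exact SetLike.mul_mem_graded hx (SetLike.pow_mem_graded _ (φ.2 hs))
    have hd : d₀ ≤ (n + d₀) • i := by
      rw [smul_eq_mul]
      have := Nat.le_mul_of_pos_right (n + d₀) hi
      omega
    obtain ⟨a, ha, ha'⟩ := (hbij _ hd).surjOn hmem
    refine ⟨Away.mk 𝒜 hs (n + d₀) a ha, ?_⟩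
    rw [Away.map_mk]
    apply HomogeneousLocalization.val_injective
    rw [Away.val_mk, Away.val_mk, Localization.mk_eq_mk', IsLocalization.mk'_eq_iff_eq]
    congr 1
    change φ s ^ n * φ a = φ s ^ (n + d₀) * x
    rw [ha', pow_add]; ring

instance {d : ℕ} {f : A} (hf : f ∈ 𝒜 d) (hd : 0 < d) : IsOpenImmersion (PCone.chart φ hf hd) := by
  haveI : IsOpenImmersion (PCone.chart φ hf hd ≫ (PCone.dom φ).ι) := by
    rw [PCone.chart, IsOpenImmersion.lift_fac]; infer_instance
  exact IsOpenImmersion.of_comp _ (PCone.dom φ).ι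

theorem mem_range_chart {d : ℕ} {f : A} (hf : f ∈ 𝒜 d) (hd : 0 < d) (y : (PCone.dom φ : Scheme.{u})) :
    y ∈ Set.range (PCone.chart φ hf hd).base ↔ y.1 ∈ Proj.basicOpen ℬ (φ f) := by
  rw [← Proj.opensRange_awayι ℬ (φ f) (φ.2 hf) hd]
  constructor
  · rintro ⟨z, rfl⟩
    refine ⟨z, ?_⟩
    show _ = (PCone.chart φ hf hd ≫ (PCone.dom φ).ι).base z
    rw [PCone.chart, IsOpenImmersion.lift_fac]
  · rintro ⟨z, hz⟩
    refine ⟨z, (PCone.dom φ).ι.isOpenEmbedding.injective ?_⟩
    show (PCone.chart φ hf hd ≫ (PCone.dom φ).ι).base z = _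
    rw [PCone.chart, IsOpenImmersion.lift_fac]
    exact hz

end

/-- Let ψ : A → B be a homomorphism of graded rings such that A_d → B_d is bijective for all d ≥ d₀. Let
U(ψ) ⊆ Proj B be the union of the opens D_+(ψ f) over homogeneous f of positive degree, and r_ψ :
U(ψ) → Proj A the morphism whose restriction to each chart Spec B_(ψ f) is Spec of the induced map
A_(f) → B_(ψ f) followed by the chart of Proj A. Then U(ψ) = Proj B and r_ψ is an isomorphism. (Here
r_ψ is any morphism with that chart description; it is unique.) -/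
theorem result {R A : Type u} [CommRing R] [CommRing A] [Algebra R A] (𝒜 : ℕ → Submodule R A) [GradedAlgebra 𝒜]
    {B : Type u} [CommRing B] [Algebra R B] (ℬ : ℕ → Submodule R B) [GradedAlgebra ℬ] (ψ : 𝒜 →+*ᵍ ℬ)
    (d₀ : ℕ) (hbij : ∀ d : ℕ, d₀ ≤ d → Set.BijOn ψ (𝒜 d) (ℬ d))
    (r : (PCone.dom ψ : Scheme.{u}) ⟶ Proj 𝒜)
    (hr : ∀ (d : ℕ) (f : A) (hd : 0 < d) (hf : f ∈ 𝒜 d),
      PCone.chart ψ hf hd ≫ r =
        Spec.map (CommRingCat.ofHom (HomogeneousLocalization.Away.map ψ f)) ≫ Proj.awayι 𝒜 f hf hd) :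
    PCone.dom ψ = ⊤ ∧ IsIso r := by
  have htop : PCone.dom ψ = ⊤ := by
    refine top_le_iff.mp fun y _ => ?_
    obtain ⟨e, g, he, hg, hgy⟩ : ∃ (e : ℕ) (g : B), 0 < e ∧ g ∈ ℬ e ∧ g ∉ y.asHomogeneousIdeal := by
      by_contra hc
      push Not at hc
      refine y.not_irrelevant_le ?_
      rw [HomogeneousIdeal.irrelevant_le]
      intro e he g hg
      exact hc e g he hg
    have hmem : g ^ (d₀ + 1) ∈ ℬ ((d₀ + 1) • e) := SetLike.pow_mem_graded _ hg
    have hd : d₀ < (d₀ + 1) • e := by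
      rw [smul_eq_mul]
      exact Nat.lt_of_lt_of_le (Nat.lt_succ_self d₀) (Nat.le_mul_of_pos_right _ he)
    obtain ⟨a, ha, ha'⟩ := (hbij _ hd.le).surjOn hmem
    refine Opens.mem_iSup.mpr ⟨⟨a, _, Nat.lt_of_le_of_lt (Nat.zero_le _) hd, ha⟩, ?_⟩
    rw [ha']
    exact fun h => hgy (y.isPrime.mem_of_pow_mem _ h)
  refine ⟨htop, ?_⟩
  have hiso : ∀ {d : ℕ} {f : A} (hd : 0 < d) (hf : f ∈ 𝒜 d),
      IsIso (Spec.map (CommRingCat.ofHom (HomogeneousLocalization.Away.map ψ f))) := fun hd hf => by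
    haveI : IsIso (CommRingCat.ofHom (HomogeneousLocalization.Away.map ψ _)) :=
      (ConcreteCategory.isIso_iff_bijective _).mpr (away_map_bijective_of_eventually ψ d₀ hbij hd _ hf)
    infer_instance
  have hrange : ∀ {d : ℕ} {f : A} (hd : 0 < d) (hf : f ∈ 𝒜 d),
      r ⁻¹ᵁ (Proj.awayι 𝒜 f hf hd).opensRange = (PCone.chart ψ hf hd).opensRange := by
    intro d f hd hf
    ext y
    constructor
    · intro hy
      have hyt : y.1 ∈ PCone.dom ψ := y.2
      obtain ⟨⟨g, e, he, hg⟩, hyg⟩ := Opens.mem_iSup.mp hyt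
      obtain ⟨z, hz⟩ := (mem_range_chart ψ hg he y).2 hyg
      have h1 : r.base y ∈ Proj.basicOpen 𝒜 g := by
        rw [← Proj.opensRange_awayι 𝒜 g hg he, ← hz]
        exact ⟨(Spec.map (CommRingCat.ofHom (HomogeneousLocalization.Away.map ψ g))).base z,
          (ConcreteCategory.congr_hom (congrArg (fun q => q.base) (hr e g he hg)) z).symm⟩
      have h2 : r.base y ∈ (Proj.awayι 𝒜 (g * f) (SetLike.mul_mem_graded hg hf) (Nat.add_pos_left he d)).opensRange := by
        rw [Proj.opensRange_awayι, Proj.basicOpen_mul]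
        refine ⟨h1, ?_⟩
        rw [← Proj.opensRange_awayι 𝒜 f hf hd]
        exact hy
      obtain ⟨w₀, hw₀⟩ := h2
      haveI := hiso (Nat.add_pos_left he d) (SetLike.mul_mem_graded hg hf)
      obtain ⟨w, rfl⟩ := (Scheme.Hom.surjective
        (Spec.map (CommRingCat.ofHom (HomogeneousLocalization.Away.map ψ (g * f))))) w₀
      let y' := (PCone.chart ψ (SetLike.mul_mem_graded hg hf) (Nat.add_pos_left he d)).base w
      have hy' : r.base y' = r.base y :=
        (ConcreteCategory.congr_hom (congrArg (fun q => q.base)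
          (hr _ (g * f) (Nat.add_pos_left he d) (SetLike.mul_mem_graded hg hf))) w).trans hw₀
      have hmem := (mem_range_chart ψ (SetLike.mul_mem_graded hg hf) (Nat.add_pos_left he d) y').1 ⟨w, rfl⟩
      rw [map_mul, Proj.basicOpen_mul] at hmem
      obtain ⟨z', hz'⟩ := (mem_range_chart ψ hg he y').2 hmem.1
      haveI := hiso he hg
      have hinj : Function.Injective (PCone.chart ψ hg he ≫ r).base := by
        rw [hr e g he hg]
        exact (Spec.map (CommRingCat.ofHom (HomogeneousLocalization.Away.map ψ g)) ≫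
          Proj.awayι 𝒜 g hg he).isOpenEmbedding.injective
      have hzz : z' = z := hinj (by
        show r.base ((PCone.chart ψ hg he).base z') = r.base ((PCone.chart ψ hg he).base z)
        rw [hz', hz, hy'])
      have hyy : y' = y := by rw [← hz', hzz, hz]
      exact (mem_range_chart ψ hf hd y).2 (hyy ▸ hmem.2)
    · rintro ⟨z, rfl⟩
      exact ⟨(Spec.map (CommRingCat.ofHom (HomogeneousLocalization.Away.map ψ f))).base z,
        (ConcreteCategory.congr_hom (congrArg (fun q => q.base) (hr d f hd hf)) z).symm⟩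
  refine IsZariskiLocalAtTarget.of_openCover (P := MorphismProperty.isomorphisms Scheme.{u})
    (Proj.affineOpenCover 𝒜).openCover fun (j : Σ i : PNat, 𝒜 i) => ?_
  have H := IsOpenImmersion.isPullback _ (PCone.chart ψ j.2.2 j.1.2) (Proj.awayι 𝒜 (j.2 : A) j.2.2 j.1.2) r
    (hr _ _ j.1.2 j.2.2) (hrange j.1.2 j.2.2)
  have he := (IsPullback.of_hasPullback r (Proj.awayι 𝒜 (j.2 : A) j.2.2 j.1.2)).flip
  haveI := hiso j.1.2 j.2.2
  have h2 : IsIso (Limits.pullback.snd r (Proj.awayι 𝒜 (j.2 : A) j.2.2 j.1.2)) := by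
    rw [← he.isoIsPullback_hom_fst _ _ H]; infer_instance
  exact h2

end Groth.Agent.S9572
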