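import Groth.Statements.S9574
import Groth.Agent.Lib.TwistAdj10.Main
import Groth.Agent.S9572

set_option autoImplicit false
set_option linter.all false
set_option backward.isDefEq.respectTransparency false
universe u
open CategoryTheory CategoryTheory.Limits AlgebraicGeometry TopologicalSpace Opposite
open scoped HomogeneousIdeal
open Constr

namespace Groth.Agent.S9574

/-- Let ψ : A → B be a homomorphism of graded rings such that A_d → B_d is bijective for all d ≥ d₀, so
that the induced morphism r_ψ : Proj B → Proj A is everywhere defined and an isomorphism. Then for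
every integer n the canonical map θ : r_ψ^* O_{Proj A}(n) → O_{Proj B}(n), adjoint to the map
O_{Proj A}(n) → (r_ψ)_* O_{Proj B}(n) sending a/f to ψ(a)/ψ(f), is an isomorphism. (This row assumes
in addition that B_+ lies in the ideal generated by ψ(A_+), under which the induced morphism is
defined by the graded homomorphism on all of Proj B; the published statement assumes only the
eventual bijectivity, so it also covers maps such as the inclusion of k ⊕ x²k[x] in k[x], which this
row excludes.) -/
theorem result {R A : Type u} [CommRing R] [CommRing A] [Algebra R A] (𝒜 : ℕ → Submodule R A) [GradedAlgebra 𝒜]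
    {B : Type u} [CommRing B] [Algebra R B] (ℬ : ℕ → Submodule R B) [GradedAlgebra ℬ] (ψ : 𝒜 →+*ᵍ ℬ)
    (d₀ : ℕ) (hbij : ∀ d : ℕ, d₀ ≤ d → Set.BijOn ψ (𝒜 d) (ℬ d))
    (hψ : HomogeneousIdeal.irrelevant ℬ ≤ (HomogeneousIdeal.irrelevant 𝒜).map ψ) (n : ℤ) :
    IsIso (((Scheme.Modules.pullbackPushforwardAdjunction (Proj.map ψ hψ)).homEquiv _ _).symm
      (GrTwist.comap ψ hψ n)) := by
  haveI : IsIso (Proj.map ψ hψ) :=
    GrothLib.GradedAlg.of_forall_away ψ hψ (MorphismProperty.isomorphisms Scheme.{u}) fun _ hi s hs => by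
      haveI : IsIso (CommRingCat.ofHom (HomogeneousLocalization.Away.map ψ s)) :=
        (ConcreteCategory.isIso_iff_bijective _).mpr
          (Groth.Agent.S9572.away_map_bijective_of_eventually ψ d₀ hbij hi s hs)
      exact inferInstanceAs (IsIso (Spec.map (CommRingCat.ofHom (HomogeneousLocalization.Away.map ψ s))))
  refine GrothLib.TwistAdj10.isIso_twist_adjunct hψ n fun y => ?_
  obtain ⟨e, f, he, hf, hfy⟩ : ∃ (e : ℕ) (f : A), 0 < e ∧ f ∈ 𝒜 e ∧
      f ∉ (ProjectiveSpectrum.comap ψ hψ y).asHomogeneousIdeal := by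
    by_contra hc
    push Not at hc
    refine (ProjectiveSpectrum.comap ψ hψ y).not_irrelevant_le ?_
    rw [HomogeneousIdeal.irrelevant_le]
    intro e he f hf
    exact hc e f he hf
  have hd : ∀ i : ℕ, d₀ ≤ d₀ • e + i := fun i => by
    have := Nat.le_mul_of_pos_right d₀ he
    rw [smul_eq_mul]; omega
  refine ⟨e, f, ⟨hf, fun i b hb => ?_, fun a ha => ⟨d₀, ?_⟩⟩, hfy⟩
  · have hmem : ψ f ^ d₀ * b ∈ ℬ (d₀ • e + i) :=
      SetLike.mul_mem_graded (SetLike.pow_mem_graded _ (ψ.map_mem hf)) hb
    obtain ⟨a, ha, ha'⟩ := (hbij _ (hd i)).surjOn hmem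
    exact ⟨d₀, a, ha, ha'⟩
  · classical
    rw [← DirectSum.sum_support_decompose 𝒜 a, Finset.mul_sum]
    refine Finset.sum_eq_zero fun i _ => ?_
    refine (hbij _ (hd i)).injOn (SetLike.mul_mem_graded (SetLike.pow_mem_graded _ hf) (SetLike.coe_mem _))
      (zero_mem _) ?_
    rw [map_mul, GradedRingHom.map_directSumDecompose, ha]
    simp

end Groth.Agent.S9574
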