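import Groth.Statements.S9575
import Groth.Agent.Lib.GrTilde.Mul

set_option autoImplicit false
universe u
open CategoryTheory CategoryTheory.Limits AlgebraicGeometry TopologicalSpace Opposite
open Constr

namespace Groth.Agent.S9575

/-- Let S be a graded ring, X = Proj S, d ≥ 1, and a, b homogeneous elements with deg a = deg b + d.
Then for every integer n the restriction of the twisting sheaf O_X(nd) to the standard open D_+(ab)
is isomorphic to the structure sheaf of D_+(ab): it is free of rank one, generated by the section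
(a/b)^n. (This is the invertibility half of the fact that D_+(ab) lies in the open W_d where the
O_X(nd) are invertible with compatible multiplications; existence of an isomorphism only. The
compatibility of the multiplication maps O_X(nd) ⊗ O_X(md) → O_X(nd+md) on this open, and the
converse statement that the largest such open is the union of the D_+(ab), are not stated here.) -/
theorem result {R A : Type u} [CommRing R] [CommRing A] [Algebra R A] (𝒜 : ℕ → Submodule R A) [GradedAlgebra 𝒜]
    {d : ℕ} (hd : 0 < d) {i j : ℕ} {a b : A} (ha : a ∈ 𝒜 i) (hb : b ∈ 𝒜 j) (hij : i = j + d) (n : ℤ) :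
    Nonempty ((Twist.twist 𝒜 (n * d)).restrict (Proj.basicOpen 𝒜 (a * b)).ι ≅
      Coh.structureModule ↑(Proj.basicOpen 𝒜 (a * b))) := by
    have hP : a ^ n.toNat * b ^ (-n).toNat ∈ 𝒜 (n.toNat • i + (-n).toNat • j) :=
      SetLike.mul_mem_graded (SetLike.pow_mem_graded _ ha) (SetLike.pow_mem_graded _ hb)
    have hQ : b ^ n.toNat * a ^ (-n).toNat ∈ 𝒜 (n.toNat • j + (-n).toNat • i) :=
      SetLike.mul_mem_graded (SetLike.pow_mem_graded _ hb) (SetLike.pow_mem_graded _ ha)
    have hd' : ((n.toNat • i + (-n).toNat • j : ℕ) : ℤ) = (n.toNat • j + (-n).toNat • i : ℕ) + n * d := by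
      simp only [smul_eq_mul, hij]
      push_cast
      linear_combination (d : ℤ) * Int.toNat_sub_toNat_neg n
    have hnin : ∀ (p q : ℕ) (y : Proj.basicOpen 𝒜 (a * b)), a ^ p * b ^ q ∉ y.1.asHomogeneousIdeal := fun p q y hm => by
      obtain ⟨h1, h2⟩ := GrothLib.GrTilde.mem_basicOpen_mul.mp y.2
      rcases y.1.isPrime.mem_or_mem hm with h | h
      · exact h1 (y.1.isPrime.mem_of_pow_mem _ h)
      · exact h2 (y.1.isPrime.mem_of_pow_mem _ h)
    exact GrothLib.InvExt.exists_iso_of_gen (GrothLib.GrTilde.isGen_fracT hP hQ (fun y => hnin _ _ y)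
      (fun y h => hnin (-n).toNat n.toNat y (mul_comm (b ^ n.toNat) (a ^ (-n).toNat) ▸ h)) hd')

end Groth.Agent.S9575
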