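import Groth.Statements.S9576
import Groth.Agent.Lib.Ample.ProjMap

set_option autoImplicit false
set_option linter.all false
set_option backward.isDefEq.respectTransparency false
universe u
open CategoryTheory CategoryTheory.Limits AlgebraicGeometry TopologicalSpace Opposite
open Constr

namespace Groth.Agent.S9576

/-- For a ring R and n ≥ 0, projective n-space Proj R[T_0, …, T_n] is covered by the n + 1 standard
opens D_+(T_i), and each D_+(T_i) = Spec R[T_0, …, T_n]_(T_i) is an affine n-space: the ring
homomorphism from the polynomial ring over R in the variables T_j, j ≠ i, to the degree-zero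
localization R[T_0, …, T_n]_(T_i), sending T_j to T_j/T_i and a constant r to r/1, is bijective.
(The published statement is over ℤ; this row is over any ring R.) -/
theorem result (n : ℕ) (R : Type u) [CommRing R] :
    (⨆ i : Fin (n + 1), Proj.basicOpen (CohB1.polyGrading n R) (MvPolynomial.X i)) = ⊤ ∧
      ∀ i : Fin (n + 1), Function.Bijective
        (MvPolynomial.eval₂Hom
          ((HomogeneousLocalization.fromZeroRingHom (CohB1.polyGrading n R) (Submonoid.powers (MvPolynomial.X i))).comp
            (algebraMap R (CohB1.polyGrading n R 0)))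
          (fun j : {j : Fin (n + 1) // j ≠ i} =>
            (HomogeneousLocalization.mk ⟨1, ⟨MvPolynomial.X j.1, MvPolynomial.isHomogeneous_X R j.1⟩,
              ⟨MvPolynomial.X i, MvPolynomial.isHomogeneous_X R i⟩, ⟨1, pow_one _⟩⟩ :
              HomogeneousLocalization.Away (CohB1.polyGrading n R) (MvPolynomial.X i)))) := by
  refine ⟨GrothLib.Ample.ProjMap.iSup_basicOpen_X n R, fun i => ?_⟩
  have hr : ∀ k : Fin (n + 1), (HomogeneousLocalization.mk ⟨1, ⟨MvPolynomial.X k,
      MvPolynomial.isHomogeneous_X R k⟩, ⟨MvPolynomial.X i, MvPolynomial.isHomogeneous_X R i⟩,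
      ⟨1, pow_one _⟩⟩ : HomogeneousLocalization.Away (CohB1.polyGrading n R) (MvPolynomial.X i)) =
      GrothLib.Ample.ProjMap.ratio i k := fun k => by
    apply HomogeneousLocalization.val_injective
    rw [HomogeneousLocalization.val_mk, GrothLib.Ample.ProjMap.ratio,
      HomogeneousLocalization.Away.val_mk]
    exact Localization.mk_eq_mk_iff.2 (Localization.r_of_eq (by simp))
  simp only [hr]
  have hc : (HomogeneousLocalization.fromZeroRingHom (CohB1.polyGrading n R)
      (Submonoid.powers (MvPolynomial.X i))).comp (algebraMap R (CohB1.polyGrading n R 0)) =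
      GrothLib.Ample.ProjMap.cst (MvPolynomial.X i) := rfl
  rw [hc]
  classical
  let f : MvPolynomial (Fin (n + 1)) R →+* MvPolynomial {j : Fin (n + 1) // j ≠ i} R :=
    MvPolynomial.eval₂Hom MvPolynomial.C (fun l => if h : l = i then 1 else MvPolynomial.X ⟨l, h⟩)
  have hu : IsUnit (f (MvPolynomial.X i)) := by simp [f]
  let ev := GrothLib.ProjPt.evalAway (CohB1.polyGrading n R) f (MvPolynomial.X i) hu
  let E := MvPolynomial.eval₂Hom (GrothLib.Ample.ProjMap.cst (R := R) (MvPolynomial.X i))
    (fun j : {j : Fin (n + 1) // j ≠ i} => GrothLib.Ample.ProjMap.ratio i j.1)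
  have hid : ev.comp E = RingHom.id _ := by
    refine MvPolynomial.ringHom_ext (fun r => ?_) fun l => ?_
    · simp only [RingHom.comp_apply, MvPolynomial.eval₂Hom_C, RingHom.id_apply, ev, E]
      rw [GrothLib.Ample.ProjMap.evalAway_cst]
      simp [f]
    · simp only [RingHom.comp_apply, MvPolynomial.eval₂Hom_X', RingHom.id_apply, ev, E]
      have h := GrothLib.Ample.ProjMap.evalAway_ratio f i l.1 hu
      simpa [f, l.2] using h
  have hE : E.comp f = MvPolynomial.eval₂Hom (GrothLib.Ample.ProjMap.cst (R := R) (MvPolynomial.X i))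
      (GrothLib.Ample.ProjMap.ratio i) := by
    refine MvPolynomial.ringHom_ext (fun r => by simp [E, f]) fun l => ?_
    by_cases h : l = i
    · subst h
      have : GrothLib.Ample.ProjMap.ratio (R := R) l l = 1 := by
        apply HomogeneousLocalization.val_injective
        rw [GrothLib.Ample.ProjMap.ratio, HomogeneousLocalization.Away.val_mk,
          HomogeneousLocalization.val_one, ← Localization.mk_one]
        exact Localization.mk_eq_mk_iff.2 (Localization.r_of_eq (by simp))
      simp [f, this]
    · simp [E, f, h]
  refine ⟨fun a b hab => ?_, fun z => ?_⟩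
  · have h := congrArg ev (show E a = E b from hab)
    rwa [← RingHom.comp_apply, ← RingHom.comp_apply, hid] at h
  · obtain ⟨a, rfl⟩ := GrothLib.Ample.ProjMap.exists_eval_ratio i z
    exact ⟨f a, RingHom.congr_fun hE a⟩

end Groth.Agent.S9576
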