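import Groth.Statements.S9577
import Groth.Agent.Lib.VerTilde10.Main

set_option autoImplicit false
set_option linter.all false
set_option backward.isDefEq.respectTransparency false
universe u
open CategoryTheory CategoryTheory.Limits AlgebraicGeometry TopologicalSpace Opposite
open Constr

namespace Groth.Agent.S9577

/-- Let S be a graded ring, d ≥ 1, and S' = S^{(d)} the graded ring with S'_n = S_{nd} (here: a graded
ring S' with an injective algebra homomorphism φ : S' → S carrying S'_n onto S_{nd} for every n).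
Let i : Proj S ≅ Proj S' be the canonical isomorphism, i.e. any isomorphism which over each standard
open D_+(g), g ∈ S'_n with n > 0, is induced by the ring isomorphism S'_(g) ≅ S_(φ g), b/g^k ↦
φ(b)/φ(g)^k. Then for every integer n the twisting sheaf O_{Proj S}(nd) is isomorphic to the inverse
image i^*O_{Proj S'}(n). (Existence of an isomorphism only; the canonical one is moreover compatible
with the multiplication maps, which is not stated here.) -/
theorem result {R A : Type u} [CommRing R] [CommRing A] [Algebra R A] (𝒜 : ℕ → Submodule R A) [GradedAlgebra 𝒜]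
    {B : Type u} [CommRing B] [Algebra R B] (ℬ : ℕ → Submodule R B) [GradedAlgebra ℬ]
    (d : ℕ) (hd : 0 < d) (φ : B →ₐ[R] A) (hφ : Function.Injective φ)
    (hdeg : ∀ n : ℕ, Submodule.map φ.toLinearMap (ℬ n) = 𝒜 (n * d))
    (e : Proj 𝒜 ≅ Proj ℬ)
    (he : ∀ (n : ℕ) (g : B) (hn : 0 < n) (hg : g ∈ ℬ n)
        (θ : CommRingCat.of (HomogeneousLocalization.Away ℬ g) ⟶ CommRingCat.of (HomogeneousLocalization.Away 𝒜 (φ g))),
        (algebraMap (HomogeneousLocalization.Away 𝒜 (φ g)) (Localization.Away (φ g))).comp θ.hom =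
          (Localization.awayMap φ.toRingHom g).comp
            (algebraMap (HomogeneousLocalization.Away ℬ g) (Localization.Away g)) →
        Proj.awayι 𝒜 (φ g) ((hdeg n).le (Submodule.mem_map_of_mem hg)) (Nat.mul_pos hn hd) ≫ e.hom =
          Spec.map θ ≫ Proj.awayι ℬ g hg hn)
    (n : ℤ) :
    Nonempty (Twist.twist 𝒜 (n * d) ≅ (Scheme.Modules.pullback e.hom).obj (Twist.twist ℬ n)) := by
  let v : B →ₛₗ[φ.toRingHom] A :=
    { toFun := φ
      map_add' := map_add φ
      map_smul' := fun r x => by simp }
  have hvdeg : ∀ m : ℕ, (ℬ m : Set B).image v = (𝒜 (m * d) : Set A) := fun m => by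
    rw [← hdeg m]; rfl
  exact GrothLib.VerTilde10.nonempty_iso (ℳ := 𝒜) (𝒩 := ℬ) ⟨hd, hφ, hdeg, he⟩ v hvdeg hφ rfl

end Groth.Agent.S9577
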