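import Groth.Statements.S9578
import Groth.Agent.Lib.TensorRestr10.Main

set_option autoImplicit false
set_option linter.all false
set_option backward.isDefEq.respectTransparency false
universe u
open CategoryTheory CategoryTheory.Limits AlgebraicGeometry TopologicalSpace Opposite
open Constr

namespace Groth.Agent.S9578

/-- Let S be a graded ring, M a graded S-module (graded in non-negative degrees here), X = Proj S and d
≥ 1; let W_d ⊆ X be the union of the standard opens D_+(ab) over the pairs of homogeneous elements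
a, b with deg a = deg b + d (the open over which the twisting sheaves O_X(nd) are invertible with
compatible multiplications). Then for every integer n the restrictions to W_d of M~(nd) = M~ ⊗
O_X(nd) and of M(nd)~, the module attached to the shifted module, are isomorphic. (Existence of an
isomorphism only; in the published statement it is the canonical multiplication map M~ ⊗ O_X(nd) →
M(nd)~ that restricts to an isomorphism over W_d. That W_d is the largest open over which the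
O_X(nd) are invertible with compatible multiplications is not stated here.) -/
theorem result {R A : Type u} [CommRing R] [CommRing A] [Algebra R A] (𝒜 : ℕ → Submodule R A) [GradedAlgebra 𝒜]
    {M : Type u} [AddCommGroup M] [Module R M] [Module A M] [IsScalarTower R A M] (ℳ : ℕ → Submodule R M)
    [DirectSum.Decomposition ℳ] [SetLike.GradedSMul 𝒜 ℳ]
    {d : ℕ} (hd : 0 < d) (n : ℤ) :
    Nonempty ((Twist.twistBy 𝒜 (GrTilde.tilde 𝒜 ℳ 0) (n * d)).restrict
        (⨆ (j : ℕ) (a : 𝒜 (j + d)) (b : 𝒜 j), Proj.basicOpen 𝒜 ((a : A) * b)).ι ≅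
      (GrTilde.tilde 𝒜 ℳ (n * d)).restrict
        (⨆ (j : ℕ) (a : 𝒜 (j + d)) (b : 𝒜 j), Proj.basicOpen 𝒜 ((a : A) * b)).ι) := by
  let k : ℤ := n * d
  have hk : (0 : ℤ) + k = k := zero_add k
  let W : (Proj 𝒜).Opens := ⨆ (j : ℕ) (a : 𝒜 (j + d)) (b : 𝒜 j), Proj.basicOpen 𝒜 ((a : A) * b)
  let g : (show (Proj 𝒜).PresheafOfModules from CohB1.tensorPre (GrTilde.tilde 𝒜 ℳ 0) (Twist.twist 𝒜 k)) ⟶
      (PresheafOfModules.restrictScalars (𝟙 (Proj 𝒜).ringCatSheaf.obj)).obj (GrTilde.tilde 𝒜 ℳ k).val :=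
    GrothLib.GrTilde.mulPre 𝒜 ℳ hk
  have hiso : IsIso ((Scheme.Modules.restrictFunctor W.ι).map (GrothLib.TensorRestr10.desc g)) := by
    refine GrothLib.TensorRestr10.isIso_restrict_desc g W fun p hp => ?_
    obtain ⟨j, hp⟩ := Opens.mem_iSup.mp hp
    obtain ⟨a, hp⟩ := Opens.mem_iSup.mp hp
    obtain ⟨b, hp⟩ := Opens.mem_iSup.mp hp
    have hP : (a : A) ^ n.toNat * (b : A) ^ (-n).toNat ∈ 𝒜 (n.toNat • (j + d) + (-n).toNat • j) :=
      SetLike.mul_mem_graded (SetLike.pow_mem_graded _ a.2) (SetLike.pow_mem_graded _ b.2)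
    have hQ : (b : A) ^ n.toNat * (a : A) ^ (-n).toNat ∈ 𝒜 (n.toNat • j + (-n).toNat • (j + d)) :=
      SetLike.mul_mem_graded (SetLike.pow_mem_graded _ b.2) (SetLike.pow_mem_graded _ a.2)
    have hd' : ((n.toNat • (j + d) + (-n).toNat • j : ℕ) : ℤ) =
        (n.toNat • j + (-n).toNat • (j + d) : ℕ) + k := by
      simp only [smul_eq_mul, k]
      push_cast
      linear_combination (d : ℤ) * Int.toNat_sub_toNat_neg n
    obtain ⟨hpa, hpb⟩ := GrothLib.GrTilde.mem_basicOpen_mul.mp hp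
    refine ⟨Proj.basicOpen 𝒜 ((a : A) * b), hp, fun V hV => ?_⟩
    have nin : ∀ (s t : ℕ) (y : V), (a : A) ^ s * (b : A) ^ t ∉ y.1.asHomogeneousIdeal := fun s t y hm => by
      obtain ⟨h1, h2⟩ := GrothLib.GrTilde.mem_basicOpen_mul.mp (hV y.2)
      rcases y.1.isPrime.mem_or_mem hm with h | h
      · exact h1 (y.1.isPrime.mem_of_pow_mem _ h)
      · exact h2 (y.1.isPrime.mem_of_pow_mem _ h)
    have ninQ : ∀ y : V, (b : A) ^ n.toNat * (a : A) ^ (-n).toNat ∉ y.1.asHomogeneousIdeal := fun y h =>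
      nin (-n).toNat n.toNat y (mul_comm ((b : A) ^ n.toNat) ((a : A) ^ (-n).toNat) ▸ h)
    have ninP : ∀ y : V, (a : A) ^ n.toNat * (b : A) ^ (-n).toNat ∉ y.1.asHomogeneousIdeal := nin _ _
    let e : Γ(Twist.twist 𝒜 k, V) := GrothLib.GrTilde.fracT _ _ hP hQ ninQ hd'
    have he : GrothLib.InvExt.IsGen (Twist.twist 𝒜 k) V e := GrothLib.GrTilde.isGen_fracT hP hQ ninP ninQ hd'
    have hbij := GrothLib.GrTilde.bijective_mulSect (ℳ := ℳ) hk hP hQ ninP ninQ hd'
    have hspan : ∀ z : TensorProduct Γ(Proj 𝒜, V) Γ(GrTilde.tilde 𝒜 ℳ 0, V) Γ(Twist.twist 𝒜 k, V),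
        ∃ μ, z = μ ⊗ₜ[Γ(Proj 𝒜, V)] e := by
      intro z
      induction z with
      | zero => exact ⟨0, (TensorProduct.zero_tmul _ _).symm⟩
      | tmul μ t =>
        obtain ⟨r, hr⟩ := (he V le_rfl).2 t
        simp only [GrothLib.InvExt.mres_self] at hr
        refine ⟨r • μ, ?_⟩
        rw [TensorProduct.smul_tmul, hr]
      | add z w hz hw =>
        obtain ⟨r, hr⟩ := hz
        obtain ⟨s, hs⟩ := hw
        exact ⟨r + s, by rw [hr, hs, TensorProduct.add_tmul]⟩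
    have hmap : ∀ μ, (show Γ(GrTilde.tilde 𝒜 ℳ k, V) from
        ((GrothLib.GrTilde.mulPre 𝒜 ℳ hk).app (op V)).hom (μ ⊗ₜ[Γ(Proj 𝒜, V)] e)) =
          GrothLib.GrTilde.mulSect hk μ e := fun μ => rfl
    constructor
    · intro (z : TensorProduct Γ(Proj 𝒜, V) Γ(GrTilde.tilde 𝒜 ℳ 0, V) Γ(Twist.twist 𝒜 k, V))
        (w : TensorProduct Γ(Proj 𝒜, V) Γ(GrTilde.tilde 𝒜 ℳ 0, V) Γ(Twist.twist 𝒜 k, V)) hzw
      obtain ⟨μ, rfl⟩ := hspan z
      obtain ⟨ν, rfl⟩ := hspan w
      rw [hbij.1 ((hmap μ).symm.trans (hzw.trans (hmap ν)))]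
    · intro (t : Γ(GrTilde.tilde 𝒜 ℳ k, V))
      obtain ⟨μ, hμ⟩ := hbij.2 t
      exact ⟨μ ⊗ₜ[Γ(Proj 𝒜, V)] e, (hmap μ).trans hμ⟩
  exact ⟨@asIso _ _ _ _ _ hiso⟩

end Groth.Agent.S9578
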