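import Groth.Statements.S9580
import Groth.Agent.Lib.GrTilde.Mul

set_option autoImplicit false
universe u
open CategoryTheory CategoryTheory.Limits AlgebraicGeometry TopologicalSpace Opposite
open Constr

namespace Groth.Agent.S9580

/-- Let S be a graded ring, X = Proj S and Y ⊆ X a quasi-compact open subscheme. Then there is an
integer d ≥ 1 such that Y is contained in the open W_d, the union of the standard opens D_+(ab) over
homogeneous a, b with deg a = deg b + d, and such that the restriction O_Y(nd) of O_X(nd) to Y is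
invertible for every integer n. (The remaining assertions — the multiplication maps among the
O_Y(nd) and M~(nd) are isomorphisms, D_+(f) ∩ Y = Y_s, and the loci Y_s form a basis — are not
stated here.) -/
theorem result {R A : Type u} [CommRing R] [CommRing A] [Algebra R A] (𝒜 : ℕ → Submodule R A) [GradedAlgebra 𝒜]
    (Y : (Proj 𝒜).Opens) (hY : IsCompact (Y : Set (Proj 𝒜))) :
    ∃ d : ℕ, 0 < d ∧
      (∀ y : Proj 𝒜, y ∈ Y → ∃ (i j : ℕ) (a b : A), a ∈ 𝒜 i ∧ b ∈ 𝒜 j ∧ i = j + d ∧ y ∈ Proj.basicOpen 𝒜 (a * b)) ∧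
      ∀ n : ℤ, PicF.IsInvertible ((Twist.twist 𝒜 (n * d)).restrict Y.ι) := by
    have hloc : ∀ y : Proj 𝒜, ∃ (e : ℕ) (f : A), 0 < e ∧ f ∈ 𝒜 e ∧ f ∉ y.asHomogeneousIdeal := by
      intro y
      by_contra hc
      push Not at hc
      refine y.not_irrelevant_le ?_
      rw [HomogeneousIdeal.irrelevant_le]
      intro e he f hf
      exact hc e f he hf
    choose e f he hf hfy using hloc
    obtain ⟨t, ht⟩ := hY.elim_finite_subcover (fun y => (Proj.basicOpen 𝒜 (f y) : Set (Proj 𝒜)))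
      (fun y => (Proj.basicOpen 𝒜 (f y)).2) fun y _ => Set.mem_iUnion.mpr ⟨y, hfy y⟩
    refine ⟨∏ y ∈ t, e y, Finset.prod_pos fun y _ => he y, fun y hy => ?_, fun n => ?_⟩
    · obtain ⟨z, hz, hyz⟩ := Set.mem_iUnion₂.mp (ht hy)
      obtain ⟨r, hr⟩ := Finset.dvd_prod_of_mem e hz
      refine ⟨_, 0, f z ^ r, 1, SetLike.pow_mem_graded r (hf z), SetLike.GradedOne.one_mem, by
        rw [smul_eq_mul, zero_add, hr, mul_comm], ?_⟩
      show f z ^ r * 1 ∉ y.asHomogeneousIdeal
      rw [mul_one]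
      exact fun hm => hyz (y.isPrime.mem_of_pow_mem _ hm)
    · refine GrothLib.InvExt.isInvertible_of_gens fun y => ?_
      obtain ⟨z, hz, hyz⟩ := Set.mem_iUnion₂.mp (ht y.2)
      obtain ⟨r, hr⟩ := Finset.dvd_prod_of_mem e hz
      obtain ⟨g, hg⟩ := GrothLib.GrTilde.exists_gen_twist (hf z) (n * r)
      have h : ∃ g', GrothLib.InvExt.IsGen (Twist.twist 𝒜 (n * (∏ y ∈ t, e y : ℕ)))
          (Proj.basicOpen 𝒜 (f z)) g' := by
        rw [show (n * (∏ y ∈ t, e y : ℕ) : ℤ) = n * r * e z by rw [hr]; push_cast; ring]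
        exact ⟨g, hg⟩
      obtain ⟨g', hg'⟩ := h
      have hle : Y.ι ''ᵁ (Y.ι ⁻¹ᵁ Proj.basicOpen 𝒜 (f z)) ≤ Proj.basicOpen 𝒜 (f z) := by
        rw [Y.ι.image_preimage_eq_opensRange_inf]
        exact inf_le_right
      exact ⟨Y.ι ⁻¹ᵁ Proj.basicOpen 𝒜 (f z), _, hyz, GrothLib.InvExt.isGen_restrict _ _ (hg'.restrict hle)⟩

end Groth.Agent.S9580
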