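import Groth.Statements.S9582
import Mathlib.RingTheory.Ideal.MinimalPrime.Basic
import Mathlib.Tactic.Ring

set_option autoImplicit false
universe u
open CAlg

namespace Groth.Agent.S9582

/-- An element of a minimal prime over `I` is killed into `I` up to powers and an element outside. -/
theorem exists_mul_pow_mem {R : Type*} [CommRing R] {I p : Ideal R} (hp : p ∈ I.minimalPrimes)
    {g : R} (hg : g ∈ p) : ∃ s ∉ p, ∃ n : ℕ, s * g ^ n ∈ I := by
  haveI := hp.1.1
  let S : Submonoid R := p.primeCompl ⊔ Submonoid.powers g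
  by_cases h0 : ∃ x ∈ S, x ∈ I
  · obtain ⟨x, hx, hxI⟩ := h0
    obtain ⟨s, hs, y, ⟨n, rfl⟩, rfl⟩ := Submonoid.mem_sup.1 hx
    exact ⟨s, hs, n, hxI⟩
  · obtain ⟨q, hq, hIq, hdisj⟩ := Ideal.exists_le_prime_disjoint I S (by
      rw [Set.disjoint_left]
      exact fun x hx hxS => h0 ⟨x, hxS, hx⟩)
    exfalso
    have hle : q ≤ p := fun x hx => by
      by_contra hxp
      exact Set.disjoint_left.1 hdisj hx (Submonoid.mem_sup_left hxp)
    exact Set.disjoint_left.1 hdisj (hp.2 ⟨hq, hIq⟩ hle hg)
      (Submonoid.mem_sup_right (Submonoid.mem_powers g))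


/-- For a reduced ring R, the primes weakly associated to the R-module R (primes minimal over the
annihilator of some element) are exactly the minimal primes of R. -/
theorem result {R : Type u} [CommRing R] [IsReduced R] :
    FlatCA.weakAss R R = minimalPrimes R := by
  ext p
  constructor
  · rintro ⟨m, hp⟩
    have hpp : p.IsPrime := hp.1.1
    have hann : ∀ r, r ∈ (Submodule.span R {m}).annihilator ↔ r * m = 0 := fun r =>
      Submodule.mem_annihilator_span_singleton m r
    have hkill : ∀ g ∈ p, ∃ s ∉ p, s * g * m = 0 := by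
      intro g hg
      obtain ⟨s, hs, n, hn⟩ := exists_mul_pow_mem hp hg
      rw [hann] at hn
      refine ⟨s, hs, IsReduced.eq_zero _ ⟨n + 1, ?_⟩⟩
      calc (s * g * m) ^ (n + 1) = (s * g ^ n * m) * (s ^ n * g * m ^ n) := by ring
        _ = 0 := by rw [hn, zero_mul]
    have hm : m ∉ p := by
      intro hm
      obtain ⟨s, hs, hsm⟩ := hkill m hm
      refine hs (hp.1.2 ((hann s).2 (IsReduced.eq_zero _ ⟨2, ?_⟩)))
      calc (s * m) ^ 2 = (s * m * m) * s := by ring
        _ = 0 := by rw [hsm, zero_mul]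
    refine ⟨⟨hpp, bot_le⟩, fun q hq hle g hg => ?_⟩
    obtain ⟨s, hs, hsg⟩ := hkill g hg
    have h1 : g * (s * m) ∈ q := by
      rw [show g * (s * m) = s * g * m by ring, hsg]; exact q.zero_mem
    exact (hq.1.mem_or_mem h1).resolve_right fun h2 => (hpp.mem_or_mem (hle h2)).elim hs hm
  · intro hp
    refine ⟨1, ?_⟩
    have h1 : (Submodule.span R {(1 : R)}).annihilator = ⊥ := by
      ext r
      rw [Submodule.mem_annihilator_span_singleton, smul_eq_mul, mul_one, Submodule.mem_bot]
    rwa [h1]

end Groth.Agent.S9582
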