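import Groth.Statements.S9581
import Mathlib
import Groth.Agent.S9582
-- import your own Groth.Agent.* helpers here

set_option autoImplicit false
universe u
open CAlg

namespace Groth.Agent.S9581

/-- (1) ⇔ (3): for a ring R, an R-module M and a prime p of R, the prime p is weakly associated to M
(minimal among the primes containing the annihilator of some element of M) if and only if the
localization M_p contains an element whose annihilator in R_p has radical equal to the maximal ideal
p R_p. -/
theorem result {R : Type u} [CommRing R] (M : Type u) [AddCommGroup M] [Module R M] (p : Ideal R) [p.IsPrime] :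
    p ∈ FlatCA.weakAss R M ↔ IsAssociatedPrime (IsLocalRing.maximalIdeal (Localization.AtPrime p)) (LocalizedModule p.primeCompl M) := by
  set Rp := Localization.AtPrime p
  set Mp := LocalizedModule p.primeCompl M
  have key : ∀ (m : M) (a : R) (u s : p.primeCompl),
      Localization.mk a u ∈ ((⊥ : Submodule Rp Mp).colon {LocalizedModule.mk m s}) ↔
        ∃ v ∈ p.primeCompl, (v * a) • m = 0 := by
    intro m a u s
    rw [Submodule.mem_colon_singleton, Submodule.mem_bot, LocalizedModule.mk_smul_mk,
      ← LocalizedModule.zero_mk 1, LocalizedModule.mk_eq]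
    constructor
    · rintro ⟨c, hc⟩
      refine ⟨c, c.2, ?_⟩
      simp only [one_smul, smul_zero, Submonoid.smul_def] at hc
      rw [mul_smul]; exact hc
    · rintro ⟨v, hv, h⟩
      refine ⟨⟨v, hv⟩, ?_⟩
      simp only [one_smul, smul_zero, Submonoid.smul_def]
      rw [← mul_smul]; exact h
  have hmk : ∀ (a : R) (u : p.primeCompl),
      Localization.mk a u ∈ IsLocalRing.maximalIdeal Rp ↔ a ∈ p := by
    intro a u
    rw [Localization.mk_eq_mk', IsLocalization.AtPrime.mk'_mem_maximal_iff Rp p]
  constructor
  · rintro ⟨m, hm⟩
    refine ⟨Ideal.IsMaximal.isPrime inferInstance, LocalizedModule.mk m 1, ?_⟩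
    ext z
    induction z using Localization.induction_on with
    | H y =>
      obtain ⟨a, u⟩ := y
      rw [hmk]
      constructor
      · intro ha
        obtain ⟨s, hs, n, hn⟩ := S9582.exists_mul_pow_mem hm ha
        rw [Submodule.mem_annihilator_span_singleton] at hn
        refine ⟨n, ?_⟩
        rw [Localization.mk_pow, key]
        exact ⟨s, hs, hn⟩
      · rintro ⟨n, hn⟩
        rw [Localization.mk_pow, key] at hn
        obtain ⟨v, hv, hva⟩ := hn
        have h1 : v * a ^ n ∈ p := hm.1.2 ((Submodule.mem_annihilator_span_singleton _ _).2 hva)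
        exact hm.1.1.mem_of_pow_mem n ((hm.1.1.mem_or_mem h1).resolve_left hv)
  · rintro ⟨-, x, hx⟩
    induction x using LocalizedModule.induction_on with
    | h m s =>
      refine ⟨m, ⟨inferInstance, ?_⟩, ?_⟩
      · intro r hr
        rw [Submodule.mem_annihilator_span_singleton] at hr
        have h1 : Localization.mk r 1 ∈ IsLocalRing.maximalIdeal Rp := by
          rw [hx]
          refine Ideal.le_radical ((key m r 1 s).2 ⟨1, Submonoid.one_mem _, ?_⟩)
          rw [one_mul]; exact hr
        exact (hmk r 1).1 h1
      · intro J hJ hJp a ha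
        have h1 : Localization.mk a 1 ∈ IsLocalRing.maximalIdeal Rp := (hmk a 1).2 ha
        rw [hx] at h1
        obtain ⟨n, hn⟩ := h1
        rw [Localization.mk_pow, key] at hn
        obtain ⟨v, hv, hva⟩ := hn
        have h2 : v * a ^ n ∈ J := hJ.2 ((Submodule.mem_annihilator_span_singleton _ _).2 hva)
        have hvJ : v ∉ J := fun h => hv (hJp h)
        exact hJ.1.mem_of_pow_mem n ((hJ.1.mem_or_mem h2).resolve_left hvJ)


end Groth.Agent.S9581
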