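import Groth.Statements.S9583
import Mathlib.RingTheory.Ideal.MinimalPrime.Basic
-- import your own Groth.Agent.* helpers here

set_option autoImplicit false
universe u
open CAlg

namespace Groth.Agent.S9583

/-- For a ring R and a short exact sequence 0 → M' → M → M'' → 0 of R-modules, every prime weakly
associated to M' is weakly associated to M, and every prime weakly associated to M is weakly
associated to M' or to M''. -/
theorem result {R : Type u} [CommRing R] {M' M M'' : Type u} [AddCommGroup M'] [Module R M'] [AddCommGroup M] [Module R M] [AddCommGroup M''] [Module R M''] (f : M' →ₗ[R] M) (g : M →ₗ[R] M'') (hf : Function.Injective f) (hg : Function.Surjective g) (hfg : Function.Exact f g) :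
    FlatCA.weakAss R M' ⊆ FlatCA.weakAss R M ∧ FlatCA.weakAss R M ⊆ FlatCA.weakAss R M' ∪ FlatCA.weakAss R M'' := by
  have hann : ∀ (r : R) (x : M'), r • f x = 0 ↔ r • x = 0 := fun r x => by
    rw [← map_smul]; exact map_eq_zero_iff f hf
  constructor
  · rintro q ⟨x, hq⟩
    refine ⟨f x, ?_⟩
    rwa [show (Submodule.span R {f x}).annihilator = (Submodule.span R {x}).annihilator from
      Ideal.ext fun r => by simp [Submodule.mem_annihilator_span_singleton, hann]]
  · rintro q ⟨m, hq⟩
    by_cases hle : (Submodule.span R {g m}).annihilator ≤ q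
    · refine Or.inr ⟨g m, ⟨hq.1.1, hle⟩, fun J hJ hJq => hq.2 ⟨hJ.1, ?_⟩ hJq⟩
      intro r hr
      refine hJ.2 ?_
      rw [Submodule.mem_annihilator_span_singleton] at hr ⊢
      rw [← map_smul, hr, map_zero]
    · obtain ⟨r, hr, hrq⟩ := SetLike.not_le_iff_exists.1 hle
      rw [Submodule.mem_annihilator_span_singleton, ← map_smul] at hr
      obtain ⟨x, hx⟩ := (hfg _).1 hr
      have hmem : ∀ a, a ∈ (Submodule.span R {x}).annihilator ↔ a * r ∈ (Submodule.span R {m}).annihilator :=
        fun a => by
          rw [Submodule.mem_annihilator_span_singleton, Submodule.mem_annihilator_span_singleton, mul_smul, ← hx,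
            hann]
      refine Or.inl ⟨x, ⟨hq.1.1, fun a ha => ?_⟩, fun J hJ hJq => hq.2 ⟨hJ.1, fun a ha => ?_⟩ hJq⟩
      · exact (hq.1.1.mem_or_mem (hq.1.2 ((hmem a).1 ha))).resolve_right hrq
      · exact hJ.2 ((hmem a).2 (Ideal.mul_mem_right _ _ ha))

end Groth.Agent.S9583
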