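import Groth.Statements.S9584
import Mathlib.RingTheory.Ideal.MinimalPrime.Basic

set_option autoImplicit false
universe u
open CAlg

namespace Groth.Agent.S9584

/-- For a ring R and an R-module M, M has no weakly associated prime (no prime minimal over the
annihilator of an element) if and only if M = 0. -/
theorem result {R : Type u} [CommRing R] (M : Type u) [AddCommGroup M] [Module R M] :
    FlatCA.weakAss R M = ∅ ↔ Subsingleton M := by
  constructor
  · intro h
    refine ⟨fun a b => ?_⟩
    suffices ∀ m : M, m = 0 from (this a).trans (this b).symm
    intro m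
    by_contra hm
    have hne : (Submodule.span R {m}).annihilator ≠ ⊤ := by
      rw [Ne, Submodule.annihilator_eq_top_iff, Submodule.span_singleton_eq_bot]
      exact hm
    obtain ⟨p, hp⟩ := Ideal.nonempty_minimalPrimes hne
    exact (Set.eq_empty_iff_forall_notMem.1 h p) ⟨m, hp⟩
  · intro h
    refine Set.eq_empty_iff_forall_notMem.2 ?_
    rintro p ⟨m, hp⟩
    have : (Submodule.span R {m}).annihilator = ⊤ := by
      rw [Submodule.annihilator_eq_top_iff, Submodule.span_singleton_eq_bot]
      exact Subsingleton.elim _ _
    exact hp.1.1.ne_top (top_le_iff.1 (this ▸ hp.1.2))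

end Groth.Agent.S9584
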