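import Groth.Statements.S9586
import Mathlib.RingTheory.Ideal.MinimalPrime.Localization
import Mathlib.RingTheory.Finiteness.Ideal

set_option autoImplicit false
universe u
open CAlg

namespace Groth.Agent.S9586

/-- For a ring R, an R-module M and a finitely generated prime ideal p of R, p is associated to M (equal
to the annihilator of an element) if and only if p is weakly associated to M (minimal over the
annihilator of an element). -/
theorem result {R : Type u} [CommRing R] (M : Type u) [AddCommGroup M] [Module R M] (p : Ideal R) [p.IsPrime] (hp : p.FG) :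
    p ∈ FlatCA.ass R M ↔ p ∈ FlatCA.weakAss R M := by
  classical
  constructor
  · rintro ⟨-, m, rfl⟩
    exact ⟨m, ⟨⟨‹_›, le_rfl⟩, fun q hq _ => hq.2⟩⟩
  · rintro ⟨m, hmin⟩
    refine ⟨‹_›, ?_⟩
    have hann : ∀ r, r ∈ (Submodule.span R {m}).annihilator ↔ r • m = 0 := fun r =>
      Submodule.mem_annihilator_span_singleton _ _
    -- elements killing `m` up to a unit at `p`
    let J : Ideal R :=
      { carrier := {r | ∃ s, s ∉ p ∧ s • r • m = 0}
        zero_mem' := ⟨1, (Ideal.ne_top_iff_one p).1 (Ideal.IsPrime.ne_top ‹_›), by simp⟩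
        add_mem' := by
          rintro a b ⟨s, hs, ha⟩ ⟨t, ht, hb⟩
          refine ⟨s * t, fun h => (Ideal.IsPrime.mem_or_mem ‹_› h).elim hs ht, ?_⟩
          rw [add_smul, smul_add, mul_comm s t, mul_smul, ha, smul_zero, zero_add, mul_comm t s,
            mul_smul, hb, smul_zero]
        smul_mem' := by
          rintro c a ⟨s, hs, ha⟩
          exact ⟨s, hs, by rw [smul_eq_mul, mul_smul, smul_comm, ha, smul_zero]⟩ }
    have hJ : p ≤ J.radical := by
      intro g hg
      by_contra hcon
      have hdisj : Disjoint ((Submodule.span R {m}).annihilator : Set R)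
          (p.primeCompl ⊔ Submonoid.powers g : Submonoid R) := by
        rw [Set.disjoint_left]
        intro r hr hr'
        obtain ⟨s, hs, t, ⟨n, rfl⟩, rfl⟩ := Submonoid.mem_sup.1 hr'
        exact hcon ⟨n, s, hs, by rw [← mul_smul]; exact (hann _).1 hr⟩
      obtain ⟨q, hq, hqle, hqd⟩ := Ideal.exists_le_prime_disjoint _ _ hdisj
      have hqp : q ≤ p := fun r hr => by
        by_contra h
        exact Set.disjoint_left.1 hqd hr (Submonoid.mem_sup_left h)
      exact Set.disjoint_left.1 hqd ((hmin.2 ⟨hq, hqle⟩ hqp) hg)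
        (Submonoid.mem_sup_right (Submonoid.mem_powers g))
    obtain ⟨k, hk⟩ := Ideal.exists_pow_le_of_le_radical_of_fg hJ hp
    have hex : ∃ k, p ^ k ≤ J := ⟨k, hk⟩
    have hk0 : Nat.find hex ≠ 0 := fun h => by
      have h1 := Nat.find_spec hex
      rw [h, pow_zero, Ideal.one_eq_top] at h1
      obtain ⟨s, hs, hs'⟩ := h1 (Submodule.mem_top : (1 : R) ∈ ⊤)
      rw [one_smul] at hs'
      exact hs (hmin.1.2 ((hann s).2 hs'))
    obtain ⟨k', hk'⟩ := Nat.exists_eq_succ_of_ne_zero hk0
    obtain ⟨a, ha, haJ⟩ := SetLike.not_le_iff_exists.1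
      (Nat.find_min hex (show k' < Nat.find hex by omega))
    obtain ⟨G, hG⟩ := hp
    have hgen : ∀ g ∈ G, ∃ s, s ∉ p ∧ s • (g * a) • m = 0 := fun g hg => by
      have hgp : g ∈ p := hG ▸ Ideal.subset_span hg
      have := Nat.find_spec hex
      rw [hk', pow_succ'] at this
      exact this (Ideal.mul_mem_mul hgp ha)
    choose! s hs hsg using hgen
    let t := ∏ g ∈ G, s g
    have ht : t ∉ p := fun h => by
      obtain ⟨g, hg, hg'⟩ := (Ideal.IsPrime.prod_mem_iff).1 h
      exact hs g hg hg'
    refine ⟨(t * a) • m, le_antisymm ?_ ?_⟩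
    · intro r hr
      rw [Submodule.mem_annihilator_span_singleton]
      rw [← hG] at hr
      induction hr using Submodule.span_induction with
      | mem g hg =>
        obtain ⟨u, hu⟩ := Finset.dvd_prod_of_mem s hg
        rw [← mul_smul, show g * (t * a) = u * (s g * (g * a)) by
          simp only [t, hu]; ring, mul_smul, mul_smul, hsg g hg, smul_zero]
      | zero => simp
      | add a b _ _ ha hb => rw [add_smul, ha, hb, add_zero]
      | smul c a _ ha => rw [smul_eq_mul, mul_smul, ha, smul_zero]
    · intro r hr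
      rw [Submodule.mem_annihilator_span_singleton] at hr
      by_contra hrp
      refine haJ ⟨r * t, fun h => (Ideal.IsPrime.mem_or_mem ‹_› h).elim hrp ht, ?_⟩
      rw [← hr, ← mul_smul, ← mul_smul]
      congr 1
      ring

end Groth.Agent.S9586
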