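import Groth.Statements.S9588
import Mathlib.RingTheory.Localization.Ideal
import Mathlib.Algebra.Module.LocalizedModule.IsLocalization

set_option autoImplicit false
universe u
open CAlg

namespace Groth.Agent.S9588

/-- An element of a minimal prime over `I` is killed into `I` up to powers and an element outside. -/
theorem exists_mul_pow_mem {R : Type*} [CommRing R] {I p : Ideal R} (hp : p ∈ I.minimalPrimes)
    {g : R} (hg : g ∈ p) : ∃ s ∉ p, ∃ n : ℕ, s * g ^ n ∈ I := by
  haveI := hp.1.1
  let S : Submonoid R := p.primeCompl ⊔ Submonoid.powers g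
  by_cases h0 : ∃ x ∈ S, x ∈ I
  · obtain ⟨x, hx, hxI⟩ := h0
    obtain ⟨s, hs, y, ⟨n, rfl⟩, rfl⟩ := Submonoid.mem_sup.1 hx
    exact ⟨s, hs, n, hxI⟩
  · obtain ⟨q, hq, hIq, hdisj⟩ := Ideal.exists_le_prime_disjoint I S (by
      rw [Set.disjoint_left]
      exact fun x hx hxS => h0 ⟨x, hxS, hx⟩)
    exfalso
    have hle : q ≤ p := fun x hx => by
      by_contra hxp
      exact Set.disjoint_left.1 hdisj hx (Submonoid.mem_sup_left hxp)
    exact Set.disjoint_left.1 hdisj (hp.2 ⟨hq, hIq⟩ hle hg)
      (Submonoid.mem_sup_right (Submonoid.mem_powers g))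


/-- For a ring R, an R-module M and a multiplicative subset S of R, the primes of R weakly associated to
S⁻¹M regarded as an R-module are exactly the inverse images under R → S⁻¹R of the primes of S⁻¹R
weakly associated to S⁻¹M. -/
theorem result {R : Type u} [CommRing R] (S : Submonoid R) (M : Type u) [AddCommGroup M] [Module R M] :
    FlatCA.weakAss R (LocalizedModule S M) = Ideal.comap (algebraMap R (Localization S)) '' FlatCA.weakAss (Localization S) (LocalizedModule S M) := by
  let A := Localization S
  have hann : ∀ m : LocalizedModule S M, (Submodule.span R {m}).annihilator =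
      Ideal.comap (algebraMap R A) (Submodule.span A {m}).annihilator := by
    intro m
    ext r
    rw [Ideal.mem_comap, Submodule.mem_annihilator_span_singleton,
      Submodule.mem_annihilator_span_singleton, algebraMap_smul]
  ext p
  constructor
  · rintro ⟨m, hp⟩
    rw [hann] at hp
    have hpp : p.IsPrime := hp.1.1
    set J := (Submodule.span A {m}).annihilator
    have hdisj : Disjoint (S : Set R) p := by
      rw [Set.disjoint_left]
      intro s hs hsp
      obtain ⟨u, hu, n, hn⟩ := exists_mul_pow_mem hp hsp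
      apply hu
      apply hp.1.2
      rw [Ideal.mem_comap, map_mul, map_pow] at hn
      exact (Ideal.mul_unit_mem_iff_mem J ((IsLocalization.map_units A ⟨s, hs⟩).pow n)).1 hn
    have hP : (p.map (algebraMap R A)).IsPrime :=
      IsLocalization.isPrime_of_isPrime_disjoint S A p hpp hdisj
    have hcm : (p.map (algebraMap R A)).comap (algebraMap R A) = p :=
      IsLocalization.comap_map_of_isPrime_disjoint S A hpp hdisj
    refine ⟨p.map (algebraMap R A), ⟨m, ⟨hP, ?_⟩, fun Q hQ hle => ?_⟩, hcm⟩
    · exact (IsLocalization.map_comap S A J).ge.trans (Ideal.map_mono hp.1.2)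
    · rw [← IsLocalization.map_comap S A Q]
      refine Ideal.map_mono (hp.2 ⟨hQ.1.comap _, Ideal.comap_mono hQ.2⟩ ?_)
      exact hcm ▸ Ideal.comap_mono hle
  · rintro ⟨P, ⟨m, hP⟩, rfl⟩
    refine ⟨m, ?_⟩
    rw [hann]
    refine ⟨⟨hP.1.1.comap _, Ideal.comap_mono hP.1.2⟩, fun q hq hle => ?_⟩
    have hdisj : Disjoint (S : Set R) q := by
      rw [Set.disjoint_left]
      intro s hs hsq
      exact hP.1.1.ne_top (Ideal.eq_top_of_isUnit_mem _ (hle hsq) (IsLocalization.map_units A ⟨s, hs⟩))
    have hQ := IsLocalization.isPrime_of_isPrime_disjoint S A q hq.1 hdisj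
    rw [← IsLocalization.comap_map_of_isPrime_disjoint S A hq.1 hdisj]
    refine Ideal.comap_mono (hP.2 ⟨hQ, ?_⟩ ?_)
    · rw [← IsLocalization.map_comap S A (Submodule.span A {m}).annihilator]
      exact Ideal.map_mono hq.2
    · rw [← IsLocalization.map_comap S A P]
      exact Ideal.map_mono hle

end Groth.Agent.S9588
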