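import Groth.Statements.S9591
import Mathlib.Algebra.Module.LocalizedModule.Basic

set_option autoImplicit false
universe u
open CAlg

namespace Groth.Agent.S9591

/-- For a ring R and an R-module M, the map from M to the product of the localizations M_p over all
primes p weakly associated to M is injective: an element vanishing in every such M_p is zero. -/
theorem result {R : Type u} [CommRing R] {M : Type u} [AddCommGroup M] [Module R M] (x : M) (hx : ∀ (p : Ideal R) [p.IsPrime], p ∈ FlatCA.weakAss R M → LocalizedModule.mkLinearMap p.primeCompl M x = 0) :
    x = 0 := by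
  by_contra hne
  obtain ⟨p, hp⟩ := Ideal.nonempty_minimalPrimes (I := (Submodule.span R {x}).annihilator)
    (fun htop => hne (by
      have h1 : (1 : R) ∈ (Submodule.span R {x}).annihilator := by rw [htop]; trivial
      rw [Submodule.mem_annihilator_span_singleton, one_smul] at h1
      exact h1))
  haveI := hp.1.1
  obtain ⟨u, hu⟩ := LocalizedModule.mem_ker_mkLinearMap_iff.1
    (LinearMap.mem_ker.2 (hx p ⟨x, hp⟩))
  exact hu.1 (hp.1.2 ((Submodule.mem_annihilator_span_singleton _ _).2 hu.2))

end Groth.Agent.S9591
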