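import Groth.Statements.S9592
import Groth.Agent.Lib.WeakAssField.Basic
import Mathlib.RingTheory.IsTensorProduct

set_option autoImplicit false
universe u
open CAlg

namespace Groth.Agent.S9592

/-- Let K/k be a field extension, R a k-algebra and M an R-module; let R_K = R ⊗_k K (any pushout of k →
K along k → R) and let M_K be the base change of M to R_K. If a prime q of R_K is weakly associated
to M_K, then its inverse image in R is weakly associated to M. -/
theorem result {k K R : Type u} [Field k] [Field K] [Algebra k K] [CommRing R] [Algebra k R] (RK : Type u) [CommRing RK] [Algebra k RK] [Algebra K RK] [Algebra R RK] [IsScalarTower k K RK] [IsScalarTower k R RK] [Algebra.IsPushout k K R RK] (M : Type u) [AddCommGroup M] [Module R M] (MK : Type u) [AddCommGroup MK] [Module RK MK] [Module R MK] [IsScalarTower R RK MK] (f : M →ₗ[R] MK) (hf : IsBaseChange RK f) (q : Ideal RK) [q.IsPrime] (hq : q ∈ FlatCA.weakAss RK MK) :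
    q.comap (algebraMap R RK) ∈ FlatCA.weakAss R M := by
  let e := (Algebra.IsPushout.equiv k K R RK).toRingEquiv
  have hφ : GrothLib.WeakAssField.Good
      ((e : TensorProduct k K R →+* RK).comp (GrothLib.WeakAssField.incl k K R)) :=
    GrothLib.WeakAssField.good_incl.comp (GrothLib.WeakAssField.good_ringEquiv e)
  have he : (e : TensorProduct k K R →+* RK).comp (GrothLib.WeakAssField.incl k K R) = algebraMap R RK := by
    refine RingHom.ext fun r => ?_
    simp [e, Algebra.IsPushout.equiv_tmul]
  rw [he] at hφ
  have hA : (algebraMap R RK).toAlgebra = ‹Algebra R RK› := Algebra.algebra_ext _ _ fun _ => rfl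
  rw [GrothLib.WeakAssField.Good, hA] at hφ
  rw [← GrothLib.WeakAssField.weakAss_congr hf.equiv] at hq
  exact hφ M q hq

end Groth.Agent.S9592
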