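import Groth.Statements.S9597
import Mathlib
-- import your own Groth.Agent.* helpers here

set_option autoImplicit false
universe u
open CAlg

namespace Groth.Agent.S9597

/-- Let R be a Noetherian ring, M a finite R-module whose associated primes are pairwise incomparable
under inclusion (M has no embedded associated primes), and I the annihilator of M. Then the
associated primes of R/I, viewed as a module over itself, are again pairwise incomparable: R/I has
no embedded primes either. -/
theorem result {R : Type u} [CommRing R] [IsNoetherianRing R] (M : Type u) [AddCommGroup M] [Module R M] [Module.Finite R M] (hM : ∀ p ∈ associatedPrimes R M, ∀ q ∈ associatedPrimes R M, p ≤ q → p = q) :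
    ∀ p ∈ associatedPrimes (R ⧸ Module.annihilator R M) (R ⧸ Module.annihilator R M), ∀ q ∈ associatedPrimes (R ⧸ Module.annihilator R M) (R ⧸ Module.annihilator R M), p ≤ q → p = q := by
  intro P hP Q hQ hle
  have key : ∀ P ∈ associatedPrimes (R ⧸ Module.annihilator R M) (R ⧸ Module.annihilator R M),
      P.comap (Ideal.Quotient.mk _) ∈ (Module.annihilator R M).minimalPrimes := by
    intro P hP
    obtain ⟨hprime, x, hx⟩ := hP
    obtain ⟨x, rfl⟩ := Ideal.Quotient.mk_surjective x
    have hxI : x ∉ Module.annihilator R M := fun hxI ↦ hprime.ne_top ((Ideal.eq_top_iff_one _).mpr (by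
      rw [hx]; exact Ideal.le_radical (by simp [Submodule.mem_colon_singleton, Ideal.Quotient.eq_zero_iff_mem.mpr hxI])))
    obtain ⟨m, hm⟩ : ∃ m : M, x • m ≠ 0 := by
      by_contra hc; push Not at hc
      exact hxI (Module.mem_annihilator.mpr hc)
    obtain ⟨P', hP', hle'⟩ := exists_le_isAssociatedPrime_of_isNoetherianRing R (x • m) hm
    have h1 : P.comap (Ideal.Quotient.mk _) ≤ P' := by
      intro r hr
      rw [Ideal.mem_comap, hx] at hr
      obtain ⟨n, hn⟩ := hr
      rw [Submodule.mem_colon_singleton, ← map_pow, smul_eq_mul, ← map_mul, Submodule.mem_bot, Ideal.Quotient.eq_zero_iff_mem] at hn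
      refine hP'.isPrime.mem_of_pow_mem n (hle' ?_)
      rw [Submodule.mem_colon_singleton, Submodule.mem_bot, smul_smul]
      exact Module.mem_annihilator.mp hn m
    have hI : Module.annihilator R M ≤ P.comap (Ideal.Quotient.mk _) := fun r hr ↦ by
      rw [Ideal.mem_comap, Ideal.Quotient.eq_zero_iff_mem.mpr hr]; exact zero_mem _
    haveI := hP'.isPrime
    obtain ⟨q, hq, hq'⟩ := Ideal.exists_minimalPrimes_le (hI.trans h1 : _ ≤ P')
    have hqass := Module.associatedPrimes.minimalPrimes_annihilator_subset_associatedPrimes R M hq
    rw [← hM q hqass P' hP' hq'] at h1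
    rwa [le_antisymm h1 (hq.2 ⟨Ideal.comap_isPrime _ _, hI⟩ h1)]
  have hPp := key P hP
  have hQp := key Q hQ
  apply Ideal.comap_injective_of_surjective _ Ideal.Quotient.mk_surjective
  exact le_antisymm (Ideal.comap_mono hle) (hQp.2 hPp.1 (Ideal.comap_mono hle))

end Groth.Agent.S9597
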