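import Groth.Statements.S9598
import Mathlib.RingTheory.Ideal.AssociatedPrime.Finiteness
import Mathlib.RingTheory.Jacobson.Ring
import Mathlib.RingTheory.KrullDimension.Zero
-- import your own Groth.Agent.* helpers here

set_option autoImplicit false
universe u
open CAlg

namespace Groth.Agent.S9598

/-- For a field k and a finite type k-algebra S with dim S > 0, some element of S is a nonzerodivisor
and a nonunit. -/
theorem result {k S : Type u} [Field k] [CommRing S] [Algebra k S] [Algebra.FiniteType k S] (hdim : 0 < ringKrullDim S) :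
    ∃ f : S, f ∈ nonZeroDivisors S ∧ ¬ IsUnit f := by
  classical
  haveI : IsNoetherianRing S := Algebra.FiniteType.isNoetherianRing k S
  haveI : IsJacobsonRing S := isJacobsonRing_of_finiteType (A := k)
  by_contra hne
  simp only [not_exists, not_and, not_not] at hne
  have hfin : {m : Ideal S | m.IsMaximal}.Finite := (associatedPrimes.finite S S).subset fun m hm => by
    haveI : IsFractionRing S S := IsFractionRing.self_iff_nonZeroDivisors_le_isUnit.mpr hne
    exact Ideal.IsMaximal.mem_associatedPrimes_of_isFractionRing S m (hI := hm)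
  have h0 : ringKrullDim S ≤ 0 := by
    refine Ring.krullDimLE_iff.1 (Ring.krullDimLE_zero_iff.mpr fun p hp => ?_)
    have hj : p.jacobson = p := IsJacobsonRing.out inferInstance hp.isRadical
    have hinf : (hfin.subset (t := {m : Ideal S | p ≤ m ∧ m.IsMaximal}) fun m hm => hm.2).toFinset.inf id ≤ p := by
      refine le_of_le_of_eq ?_ hj
      exact le_sInf fun m hm => Finset.inf_le (f := id) ((Set.Finite.mem_toFinset _).mpr hm)
    obtain ⟨m, hm, hle⟩ := (Ideal.IsPrime.inf_le' hp).1 hinf
    obtain ⟨hpm, hmax⟩ := (Set.Finite.mem_toFinset _).mp hm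
    exact (le_antisymm hle hpm : id m = p) ▸ hmax
  exact absurd h0 (not_le.mpr hdim)

end Groth.Agent.S9598
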