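import Groth.Statements.S9602
import Groth.Agent.Lib.AdicExtra.Units
-- import your own Groth.Agent.* helpers here

set_option autoImplicit false
universe u
open CAlg

namespace Groth.Agent.S9602

/-- Let R be a ring, I an ideal of R and R^ = lim R/Iⁿ the I-adic completion. An element of R^ whose
image in R/I is invertible is itself invertible in R^; and the kernel of R^ → R/I as well as the
extended ideal I R^ both lie inside the Jacobson radical of R^. -/
theorem result {R : Type u} [CommRing R] (I : Ideal R) :
    (∀ x : AdicCompletion I R, IsUnit (AdicCompletion.evalOneₐ I x) → IsUnit x) ∧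
      RingHom.ker (AdicCompletion.evalOneₐ I).toRingHom ≤ (⊥ : Ideal (AdicCompletion I R)).jacobson ∧
      I.map (algebraMap R (AdicCompletion I R)) ≤ (⊥ : Ideal (AdicCompletion I R)).jacobson := by
  exact ⟨GrothLib.AdicExtra.isUnit_of_isUnit_evalOne, GrothLib.AdicExtra.ker_evalOne_le_jacobson,
    GrothLib.AdicExtra.map_le_ker_evalOne.trans GrothLib.AdicExtra.ker_evalOne_le_jacobson⟩

end Groth.Agent.S9602
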