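import Groth.Statements.S9603
import Groth.Agent.Lib.AdicExtra.Units
-- import your own Groth.Agent.* helpers here

set_option autoImplicit false
universe u
open CAlg

namespace Groth.Agent.S9603

/-- For a ring A, elements f_1, …, f_r generating an ideal I and an A-module M, if the canonical map
from M to its (f_i)-adic completion is surjective for every i, then the canonical map from M to its
I-adic completion is surjective. -/
theorem result {A : Type u} [CommRing A] {r : ℕ} (f : Fin r → A) (M : Type u) [AddCommGroup M] [Module A M] (h : ∀ i, Function.Surjective (AdicCompletion.of (Ideal.span {f i}) M)) :
    Function.Surjective (AdicCompletion.of (Ideal.span (Set.range f)) M) := by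
  exact AdicCompletion.of_surjective_iff.2 (GrothLib.AdicExtra.isPrecomplete_of_forall_span_singleton f
    fun i => AdicCompletion.of_surjective_iff.1 (h i))

end Groth.Agent.S9603
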