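import Groth.Statements.S9606
import Mathlib
-- import your own Groth.Agent.* helpers here

set_option autoImplicit false
universe u
open CAlg

namespace Groth.Agent.S9606

/-- Let R → S be a ring map with locally nilpotent kernel such that S is generated over R by elements x
with x² and x³ in the image of R. Then the induced map on spectra is a homeomorphism and every
residue field map κ(p) → κ(q), for q a prime of S with inverse image p, is bijective. -/
theorem result {R S : Type u} [CommRing R] [CommRing S] [Algebra R S]
    (hgen : Algebra.adjoin R {x : S | x ^ 2 ∈ Set.range (algebraMap R S) ∧ x ^ 3 ∈ Set.range (algebraMap R S)} = ⊤)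
    (hker : ∀ r : R, algebraMap R S r = 0 → IsNilpotent r) :
    IsHomeomorph (PrimeSpectrum.comap (algebraMap R S)) ∧
      ∀ (q : Ideal S) [q.IsPrime], Function.Bijective (Ideal.ResidueField.map (q.comap (algebraMap R S)) q (algebraMap R S) rfl) := by
  classical
  have key : ∀ (p : PrimeSpectrum R) (s : S), ∃ a b : R, b ∉ p.asIdeal ∧
      ∀ q : PrimeSpectrum S, q.asIdeal.comap (algebraMap R S) = p.asIdeal →
        algebraMap R S b * s - algebraMap R S a ∈ q.asIdeal := by
    intro p s
    have hs : s ∈ Algebra.adjoin R {x : S | x ^ 2 ∈ Set.range (algebraMap R S) ∧ x ^ 3 ∈ Set.range (algebraMap R S)} := by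
      rw [hgen]; trivial
    induction hs using Algebra.adjoin_induction with
    | mem x hx =>
      obtain ⟨⟨c, hc⟩, ⟨c3, hc3⟩⟩ := hx
      by_cases hcp : c ∈ p.asIdeal
      · refine ⟨0, 1, p.2.one_notMem, fun q hq => ?_⟩
        rw [map_one, one_mul, map_zero, sub_zero]
        rw [← hq, Ideal.mem_comap, hc] at hcp
        exact q.2.mem_of_pow_mem 2 hcp
      · refine ⟨c3, c, hcp, fun q _ => ?_⟩
        rw [hc, hc3, ← pow_succ, sub_self]
        exact q.asIdeal.zero_mem
    | algebraMap r => exact ⟨r, 1, p.2.one_notMem, fun q _ => by simp⟩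
    | add x y _ _ hx hy =>
      obtain ⟨a, b, hb, h⟩ := hx
      obtain ⟨a', b', hb', h'⟩ := hy
      refine ⟨a * b' + a' * b, b * b', fun hh => (p.2.mem_or_mem hh).elim hb hb', fun q hq => ?_⟩
      have : algebraMap R S (b * b') * (x + y) - algebraMap R S (a * b' + a' * b) =
          algebraMap R S b' * (algebraMap R S b * x - algebraMap R S a) +
            algebraMap R S b * (algebraMap R S b' * y - algebraMap R S a') := by
        simp only [map_mul, map_add]; ring
      rw [this]
      exact q.asIdeal.add_mem (q.asIdeal.mul_mem_left _ (h q hq)) (q.asIdeal.mul_mem_left _ (h' q hq))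
    | mul x y _ _ hx hy =>
      obtain ⟨a, b, hb, h⟩ := hx
      obtain ⟨a', b', hb', h'⟩ := hy
      refine ⟨a * a', b * b', fun hh => (p.2.mem_or_mem hh).elim hb hb', fun q hq => ?_⟩
      have : algebraMap R S (b * b') * (x * y) - algebraMap R S (a * a') =
          (algebraMap R S b' * y) * (algebraMap R S b * x - algebraMap R S a) +
            algebraMap R S a * (algebraMap R S b' * y - algebraMap R S a') := by
        simp only [map_mul]; ring
      rw [this]
      exact q.asIdeal.add_mem (q.asIdeal.mul_mem_left _ (h q hq)) (q.asIdeal.mul_mem_left _ (h' q hq))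
  have hint : (algebraMap R S).IsIntegral := by
    intro x
    have hle : Algebra.adjoin R {x : S | x ^ 2 ∈ Set.range (algebraMap R S) ∧ x ^ 3 ∈ Set.range (algebraMap R S)} ≤
        integralClosure R S := by
      rw [Algebra.adjoin_le_iff]
      rintro y ⟨⟨c, hc⟩, -⟩
      exact IsIntegral.of_pow two_pos (hc ▸ isIntegral_algebraMap)
    exact hle (hgen ▸ trivial)
  have hinj : Function.Injective (PrimeSpectrum.comap (algebraMap R S)) := by
    intro q q' h
    have h' : q.asIdeal.comap (algebraMap R S) = q'.asIdeal.comap (algebraMap R S) :=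
      congrArg PrimeSpectrum.asIdeal h
    ext s
    obtain ⟨a, b, hb, hab⟩ := key (PrimeSpectrum.comap (algebraMap R S) q) s
    have main : ∀ r : PrimeSpectrum S, r.asIdeal.comap (algebraMap R S) = q.asIdeal.comap (algebraMap R S) →
        (s ∈ r.asIdeal ↔ a ∈ q.asIdeal.comap (algebraMap R S)) := by
      intro r hr
      have h1 := hab r hr
      have hbr : algebraMap R S b ∉ r.asIdeal := fun hh => hb (by
        show b ∈ q.asIdeal.comap (algebraMap R S)
        rw [← hr]; exact hh)
      rw [← hr, Ideal.mem_comap]
      constructor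
      · intro hs
        have := r.asIdeal.sub_mem (r.asIdeal.mul_mem_left (algebraMap R S b) hs) h1
        rwa [sub_sub_cancel] at this
      · intro ha
        have := r.asIdeal.add_mem h1 ha
        rw [sub_add_cancel] at this
        exact (r.2.mem_or_mem this).resolve_left hbr
    rw [main q rfl, main q' h'.symm]
  have hclosed := PrimeSpectrum.isClosedMap_comap_of_isIntegral (algebraMap R S) hint
  have hsurj : Function.Surjective (PrimeSpectrum.comap (algebraMap R S)) := by
    rw [← Set.range_eq_univ, ← hclosed.isClosed_range.closure_eq]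
    exact DenseRange.closure_range ((PrimeSpectrum.denseRange_comap_iff_ker_le_nilRadical (algebraMap R S)).mpr fun r hr => hker r hr)
  refine ⟨isHomeomorph_iff_continuous_isClosedMap_bijective.mpr
    ⟨PrimeSpectrum.continuous_comap _, hclosed, hinj, hsurj⟩, fun q _ => ?_⟩
  refine ⟨RingHom.injective _, fun y => ?_⟩
  set p := q.comap (algebraMap R S)
  let ρ := Ideal.ResidueField.map p q (algebraMap R S) rfl
  have hmem : ∀ s : S, algebraMap S q.ResidueField s ∈ ρ.range := by
    intro s
    obtain ⟨a, b, hb, hab⟩ := key ⟨p, inferInstance⟩ s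
    have h1 := hab ⟨q, inferInstance⟩ rfl
    rw [← Ideal.algebraMap_residueField_eq_zero, map_sub, map_mul, sub_eq_zero] at h1
    have hb0 : algebraMap S q.ResidueField (algebraMap R S b) ≠ 0 := by
      rw [Ne, Ideal.algebraMap_residueField_eq_zero]; exact hb
    refine ⟨algebraMap R p.ResidueField a / algebraMap R p.ResidueField b, ?_⟩
    rw [map_div₀]
    simp only [ρ, Ideal.ResidueField.map_algebraMap]
    rw [eq_comm, eq_div_iff hb0, mul_comm, h1]
  obtain ⟨x, z, -, rfl⟩ := IsFractionRing.div_surjective (S ⧸ q) y
  obtain ⟨x, rfl⟩ := Ideal.Quotient.mk_surjective x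
  obtain ⟨z, rfl⟩ := Ideal.Quotient.mk_surjective z
  have hd := div_mem (show algebraMap S q.ResidueField x ∈ ρ.fieldRange from hmem x)
    (show algebraMap S q.ResidueField z ∈ ρ.fieldRange from hmem z)
  exact RingHom.mem_fieldRange.mp hd

end Groth.Agent.S9606
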