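import Groth.Statements.S9607
import Mathlib
-- import your own Groth.Agent.* helpers here

set_option autoImplicit false
universe u
open CAlg

namespace Groth.Agent.S9607

/-- For a prime number p and integers n, m > 0 there exists an integer a such that (x + y)^(p^a) and p^a
(x + y) both belong to the subring ℤ[x^(p^n), p^n x, y^(p^m), p^m y] of the polynomial ring ℤ[x, y]. -/
theorem result (p : ℕ) (hp : p.Prime) (n m : ℕ) (hn : 0 < n) (hm : 0 < m) :
    ∃ a : ℕ, ((MvPolynomial.X 0 + MvPolynomial.X 1 : MvPolynomial (Fin 2) ℤ) ^ (p ^ a) ∈ Algebra.adjoin ℤ ({MvPolynomial.X 0 ^ (p ^ n), (p : MvPolynomial (Fin 2) ℤ) ^ n * MvPolynomial.X 0, MvPolynomial.X 1 ^ (p ^ m), (p : MvPolynomial (Fin 2) ℤ) ^ m * MvPolynomial.X 1} : Set (MvPolynomial (Fin 2) ℤ)) ∧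
      (p : MvPolynomial (Fin 2) ℤ) ^ a * (MvPolynomial.X 0 + MvPolynomial.X 1) ∈ Algebra.adjoin ℤ ({MvPolynomial.X 0 ^ (p ^ n), (p : MvPolynomial (Fin 2) ℤ) ^ n * MvPolynomial.X 0, MvPolynomial.X 1 ^ (p ^ m), (p : MvPolynomial (Fin 2) ℤ) ^ m * MvPolynomial.X 1} : Set (MvPolynomial (Fin 2) ℤ))) := by
  classical
  set X : MvPolynomial (Fin 2) ℤ := MvPolynomial.X 0
  set Y : MvPolynomial (Fin 2) ℤ := MvPolynomial.X 1
  set T := Algebra.adjoin ℤ ({X ^ (p ^ n), (p : MvPolynomial (Fin 2) ℤ) ^ n * X, Y ^ (p ^ m), (p : MvPolynomial (Fin 2) ℤ) ^ m * Y} : Set (MvPolynomial (Fin 2) ℤ))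
  have g1 : X ^ (p ^ n) ∈ T := Algebra.subset_adjoin (by simp)
  have g2 : (p : MvPolynomial (Fin 2) ℤ) ^ n * X ∈ T := Algebra.subset_adjoin (by simp)
  have g3 : Y ^ (p ^ m) ∈ T := Algebra.subset_adjoin (by simp)
  have g4 : (p : MvPolynomial (Fin 2) ℤ) ^ m * Y ∈ T := Algebra.subset_adjoin (by simp)
  have gp : ∀ e : ℕ, (p : MvPolynomial (Fin 2) ℤ) ^ e ∈ T := fun e => pow_mem (natCast_mem T p) e
  set a := n * p ^ n + m * p ^ m + n + m with ha
  refine ⟨a, ?_, ?_⟩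
  · rw [add_pow]
    refine sum_mem fun j hj => ?_
    have hjle : j ≤ p ^ a := Nat.lt_succ_iff.mp (Finset.mem_range.mp hj)
    by_cases hdvd : p ^ (n + m) ∣ j
    · refine mul_mem (mul_mem ?_ ?_) (natCast_mem T _)
      · obtain ⟨q, hq⟩ := dvd_trans (pow_dvd_pow p (Nat.le_add_right n m)) hdvd
        rw [hq, pow_mul]; exact pow_mem g1 q
      · have h1 : p ^ (n + m) ∣ p ^ a - j := Nat.dvd_sub (pow_dvd_pow p (by omega)) hdvd
        obtain ⟨q, hq⟩ := dvd_trans (pow_dvd_pow p (Nat.le_add_left m n)) h1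
        rw [hq, pow_mul]; exact pow_mem g3 q
    · have hj0 : 0 < j := Nat.pos_of_ne_zero (fun h => hdvd (h ▸ dvd_zero _))
      have h2 : p ^ a ∣ Nat.choose (p ^ a) j * j := by
        obtain ⟨N, hN⟩ := Nat.exists_eq_add_of_le (Nat.one_le_pow a p hp.pos)
        obtain ⟨i, rfl⟩ := Nat.exists_eq_add_of_le hj0
        rw [hN, Nat.add_comm 1 N, Nat.add_comm 1 i]
        exact ⟨_, (Nat.add_one_mul_choose_eq N i).symm⟩
      have h3 : p ^ (n * p ^ n + m * p ^ m) ∣ Nat.choose (p ^ a) j := by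
        obtain ⟨e, u, hu, rfl⟩ := Nat.exists_eq_pow_mul_and_not_dvd hj0.ne' p hp.ne_one
        have he : e < n + m := by
          by_contra h
          exact hdvd (Dvd.dvd.mul_right (pow_dvd_pow p (Nat.le_of_not_lt h)) u)
        rw [show Nat.choose (p ^ a) (p ^ e * u) * (p ^ e * u) = (p ^ e * Nat.choose (p ^ a) (p ^ e * u)) * u by ring] at h2
        have h4 := (Nat.Coprime.pow_left a ((hp.coprime_iff_not_dvd).mpr hu)).dvd_of_dvd_mul_right h2
        have h5 : p ^ e * p ^ (n * p ^ n + m * p ^ m) ∣ p ^ e * Nat.choose (p ^ a) (p ^ e * u) := by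
          rw [← pow_add]
          exact dvd_trans (pow_dvd_pow p (by omega)) h4
        exact Nat.dvd_of_mul_dvd_mul_left (pow_pos hp.pos e) h5
      obtain ⟨c, hc⟩ := h3
      rw [hc]
      push_cast
      generalize p ^ a - j = l
      have hr : j % p ^ n ≤ p ^ n := (Nat.mod_lt _ (pow_pos hp.pos n)).le
      have hr' : l % p ^ m ≤ p ^ m := (Nat.mod_lt _ (pow_pos hp.pos m)).le
      obtain ⟨r1, hr1⟩ := Nat.exists_eq_add_of_le (Nat.mul_le_mul_left n hr)
      obtain ⟨r2, hr2⟩ := Nat.exists_eq_add_of_le (Nat.mul_le_mul_left m hr')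
      have key : ∀ q r q' r' e1 e2 : ℕ, X ^ (p ^ n * q + r) * Y ^ (p ^ m * q' + r') *
          ((p : MvPolynomial (Fin 2) ℤ) ^ (n * r + e1 + (m * r' + e2)) * (c : MvPolynomial (Fin 2) ℤ)) =
          (X ^ (p ^ n)) ^ q * ((p : MvPolynomial (Fin 2) ℤ) ^ n * X) ^ r *
          (Y ^ (p ^ m)) ^ q' * ((p : MvPolynomial (Fin 2) ℤ) ^ m * Y) ^ r' *
          (p : MvPolynomial (Fin 2) ℤ) ^ (e1 + e2) * (c : MvPolynomial (Fin 2) ℤ) := by
        intros
        simp only [pow_add, pow_mul, mul_pow]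
        ring
      have hh := key (j / p ^ n) (j % p ^ n) (l / p ^ m) (l % p ^ m) r1 r2
      rw [Nat.div_add_mod, Nat.div_add_mod, ← hr1, ← hr2] at hh
      rw [hh]
      exact mul_mem (mul_mem (mul_mem (mul_mem (mul_mem (pow_mem g1 _) (pow_mem g2 _)) (pow_mem g3 _)) (pow_mem g4 _)) (gp _)) (natCast_mem T c)
  · rw [mul_add]
    refine add_mem ?_ ?_
    · obtain ⟨r, hr⟩ : ∃ r, a = r + n := ⟨n * p ^ n + m * p ^ m + m, by omega⟩
      rw [hr, pow_add, mul_assoc]; exact mul_mem (gp r) g2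
    · obtain ⟨r, hr⟩ : ∃ r, a = r + m := ⟨n * p ^ n + m * p ^ m + n, by omega⟩
      rw [hr, pow_add, mul_assoc]; exact mul_mem (gp r) g4

end Groth.Agent.S9607
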