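import Groth.Statements.S9608
import Mathlib
-- import your own Groth.Agent.* helpers here

set_option autoImplicit false
universe u
open CAlg

namespace Groth.Agent.S9608

/-- Let k'/k be a field extension and p a prime number. Then k' is generated over k by elements x for
which some n > 0 has x^(p^n) ∈ k and p^n x ∈ k, if and only if either k' = k, or k has
characteristic p and k'/k is purely inseparable. -/
theorem result {k k' : Type u} [Field k] [Field k'] [Algebra k k'] (p : ℕ) (hp : p.Prime) :
    IntermediateField.adjoin k {x : k' | ∃ n : ℕ, 0 < n ∧ x ^ (p ^ n) ∈ Set.range (algebraMap k k') ∧ (p : k') ^ n * x ∈ Set.range (algebraMap k k')} = ⊤ ↔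
      (Function.Surjective (algebraMap k k') ∨ (CharP k p ∧ IsPurelyInseparable k k')) := by
  classical
  haveI := Fact.mk hp
  set T := {x : k' | ∃ n : ℕ, 0 < n ∧ x ^ (p ^ n) ∈ Set.range (algebraMap k k') ∧ (p : k') ^ n * x ∈ Set.range (algebraMap k k')}
  constructor
  · intro h
    by_cases hT : T ⊆ Set.range (algebraMap k k')
    · left
      intro x
      have hle : IntermediateField.adjoin k T ≤ ⊥ := IntermediateField.adjoin_le_iff.mpr fun y hy =>
        IntermediateField.mem_bot.mpr (hT hy)
      rw [h] at hle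
      exact IntermediateField.mem_bot.mp (hle (IntermediateField.mem_top (x := x)))
    right
    obtain ⟨x, ⟨n, hn, hx1, ⟨c, hc⟩⟩, hx⟩ := Set.not_subset.mp hT
    have hp0 : (p : k) = 0 := by
      by_contra h0
      refine hx ⟨c / (p : k) ^ n, ?_⟩
      have : (p : k') ≠ 0 := by
        rw [← map_natCast (algebraMap k k')]; exact (map_ne_zero _).mpr h0
      rw [map_div₀, map_pow, map_natCast, hc, mul_div_cancel_left₀ x (pow_ne_zero _ this)]
    haveI hchar : CharP k p := (CharP.charP_iff_prime_eq_zero hp).mpr hp0
    haveI : ExpChar k p := ExpChar.prime hp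
    refine ⟨hchar, ?_⟩
    rw [isPurelyInseparable_iff_perfectClosure_eq_top, eq_top_iff, ← h, IntermediateField.adjoin_le_iff]
    rintro y ⟨m, -, hy, -⟩
    exact (mem_perfectClosure_iff_pow_mem p).mpr ⟨m, hy⟩
  · rintro (h | ⟨hchar, hpi⟩)
    · rw [eq_top_iff]
      intro x _
      obtain ⟨c, rfl⟩ := h x
      exact IntermediateField.algebraMap_mem _ c
    · haveI : ExpChar k p := ExpChar.prime hp
      rw [eq_top_iff]
      intro x _
      obtain ⟨n, hn⟩ := (isPurelyInseparable_iff_pow_mem k p).mp hpi x
      refine IntermediateField.subset_adjoin k T ⟨n + 1, Nat.succ_pos n, ?_, 0, ?_⟩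
      · obtain ⟨c, hc⟩ := hn
        exact ⟨c ^ p, by rw [map_pow, hc, ← pow_mul, ← pow_succ]⟩
      · rw [map_zero, ← map_natCast (algebraMap k k'), CharP.cast_eq_zero, map_zero, zero_pow (Nat.succ_ne_zero n), zero_mul]

end Groth.Agent.S9608
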