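import Groth.Statements.S9609
import Groth.Agent.Lib.FieldExtra.Radicial
-- import your own Groth.Agent.* helpers here

set_option autoImplicit false
universe u
open CAlg

namespace Groth.Agent.S9609

open TensorProduct in
/-- Let R → S be a ring map which is injective on spectra and whose residue field extensions κ(p) → κ(q)
(q a prime of S with inverse image p) are purely inseparable: every element of κ(q) has a power with
exponent a power of the characteristic exponent lying in the image of κ(p). Then, given an arbitrary
R-algebra R', the induced map R' → R' ⊗_R S is likewise injective on spectra and has purely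
inseparable residue field extensions. -/
theorem result {R S R' : Type u} [CommRing R] [CommRing S] [CommRing R'] [Algebra R S] [Algebra R R']
    (hinj : Function.Injective (PrimeSpectrum.comap (algebraMap R S)))
    (hpi : ∀ (q : Ideal S) [q.IsPrime] (x : q.ResidueField), ∃ n : ℕ, x ^ (ringExpChar (q.comap (algebraMap R S)).ResidueField) ^ n ∈ Set.range (Ideal.ResidueField.map (q.comap (algebraMap R S)) q (algebraMap R S) rfl)) :
    Function.Injective (PrimeSpectrum.comap (algebraMap R' (R' ⊗[R] S))) ∧
      ∀ (q' : Ideal (R' ⊗[R] S)) [q'.IsPrime] (x : q'.ResidueField), ∃ n : ℕ, x ^ (ringExpChar (q'.comap (algebraMap R' (R' ⊗[R] S))).ResidueField) ^ n ∈ Set.range (Ideal.ResidueField.map (q'.comap (algebraMap R' (R' ⊗[R] S))) q' (algebraMap R' (R' ⊗[R] S)) rfl) := by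
  have h := (GrothLib.FieldExtra.isRadicial_of_comap_injective hinj hpi).baseChange (R' := R')
  exact ⟨h.comap_injective, fun q' _ x => h.exists_pow_mem q' x⟩

end Groth.Agent.S9609
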