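import Groth.Statements.S9610
import Mathlib
-- import your own Groth.Agent.* helpers here

set_option autoImplicit false
universe u
open CAlg

namespace Groth.Agent.S9610

/-- Let k be a field and V a nonzero k-vector space with dim_k V < #k as cardinals. Then every k-linear
endomorphism T of V admits a monic polynomial P over k for which P(T) is not invertible. -/
theorem result {k V : Type u} [Field k] [AddCommGroup V] [Module k V] [Nontrivial V] (hV : Module.rank k V < Cardinal.mk k) (T : Module.End k V) :
    ∃ P : Polynomial k, P.Monic ∧ ¬ IsUnit (Polynomial.aeval T P) := by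
  classical
  by_contra h
  push Not at h
  have hunit : ∀ P : Polynomial k, P ≠ 0 → IsUnit (Polynomial.aeval T P) := fun P hP ↦ by
    have h1 := h _ (Polynomial.monic_mul_leadingCoeff_inv hP)
    rw [map_mul] at h1
    exact ((Commute.isUnit_mul_iff (Commute.all P (Polynomial.C P.leadingCoeff⁻¹) |>.map (Polynomial.aeval T))).mp h1).1
  obtain ⟨v, hv⟩ := exists_ne (0 : V)
  have hw : ∀ a : k, ∃ w, Polynomial.aeval T (Polynomial.X - Polynomial.C a) w = v := fun a ↦
    ((Module.End.isUnit_iff _).mp (hunit _ (Polynomial.X_sub_C_ne_zero a))).2 v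
  choose w hw using hw
  have hli : LinearIndependent k w := by
    rw [linearIndependent_iff']
    intro s c hc a ha
    let P : Polynomial k := ∑ i ∈ s, Polynomial.C (c i) * ∏ j ∈ s.erase i, (Polynomial.X - Polynomial.C j)
    have h1 : Polynomial.aeval T P v = 0 := by
      have h2 : Polynomial.aeval T (∏ j ∈ s, (Polynomial.X - Polynomial.C j)) (∑ i ∈ s, c i • w i) = 0 := by
        rw [hc, map_zero]
      rw [map_sum] at h2
      rw [← h2, map_sum, LinearMap.sum_apply]
      refine Finset.sum_congr rfl fun i hi ↦ ?_
      rw [map_smul, ← Finset.prod_erase_mul s _ hi, map_mul, map_mul, Polynomial.aeval_C,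
        Module.End.mul_apply, Module.End.mul_apply, hw i, Module.algebraMap_end_apply]
    have hP : P = 0 := by
      by_contra hP
      exact hv (((Module.End.isUnit_iff _).mp (hunit P hP)).1 (by rw [h1, map_zero]))
    have := congrArg (Polynomial.eval a) hP
    simp only [P, Polynomial.eval_finset_sum, Polynomial.eval_mul, Polynomial.eval_C, Polynomial.eval_prod, Polynomial.eval_sub, Polynomial.eval_X, Polynomial.eval_zero] at this
    rw [Finset.sum_eq_single a (fun i hi hia ↦ by
      rw [Finset.prod_eq_zero (Finset.mem_erase.mpr ⟨fun h ↦ hia h.symm, ha⟩) (sub_self a), mul_zero]) (fun h ↦ (h ha).elim)] at this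
    exact (mul_eq_zero.mp this).resolve_right (Finset.prod_ne_zero_iff.mpr fun j hj ↦ sub_ne_zero.mpr (Finset.ne_of_mem_erase hj).symm)
  exact absurd hli.cardinal_le_rank (not_le.mpr hV)

end Groth.Agent.S9610
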