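import Groth.Statements.S9611
import Mathlib.RingTheory.Jacobson.Ring
import Mathlib.RingTheory.Spectrum.Prime.Basic

set_option autoImplicit false
universe u
open CAlg

namespace Groth.Agent.S9611

/-- Let R be a Jacobson ring, p a prime ideal of R which is not maximal, and f an element of R not in p.
Then the set of primes of R containing p and not containing f is infinite. -/
theorem result {R : Type u} [CommRing R] [IsJacobsonRing R] (p : Ideal R) [p.IsPrime] (hp : ¬ p.IsMaximal) (f : R) (hf : f ∉ p) :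
    {q : PrimeSpectrum R | p ≤ q.asIdeal ∧ f ∉ q.asIdeal}.Infinite := by
  classical
  intro hfin
  let Q := hfin.toFinset.filter (fun q => q.asIdeal.IsMaximal)
  have h1 : ¬ Q.inf (fun q => q.asIdeal) ≤ p := by
    intro hle
    obtain ⟨q, hq, hqp⟩ := (‹p.IsPrime›.inf_le').1 hle
    obtain ⟨hq1, hq2⟩ := Finset.mem_filter.1 hq
    have hpq : p ≤ q.asIdeal := (hfin.mem_toFinset.1 hq1).1
    exact hp (le_antisymm hpq hqp ▸ hq2)
  obtain ⟨g, hg, hgp⟩ := SetLike.not_le_iff_exists.1 h1
  have h2 : g * f ∈ p.jacobson := by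
    rw [Ideal.jacobson, Ideal.mem_sInf]
    rintro m ⟨hpm, hm⟩
    by_cases hfm : f ∈ m
    · exact m.mul_mem_left g hfm
    · refine m.mul_mem_right f ?_
      exact (Finset.inf_le (f := fun q : PrimeSpectrum R => q.asIdeal) (b := ⟨m, hm.isPrime⟩)
        (Finset.mem_filter.2 ⟨hfin.mem_toFinset.2 ⟨hpm, hfm⟩, hm⟩)) hg
  rw [isJacobsonRing_iff_prime_eq.1 ‹IsJacobsonRing R› p ‹p.IsPrime›] at h2
  exact (‹p.IsPrime›.mem_or_mem h2).elim hgp hf

end Groth.Agent.S9611
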