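import Groth.Statements.S9613
import Mathlib.RingTheory.Jacobson.Ring
import Mathlib.RingTheory.Localization.Integer
import Mathlib.RingTheory.Localization.Away.Basic
import Mathlib.RingTheory.IntegralClosure.IsIntegralClosure.Basic
import Mathlib.RingTheory.Localization.FractionRing
-- import your own Groth.Agent.* helpers here

set_option autoImplicit false
universe u
open CAlg

namespace Groth.Agent.S9613

/-- Let R → K be an injective ring map into a field K which makes K an R-algebra of finite type. Then
for some nonzero f ∈ R the localization R_f is a field over which K is finite; here R_f is realised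
as the R-subalgebra of K that is a localization of R away from f. -/
theorem result {R K : Type u} [CommRing R] [Field K] [Algebra R K] (hinj : Function.Injective (algebraMap R K)) [Algebra.FiniteType R K] :
    ∃ f : R, f ≠ 0 ∧ ∃ Rf : Subalgebra R K, IsLocalization.Away f Rf ∧ IsField Rf ∧ Module.Finite Rf K := by
  classical
  have : IsDomain R := hinj.isDomain (algebraMap R K)
  let F := FractionRing R
  letI : Algebra F K := (IsFractionRing.lift hinj).toAlgebra
  have : IsScalarTower R F K := IsScalarTower.of_algebraMap_eq fun r => (IsFractionRing.lift_algebraMap hinj r).symm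
  have : Algebra.FiniteType F K := Algebra.FiniteType.of_restrictScalars_finiteType R F K
  have : Module.Finite F K := finite_of_finite_type_of_isJacobsonRing F K
  obtain ⟨G, hG⟩ := (inferInstance : Algebra.FiniteType R K).out
  choose P hP hP0 using fun x : K => Algebra.IsIntegral.isIntegral (R := F) x
  let T : Finset F := G.biUnion fun x => (Finset.range ((P x).natDegree + 1)).image (P x).coeff
  obtain ⟨d, hd⟩ := IsLocalization.exist_integer_multiples_of_finset (nonZeroDivisors R) T
  have hd0 : (d : R) ≠ 0 := nonZeroDivisors.ne_zero d.2
  have hdu : IsUnit (algebraMap R K d) := isUnit_iff_ne_zero.2 ((map_ne_zero_iff _ hinj).2 hd0)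
  let φ : Localization.Away (d : R) →ₐ[R] K :=
    IsLocalization.liftAlgHom (M := Submonoid.powers (d : R)) (f := Algebra.ofId R K) (by
      rintro ⟨_, k, rfl⟩
      simpa using hdu.pow k)
  have hφ : Function.Injective φ := by
    have hi : Function.Injective (IsLocalization.Away.lift (S := Localization.Away (d : R)) (d : R) hdu) :=
      (IsLocalization.lift_injective_iff _).2 fun x y => by
        rw [(IsLocalization.injective (Localization.Away (d : R))
          (powers_le_nonZeroDivisors_of_noZeroDivisors hd0)).eq_iff, hinj.eq_iff]
    exact hi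
  let Rf := φ.range
  have hloc : IsLocalization.Away (d : R) Rf :=
    IsLocalization.isLocalization_of_algEquiv _ (AlgEquiv.ofInjective φ hφ)
  have hint : ∀ x ∈ G, IsIntegral Rf x := by
    intro x hx
    have hmem : ∀ n, algebraMap F K ((P x).coeff n) ∈ Rf := by
      intro n
      by_cases hn : n ∈ Finset.range ((P x).natDegree + 1)
      · obtain ⟨r, hr⟩ := hd _ (Finset.mem_biUnion.2 ⟨x, hx, Finset.mem_image_of_mem _ hn⟩)
        refine ⟨IsLocalization.mk' _ r (⟨(d : R), 1, pow_one _⟩ : Submonoid.powers (d : R)), ?_⟩
        refine mul_right_cancel₀ hdu.ne_zero ?_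
        rw [← φ.commutes (d : R)]
        show φ _ * φ _ = _
        rw [← map_mul, IsLocalization.mk'_spec, φ.commutes, φ.commutes,
          IsScalarTower.algebraMap_apply R F K (d : R), ← map_mul, IsScalarTower.algebraMap_apply R F K r, hr,
          Algebra.smul_def, mul_comm]
      · rw [Polynomial.coeff_eq_zero_of_natDegree_lt (by simpa using hn), map_zero]
        exact zero_mem _
    have hl : (P x).map (algebraMap F K) ∈ Polynomial.lifts (algebraMap Rf K) :=
      (Polynomial.lifts_iff_coeff_lifts _).2 fun n => ⟨⟨_, hmem n⟩, by rw [Polynomial.coeff_map]; rfl⟩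
    obtain ⟨q, hq, -, hqm⟩ := Polynomial.lifts_and_natDegree_eq_and_monic hl ((hP x).map _)
    refine ⟨q, hqm, ?_⟩
    rw [Polynomial.eval₂_eq_eval_map, hq, ← Polynomial.eval₂_eq_eval_map]
    exact hP0 x
  have hfin : Module.Finite Rf K := by
    refine ⟨?_⟩
    have h := fg_adjoin_of_finite (R := Rf) G.finite_toSet hint
    have htop : Algebra.adjoin Rf (G : Set K) = ⊤ := by
      refine top_le_iff.1 fun x _ => ?_
      have hx : x ∈ Algebra.adjoin R (G : Set K) := hG ▸ Algebra.mem_top
      induction hx using Algebra.adjoin_induction with
      | mem y hy => exact Algebra.subset_adjoin hy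
      | algebraMap r =>
        rw [show algebraMap R K r = algebraMap Rf K (algebraMap R Rf r) from rfl]
        exact Subalgebra.algebraMap_mem _ _
      | add y z _ _ hy hz => exact add_mem (hy trivial) (hz trivial)
      | mul y z _ _ hy hz => exact mul_mem (hy trivial) (hz trivial)
    rwa [htop, Algebra.top_toSubmodule] at h
  have : Algebra.IsIntegral Rf K := Algebra.IsIntegral.of_finite Rf K
  exact ⟨d, hd0, Rf, hloc, isField_of_isIntegral_of_isField (Subtype.val_injective) (Field.toIsField K), hfin⟩

end Groth.Agent.S9613
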