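import Groth.Statements.S9614
import Mathlib
-- import your own Groth.Agent.* helpers here

set_option autoImplicit false
universe u
open CAlg

namespace Groth.Agent.S9614

/-- Let S be an ℕ-graded ring and M a finitely generated graded S-module, graded in nonnegative degrees
(the source allows all integer degrees). If x_1, …, x_n are homogeneous elements of M which generate
M modulo S₊ M (S₊ the irrelevant ideal), then x_1, …, x_n generate M. -/
theorem result {R S : Type u} [CommRing R] [CommRing S] [Algebra R S] (𝒜 : ℕ → Submodule R S) [GradedAlgebra 𝒜]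
    (M : Type u) [AddCommGroup M] [Module R M] [Module S M] [IsScalarTower R S M] [Module.Finite S M] (ℳ : ℕ → Submodule R M) [DirectSum.Decomposition ℳ] [SetLike.GradedSMul 𝒜 ℳ]
    {n : ℕ} (x : Fin n → M) (hx : ∀ i, SetLike.IsHomogeneousElem ℳ (x i))
    (h : Submodule.span S (Set.range x) ⊔ (HomogeneousIdeal.irrelevant 𝒜).toIdeal • (⊤ : Submodule S M) = ⊤) :
    Submodule.span S (Set.range x) = ⊤ := by
  classical
  set N := Submodule.span S (Set.range x) with hN
  choose e he using hx
  let c : ℕ → M →ₗ[R] M := fun d ↦ (ℳ d).subtype ∘ₗ (DirectSum.component R ℕ (fun i ↦ ℳ i) d) ∘ₗ (DirectSum.decomposeLinearEquiv ℳ).toLinearMap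
  have hc : ∀ d y, c d y = (DirectSum.decompose ℳ y d : M) := fun d y ↦ rfl
  suffices key : ∀ d, ∀ y, c d y ∈ N by
    refine top_le_iff.mp fun y _ ↦ ?_
    rw [← DirectSum.sum_support_decompose ℳ y]
    exact Submodule.sum_mem _ fun d _ ↦ hc d y ▸ key d y
  have hsmul : ∀ (a : S) (z : M) (d : ℕ), c d (a • z) ∈ Submodule.span R
      {w | ∃ i j, i + j = d ∧ w = (DirectSum.decompose 𝒜 a i : S) • (DirectSum.decompose ℳ z j : M)} := by
    intro a z d
    conv => arg 2; rw [← DirectSum.sum_support_decompose 𝒜 a, ← DirectSum.sum_support_decompose ℳ z]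
    rw [Finset.sum_smul, map_sum]
    refine Submodule.sum_mem _ fun i _ ↦ ?_
    rw [Finset.smul_sum, map_sum]
    refine Submodule.sum_mem _ fun j _ ↦ ?_
    have hm : (DirectSum.decompose 𝒜 a i : S) • (DirectSum.decompose ℳ z j : M) ∈ ℳ (i + j) :=
      SetLike.GradedSMul.smul_mem (A := 𝒜) (B := ℳ) (SetLike.coe_mem (DirectSum.decompose 𝒜 a i)) (SetLike.coe_mem (DirectSum.decompose ℳ z j))
    rw [hc]
    by_cases h : i + j = d
    · subst h
      rw [DirectSum.decompose_of_mem_same ℳ hm]
      exact Submodule.subset_span ⟨i, j, rfl, rfl⟩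
    · rw [DirectSum.decompose_of_mem_ne ℳ hm h]; exact zero_mem _
  have hle : ∀ d (T : Submodule S M) z, z ∈ Submodule.span R
      {w : M | ∃ i j : ℕ, i + j = d ∧ w ∈ T} → z ∈ T := fun d T z hz ↦ by
    induction hz using Submodule.span_induction with
    | mem w hw => obtain ⟨i, j, -, hw⟩ := hw; exact hw
    | zero => exact zero_mem _
    | add a b _ _ ha hb => exact add_mem ha hb
    | smul r a _ ha => rw [← algebraMap_smul S r a]; exact T.smul_mem _ ha
  intro d
  induction d using Nat.strong_induction_on with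
  | _ d ih =>
  intro y
  have hy : y ∈ N ⊔ (HomogeneousIdeal.irrelevant 𝒜).toIdeal • (⊤ : Submodule S M) := by rw [h]; exact Submodule.mem_top
  obtain ⟨u, hu, v, hv, rfl⟩ := Submodule.mem_sup.mp hy
  rw [map_add]
  refine add_mem ?_ ?_
  · obtain ⟨a, rfl⟩ := (Submodule.mem_span_range_iff_exists_fun S).mp hu
    rw [map_sum]
    refine Submodule.sum_mem _ fun k _ ↦ hle d N _ (Submodule.span_mono ?_ (hsmul (a k) (x k) d))
    rintro _ ⟨i, j, hij, rfl⟩
    refine ⟨i, j, hij, N.smul_mem _ ?_⟩
    by_cases hj : e k = j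
    · subst hj; rw [DirectSum.decompose_of_mem_same ℳ (he k)]; exact Submodule.subset_span ⟨k, rfl⟩
    · rw [DirectSum.decompose_of_mem_ne ℳ (he k) hj]; exact zero_mem _
  · refine Submodule.smul_induction_on hv (fun b hb z _ ↦ ?_) fun p q hp hq ↦ ?_
    · refine hle d N _ (Submodule.span_mono ?_ (hsmul b z d))
      rintro _ ⟨i, j, hij, rfl⟩
      refine ⟨i, j, hij, ?_⟩
      rcases Nat.eq_zero_or_pos i with rfl | hi
      · have h0 := (HomogeneousIdeal.mem_irrelevant_iff 𝒜 b).mp hb
        rw [GradedRing.proj_apply] at h0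
        rw [h0, zero_smul]; exact zero_mem _
      · exact N.smul_mem _ (hc j z ▸ ih j (by omega) z)
    · rw [map_add]; exact add_mem hp hq

end Groth.Agent.S9614
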