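import Groth.Statements.S9616
import Mathlib
-- import your own Groth.Agent.* helpers here

set_option autoImplicit false
universe u
open CAlg

namespace Groth.Agent.S9616

/-- Let S be an ℕ-graded ring, p_1, …, p_r homogeneous prime ideals of S and I ⊆ S₊ a homogeneous ideal
not contained in any p_i. Then there is a homogeneous element x ∈ I of positive degree with x ∉ p_i
for all i. -/
theorem result {R S : Type u} [CommRing R] [CommRing S] [Algebra R S] (𝒜 : ℕ → Submodule R S) [GradedAlgebra 𝒜]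
    {r : ℕ} (p : Fin r → HomogeneousIdeal 𝒜) (hp : ∀ i, (p i).toIdeal.IsPrime) (I : HomogeneousIdeal 𝒜) (hI : I ≤ HomogeneousIdeal.irrelevant 𝒜) (h : ∀ i, ¬ I ≤ p i) :
    ∃ x : S, ∃ d : ℕ, 0 < d ∧ x ∈ 𝒜 d ∧ x ∈ I ∧ ∀ i, x ∉ p i := by
  classical
  suffices key : ∀ (N : ℕ) (s : Finset (Fin r)), s.card = N → ∃ x : S, ∃ d : ℕ, 0 < d ∧ x ∈ 𝒜 d ∧ x ∈ I ∧ ∀ i ∈ s, x ∉ p i by
    obtain ⟨x, d, h1, h2, h3, h4⟩ := key _ Finset.univ rfl
    exact ⟨x, d, h1, h2, h3, fun i ↦ h4 i (Finset.mem_univ i)⟩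
  intro N
  induction N with
  | zero =>
    intro s hs
    exact ⟨0, 1, one_pos, zero_mem _, zero_mem I, by simp [Finset.card_eq_zero.mp hs]⟩
  | succ N ih =>
    intro s hs
    by_cases hc : ∃ i ∈ s, ∃ j ∈ s, i ≠ j ∧ p i ≤ p j
    · obtain ⟨i, hi, j, hj, hij, hle⟩ := hc
      obtain ⟨x, d, h1, h2, h3, h4⟩ := ih (s.erase i) (by rw [Finset.card_erase_of_mem hi, hs]; omega)
      refine ⟨x, d, h1, h2, h3, fun k hk ↦ ?_⟩
      by_cases hki : k = i
      · exact fun hx ↦ h4 j (Finset.mem_erase.mpr ⟨hij.symm, hj⟩) (hle (hki ▸ hx))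
      · exact h4 k (Finset.mem_erase.mpr ⟨hki, hk⟩)
    push Not at hc
    have hz : ∀ i : s, ∃ z : S, ∃ d : ℕ, 0 < d ∧ z ∈ 𝒜 d ∧ z ∈ I ∧ z ∉ p i ∧ ∀ j ∈ s, j ≠ i.1 → z ∈ p j := by
      rintro ⟨i, hi⟩
      let J : HomogeneousIdeal 𝒜 := I ⊓ ⨅ j ∈ s.erase i, p j
      have hJ : ¬ J.toIdeal ≤ (p i).toIdeal := by
        intro hle
        rw [HomogeneousIdeal.toIdeal_inf, HomogeneousIdeal.toIdeal_iInf₂] at hle
        rcases (hp i).inf_le.mp hle with h' | h'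
        · exact h i h'
        · have h'' : (s.erase i).inf (fun j ↦ (p j).toIdeal) ≤ (p i).toIdeal := by
            rwa [Finset.inf_eq_iInf]
          obtain ⟨j, hj, hle'⟩ := (hp i).inf_le'.mp h''
          exact hc j (Finset.mem_of_mem_erase hj) i hi (Finset.ne_of_mem_erase hj) hle'
      obtain ⟨x, hxJ, hx⟩ := SetLike.not_le_iff_exists.mp hJ
      obtain ⟨d, hd⟩ : ∃ d, (DirectSum.decompose 𝒜 x d : S) ∉ (p i).toIdeal := by
        by_contra hall; push Not at hall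
        exact hx (by rw [← DirectSum.sum_support_decompose 𝒜 x]; exact Ideal.sum_mem _ fun d _ ↦ hall d)
      have hzJ : (DirectSum.decompose 𝒜 x d : S) ∈ J := J.isHomogeneous d hxJ
      rw [← HomogeneousIdeal.mem_iff, HomogeneousIdeal.toIdeal_inf, HomogeneousIdeal.toIdeal_iInf₂, Ideal.mem_inf] at hzJ
      simp only [Submodule.mem_iInf] at hzJ
      refine ⟨_, d, Nat.pos_of_ne_zero fun h0 ↦ hd ?_, SetLike.coe_mem _, hzJ.1, hd,
        fun j hj hne ↦ hzJ.2 j (Finset.mem_erase.mpr ⟨hne, hj⟩)⟩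
      subst h0
      have := hI hzJ.1
      rw [HomogeneousIdeal.mem_irrelevant_iff, GradedRing.proj_apply, DirectSum.decompose_of_mem_same 𝒜 (SetLike.coe_mem _)] at this
      rw [this]; exact zero_mem _
    choose z d hd hz hzI hzi hzj using hz
    let D := ∏ i : s, d i
    refine ⟨∑ i : s, z i ^ (D / d i), D, Finset.prod_pos fun i _ ↦ hd i, Submodule.sum_mem _ fun i _ ↦ ?_, ?_, fun j hj hmem ↦ ?_⟩
    · have := SetLike.pow_mem_graded (D / d i) (hz i)
      rwa [smul_eq_mul, Nat.div_mul_cancel (Finset.dvd_prod_of_mem _ (Finset.mem_univ i))] at this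
    · refine Ideal.sum_mem I.toIdeal fun i _ ↦ Ideal.pow_mem_of_mem _ (hzI i) _ ?_
      exact Nat.div_pos (Nat.le_of_dvd (Finset.prod_pos fun i _ ↦ hd i) (Finset.dvd_prod_of_mem _ (Finset.mem_univ i))) (hd i)
    · rw [← Finset.add_sum_erase _ _ (Finset.mem_univ (⟨j, hj⟩ : s))] at hmem
      have hrest : ∑ i ∈ Finset.univ.erase (⟨j, hj⟩ : s), z i ^ (D / d i) ∈ (p j).toIdeal :=
        Ideal.sum_mem _ fun i hi ↦ Ideal.pow_mem_of_mem _ (hzj i j hj fun e ↦ Finset.ne_of_mem_erase hi (Subtype.ext e.symm)) _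
          (Nat.div_pos (Nat.le_of_dvd (Finset.prod_pos fun i _ ↦ hd i) (Finset.dvd_prod_of_mem _ (Finset.mem_univ i))) (hd i))
      exact hzi ⟨j, hj⟩ ((hp j).mem_of_pow_mem _ ((Submodule.add_mem_iff_left _ hrest).mp hmem))

end Groth.Agent.S9616
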