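import Groth.Statements.S9617
import Mathlib
-- import your own Groth.Agent.* helpers here

set_option autoImplicit false
universe u
open CAlg

namespace Groth.Agent.S9617

/-- Let S be an ℕ-graded ring, presented as a graded algebra over a ring A mapping onto S₀, such that S
is of finite type over A, i.e. over S₀. If M is a finitely generated graded S-module, graded in
nonnegative degrees (the source allows all integer degrees), then each graded piece M_n is a finite
module over A, i.e. over S₀. -/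
theorem result {A S : Type u} [CommRing A] [CommRing S] [Algebra A S] (𝒜 : ℕ → Submodule A S) [GradedAlgebra 𝒜]
    (h0 : ∀ s ∈ 𝒜 0, s ∈ Set.range (algebraMap A S)) [Algebra.FiniteType A S]
    (M : Type u) [AddCommGroup M] [Module A M] [Module S M] [IsScalarTower A S M] [Module.Finite S M] (ℳ : ℕ → Submodule A M) [DirectSum.Decomposition ℳ] [SetLike.GradedSMul 𝒜 ℳ] (n : ℕ) :
    Module.Finite A (ℳ n) := by
  classical
  let c : ℕ → M →ₗ[A] M := fun d ↦ (ℳ d).subtype ∘ₗ (DirectSum.component A ℕ (fun i ↦ ℳ i) d) ∘ₗ (DirectSum.decomposeLinearEquiv ℳ).toLinearMap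
  have hc : ∀ d y, c d y = (DirectSum.decompose ℳ y d : M) := fun d y ↦ rfl
  obtain ⟨g, hg⟩ := (inferInstance : Algebra.FiniteType A S).out
  obtain ⟨gm, hgm⟩ := (inferInstance : Module.Finite S M).fg_top
  let gens : Finset (ℕ × S) := g.biUnion fun s ↦ ((DirectSum.decompose 𝒜 s).support.filter (0 < ·)).image fun d ↦ (d, (DirectSum.decompose 𝒜 s d : S))
  let mgens : Finset M := gm.biUnion fun m ↦ (DirectSum.decompose ℳ m).support.image fun d ↦ (DirectSum.decompose ℳ m d : M)
  have hgens : ∀ x ∈ gens, 0 < x.1 ∧ x.2 ∈ 𝒜 x.1 := by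
    intro x hx
    obtain ⟨s, -, hs⟩ := Finset.mem_biUnion.mp hx
    obtain ⟨d, hd, rfl⟩ := Finset.mem_image.mp hs
    exact ⟨(Finset.mem_filter.mp hd).2, SetLike.coe_mem _⟩
  have hmgens : ∀ x ∈ mgens, ∃ e, x ∈ ℳ e := by
    intro x hx
    obtain ⟨m, -, hm⟩ := Finset.mem_biUnion.mp hx
    obtain ⟨d, hd, rfl⟩ := Finset.mem_image.mp hm
    exact ⟨d, SetLike.coe_mem _⟩
  let T : Submodule A M := Submodule.span A (mgens : Set M) ⊔ gens.sup fun x ↦ LinearMap.range (Algebra.lsmul A A M x.2)
  have hgen : ∀ x ∈ gens, ∀ y : M, x.2 • y ∈ T := fun x hx y ↦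
    Submodule.mem_sup_right ((Finset.le_sup (f := fun x : ℕ × S ↦ LinearMap.range (Algebra.lsmul A A M x.2)) hx) ⟨y, rfl⟩)
  have hsT : ∀ s : S, ∀ t ∈ T, s • t ∈ T := by
    intro s
    have hs : s ∈ Algebra.adjoin A (g : Set S) := hg ▸ Algebra.mem_top
    induction hs using Algebra.adjoin_induction with
    | mem x hx =>
      intro t ht
      rw [← DirectSum.sum_support_decompose 𝒜 x, Finset.sum_smul]
      refine Submodule.sum_mem _ fun d hd ↦ ?_
      rcases Nat.eq_zero_or_pos d with rfl | hd0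
      · obtain ⟨a, ha⟩ := h0 _ (SetLike.coe_mem (DirectSum.decompose 𝒜 x 0))
        rw [← ha, algebraMap_smul]; exact T.smul_mem a ht
      · exact hgen (d, _) (Finset.mem_biUnion.mpr ⟨x, hx, Finset.mem_image.mpr ⟨d, Finset.mem_filter.mpr ⟨hd, hd0⟩, rfl⟩⟩) t
    | algebraMap a => intro t ht; rw [algebraMap_smul]; exact T.smul_mem a ht
    | add x y _ _ hx hy => intro t ht; rw [add_smul]; exact add_mem (hx t ht) (hy t ht)
    | mul x y _ _ hx hy => intro t ht; rw [mul_smul]; exact hx _ (hy t ht)
  have htop : ∀ y : M, y ∈ T := fun y ↦ by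
    have hy : y ∈ Submodule.span S (gm : Set M) := hgm ▸ Submodule.mem_top
    induction hy using Submodule.span_induction with
    | mem x hx =>
      rw [← DirectSum.sum_support_decompose ℳ x]
      exact Submodule.sum_mem _ fun d hd ↦ Submodule.mem_sup_left (Submodule.subset_span
        (Finset.mem_biUnion.mpr ⟨x, hx, Finset.mem_image.mpr ⟨d, hd, rfl⟩⟩))
    | zero => exact zero_mem _
    | add a b _ _ ha hb => exact add_mem ha hb
    | smul s a _ ha => exact hsT s a ha
  have hsmul : ∀ (k : ℕ) (a : S), a ∈ 𝒜 k → ∀ (z : M) (d : ℕ), c d (a • z) = if k ≤ d then a • c (d - k) z else 0 := by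
    intro k a ha z d
    induction z using DirectSum.Decomposition.inductionOn ℳ with
    | zero => simp
    | @homogeneous j m =>
      have hm : a • (m : M) ∈ ℳ (k + j) := SetLike.GradedSMul.smul_mem (A := 𝒜) (B := ℳ) ha m.2
      rw [hc, hc]
      by_cases hd : k + j = d
      · subst hd
        rw [DirectSum.decompose_of_mem_same ℳ hm, if_pos (Nat.le_add_right k j), Nat.add_sub_cancel_left, DirectSum.decompose_of_mem_same ℳ m.2]
      · rw [DirectSum.decompose_of_mem_ne ℳ hm hd]
        split_ifs with hk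
        · rw [DirectSum.decompose_of_mem_ne ℳ m.2 (by omega), smul_zero]
        · rfl
    | add x y hx hy =>
      rw [smul_add, map_add, hx, hy]
      split_ifs <;> simp [smul_add]
  suffices key : ∀ d, (ℳ d).FG from Module.Finite.iff_fg.mpr (key n)
  intro d
  induction d using Nat.strong_induction_on with
  | _ d ih =>
  have heq : ℳ d = Submodule.span A ((mgens.filter fun x ↦ x ∈ ℳ d : Finset M) : Set M) ⊔
      (gens.filter fun x ↦ x.1 ≤ d).sup fun x ↦ (ℳ (d - x.1)).map (Algebra.lsmul A A M x.2) := by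
    refine le_antisymm (fun y hy ↦ ?_) (sup_le (Submodule.span_le.mpr fun x hx ↦ (Finset.mem_filter.mp hx).2) (Finset.sup_le fun x hx ↦ ?_))
    · have hy' := Submodule.mem_map_of_mem (f := c d) (htop y)
      rw [hc, DirectSum.decompose_of_mem_same ℳ hy] at hy'
      refine (?_ : Submodule.map (c d) T ≤ _) hy'
      rw [Submodule.map_sup, Submodule.map_span, Finset.sup_eq_iSup, Submodule.map_iSup]
      refine sup_le (Submodule.span_le.mpr ?_) (iSup_le fun x ↦ ?_)
      · rintro _ ⟨x, hx, rfl⟩
        obtain ⟨e, he⟩ := hmgens x hx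
        rw [SetLike.mem_coe, hc]
        by_cases hed : e = d
        · subst hed
          rw [DirectSum.decompose_of_mem_same ℳ he]
          exact Submodule.mem_sup_left (Submodule.subset_span (Finset.mem_filter.mpr ⟨hx, he⟩))
        · rw [DirectSum.decompose_of_mem_ne ℳ he hed]; exact zero_mem _
      · rw [Submodule.map_iSup]
        refine iSup_le fun hx ↦ ?_
        rintro _ ⟨_, ⟨z, rfl⟩, rfl⟩
        show c d (x.2 • z) ∈ _
        rw [hsmul x.1 x.2 (hgens x hx).2]
        split_ifs with hk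
        · exact Submodule.mem_sup_right ((Finset.le_sup (f := fun x : ℕ × S ↦ (ℳ (d - x.1)).map (Algebra.lsmul A A M x.2)) (Finset.mem_filter.mpr ⟨hx, hk⟩)) ⟨c (d - x.1) z, hc _ z ▸ SetLike.coe_mem _, rfl⟩)
        · exact zero_mem _
    · obtain ⟨hx', hk⟩ := Finset.mem_filter.mp hx
      rintro _ ⟨z, hz, rfl⟩
      have := SetLike.GradedSMul.smul_mem (A := 𝒜) (B := ℳ) (hgens x hx').2 hz
      rwa [vadd_eq_add, Nat.add_sub_cancel' hk] at this
  rw [heq]
  refine (Submodule.fg_span (Finset.finite_toSet _)).sup (Submodule.fg_finset_sup _ _ fun x hx ↦ ?_)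
  obtain ⟨hx', hk⟩ := Finset.mem_filter.mp hx
  exact (ih _ (by have := (hgens x hx').1; omega)).map _

end Groth.Agent.S9617
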