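import Groth.Statements.S9620
import Mathlib.RingTheory.Spectrum.Prime.Topology
import Mathlib.RingTheory.Spectrum.Prime.RingHom
import Mathlib.Tactic.LinearCombination

set_option autoImplicit false
universe u
open CAlg

namespace Groth.Agent.S9620

variable {R : Type u} [CommRing R]

/-- The idempotents in the prime `p`. -/
abbrev idemIn (p : PrimeSpectrum R) : Set R := {e : R | IsIdempotentElem e ∧ e ∈ p.asIdeal}

theorem mem_span_or (p : PrimeSpectrum R) {e : R} (he : IsIdempotentElem e) :
    e ∈ Ideal.span (idemIn p) ∨ 1 - e ∈ Ideal.span (idemIn p) := by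
  rcases p.2.mem_or_mem (show e * (1 - e) ∈ p.asIdeal by
    rw [mul_sub, mul_one, he.eq, sub_self]; exact zero_mem _) with h | h
  · exact Or.inl (Ideal.subset_span ⟨he, h⟩)
  · exact Or.inr (Ideal.subset_span ⟨he.one_sub, h⟩)

theorem exists_idempotent_of_mem_span (p : PrimeSpectrum R) {x : R}
    (hx : x ∈ Ideal.span (idemIn p)) : ∃ e ∈ idemIn p, e * x = x := by
  induction hx using Submodule.span_induction with
  | mem e he => exact ⟨e, he, he.1.eq⟩
  | zero => exact ⟨0, ⟨IsIdempotentElem.zero, zero_mem _⟩, mul_zero _⟩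
  | smul c y _ h =>
    obtain ⟨e, he, hey⟩ := h
    exact ⟨e, he, by rw [smul_eq_mul, mul_left_comm, hey]⟩
  | add y z _ _ h1 h2 =>
    obtain ⟨a, ⟨ha, hap⟩, hay⟩ := h1
    obtain ⟨b, ⟨hb, hbp⟩, hbz⟩ := h2
    refine ⟨a + b - a * b, ⟨?_, ?_⟩, ?_⟩
    · unfold IsIdempotentElem
      linear_combination (1 - 2 * b + b * b) * ha.eq + (1 - a) * hb.eq
    · exact sub_mem (add_mem hap hbp) (Ideal.mul_mem_right _ _ hap)
    · linear_combination (1 - b) * hay + (1 - a) * hbz

theorem connectedComponent_eq (p : PrimeSpectrum R) :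
    connectedComponent p = PrimeSpectrum.zeroLocus (idemIn p) := by
  apply Set.Subset.antisymm
  · intro q hq e he
    have h1 : connectedComponent p ⊆ PrimeSpectrum.zeroLocus {e} :=
      (PrimeSpectrum.isClopen_iff_zeroLocus.2 ⟨e, he.1, rfl⟩).connectedComponent_subset
        (by rw [PrimeSpectrum.mem_zeroLocus, Set.singleton_subset_iff]; exact he.2)
    exact h1 hq rfl
  · let I := Ideal.span (idemIn p)
    haveI : PreconnectedSpace (PrimeSpectrum (R ⧸ I)) := by
      rw [preconnectedSpace_iff_clopen]
      intro U hU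
      obtain ⟨e, he, rfl⟩ := PrimeSpectrum.isClopen_iff.1 hU
      obtain ⟨x, rfl⟩ := Ideal.Quotient.mk_surjective e
      obtain ⟨a, ⟨ha, hap⟩, hax⟩ := exists_idempotent_of_mem_span p
        (Ideal.Quotient.eq.1 (by rw [map_mul]; exact he.eq) : x * x - x ∈ I)
      have hr : IsIdempotentElem ((1 - a) * x) := by
        unfold IsIdempotentElem
        linear_combination (x * x) * ha.eq - hax
      have hrx : Ideal.Quotient.mk I ((1 - a) * x) = Ideal.Quotient.mk I x := by
        rw [Ideal.Quotient.eq]
        have : (1 - a) * x - x = -x * a := by ring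
        rw [this]
        exact Ideal.mul_mem_left _ _ (Ideal.subset_span ⟨ha, hap⟩)
      rw [← hrx]
      rcases mem_span_or p hr with h | h
      · left
        rw [Ideal.Quotient.eq_zero_iff_mem.2 h, PrimeSpectrum.basicOpen_zero]
        rfl
      · right
        have h1 : Ideal.Quotient.mk I ((1 - a) * x) = 1 := by
          rw [← map_one (Ideal.Quotient.mk I)]
          exact (Ideal.Quotient.eq.2 h).symm
        rw [h1, PrimeSpectrum.basicOpen_one]
        rfl
    have hc := isPreconnected_range (PrimeSpectrum.continuous_comap (Ideal.Quotient.mk I))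
    rw [range_comap_of_surjective _ _ Ideal.Quotient.mk_surjective, Ideal.mk_ker,
      PrimeSpectrum.zeroLocus_span] at hc
    exact hc.subset_connectedComponent (fun e he => he.2)


/-- For a ring R and a point p of Spec R, the connected component of p is the zero locus of the ideal I
generated by the idempotents of R contained in p, and every idempotent e of R satisfies e ∈ I or 1 -
e ∈ I (e maps to 0 or 1 in R/I). -/
theorem result {R : Type u} [CommRing R] (p : PrimeSpectrum R) :
    connectedComponent p = PrimeSpectrum.zeroLocus {e : R | IsIdempotentElem e ∧ e ∈ p.asIdeal} ∧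
      ∀ e : R, IsIdempotentElem e → (e ∈ Ideal.span {e : R | IsIdempotentElem e ∧ e ∈ p.asIdeal} ∨ 1 - e ∈ Ideal.span {e : R | IsIdempotentElem e ∧ e ∈ p.asIdeal}) :=
  ⟨connectedComponent_eq p, fun _ he => mem_span_or p he⟩

end Groth.Agent.S9620
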