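import Groth.Statements.S9618
import Groth.Agent.S9620
import Mathlib.RingTheory.Spectrum.Prime.Topology

set_option autoImplicit false
universe u
open CAlg

namespace Groth.Agent.S9618

/-- For a ring R and a subset T of Spec R the following are equivalent: (1) T is closed and contains the
connected component of each of its points; (2) T can be written as an intersection of subsets of
Spec R that are both open and closed; (3) T is the common zero locus of some set of idempotent
elements of R (equivalently, of the ideal they generate). -/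
theorem result {R : Type u} [CommRing R] (T : Set (PrimeSpectrum R)) :
    [IsClosed T ∧ ∀ x ∈ T, connectedComponent x ⊆ T,
      ∃ U : Set (Set (PrimeSpectrum R)), (∀ u ∈ U, IsClopen u) ∧ T = ⋂₀ U,
      ∃ E : Set R, (∀ e ∈ E, IsIdempotentElem e) ∧ T = PrimeSpectrum.zeroLocus E].TFAE := by
  classical
  tfae_have 1 → 2 := by
    rintro ⟨hT, hC⟩
    refine ⟨{u | IsClopen u ∧ T ⊆ u}, fun u hu => hu.1, ?_⟩
    apply Set.Subset.antisymm
    · exact fun x hx u hu => hu.2 hx
    intro q hq
    by_contra hqT
    have hdisj : T ∩ ⋂ e : Groth.Agent.S9620.idemIn q, PrimeSpectrum.zeroLocus {(e : R)} = ∅ := by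
      refine Set.eq_empty_of_forall_notMem fun x ⟨hxT, hx⟩ => hqT ?_
      have h1 : x ∈ connectedComponent q := by
        rw [Groth.Agent.S9620.connectedComponent_eq]
        intro e he
        exact (Set.mem_iInter.1 hx ⟨e, he⟩) rfl
      exact hC x hxT (connectedComponent_eq h1 ▸ mem_connectedComponent)
    obtain ⟨t, ht⟩ := hT.isCompact.elim_finite_subfamily_closed
      (fun e : Groth.Agent.S9620.idemIn q => PrimeSpectrum.zeroLocus {(e : R)})
      (fun e => PrimeSpectrum.isClosed_zeroLocus _) hdisj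
    let V : Set (PrimeSpectrum R) := ⋂ e ∈ t, PrimeSpectrum.zeroLocus {(e : R)}
    have hV : IsClopen V := isClopen_biInter_finset fun e _ =>
      PrimeSpectrum.isClopen_iff_zeroLocus.2 ⟨e, e.2.1, rfl⟩
    have hqV : q ∈ V := Set.mem_iInter₂.2 fun e _ =>
      by rw [PrimeSpectrum.mem_zeroLocus, Set.singleton_subset_iff]; exact e.2.2
    have hu : Vᶜ ∈ {u | IsClopen u ∧ T ⊆ u} := ⟨hV.compl, fun x hx hxV => by
      have h1 : x ∈ T ∩ V := ⟨hx, hxV⟩
      rw [ht] at h1
      exact h1⟩
    exact hq _ hu hqV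
  tfae_have 2 → 3 := by
    rintro ⟨U, hU, rfl⟩
    refine ⟨{e | IsIdempotentElem e ∧ ⋂₀ U ⊆ PrimeSpectrum.zeroLocus {e}}, fun e he => he.1, ?_⟩
    apply Set.Subset.antisymm
    · exact fun x hx e he => he.2 hx rfl
    · intro x hx u hu
      obtain ⟨e, he, rfl⟩ := PrimeSpectrum.isClopen_iff_zeroLocus.1 (hU u hu)
      rw [PrimeSpectrum.mem_zeroLocus, Set.singleton_subset_iff]
      exact hx ⟨he, fun y hy => hy _ hu⟩
  tfae_have 3 → 1 := by
    rintro ⟨E, hE, rfl⟩
    refine ⟨PrimeSpectrum.isClosed_zeroLocus _, fun x hx y hy => ?_⟩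
    rw [Groth.Agent.S9620.connectedComponent_eq] at hy
    exact fun e he => hy ⟨hE e he, hx he⟩
  tfae_finish

end Groth.Agent.S9618
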