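import Groth.Statements.S9619
import Mathlib.RingTheory.Spectrum.Prime.Basic

set_option autoImplicit false
universe u
open CAlg

namespace Groth.Agent.S9619

/-- For a ring R and two sets E, E' of idempotent elements of R with the same zero locus in Spec R, the
ideals generated by E and by E' are equal. -/
theorem result {R : Type u} [CommRing R] (E E' : Set R) (hE : ∀ e ∈ E, IsIdempotentElem e) (hE' : ∀ e ∈ E', IsIdempotentElem e) (h : PrimeSpectrum.zeroLocus E = PrimeSpectrum.zeroLocus E') :
    Ideal.span E = Ideal.span E' := by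
  have key : ∀ F F' : Set R, (∀ e ∈ F, IsIdempotentElem e) →
      PrimeSpectrum.zeroLocus F' ⊆ PrimeSpectrum.zeroLocus F → Ideal.span F ≤ Ideal.span F' := by
    intro F F' hF hle
    refine Ideal.span_le.2 fun e he => ?_
    have h1 : e ∈ (Ideal.span F').radical := by
      rw [Ideal.radical_eq_sInf, Ideal.mem_sInf]
      rintro p ⟨hp, hprime⟩
      exact hle (show (⟨p, hprime⟩ : PrimeSpectrum R) ∈ _ from fun x hx => hp (Ideal.subset_span hx)) he
    obtain ⟨n, hn⟩ := h1
    rcases Nat.eq_zero_or_pos n with rfl | hn0
    · rw [pow_zero] at hn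
      exact (Ideal.eq_top_iff_one _).2 hn ▸ trivial
    · rwa [(hF e he).pow_eq hn0.ne'] at hn
  exact le_antisymm (key E E' hE h.ge) (key E' E hE' h.le)

end Groth.Agent.S9619
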