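import Groth.Statements.S9621
import Mathlib.RingTheory.Spectrum.Prime.Topology

set_option autoImplicit false
universe u
open CAlg

namespace Groth.Agent.S9621

/-- Let R be a ring, p a minimal prime of R and W a quasi-compact open subset of Spec R not containing
p. Then there is an f ∈ R, f ∉ p, whose basic open D(f) is disjoint from W. -/
theorem result {R : Type u} [CommRing R] (p : PrimeSpectrum R) (hp : p.asIdeal ∈ minimalPrimes R) (W : Set (PrimeSpectrum R)) (hWo : IsOpen W) (hWc : IsCompact W) (hpW : p ∉ W) :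
    ∃ f : R, f ∉ p.asIdeal ∧ Disjoint (PrimeSpectrum.basicOpen f : Set (PrimeSpectrum R)) W := by
  classical
  obtain ⟨t, ht⟩ := PrimeSpectrum.isCompact_isOpen_iff.1 ⟨hWc, hWo⟩
  have htp : ∀ g ∈ t, g ∈ p.asIdeal := by
    intro g hg
    have : p ∈ PrimeSpectrum.zeroLocus (t : Set R) := by
      by_contra h
      exact hpW (ht ▸ h)
    exact this hg
  have key : ∀ g ∈ t, ∃ s ∉ p.asIdeal, IsNilpotent (s * g) := by
    intro g hg
    let S : Submonoid R := p.asIdeal.primeCompl ⊔ Submonoid.powers g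
    by_cases h0 : (0 : R) ∈ S
    · obtain ⟨s, hs, y, ⟨n, rfl⟩, hsy⟩ := Submonoid.mem_sup.1 h0
      refine ⟨s, hs, n + 1, ?_⟩
      change s * g ^ n = 0 at hsy
      rw [mul_pow, pow_succ' s, pow_succ g]
      linear_combination s ^ n * g * hsy
    · obtain ⟨q, hq, -, hdisj⟩ := Ideal.exists_le_prime_disjoint (⊥ : Ideal R) S (by
        rw [Submodule.bot_coe, Set.disjoint_singleton_left]; exact h0)
      exfalso
      have hle : q ≤ p.asIdeal := fun x hx => by
        by_contra hxp
        exact Set.disjoint_left.1 hdisj hx (Submonoid.mem_sup_left hxp)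
      have := hp.2 ⟨hq, bot_le⟩ hle
      exact Set.disjoint_left.1 hdisj (this (htp g hg))
        (Submonoid.mem_sup_right (Submonoid.mem_powers g))
  choose! s hs hnil using key
  refine ⟨∏ g ∈ t, s g, fun h => ?_, ?_⟩
  · obtain ⟨g, hg, hgp⟩ := p.2.prod_mem_iff.1 h
    exact hs g hg hgp
  · rw [Set.disjoint_left]
    intro x hx hxW
    rw [← ht, Set.mem_compl_iff, PrimeSpectrum.mem_zeroLocus] at hxW
    obtain ⟨g, hg, hgx⟩ := Set.not_subset.1 hxW
    have h1 : s g * g ∈ x.asIdeal := by
      obtain ⟨n, hn⟩ := hnil g hg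
      exact x.2.mem_of_pow_mem n (hn ▸ x.asIdeal.zero_mem)
    rcases x.2.mem_or_mem h1 with h | h
    · exact hx (x.2.prod_mem_iff.2 ⟨g, hg, h⟩)
    · exact hgx h

end Groth.Agent.S9621
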