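import Groth.Statements.S9622
import Mathlib.RingTheory.FiniteType
import Mathlib.RingTheory.HopkinsLevitzki
import Mathlib.RingTheory.Artinian.Ring

set_option autoImplicit false
universe u
open CAlg

namespace Groth.Agent.S9622

/-- Let R → S be a ring map whose target S is a local Artinian ring, and write m for the maximal ideal
of S. Then S is a finite R-module exactly when S/m is, and S is an R-algebra of finite type exactly
when S/m is. -/
theorem result {R S : Type u} [CommRing R] [CommRing S] [Algebra R S] [IsArtinianRing S] [IsLocalRing S] :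
    (Module.Finite R S ↔ Module.Finite R (S ⧸ IsLocalRing.maximalIdeal S)) ∧
      (Algebra.FiniteType R S ↔ Algebra.FiniteType R (S ⧸ IsLocalRing.maximalIdeal S)) := by
  classical
  haveI : IsNoetherianRing S := inferInstance
  obtain ⟨g, hg⟩ := (inferInstance : IsNoetherianRing S).noetherian (IsLocalRing.maximalIdeal S)
  obtain ⟨k, hk⟩ : IsNilpotent (IsLocalRing.maximalIdeal S) := by
    rw [← IsLocalRing.jacobson_eq_maximalIdeal (⊥ : Ideal S) bot_ne_top]
    exact IsArtinianRing.isNilpotent_jacobson_bot
  constructor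
  · refine ⟨fun _ => inferInstance, fun h => ?_⟩
    obtain ⟨T, hT⟩ := h.fg_top
    choose lift hlift using fun q : S ⧸ IsLocalRing.maximalIdeal S =>
      Ideal.Quotient.mk_surjective q
    let N : Submodule R S := Submodule.span R (lift '' T)
    have h1 : ∀ x : S, ∃ y ∈ N, x - y ∈ IsLocalRing.maximalIdeal S := by
      intro x
      have hx : Ideal.Quotient.mk (IsLocalRing.maximalIdeal S) x ∈ Submodule.span R
          ((Ideal.Quotient.mkₐ R (IsLocalRing.maximalIdeal S)).toLinearMap '' (lift '' T)) := by
        rw [Set.image_image]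
        simp [hlift, hT]
      rw [← Submodule.map_span] at hx
      obtain ⟨y, hy, hyx⟩ := hx
      exact ⟨y, hy, Ideal.Quotient.eq.1 hyx.symm⟩
    have key : ∀ j : ℕ, ∃ L : Submodule R S, L.FG ∧
        ∀ x : S, ∃ y ∈ L, x - y ∈ IsLocalRing.maximalIdeal S ^ j := by
      intro j
      induction j with
      | zero => exact ⟨⊥, Submodule.fg_bot, fun x => ⟨0, zero_mem _, by simp⟩⟩
      | succ j ih =>
        obtain ⟨L, hL, hx⟩ := ih
        have hN : N.FG := Submodule.fg_span ((T.finite_toSet).image _)
        refine ⟨N ⊔ Submodule.span R (g : Set S) * L,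
          hN.sup (Submodule.FG.mul (Submodule.fg_span g.finite_toSet) hL), fun x => ?_⟩
        obtain ⟨y, hy, hxy⟩ := h1 x
        rw [← hg] at hxy
        obtain ⟨c, hc⟩ := (Submodule.mem_span_finset').1 hxy
        choose z hz hcz using fun i => hx (c i)
        refine ⟨y + ∑ i : g, (i : S) * z i, add_mem (Submodule.mem_sup_left hy)
          (Submodule.mem_sup_right (Submodule.sum_mem _ fun i _ =>
            Submodule.mul_mem_mul (Submodule.subset_span i.2) (hz i))), ?_⟩
        have h2 : x - (y + ∑ i : g, (i : S) * z i) = ∑ i : g, (i : S) * (c i - z i) := by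
          simp only [mul_sub, Finset.sum_sub_distrib, smul_eq_mul] at hc ⊢
          rw [← sub_sub, ← hc]
          simp only [mul_comm]
        rw [h2]
        refine Ideal.sum_mem _ fun i _ => ?_
        rw [pow_succ']
        exact Ideal.mul_mem_mul (hg ▸ Ideal.subset_span i.2) (hcz i)
    obtain ⟨L, hL, hx⟩ := key k
    refine ⟨?_⟩
    convert hL
    refine (eq_top_iff.2 fun x _ => ?_).symm
    obtain ⟨y, hy, hxy⟩ := hx x
    rw [hk, Ideal.zero_eq_bot, Ideal.mem_bot, sub_eq_zero] at hxy
    exact hxy ▸ hy
  · refine ⟨fun h => h.of_surjective (Ideal.Quotient.mkₐ R _) Ideal.Quotient.mk_surjective,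
      fun h => ?_⟩
    obtain ⟨T, hT⟩ := h.out
    choose lift hlift using fun q : S ⧸ IsLocalRing.maximalIdeal S =>
      Ideal.Quotient.mk_surjective q
    let B := Algebra.adjoin R ((T.image lift ∪ g : Finset S) : Set S)
    have h1 : ∀ x : S, ∃ y ∈ B, x - y ∈ IsLocalRing.maximalIdeal S := by
      intro x
      have hmap : B.map (Ideal.Quotient.mkₐ R (IsLocalRing.maximalIdeal S)) = ⊤ := by
        rw [AlgHom.map_adjoin, eq_top_iff, ← hT]
        refine Algebra.adjoin_mono fun t ht => ⟨lift t, ?_, hlift t⟩
        simp only [Finset.coe_union, Finset.coe_image]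
        exact Or.inl ⟨t, ht, rfl⟩
      obtain ⟨y, hy, hyx⟩ := (hmap ▸ Algebra.mem_top :
        Ideal.Quotient.mkₐ R _ x ∈ B.map (Ideal.Quotient.mkₐ R (IsLocalRing.maximalIdeal S)))
      exact ⟨y, hy, Ideal.Quotient.eq.1 hyx.symm⟩
    have key : ∀ j : ℕ, ∀ x : S, ∃ y ∈ B, x - y ∈ IsLocalRing.maximalIdeal S ^ j := by
      intro j
      induction j with
      | zero => exact fun x => ⟨0, zero_mem _, by simp⟩
      | succ j ih =>
        intro x
        obtain ⟨y, hy, hxy⟩ := h1 x
        rw [← hg] at hxy
        obtain ⟨c, hc⟩ := (Submodule.mem_span_finset').1 hxy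
        choose z hz hcz using fun i => ih (c i)
        refine ⟨y + ∑ i : g, (i : S) * z i, add_mem hy (sum_mem fun i _ => mul_mem
          (Algebra.subset_adjoin (Finset.mem_union_right _ i.2)) (hz i)), ?_⟩
        have h2 : x - (y + ∑ i : g, (i : S) * z i) = ∑ i : g, (i : S) * (c i - z i) := by
          simp only [mul_sub, Finset.sum_sub_distrib, smul_eq_mul] at hc ⊢
          rw [← sub_sub, ← hc]
          simp only [mul_comm]
        rw [h2]
        refine Ideal.sum_mem _ fun i _ => ?_
        rw [pow_succ']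
        exact Ideal.mul_mem_mul (hg ▸ Ideal.subset_span i.2) (hcz i)
    refine ⟨⟨T.image lift ∪ g, eq_top_iff.2 fun x _ => ?_⟩⟩
    obtain ⟨y, hy, hxy⟩ := key k x
    rw [hk, Ideal.zero_eq_bot, Ideal.mem_bot, sub_eq_zero] at hxy
    exact hxy ▸ hy

end Groth.Agent.S9622
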