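import Groth.Statements.S9624
import Groth.Agent.Lib.GeomIrrAlg.Fibres
-- import your own Groth.Agent.* helpers here

set_option autoImplicit false
universe u
open CAlg

namespace Groth.Agent.S9624

open TensorProduct in
/-- Let k be a field, S a geometrically connected k-algebra (the spectrum of k' ⊗_k S is connected for
every field extension k'/k) and R any k-algebra. Then the map R → R ⊗_k S induces a bijection on
idempotents: each idempotent of R ⊗_k S comes from exactly one idempotent of R. Here the test fields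
range over field extensions in the universe of k; this is equivalent to the unrestricted notion,
since an algebraic closure of k suffices as a test. -/
theorem result {k R S : Type u} [Field k] [CommRing R] [CommRing S] [Algebra k R] [Algebra k S]
    (hS : ∀ (k' : Type u) [Field k'] [Algebra k k'], ConnectedSpace (PrimeSpectrum (k' ⊗[k] S)))
    (x : R ⊗[k] S) (hx : IsIdempotentElem x) :
    ∃! e : R, IsIdempotentElem e ∧ algebraMap R (R ⊗[k] S) e = x := by
  let B := R ⊗[k] S
  let π := PrimeSpectrum.comap (algebraMap R (R ⊗[k] S))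
  have hfib := GrothLib.GeomIrrAlg.isConnected_fibre (R := R) hS
  have hopen : IsOpenMap π := GrothLib.GeomIrrAlg.isOpenMap_comap k R S
  have hsurj : Function.Surjective π := fun p => (hfib p).nonempty
  let C : Set (PrimeSpectrum (R ⊗[k] S)) := PrimeSpectrum.basicOpen x
  have hC : IsClopen C :=
    PrimeSpectrum.isClopen_iff_mul_add.2 ⟨x, 1 - x, by rw [mul_sub, mul_one, hx.eq, sub_self], by ring, rfl⟩
  have hsat : ∀ z w, π z = π w → z ∈ C → w ∈ C := fun z w h hz =>
    (hfib (π z)).isPreconnected.subset_isClopen hC ⟨z, rfl, hz⟩ h.symm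
  have hcompl : (π '' C)ᶜ = π '' Cᶜ := by
    ext p
    constructor
    · intro hp
      obtain ⟨z, rfl⟩ := hsurj p
      exact ⟨z, fun hz => hp ⟨z, hz, rfl⟩, rfl⟩
    · rintro ⟨z, hz, rfl⟩ ⟨w, hw, hwz⟩
      exact hz (hsat w z hwz hw)
  have hD : IsClopen (π '' C) :=
    ⟨isOpen_compl_iff.1 (hcompl ▸ hopen _ hC.isClosed.isOpen_compl), hopen _ hC.isOpen⟩
  obtain ⟨e, f, hef, hsum, he⟩ := PrimeSpectrum.isClopen_iff_mul_add.1 hD
  have hei : IsIdempotentElem e := (IsIdempotentElem.of_mul_add hef hsum).1
  have : Nontrivial S := by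
    obtain ⟨q⟩ := (hS k).toNonempty
    by_contra hn
    rw [not_nontrivial_iff_subsingleton] at hn
    have : Subsingleton (k ⊗[k] S) := (Algebra.TensorProduct.lid k S).toEquiv.subsingleton
    exact q.isPrime.ne_top (Subsingleton.elim _ _)
  have hinj : Function.Injective (algebraMap R (R ⊗[k] S)) :=
    Algebra.TensorProduct.includeLeft_injective (S := k) (algebraMap k S).injective
  have hex : algebraMap R (R ⊗[k] S) e = x := by
    refine PrimeSpectrum.basicOpen_injOn_isIdempotentElem (hei.map (algebraMap R (R ⊗[k] S))) hx ?_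
    refine SetLike.ext' (Set.ext fun z => ?_)
    change z ∈ π ⁻¹' (PrimeSpectrum.basicOpen e : Set (PrimeSpectrum R)) ↔ z ∈ C
    rw [← he]
    exact ⟨fun ⟨w, hw, h⟩ => hsat w z h hw, fun hz => ⟨z, hz, rfl⟩⟩
  exact ⟨e, ⟨hei, hex⟩, fun e' he' => hinj (he'.2.trans hex.symm)⟩

end Groth.Agent.S9624
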