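import Groth.Statements.S9626
import Groth.Agent.Lib.GeomIrrAlg.Fibres
import Mathlib.RingTheory.Ideal.GoingDown
-- import your own Groth.Agent.* helpers here

set_option autoImplicit false
universe u
open CAlg

namespace Groth.Agent.S9626

open TensorProduct in
/-- Let k be a field, S a k-algebra with Spec(k' ⊗_k S) irreducible for every field extension k'/k, and
R any k-algebra. Then Spec(R ⊗_k S) → Spec(R) induces a bijection on irreducible components: taking
inverse images along R → R ⊗_k S maps the set of minimal primes of R ⊗_k S bijectively onto the set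
of minimal primes of R. Here the test fields range over field extensions in the universe of k; this
is equivalent to the unrestricted notion, since an algebraic closure of k suffices as a test. -/
theorem result {k R S : Type u} [Field k] [CommRing R] [CommRing S] [Algebra k R] [Algebra k S]
    (hS : ∀ (k' : Type u) [Field k'] [Algebra k k'], IrreducibleSpace (PrimeSpectrum (k' ⊗[k] S))) :
    Set.BijOn (Ideal.comap (algebraMap R (R ⊗[k] S))) (minimalPrimes (R ⊗[k] S)) (minimalPrimes R) := by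
  have hirr := fun (Z : Set (PrimeSpectrum R)) (hZ : IsIrreducible Z) =>
    GrothLib.GeomIrrAlg.isIrreducible_preimage hS hZ
  let π := PrimeSpectrum.comap (algebraMap R (R ⊗[k] S))
  have hmin : ∀ Q ∈ minimalPrimes (R ⊗[k] S), Q.comap (algebraMap R (R ⊗[k] S)) ∈ minimalPrimes R := by
    intro Q hQ
    have : Q.IsPrime := hQ.1.1
    refine ⟨⟨inferInstance, bot_le⟩, fun p' hp' hle => ?_⟩
    have : p'.IsPrime := hp'.1
    obtain ⟨Q', hQ', hQ'p, hQ'o⟩ := Ideal.exists_ideal_le_liesOver_of_le (p := p') (q := Q.comap (algebraMap R (R ⊗[k] S))) Q hle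
    exact le_of_eq ((congrArg (Ideal.comap (algebraMap R (R ⊗[k] S))) (le_antisymm (hQ.2 ⟨hQ'p, bot_le⟩ hQ') hQ')).trans hQ'o.over.symm)
  refine ⟨hmin, ?_, ?_⟩
  · intro Q₁ h₁ Q₂ h₂ h
    have := h₁.1.1
    have := h₂.1.1
    have hZ := hirr (closure {π ⟨Q₁, h₁.1.1⟩}) isIrreducible_singleton.closure
    obtain ⟨G, hG⟩ := QuasiSober.sober hZ (isClosed_closure.preimage (PrimeSpectrum.continuous_comap _))
    have key : ∀ (Q : Ideal (R ⊗[k] S)) (hQ : Q ∈ minimalPrimes (R ⊗[k] S)),
        π ⟨Q, hQ.1.1⟩ = π ⟨Q₁, h₁.1.1⟩ → Q = G.asIdeal := fun Q hQ hπ => by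
      have hs : G ⤳ ⟨Q, hQ.1.1⟩ := hG.specializes (show π ⟨Q, hQ.1.1⟩ ∈ closure _ from hπ ▸ subset_closure rfl)
      have hle : G.asIdeal ≤ Q := (PrimeSpectrum.le_iff_specializes G ⟨Q, hQ.1.1⟩).2 hs
      exact le_antisymm (hQ.2 ⟨G.isPrime, bot_le⟩ hle) hle
    exact (key Q₁ h₁ rfl).trans (key Q₂ h₂ (PrimeSpectrum.ext h.symm)).symm
  · intro p hp
    have : p.IsPrime := hp.1.1
    obtain ⟨z, hz⟩ := (hirr {(⟨p, this⟩ : PrimeSpectrum R)} isIrreducible_singleton).nonempty
    obtain ⟨Q, hQ, hQle⟩ := Ideal.exists_minimalPrimes_le (show (⊥ : Ideal (R ⊗[k] S)) ≤ z.asIdeal from bot_le)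
    refine ⟨Q, hQ, ?_⟩
    have : Q.IsPrime := hQ.1.1
    have hle : Q.comap (algebraMap R (R ⊗[k] S)) ≤ p :=
      (Ideal.comap_mono hQle).trans (le_of_eq (congrArg PrimeSpectrum.asIdeal hz))
    exact le_antisymm hle (hp.2 ⟨inferInstance, bot_le⟩ hle)

end Groth.Agent.S9626
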