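import Groth.Statements.S9636
import Mathlib
-- import your own Groth.Agent.* helpers here

set_option autoImplicit false
universe u
open CAlg

namespace Groth.Agent.S9636

open TensorProduct in
/-- Let k'/k be a separable algebraic field extension. Then for some multiplicative subset S of k' ⊗_k
k' the multiplication map k' ⊗_k k' → k' is a localization at S: there is a ring isomorphism S⁻¹(k'
⊗_k k') ≅ k' carrying the localization map to the multiplication map. -/
theorem result {k k' : Type u} [Field k] [Field k'] [Algebra k k'] [Algebra.IsSeparable k k'] :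
    ∃ (S : Submonoid (k' ⊗[k] k')) (e : Localization S ≃+* k'), ∀ x : k' ⊗[k] k', e (algebraMap (k' ⊗[k] k') (Localization S) x) = Algebra.TensorProduct.lmul' (S := k') k x := by
  classical
  let μ : k' ⊗[k] k' →ₐ[k] k' := Algebra.TensorProduct.lmul' k
  let S : Submonoid (k' ⊗[k] k') := Submonoid.comap μ.toRingHom.toMonoidHom (nonZeroDivisors k')
  have hS : ∀ x, x ∈ S ↔ μ x ≠ 0 := fun x => mem_nonZeroDivisors_iff_ne_zero
  let Z : Ideal (k' ⊗[k] k') :=
    { carrier := {x | ∃ s ∈ S, s * x = 0}
      zero_mem' := ⟨1, one_mem S, mul_zero _⟩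
      add_mem' := by
        rintro x y ⟨s, hs, hsx⟩ ⟨t, ht, hty⟩
        exact ⟨s * t, mul_mem hs ht, by linear_combination t * hsx + s * hty⟩
      smul_mem' := by
        rintro c x ⟨s, hs, hsx⟩
        exact ⟨s, hs, by rw [smul_eq_mul]; linear_combination c * hsx⟩ }
  have hker : ∀ x, μ x = 0 → x ∈ Z := by
    intro x hx
    have hle : KaehlerDifferential.ideal k k' ≤ Z := by
      rw [← KaehlerDifferential.span_range_eq_ideal, Ideal.span_le]
      rintro _ ⟨a, rfl⟩
      set u := (1 : k') ⊗ₜ[k] a
      set v := a ⊗ₜ[k] (1 : k')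
      have hu : Polynomial.aeval u (minpoly k a) = 0 := by
        rw [show u = Algebra.TensorProduct.includeRight a from rfl, Polynomial.aeval_algHom_apply,
          minpoly.aeval, map_zero]
      have hv : Polynomial.aeval v (minpoly k a) = 0 := by
        rw [show v = (Algebra.TensorProduct.includeLeft : k' →ₐ[k] k' ⊗[k] k') a from rfl,
          Polynomial.aeval_algHom_apply, minpoly.aeval, map_zero]
      let F : Polynomial (k' ⊗[k] k') := (minpoly k a).map (algebraMap k (k' ⊗[k] k'))
      obtain ⟨z, hz⟩ := Polynomial.binomExpansion F v (u - v)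
      rw [add_sub_cancel, Polynomial.eval_map_algebraMap, Polynomial.eval_map_algebraMap, hu, hv,
        Polynomial.derivative_map, Polynomial.eval_map_algebraMap, zero_add] at hz
      refine ⟨Polynomial.aeval v (Polynomial.derivative (minpoly k a)) + z * (u - v), ?_, ?_⟩
      · rw [hS, map_add, map_mul, map_sub, ← Polynomial.aeval_algHom_apply]
        simp only [u, v, μ, Algebra.TensorProduct.lmul'_apply_tmul, mul_one, one_mul, sub_self, mul_zero, add_zero]
        exact (Algebra.IsSeparable.isSeparable k a).aeval_derivative_ne_zero (minpoly.aeval k a)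
      · linear_combination -hz
    exact hle hx
  letI : Algebra (k' ⊗[k] k') k' := μ.toRingHom.toAlgebra
  haveI : IsLocalization S k' := by
    refine (isLocalization_iff S k').mpr ⟨?_, ?_, ?_⟩
    · intro y; exact isUnit_iff_ne_zero.mpr ((hS y.1).mp y.2)
    · intro z
      exact ⟨(z ⊗ₜ[k] (1 : k'), 1), by
        show z * μ ((1 : S) : k' ⊗[k] k') = μ (z ⊗ₜ[k] (1 : k'))
        simp [μ]⟩
    · intro x y hxy
      obtain ⟨s, hs, h0⟩ := hker (x - y) (by rw [map_sub, sub_eq_zero]; exact hxy)
      exact ⟨⟨s, hs⟩, by linear_combination h0⟩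
  exact ⟨S, (IsLocalization.algEquiv S (Localization S) k').toRingEquiv, fun x =>
    (IsLocalization.algEquiv S (Localization S) k').commutes x⟩

end Groth.Agent.S9636
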