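import Groth.Statements.S9639
import Mathlib.RingTheory.Spectrum.Prime.Topology
import Mathlib.RingTheory.Flat.Basic
-- import your own Groth.Agent.* helpers here

set_option autoImplicit false
universe u
open CAlg

namespace Groth.Agent.S9639

open TensorProduct in
/-- Let k be a field and S a k-algebra such that Spec(k' ⊗_k S) is connected for every field extension
k'/k. Then every k-subalgebra of S has the same property. Here the test fields range over field
extensions in the universe of k; this is equivalent to the unrestricted notion, since an algebraic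
closure of k suffices as a test. -/
theorem result {k S : Type u} [Field k] [CommRing S] [Algebra k S]
    (hS : ∀ (k' : Type u) [Field k'] [Algebra k k'], ConnectedSpace (PrimeSpectrum (k' ⊗[k] S))) (S' : Subalgebra k S) :
    ∀ (k' : Type u) [Field k'] [Algebra k k'], ConnectedSpace (PrimeSpectrum (k' ⊗[k] S')) := by
  intro k' _ _
  let f : k' ⊗[k] S' →ₐ[k] k' ⊗[k] S := Algebra.TensorProduct.map (AlgHom.id k k') S'.val
  have hf : Function.Injective f :=
    Module.Flat.lTensor_preserves_injective_linearMap (M := k') S'.val.toLinearMap Subtype.val_injective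
  have h := hS k'
  obtain ⟨q⟩ := h.toNonempty
  have : Nonempty (PrimeSpectrum (k' ⊗[k] S')) := ⟨PrimeSpectrum.comap f.toRingHom q⟩
  have : PreconnectedSpace (PrimeSpectrum (k' ⊗[k] S')) := by
    rw [preconnectedSpace_iff_clopen]
    intro C hC
    obtain ⟨e, g, heg, hsum, rfl⟩ := PrimeSpectrum.isClopen_iff_mul_add.1 hC
    have he := ((IsIdempotentElem.of_mul_add heg hsum).1).map f
    have hcl : IsClopen (PrimeSpectrum.basicOpen (f e) : Set (PrimeSpectrum (k' ⊗[k] S))) :=
      PrimeSpectrum.isClopen_iff_mul_add.2 ⟨f e, 1 - f e, by rw [mul_sub, mul_one, he.eq, sub_self], by ring, rfl⟩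
    rcases isClopen_iff.1 hcl with h0 | h1
    · have h2 : f e = 0 := PrimeSpectrum.basicOpen_injOn_isIdempotentElem he IsIdempotentElem.zero
        (SetLike.ext' (h0.trans (by simp)))
      rw [hf (h2.trans (map_zero f).symm)]
      exact Or.inl (by simp)
    · have h2 : f e = 1 := PrimeSpectrum.basicOpen_injOn_isIdempotentElem he IsIdempotentElem.one
        (SetLike.ext' (h1.trans (by simp)))
      rw [hf (h2.trans (map_one f).symm)]
      exact Or.inr (by simp)
  exact ⟨inferInstance⟩

end Groth.Agent.S9639
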