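import Groth.Statements.S9640
import Mathlib
import Groth.Agent.S9585
import Groth.Agent.S9589
-- import your own Groth.Agent.* helpers here

set_option autoImplicit false
universe u
open CAlg

namespace Groth.Agent.S9640

/-- Let R → S be a ring map with R a domain with fraction field K and N an S-module flat over R. Writing
T for the image in S of the nonzero elements of R, so that T⁻¹S = S ⊗_R K and T⁻¹N = N ⊗_R K, the
primes of S weakly associated to N are exactly the inverse images in S of the primes of T⁻¹S weakly
associated to T⁻¹N. -/
theorem result {R S : Type u} [CommRing R] [IsDomain R] [CommRing S] [Algebra R S] (N : Type u) [AddCommGroup N] [Module S N] [Module R N] [IsScalarTower R S N] [Module.Flat R N] :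
    FlatCA.weakAss S N = Ideal.comap (algebraMap S (Localization (Algebra.algebraMapSubmonoid S (nonZeroDivisors R)))) '' FlatCA.weakAss (Localization (Algebra.algebraMapSubmonoid S (nonZeroDivisors R))) (LocalizedModule (Algebra.algebraMapSubmonoid S (nonZeroDivisors R)) N) := by
  set T := Algebra.algebraMapSubmonoid S (nonZeroDivisors R) with hT
  have hdisj : ∀ p ∈ FlatCA.weakAss S N, Disjoint (T : Set S) (p : Set S) := by
    intro p hp
    rw [Set.disjoint_left]
    intro x hx hxp
    obtain ⟨r, hr, rfl⟩ := hx
    have h : algebraMap R S r ∈ ⋃ q ∈ FlatCA.weakAss S N, (q : Set S) := Set.mem_biUnion hp hxp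
    rw [S9585.result] at h
    refine h ?_
    have hreg : IsSMulRegular N r :=
      Module.Flat.isSMulRegular_of_nonZeroDivisors hr
    intro a b hab
    exact hreg (by simpa [algebraMap_smul] using hab)
  ext p
  constructor
  · intro hp
    haveI : p.IsPrime := by obtain ⟨m, hm⟩ := hp; exact hm.1.1
    refine ⟨_, (S9589.result T N p (hdisj p hp)).1 hp, ?_⟩
    exact IsLocalization.comap_map_of_isPrime_disjoint T (Localization T) inferInstance (hdisj p hp)
  · rintro ⟨q, hq, rfl⟩
    haveI : q.IsPrime := by obtain ⟨m, hm⟩ := hq; exact hm.1.1
    have hd : Disjoint (T : Set S) (q.comap (algebraMap S (Localization T)) : Set S) :=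
      ((IsLocalization.isPrime_iff_isPrime_disjoint T (Localization T) q).1 inferInstance).2
    refine (S9589.result T N _ hd).2 ?_
    rwa [IsLocalization.map_comap T (Localization T) q]

end Groth.Agent.S9640
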