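import Groth.Statements.S9641
import Mathlib.LinearAlgebra.TensorProduct.Finiteness
import Mathlib.RingTheory.Flat.Basic
import Mathlib.RingTheory.Adjoin.FG
import Mathlib.RingTheory.Nilpotent.Defs
import Mathlib.LinearAlgebra.Basis.VectorSpace

set_option autoImplicit false
universe u
open CAlg

namespace Groth.Agent.S9641

open TensorProduct in
/-- Let k be a field and R, S two k-algebras. If R ⊗_k S is not reduced then there are finitely
generated k-subalgebras R' ⊆ R and S' ⊆ S such that R' ⊗_k S' is not reduced. -/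
theorem result {k R S : Type u} [Field k] [CommRing R] [CommRing S] [Algebra k R] [Algebra k S] (h : ¬ IsReduced (R ⊗[k] S)) :
    ∃ (R' : Subalgebra k R) (S' : Subalgebra k S), R'.FG ∧ S'.FG ∧ ¬ IsReduced (R' ⊗[k] S') := by
  obtain ⟨x, hnil, hx⟩ : ∃ x : R ⊗[k] S, IsNilpotent x ∧ x ≠ 0 := by
    by_contra hc
    push Not at hc
    exact h ⟨hc⟩
  obtain ⟨M, N, hM, hN, hsub⟩ :=
    TensorProduct.exists_finite_submodule_of_setFinite {x} (Set.finite_singleton x)
  obtain ⟨G, hG⟩ := (Module.Finite.iff_fg.1 hM)
  obtain ⟨H, hH⟩ := (Module.Finite.iff_fg.1 hN)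
  let R' := Algebra.adjoin k (G : Set R)
  let S' := Algebra.adjoin k (H : Set S)
  refine ⟨R', S', ⟨G, rfl⟩, ⟨H, rfl⟩, fun hred => hx ?_⟩
  have hMR : M ≤ Subalgebra.toSubmodule R' := hG ▸ Submodule.span_le.2 Algebra.subset_adjoin
  have hNS : N ≤ Subalgebra.toSubmodule S' := hH ▸ Submodule.span_le.2 Algebra.subset_adjoin
  let φ := Algebra.TensorProduct.map R'.val S'.val
  have hinj : Function.Injective φ := by
    have h1 : Function.Injective (TensorProduct.map R'.val.toLinearMap S'.val.toLinearMap) := by
      rw [← LinearMap.rTensor_comp_lTensor]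
      exact (Module.Flat.rTensor_preserves_injective_linearMap _ Subtype.val_injective).comp
        (Module.Flat.lTensor_preserves_injective_linearMap _ Subtype.val_injective)
    exact h1
  obtain ⟨y, hy⟩ := hsub rfl
  let y' : R' ⊗[k] S' := TensorProduct.map (Submodule.inclusion hMR) (Submodule.inclusion hNS) y
  have hy' : φ y' = x := by
    rw [← hy]
    change TensorProduct.map _ _ (TensorProduct.map _ _ y) = _
    rw [TensorProduct.map_map]
    rfl
  have h2 : IsNilpotent y' := by
    obtain ⟨n, hn⟩ := hnil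
    exact ⟨n, hinj (by rw [map_pow, hy', hn, map_zero])⟩
  rw [← hy', h2.eq_zero, map_zero]

end Groth.Agent.S9641
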