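import Groth.Statements.S9642
import Mathlib.RingTheory.Spectrum.Prime.Topology
import Mathlib.RingTheory.Spectrum.Prime.Polynomial
-- import your own Groth.Agent.* helpers here

set_option autoImplicit false
universe u
open CAlg

namespace Groth.Agent.S9642

/-- In the general form stated there: let R → S be a ring map inducing an open map Spec(S) → Spec(R),
with Spec(R) irreducible, such that for a dense set of primes p of R the fibre ring κ(p) ⊗_R S has
irreducible spectrum. Then Spec(S) is irreducible. The flat and finitely presented case is the
special case in which the map on spectra is open by fppf-openness. -/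
theorem result {R S : Type u} [CommRing R] [CommRing S] [Algebra R S]
    (hopen : IsOpenMap (PrimeSpectrum.comap (algebraMap R S))) [IrreducibleSpace (PrimeSpectrum R)]
    (D : Set (PrimeSpectrum R)) (hD : Dense D) (hfib : ∀ p ∈ D, IrreducibleSpace (PrimeSpectrum (p.asIdeal.Fiber S))) :
    IrreducibleSpace (PrimeSpectrum S) := by
  let π := PrimeSpectrum.comap (algebraMap R S)
  have hfibre : ∀ p ∈ D, IsIrreducible (π ⁻¹' {p}) := fun p hp => by
    have := hfib p hp
    have e := PrimeSpectrum.preimageHomeomorphFiber R S p
    have h : IrreducibleSpace ↥(π ⁻¹' {p}) := e.symm.surjective.irreducibleSpace e.symm.continuous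
    have h2 := (IrreducibleSpace.isIrreducible_univ ↥(π ⁻¹' {p})).image (Subtype.val) continuous_subtype_val.continuousOn
    rwa [Set.image_univ, Subtype.range_val] at h2
  obtain ⟨p, hp⟩ := hD.nonempty
  obtain ⟨z, -⟩ := (hfibre p hp).nonempty
  rw [irreducibleSpace_def, Set.top_eq_univ]
  refine ⟨⟨z, trivial⟩, ?_⟩
  rw [← Set.preimage_univ (f := π)]
  refine IsPreirreducible.preimage_of_dense_isPreirreducible_fiber (IrreducibleSpace.isIrreducible_univ _).isPreirreducible π hopen ?_
  rw [Set.univ_inter]
  exact hD.closure_eq.symm.subset.trans (closure_mono fun p hp => (hfibre p hp).isPreirreducible)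

end Groth.Agent.S9642
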