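import Groth.Statements.S9643
import Mathlib
-- import your own Groth.Agent.* helpers here

set_option autoImplicit false
universe u
open CAlg

namespace Groth.Agent.S9643

/-- Let R be a Noetherian ring, M a finite R-module and 0 = M_0 ⊆ M_1 ⊆ ⋯ ⊆ M_n = M a chain of
submodules whose successive quotients M_i/M_{i-1} are isomorphic to R/p_i for prime ideals p_i. Then
the primes minimal among p_1, …, p_n are exactly the primes minimal in the support of M. -/
theorem result {R : Type u} [CommRing R] [IsNoetherianRing R] (M : Type u) [AddCommGroup M] [Module R M] [Module.Finite R M]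
    {n : ℕ} (N : Fin (n + 1) → Submodule R M) (hN : Monotone N) (h0 : N 0 = ⊥) (hlast : N (Fin.last n) = ⊤)
    (p : Fin n → PrimeSpectrum R)
    (hquot : ∀ i : Fin n, Nonempty ((↥(N i.succ) ⧸ Submodule.comap (N i.succ).subtype (N i.castSucc)) ≃ₗ[R] (R ⧸ (p i).asIdeal))) :
    {q : PrimeSpectrum R | Minimal (fun x => x ∈ Set.range p) q} = {q : PrimeSpectrum R | Minimal (fun x => x ∈ Module.support R M) q} := by
  classical
  have key : ∀ j : Fin (n + 1), Module.support R (N j) = {q | ∃ i : Fin n, i.castSucc < j ∧ p i ≤ q} := by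
    intro j
    induction j using Fin.induction with
    | zero =>
      have : Subsingleton (N 0) := by rw [h0]; infer_instance
      rw [Module.support_eq_empty]
      ext q
      simp
    | succ i ih =>
      obtain ⟨e⟩ := hquot i
      have hle : N i.castSucc ≤ N i.succ := hN (Fin.castSucc_le_succ i)
      rw [Module.support_of_exact (f := Submodule.inclusion hle) (g := Submodule.mkQ _)
        (LinearMap.exact_iff.mpr (by rw [Submodule.ker_mkQ, Submodule.range_inclusion]))
        (Submodule.inclusion_injective hle) (Submodule.mkQ_surjective _), ih, e.support_eq, Module.support_of_algebra, Ideal.Quotient.algebraMap_eq, Ideal.mk_ker]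
      ext q
      simp only [Set.mem_union, Set.mem_setOf_eq, PrimeSpectrum.mem_zeroLocus]
      constructor
      · rintro (⟨k, hk, hkq⟩ | h)
        · exact ⟨k, hk.trans Fin.castSucc_lt_succ, hkq⟩
        · exact ⟨i, Fin.castSucc_lt_succ, h⟩
      · rintro ⟨k, hk, hkq⟩
        rcases (Fin.castSucc_lt_succ_iff.mp hk).lt_or_eq with h | h
        · exact Or.inl ⟨k, Fin.castSucc_lt_castSucc_iff.mpr h, hkq⟩
        · exact Or.inr (h ▸ hkq)
  have hM : Module.support R M = {q | ∃ i : Fin n, p i ≤ q} := by
    rw [← Submodule.topEquiv.support_eq]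
    have := key (Fin.last n)
    rw [hlast] at this
    rw [this]
    ext q
    simp [Fin.castSucc_lt_last]
  ext q
  simp only [Set.mem_setOf_eq]
  constructor
  · rintro ⟨⟨i, rfl⟩, hmin⟩
    refine ⟨by rw [hM]; exact ⟨i, le_rfl⟩, fun x hx hxq => ?_⟩
    rw [hM] at hx
    obtain ⟨j, hj⟩ := hx
    exact (hmin ⟨j, rfl⟩ (hj.trans hxq)).trans hj
  · rintro ⟨hq, hmin⟩
    rw [hM] at hq
    obtain ⟨i, hi⟩ := hq
    have : p i = q := le_antisymm hi (hmin (by rw [hM]; exact ⟨i, le_rfl⟩) hi)
    refine ⟨⟨i, this⟩, fun x ⟨j, hj⟩ hxq => hmin (by rw [hM]; exact ⟨j, hj.le⟩) hxq⟩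

end Groth.Agent.S9643
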