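import Groth.Statements.S9644
import Mathlib
-- import your own Groth.Agent.* helpers here

set_option autoImplicit false
universe u
open CAlg

namespace Groth.Agent.S9644

section
variable {R : Type u} [CommRing R] [IsNoetherianRing R] {M : Type u} [AddCommGroup M] [Module R M] [Module.Finite R M]

lemma mem_support_of_mem_ass {q : Ideal R} (h : q ∈ associatedPrimes R M) :
    (⟨q, h.1⟩ : PrimeSpectrum R) ∈ Module.support R M := by
  rw [Module.support_eq_zeroLocus, PrimeSpectrum.mem_zeroLocus]
  exact Submodule.annihilator_top.symm.le.trans (IsAssociatedPrime.annihilator_le h)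

lemma exists_minimal_le {q : PrimeSpectrum R} (h : q ∈ Module.support R M) :
    ∃ p ∈ (Module.annihilator R M).minimalPrimes, p ≤ q.asIdeal := by
  rw [Module.support_eq_zeroLocus, PrimeSpectrum.mem_zeroLocus] at h
  exact Ideal.exists_minimalPrimes_le h

lemma exists_ass_le {q : PrimeSpectrum R} (h : q ∈ Module.support R M) :
    ∃ p ∈ associatedPrimes R M, p ≤ q.asIdeal := by
  obtain ⟨p, hp, hle⟩ := exists_minimal_le h
  exact ⟨p, Module.associatedPrimes.minimalPrimes_annihilator_subset_associatedPrimes R M hp, hle⟩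

variable (M) in
/-- Elements vanishing at every generic point of the support. -/
noncomputable def genKer : Submodule R M :=
  ⨅ p : (Module.annihilator R M).minimalPrimes,
    letI := p.2.isPrime
    LinearMap.ker (LocalizedModule.mkLinearMap (Ideal.primeCompl p.1) M)

lemma mem_genKer {x : M} : x ∈ genKer (R := R) M ↔
    ∀ p ∈ (Module.annihilator R M).minimalPrimes, ∃ s, s ∉ p ∧ s • x = 0 := by
  rw [genKer, Submodule.mem_iInf, Subtype.forall]
  refine forall₂_congr fun p hp => ?_
  letI := hp.isPrime
  rw [LinearMap.mem_ker, IsLocalizedModule.eq_zero_iff (Ideal.primeCompl p)]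
  exact ⟨fun ⟨⟨s, hs⟩, h⟩ => ⟨s, hs, h⟩, fun ⟨s, hs, h⟩ => ⟨⟨s, hs⟩, h⟩⟩

lemma not_mem_support_genKer {p : Ideal R} (hp : p ∈ (Module.annihilator R M).minimalPrimes) :
    (⟨p, hp.isPrime⟩ : PrimeSpectrum R) ∉ Module.support R (genKer (R := R) M) := by
  rw [Module.notMem_support_iff']
  rintro ⟨x, hx⟩
  obtain ⟨s, hs, h⟩ := mem_genKer.1 hx p hp
  exact ⟨s, hs, Subtype.ext h⟩

lemma le_genKer_iff (K' : Submodule R M) : K' ≤ genKer M ↔
    ∀ U : Set (PrimeSpectrum R), IsOpen U → U ∩ Module.support R M ⊆ closure (Module.support R ↥K') →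
      U ∩ Module.support R M = ∅ := by
  have hcl : closure (Module.support R ↥K') = Module.support R ↥K' := by
    rw [Module.support_eq_zeroLocus, (PrimeSpectrum.isClosed_zeroLocus _).closure_eq]
  rw [hcl]
  constructor
  · intro h U hU hUM
    by_contra hne
    obtain ⟨q, hqU, hqM⟩ := Set.nonempty_iff_ne_empty.2 hne
    obtain ⟨p, hp, hpq⟩ := exists_minimal_le hqM
    have hpU : (⟨p, hp.isPrime⟩ : PrimeSpectrum R) ∈ U := hU.stableUnderGeneralization
      ((PrimeSpectrum.le_iff_specializes (⟨p, hp.isPrime⟩ : PrimeSpectrum R) q).1 hpq) hqU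
    have hpM : (⟨p, hp.isPrime⟩ : PrimeSpectrum R) ∈ Module.support R M := by
      rw [Module.support_eq_zeroLocus, PrimeSpectrum.mem_zeroLocus]; exact hp.1.2
    exact not_mem_support_genKer hp
      (Module.support_subset_of_injective _ (Submodule.inclusion_injective h) (hUM ⟨hpU, hpM⟩))
  · intro h x hx
    rw [mem_genKer]
    intro p hp
    by_contra hcon
    push Not at hcon
    have hpK : (⟨p, hp.isPrime⟩ : PrimeSpectrum R) ∈ Module.support R K' := by
      rw [Module.mem_support_iff']
      exact ⟨⟨x, hx⟩, fun s hs hsx => hcon s hs (congrArg Subtype.val hsx)⟩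
    have hfin := (Module.annihilator R M).finite_minimalPrimes_of_isNoetherianRing
    let U : Set (PrimeSpectrum R) := ⋂ q ∈ (Module.annihilator R M).minimalPrimes \ {p}, (PrimeSpectrum.zeroLocus (q : Set R))ᶜ
    have hU : IsOpen U := hfin.sdiff.isOpen_biInter fun q _ => (PrimeSpectrum.isClosed_zeroLocus _).isOpen_compl
    have hsub : U ∩ Module.support R M ⊆ Module.support R K' := by
      rintro q ⟨hqU, hqM⟩
      obtain ⟨p', hp', hle⟩ := exists_minimal_le hqM
      rcases eq_or_ne p' p with rfl | hne
      · exact Module.mem_support_mono hle hpK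
      · exact absurd hle (Set.mem_iInter₂.1 hqU p' ⟨hp', hne⟩)
    have hpU : (⟨p, hp.isPrime⟩ : PrimeSpectrum R) ∈ U :=
      Set.mem_iInter₂.2 fun q hq hle => hq.2 (le_antisymm hle (hp.2 hq.1.1 hle))
    have hmem : (⟨p, hp.isPrime⟩ : PrimeSpectrum R) ∈ U ∩ Module.support R M :=
      ⟨hpU, Module.support_subset_of_injective _ K'.injective_subtype hpK⟩
    rw [h U hU hsub] at hmem
    exact hmem

end

/-- Let R be a Noetherian ring and M a finite R-module. Among the submodules K' of M whose support is
nowhere dense inside Supp(M) there is a largest one, K. The quotient M' = M/K then satisfies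
Supp(M') = Supp(M), its associated primes are pairwise incomparable (no embedded ones), and whenever
f ∈ R belongs to every embedded associated prime of M the localized map M_f → M'_f is bijective. -/
theorem result {R : Type u} [CommRing R] [IsNoetherianRing R] (M : Type u) [AddCommGroup M] [Module R M] [Module.Finite R M] :
    ∃ K : Submodule R M,
      IsGreatest {K' : Submodule R M | ∀ U : Set (PrimeSpectrum R), IsOpen U → U ∩ Module.support R M ⊆ closure (Module.support R ↥K') → U ∩ Module.support R M = ∅} K ∧
      Module.support R (M ⧸ K) = Module.support R M ∧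
      (∀ p ∈ associatedPrimes R (M ⧸ K), ∀ q ∈ associatedPrimes R (M ⧸ K), p ≤ q → p = q) ∧
      ∀ f : R, (∀ p ∈ associatedPrimes R M, ¬ Minimal (fun x => x ∈ associatedPrimes R M) p → f ∈ p) →
        Function.Bijective (LocalizedModule.map (Submonoid.powers f) K.mkQ) := by
  refine ⟨genKer (R := R) M, ⟨(le_genKer_iff (genKer M)).1 le_rfl, fun K' hK' => (le_genKer_iff K').2 hK'⟩, ?_, ?_, ?_⟩
  · refine (Module.support_subset_of_surjective _ (genKer M).mkQ_surjective).antisymm fun q hq => ?_
    obtain ⟨p, hp, hle⟩ := exists_minimal_le hq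
    refine Module.mem_support_mono (p := ⟨p, hp.isPrime⟩) hle ?_
    have hpM : (⟨p, hp.isPrime⟩ : PrimeSpectrum R) ∈ Module.support R M := by
      rw [Module.support_eq_zeroLocus, PrimeSpectrum.mem_zeroLocus]; exact hp.1.2
    rw [Module.support_of_exact (LinearMap.exact_subtype_mkQ (genKer (R := R) M)) (genKer (R := R) M).injective_subtype
      (genKer (R := R) M).mkQ_surjective] at hpM
    exact hpM.resolve_left (not_mem_support_genKer hp)
  · have key : ∀ q ∈ associatedPrimes R (M ⧸ genKer (R := R) M), q ∈ (Module.annihilator R M).minimalPrimes := by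
      intro q hq
      obtain ⟨hqp, x, rfl⟩ := isAssociatedPrime_iff.1 hq
      obtain ⟨y, rfl⟩ := Submodule.Quotient.mk_surjective _ x
      have hy : y ∉ genKer (R := R) M := fun hy => hqp.ne_top (by
        simp [(Submodule.Quotient.mk_eq_zero _).2 hy])
      rw [mem_genKer] at hy
      push Not at hy
      obtain ⟨p, hp, hps⟩ := hy
      have hle : (⊥ : Submodule R (M ⧸ genKer (R := R) M)).colon {Submodule.Quotient.mk y} ≤ p := by
        intro s hs
        rw [Submodule.mem_colon_singleton, Submodule.mem_bot, ← Submodule.Quotient.mk_smul,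
          Submodule.Quotient.mk_eq_zero, mem_genKer] at hs
        obtain ⟨t, ht, hts⟩ := hs p hp
        by_contra hsp
        exact hps (t * s) (fun hmem => (hp.isPrime.mem_or_mem hmem).elim ht hsp) (by rw [mul_smul, hts])
      have hann : Module.annihilator R M ≤ (⊥ : Submodule R (M ⧸ genKer (R := R) M)).colon {Submodule.Quotient.mk y} :=
        fun s hs => by
          rw [Submodule.mem_colon_singleton, Submodule.mem_bot, ← Submodule.Quotient.mk_smul,
            Module.mem_annihilator.1 hs, Submodule.Quotient.mk_zero]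
      rwa [le_antisymm hle (hp.2 ⟨hqp, hann⟩ hle)]
    exact fun p hp q hq hpq => le_antisymm hpq ((key q hq).2 ⟨(key p hp).isPrime, (key p hp).1.2⟩ hpq)
  · intro f hf
    refine ⟨?_, LocalizedModule.map_surjective _ _ (genKer (R := R) M).mkQ_surjective⟩
    rw [injective_iff_map_eq_zero]
    intro z hz
    induction z using LocalizedModule.induction_on with
    | h m s =>
      rw [LocalizedModule.map_mk, ← LocalizedModule.zero_mk 1, LocalizedModule.mk_eq] at hz
      obtain ⟨⟨c, n, hc⟩, hz⟩ := hz
      simp only [one_smul, smul_zero, Submonoid.smul_def] at hz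
      rw [Submodule.mkQ_apply, ← Submodule.Quotient.mk_smul, Submodule.Quotient.mk_eq_zero] at hz
      have hrad : f ∈ (Module.annihilator R (genKer (R := R) M)).radical := by
        rw [Ideal.radical_eq_sInf, Ideal.mem_sInf]
        rintro q ⟨hq, hqp⟩
        have hqK : (⟨q, hqp⟩ : PrimeSpectrum R) ∈ Module.support R (genKer (R := R) M) := by
          rw [Module.support_eq_zeroLocus, PrimeSpectrum.mem_zeroLocus]; exact hq
        obtain ⟨p, hpK, hpq⟩ := exists_ass_le hqK
        have hpM : p ∈ associatedPrimes R M := associatedPrimes.subset_of_injective (genKer (R := R) M).injective_subtype hpK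
        refine hpq (hf p hpM fun hmin => ?_)
        obtain ⟨p₀, hp₀, hle⟩ := exists_minimal_le (mem_support_of_mem_ass hpM)
        have e : p ≤ p₀ := hmin.2
          (Module.associatedPrimes.minimalPrimes_annihilator_subset_associatedPrimes R M hp₀) hle
        have := mem_support_of_mem_ass hpK
        exact not_mem_support_genKer hp₀ (Module.mem_support_mono (p := ⟨p, hpK.1⟩) e this)
      obtain ⟨k, hk⟩ := hrad
      rw [← LocalizedModule.zero_mk 1, LocalizedModule.mk_eq]
      refine ⟨⟨f ^ k * c, k + n, by change f ^ (k + n) = f ^ k * c; rw [pow_add]; exact congrArg _ hc⟩, ?_⟩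
      simp only [one_smul, smul_zero, Submonoid.smul_def, mul_smul]
      exact congrArg Subtype.val (Module.mem_annihilator.1 hk ⟨_, hz⟩)

end Groth.Agent.S9644
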