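import Groth.Statements.S9646
import Groth.Agent.Lib.IntegralMisc.Basic
import Mathlib.RingTheory.Localization.AtPrime.Basic
import Mathlib.RingTheory.IntegralClosure.IsIntegralClosure.Basic
-- import your own Groth.Agent.* helpers here

set_option autoImplicit false
universe u
open CAlg

namespace Groth.Agent.S9646

/-- (2) ⇒ (1): let R → S be a ring map and x ∈ S. If for every prime ideal p of R the image of x in S_p
(the localization of S at the image of R ∖ p) is integral over R_p, then x is integral over R. Here
R_p and S_p are any rings satisfying the localization universal properties. -/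
theorem result {R S : Type u} [CommRing R] [CommRing S] [Algebra R S] (x : S)
    (h : ∀ (p : Ideal R) [p.IsPrime] (Rp Sp : Type u) [CommRing Rp] [CommRing Sp] [Algebra R Rp] [Algebra S Sp] [Algebra Rp Sp] [Algebra R Sp] [IsScalarTower R S Sp] [IsScalarTower R Rp Sp] [IsLocalization.AtPrime Rp p] [IsLocalization (Algebra.algebraMapSubmonoid S p.primeCompl) Sp], IsIntegral Rp (algebraMap S Sp x)) :
    IsIntegral R x := by
  let J : Ideal R :=
    { carrier := {r | IsIntegral R (algebraMap R S r * x)}
      zero_mem' := by simp [isIntegral_zero]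
      add_mem' := fun {a b} ha hb => by
        show IsIntegral R (algebraMap R S (a + b) * x)
        rw [map_add, add_mul]; exact ha.add hb
      smul_mem' := fun c a ha => by
        show IsIntegral R (algebraMap R S (c • a) * x)
        rw [smul_eq_mul, map_mul, mul_assoc]; exact isIntegral_algebraMap.mul ha }
  suffices hJ : J = ⊤ by
    have h1 : (1 : R) ∈ J := hJ ▸ Submodule.mem_top
    simpa [J] using h1
  by_contra hJ
  obtain ⟨p, hp, hle⟩ := Ideal.exists_le_maximal J hJ
  let Rp := Localization.AtPrime p
  let Sp := Localization (Algebra.algebraMapSubmonoid S p.primeCompl)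
  letI : Algebra Rp Sp := (IsLocalization.map Sp (algebraMap R S)
    (show p.primeCompl ≤ (Algebra.algebraMapSubmonoid S p.primeCompl).comap (algebraMap R S) from
      fun r hr => ⟨r, hr, rfl⟩)).toAlgebra
  have : IsScalarTower R Rp Sp := IsScalarTower.of_algebraMap_eq fun r => by
    rw [RingHom.algebraMap_toAlgebra, IsLocalization.map_eq]
    exact IsScalarTower.algebraMap_apply R S Sp r
  obtain ⟨b, hb, s, hs, hxb⟩ := (GrothLib.IntegralMisc.isIntegral_localization_iff (A := R) (B := S) (As := Rp) p.primeCompl
    (algebraMap S Sp x)).1 (h p Rp Sp)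
  rw [IsScalarTower.algebraMap_apply R S Sp, ← map_mul] at hxb
  obtain ⟨⟨_, t, ht, rfl⟩, htx⟩ := (IsLocalization.eq_iff_exists (Algebra.algebraMapSubmonoid S p.primeCompl) Sp).1 hxb
  refine p.primeCompl.mul_mem ht hs (hle ?_)
  show IsIntegral R (algebraMap R S (t * s) * x)
  rw [map_mul, mul_assoc, mul_comm (algebraMap R S s) x]
  rw [show algebraMap R S t * (x * algebraMap R S s) = algebraMap R S t * b from htx]
  exact isIntegral_algebraMap.mul hb

end Groth.Agent.S9646
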