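import Groth.Statements.S9647
import Mathlib.RingTheory.TensorProduct.Maps
import Mathlib.RingTheory.TensorProduct.Nontrivial
import Mathlib.RingTheory.LocalRing.ResidueField.Ideal
import Mathlib.FieldTheory.IsSepClosed
import Mathlib.FieldTheory.Normal.Basic
-- import your own Groth.Agent.* helpers here

set_option autoImplicit false
universe u
open CAlg

namespace Groth.Agent.S9647

open TensorProduct in
theorem exists_aux {k N K B : Type u} [Field k] [Field N] [Field K] [CommRing B] [Algebra k N] [Normal k N]
    [Algebra k K] [Algebra k B] (i : N →ₐ[k] B) (j : K →ₐ[k] B)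
    (hext : ∀ (M : Type u) [Field M] (f g : B →+* M), (∀ x, f (i x) = g (i x)) → (∀ y, f (j y) = g (j y)) → f = g)
    (P Q : Ideal B) [P.IsPrime] [Q.IsPrime] :
    ∃ σ : N ≃ₐ[k] N, ∀ τ : B →+* B, (∀ x, τ (i x) = i (σ x)) → (∀ y, τ (j y) = j y) → Q = P.comap τ := by
  let _ : Algebra K P.ResidueField := ((algebraMap B P.ResidueField).comp j.toRingHom).toAlgebra
  let _ : Algebra K Q.ResidueField := ((algebraMap B Q.ResidueField).comp j.toRingHom).toAlgebra
  obtain ⟨m, hm⟩ := Ideal.exists_maximal (P.ResidueField ⊗[K] Q.ResidueField)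
  let M := (P.ResidueField ⊗[K] Q.ResidueField) ⧸ m
  let _ : Field M := Ideal.Quotient.field m
  let jP : P.ResidueField →+* M := (Ideal.Quotient.mk m).comp Algebra.TensorProduct.includeLeftRingHom
  let jQ : Q.ResidueField →+* M :=
    (Ideal.Quotient.mk m).comp
      (Algebra.TensorProduct.includeRight : Q.ResidueField →ₐ[K] P.ResidueField ⊗[K] Q.ResidueField).toRingHom
  let Φ : B →+* M := jP.comp (algebraMap B P.ResidueField)
  let Ψ : B →+* M := jQ.comp (algebraMap B Q.ResidueField)
  have hK : ∀ y : K, Φ (j y) = Ψ (j y) := fun y => by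
    change Ideal.Quotient.mk m ((algebraMap K P.ResidueField y) ⊗ₜ[K] 1) =
      Ideal.Quotient.mk m (1 ⊗ₜ[K] (algebraMap K Q.ResidueField y))
    rw [Algebra.algebraMap_eq_smul_one, Algebra.algebraMap_eq_smul_one, TensorProduct.smul_tmul]
  let φ : N →ₐ[k] M :=
    { toRingHom := Φ.comp i.toRingHom
      commutes' := fun r => congrArg Φ (i.commutes r) }
  let ψ : N →ₐ[k] M :=
    { toRingHom := Ψ.comp i.toRingHom
      commutes' := fun r => (congrArg Ψ ((i.commutes r).trans (j.commutes r).symm)).trans
        ((hK _).symm.trans (congrArg Φ (j.commutes r))) }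
  let _ : Algebra N M := φ.toRingHom.toAlgebra
  have : IsScalarTower k N M := IsScalarTower.of_algebraMap_eq fun r => (congrArg Φ (i.commutes r)).symm
  refine ⟨ψ.restrictNormal' N, fun τ hi hj => ?_⟩
  have hτ : Φ.comp τ = Ψ := hext M _ _
    (fun x => (congrArg Φ (hi x)).trans (ψ.restrictNormal_commutes N x))
    (fun y => (congrArg Φ (hj y)).trans (hK y))
  ext z
  rw [Ideal.mem_comap, ← Ideal.algebraMap_residueField_eq_zero, ← Ideal.algebraMap_residueField_eq_zero,
    ← map_eq_zero_iff jP jP.injective, ← map_eq_zero_iff jQ jQ.injective]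
  exact Iff.of_eq (congrArg (· = 0) (RingHom.congr_fun hτ z).symm)

open TensorProduct in
/-- Let K/k be a field extension and k^sep a separable algebraic closure of k. Then the automorphism
group of k^sep over k acts transitively on the primes of k^sep ⊗_k K: for any two primes P, Q there
is a k-automorphism σ of k^sep with Q the inverse image of P under σ ⊗ id_K. -/
theorem result {k K : Type u} [Field k] [Field K] [Algebra k K]
    (P Q : Ideal (SeparableClosure k ⊗[k] K)) [P.IsPrime] [Q.IsPrime] :
    ∃ σ : SeparableClosure k ≃ₐ[k] SeparableClosure k, Q = P.comap (Algebra.TensorProduct.map (σ : SeparableClosure k →ₐ[k] SeparableClosure k) (AlgHom.id k K)) := by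
  obtain ⟨σ, hσ⟩ := exists_aux (N := SeparableClosure k) Algebra.TensorProduct.includeLeft
    (Algebra.TensorProduct.includeRight : K →ₐ[k] SeparableClosure k ⊗[k] K) (fun M _ f g hx hy => by
      refine RingHom.ext fun z => ?_
      induction z with
      | zero => simp
      | tmul x y =>
        rw [show x ⊗ₜ[k] y = Algebra.TensorProduct.includeLeft (S := k) x *
          Algebra.TensorProduct.includeRight y by simp, map_mul, map_mul, hx, hy]
      | add a b ha hb => rw [map_add, map_add, ha, hb]) P Q
  refine ⟨σ, hσ (Algebra.TensorProduct.map (σ : SeparableClosure k →ₐ[k] SeparableClosure k) (AlgHom.id k K)).toRingHom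
    (fun x => ?_) (fun y => ?_)⟩
  · change Algebra.TensorProduct.map _ _ (x ⊗ₜ[k] (1 : K)) = σ x ⊗ₜ[k] (1 : K)
    simp
  · change Algebra.TensorProduct.map _ _ (1 ⊗ₜ[k] y) = (1 : SeparableClosure k) ⊗ₜ[k] y
    simp

end Groth.Agent.S9647
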