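import Groth.Statements.S9649
import Groth.Agent.Lib.SepField.Smooth
import Mathlib.FieldTheory.SeparablyGenerated
import Mathlib.RingTheory.Smooth.Field
import Mathlib.RingTheory.EssentialFiniteness
-- import your own Groth.Agent.* helpers here

set_option autoImplicit false
universe u
open CAlg

namespace Groth.Agent.S9649

/-- A separably generated field extension is separable. Precisely: let K/k be a field extension
admitting a transcendence basis x over whose generated subfield k(x) the field K is separable
algebraic; then every finitely generated subextension K' of K/k also admits such a transcendence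
basis. -/
theorem result {k K : Type u} [Field k] [Field K] [Algebra k K]
    (h : ∃ (ι : Type u) (x : ι → K), IsTranscendenceBasis k x ∧ Algebra.IsSeparable (IntermediateField.adjoin k (Set.range x)) K)
    (K' : IntermediateField k K) (hK' : ∃ s : Finset K, IntermediateField.adjoin k (s : Set K) = K') :
    ∃ (ι : Type u) (x : ι → K'), IsTranscendenceBasis k x ∧ Algebra.IsSeparable (IntermediateField.adjoin k (Set.range x)) K' := by
  obtain ⟨ι, x, hx, hsep⟩ := h
  have : Algebra.FormallySmooth k K := .of_algebraicIndependent_of_isSeparable hx.1
  have : Algebra.IsGeometricallyReduced k K :=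
    GrothLib.SepField.formallySmooth_iff_isGeometricallyReduced.mp inferInstance
  have hK : Algebra.IsGeometricallyReduced k K' :=
    Algebra.IsGeometricallyReduced.of_injective K'.val Subtype.val_injective
  obtain ⟨s, hs⟩ := hK'
  have hfg : K'.FG := ⟨s, hs⟩
  have : Algebra.EssFiniteType k K' := IntermediateField.essFiniteType_iff.mpr hfg
  have key : ∃ t : Finset K', IsTranscendenceBasis k ((↑) : t → K') ∧
      Algebra.IsSeparable (IntermediateField.adjoin k (t : Set K')) K' := by
    obtain _ | ⟨p, hp, hpk⟩ := CharP.exists' k
    · exact exists_isTranscendenceBasis_and_isSeparable_of_perfectField k K'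
    · exact exists_isTranscendenceBasis_and_isSeparable_of_linearIndepOn_pow_of_essFiniteType p hp.out
        fun t ht => GrothLib.SepField.powIndep_of_isGeometricallyReduced hK _ ht
  obtain ⟨t, ht, htsep⟩ := key
  refine ⟨t, Subtype.val, ht, ?_⟩
  convert! htsep <;> simp

end Groth.Agent.S9649
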