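import Groth.Statements.S9650
import Mathlib
import Groth.Agent.Lib.SepBasis.Basic
import Groth.Agent.Lib.SepField.Smooth

set_option autoImplicit false
universe u
open CAlg

namespace Groth.Agent.S9650

/-- Let K/k be a finitely generated field extension that is separably generated, i.e. admits a
transcendence basis over whose generated subfield K is separable algebraic. Then K is generated over
k by finitely many elements x_1, …, x_r, y such that the x_i form a transcendence basis of K/k and y
is separable over the subfield k(x_1, …, x_r). -/
theorem result {k K : Type u} [Field k] [Field K] [Algebra k K]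
    (hfg : ∃ s : Finset K, IntermediateField.adjoin k (s : Set K) = ⊤)
    (hsep : ∃ (ι : Type u) (x : ι → K), IsTranscendenceBasis k x ∧ Algebra.IsSeparable (IntermediateField.adjoin k (Set.range x)) K) :
    ∃ (r : ℕ) (x : Fin r → K) (y : K), IsTranscendenceBasis k x ∧ IntermediateField.adjoin k (insert y (Set.range x)) = ⊤ ∧ IsSeparable (IntermediateField.adjoin k (Set.range x)) y := by
  obtain ⟨ι, x, hx, hs⟩ := hsep
  haveI : Algebra.FormallySmooth k K := .of_algebraicIndependent_of_isSeparable hx.1
  haveI hgr : Algebra.IsGeometricallyReduced k K :=
    GrothLib.SepField.formallySmooth_iff_isGeometricallyReduced.mp inferInstance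
  haveI : Algebra.EssFiniteType k K := IntermediateField.fg_top_iff.mp hfg
  obtain ⟨t, ht, htsep⟩ : ∃ t : Finset K, IsTranscendenceBasis k ((↑) : t → K) ∧
      Algebra.IsSeparable (IntermediateField.adjoin k (t : Set K)) K := by
    obtain _ | ⟨p, hp, hpk⟩ := CharP.exists' k
    · exact exists_isTranscendenceBasis_and_isSeparable_of_perfectField k K
    · exact exists_isTranscendenceBasis_and_isSeparable_of_linearIndepOn_pow_of_essFiniteType p hp.out
        fun t ht => GrothLib.SepField.powIndep_of_isGeometricallyReduced hgr _ ht
  let e : Fin t.card ≃ t := t.equivFin.symm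
  let y : Fin t.card → K := Subtype.val ∘ e
  have hr : Set.range y = (t : Set K) := by rw [Set.range_comp, e.range_eq_univ, Set.image_univ, Subtype.range_coe]
  have hy : IsTranscendenceBasis k y := ht.comp_equiv e
  let E := IntermediateField.adjoin k (Set.range y)
  haveI : Algebra.IsSeparable E K := by show Algebra.IsSeparable (IntermediateField.adjoin k (Set.range y)) K; rw [hr]; exact htsep
  haveI : Algebra.EssFiniteType E K := Algebra.EssFiniteType.of_comp k E K
  haveI : Algebra.FormallyUnramified E K := Algebra.FormallyUnramified.of_isSeparable E K
  haveI : Module.Finite E K := Algebra.FormallyUnramified.finite_of_free (R := E) (S := K)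
  obtain ⟨z, hz⟩ := Field.exists_primitive_element E K
  refine ⟨t.card, y, z, hy, ?_, Algebra.IsSeparable.isSeparable E z⟩
  have h1 := IntermediateField.adjoin_adjoin_left k (Set.range y) ({z} : Set K)
  rw [show IntermediateField.adjoin (IntermediateField.adjoin k (Set.range y)) ({z} : Set K) = ⊤ from hz,
    IntermediateField.restrictScalars_top] at h1
  rw [h1, Set.union_singleton]

end Groth.Agent.S9650
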