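import Groth.Statements.S9651
import Mathlib
import Groth.Agent.Lib.GenFree.Presentation

set_option autoImplicit false
universe u
open CAlg

namespace Groth.Agent.S9651

/-- Let R → S be a ring map of finite type, f : Spec(S) → Spec(R) the induced map and E ⊆ Spec(S) a
constructible subset. If ξ ∈ f(E) then f(E) ∩ cl{ξ} contains an open dense subset of the closure
cl{ξ}: some open U of Spec(R) has U ∩ cl{ξ} dense in cl{ξ} and contained in f(E). -/
theorem result {R S : Type u} [CommRing R] [CommRing S] [Algebra R S] [Algebra.FiniteType R S]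
    (E : Set (PrimeSpectrum S)) (hE : Topology.IsConstructible E) (ξ : PrimeSpectrum R) (hξ : ξ ∈ PrimeSpectrum.comap (algebraMap R S) '' E) :
    ∃ U : Set (PrimeSpectrum R), IsOpen U ∧ closure ({ξ} : Set (PrimeSpectrum R)) ⊆ closure (U ∩ closure {ξ}) ∧ U ∩ closure {ξ} ⊆ PrimeSpectrum.comap (algebraMap R S) '' E := by
  obtain ⟨y, hyE, hyξ⟩ := hξ
  obtain ⟨b, hb, hbE⟩ : ∃ b : S, b ∉ y.asIdeal ∧ ∀ z : PrimeSpectrum S, y.asIdeal ≤ z.asIdeal → b ∉ z.asIdeal → z ∈ E := by
    clear hyξ
    induction E, hE using Topology.IsConstructible.induction_of_isTopologicalBasis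
      (b := fun r : S => ((PrimeSpectrum.basicOpen r : TopologicalSpace.Opens (PrimeSpectrum S)) : Set (PrimeSpectrum S))) with
    | basis => exact PrimeSpectrum.isTopologicalBasis_basic_opens
    | isCompact_basis i => exact PrimeSpectrum.isCompact_basicOpen i
    | sdiff i s hs =>
      refine ⟨i, hyE.1, fun z hz hi => ⟨hi, fun hu => ?_⟩⟩
      obtain ⟨j, hj, hjz⟩ := Set.mem_iUnion₂.mp hu
      exact hyE.2 (Set.mem_iUnion₂.mpr ⟨j, hj, fun hjy => hjz (hz hjy)⟩)
    | union s hs t ht ihs iht =>
      rcases hyE with h | h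
      · obtain ⟨b, hb, hb'⟩ := ihs h
        exact ⟨b, hb, fun z h1 h2 => Or.inl (hb' z h1 h2)⟩
      · obtain ⟨b, hb, hb'⟩ := iht h
        exact ⟨b, hb, fun z h1 h2 => Or.inr (hb' z h1 h2)⟩
  have hξP : ξ.asIdeal = y.asIdeal.comap (algebraMap R S) := by rw [← hyξ]; rfl
  let A := R ⧸ ξ.asIdeal
  let B := S ⧸ y.asIdeal
  letI : Algebra A B := (Ideal.quotientMap y.asIdeal (algebraMap R S) hξP.le).toAlgebra
  haveI : IsScalarTower R A B := IsScalarTower.of_algebraMap_eq fun _ => rfl
  let C := Localization.Away (Ideal.Quotient.mk y.asIdeal b)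
  haveI : Algebra.FiniteType R B :=
    Algebra.FiniteType.of_surjective (Ideal.Quotient.mkₐ R y.asIdeal) (Ideal.Quotient.mkₐ_surjective R _)
  haveI : Algebra.FiniteType A B := Algebra.FiniteType.of_restrictScalars_finiteType R A B
  haveI : Algebra.FiniteType B C := IsLocalization.finiteType_of_monoid_fg (Submonoid.powers (Ideal.Quotient.mk y.asIdeal b)) C
  haveI : Algebra.FiniteType A C := Algebra.FiniteType.trans (S := B) inferInstance inferInstance
  have hb' : Ideal.Quotient.mk y.asIdeal b ≠ 0 := fun h => hb (Ideal.Quotient.eq_zero_iff_mem.mp h)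
  have hAC : Function.Injective (algebraMap A C) := by
    rw [IsScalarTower.algebraMap_eq A B C]
    exact (IsLocalization.injective C (powers_le_nonZeroDivisors_of_noZeroDivisors hb')).comp
      (Ideal.quotientMap_injective' (H := hξP.le) hξP.ge)
  obtain ⟨f, -, hf, -, hfree, -, -⟩ :=
    GrothLib.GenFree.exists_free_and_finitePresentation (R := A) C C 1 one_ne_zero
  obtain ⟨g, rfl⟩ := Ideal.Quotient.mk_surjective f
  have hg : g ∉ ξ.asIdeal := fun h => hf (Ideal.Quotient.eq_zero_iff_mem.mpr h)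
  refine ⟨PrimeSpectrum.basicOpen g, (PrimeSpectrum.basicOpen g).isOpen,
    closure_mono (Set.singleton_subset_iff.mpr ⟨hg, subset_closure rfl⟩), ?_⟩
  rintro x ⟨hxg, hxc⟩
  have hle : ξ.asIdeal ≤ x.asIdeal := (PrimeSpectrum.le_iff_mem_closure ξ x).mpr hxc
  haveI hq : (x.asIdeal.map (Ideal.Quotient.mk ξ.asIdeal)).IsPrime :=
    Ideal.map_isPrime_of_surjective Ideal.Quotient.mk_surjective (by rwa [Ideal.mk_ker])
  set q := x.asIdeal.map (Ideal.Quotient.mk ξ.asIdeal) with hqdef
  have hqx : q.comap (Ideal.Quotient.mk ξ.asIdeal) = x.asIdeal := by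
    rw [hqdef, Ideal.comap_map_of_surjective _ Ideal.Quotient.mk_surjective, ← RingHom.ker_eq_comap_bot,
      Ideal.mk_ker, sup_eq_left.mpr hle]
  let Af := Localization.Away (Ideal.Quotient.mk ξ.asIdeal g)
  let T := TensorProduct A Af C
  haveI : IsDomain Af := IsLocalization.isDomain_localization (powers_le_nonZeroDivisors_of_noZeroDivisors hf)
  haveI : IsDomain C := IsLocalization.isDomain_localization (powers_le_nonZeroDivisors_of_noZeroDivisors hb')
  haveI : Nontrivial T := by
    haveI : FaithfulSMul A C := (faithfulSMul_iff_algebraMap_injective A C).mpr hAC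
    exact Algebra.TensorProduct.nontrivial_of_algebraMap_injective_of_isDomain A Af C
      (IsLocalization.injective Af (powers_le_nonZeroDivisors_of_noZeroDivisors hf)) hAC
  haveI : Module.FaithfullyFlat Af T := @Module.FaithfullyFlat.instOfNontrivialOfFree Af T _ _ _ inferInstance hfree
  have hqf : ((⟨q, hq⟩ : PrimeSpectrum A)) ∈ Set.range (PrimeSpectrum.comap (algebraMap A Af)) := by
    rw [PrimeSpectrum.localization_away_comap_range Af (Ideal.Quotient.mk ξ.asIdeal g)]
    intro h
    refine hxg ?_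
    rw [← hqx]
    exact h
  obtain ⟨q', hq'⟩ := hqf
  obtain ⟨w, hw⟩ := PrimeSpectrum.comap_surjective_of_faithfullyFlat (A := Af) (B := T) q'
  let j : C →+* T := (Algebra.TensorProduct.includeRight : C →ₐ[A] T).toRingHom
  let z : PrimeSpectrum S := PrimeSpectrum.comap ((j.comp (algebraMap B C)).comp (Ideal.Quotient.mk y.asIdeal)) w
  refine ⟨z, hbE z ?_ ?_, ?_⟩
  · intro s hs
    show j (algebraMap B C (Ideal.Quotient.mk y.asIdeal s)) ∈ w.asIdeal
    rw [Ideal.Quotient.eq_zero_iff_mem.mpr hs, map_zero, map_zero]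
    exact zero_mem _
  · intro hbz
    exact w.2.ne_top (Ideal.eq_top_of_isUnit_mem _ hbz
      ((IsLocalization.map_units C (⟨_, Submonoid.mem_powers _⟩ : Submonoid.powers (Ideal.Quotient.mk y.asIdeal b))).map j))
  · refine PrimeSpectrum.ext ?_
    show ((w.asIdeal.comap ((j.comp (algebraMap B C)).comp (Ideal.Quotient.mk y.asIdeal))).comap
      (algebraMap R S)) = x.asIdeal
    rw [← hqx, show q = q'.asIdeal.comap (algebraMap A Af) from
      (congrArg PrimeSpectrum.asIdeal hq').symm, ← hw, PrimeSpectrum.comap_asIdeal,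
      Ideal.comap_comap, Ideal.comap_comap, Ideal.comap_comap]
    congr 1
    refine RingHom.ext fun r => ?_
    show j (algebraMap B C (algebraMap A B (Ideal.Quotient.mk ξ.asIdeal r))) =
      algebraMap Af T (algebraMap A Af (Ideal.Quotient.mk ξ.asIdeal r))
    rw [← IsScalarTower.algebraMap_apply A B C, ← IsScalarTower.algebraMap_apply A Af T]
    exact Algebra.TensorProduct.includeRight.commutes _

end Groth.Agent.S9651
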