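import Groth.Statements.S9652
import Groth.Agent.Lib.JacobImg.Basic
-- import your own Groth.Agent.* helpers here

set_option autoImplicit false
universe u
open CAlg

namespace Groth.Agent.S9652

/-- Let R and S be Jacobson rings, R → S a ring map of finite type with induced map f : Spec(S) →
Spec(R), and E ⊆ Spec(S) a constructible subset. Writing T₀ for the set of points of a subspace T
which are closed in T, one has f(E)₀ = f(E₀) = (Spec R)₀ ∩ f(E). -/
theorem result {R S : Type u} [CommRing R] [CommRing S] [Algebra R S] [IsJacobsonRing R] [IsJacobsonRing S] [Algebra.FiniteType R S]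
    (E : Set (PrimeSpectrum S)) (hE : Topology.IsConstructible E) :
    {x | x ∈ PrimeSpectrum.comap (algebraMap R S) '' E ∧ closure {x} ∩ PrimeSpectrum.comap (algebraMap R S) '' E = {x}} =
        PrimeSpectrum.comap (algebraMap R S) '' {y | y ∈ E ∧ closure {y} ∩ E = {y}} ∧
      PrimeSpectrum.comap (algebraMap R S) '' {y | y ∈ E ∧ closure {y} ∩ E = {y}} =
        {x | IsClosed ({x} : Set (PrimeSpectrum R))} ∩ PrimeSpectrum.comap (algebraMap R S) '' E := by
  classical
  set f := PrimeSpectrum.comap (algebraMap R S)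
  rw [GrothLib.JacobImg.closedPoints_eq hE]
  have key : ∀ C : Set (PrimeSpectrum R), IsClosed C → (C ∩ f '' E).Nonempty →
      ∃ y ∈ E, IsClosed ({y} : Set (PrimeSpectrum S)) ∧ f y ∈ C := by
    rintro C hC ⟨_, hxC, y, hy, rfl⟩
    obtain ⟨z, hz, hz'⟩ := GrothLib.JacobImg.exists_closedPoint hE
      (hC.preimage (PrimeSpectrum.continuous_comap (algebraMap R S))).isLocallyClosed ⟨y, hy, hxC⟩
    exact ⟨z, hz.1, hz', hz.2⟩
  constructor
  · ext x
    constructor
    · rintro ⟨hx, hcl⟩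
      obtain ⟨y, hyE, hyc, hyC⟩ := key (closure {x}) isClosed_closure ⟨x, subset_closure (Set.mem_singleton x), hx⟩
      have : f y ∈ ({x} : Set (PrimeSpectrum R)) := by rw [← hcl]; exact ⟨hyC, y, hyE, rfl⟩
      exact ⟨y, ⟨hyE, hyc⟩, this⟩
    · rintro ⟨y, ⟨hyE, hyc⟩, rfl⟩
      refine ⟨⟨y, hyE, rfl⟩, ?_⟩
      rw [(GrothLib.JacobImg.isClosed_comap hyc).closure_eq, Set.inter_eq_left, Set.singleton_subset_iff]
      exact ⟨y, hyE, rfl⟩
  · ext x
    constructor
    · rintro ⟨y, ⟨hyE, hyc⟩, rfl⟩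
      exact ⟨GrothLib.JacobImg.isClosed_comap hyc, y, hyE, rfl⟩
    · rintro ⟨hxc, hx⟩
      obtain ⟨y, hyE, hyc, hyx⟩ := key {x} hxc ⟨x, rfl, hx⟩
      exact ⟨y, ⟨hyE, hyc⟩, hyx⟩

end Groth.Agent.S9652
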