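import Groth.Statements.S9653
import Groth.Agent.Lib.JacobImg.Basic
-- import your own Groth.Agent.* helpers here

set_option autoImplicit false
universe u
open CAlg

namespace Groth.Agent.S9653

/-- Let R and S be Jacobson rings, R → S a ring map of finite type with induced map f : Spec(S) →
Spec(R), E ⊆ Spec(S) constructible and E₀ the set of points of E closed in E. Then a point ξ of
Spec(R) lies in f(E) if and only if cl{ξ} ∩ f(E₀) is dense in the closure cl{ξ}. -/
theorem result {R S : Type u} [CommRing R] [CommRing S] [Algebra R S] [IsJacobsonRing R] [IsJacobsonRing S] [Algebra.FiniteType R S]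
    (E : Set (PrimeSpectrum S)) (hE : Topology.IsConstructible E) (ξ : PrimeSpectrum R) :
    ξ ∈ PrimeSpectrum.comap (algebraMap R S) '' E ↔
      closure ({ξ} : Set (PrimeSpectrum R)) ⊆ closure (closure {ξ} ∩ PrimeSpectrum.comap (algebraMap R S) '' {y | y ∈ E ∧ closure {y} ∩ E = {y}}) := by
  classical
  set f := PrimeSpectrum.comap (algebraMap R S)
  rw [GrothLib.JacobImg.closedPoints_eq hE]
  constructor
  · rintro ⟨y, hy, rfl⟩
    refine (closure_minimal ?_ isClosed_closure)
    rw [Set.singleton_subset_iff, mem_closure_iff]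
    intro U hU hyU
    have hC : IsLocallyClosed (f ⁻¹' (U ∩ closure {f y})) :=
      (hU.isLocallyClosed.inter isClosed_closure.isLocallyClosed).preimage (PrimeSpectrum.continuous_comap _)
    obtain ⟨z, ⟨hzE, hzU, hzc⟩, hz'⟩ := GrothLib.JacobImg.exists_closedPoint hE hC
      ⟨y, hy, hyU, subset_closure rfl⟩
    exact ⟨f z, hzU, hzc, z, ⟨hzE, hz'⟩, rfl⟩
  · intro h
    by_contra hne
    obtain ⟨g, hg, hgE⟩ := GrothLib.JacobImg.exists_notMem_of_fibre_empty hE ξ fun y hy hyξ => hne ⟨y, hy, hyξ⟩
    obtain ⟨x, hxg, hxc, y, ⟨hyE, -⟩, rfl⟩ :=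
      mem_closure_iff.mp (h (subset_closure rfl)) _ (PrimeSpectrum.basicOpen g).isOpen hg
    exact hxg (hgE y hyE ((PrimeSpectrum.le_iff_mem_closure ξ _).mpr hxc))

end Groth.Agent.S9653
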