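import Groth.Statements.S9654
import Mathlib
-- import your own Groth.Agent.* helpers here

set_option autoImplicit false
universe u
open CAlg

namespace Groth.Agent.S9654

/-- Let R be a ring and x, y ∈ R nonzerodivisors. In the localization R_{xy} let a = x/y and b = y/x,
and let R[a], R[b], R[a, b] be the R-subalgebras they generate. If R is integrally closed in R_x or
in R_y, then the sequence 0 → R → R[a] ⊕ R[b] → R[a, b] → 0 (difference map, then sum map) is short
exact; equivalently R[a] ∩ R[b] is the image of R and R[a] + R[b] = R[a, b] inside R_{xy}. -/
theorem result {R : Type u} [CommRing R] (x y : R) (hx : x ∈ nonZeroDivisors R) (hy : y ∈ nonZeroDivisors R)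
    (hint : IsIntegrallyClosedIn R (Localization.Away x) ∨ IsIntegrallyClosedIn R (Localization.Away y)) :
    (Algebra.adjoin R {algebraMap R (Localization.Away (x * y)) (x * x) * IsLocalization.Away.invSelf (x * y)}).toSubmodule ⊓
        (Algebra.adjoin R {algebraMap R (Localization.Away (x * y)) (y * y) * IsLocalization.Away.invSelf (x * y)}).toSubmodule =
        (⊥ : Subalgebra R (Localization.Away (x * y))).toSubmodule ∧
      (Algebra.adjoin R {algebraMap R (Localization.Away (x * y)) (x * x) * IsLocalization.Away.invSelf (x * y)}).toSubmodule ⊔
        (Algebra.adjoin R {algebraMap R (Localization.Away (x * y)) (y * y) * IsLocalization.Away.invSelf (x * y)}).toSubmodule =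
        (Algebra.adjoin R {algebraMap R (Localization.Away (x * y)) (x * x) * IsLocalization.Away.invSelf (x * y), algebraMap R (Localization.Away (x * y)) (y * y) * IsLocalization.Away.invSelf (x * y)}).toSubmodule := by
  classical
  set a : Localization.Away (x * y) :=
    algebraMap R (Localization.Away (x * y)) (x * x) * IsLocalization.Away.invSelf (x * y) with ha
  set b : Localization.Away (x * y) :=
    algebraMap R (Localization.Away (x * y)) (y * y) * IsLocalization.Away.invSelf (x * y) with hb
  have hinv : algebraMap R (Localization.Away (x * y)) (x * y) *
      IsLocalization.Away.invSelf (x * y) = 1 := IsLocalization.Away.mul_invSelf _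
  simp only [map_mul] at hinv
  have hab : a * b = 1 := by
    rw [ha, hb, map_mul, map_mul]
    linear_combination (algebraMap R (Localization.Away (x * y)) x *
      algebraMap R (Localization.Away (x * y)) y * IsLocalization.Away.invSelf (x * y) + 1) * hinv
  have hay : a * algebraMap R _ y = algebraMap R _ x := by
    rw [ha, map_mul]
    linear_combination (algebraMap R (Localization.Away (x * y)) x) * hinv
  have hbx : b * algebraMap R _ x = algebraMap R _ y := by
    rw [hb, map_mul]
    linear_combination (algebraMap R (Localization.Away (x * y)) y) * hinv
  have hspan : ∀ c : Localization.Away (x * y), (Algebra.adjoin R {c}).toSubmodule =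
      Submodule.span R (Set.range fun i : ℕ => c ^ i) := by
    intro c
    rw [Algebra.adjoin_eq_span]
    congr 1
    ext t
    simp [Submonoid.mem_closure_singleton]
  have hmulpow : ∀ i j : ℕ, (j ≤ i → a ^ i * b ^ j = a ^ (i - j)) ∧
      (i ≤ j → a ^ i * b ^ j = b ^ (j - i)) := by
    intro i j
    refine ⟨fun h => ?_, fun h => ?_⟩
    · obtain ⟨k, rfl⟩ := Nat.exists_eq_add_of_le h
      rw [Nat.add_sub_cancel_left, pow_add, mul_right_comm, ← mul_pow, hab, one_pow, one_mul]
    · obtain ⟨k, rfl⟩ := Nat.exists_eq_add_of_le h
      rw [Nat.add_sub_cancel_left, pow_add, ← mul_assoc, ← mul_pow, hab, one_pow, one_mul]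
  constructor
  · refine le_antisymm ?_ ?_
    · rintro z ⟨hza, hzb⟩
      rw [SetLike.mem_coe, Subalgebra.mem_toSubmodule, Algebra.adjoin_singleton_eq_range_aeval]
        at hza hzb
      obtain ⟨P, hP⟩ := hza
      obtain ⟨Q, hQ⟩ := hzb
      change Polynomial.aeval a P = z at hP
      change Polynomial.aeval b Q = z at hQ
      let n := P.natDegree
      let m := Q.natDegree
      let s : Set (Localization.Away (x * y)) :=
        ((fun i => a ^ i) '' Set.Iic n) ∪ ((fun i => b ^ i) '' Set.Iic m)
      let M := Submodule.span R s
      haveI : Module.Finite R M := Module.Finite.span_of_finite R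
        (((Set.finite_Iic n).image _).union ((Set.finite_Iic m).image _))
      have haM : ∀ i ≤ n, a ^ i ∈ M := fun i hi =>
        Submodule.subset_span (Or.inl ⟨i, hi, rfl⟩)
      have hbM : ∀ i ≤ m, b ^ i ∈ M := fun i hi =>
        Submodule.subset_span (Or.inr ⟨i, hi, rfl⟩)
      have hstab : ∀ w ∈ M, z * w ∈ M := by
        suffices h : M ≤ M.comap (LinearMap.mulLeft R z) from fun w hw => h hw
        rw [Submodule.span_le]
        rintro w (⟨i, hi, rfl⟩ | ⟨i, hi, rfl⟩)
        · change z * a ^ i ∈ M
          rw [← hQ, Polynomial.aeval_eq_sum_range, Finset.sum_mul]
          refine Submodule.sum_mem _ fun j hj => ?_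
          rw [smul_mul_assoc, mul_comm (b ^ j)]
          refine M.smul_mem _ ?_
          have hj' : j ≤ m := by simp [m] at hj ⊢; omega
          have hi' : i ≤ n := hi
          rcases le_total j i with h | h
          · rw [(hmulpow i j).1 h]
            exact haM _ (by omega)
          · rw [(hmulpow i j).2 h]
            exact hbM _ (by omega)
        · change z * b ^ i ∈ M
          rw [← hP, Polynomial.aeval_eq_sum_range, Finset.sum_mul]
          refine Submodule.sum_mem _ fun j hj => ?_
          rw [smul_mul_assoc]
          refine M.smul_mem _ ?_
          have hj' : j ≤ n := by simp [n] at hj ⊢; omega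
          have hi' : i ≤ m := hi
          rcases le_total i j with h | h
          · rw [(hmulpow j i).1 h]
            exact haM _ (by omega)
          · rw [(hmulpow j i).2 h]
            exact hbM _ (by omega)
      have hint' : IsIntegral R z := by
        let f : Module.End R M := (LinearMap.mulLeft R z).restrict hstab
        obtain ⟨p, hpm, hp⟩ := LinearMap.exists_monic_and_aeval_eq_zero R f
        have h1 : ∀ (q : Polynomial R) (w : M),
            ((Polynomial.aeval f q w : M) : Localization.Away (x * y)) =
              Polynomial.aeval z q * (w : Localization.Away (x * y)) := by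
          intro q
          induction q using Polynomial.induction_on' with
          | add q q' hq hq' =>
            intro w
            simp [add_mul, hq w, hq' w]
          | monomial k c =>
            intro w
            induction k generalizing w with
            | zero => simp [Algebra.smul_def]
            | succ k ih =>
              rw [← Polynomial.monomial_mul_X, map_mul, map_mul, Polynomial.aeval_X,
                Polynomial.aeval_X, Module.End.mul_apply, ih (f w), mul_assoc]
              rfl
        refine ⟨p, hpm, ?_⟩
        have h2 := h1 p ⟨1, by simpa using haM 0 (Nat.zero_le _)⟩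
        rw [show Polynomial.aeval f p = 0 from hp] at h2
        simpa [Polynomial.aeval_def] using h2.symm
      rw [Subalgebra.mem_toSubmodule, Algebra.mem_bot]
      have main : ∀ (u v : R) (c d : Localization.Away (x * y)),
          IsIntegrallyClosedIn R (Localization.Away u) → v ∈ nonZeroDivisors R →
          u ∈ nonZeroDivisors R → u * v = x * y → d * algebraMap R _ u = algebraMap R _ v →
          (∃ p : Polynomial R, Polynomial.aeval d p = z) →
          z ∈ Set.range (algebraMap R (Localization.Away (x * y))) := by
        intro u v _ d hcl hv hu huv hd ⟨p, hp⟩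
        have hxy : IsUnit (algebraMap R (Localization.Away (x * y)) (x * y)) :=
          IsLocalization.Away.algebraMap_isUnit _
        have huu : IsUnit (algebraMap R (Localization.Away (x * y)) u) := by
          have h : algebraMap R (Localization.Away (x * y)) (u * v) =
              algebraMap R (Localization.Away (x * y)) (x * y) := congrArg _ huv
          rw [← h, map_mul] at hxy
          exact isUnit_of_mul_isUnit_left hxy
        let ι : Localization.Away u →ₐ[R] Localization.Away (x * y) :=
          { IsLocalization.Away.lift u huu with
            commutes' := fun r => IsLocalization.Away.lift_eq u huu r }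
        have hι : Function.Injective ι := by
          rw [injective_iff_map_eq_zero]
          intro w hw
          obtain ⟨k, r, hr⟩ : ∃ (k : ℕ) (r : R),
              w * algebraMap R _ (u ^ k) = algebraMap R _ r := by
            obtain ⟨k, r, hr⟩ := IsLocalization.Away.surj u w
            exact ⟨k, r, by rw [map_pow]; exact hr⟩
          have h0 : algebraMap R (Localization.Away (x * y)) r = 0 := by
            rw [← ι.commutes, ← hr, map_mul, hw, zero_mul]
          rw [IsLocalization.map_eq_zero_iff (Submonoid.powers (x * y))] at h0
          obtain ⟨⟨_, l, rfl⟩, hl⟩ := h0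
          have hr0 : r = 0 := by
            apply (mem_nonZeroDivisors_iff.mp (pow_mem (huv ▸ mul_mem hu hv) l)).1
            exact hl
          have hu' : IsUnit (algebraMap R (Localization.Away u) (u ^ k)) :=
            map_pow (algebraMap R (Localization.Away u)) u k ▸
              (IsLocalization.Away.algebraMap_isUnit u).pow k
          rw [hr0, map_zero] at hr
          exact hu'.mul_left_eq_zero.mp hr
        let d' : Localization.Away u :=
          algebraMap R _ v * IsLocalization.Away.invSelf u
        have hd' : ι d' = d := by
          have h1 : ι d' * algebraMap R _ u = algebraMap R _ v := by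
            rw [← ι.commutes u, ← map_mul, mul_assoc, mul_comm (IsLocalization.Away.invSelf u),
              IsLocalization.Away.mul_invSelf, mul_one, AlgHom.commutes]
          exact huu.mul_right_cancel (h1.trans hd.symm)
        have hz : ι (Polynomial.aeval d' p) = z := by
          rw [← Polynomial.aeval_algHom_apply, hd', hp]
        have hi : IsIntegral R (Polynomial.aeval d' p) := by
          rw [← isIntegral_algHom_iff ι hι, hz]
          exact hint'
        obtain ⟨r, hr⟩ := IsIntegrallyClosedIn.isIntegral_iff.mp hi
        exact ⟨r, by rw [← hz, ← hr, AlgHom.commutes]⟩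
      rcases hint with h | h
      · exact main x y a b h hy hx rfl hbx ⟨Q, hQ⟩
      · exact main y x b a h hx hy (mul_comm y x) hay ⟨P, hP⟩
    · refine le_inf ?_ ?_ <;> exact fun z hz => (bot_le : (⊥ : Subalgebra R _) ≤ _) hz
  · refine le_antisymm (sup_le ?_ ?_) ?_
    · exact fun z hz => Algebra.adjoin_mono (by simp) hz
    · exact fun z hz => Algebra.adjoin_mono (by simp) hz
    · rw [Algebra.adjoin_eq_span, Submodule.span_le, hspan a, hspan b]
      intro z hz
      obtain ⟨i, j, rfl⟩ := (Submonoid.mem_closure_pair a b z).mp hz
      rcases le_total j i with h | h
      · rw [(hmulpow i j).1 h]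
        exact Submodule.mem_sup_left (Submodule.subset_span ⟨i - j, rfl⟩)
      · rw [(hmulpow i j).2 h]
        exact Submodule.mem_sup_right (Submodule.subset_span ⟨j - i, rfl⟩)

end Groth.Agent.S9654
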