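import Groth.Statements.S9655
import Mathlib
-- import your own Groth.Agent.* helpers here

set_option autoImplicit false
universe u
open CAlg

namespace Groth.Agent.S9655

/-- Let R and S be local rings and R → S a ring map, not necessarily local, that is essentially of
finite type. Then for some n there is a maximal ideal m of the polynomial ring R[x_1, …, x_n] lying
over the maximal ideal of R, together with an R-algebra map φ : R[x_1, …, x_n]_m → S making S a
localization of the image of φ; thus S arises from R[x_1, …, x_n]_m by passing to a quotient and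
then localizing. -/
theorem result {R S : Type u} [CommRing R] [CommRing S] [Algebra R S] [IsLocalRing R] [IsLocalRing S] [Algebra.EssFiniteType R S] :
    ∃ (n : ℕ) (m : Ideal (MvPolynomial (Fin n) R)) (_ : m.IsMaximal), m.under R = IsLocalRing.maximalIdeal R ∧
      ∃ (φ : Localization.AtPrime m →ₐ[R] S) (T : Submonoid φ.range), IsLocalization T S := by
  classical
  obtain ⟨σ, hσ⟩ := (Algebra.essFiniteType_iff R S).1 inferInstance
  let k := IsLocalRing.ResidueField S
  let res : S →+* k := IsLocalRing.residue S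
  let f : R →+* k := res.comp (algebraMap R S)
  obtain ⟨V, hV⟩ := LocalSubring.exists_le_valuationSubring (LocalSubring.range f)
  obtain ⟨hle, hloc⟩ := LocalSubring.le_def.1 hV
  have hfV : ∀ r, f r ∈ V := fun r => hle ⟨r, rfl⟩
  have hfm : ∀ r ∈ IsLocalRing.maximalIdeal R, ¬ IsUnit (⟨f r, hfV r⟩ : V) := by
    intro r hr hu
    have h1 : IsUnit (⟨f r, ⟨r, rfl⟩⟩ : (LocalSubring.range f).toSubring) :=
      hloc.map_nonunit ⟨f r, ⟨r, rfl⟩⟩ hu
    obtain ⟨⟨_, r', rfl⟩, hb⟩ := isUnit_iff_exists_inv.1 h1
    have hb' : f r * f r' = 1 := congrArg Subtype.val hb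
    have hunit : IsUnit (1 - r * r') :=
      IsLocalRing.isUnit_one_sub_self_of_mem_nonunits _ (Ideal.mul_mem_right r' _ hr)
    have h2 := hunit.map f
    rw [map_sub, map_one, map_mul, hb', sub_self] at h2
    exact not_isUnit_zero h2
  have hchoose : ∀ x : S, ∃ y : S, res y ∈ V ∧ (y = x ∨ x * y = 1) := by
    intro x
    rcases V.mem_or_inv_mem (res x) with h | h
    · exact ⟨x, h, Or.inl rfl⟩
    · by_cases h0 : res x = 0
      · exact ⟨x, by rw [h0]; exact zero_mem V, Or.inl rfl⟩
      · have hu : IsUnit x := (IsLocalRing.residue_ne_zero_iff_isUnit x).1 h0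
        obtain ⟨y, hy⟩ := hu.exists_right_inv
        refine ⟨y, ?_, Or.inr hy⟩
        rwa [show res y = (res x)⁻¹ from eq_inv_of_mul_eq_one_right (by rw [← map_mul, hy, map_one])]
  choose g hgV hgx using hchoose
  let n := σ.card
  let y : Fin n → S := fun i => g (σ.equivFin.symm i)
  let ψ : MvPolynomial (Fin n) R →ₐ[R] S := MvPolynomial.aeval y
  have hψV : ∀ z, res (ψ z) ∈ V := by
    intro z
    induction z using MvPolynomial.induction_on with
    | C r => simp only [ψ, MvPolynomial.aeval_C]; exact hfV r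
    | add p q hp hq => rw [map_add, map_add]; exact add_mem hp hq
    | mul_X p i hp =>
      rw [map_mul, map_mul]
      refine mul_mem hp ?_
      simp only [ψ, MvPolynomial.aeval_X]
      exact hgV _
  let θ : MvPolynomial (Fin n) R →+* V :=
    RingHom.codRestrict (res.comp ψ.toRingHom) V hψV
  let P : Ideal (MvPolynomial (Fin n) R) := (IsLocalRing.maximalIdeal V).comap θ
  have hPne : P ≠ ⊤ := Ideal.comap_ne_top θ (IsLocalRing.maximalIdeal.isMaximal V).ne_top
  obtain ⟨m, hm, hPm⟩ := Ideal.exists_le_maximal P hPne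
  have hunder : m.under R = IsLocalRing.maximalIdeal R := by
    refine ((IsLocalRing.maximalIdeal.isMaximal R).eq_of_le (Ideal.IsPrime.under R m).ne_top ?_).symm
    intro r hr
    refine hPm ?_
    show θ (algebraMap R _ r) ∈ IsLocalRing.maximalIdeal V
    have hθ : θ (algebraMap R _ r) = ⟨f r, hfV r⟩ := Subtype.ext (by simp [θ, f, ψ])
    rw [hθ]
    exact hfm r hr
  have hunit : ∀ z : m.primeCompl, IsUnit (ψ z) := by
    intro z
    have hz : θ z ∉ IsLocalRing.maximalIdeal V := fun h => z.2 (hPm h)
    refine (IsLocalRing.residue_ne_zero_iff_isUnit _).1 fun h0 => hz ?_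
    have : θ z = 0 := Subtype.ext h0
    rw [this]
    exact Ideal.zero_mem _
  let φ : Localization.AtPrime m →ₐ[R] S := IsLocalization.liftAlgHom hunit
  refine ⟨n, m, hm, hunder, φ, (IsUnit.submonoid S).comap φ.range.val, ?_⟩
  have hyrange : ∀ i, y i ∈ φ.range := fun i =>
    ⟨algebraMap (MvPolynomial (Fin n) R) _ (MvPolynomial.X i), by
      show IsLocalization.liftAlgHom (M := m.primeCompl) (S := Localization.AtPrime m) hunit _ = _
      rw [IsLocalization.liftAlgHom_apply, IsLocalization.lift_eq]; simp [ψ]⟩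
  -- fractions of elements of the image
  let Frac : S → Prop := fun s => ∃ t ∈ φ.range, IsUnit t ∧ s * t ∈ φ.range
  have hFrac : ∀ s ∈ Algebra.adjoin R (σ : Set S), Frac s := by
    intro s hs
    induction hs using Algebra.adjoin_induction with
    | mem x hx =>
      have hmem : g x ∈ φ.range := by
        have := hyrange (σ.equivFin ⟨x, hx⟩)
        simpa [y] using this
      rcases hgx x with h | h
      · exact ⟨1, one_mem _, isUnit_one, by rw [mul_one, ← h]; exact hmem⟩
      · exact ⟨g x, hmem, IsUnit.of_mul_eq_one_right _ h, by rw [h]; exact one_mem _⟩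
    | algebraMap r => exact ⟨1, one_mem _, isUnit_one, by rw [mul_one]; exact φ.range.algebraMap_mem r⟩
    | add a b _ _ ha hb =>
      obtain ⟨t, ht, htu, hat⟩ := ha
      obtain ⟨u, hu, huu, hbu⟩ := hb
      refine ⟨t * u, mul_mem ht hu, htu.mul huu, ?_⟩
      rw [show (a + b) * (t * u) = a * t * u + b * u * t by ring]
      exact add_mem (mul_mem hat hu) (mul_mem hbu ht)
    | mul a b _ _ ha hb =>
      obtain ⟨t, ht, htu, hat⟩ := ha
      obtain ⟨u, hu, huu, hbu⟩ := hb
      refine ⟨t * u, mul_mem ht hu, htu.mul huu, ?_⟩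
      rw [show (a * b) * (t * u) = (a * t) * (b * u) by ring]
      exact mul_mem hat hbu
  refine { map_units := ?_, surj := ?_, exists_of_eq := ?_ }
  · exact fun t => t.2
  · intro s
    obtain ⟨t, ht, htu, hst⟩ := hσ s
    obtain ⟨t1, ht1, ht1u, hb1⟩ := hFrac t ht
    obtain ⟨t2, ht2, ht2u, hb2⟩ := hFrac (s * t) hst
    refine ⟨⟨⟨s * t * t2 * t1, mul_mem hb2 ht1⟩, ⟨⟨t * t1 * t2, mul_mem hb1 ht2⟩, (htu.mul ht1u).mul ht2u⟩⟩, ?_⟩
    show s * (t * t1 * t2) = s * t * t2 * t1
    ring
  · exact fun h => ⟨1, by simpa using Subtype.ext h⟩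

end Groth.Agent.S9655
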