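import Groth.Statements.S9656
import Mathlib.RingTheory.IntegralClosure.IsIntegral.Basic
import Mathlib.Algebra.Polynomial.Monic
-- import your own Groth.Agent.* helpers here

set_option autoImplicit false
universe u
open CAlg

namespace Groth.Agent.S9656

/-- Let R_i → S_i be ring maps indexed by a finite type ι, with product map R = Π R_i → S = Π S_i. Then
an element (s_i) of S is integral over R exactly when s_i is integral over R_i for every i; so
integral closure in a finite product is computed factor by factor. -/
theorem result {ι : Type u} [Fintype ι] {R S : ι → Type u} [∀ i, CommRing (R i)] [∀ i, CommRing (S i)] (f : ∀ i, R i →+* S i) (s : ∀ i, S i) :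
    (RingHom.pi fun i => (f i).comp (Pi.evalRingHom R i)).IsIntegralElem s ↔ ∀ i, (f i).IsIntegralElem (s i) := by
  constructor
  · rintro ⟨p, hp, hp0⟩ i
    refine ⟨p.map (Pi.evalRingHom R i), hp.map _, ?_⟩
    have h := congrArg (Pi.evalRingHom S i) hp0
    rw [Polynomial.hom_eval₂, map_zero] at h
    rw [Polynomial.eval₂_map]
    exact h
  · intro h
    choose p hp hp0 using h
    let N := Finset.univ.sup fun i => (p i).natDegree
    let q : ∀ i, Polynomial (R i) := fun i => p i * Polynomial.X ^ (N - (p i).natDegree)
    have hq : ∀ i, (q i).Monic := fun i => (hp i).mul (Polynomial.monic_X_pow _)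
    have hqd : ∀ i, (q i).natDegree ≤ N := fun i => by
      refine Polynomial.natDegree_mul_le.trans ?_
      have h2 := Polynomial.natDegree_X_pow_le (R := R i) (N - (p i).natDegree)
      have h1 : (p i).natDegree ≤ N := Finset.le_sup (f := fun i => (p i).natDegree) (Finset.mem_univ i)
      omega
    refine ⟨Polynomial.X ^ N + ∑ k : Fin N, Polynomial.C (fun i => (q i).coeff k) * Polynomial.X ^ (k : ℕ),
      Polynomial.monic_X_pow_add (Polynomial.degree_sum_fin_lt _), funext fun i => ?_⟩
    show Pi.evalRingHom S i _ = 0
    rw [Polynomial.hom_eval₂]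
    have hq0 : Polynomial.eval₂ (f i) (s i) (q i) = 0 := by
      rw [Polynomial.eval₂_mul, hp0 i, zero_mul]
    have hlead : (q i).coeff N = 1 := by
      have h1 : (p i).natDegree ≤ N := Finset.le_sup (f := fun i => (p i).natDegree) (Finset.mem_univ i)
      have := Polynomial.coeff_mul_X_pow (p i) (N - (p i).natDegree) (p i).natDegree
      rw [Nat.add_sub_cancel' h1] at this
      rw [this, (hp i).coeff_natDegree]
    rw [← hq0, (q i).as_sum_range' (N + 1) (Nat.lt_succ_of_le (hqd i)), Finset.sum_range_succ, hlead,
      Finset.sum_range]
    simp [Polynomial.eval₂_finsetSum, add_comm]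

end Groth.Agent.S9656
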