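import Groth.Statements.S9657
import Groth.Agent.Lib.GeomIrrAlg.RatFunc
-- import your own Groth.Agent.* helpers here

set_option autoImplicit false
universe u
open CAlg

namespace Groth.Agent.S9657

open TensorProduct in
/-- Let K/k be a field extension and let k(t) ⊆ K(t) be the purely transcendental extensions in one
variable, realised as fraction fields of k[t] and K[t] compatibly with k[t] → K[t]. Then K is
geometrically irreducible over k (Spec(k' ⊗_k K) irreducible for every field extension k'/k) if and
only if K(t) is geometrically irreducible over k(t). Here the test fields range over field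
extensions of k, respectively of k(t), in the universe of k; this is equivalent to the unrestricted
notions, since an algebraic closure of the base field suffices as a test. -/
theorem result {k K : Type u} [Field k] [Field K] [Algebra k K]
    (kt Kt : Type u) [Field kt] [Field Kt] [Algebra (Polynomial k) kt] [IsFractionRing (Polynomial k) kt] [Algebra (Polynomial K) Kt] [IsFractionRing (Polynomial K) Kt]
    [Algebra kt Kt] (hcompat : ∀ p : Polynomial k, algebraMap kt Kt (algebraMap (Polynomial k) kt p) = algebraMap (Polynomial K) Kt (Polynomial.map (algebraMap k K) p)) :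
    (∀ (k' : Type u) [Field k'] [Algebra k k'], IrreducibleSpace (PrimeSpectrum (k' ⊗[k] K))) ↔
      ∀ (L : Type u) [Field L] [Algebra kt L], IrreducibleSpace (PrimeSpectrum (L ⊗[kt] Kt)) := by
  let _ : Algebra k kt := ((algebraMap (Polynomial k) kt).comp Polynomial.C).toAlgebra
  let _ : Algebra k Kt := ((algebraMap (Polynomial K) Kt).comp (Polynomial.C.comp (algebraMap k K))).toAlgebra
  have : IsScalarTower k (Polynomial k) kt := IsScalarTower.of_algebraMap_eq fun _ => rfl
  have : IsScalarTower k kt Kt := IsScalarTower.of_algebraMap_eq fun r =>
    ((hcompat (Polynomial.C r)).trans (by rw [Polynomial.map_C]; rfl)).symm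
  let j : K →ₐ[k] Kt :=
    { toRingHom := (algebraMap (Polynomial K) Kt).comp Polynomial.C
      commutes' := fun _ => rfl }
  constructor
  · intro h L _ _
    let _ : Algebra k L := ((algebraMap kt L).comp (algebraMap k kt)).toAlgebra
    have : IsScalarTower k kt L := IsScalarTower.of_algebraMap_eq fun _ => rfl
    exact GrothLib.GeomIrrAlg.irreducibleSpace_ratFunc hcompat j (fun _ => rfl) L (h L)
  · intro h k' _ _
    exact GrothLib.GeomIrrAlg.irreducibleSpace_of_sepClosed k K (SeparableClosure k)
      (GrothLib.GeomIrrAlg.irreducibleSpace_sepClosure k K fun E _ _ _ _ =>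
        GrothLib.GeomIrrAlg.irreducibleSpace_finite_separable
          (GrothLib.GeomIrrAlg.mem_range_of_ratFunc hcompat j (fun _ => rfl)
            (GrothLib.GeomIrrAlg.mem_range_of_irreducible h)) E) k'


end Groth.Agent.S9657
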