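import Groth.Statements.S9658
import Mathlib
-- import your own Groth.Agent.* helpers here

set_option autoImplicit false
universe u
open CAlg

namespace Groth.Agent.S9658

/-- Let R be a ring, f_1, …, f_n ∈ R generating the unit ideal and M an R-module. With M_i = M_{f_i},
M_ij = M_{f_i f_j} (any localizations, with the canonical compatible maps M → M_i → M_ij), the
sequence 0 → M → ⊕ M_i → ⊕ M_ij is exact: an element of M whose image vanishes in every M_i is zero,
and every family (m_i ∈ M_i) such that m_i and m_j have the same image in M_ij for all i, j is the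
image of an element of M. -/
theorem result {R : Type u} [CommRing R] {ι : Type u} [Fintype ι] (f : ι → R) (hf : Ideal.span (Set.range f) = ⊤)
    (M : Type u) [AddCommGroup M] [Module R M]
    (Mi : ι → Type u) [∀ i, AddCommGroup (Mi i)] [∀ i, Module R (Mi i)] (g : ∀ i, M →ₗ[R] Mi i) [∀ i, IsLocalizedModule (Submonoid.powers (f i)) (g i)]
    (Mij : ι → ι → Type u) [∀ i j, AddCommGroup (Mij i j)] [∀ i j, Module R (Mij i j)] (gij : ∀ i j, M →ₗ[R] Mij i j) [∀ i j, IsLocalizedModule (Submonoid.powers (f i * f j)) (gij i j)]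
    (ρ₁ : ∀ i j, Mi i →ₗ[R] Mij i j) (hρ₁ : ∀ i j, ρ₁ i j ∘ₗ g i = gij i j) (ρ₂ : ∀ i j, Mi j →ₗ[R] Mij i j) (hρ₂ : ∀ i j, ρ₂ i j ∘ₗ g j = gij i j) :
    (∀ m : M, (∀ i, g i m = 0) → m = 0) ∧
      ∀ s : ∀ i, Mi i, (∀ i j, ρ₁ i j (s i) = ρ₂ i j (s j)) → ∃ m : M, ∀ i, g i m = s i := by
  classical
  have hpow : ∀ n : ι → ℕ, Ideal.span (Set.range fun i ↦ f i ^ n i) = ⊤ := fun n ↦ by
    refine top_le_iff.mp ((Ideal.span_pow_eq_top _ hf (Finset.univ.sup n)).ge.trans (Ideal.span_le.mpr ?_))
    rintro _ ⟨_, ⟨i, rfl⟩, rfl⟩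
    simp only
    rw [← Nat.sub_add_cancel (Finset.le_sup (Finset.mem_univ i) : n i ≤ Finset.univ.sup n), pow_add]
    exact Ideal.mul_mem_left _ _ (Ideal.subset_span ⟨i, rfl⟩)
  refine ⟨fun m hm ↦ ?_, fun s hs ↦ ?_⟩
  · choose c hc using fun i ↦ (IsLocalizedModule.eq_zero_iff (Submonoid.powers (f i)) (g i)).mp (hm i)
    choose n hn using fun i ↦ (c i).2
    have hle : Ideal.span (Set.range fun i ↦ f i ^ n i) ≤ (Submodule.span R {m}).annihilator := by
      rw [Ideal.span_le]
      rintro _ ⟨i, rfl⟩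
      rw [SetLike.mem_coe, Submodule.mem_annihilator_span_singleton]
      have := hc i; rw [Submonoid.smul_def, ← hn i] at this; exact this
    rw [hpow n] at hle
    have := hle (Submodule.mem_top (x := (1 : R)))
    rwa [Submodule.mem_annihilator_span_singleton, one_smul] at this
  · choose x hx using fun i ↦ IsLocalizedModule.surj (Submonoid.powers (f i)) (g i) (s i)
    choose a ha using fun i ↦ (x i).2.2
    let N := Finset.univ.sup a
    let m : ι → M := fun i ↦ f i ^ (N - a i) • (x i).1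
    have hm : ∀ i, g i (m i) = f i ^ N • s i := fun i ↦ by
      rw [map_smul, ← hx i, Submonoid.smul_def, ← ha i, smul_smul, ← pow_add, Nat.sub_add_cancel (Finset.le_sup (Finset.mem_univ i))]
    have hK : ∀ i j, ∃ K : ℕ, (f i * f j) ^ K • (f j ^ N • m i) = (f i * f j) ^ K • (f i ^ N • m j) := fun i j ↦ by
      have h1 : gij i j (f j ^ N • m i) = gij i j (f i ^ N • m j) := by
        have e1 : gij i j (m i) = f i ^ N • ρ₁ i j (s i) := by
          rw [← LinearMap.congr_fun (hρ₁ i j) (m i), LinearMap.comp_apply, hm, map_smul]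
        have e2 : gij i j (m j) = f j ^ N • ρ₂ i j (s j) := by
          rw [← LinearMap.congr_fun (hρ₂ i j) (m j), LinearMap.comp_apply, hm, map_smul]
        rw [(gij i j).map_smul (f j ^ N) (m i), (gij i j).map_smul (f i ^ N) (m j), e1, e2, hs i j, smul_comm]
      obtain ⟨⟨c, K, rfl⟩, hc⟩ := IsLocalizedModule.exists_of_eq (S := Submonoid.powers (f i * f j)) h1
      exact ⟨K, hc⟩
    choose K hK using hK
    let K' := Finset.univ.sup fun p : ι × ι ↦ K p.1 p.2
    have hK' : ∀ i j, f j ^ (N + K') • (f i ^ K' • m i) = f i ^ (N + K') • (f j ^ K' • m j) := fun i j ↦ by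
      have hle : K i j ≤ K' := Finset.le_sup (f := fun p : ι × ι ↦ K p.1 p.2) (Finset.mem_univ (i, j))
      have h := congrArg ((f i * f j) ^ (K' - K i j) • ·) (hK i j)
      simp only [smul_smul, ← mul_assoc, ← pow_add, Nat.sub_add_cancel hle] at h
      have e1 : f j ^ (N + K') * f i ^ K' = (f i * f j) ^ K' * f j ^ N := by ring
      have e2 : f i ^ (N + K') * f j ^ K' = (f i * f j) ^ K' * f i ^ N := by ring
      rw [smul_smul (f j ^ (N + K')), smul_smul (f i ^ (N + K')), e1, e2]
      exact h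
    obtain ⟨c, hc⟩ := Ideal.mem_span_range_iff_exists_fun.mp (show (1 : R) ∈ Ideal.span (Set.range fun i ↦ f i ^ (N + K')) by
      rw [hpow fun _ ↦ N + K']; trivial)
    refine ⟨∑ i, c i • (f i ^ K' • m i), fun j ↦ ?_⟩
    apply (Module.End.isUnit_iff _).mp (IsLocalizedModule.map_units (g j) (⟨f j ^ (N + K'), N + K', rfl⟩ : Submonoid.powers (f j))) |>.1
    show f j ^ (N + K') • g j (∑ i, c i • (f i ^ K' • m i)) = f j ^ (N + K') • s j
    have h2 : f j ^ (N + K') • ∑ i, c i • (f i ^ K' • m i) = f j ^ K' • m j := by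
      rw [Finset.smul_sum, Finset.sum_congr rfl fun i _ ↦ by rw [smul_comm, hK' i j, smul_smul], ← Finset.sum_smul, hc, one_smul]
    rw [← map_smul, h2, map_smul, hm, smul_smul, ← pow_add, add_comm]

end Groth.Agent.S9658
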