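import Groth.Statements.S9659
import Mathlib.RingTheory.GradedAlgebra.Radical
import Mathlib.RingTheory.Spectrum.Prime.RingHom

set_option autoImplicit false
universe u
open CAlg

namespace Groth.Agent.S9659

/-- Let S be a ℤ-graded ring which contains an invertible homogeneous element of positive degree. Then
the set of homogeneous prime ideals of S, with the topology induced from Spec(S), maps
homeomorphically onto Spec(S₀) by p ↦ p ∩ S₀. -/
theorem result {R S : Type u} [CommRing R] [CommRing S] [Algebra R S] (𝒜 : ℤ → Submodule R S) [GradedAlgebra 𝒜]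
    (f : S) (d : ℤ) (hd : 0 < d) (hf : f ∈ 𝒜 d) (hu : IsUnit f) :
    IsHomeomorph (fun p : {p : PrimeSpectrum S // p.asIdeal.IsHomogeneous 𝒜} => PrimeSpectrum.comap (SetLike.GradeZero.subring 𝒜).subtype p.1) := by
  classical
  obtain ⟨finv, hfinv⟩ := hu.exists_right_inv
  have hfinv' : finv ∈ 𝒜 (-d) := by
    have h1 := DirectSum.coe_decompose_mul_add_of_left_mem 𝒜 (b := finv) (j := -d) hf
    rw [hfinv, add_neg_cancel, DirectSum.decompose_of_mem_same 𝒜 SetLike.GradedOne.one_mem] at h1
    have h2 : finv = (DirectSum.decompose 𝒜 finv (-d) : S) := by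
      refine hu.mul_left_cancel ?_
      rw [hfinv, ← h1]
    rw [h2]; exact SetLike.coe_mem _
  set n := d.natAbs with hn
  have hnd : (n : ℤ) = d := Int.natAbs_of_nonneg hd.le
  have hn0 : n ≠ 0 := by omega
  -- homogeneous elements move to degree zero
  have hdeg0 : ∀ (i : ℤ) (x : S), x ∈ 𝒜 i → ∃ w : S, IsUnit w ∧ x ^ n * w ∈ 𝒜 0 := by
    intro i x hx
    have hxn := SetLike.pow_mem_graded n hx
    rcases le_total 0 i with hi | hi
    · refine ⟨finv ^ i.natAbs, (IsUnit.of_mul_eq_one_right _ hfinv).pow _, ?_⟩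
      have := SetLike.mul_mem_graded hxn (SetLike.pow_mem_graded i.natAbs hfinv')
      convert this using 2
      simp only [nsmul_eq_mul, Int.natAbs_of_nonneg hi, hnd]
      ring
    · refine ⟨f ^ i.natAbs, hu.pow _, ?_⟩
      have := SetLike.mul_mem_graded hxn (SetLike.pow_mem_graded i.natAbs hf)
      convert this using 2
      simp only [nsmul_eq_mul, Int.ofNat_natAbs_of_nonpos hi, hnd]
      ring
  choose W hWu hW using hdeg0
  let comp : S → ℤ → SetLike.GradeZero.subring 𝒜 := fun g i =>
    ⟨(DirectSum.decompose 𝒜 g i : S) ^ n * W i _ (SetLike.coe_mem (DirectSum.decompose 𝒜 g i)),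
      hW i _ (SetLike.coe_mem _)⟩
  let φ : {p : PrimeSpectrum S // p.asIdeal.IsHomogeneous 𝒜} →
      PrimeSpectrum (SetLike.GradeZero.subring 𝒜) :=
    fun p => PrimeSpectrum.comap (SetLike.GradeZero.subring 𝒜).subtype p.1
  have hkey : ∀ (p : {p : PrimeSpectrum S // p.asIdeal.IsHomogeneous 𝒜}) (g : S) (i : ℤ),
      (DirectSum.decompose 𝒜 g i : S) ∈ p.1.asIdeal ↔ comp g i ∈ (φ p).asIdeal := by
    intro p g i
    show _ ↔ _ * _ ∈ p.1.asIdeal
    rw [Ideal.mul_unit_mem_iff_mem _ (hWu _ _ _), p.1.2.pow_mem_iff_mem _ (Nat.pos_of_ne_zero hn0)]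
  have hsurj : Function.Surjective φ := by
    intro q
    have hq : q ∈ Set.range (PrimeSpectrum.comap (SetLike.GradeZero.subring 𝒜).subtype) := by
      rw [PrimeSpectrum.mem_range_comap_iff]
      refine le_antisymm (fun x hx => ?_) Ideal.le_comap_map
      have key : ∀ y ∈ q.asIdeal.map (SetLike.GradeZero.subring 𝒜).subtype, ∀ c : S,
          ∃ z : SetLike.GradeZero.subring 𝒜, z ∈ q.asIdeal ∧
            (z : S) = (DirectSum.decompose 𝒜 (c * y) 0 : S) := by
        intro y hy
        induction hy using Submodule.span_induction with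
        | mem y hy =>
          obtain ⟨a, ha, rfl⟩ := hy
          intro c
          refine ⟨⟨_, SetLike.coe_mem (DirectSum.decompose 𝒜 c 0)⟩ * a,
            Ideal.mul_mem_left _ _ ha, ?_⟩
          have h := DirectSum.coe_decompose_mul_add_of_left_mem 𝒜 (a := (a : S)) (i := 0) (b := c)
            (j := 0) a.2
          rw [zero_add, mul_comm] at h
          rw [mul_comm] at h
          show (DirectSum.decompose 𝒜 c 0 : S) * (a : S) = _
          rw [show c * ((SetLike.GradeZero.subring 𝒜).subtype a) = (a : S) * c from mul_comm _ _, h,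
            mul_comm]
        | zero => intro c; exact ⟨0, zero_mem _, by simp⟩
        | add y y' _ _ hy hy' =>
          intro c
          obtain ⟨z, hz, e⟩ := hy c
          obtain ⟨z', hz', e'⟩ := hy' c
          exact ⟨z + z', add_mem hz hz', by
            rw [mul_add, DirectSum.decompose_add, DirectSum.add_apply, Submodule.coe_add, ← e, ← e']
            rfl⟩
        | smul a y _ hy =>
          intro c
          obtain ⟨z, hz, e⟩ := hy (c * a)
          exact ⟨z, hz, by rw [e, smul_eq_mul, mul_assoc]⟩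
      obtain ⟨z, hz, e⟩ := key _ hx 1
      rw [one_mul, show ((SetLike.GradeZero.subring 𝒜).subtype x) = (x : S) from rfl,
        DirectSum.decompose_of_mem_same 𝒜 x.2] at e
      exact Subtype.ext e ▸ hz
    obtain ⟨P, hP⟩ := hq
    refine ⟨⟨⟨_, P.2.homogeneousCore (𝒜 := 𝒜)⟩,
      (P.asIdeal.homogeneousCore 𝒜).isHomogeneous⟩, ?_⟩
    rw [← hP]
    refine PrimeSpectrum.ext (Ideal.ext fun x => ⟨fun h => Ideal.toIdeal_homogeneousCore_le 𝒜 _ h,
      fun h => Ideal.mem_homogeneousCore_of_homogeneous_of_mem ⟨0, x.2⟩ h⟩)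
  refine ⟨(PrimeSpectrum.continuous_comap _).comp continuous_subtype_val, ?_, ?_, hsurj⟩
  · have hB := PrimeSpectrum.isTopologicalBasis_basic_opens.isInducing
      (f := (Subtype.val : {p : PrimeSpectrum S // p.asIdeal.IsHomogeneous 𝒜} → PrimeSpectrum S))
      Topology.IsInducing.subtypeVal
    rw [hB.isOpenMap_iff]
    rintro U ⟨_, ⟨g, rfl⟩, rfl⟩
    have himg : φ '' (Subtype.val ⁻¹' (PrimeSpectrum.basicOpen g : Set (PrimeSpectrum S))) =
        ⋃ i, (PrimeSpectrum.basicOpen (comp g i) : Set _) := by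
      ext q
      simp only [Set.mem_image, Set.mem_preimage, SetLike.mem_coe, PrimeSpectrum.mem_basicOpen,
        Set.mem_iUnion]
      constructor
      · rintro ⟨p, hp, rfl⟩
        rw [p.2.mem_iff] at hp
        push Not at hp
        obtain ⟨i, hi⟩ := hp
        exact ⟨i, fun h => hi ((hkey p g i).2 h)⟩
      · rintro ⟨i, hi⟩
        obtain ⟨p, rfl⟩ := hsurj q
        refine ⟨p, fun h => hi ((hkey p g i).1 ?_), rfl⟩
        exact (p.2.mem_iff 𝒜).1 h i
    show IsOpen (φ '' (Subtype.val ⁻¹' (PrimeSpectrum.basicOpen g : Set (PrimeSpectrum S))))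
    rw [himg]
    exact isOpen_iUnion fun i => (PrimeSpectrum.basicOpen _).2
  · intro p p' h
    refine Subtype.ext (PrimeSpectrum.ext (Ideal.ext fun x => ?_))
    rw [p.2.mem_iff, p'.2.mem_iff]
    refine forall_congr' fun i => ?_
    rw [hkey p x i, hkey p' x i, show φ p = φ p' from h]

end Groth.Agent.S9659
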