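import Groth.Statements.S9660
import Mathlib.AlgebraicGeometry.ProjectiveSpectrum.Topology
import Mathlib.RingTheory.GradedAlgebra.Radical

set_option autoImplicit false
universe u
open CAlg

namespace Groth.Agent.S9660

/-- Let S be an ℕ-graded ring and I a homogeneous ideal of S. Then V₊(I) ⊆ Proj(S) is empty if and only
if S₊ ⊆ √I. -/
theorem result {R S : Type u} [CommRing R] [CommRing S] [Algebra R S] (𝒜 : ℕ → Submodule R S) [GradedAlgebra 𝒜] (I : HomogeneousIdeal 𝒜) :
    ProjectiveSpectrum.zeroLocus 𝒜 (I : Set S) = ∅ ↔ (HomogeneousIdeal.irrelevant 𝒜).toIdeal ≤ I.toIdeal.radical := by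
  constructor
  · intro h
    rw [Ideal.radical_eq_sInf]
    refine le_sInf ?_
    rintro p ⟨hIp, hp⟩
    by_contra hn
    have h1 : I.toIdeal ≤ (p.homogeneousCore 𝒜).toIdeal :=
      calc I.toIdeal = (I.toIdeal.homogeneousCore 𝒜).toIdeal :=
            (I.isHomogeneous.toIdeal_homogeneousCore_eq_self).symm
        _ ≤ _ := Ideal.homogeneousCore_mono 𝒜 hIp
    let x : ProjectiveSpectrum 𝒜 := ⟨p.homogeneousCore 𝒜, hp.homogeneousCore,
      fun hle => hn (le_trans hle (Ideal.toIdeal_homogeneousCore_le 𝒜 p))⟩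
    have hx : x ∈ ProjectiveSpectrum.zeroLocus 𝒜 (I : Set S) := h1
    rw [h] at hx
    exact hx
  · intro h
    refine Set.eq_empty_of_forall_notMem fun x hx => x.not_irrelevant_le ?_
    exact h.trans (x.isPrime.radical_le_iff.2 hx)

end Groth.Agent.S9660
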