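import Groth.Statements.S9661
import Groth.Agent.Lib.HilbSam.PolyModule
import Groth.Agent.Lib.AugId.Graded
import Mathlib


set_option autoImplicit false
set_option linter.all false
universe u
attribute [local instance] MvPolynomial.gradedAlgebra
open CAlg

namespace Groth.Agent.S9661

variable (k : Type u) [Field k] (d : ℕ)

theorem dim_eq (hd : 0 < d) (n : ℕ) :
    Module.finrank k (MvPolynomial.homogeneousSubmodule (Fin d) k n) = (n + (d - 1)).choose (d - 1) := by
  rw [GrothLib.AugId.finrank_homogeneous, show d + n - 1 = n + (d - 1) by omega, Nat.choose_symm_add]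

theorem exists_poly_dim (hd : 0 < d) : ∃ P : Polynomial ℚ, ∃ N : ℕ, ∀ n, N ≤ n →
    (Module.finrank k (MvPolynomial.homogeneousSubmodule (Fin d) k n) : ℚ) = P.eval (n : ℚ) :=
  ⟨Polynomial.preHilbertPoly ℚ (d - 1) 0, 0, fun n _ => by
    rw [dim_eq k d hd n, Polynomial.preHilbertPoly_eq_choose_sub_add ℚ (d - 1) (Nat.zero_le n), Nat.sub_zero]⟩

theorem binomForm_sub (J : Ideal (MvPolynomial (Fin d) k)) : ∃ c : Fin d → ℤ, ∃ N : ℕ, ∀ i ≥ N,
    (Module.finrank k ↥(J.restrictScalars k ⊓ MvPolynomial.homogeneousSubmodule (Fin d) k i) : ℤ) =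
      ∑ j : Fin d, c j * ((i + (j : ℕ)).choose (j : ℕ) : ℤ) := by
  classical
  letI := MvPolynomial.gradedAlgebra (σ := Fin d) (R := k)
  set S := fun i => MvPolynomial.homogeneousSubmodule (Fin d) k i with hS
  let V : ℕ → Submodule k (MvPolynomial (Fin d) k) := fun i => J.restrictScalars k ⊓ S i
  haveI : ∀ i, Module.Finite k (V i) := fun i => by
    haveI := GrothLib.AugId.finite_homogeneous (k := k) d i
    exact Module.Finite.of_injective (Submodule.inclusion (inf_le_right : V i ≤ S i)) (Submodule.inclusion_injective _)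
  let x : Fin d → ∀ i, ↥(V i) →ₗ[k] ↥(V (i + 1)) := fun j i =>
    ((LinearMap.mulLeft k (MvPolynomial.X j)).comp (V i).subtype).codRestrict (V (i + 1)) fun g =>
      ⟨J.mul_mem_left _ g.2.1, by
        rw [add_comm]
        exact SetLike.mul_mem_graded (MvPolynomial.isHomogeneous_X k j) g.2.2⟩
  let inc : ∀ i, ↥(V i) →ₗ[k] ↥(S i) := fun i => Submodule.inclusion inf_le_right
  haveI : IsNoetherian (MvPolynomial (Fin d) k) (MvPolynomial (Fin d) k) := inferInstance
  have hev : GrothLib.HilbSam.EvGen (fun i => ↥(V i)) x := by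
    intro W hW
    haveI : SetLike.GradedSMul (MvPolynomial.homogeneousSubmodule (Fin d) k) S :=
      ⟨fun {_ _ _ _} ha hb => SetLike.mul_mem_graded ha hb⟩
    obtain ⟨N, hN⟩ := GrothLib.HilbSam.evGen_poly (A := k) (d := d) (M := MvPolynomial (Fin d) k) S (fun i => (W i).map (inc i)) (fun j i => by
      rintro _ ⟨_, ⟨w, hw, rfl⟩, rfl⟩
      exact ⟨x j i w, hW j i ⟨w, hw, rfl⟩, Subtype.ext rfl⟩)
    refine ⟨N, fun i hi w hw => ?_⟩
    have h := hN i hi ⟨w, hw, rfl⟩
    have hle : (⨆ j : Fin d, ((W i).map (inc i)).map (GrothLib.HilbSam.xMul (A := k) (d := d) (M := MvPolynomial (Fin d) k) S j i)) ≤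
        (⨆ j, (W i).map (x j i)).map (inc (i + 1)) := by
      refine iSup_le fun j => ?_
      rintro _ ⟨_, ⟨v, hv, rfl⟩, rfl⟩
      exact ⟨x j i v, Submodule.mem_iSup_of_mem j ⟨v, hv, rfl⟩, Subtype.ext rfl⟩
    obtain ⟨w', hw', e⟩ := hle h
    rwa [← Submodule.inclusion_injective _ e]
  obtain ⟨c, N, hc⟩ := GrothLib.HilbSam.isBinomForm_len d (fun i => ↥(V i)) x
    (fun j l i v => Subtype.ext (mul_left_comm (MvPolynomial.X j) (MvPolynomial.X l) (v : MvPolynomial (Fin d) k)))
    (fun i => by rw [Module.length_eq_finrank]; exact ENat.coe_ne_top _) hev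
  refine ⟨c, N, fun i hi => ?_⟩
  refine Eq.trans ?_ (hc i hi)
  show _ = ((Module.length k (V i)).toNat : ℤ)
  rw [Module.length_eq_finrank, ENat.toNat_coe]

omit k d in
theorem degree_lt_of_sandwich {m N : ℕ} {P Q : Polynomial ℚ} (hQ : Q.degree < (m : WithBot ℕ))
    (h : ∀ n, N ≤ n → 0 ≤ P.eval (n : ℚ) ∧ P.eval (n : ℚ) ≤ Q.eval (n : ℚ)) :
    P.degree < (m : WithBot ℕ) := by
  by_contra hP
  rw [not_lt] at hP
  have hP0 : P ≠ 0 := fun h0 => by
    rw [h0, Polynomial.degree_zero] at hP
    exact (WithBot.bot_lt_coe m).not_ge hP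
  have hlim : Filter.Tendsto (fun n : ℕ => Q.eval (n : ℚ) / P.eval (n : ℚ)) Filter.atTop (nhds 0) :=
    (Polynomial.div_tendsto_atTop_zero_of_degree_lt Q P (hQ.trans_le hP)).comp tendsto_natCast_atTop_atTop
  have hne : ∀ᶠ n : ℕ in Filter.atTop, P.eval (n : ℚ) ≠ 0 := by
    rw [← Nat.cofinite_eq_atTop, Filter.eventually_cofinite]
    refine Set.Finite.subset ((P.roots.toFinset.finite_toSet).preimage Nat.cast_injective.injOn) fun n hn => ?_
    simp only [Set.mem_setOf_eq, not_not] at hn
    simpa [hP0] using hn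
  have hge : ∀ᶠ n : ℕ in Filter.atTop, (1 : ℚ) ≤ Q.eval (n : ℚ) / P.eval (n : ℚ) := by
    filter_upwards [hne, Filter.eventually_ge_atTop N] with n hn hN
    obtain ⟨h1, h2⟩ := h n hN
    rw [le_div_iff₀ (lt_of_le_of_ne h1 (Ne.symm hn)), one_mul]
    exact h2
  exact absurd (ge_of_tendsto hlim hge) (by norm_num)


/-- Let k be a field, d ≥ 1, and I a nonzero homogeneous ideal of the standard-graded polynomial ring
k[X_1, …, X_d]; put M = k[X_1, …, X_d]/I. Then the function n ↦ dim_k M_n (equal to dim_k of the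
degree-n part of the polynomial ring minus dim_k of the degree-n part of I) coincides for all large
n with a polynomial of degree < d - 1, the zero polynomial if d = 1. -/
theorem result {k : Type u} [Field k] (d : ℕ) (hd : 0 < d)
    (I : HomogeneousIdeal (MvPolynomial.homogeneousSubmodule (Fin d) k)) (hI : I ≠ ⊥) :
    ∃ P : Polynomial ℚ, P.degree < ((d - 1 : ℕ) : WithBot ℕ) ∧ ∃ N : ℕ, ∀ n : ℕ, N ≤ n →
      ((Module.finrank k ↥(MvPolynomial.homogeneousSubmodule (Fin d) k n) : ℚ) -
        (Module.finrank k ↥(I.toIdeal.restrictScalars k ⊓ MvPolynomial.homogeneousSubmodule (Fin d) k n) : ℚ)) = P.eval (n : ℚ) := by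
  classical
  set S : ℕ → Submodule k (MvPolynomial (Fin d) k) := fun n => MvPolynomial.homogeneousSubmodule (Fin d) k n with hS
  haveI : ∀ n, Module.Finite k (S n) := fun n => GrothLib.AugId.finite_homogeneous d n
  let V : ℕ → Submodule k (MvPolynomial (Fin d) k) := fun n => I.toIdeal.restrictScalars k ⊓ S n
  haveI : ∀ n, Module.Finite k (V n) := fun n =>
    Module.Finite.of_injective (Submodule.inclusion (inf_le_right : V n ≤ S n))
      (Submodule.inclusion_injective _)
  obtain ⟨PS, NS, hPS⟩ := exists_poly_dim k d hd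
  obtain ⟨c, NV, hV⟩ := binomForm_sub k d I.toIdeal
  let PV : Polynomial ℚ := ∑ j : Fin d, (c j : ℚ) • Polynomial.preHilbertPoly ℚ j.1 0
  have hPV : ∀ n, NV ≤ n → (Module.finrank k (V n) : ℚ) = PV.eval (n : ℚ) := by
    intro n hn
    have h := congrArg (fun z : ℤ => (z : ℚ)) (hV n hn)
    simp only [Int.cast_sum, Int.cast_mul, Int.cast_natCast] at h
    rw [h, Polynomial.eval_finsetSum]
    refine Finset.sum_congr rfl fun j _ => ?_
    rw [Polynomial.eval_smul, smul_eq_mul, Polynomial.preHilbertPoly_eq_choose_sub_add ℚ j.1 (Nat.zero_le n),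
      Nat.sub_zero]
  obtain ⟨f, hfI, e, hfe, hf0⟩ : ∃ f ∈ I.toIdeal, ∃ e, f ∈ S e ∧ f ≠ 0 := by
    have hI' : I.toIdeal ≠ ⊥ := fun h => hI (HomogeneousIdeal.toIdeal_injective (h.trans HomogeneousIdeal.toIdeal_bot.symm))
    obtain ⟨g, hg, hg0⟩ := Submodule.exists_mem_ne_zero_of_ne_bot hI'
    obtain ⟨e, he⟩ : ∃ e, MvPolynomial.homogeneousComponent e g ≠ 0 := by
      by_contra h
      push Not at h
      exact hg0 (by rw [← MvPolynomial.sum_homogeneousComponent g]; exact Finset.sum_eq_zero fun i _ => h i)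
    refine ⟨MvPolynomial.homogeneousComponent e g, ?_, e,
      MvPolynomial.homogeneousComponent_mem e g, he⟩
    have h := I.is_homogeneous' e hg
    rwa [← MvPolynomial.decomposition.decompose'_apply]
  let Q : Polynomial ℚ := Polynomial.preHilbertPoly ℚ (d - 1) 0 - Polynomial.preHilbertPoly ℚ (d - 1) e
  have hQdeg : Q.degree < ((d - 1 : ℕ) : WithBot ℕ) := by
    have hdeg : ∀ j, (Polynomial.preHilbertPoly ℚ (d - 1) j).degree = ((d - 1 : ℕ) : WithBot ℕ) := fun j => by
      rw [Polynomial.degree_eq_natDegree ?_, Polynomial.natDegree_preHilbertPoly]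
      intro h
      have := Polynomial.coeff_preHilbertPoly_self ℚ (d - 1) j
      rw [h, Polynomial.coeff_zero] at this
      exact absurd this.symm (inv_ne_zero (by exact_mod_cast Nat.factorial_ne_zero (d - 1)))
    refine lt_of_lt_of_le (Polynomial.degree_sub_lt_left ((hdeg 0).trans (hdeg e).symm) ?_ ?_) (hdeg 0).le
    · intro h
      have := hdeg 0
      rw [h, Polynomial.degree_zero] at this
      exact WithBot.bot_ne_natCast _ this
    · rw [Polynomial.leadingCoeff_preHilbertPoly, Polynomial.leadingCoeff_preHilbertPoly]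
  have hbound : ∀ n, NS + NV + e ≤ n → 0 ≤ (PS - PV).eval (n : ℚ) ∧ (PS - PV).eval (n : ℚ) ≤ Q.eval (n : ℚ) := by
    intro n hn
    rw [Polynomial.eval_sub, ← hPS n (by omega), ← hPV n (by omega)]
    refine ⟨?_, ?_⟩
    · rw [sub_nonneg, Nat.cast_le]
      exact Submodule.finrank_mono (inf_le_right : V n ≤ S n)
    · let φ : S (n - e) →ₗ[k] V n :=
        ((LinearMap.mulLeft k f).comp (S (n - e)).subtype).codRestrict (V n) fun g =>
          ⟨I.toIdeal.mul_mem_right _ hfI, by
            have h := SetLike.mul_mem_graded (A := S) hfe g.2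
            rwa [show e + (n - e) = n by omega] at h⟩
      have hφ : Function.Injective φ := fun a b h =>
        Subtype.ext (mul_left_cancel₀ hf0 (congrArg Subtype.val h))
      have h1 : (Module.finrank k (S (n - e)) : ℚ) ≤ (Module.finrank k (V n) : ℚ) :=
        Nat.cast_le.2 (LinearMap.finrank_le_finrank_of_injective hφ)
      simp only [Q, Polynomial.eval_sub, Polynomial.preHilbertPoly_eq_choose_sub_add ℚ (d - 1) (Nat.zero_le n),
        Polynomial.preHilbertPoly_eq_choose_sub_add ℚ (d - 1) (show e ≤ n by omega), Nat.sub_zero]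
      rw [dim_eq k d hd (n - e)] at h1
      rw [dim_eq k d hd n]
      linarith
  refine ⟨PS - PV, degree_lt_of_sandwich hQdeg hbound, NS + NV, fun n hn => ?_⟩
  rw [Polynomial.eval_sub, ← hPS n (by omega), ← hPV n (by omega)]

end Groth.Agent.S9661
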