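import Groth.Statements.S9662
import Mathlib
import Groth.Agent.Lib.HilbK0.Basic

set_option autoImplicit false
universe u
open CategoryTheory
open CAlg

namespace Groth.Agent.S9662

section

variable {A S : Type u} [CommRing A] [CommRing S] [Algebra A S] {𝒜 : ℕ → Submodule A S}
  [GradedAlgebra 𝒜] {M : Type u} [AddCommGroup M] [Module A M] [Module S M] [IsScalarTower A S M]
  {ℳ : ℕ → Submodule A M} [DirectSum.Decomposition ℳ] [SetLike.GradedSMul 𝒜 ℳ]

theorem smul_mem_graded {i d : ℕ} {a : S} (ha : a ∈ 𝒜 i) {y : M} (hy : y ∈ ℳ d) :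
    a • y ∈ ℳ (i + d) := SetLike.GradedSMul.smul_mem ha hy

/-- The components of an element of the span of a compatible family of subsets. -/
theorem decompose_span_mem (W : ∀ i, Submodule A M) (hW : ∀ i, W i ≤ ℳ i)
    (hstab : ∀ e i, ∀ a ∈ 𝒜 e, ∀ y ∈ W i, a • y ∈ W (e + i)) (s : Set M)
    (hs : ∀ y ∈ s, ∃ i, y ∈ W i) (n : ℕ) {m : M} (hm : m ∈ Submodule.span S s) :
    (DirectSum.decompose ℳ m n : M) ∈ W n := by
  classical
  suffices ∀ a : S, (DirectSum.decompose ℳ (a • m) n : M) ∈ W n by simpa using this 1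
  induction hm using Submodule.span_induction with
  | mem y hy =>
    obtain ⟨i, hi⟩ := hs y hy
    intro a
    induction a using DirectSum.Decomposition.inductionOn 𝒜 with
    | zero => simp
    | homogeneous a =>
      rename_i e
      by_cases h : e + i = n
      · subst h
        rw [DirectSum.decompose_of_mem_same ℳ (smul_mem_graded a.2 (hW i hi))]
        exact hstab e i _ a.2 y hi
      · rw [DirectSum.decompose_of_mem_ne ℳ (smul_mem_graded a.2 (hW i hi)) h]
        exact zero_mem _
    | add a b ha hb =>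
      rw [add_smul, DirectSum.decompose_add, DirectSum.add_apply, Submodule.coe_add]
      exact add_mem ha hb
  | zero => intro a; simp
  | add y z _ _ hy hz =>
    intro a
    rw [smul_add, DirectSum.decompose_add, DirectSum.add_apply, Submodule.coe_add]
    exact add_mem (hy a) (hz a)
  | smul r y _ hy => intro a; rw [smul_smul]; exact hy _

/-- The same, with all the generators in degree at most `i`, one degree higher. -/
theorem decompose_span_mem_succ {d : ℕ} (x : Fin d → S) (hx : ∀ j, x j ∈ 𝒜 1)
    (hgen : ∀ e, 1 ≤ e → ∀ a ∈ 𝒜 e, ∃ t : Fin d → S, (∀ j, t j ∈ 𝒜 (e - 1)) ∧ a = ∑ j, x j * t j)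
    (W : ∀ i, Submodule A M) (hW : ∀ i, W i ≤ ℳ i)
    (hstab : ∀ e i, ∀ a ∈ 𝒜 e, ∀ y ∈ W i, a • y ∈ W (e + i)) (s : Set M)
    (i : ℕ) (hs : ∀ y ∈ s, ∃ l ≤ i, y ∈ W l) {m : M} (hm : m ∈ Submodule.span S s) :
    (DirectSum.decompose ℳ m (i + 1) : M) ∈
      ⨆ j, (W i).map (Algebra.lsmul A A M (x j)) := by
  classical
  suffices ∀ a : S, (DirectSum.decompose ℳ (a • m) (i + 1) : M) ∈
      ⨆ j, (W i).map (Algebra.lsmul A A M (x j)) by simpa using this 1
  induction hm using Submodule.span_induction with
  | mem y hy =>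
    obtain ⟨l, hl, hyl⟩ := hs y hy
    intro a
    induction a using DirectSum.Decomposition.inductionOn 𝒜 with
    | zero => simp
    | homogeneous a =>
      rename_i e
      by_cases h : e + l = i + 1
      · rw [← h, DirectSum.decompose_of_mem_same ℳ (smul_mem_graded a.2 (hW l hyl))]
        obtain ⟨t, ht, hat⟩ := hgen e (by omega) _ a.2
        rw [hat, Finset.sum_smul]
        refine Submodule.sum_mem _ fun j _ => Submodule.mem_iSup_of_mem j ⟨t j • y, ?_, ?_⟩
        · have := hstab _ _ _ (ht j) _ hyl
          rwa [show e - 1 + l = i by omega] at this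
        · simp [mul_smul]
      · rw [DirectSum.decompose_of_mem_ne ℳ (smul_mem_graded a.2 (hW l hyl)) h]
        exact zero_mem _
    | add a b ha hb =>
      rw [add_smul, DirectSum.decompose_add, DirectSum.add_apply, Submodule.coe_add]
      exact add_mem ha hb
  | zero => intro a; simp
  | add y z _ _ hy hz =>
    intro a
    rw [smul_add, DirectSum.decompose_add, DirectSum.add_apply, Submodule.coe_add]
    exact add_mem (hy a) (hz a)
  | smul r y _ hy => intro a; rw [smul_smul]; exact hy _

variable [IsNoetherianRing S]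

omit [GradedAlgebra 𝒜] in
theorem exists_generators [GradedAlgebra 𝒜]
    (h1 : (HomogeneousIdeal.irrelevant 𝒜).toIdeal = Ideal.span (𝒜 1 : Set S)) :
    ∃ (d : ℕ) (x : Fin d → S), (∀ j, x j ∈ 𝒜 1) ∧
      ∀ e, 1 ≤ e → ∀ a ∈ 𝒜 e, ∃ t : Fin d → S, (∀ j, t j ∈ 𝒜 (e - 1)) ∧ a = ∑ j, x j * t j := by
  classical
  obtain ⟨T, hT, hspan⟩ := Submodule.fg_span_iff_fg_span_finset_subset _ |>.mp
    (IsNoetherian.noetherian (Submodule.span S (𝒜 1 : Set S)))
  refine ⟨T.card, fun j => (T.equivFin.symm j : S), fun j => hT (T.equivFin.symm j).2,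
    fun e he a ha => ?_⟩
  have hr : Set.range (fun j => (T.equivFin.symm j : S)) = (T : Set S) := by
    ext z
    exact ⟨fun ⟨j, hj⟩ => hj ▸ (T.equivFin.symm j).2, fun hz => ⟨T.equivFin ⟨z, hz⟩, by simp⟩⟩
  have ha' : a ∈ Submodule.span S (Set.range fun j => (T.equivFin.symm j : S)) := by
    rw [hr, ← hspan]
    show a ∈ Ideal.span (𝒜 1 : Set S)
    rw [← h1]
    show a ∈ HomogeneousIdeal.irrelevant 𝒜
    rw [HomogeneousIdeal.mem_irrelevant_iff, GradedRing.proj_apply,
      DirectSum.decompose_of_mem_ne 𝒜 ha (by omega)]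
  obtain ⟨c, hc⟩ := (Submodule.mem_span_range_iff_exists_fun S).mp ha'
  refine ⟨fun j => (DirectSum.decompose 𝒜 (c j) (e - 1) : S), fun j => Submodule.coe_mem _, ?_⟩
  conv_lhs => rw [← DirectSum.decompose_of_mem_same 𝒜 ha, ← hc, DirectSum.decompose_sum,
    DFinsupp.finsetSum_apply, Submodule.coe_sum]
  refine Finset.sum_congr rfl fun j _ => ?_
  rw [smul_eq_mul, mul_comm, DirectSum.coe_decompose_mul_of_left_mem_of_le 𝒜
    (hT (T.equivFin.symm j).2) he]

theorem isNoetherian_piece [Module.Finite S M]
    (h0 : ∀ s ∈ 𝒜 0, s ∈ Set.range (algebraMap A S)) (n : ℕ) :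
    IsNoetherian A (ℳ n) := by
  classical
  haveI : IsNoetherian S M := isNoetherian_of_isNoetherianRing_of_finite S M
  let F : Submodule A (ℳ n) → Submodule S M := fun W => Submodule.span S (W.map (ℳ n).subtype)
  have hF : StrictMono F := by
    refine Monotone.strictMono_of_injective
      (fun W W' h => Submodule.span_mono (Submodule.map_mono h) : Monotone F) fun W W' h => ?_
    have key : ∀ W W' : Submodule A (ℳ n), F W ≤ F W' → W ≤ W' := by
      intro W W' h w hw
      have hm : (w : M) ∈ F W' := h (Submodule.subset_span ⟨w, hw, rfl⟩)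
      -- the family concentrated in degrees `≥ n`
      let V : ℕ → Submodule A M := fun i => if i = n then W'.map (ℳ n).subtype else
        if n < i then ℳ i else ⊥
      have hV : ∀ i, V i ≤ ℳ i := fun i => by
        simp only [V]; split_ifs with e e'
        · subst e; exact Submodule.map_subtype_le _ _
        · exact le_rfl
        · exact bot_le
      have hst : ∀ e i, ∀ a ∈ 𝒜 e, ∀ y ∈ V i, a • y ∈ V (e + i) := by
        intro e i a ha y hy
        have hyi := hV i hy
        rcases Nat.eq_zero_or_pos e with he | he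
        · subst he
          obtain ⟨r, rfl⟩ := h0 a ha
          rw [algebraMap_smul, zero_add]
          exact Submodule.smul_mem _ r hy
        · by_cases hin : i < n
          · simp only [V, if_neg hin.ne, if_neg hin.not_gt, Submodule.mem_bot] at hy
            simp [hy]
          · simp only [V]
            rw [if_neg (by omega), if_pos (by omega)]
            exact smul_mem_graded ha hyi
      have := decompose_span_mem V hV hst _ (fun y hy => ⟨n, by simp only [V, if_true]; exact hy⟩) n hm
      rw [DirectSum.decompose_of_mem_same ℳ w.2] at this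
      simp only [V, if_true] at this
      obtain ⟨w', hw', e⟩ := this
      exact (Subtype.ext e : w' = w) ▸ hw'
    exact le_antisymm (key _ _ h.le) (key _ _ h.ge)
  rw [isNoetherian_iff]
  exact Subrelation.wf (fun {a b} h => hF h) (InvImage.wf F (isNoetherian_iff.mp inferInstance))

end


/-- Let S be a Noetherian ℕ-graded ring, presented as a graded algebra over a ring A mapping onto S₀,
whose irrelevant ideal S₊ is generated as an ideal by the degree-1 part S₁, and let M be a finitely
generated graded S-module, graded in nonnegative degrees. (The published statement allows modules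
graded in all integer degrees; this row takes modules graded in degrees ≥ 0, which loses nothing for
large n.) Write K'₀(A) for the Grothendieck group of finite A-modules (the free abelian group on the
finite A-modules modulo the relations given by short exact sequences) and [M_n] for the class of the
finite A-module M_n. Then n ↦ [M_n] is a numerical polynomial: there are a_0, …, a_{r-1} in K'₀(A)
with [M_n] = Σ_i C(n, i) · a_i for all large n. (When A → S₀ is bijective K'₀(A) is K'₀(S₀), the
group of the published statement; in general the classes are taken after restricting scalars along A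
→ S₀.) -/
theorem result {A S : Type u} [CommRing A] [CommRing S] [Algebra A S] [IsNoetherianRing S] (𝒜 : ℕ → Submodule A S) [GradedAlgebra 𝒜]
    (h0 : ∀ s ∈ 𝒜 0, s ∈ Set.range (algebraMap A S))
    (h1 : (HomogeneousIdeal.irrelevant 𝒜).toIdeal = Ideal.span (𝒜 1 : Set S))
    (M : Type u) [AddCommGroup M] [Module A M] [Module S M] [IsScalarTower A S M] [Module.Finite S M] (ℳ : ℕ → Submodule A M) [DirectSum.Decomposition ℳ] [SetLike.GradedSMul 𝒜 ℳ] :
    ∃ (r : ℕ) (a : Fin r → KZero.K0sub (fun X : ModuleCat.{u} A => Module.Finite A X)) (N : ℕ), ∀ n : ℕ, N ≤ n →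
      KZero.clSub (fun X : ModuleCat.{u} A => Module.Finite A X) (ModuleCat.of A ↥(ℳ n)) = ∑ i : Fin r, ((n.choose (i : ℕ) : ℕ) : ℤ) • a i := by
  classical
  haveI : IsNoetherian S M := isNoetherian_of_isNoetherianRing_of_finite S M
  obtain ⟨d, x, hx, hgen⟩ := exists_generators h1
  let xm : Fin d → ∀ i, ℳ i →ₗ[A] ℳ (i + 1) := fun j i =>
    (Algebra.lsmul A A M (x j)).restrict (q := ℳ (i + 1)) fun y hy => by
      have := smul_mem_graded (hx j) hy
      rwa [add_comm] at this
  have hEv : GrothLib.HilbSam.EvGen (fun i => ℳ i) xm := by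
    intro W hW
    let V : ℕ → Submodule A M := fun i => (W i).map (ℳ i).subtype
    have hV : ∀ i, V i ≤ ℳ i := fun i => Submodule.map_subtype_le _ _
    have hx1 : ∀ j i, ∀ y ∈ V i, x j • y ∈ V (i + 1) := by
      rintro j i _ ⟨w, hw, rfl⟩
      exact ⟨xm j i w, hW j i ⟨w, hw, rfl⟩, rfl⟩
    have hst : ∀ e i, ∀ a ∈ 𝒜 e, ∀ y ∈ V i, a • y ∈ V (e + i) := by
      intro e
      induction e with
      | zero =>
        intro i a ha y hy
        obtain ⟨r, rfl⟩ := h0 a ha
        rw [algebraMap_smul, zero_add]
        exact Submodule.smul_mem _ r hy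
      | succ e ih =>
        intro i a ha y hy
        obtain ⟨t, ht, rfl⟩ := hgen (e + 1) (by omega) a ha
        rw [Finset.sum_smul]
        refine Submodule.sum_mem _ fun j _ => ?_
        rw [mul_smul, show e + 1 + i = e + i + 1 by omega]
        exact hx1 j _ _ (ih i _ (ht j) y hy)
    obtain ⟨T, hT, hspan⟩ := Submodule.fg_span_iff_fg_span_finset_subset _ |>.mp
      (IsNoetherian.noetherian (Submodule.span S (⋃ i, (V i : Set M))))
    have hmem : ∀ y ∈ T, ∃ i, y ∈ V i := fun y hy => Set.mem_iUnion.mp (hT hy)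
    choose! deg hdeg using hmem
    refine ⟨T.sup deg, fun i hi w hw => ?_⟩
    have hwm : (w : M) ∈ Submodule.span S (T : Set M) := hspan ▸
      Submodule.subset_span (Set.mem_iUnion.mpr ⟨i + 1, w, hw, rfl⟩)
    have hw' := decompose_span_mem_succ x hx hgen V hV hst _ i
      (fun y hy => ⟨deg y, (Finset.le_sup hy).trans hi, hdeg y hy⟩) hwm
    rw [DirectSum.decompose_of_mem_same ℳ w.2] at hw'
    have hle : (⨆ j, (V i).map (Algebra.lsmul A A M (x j))) ≤
        (⨆ j, (W i).map (xm j i)).map (ℳ (i + 1)).subtype := by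
      refine iSup_le fun j => ?_
      rintro _ ⟨_, ⟨z, hz, rfl⟩, rfl⟩
      exact ⟨xm j i z, Submodule.mem_iSup_of_mem j ⟨z, hz, rfl⟩, rfl⟩
    obtain ⟨z, hz, e⟩ := hle hw'
    exact (Subtype.ext e : z = w) ▸ hz
  obtain ⟨c, N, hc⟩ := GrothLib.HilbK0.isChooseForm_cl d (fun i => ℳ i) xm
    (fun j l i v => Subtype.ext (smul_comm (x j) (x l) (v : M)))
    (isNoetherian_piece h0) hEv
  exact ⟨d, c, N, hc⟩

end Groth.Agent.S9662
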