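import Groth.Statements.S9663
import Mathlib
-- import your own Groth.Agent.* helpers here

set_option autoImplicit false
universe u
open CAlg

namespace Groth.Agent.S9663

/-- Let R be a ring and f_i, i in a finite index set, elements of R (no condition on the ideal they
generate). Suppose given for each i an R-module M_i on which f_i acts invertibly, for each pair (i,
j) an R-linear isomorphism ψ_ij : (M_i)_{f_j} → (M_j)_{f_i}, and suppose the cocycle condition ψ_jk
∘ ψ_ij = ψ_ik holds as maps (M_i)_{f_j f_k} → (M_k)_{f_i f_j} for all triples (i, j, k). All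
localizations are given through their universal properties: (M_i)_{f_j} with its map g from M_i;
(M_i)_{f_j f_k} with its map t from M_i and the compatible maps u from (M_i)_{f_j} and v from
(M_i)_{f_k}; and the three localized isomorphisms Ψ₁ (ψ_ij on (M_i)_{f_j f_k}), Ψ₂ (ψ_jk on
(M_j)_{f_i f_k}) and Ψ₃ (ψ_ik on (M_i)_{f_j f_k}) are given as maps compatible with the ψ's. Let M ⊆
Π_i M_i be the submodule of families (m_i) with m_i/1 = ψ_ji(m_j/1) in (M_i)_{f_j} for all i, j.
Then for each i the projection M → M_i exhibits M_i as the localization of M at f_i. -/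
theorem result {R : Type u} [CommRing R] {ι : Type u} [Finite ι] (f : ι → R)
    (Mi : ι → Type u) [∀ i, AddCommGroup (Mi i)] [∀ i, Module R (Mi i)]
    (hMi : ∀ i, IsUnit (algebraMap R (Module.End R (Mi i)) (f i)))
    (Mij : ι → ι → Type u) [∀ i j, AddCommGroup (Mij i j)] [∀ i j, Module R (Mij i j)]
    (g : ∀ i j, Mi i →ₗ[R] Mij i j) [∀ i j, IsLocalizedModule (Submonoid.powers (f j)) (g i j)]
    (ψ : ∀ i j, Mij i j ≃ₗ[R] Mij j i)
    (T : ι → ι → ι → Type u) [∀ i j k, AddCommGroup (T i j k)] [∀ i j k, Module R (T i j k)]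
    (t : ∀ i j k, Mi i →ₗ[R] T i j k) [∀ i j k, IsLocalizedModule (Submonoid.powers (f j * f k)) (t i j k)]
    (u : ∀ i j k, Mij i j →ₗ[R] T i j k) (hu : ∀ i j k, u i j k ∘ₗ g i j = t i j k)
    (v : ∀ i j k, Mij i k →ₗ[R] T i j k) (hv : ∀ i j k, v i j k ∘ₗ g i k = t i j k)
    (Ψ₁ : ∀ i j k, T i j k →ₗ[R] T j i k) (hΨ₁ : ∀ i j k, Ψ₁ i j k ∘ₗ u i j k = u j i k ∘ₗ (ψ i j).toLinearMap)
    (Ψ₂ : ∀ i j k, T j i k →ₗ[R] T k i j) (hΨ₂ : ∀ i j k, Ψ₂ i j k ∘ₗ v j i k = v k i j ∘ₗ (ψ j k).toLinearMap)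
    (Ψ₃ : ∀ i j k, T i j k →ₗ[R] T k i j) (hΨ₃ : ∀ i j k, Ψ₃ i j k ∘ₗ v i j k = u k i j ∘ₗ (ψ i k).toLinearMap)
    (hcoc : ∀ i j k, Ψ₂ i j k ∘ₗ Ψ₁ i j k = Ψ₃ i j k)
    (M : Submodule R (∀ i, Mi i)) (hM : ∀ m : ∀ i, Mi i, m ∈ M ↔ ∀ i j, g i j (m i) = ψ j i (g j i (m j))) (i : ι) :
    IsLocalizedModule (Submonoid.powers (f i)) ((LinearMap.proj i).comp M.subtype : ↥M →ₗ[R] Mi i) := by
  classical
  have : Fintype ι := Fintype.ofFinite ι
  -- the self-gluing is the identity
  have hbij : ∀ (x : Mi i) (_ : True), ∀ n : ℕ, f i ^ n • x = 0 → x = 0 := fun x _ n hx =>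
    ((Module.End.isUnit_iff _).1 ((hMi i).pow n)).1 (by
      rw [map_zero, ← map_pow, Module.algebraMap_end_apply]; exact hx)
  have hψ : ∀ x : Mi i, ψ i i (g i i x) = g i i x := by
    intro x
    obtain ⟨⟨a, s, hs⟩, ha⟩ := IsLocalizedModule.surj (Submonoid.powers (f i)) (g i i) (ψ i i (g i i x))
    obtain ⟨n, rfl⟩ := hs
    -- surjectivity of `g i i`
    obtain ⟨a', ha'⟩ := ((Module.End.isUnit_iff _).1 ((hMi i).pow n)).2 a
    rw [← map_pow, Module.algebraMap_end_apply] at ha'
    have hga : ψ i i (g i i x) = g i i a' := by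
      apply ((Module.End.isUnit_iff _).1 (IsLocalizedModule.map_units (g i i)
        (⟨f i ^ n, n, rfl⟩ : Submonoid.powers (f i)))).1
      rw [Module.algebraMap_end_apply, Module.algebraMap_end_apply, ← map_smul (g i i), ha']
      exact ha
    have e1 := LinearMap.congr_fun (hΨ₁ i i i) (g i i x)
    have e2 := LinearMap.congr_fun (hΨ₂ i i i) (g i i a')
    have e3 := LinearMap.congr_fun (hΨ₃ i i i) (g i i x)
    have c0 := LinearMap.congr_fun (hcoc i i i) (t i i i x)
    simp only [LinearMap.comp_apply, LinearEquiv.coe_coe] at e1 e2 e3 c0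
    have euv : ∀ z, u i i i (g i i z) = t i i i z ∧ v i i i (g i i z) = t i i i z := fun z =>
      ⟨LinearMap.congr_fun (hu i i i) z, LinearMap.congr_fun (hv i i i) z⟩
    rw [(euv x).1, hga, (euv a').1] at e1
    rw [(euv x).2, hga, (euv a').1] at e3
    rw [(euv a').2] at e2
    obtain ⟨⟨b, s, hs⟩, hb⟩ := IsLocalizedModule.surj (Submonoid.powers (f i)) (g i i) (ψ i i (g i i a'))
    obtain ⟨m, rfl⟩ := hs
    obtain ⟨b', hb'⟩ := ((Module.End.isUnit_iff _).1 ((hMi i).pow m)).2 b
    rw [← map_pow, Module.algebraMap_end_apply] at hb'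
    have hgb : ψ i i (g i i a') = g i i b' := by
      apply ((Module.End.isUnit_iff _).1 (IsLocalizedModule.map_units (g i i)
        (⟨f i ^ m, m, rfl⟩ : Submonoid.powers (f i)))).1
      rw [Module.algebraMap_end_apply, Module.algebraMap_end_apply, ← map_smul (g i i), hb']
      exact hb
    rw [hgb, (euv b').2] at e2
    rw [e1, e2, e3] at c0
    obtain ⟨⟨s, k, rfl⟩, hs⟩ := IsLocalizedModule.exists_of_eq (S := Submonoid.powers (f i * f i)) c0
    have : b' = a' := by
      refine sub_eq_zero.1 (hbij _ trivial (k + k) ?_)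
      rw [pow_add, ← mul_pow, smul_sub, sub_eq_zero]
      exact hs
    subst this
    -- `ψ (ψ x) = ψ x`, so `ψ x = x`
    apply (ψ i i).injective
    rw [hga, hgb]
  refine ⟨fun s => ?_, fun x => ?_, fun {m₁ m₂} h => ?_⟩
  · obtain ⟨n, hn⟩ := s.2
    rw [← hn, map_pow]
    exact (hMi i).pow n
  · -- surjectivity up to a power
    have key : ∀ j, ∃ (n : ℕ) (y : Mi j), g j i y = ψ i j (g i j (f i ^ n • x)) := by
      intro j
      obtain ⟨⟨y, s, n, rfl⟩, hy⟩ := IsLocalizedModule.surj (Submonoid.powers (f i)) (g j i)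
        (ψ i j (g i j x))
      exact ⟨n, y, by rw [map_smul (g i j), map_smul (ψ i j)]; exact hy.symm⟩
    choose n y₀ hy₀ using key
    let N := ∑ j, n j
    let a := f i ^ N • x
    let y : ∀ j, Mi j := Function.update (fun j => f i ^ (N - n j) • y₀ j) i a
    have hy : ∀ j, g j i (y j) = ψ i j (g i j a) := by
      intro j
      rcases eq_or_ne j i with rfl | hj
      · simp only [y, Function.update_self]
        exact (hψ a).symm
      · simp only [y, Function.update_of_ne hj]
        have hnj : n j ≤ N := Finset.single_le_sum (f := n) (fun _ _ => Nat.zero_le _) (Finset.mem_univ j)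
        rw [map_smul, hy₀, ← map_smul, ← map_smul, ← mul_smul, ← pow_add, Nat.sub_add_cancel hnj]
    -- compatibility up to a power
    have key2 : ∀ jk : ι × ι, ∃ K : ℕ,
        f i ^ K • (ψ jk.1 jk.2 (g jk.1 jk.2 (y jk.1)) - g jk.2 jk.1 (y jk.2)) = 0 := by
      rintro ⟨j, k⟩
      have A1 := LinearMap.congr_fun (hΨ₁ i j k) (g i j a)
      have A2 := LinearMap.congr_fun (hΨ₂ i j k) (g j k (y j))
      have A3 := LinearMap.congr_fun (hΨ₃ i j k) (g i k a)
      have A0 := LinearMap.congr_fun (hcoc i j k) (t i j k a)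
      simp only [LinearMap.comp_apply, LinearEquiv.coe_coe] at A1 A2 A3 A0
      have hu' : ∀ a b c z, u a b c (g a b z) = t a b c z := fun a b c z => LinearMap.congr_fun (hu a b c) z
      have hv' : ∀ a b c z, v a b c (g a c z) = t a b c z := fun a b c z => LinearMap.congr_fun (hv a b c) z
      rw [hu', ← hy, hu'] at A1
      rw [hv', ← hy, hu'] at A3
      rw [hv'] at A2
      rw [A1, A2, A3, ← hv' k i j (y k), ← sub_eq_zero, ← map_sub] at A0
      change ∃ K : ℕ, f i ^ K • (ψ j k (g j k (y j)) - g k j (y k)) = 0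
      set z := ψ j k (g j k (y j)) - g k j (y k) with hz
      obtain ⟨⟨b, s, e, rfl⟩, hb⟩ := IsLocalizedModule.surj (Submonoid.powers (f j)) (g k j) z
      have : t k i j b = 0 := by
        rw [← hv', ← hb, Submonoid.smul_def, map_smul, A0, smul_zero]
      obtain ⟨⟨_, K, rfl⟩, hK⟩ := (IsLocalizedModule.eq_zero_iff (Submonoid.powers (f i * f j)) (t k i j)).1 this
      refine ⟨K, ?_⟩
      apply ((Module.End.isUnit_iff _).1 ((IsLocalizedModule.map_units (g k j)
        (⟨f j ^ e, e, rfl⟩ : Submonoid.powers (f j))).mul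
        (IsLocalizedModule.map_units (g k j) (⟨f j ^ K, K, rfl⟩ : Submonoid.powers (f j))))).1
      simp only [Module.End.mul_apply, Module.algebraMap_end_apply, map_zero, smul_zero]
      rw [smul_comm, smul_comm (f j ^ e) (f i ^ K)]
      have hb' : f j ^ e • z = g k j b := hb
      rw [hb', ← map_smul, ← map_smul, ← mul_smul, ← mul_pow, mul_comm (f j)]
      rw [Submonoid.smul_def] at hK
      rw [hK, map_zero]
    choose K hK using key2
    let L := ∑ jk, K jk
    have hmem : (fun j => f i ^ L • y j) ∈ M := by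
      rw [hM]
      intro k j
      simp only [map_smul]
      have hl : K (j, k) ≤ L := Finset.single_le_sum (f := K) (fun _ _ => Nat.zero_le _) (Finset.mem_univ (j, k))
      have := congrArg (fun w => f i ^ (L - K (j, k)) • w) (hK (j, k))
      simp only [smul_zero] at this
      rw [← mul_smul, ← pow_add, Nat.sub_add_cancel hl, smul_sub, sub_eq_zero] at this
      exact this.symm
    refine ⟨(⟨_, hmem⟩, ⟨f i ^ (L + N), L + N, rfl⟩), ?_⟩
    simp only [LinearMap.comp_apply, Submodule.subtype_apply, LinearMap.proj_apply, Submonoid.smul_def]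
    simp only [y, Function.update_self, a, ← mul_smul, ← pow_add]
  · -- injectivity up to a power
    obtain ⟨⟨p₁, hp₁⟩, rfl⟩ : ∃ z : M, z = m₁ := ⟨m₁, rfl⟩
    have hsub : ((⟨p₁, hp₁⟩ : M) - m₂).1 i = 0 := by
      simpa [sub_eq_zero] using h
    set d := (⟨p₁, hp₁⟩ : M) - m₂
    have key : ∀ j, ∃ n : ℕ, f i ^ n • d.1 j = 0 := by
      intro j
      have h0 := (hM d.1).1 d.2 j i
      rw [hsub, map_zero, map_zero] at h0
      obtain ⟨⟨_, n, rfl⟩, hn⟩ := (IsLocalizedModule.eq_zero_iff (Submonoid.powers (f i)) (g j i)).1 h0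
      exact ⟨n, hn⟩
    choose n hn using key
    refine ⟨⟨f i ^ (∑ j, n j), _, rfl⟩, ?_⟩
    rw [Submonoid.smul_def, Submonoid.smul_def, ← sub_eq_zero, ← smul_sub]
    apply Subtype.ext
    funext j
    change f i ^ (∑ j, n j) • d.1 j = 0
    have hl : n j ≤ ∑ j, n j := Finset.single_le_sum (f := n) (fun _ _ => Nat.zero_le _) (Finset.mem_univ j)
    rw [← Nat.sub_add_cancel hl, pow_add, mul_smul, hn, smul_zero]

end Groth.Agent.S9663
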