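import Groth.Statements.S9671
import Mathlib.RingTheory.GradedAlgebra.HomogeneousLocalization
import Mathlib.RingTheory.FiniteType
-- import your own Groth.Agent.* helpers here

set_option autoImplicit false
universe u
open CAlg

namespace Groth.Agent.S9671

section
variable (R R' : Type u) [CommRing R] [CommRing R'] [Algebra R R']

/-- The subalgebra of `R × R'[T]` of pairs whose `d`-th coefficient lies in `V ^ d`. -/
def filtAlg (V : Submodule R R') : Subalgebra R (R × Polynomial R') where
  carrier := {x | x.2.coeff 0 = algebraMap R R' x.1 ∧ ∀ d, x.2.coeff d ∈ V ^ d}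
  mul_mem' := by
    rintro x y ⟨hx0, hx⟩ ⟨hy0, hy⟩
    refine ⟨by simp [Polynomial.mul_coeff_zero, hx0, hy0], fun d => ?_⟩
    rw [Prod.snd_mul, Polynomial.coeff_mul]
    refine Submodule.sum_mem _ fun p hp => ?_
    rw [← Finset.mem_antidiagonal.1 hp, pow_add]
    exact Submodule.mul_mem_mul (hx _) (hy _)
  add_mem' := by
    rintro x y ⟨hx0, hx⟩ ⟨hy0, hy⟩
    exact ⟨by simp [hx0, hy0], fun d => by simpa using Submodule.add_mem _ (hx d) (hy d)⟩
  algebraMap_mem' r := by
    refine ⟨by simp, fun d => ?_⟩
    rcases d with _ | d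
    · simp [Submodule.mem_one]
    · simp

/-- The degree `d` part of `filtAlg`. -/
def grade (V : Submodule R R') (d : ℕ) : Submodule R (filtAlg R R' V) where
  carrier := {x | (∀ e, e ≠ d → x.1.2.coeff e = 0) ∧ (d ≠ 0 → x.1.1 = 0)}
  zero_mem' := ⟨fun _ _ => by simp, fun _ => rfl⟩
  add_mem' := by
    rintro x y ⟨hx, hx'⟩ ⟨hy, hy'⟩
    exact ⟨fun e he => by simp [hx e he, hy e he], fun hd => by simp [hx' hd, hy' hd]⟩
  smul_mem' := by
    rintro c x ⟨hx, hx'⟩
    exact ⟨fun e he => by simp [hx e he], fun hd => by simp [hx' hd]⟩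

variable {R R'}

theorem eq_monomial_of_mem_grade {V : Submodule R R'} {d : ℕ} {x : filtAlg R R' V}
    (hx : x ∈ grade R R' V d) : x.1.2 = Polynomial.monomial d (x.1.2.coeff d) := by
  ext e
  rcases eq_or_ne e d with rfl | he
  · simp
  · rw [hx.1 e he, Polynomial.coeff_monomial, if_neg (Ne.symm he)]

instance gradedMonoid (V : Submodule R R') : SetLike.GradedMonoid (grade R R' V) where
  one_mem := ⟨fun e he => by simp [Polynomial.coeff_one, he], fun h => absurd rfl h⟩
  mul_mem i j x y hx hy := by
    refine ⟨fun e he => ?_, fun h => ?_⟩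
    · show ((x : R × Polynomial R') * (y : R × Polynomial R')).2.coeff e = 0
      rw [Prod.snd_mul, eq_monomial_of_mem_grade hx, eq_monomial_of_mem_grade hy,
        Polynomial.monomial_mul_monomial, Polynomial.coeff_monomial, if_neg (Ne.symm he)]
    · show ((x : R × Polynomial R') * (y : R × Polynomial R')).1 = 0
      rcases Nat.eq_zero_or_pos i with rfl | hi
      · rw [Prod.fst_mul, hy.2 (by omega), mul_zero]
      · rw [Prod.fst_mul, hx.2 hi.ne', zero_mul]

theorem isInternal_grade (V : Submodule R R') : DirectSum.IsInternal (grade R R' V) := by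
  classical
  rw [DirectSum.isInternal_submodule_iff_iSupIndep_and_iSup_eq_top]
  constructor
  · intro d
    rw [Submodule.disjoint_def]
    intro x hx hx'
    let K : Submodule R (filtAlg R R' V) :=
      { carrier := {x | x.1.2.coeff d = 0 ∧ (d = 0 → x.1.1 = 0)}
        zero_mem' := ⟨by simp, fun _ => rfl⟩
        add_mem' := fun {a b} ha hb => ⟨by simp [ha.1, hb.1], fun h => by simp [ha.2 h, hb.2 h]⟩
        smul_mem' := fun c a ha => ⟨by simp [ha.1], fun h => by simp [ha.2 h]⟩ }
    have hK : (⨆ (e : ℕ) (_ : e ≠ d), grade R R' V e) ≤ K :=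
      iSup₂_le fun e he y hy => ⟨hy.1 d he.symm, fun h => hy.2 (h ▸ he)⟩
    obtain ⟨h1, h2⟩ := hK hx'
    refine Subtype.ext (Prod.ext ?_ ?_)
    · rcases eq_or_ne d 0 with h | h
      · exact h2 h
      · exact hx.2 h
    · rw [eq_monomial_of_mem_grade hx, h1, map_zero]
      rfl
  · rw [eq_top_iff]
    rintro x -
    suffices H : ∀ (n : ℕ) (y : filtAlg R R' V), (∀ e, n ≤ e → y.1.2.coeff e = 0) →
        y.1.1 = 0 → y ∈ ⨆ d, grade R R' V d by
      have h0 : x - algebraMap R _ x.1.1 ∈ ⨆ d, grade R R' V d :=
        H (x.1.2.natDegree + 1) _ (fun e he => by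
          show (x.1.2 - algebraMap R (Polynomial R') x.1.1).coeff e = 0
          rw [Polynomial.coeff_sub, Polynomial.coeff_eq_zero_of_natDegree_lt (by omega),
            IsScalarTower.algebraMap_apply R R' (Polynomial R'), Polynomial.algebraMap_eq,
            Polynomial.coeff_C_ne_zero (by omega), sub_zero]) (sub_self _)
      have h1 : algebraMap R (filtAlg R R' V) x.1.1 ∈ ⨆ d, grade R R' V d :=
        Submodule.mem_iSup_of_mem 0 ⟨fun e he => by
          show (algebraMap R (Polynomial R') x.1.1).coeff e = 0
          rw [IsScalarTower.algebraMap_apply R R' (Polynomial R'), Polynomial.algebraMap_eq,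
            Polynomial.coeff_C_ne_zero he], fun h => absurd rfl h⟩
      simpa using Submodule.add_mem _ h0 h1
    intro n
    induction n with
    | zero =>
      intro y hy hy1
      have : y = 0 := Subtype.ext (Prod.ext hy1 (Polynomial.ext fun e => by simpa using hy e (Nat.zero_le e)))
      rw [this]; exact Submodule.zero_mem _
    | succ n ih =>
      intro y hy hy1
      have hm : (((0 : R), Polynomial.monomial n (y.1.2.coeff n)) : R × Polynomial R') ∈ filtAlg R R' V := by
        refine ⟨?_, fun e => ?_⟩
        · show (Polynomial.monomial n (y.1.2.coeff n)).coeff 0 = algebraMap R R' 0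
          rw [Polynomial.coeff_monomial, map_zero]
          split_ifs with h
          · rw [h, y.2.1, hy1, map_zero]
          · rfl
        · show (Polynomial.monomial n (y.1.2.coeff n)).coeff e ∈ V ^ e
          rw [Polynomial.coeff_monomial]
          split_ifs with h
          · exact h ▸ y.2.2 n
          · exact Submodule.zero_mem _
      let z : filtAlg R R' V := ⟨_, hm⟩
      have hz : z ∈ ⨆ d, grade R R' V d :=
        Submodule.mem_iSup_of_mem n ⟨fun e he => by simp [z, Polynomial.coeff_monomial, Ne.symm he], fun _ => rfl⟩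
      have := ih (y - z) (fun e he => by
        show (y.1.2 - Polynomial.monomial n (y.1.2.coeff n)).coeff e = 0
        rcases eq_or_lt_of_le he with rfl | h
        · simp
        · simp [Polynomial.coeff_monomial, hy e h, h.ne]) (by simp [z, hy1])
      simpa using Submodule.add_mem _ this hz

end



/-- Let R be a ring and R' an R-algebra of finite type. Then there are an ℕ-graded R-algebra S such that
R → S₀ is bijective and S is generated as an R-algebra by a finite set of degree-1 elements, an
element f ∈ S₁, and a ring isomorphism e between the degree-zero part S_(f) of the localization S_f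
and R' which matches r/1 with the image of r in R' for every r ∈ R (so R' is identified with S_(f)
as an R-algebra). The published statement also produces, from a finite R'-module, a finite graded
S-module whose degree-zero localization at f recovers it; that half is not part of this row. -/
theorem result (R R' : Type u) [CommRing R] [CommRing R'] [Algebra R R'] [Algebra.FiniteType R R'] :
    ∃ (S : Type u) (_ : CommRing S) (_ : Algebra R S) (𝒜 : ℕ → Submodule R S) (_ : GradedAlgebra 𝒜) (f : S) (_ : f ∈ 𝒜 1) (s : Finset S)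
      (e : HomogeneousLocalization.Away 𝒜 f ≃+* R'),
      Function.Injective (algebraMap R S) ∧ (∀ x ∈ 𝒜 0, x ∈ Set.range (algebraMap R S)) ∧
      (↑s ⊆ (𝒜 1 : Set S)) ∧ Algebra.adjoin R (s : Set S) = ⊤ ∧
      ∀ r : R, (e.symm (algebraMap R R' r)).val = algebraMap S (Localization.Away f) (algebraMap R S r) := by
    classical
  obtain ⟨s₀, hs₀⟩ := (inferInstance : Algebra.FiniteType R R').out
  let V : Submodule R R' := Submodule.span R (insert 1 (s₀ : Set R'))
  have h1V : (1 : R') ∈ V := Submodule.subset_span (Set.mem_insert _ _)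
  have h1pow : ∀ d, (1 : R') ∈ V ^ d := fun d => by
    simpa using Submodule.pow_mem_pow V h1V d
  let S := filtAlg R R' V
  letI dec : DirectSum.Decomposition (grade R R' V) := (isInternal_grade V).chooseDecomposition _
  letI gr : GradedAlgebra (grade R R' V) := { gradedMonoid V, dec with }
  have hmono : ∀ (v : R') (d : ℕ), v ∈ V ^ d → d ≠ 0 →
      (((0 : R), Polynomial.monomial d v) : R × Polynomial R') ∈ filtAlg R R' V := by
    intro v d hv hd
    refine ⟨by simp [Polynomial.coeff_monomial, hd], fun e => ?_⟩
    show (Polynomial.monomial d v).coeff e ∈ V ^ e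
    rw [Polynomial.coeff_monomial]
    split_ifs with h
    · exact h ▸ hv
    · exact Submodule.zero_mem _
  let f : S := ⟨_, hmono 1 1 (by simpa using h1V) one_ne_zero⟩
  have hf : f ∈ grade R R' V 1 :=
    ⟨fun e he => by simp [f, Polynomial.coeff_monomial, Ne.symm he], fun _ => rfl⟩
  let g : R' → S := fun v => if hv : v ∈ V then ⟨_, hmono v 1 (by simpa using hv) one_ne_zero⟩ else 0
  have hg : ∀ v ∈ V, (g v).1 = ((0 : R), Polynomial.monomial 1 v) := fun v hv => by simp [g, hv]
  let s : Finset S := (insert 1 s₀).image g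
  have hs : ↑s ⊆ (grade R R' V 1 : Set S) := by
    intro x hx
    obtain ⟨v, -, rfl⟩ := Finset.mem_image.1 hx
    show g v ∈ grade R R' V 1
    by_cases hv : v ∈ V
    · exact ⟨fun e he => by simp [hg v hv, Polynomial.coeff_monomial, Ne.symm he], fun _ => by simp [hg v hv]⟩
    · simp [g, hv]
  have hadj : Algebra.adjoin R (s : Set S) = ⊤ := by
    let G : Subalgebra R (R × Polynomial R') := (Algebra.adjoin R (s : Set S)).map S.val
    let ψ : ℕ → R' →ₗ[R] R × Polynomial R' := fun d =>
      (LinearMap.inr R R (Polynomial R')).comp ((Polynomial.monomial d).restrictScalars R)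
    have hV : V ≤ G.toSubmodule.comap (ψ 1) := by
      refine Submodule.span_le.2 fun v hv => ?_
      exact ⟨g v, Algebra.subset_adjoin (Finset.mem_coe.2 (Finset.mem_image.2 ⟨v, by simpa using hv, rfl⟩)),
        hg v (Submodule.subset_span hv)⟩
    have hVd : ∀ d, V ^ (d + 1) ≤ G.toSubmodule.comap (ψ (d + 1)) := by
      intro d
      induction d with
      | zero => simpa using hV
      | succ d ih =>
        rw [pow_succ, Submodule.mul_le]
        intro a ha b hb
        have := G.mul_mem (ih ha) (hV hb)
        simpa [ψ, Polynomial.monomial_mul_monomial] using this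
    rw [eq_top_iff]
    rintro x -
    suffices H : x ∈ (⊤ : Submodule R S).map LinearMap.id → x ∈ Algebra.adjoin R (s : Set S) from H (by simp)
    intro _
    have hx : x ∈ ⨆ d, grade R R' V d := by
      rw [(isInternal_grade V).submodule_iSup_eq_top]; trivial
    refine Submodule.iSup_induction (motive := fun y => y ∈ Algebra.adjoin R (s : Set S)) _ hx ?_
      (Subalgebra.zero_mem _) (fun a b => Subalgebra.add_mem _)
    intro d y hy
    rcases d with _ | d
    · have : y = algebraMap R S y.1.1 := by
        refine Subtype.ext (Prod.ext rfl ?_)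
        show y.1.2 = algebraMap R (Polynomial R') y.1.1
        rw [eq_monomial_of_mem_grade hy, y.2.1, IsScalarTower.algebraMap_apply R R' (Polynomial R')]
        rfl
      rw [this]; exact Subalgebra.algebraMap_mem _ _
    · obtain ⟨z, hz, hzy⟩ := hVd d (y.2.2 (d + 1))
      have : z = y := Subtype.ext (by
        rw [show z.1 = _ from hzy]
        exact Prod.ext (hy.2 (Nat.succ_ne_zero d)).symm (eq_monomial_of_mem_grade hy).symm)
      exact this ▸ hz
  have hV' : ∀ r' : R', ∃ d, r' ∈ V ^ d := by
    have hle : ∀ a b, a ≤ b → V ^ a ≤ V ^ b := fun a b hab x hx => by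
      have := Submodule.mul_mem_mul hx (h1pow (b - a))
      rwa [mul_one, ← pow_add, Nat.add_sub_cancel' hab] at this
    intro r'
    have : r' ∈ Algebra.adjoin R (s₀ : Set R') := hs₀ ▸ Algebra.mem_top
    induction this using Algebra.adjoin_induction with
    | mem x hx => exact ⟨1, by simpa using Submodule.subset_span (Set.mem_insert_of_mem _ hx)⟩
    | algebraMap r => exact ⟨0, by simp [Submodule.mem_one]⟩
    | add x y _ _ hx hy =>
      obtain ⟨a, ha⟩ := hx; obtain ⟨b, hb⟩ := hy
      exact ⟨max a b, Submodule.add_mem _ (hle a _ (le_max_left _ _) ha) (hle b _ (le_max_right _ _) hb)⟩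
    | mul x y _ _ hx hy =>
      obtain ⟨a, ha⟩ := hx; obtain ⟨b, hb⟩ := hy
      exact ⟨a + b, by rw [pow_add]; exact Submodule.mul_mem_mul ha hb⟩
  let ev : S →+* R' :=
    (Polynomial.evalRingHom (1 : R')).comp ((RingHom.snd R (Polynomial R')).comp S.val.toRingHom)
  have hev : ∀ (d : ℕ) (y : S), y ∈ grade R R' V d → ev y = y.1.2.coeff d := fun d y hy => by
    show y.1.2.eval 1 = _
    conv_lhs => rw [eq_monomial_of_mem_grade hy]
    simp
  have hevf : ev f = 1 := by
    rw [hev 1 f hf]; simp [f]
  let L := IsLocalization.Away.lift (S := Localization.Away f) f (g := ev) (by rw [hevf]; exact isUnit_one)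
  let φ : HomogeneousLocalization.Away (grade R R' V) f →+* R' := L.comp (algebraMap _ (Localization.Away f))
  have hφ : ∀ (n : ℕ) (a : S) (ha : a ∈ grade R R' V (n • 1)),
      φ (HomogeneousLocalization.Away.mk (grade R R' V) hf n a ha) = a.1.2.coeff n := by
    intro n a ha
    show L (HomogeneousLocalization.Away.mk (grade R R' V) hf n a ha).val = _
    rw [HomogeneousLocalization.Away.val_mk]
    have h := congrArg L (Localization.mk_eq_mk' (M := Submonoid.powers f) ▸ IsLocalization.mk'_spec
      (Localization.Away f) a (⟨f ^ n, n, rfl⟩ : Submonoid.powers f))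
    simp only [map_mul, L, IsLocalization.Away.lift_eq, map_pow, hevf, one_pow, mul_one] at h
    rw [show L = IsLocalization.Away.lift (S := Localization.Away f) f _ from rfl, h, hev n a (by simpa using ha)]
  have hinj : Function.Injective φ := by
    rw [injective_iff_map_eq_zero]
    intro x hx
    obtain ⟨n, a, ha, rfl⟩ := HomogeneousLocalization.Away.mk_surjective (grade R R' V) hf x
    rw [hφ] at hx
    have ha' : a.1.2 = 0 := by rw [eq_monomial_of_mem_grade (d := n) (by simpa using ha), hx, map_zero]
    have hfa : a * f = 0 := Subtype.ext (Prod.ext (mul_zero _) (by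
      show a.1.2 * _ = 0
      rw [ha', zero_mul]))
    apply HomogeneousLocalization.val_injective
    rw [HomogeneousLocalization.Away.val_mk, HomogeneousLocalization.val_zero,
      Localization.mk_eq_mk', IsLocalization.mk'_eq_zero_iff]
    exact ⟨⟨f, 1, pow_one f⟩, by rw [mul_comm]; exact hfa⟩
  have hsurj : Function.Surjective φ := by
    intro r'
    obtain ⟨d, hd⟩ := hV' r'
    have hd' : r' ∈ V ^ (d + 1) := by
      rw [pow_succ]; simpa using Submodule.mul_mem_mul hd h1V
    let a : S := ⟨_, hmono r' (d + 1) hd' (Nat.succ_ne_zero d)⟩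
    refine ⟨HomogeneousLocalization.Away.mk (grade R R' V) hf (d + 1) a
      ⟨fun e he => ?_, fun _ => rfl⟩, ?_⟩
    · have he' : d + 1 ≠ e := fun h => he (by simp [h])
      simp [a, Polynomial.coeff_monomial, he']
    · refine (hφ _ _ _).trans ?_
      simp [a]
  let e := RingEquiv.ofBijective φ ⟨hinj, hsurj⟩
  refine ⟨S, inferInstance, inferInstance, grade R R' V, gr, f, hf, s, e, ?_, ?_, hs, hadj, ?_⟩
  · intro a b h
    exact congrArg (fun x : S => x.1.1) h
  · intro x hx
    refine ⟨x.1.1, Subtype.ext (Prod.ext rfl ?_)⟩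
    show algebraMap R (Polynomial R') x.1.1 = x.1.2
    rw [eq_monomial_of_mem_grade hx, x.2.1, IsScalarTower.algebraMap_apply R R' (Polynomial R')]
    rfl
  · intro r
    have hr : algebraMap R S r ∈ grade R R' V (0 • 1) := by
      refine ⟨fun e he => ?_, fun h => absurd (by simp) h⟩
      show (algebraMap R (Polynomial R') r).coeff e = 0
      rw [IsScalarTower.algebraMap_apply R R' (Polynomial R'), Polynomial.algebraMap_eq,
        Polynomial.coeff_C_ne_zero (by simpa using he)]
    rw [show e.symm (algebraMap R R' r) = HomogeneousLocalization.Away.mk (grade R R' V) hf 0 _ hr from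
      e.symm_apply_eq.2 (((hφ 0 _ hr).trans (by
        show (algebraMap R (Polynomial R') r).coeff 0 = _
        rw [IsScalarTower.algebraMap_apply R R' (Polynomial R'), Polynomial.algebraMap_eq, Polynomial.coeff_C_zero])).symm)]
    rw [HomogeneousLocalization.Away.val_mk]
    simp [← Localization.mk_one_eq_algebraMap]
    rfl


end Groth.Agent.S9671
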