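import Groth.Statements.S9672
import Groth.Agent.Lib.GrpdQuot.InvariantOpen

set_option autoImplicit false
universe u
open CategoryTheory CategoryTheory.Limits AlgebraicGeometry
open Mor

namespace Groth.Agent.S9672

/-- Let f : Y ⟶ X be quasi-compact and quasi-separated, and write X' for the normalization of X relative
to Y. If x' ∈ X' is the generic point of some irreducible component of X', then there is a point y ∈
Y that is generic in an irreducible component of Y and is sent to x' by the canonical morphism Y ⟶
X'. -/
theorem result {X Y : Scheme.{u}} (f : Y ⟶ X)
    [QuasiCompact f] [QuasiSeparated f] (x' : ↥f.normalization)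
    (hx' : closure {x'} ∈ irreducibleComponents ↥f.normalization) :
    ∃ y : Y, closure {y} ∈ irreducibleComponents ↥Y ∧ f.toNormalization.base y = x' := by
  obtain ⟨y, -, hy⟩ := GrothLib.GrpdQuot.exists_specializes_of_mem_closure f.toNormalization Set.univ
    isClosed_univ x' (by rw [Set.image_univ]; exact f.toNormalization.denseRange.closure_range ▸ trivial)
  obtain ⟨Z, hZ, hsub⟩ := exists_mem_irreducibleComponents_subset_of_isIrreducible _
    (isIrreducible_singleton (x := y))
  have hirr : IsIrreducible Z := hZ.1
  have hc : closure {hirr.genericPoint} = Z := hirr.isGenericPoint_genericPoint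
    (isClosed_of_mem_irreducibleComponents Z hZ)
  refine ⟨hirr.genericPoint, by rw [hc]; exact hZ, ?_⟩
  · have h1 : hirr.genericPoint ⤳ y := by
      rw [specializes_iff_mem_closure, hc]
      exact hsub rfl
    have h2 : f.toNormalization hirr.genericPoint ⤳ x' :=
      (h1.map f.toNormalization.continuous).trans hy
    have h3 : closure {f.toNormalization hirr.genericPoint} ⊆ closure {x'} :=
      hx'.2 isIrreducible_singleton.closure (specializes_iff_closure_subset.mp h2)
    exact (Specializes.antisymm h2 (specializes_iff_closure_subset.mpr h3)).eq

end Groth.Agent.S9672
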