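import Groth.Statements.S9673
import Groth.Agent.Lib.NormNormal9.Basic
import Groth.Agent.S9672

set_option autoImplicit false
universe u
open CategoryTheory CategoryTheory.Limits AlgebraicGeometry
open Mor

namespace Groth.Agent.S9673

/-- Let f : Y ⟶ X be quasi-compact and quasi-separated, with Y normal and the irreducible components of
Y locally finite (equivalently, each quasi-compact open subset of Y meets only finitely many of
them). Let X' be the normalization of X in Y and f' : Y ⟶ X' the canonical morphism. Then X' is
normal with locally finitely many irreducible components (hence a disjoint union of normal integral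
schemes), f' maps generic points of irreducible components of Y to generic points of irreducible
components of X', and over each generic point of a component of X' there lies exactly one generic
point of a component of Y. (Dominance of f' holds for every quasi-compact quasi-separated f and is
not restated.) -/
theorem result {X Y : Scheme.{u}} (f : Y ⟶ X)
    [QuasiCompact f] [QuasiSeparated f] (hY : Pi1.IsNormalScheme Y)
    (hfin : LocallyFinite (fun Z : ↥(irreducibleComponents ↥Y) => (Z : Set ↥Y))) :
    Pi1.IsNormalScheme f.normalization ∧
    LocallyFinite (fun Z : ↥(irreducibleComponents ↥f.normalization) => (Z : Set ↥f.normalization)) ∧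
    (∀ y : Y, closure {y} ∈ irreducibleComponents ↥Y →
      closure {f.toNormalization.base y} ∈ irreducibleComponents ↥f.normalization) ∧
    (∀ x' : ↥f.normalization, closure {x'} ∈ irreducibleComponents ↥f.normalization →
      ∃! y : Y, closure {y} ∈ irreducibleComponents ↥Y ∧ f.toNormalization.base y = x') := by
  have hgen : ∀ y : Y, closure {y} ∈ irreducibleComponents ↥Y →
      closure {f.toNormalization.base y} ∈ irreducibleComponents ↥f.normalization := by
    intro y hy
    obtain ⟨D, hD, hsub⟩ := exists_mem_irreducibleComponents_subset_of_isIrreducible _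
      (isIrreducible_singleton (x := f.toNormalization.base y))
    obtain ⟨g, hg⟩ := QuasiSober.sober hD.1 (isClosed_of_mem_irreducibleComponents D hD)
    obtain ⟨y', hy', hgy⟩ := Groth.Agent.S9672.result f g (by rw [hg.def]; exact hD)
    have hsp : f.toNormalization.base y' ⤳ f.toNormalization.base y := by
      rw [hgy]
      exact hg.specializes (hsub rfl)
    have he := GrothLib.NormNormal9.eq_of_specializes f hY hfin hy hy' hsp
    rw [← he, hgy, hg.def]
    exact hD
  refine ⟨GrothLib.NormNormal9.isNormalScheme f hY hfin, ?_, hgen, fun x' hx' => ?_⟩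
  · intro x'
    obtain ⟨_, ⟨U, hU : IsAffineOpen U, rfl⟩, hxU, -⟩ := X.isBasis_affineOpens.exists_subset_of_mem_open
      (Set.mem_univ (f.fromNormalization x')) isOpen_univ
    refine ⟨f.fromNormalization ⁻¹ᵁ U, (f.fromNormalization ⁻¹ᵁ U).2.mem_nhds hxU, ?_⟩
    have hS : {Z : ↥(irreducibleComponents ↥Y) | ((Z : Set ↥Y) ∩ (f ⁻¹ᵁ U : Y.Opens)).Nonempty}.Finite :=
      hfin.finite_nonempty_inter_compact (QuasiCompact.isCompact_preimage (f := f) _ U.2 hU.isCompact)
    refine Set.Finite.of_finite_image (f := fun D : ↥(irreducibleComponents ↥f.normalization) => (D : Set ↥f.normalization))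
      ((hS.image fun Z : ↥(irreducibleComponents ↥Y) => closure (f.toNormalization.base '' (Z : Set ↥Y))).subset ?_) Subtype.val_injective.injOn
    rintro _ ⟨⟨D, hD⟩, hne, rfl⟩
    obtain ⟨z, hzD, hzU⟩ := hne
    obtain ⟨g, hg⟩ := QuasiSober.sober hD.1 (isClosed_of_mem_irreducibleComponents D hD)
    obtain ⟨y, hy, hgy⟩ := Groth.Agent.S9672.result f g (by rw [hg.def]; exact hD)
    have hgU : g ∈ f.fromNormalization ⁻¹ᵁ U := (hg.specializes hzD).mem_open (f.fromNormalization ⁻¹ᵁ U).2 hzU
    have hyU : f y ∈ U := by
      have h : f.fromNormalization (f.toNormalization y) ∈ U := hgy.symm ▸ hgU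
      rwa [← Scheme.Hom.comp_apply, f.toNormalization_fromNormalization] at h
    refine ⟨⟨_, hy⟩, ⟨y, subset_closure rfl, hyU⟩, ?_⟩
    show closure (f.toNormalization.base '' closure {y}) = D
    rw [closure_image_closure f.toNormalization.continuous, Set.image_singleton, hgy, hg.def]
  · obtain ⟨y, hy, hyx⟩ := Groth.Agent.S9672.result f x' hx'
    exact ⟨y, ⟨hy, hyx⟩, fun y' h' => GrothLib.NormNormal9.eq_of_specializes f hY hfin hy h'.1
      (specializes_of_eq (h'.2.trans hyx.symm))⟩

end Groth.Agent.S9673
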