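import Groth.Statements.S9674
import Groth.Agent.Lib.NormNagata9.Basic

set_option autoImplicit false
universe u
open CategoryTheory CategoryTheory.Limits AlgebraicGeometry
open Mor

namespace Groth.Agent.S9674

/-- Let f : X ⟶ S be quasi-compact and quasi-separated. Assume every affine open of S has Nagata
coordinate ring, X is reduced, the irreducible components of X are locally finite (equivalently
every quasi-compact open of X has finitely many), and at each point x that is generic in a component
of X, the residue field of x is essentially of finite type over the residue field of f x. Then the
normalization of S in X is finite over S. -/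
theorem result {X S : Scheme.{u}} (f : X ⟶ S)
    [QuasiCompact f] [QuasiSeparated f] [IsReduced X]
    (hS : ∀ U : S.affineOpens, CAlg.IsNagata Γ(S, U))
    (hfin : LocallyFinite (fun Z : ↥(irreducibleComponents ↥X) => (Z : Set ↥X)))
    (hres : ∀ x : X, closure {x} ∈ irreducibleComponents ↥X → (f.residueFieldMap x).hom.EssFiniteType) :
    IsFinite f.fromNormalization := by
  exact GrothLib.NormNagata9.isFinite_fromNormalization f hS hfin hres

end Groth.Agent.S9674
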