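import Groth.Statements.S9677
import Mathlib.AlgebraicGeometry.Morphisms.Preimmersion

set_option autoImplicit false
universe u
open CategoryTheory CategoryTheory.Limits AlgebraicGeometry
open Mor

namespace Groth.Agent.S9677

/-- Suppose X and Y have finitely many irreducible components and f : X ⟶ Y is birational, i.e. f
restricts to a bijection between the generic points of the irreducible components of X and those of
Y and induces an isomorphism of local rings at every generic point of an irreducible component of X.
Then for any generic point y of a component of Y, pulling f back along the canonical map Spec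
O_{Y,y} ⟶ Y gives an isomorphism onto Spec O_{Y,y}. -/
theorem result {X Y : Scheme.{u}} (f : X ⟶ Y)
    (hXfin : (irreducibleComponents ↥X).Finite) (hYfin : (irreducibleComponents ↥Y).Finite)
    (hbij : Set.BijOn (fun x : X => f.base x) {x : X | closure {x} ∈ irreducibleComponents ↥X}
      {y : Y | closure {y} ∈ irreducibleComponents ↥Y})
    (hiso : ∀ x : X, closure {x} ∈ irreducibleComponents ↥X → IsIso (f.stalkMap x))
    (y : Y) (hy : closure {y} ∈ irreducibleComponents ↥Y) :
    IsIso (pullback.snd f (Y.fromSpecStalk y)) := by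
  obtain ⟨x₀, hx₀, (hfx₀ : f x₀ = y)⟩ := hbij.2.2 hy
  have hmin : ∀ y' : Y, y' ⤳ y → y' = y := fun y' h ↦
    (Specializes.antisymm h (specializes_iff_closure_subset.mpr
      (hy.2 isIrreducible_singleton.closure (specializes_iff_closure_subset.mp h)))).eq
  have hfib : ∀ x : X, f x = y → x = x₀ := by
    intro x hx
    obtain ⟨Z, hZ, hsub⟩ := exists_mem_irreducibleComponents_subset_of_isIrreducible _
      (isIrreducible_singleton (x := x))
    have hirr : IsIrreducible Z := hZ.1
    have hc : closure {hirr.genericPoint} = Z := hirr.isGenericPoint_genericPoint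
      (isClosed_of_mem_irreducibleComponents Z hZ)
    have hgen : closure {hirr.genericPoint} ∈ irreducibleComponents ↥X := by rw [hc]; exact hZ
    have hs : hirr.genericPoint ⤳ x := specializes_iff_mem_closure.mpr (by rw [hc]; exact hsub rfl)
    have hg : hirr.genericPoint = x₀ :=
      hbij.2.1 hgen hx₀ ((hmin _ (hx ▸ hs.map f.continuous)).trans hfx₀.symm)
    rw [hg] at hs
    have := hiso x₀ hx₀
    let T := X.presheaf.stalkSpecializes hs
    let F := f.stalkMap x₀
    let c := Y.presheaf.stalkSpecializes (show f x ⤳ f x₀ by rw [hx, hfx₀])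
    let s : X.presheaf.stalk x₀ ⟶ X.presheaf.stalk x := inv F ≫ c ≫ f.stalkMap x
    have hsT : s ≫ T = 𝟙 _ := by
      have h1 : Y.presheaf.stalkSpecializes (hs.map f.continuous) ≫ F = f.stalkMap x ≫ T :=
        Scheme.Hom.stalkSpecializes_stalkMap f _ _ hs
      simp only [s, c, Category.assoc, ← h1]
      rw [← Category.assoc (Y.presheaf.stalkSpecializes _), TopCat.Presheaf.stalkSpecializes_comp,
        TopCat.Presheaf.stalkSpecializes_refl, Category.id_comp, IsIso.inv_hom_id]
    have hloc : IsLocalHom T.hom := by
      refine ⟨fun a ha ↦ ?_⟩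
      have hu : IsUnit (s (T a)) := ha.map s.hom
      by_contra hna
      have hm : s (T a) - a ∉ IsLocalRing.maximalIdeal _ := fun h ↦
        hna ((IsLocalRing.notMem_maximalIdeal).mp fun h' ↦
          (IsLocalRing.notMem_maximalIdeal.mpr hu) (by simpa using add_mem h h'))
      rw [IsLocalRing.notMem_maximalIdeal] at hm
      have h0 : T (s (T a) - a) = 0 := by
        rw [map_sub, ← CommRingCat.comp_apply s T, hsT]
        simp
      exact not_isUnit_zero (h0 ▸ hm.map T.hom)
    have h2 := congr(Spec.map T ≫ X.fromSpecStalk x)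
    have : X.fromSpecStalk x (Spec.map T (IsLocalRing.closedPoint _)) = x₀ := by
      rw [← Scheme.Hom.comp_apply, Scheme.SpecMap_stalkSpecializes_fromSpecStalk,
        Scheme.fromSpecStalk_closedPoint]
    rwa [show Spec.map T (IsLocalRing.closedPoint _) = IsLocalRing.closedPoint _ from
      @IsLocalRing.comap_closedPoint _ _ _ _ _ _ T.hom hloc,
      Scheme.fromSpecStalk_closedPoint] at this
  subst hfx₀
  have := hiso x₀ hx₀
  let P := pullback f (Y.fromSpecStalk (f x₀))
  let s : Spec (Y.presheaf.stalk (f x₀)) ⟶ P := pullback.lift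
    (Spec.map (inv (f.stalkMap x₀)) ≫ X.fromSpecStalk x₀) (𝟙 _) (by
      rw [Category.assoc, ← Scheme.SpecMap_stalkMap_fromSpecStalk, ← Spec.map_comp_assoc]
      simp)
  have hsq : ∀ b : Spec (Y.presheaf.stalk (f x₀)), Y.fromSpecStalk (f x₀) b = f x₀ := fun b ↦
    hmin _ (by
      have h : Y.fromSpecStalk (f x₀) b ∈ Set.range (Y.fromSpecStalk (f x₀)) := ⟨b, rfl⟩
      rwa [Scheme.range_fromSpecStalk] at h)
  have : Subsingleton (Spec (Y.presheaf.stalk (f x₀))) :=
    ⟨fun a b ↦ (Y.fromSpecStalk (f x₀)).isEmbedding.injective ((hsq a).trans (hsq b).symm)⟩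
  have hfst : ∀ p : P, pullback.fst f (Y.fromSpecStalk (f x₀)) p = x₀ := fun p ↦ by
    apply hfib
    rw [← Scheme.Hom.comp_apply, pullback.condition, Scheme.Hom.comp_apply, hsq]
  have : Subsingleton P :=
    ⟨fun a b ↦ (pullback.fst f (Y.fromSpecStalk (f x₀))).isEmbedding.injective
      ((hfst a).trans (hfst b).symm)⟩
  rw [isIso_iff_isIso_stalkMap]
  refine ⟨?_, fun p ↦ ?_⟩
  · refine ⟨s.base, ?_, ?_⟩
    · ext a
      exact Subsingleton.elim _ _
    · ext a
      exact Subsingleton.elim _ _
  rw [ConcreteCategory.isIso_iff_bijective]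
  constructor
  · obtain rfl : p = s (IsLocalRing.closedPoint _) := Subsingleton.elim _ _
    have h : IsIso ((s ≫ pullback.snd f (Y.fromSpecStalk (f x₀))).stalkMap
        (IsLocalRing.closedPoint _)) := by
      have : IsIso (s ≫ pullback.snd f (Y.fromSpecStalk (f x₀))) := by
        rw [pullback.lift_snd]; infer_instance
      infer_instance
    rw [Scheme.Hom.stalkMap_comp, ConcreteCategory.isIso_iff_bijective] at h
    exact Function.Injective.of_comp (f := s.stalkMap _) h.1
  · have hE : ∀ (g : P ⟶ Y), g = pullback.fst f (Y.fromSpecStalk (f x₀)) ≫ f →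
        Function.Surjective (g.stalkMap p) := by
      rintro g rfl
      rw [Scheme.Hom.stalkMap_comp]
      have : IsIso (f.stalkMap (pullback.fst f (Y.fromSpecStalk (f x₀)) p)) := by
        rw [hfst p]; infer_instance
      exact ((pullback.fst f (Y.fromSpecStalk (f x₀))).stalkMap_surjective p).comp
        (ConcreteCategory.bijective_of_isIso (f.stalkMap _)).2
    have h := hE _ pullback.condition.symm
    rw [Scheme.Hom.stalkMap_comp] at h
    exact Function.Surjective.of_comp h

end Groth.Agent.S9677
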