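import Groth.Statements.S9679
import Groth.Agent.Lib.SpreadLfp9.Components

set_option autoImplicit false
universe u
open CategoryTheory CategoryTheory.Limits AlgebraicGeometry
open Mor

namespace Groth.Agent.S9679

/-- Suppose X and Y have finitely many irreducible components and f : X ⟶ Y is birational, i.e. f
restricts to a bijection between the generic points of the irreducible components of X and those of
Y and induces an isomorphism of local rings at every generic point of an irreducible component of X.
Assume that f is quasi-compact or separated, and moreover that f is locally of finite presentation,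
or else Y is reduced and f is locally of finite type. Under these hypotheses, some dense open V ⊆ Y
has the property that the restriction f⁻¹(V) ⟶ V of f is an isomorphism. -/
theorem result {X Y : Scheme.{u}} (f : X ⟶ Y)
    (hXfin : (irreducibleComponents ↥X).Finite) (hYfin : (irreducibleComponents ↥Y).Finite)
    (hbij : Set.BijOn (fun x : X => f.base x) {x : X | closure {x} ∈ irreducibleComponents ↥X}
      {y : Y | closure {y} ∈ irreducibleComponents ↥Y})
    (hiso : ∀ x : X, closure {x} ∈ irreducibleComponents ↥X → IsIso (f.stalkMap x))
    (hf₁ : QuasiCompact f ∨ IsSeparated f)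
    (hf₂ : (LocallyOfFiniteType f ∧ IsReduced Y) ∨ LocallyOfFinitePresentation f) :
    ∃ V : Y.Opens, Dense (V : Set ↥Y) ∧ IsIso (f ∣_ V) := by
  have : LocallyOfFiniteType f := by
    rcases hf₂ with ⟨h, -⟩ | h <;> infer_instance
  obtain ⟨U, V, hUV, hU, hV, h⟩ := GrothLib.SpreadLfp9.exists_dense_isIso_resLE f hXfin hYfin hbij
    hiso fun y φ hφ ↦ GrothLib.SpreadLfp9.exists_spread f hYfin hf₂ y φ hφ
  exact GrothLib.SpreadLfp9.exists_dense_isIso_restrict f U V hUV hXfin hYfin hbij
    (fun ξ x hξ hx ↦ GrothLib.SpreadLfp9.eq_generic_of_map_eq f hbij hiso ξ x hξ hx) hU hV h hf₁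

end Groth.Agent.S9679
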