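import Groth.Statements.S9681
import Groth.Agent.Lib.SpreadLfp9.Birational

set_option autoImplicit false
universe u
open CategoryTheory CategoryTheory.Limits AlgebraicGeometry
open Mor

namespace Groth.Agent.S9681

/-- Suppose X and Y are integral S-schemes, each locally of finite type over S, with generic points x
and y. Then X and Y are S-birational (they admit S-isomorphic nonempty opens) if and only if x and y
map to the same point s of S and the residue fields of x and y are isomorphic as extensions of the
residue field of s. -/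
theorem result {S X Y : Scheme.{u}}
    [IsIntegral X] [IsIntegral Y] (sX : X ⟶ S) (sY : Y ⟶ S)
    [LocallyOfFiniteType sX] [LocallyOfFiniteType sY] :
    Scheme.BirationalOver sX sY ↔
      ∃ (hs : sX.base (genericPoint ↥X) = sY.base (genericPoint ↥Y))
        (e : X.residueField (genericPoint ↥X) ≅ Y.residueField (genericPoint ↥Y)),
        sX.residueFieldMap (genericPoint ↥X) ≫ e.hom =
          eqToHom (congrArg S.residueField hs) ≫ sY.residueFieldMap (genericPoint ↥Y) := by
  have hres : ∀ (Z : Scheme.{u}) [IsIntegral Z], IsIso (Z.residue (genericPoint ↥Z)) := by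
    intro Z _
    rw [ConcreteCategory.isIso_iff_bijective]
    have : IsField (Z.presheaf.stalk (genericPoint ↥Z)) :=
      Field.toIsField Z.functionField
    let := this.toField
    exact ⟨(Z.residue _).hom.injective, Z.residue_surjective _⟩
  have := hres X
  have := hres Y
  have heq : ∀ {s t : S} (h : s = t), eqToHom (congrArg S.presheaf.stalk h) ≫ S.residue t =
      S.residue s ≫ eqToHom (congrArg S.residueField h) := by
    rintro s t rfl
    simp
  have conv : ∀ (hs : sX (genericPoint ↥X) = sY (genericPoint ↥Y))
      (e : X.presheaf.stalk (genericPoint ↥X) ≅ Y.presheaf.stalk (genericPoint ↥Y))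
      (e' : X.residueField (genericPoint ↥X) ≅ Y.residueField (genericPoint ↥Y)),
      X.residue _ ≫ e'.hom = e.hom ≫ Y.residue _ →
      (sX.residueFieldMap (genericPoint ↥X) ≫ e'.hom =
          eqToHom (congrArg S.residueField hs) ≫ sY.residueFieldMap (genericPoint ↥Y) ↔
        sX.stalkMap (genericPoint ↥X) ≫ e.hom =
          eqToHom (congrArg S.presheaf.stalk hs) ≫ sY.stalkMap (genericPoint ↥Y)) := by
    intro hs e e' h
    have : Epi (S.residue (sX (genericPoint ↥X))) :=
      ConcreteCategory.epi_of_surjective _ (S.residue_surjective _)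
    rw [← cancel_epi (S.residue (sX (genericPoint ↥X))), Scheme.residue_residueFieldMap_assoc,
      h, ← Category.assoc (S.residue _), ← heq hs, Category.assoc, Scheme.residue_residueFieldMap,
      ← Category.assoc, ← Category.assoc, cancel_mono]
  constructor
  · intro h
    obtain ⟨hs, e, he⟩ := GrothLib.SpreadLfp9.exists_iso_of_birationalOver sX sY h
    refine ⟨hs, (asIso (X.residue _)).symm ≪≫ e ≪≫ asIso (Y.residue _), (conv hs e _ ?_).mpr he⟩
    simp
  · rintro ⟨hs, e', he'⟩
    let e := asIso (X.residue (genericPoint ↥X)) ≪≫ e' ≪≫ (asIso (Y.residue (genericPoint ↥Y))).symm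
    have he := (conv hs e e' (by simp [e])).mp he'
    have hc := (GrothLib.SpreadLfp9.stalk_compat_iff sX sY hs e.hom).mp he
    have hc' : Spec.map e.inv ≫ Y.fromSpecStalk (genericPoint ↥Y) ≫ sY =
        X.fromSpecStalk (genericPoint ↥X) ≫ sX := by
      rw [← hc, ← Spec.map_comp_assoc, Iso.hom_inv_id, Spec.map_id, Category.id_comp]
    obtain ⟨U, hxU, f, hf, hfS⟩ := spread_out_of_isGermInjective' sX sY
      (Spec.map e.inv ≫ Y.fromSpecStalk (genericPoint ↥Y)) (by rw [Category.assoc]; exact hc')
    obtain ⟨V, hyV, g, hg, hgS⟩ := spread_out_of_isGermInjective' sY sX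
      (Spec.map e.hom ≫ X.fromSpecStalk (genericPoint ↥X)) (by rw [Category.assoc]; exact hc)
    exact GrothLib.SpreadLfp9.birationalOver_of_spread sX sY hxU hyV e f g hf.symm hg.symm hfS hgS

end Groth.Agent.S9681
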