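import Groth.Statements.S9685
import Groth.Agent.Lib.DimIneq9.Basic

set_option autoImplicit false
universe u
open CategoryTheory CategoryTheory.Limits AlgebraicGeometry
open Mor

namespace Groth.Agent.S9685

/-- Let X and Y be integral schemes with Y locally Noetherian and f : X ⟶ Y dominant and locally of
finite type. If n is the transcendence degree of the function field of X over the function field of
Y (computed on residue fields at the generic points), then dim X ≤ dim Y + n, and equality holds
when the underlying map of f is closed. -/
theorem result {X Y : Scheme.{u}} [IsIntegral X] [IsIntegral Y]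
    [IsLocallyNoetherian Y] (f : X ⟶ Y) [IsDominant f] [LocallyOfFiniteType f] (n : ℕ)
    (hn : letI := (f.residueFieldMap (genericPoint ↥X)).hom.toAlgebra
      Algebra.trdeg (Y.residueField (f.base (genericPoint ↥X))) (X.residueField (genericPoint ↥X)) = n) :
    topologicalKrullDim ↥X ≤ topologicalKrullDim ↥Y + n ∧
      (IsClosedMap f.base → topologicalKrullDim ↥X = topologicalKrullDim ↥Y + n) := by
  have hd : DenseRange f.base := f.denseRange
  have hη : f (genericPoint ↥X) = genericPoint ↥Y := by
    have h := ((genericPoint_spec ↥X).image f.continuous)
    rw [Set.image_univ, hd.closure_range] at h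
    exact h.eq (genericPoint_spec ↥Y)
  obtain ⟨t, ht, htd, -, -⟩ := GrothLib.Chev28.dim_stalk_irreducible f hη
  obtain rfl : n = t := by exact_mod_cast (hn.symm.trans ht :)
  have h1 := (GrothLib.Chev28.dim_le_add_generic f hd).1
  rw [htd] at h1
  exact ⟨h1, fun hc => le_antisymm h1 (GrothLib.DimIneq9.add_le_dim_of_isClosedMap f hη hc n htd.ge)⟩

end Groth.Agent.S9685
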