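import Groth.Statements.S9688
import Groth.Agent.Lib.NormFib.Birational

set_option autoImplicit false
universe u
open CategoryTheory CategoryTheory.Limits AlgebraicGeometry
open Mor

namespace Groth.Agent.S9688

/-- Let X be an integral Japanese scheme (every nonempty affine open has Japanese, i.e. N-2, coordinate
ring). Then the normalization morphism X^ν ⟶ X is finite. (The quasi-compactness and
quasi-separatedness binders on Spec K(X) ⟶ X always hold; they are only needed to form the
normalization.) -/
theorem result (X : Scheme.{u}) [IsIntegral X] [QuasiCompact (X.fromSpecStalk (genericPoint ↥X))] [QuasiSeparated (X.fromSpecStalk (genericPoint ↥X))]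
    (hJ : ∀ (U : X.Opens), IsAffineOpen U → ∀ (hne : Nonempty ↥U),
      @CAlg.IsN2 ↑Γ(X, U) _ (@IsIntegral.component_integral X _ U hne)) :
    IsFinite (Curv2.normalizationι X) := by
  refine (isFinite_iff _).mpr ⟨inferInstance, fun U hU => ?_⟩
  by_cases hne : Nonempty U
  · haveI := hne
    letI := GrothLib.NormFib.chartAlgebra (X := X) U
    obtain ⟨_, _, hic⟩ := GrothLib.NormFib.exists_chart hU
    have := functionField_isFractionRing_of_isAffineOpen X U hU
    have hfin : Module.Finite Γ(X, U) (integralClosure Γ(X, U) (FractionRing Γ(X, U))) :=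
      hJ U hU hne (FractionRing Γ(X, U)) inferInstance
    let E : FractionRing Γ(X, U) ≃ₐ[Γ(X, U)] X.functionField := FractionRing.algEquiv _ _
    let f : Γ(Curv2.normalization X, GrothLib.NormFib.pre U) →ₗ[Γ(X, U)] integralClosure Γ(X, U) (FractionRing Γ(X, U)) :=
      LinearMap.codRestrict (Subalgebra.toSubmodule (integralClosure Γ(X, U) (FractionRing Γ(X, U))))
        (E.symm.toLinearMap.comp (IsScalarTower.toAlgHom Γ(X, U) Γ(Curv2.normalization X, GrothLib.NormFib.pre U) X.functionField).toLinearMap)
        fun b => ((IsIntegralClosure.isIntegral Γ(X, U) X.functionField b).map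
          (IsScalarTower.toAlgHom Γ(X, U) Γ(Curv2.normalization X, GrothLib.NormFib.pre U) X.functionField)).map E.symm.toAlgHom
    have hf : Function.Injective f := fun a b h =>
      IsIntegralClosure.algebraMap_injective Γ(Curv2.normalization X, GrothLib.NormFib.pre U) Γ(X, U) X.functionField
        (E.symm.injective (congrArg Subtype.val h))
    have hfs : Function.Surjective f := fun y => by
      obtain ⟨b, hb⟩ := (IsIntegralClosure.isIntegral_iff (A := Γ(Curv2.normalization X, GrothLib.NormFib.pre U))).1 (y.2.map E.toAlgHom)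
      exact ⟨b, Subtype.ext ((congrArg E.symm hb).trans (E.symm_apply_apply y.1))⟩
    exact RingHom.finite_algebraMap.mpr (Module.Finite.equiv (LinearEquiv.ofBijective f ⟨hf, hfs⟩).symm)
  · have hUbot : U = ⊥ := TopologicalSpace.Opens.ext (Set.eq_empty_iff_forall_notMem.mpr
      fun x hx => hne ⟨⟨x, hx⟩⟩)
    have hb : Curv2.normalizationι X ⁻¹ᵁ U = ⊥ := by rw [hUbot]; rfl
    have : Subsingleton Γ(Curv2.normalization X, Curv2.normalizationι X ⁻¹ᵁ U) :=
      CommRingCat.subsingleton_of_isTerminal ((Curv2.normalization X).sheaf.isTerminalOfEqEmpty hb)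
    exact RingHom.Finite.of_surjective _ fun b => ⟨0, Subsingleton.elim _ _⟩

end Groth.Agent.S9688
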