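import Groth.Statements.S9689
import Groth.Agent.Lib.GeomUnib.Radicial
import Groth.Agent.Lib.BrnchNhd.Equiv
import Groth.Agent.Lib.NormFib.Normal
import Groth.Agent.Lib.SN25.Scheme

set_option autoImplicit false
set_option backward.isDefEq.respectTransparency false
universe u
open CategoryTheory CategoryTheory.Limits AlgebraicGeometry
open Mor

namespace Groth.Agent.S9689

/-- For an integral scheme X: if every local ring of X is geometrically unibranch, then the
normalization morphism X^ν ⟶ X is a universal homeomorphism. (The published statement assumes only X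
irreducible; this row takes X integral, which loses nothing since the normalization of X equals that
of its reduction.) (The quasi-compactness and quasi-separatedness binders on Spec K(X) ⟶ X always
hold; they are only needed to form the normalization.) -/
theorem result (X : Scheme.{u}) [IsIntegral X] [QuasiCompact (X.fromSpecStalk (genericPoint ↥X))] [QuasiSeparated (X.fromSpecStalk (genericPoint ↥X))]
    (hX : ∀ x : X, CAlg2.IsGeomUnibranch (X.presheaf.stalk x)) :
    FlatMor.IsUnivHomeo (Curv2.normalizationι X) := by
  set ν := Curv2.normalizationι X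
  refine (GrothLib.Frob.isUnivHomeo_iff ν).2 ⟨inferInstance, ?_, ?_⟩
  · have hloc : ∀ y : X, ∃ U : X.Opens, y ∈ U ∧ UniversallyInjective (ν ∣_ U) := fun y => by
      obtain ⟨U, hU, hyU, -⟩ := exists_isAffineOpen_mem_and_subset (X := X) (x := y) (U := ⊤) trivial
      refine ⟨U, hyU, ?_⟩
      haveI : Nonempty U := ⟨⟨y, hyU⟩⟩
      obtain ⟨hdom, hic⟩ := GrothLib.NormFib.isIntegrallyClosed_chart hU
      obtain ⟨_, htow, hicl⟩ := GrothLib.NormFib.exists_chart hU
      letI := GrothLib.NormFib.chartAlgebra U
      haveI := hdom
      haveI := hic
      haveI := htow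
      haveI := hicl
      have := functionField_isFractionRing_of_isAffineOpen X U hU
      have hinjN := IsIntegralClosure.algebraMap_injective Γ(Curv2.normalization X, GrothLib.NormFib.pre U) Γ(X, U) X.functionField
      have hinj : Function.Injective (algebraMap Γ(X, U) Γ(Curv2.normalization X, GrothLib.NormFib.pre U)) := fun a b h => by
        have := congrArg (algebraMap Γ(Curv2.normalization X, GrothLib.NormFib.pre U) X.functionField) h
        rw [← IsScalarTower.algebraMap_apply, ← IsScalarTower.algebraMap_apply] at this
        exact IsFractionRing.injective _ _ this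
      have hint : (algebraMap Γ(X, U) Γ(Curv2.normalization X, GrothLib.NormFib.pre U)).IsIntegral :=
        algebraMap_isIntegral_iff.mpr (IsIntegralClosure.isIntegral_algebra Γ(X, U) X.functionField)
      have hker : RingHom.ker (algebraMap Γ(X, U) Γ(Curv2.normalization X, GrothLib.NormFib.pre U)) = nilradical Γ(X, U) := by
        rw [(RingHom.injective_iff_ker_eq_bot _).mp hinj, nilradical_eq_zero, Ideal.zero_eq_bot]
      have hbir : ∀ t, ∃ a b, algebraMap Γ(X, U) Γ(Curv2.normalization X, GrothLib.NormFib.pre U) b ≠ 0 ∧
          t * algebraMap Γ(X, U) Γ(Curv2.normalization X, GrothLib.NormFib.pre U) b = algebraMap Γ(X, U) Γ(Curv2.normalization X, GrothLib.NormFib.pre U) a := fun c => by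
        obtain ⟨⟨a, d⟩, hd⟩ := IsLocalization.surj (nonZeroDivisors Γ(X, U)) (algebraMap Γ(Curv2.normalization X, GrothLib.NormFib.pre U) X.functionField c)
        refine ⟨a, d, (map_ne_zero_iff _ hinj).mpr (nonZeroDivisors.coe_ne_zero d), hinjN ?_⟩
        rw [map_mul, ← IsScalarTower.algebraMap_apply, ← IsScalarTower.algebraMap_apply]
        exact hd
      have hrad := (GrothLib.GeomUnib.forall_isGeomUnibranch_iff_radic
        (φ := algebraMap Γ(X, U) Γ(Curv2.normalization X, GrothLib.NormFib.pre U)) hker hint hbir).mp (fun p hp => by
          let x : U := ⟨hU.fromSpec ⟨p, hp⟩, by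
            have h' : hU.fromSpec ⟨p, hp⟩ ∈ hU.fromSpec.opensRange := ⟨_, rfl⟩
            rwa [IsAffineOpen.opensRange_fromSpec] at h'⟩
          have hprime : hU.primeIdealOf x = ⟨p, hp⟩ :=
            hU.fromSpec.isOpenEmbedding.injective (hU.fromSpec_primeIdealOf x)
          letI := TopCat.Presheaf.algebra_section_stalk X.presheaf x
          have hl := hU.isLocalization_stalk x
          rw [hprime] at hl
          haveI : IsLocalization.AtPrime (X.presheaf.stalk x.1) p := hl
          exact GrothLib.BrnchNhd.isGeomUnibranch_of_ringEquiv
            (IsLocalization.algEquiv p.primeCompl (X.presheaf.stalk x.1) (Localization.AtPrime p)).toRingEquiv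
            (hX x.1))
      have h2 : UniversallyInjective (Spec.map (ν.app U)) :=
        GrothLib.UHTower.universallyInjective_iff_radic.2 hrad
      have h3 : Spec.map (ν.app U) = (hU.preimage ν).isoSpec.inv ≫ (ν ∣_ U) ≫ hU.isoSpec.hom := by
        rw [Scheme.Hom.app_eq_appLE]; exact GrothLib.SN25.specMap_appLE_preimage ν hU
      rw [h3] at h2
      exact (MorphismProperty.cancel_right_of_respectsIso (P := @UniversallyInjective) _ hU.isoSpec.hom).1
        ((MorphismProperty.cancel_left_of_respectsIso (P := @UniversallyInjective) (hU.preimage ν).isoSpec.inv _).1 h2)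
    choose U hyU hUI using hloc
    exact IsZariskiLocalAtTarget.of_iSup_eq_top U (top_unique fun y _ => TopologicalSpace.Opens.mem_iSup.2 ⟨y, hyU y⟩) hUI
  · let g := X.fromSpecStalk (genericPoint X)
    have : IsDominant g := ⟨fun z => by
      refine closure_mono (show ({genericPoint X} : Set X) ⊆ Set.range g from
        Set.singleton_subset_iff.2 ⟨_, Scheme.fromSpecStalk_closedPoint⟩) ?_
      rw [(genericPoint_spec X).def]
      trivial⟩
    have : IsDominant (g.toNormalization ≫ g.fromNormalization) := by
      rw [Scheme.Hom.toNormalization_fromNormalization]; infer_instance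
    have : IsDominant ν := IsDominant.of_comp g.toNormalization g.fromNormalization
    exact surjective_of_isDominant_of_isClosed_range ν ν.isClosedMap.isClosed_range

end Groth.Agent.S9689
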