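import Groth.Statements.S9691
import Groth.Agent.Lib.Ample.Criterion
import Groth.Agent.Lib.VA.SepLoci

set_option autoImplicit false
universe u
open CategoryTheory CategoryTheory.Limits AlgebraicGeometry
open Mor

namespace Groth.Agent.S9691

/-- Let f : X ⟶ S be a morphism of schemes and L an invertible O_X-module which is ample relative to f.
Then f is separated. -/
theorem result {X S : Scheme.{u}} (f : X ⟶ S) (L : X.Modules)
    (hL : RelAmple.IsRelAmple f L) : IsSeparated f := by
  refine IsZariskiLocalAtTarget.of_iSup_eq_top (P := @IsSeparated) (fun V : S.affineOpens => V.1)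
    (iSup_affineOpens_eq_top S) fun V => ?_
  have h := hL.2 V
  obtain ⟨c, ⟨e⟩⟩ := GrothLib.Ample.exists_cocycle h.1
  have hs : (f ⁻¹ᵁ V.1).toScheme.IsSeparated :=
    GrothLib.VA.isSeparated_of_affine_loci c ((c.isAmple_iff e).mp h).2
  haveI := hs
  haveI : IsSeparated ((f ∣_ V.1) ≫ terminal.from _) := by
    rw [Subsingleton.elim ((f ∣_ V.1) ≫ terminal.from _) (terminal.from _)]
    exact hs.1
  exact IsSeparated.of_comp (f ∣_ V.1) (terminal.from _)

end Groth.Agent.S9691
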