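import Groth.Statements.S9695
import Groth.Agent.Lib.Ample.VeryAmple
import Groth.Agent.Lib.VA.ProjSpace
import Groth.Agent.Lib.RelProjK.Amp
import Groth.Agent.Lib.RelVanish.Basic
import Groth.Agent.S4380
import Groth.Agent.S9710

set_option autoImplicit false
universe u
open CategoryTheory CategoryTheory.Limits AlgebraicGeometry
open Mor

namespace Groth.Agent.S9695

/-- Suppose f : X ⟶ S is a morphism of finite type and L is an invertible O_X-module. Then L is
f-relatively ample exactly when S can be covered by open subsets V with the following property: for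
every such V there is an integer d ≥ 1 for which the tensor power L^{⊗d}, restricted to f⁻¹(V), is
isomorphic to the pullback of O(1) under some V-immersion of f⁻¹(V) into a projective space P^n_V. -/
theorem result {X S : Scheme.{u}} (f : X ⟶ S)
    [LocallyOfFiniteType f] [QuasiCompact f] (L : X.Modules) (hLinv : PicF.IsInvertible L) :
    RelAmple.IsRelAmple f L ↔
      ∃ (ι : Type u) (V : ι → S.Opens), (⨆ j, V j) = ⊤ ∧
        ∀ j, ∃ d : ℕ, 0 < d ∧
          RelAmple.IsRelVeryAmplePn (f ∣_ V j) ((CohB1.tensorPow L d).restrict (f ⁻¹ᵁ V j).ι) := by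
  have hiso : ∀ (U : X.Opens) (n : ℕ), Nonempty ((CohB1.tensorPow L n).restrict U.ι ≅
      CohB1.tensorPow (L.restrict U.ι) n) := fun U n => by
    obtain ⟨c, ⟨e⟩⟩ := GrothLib.Ample.exists_cocycle hLinv
    obtain ⟨e₁⟩ := c.nonempty_tensorPow_iso e n
    obtain ⟨a⟩ := c.nonempty_restrict_iso (j := U.ι) e
    obtain ⟨b⟩ := (c.comap U.ι).nonempty_tensorPow_iso a n
    obtain ⟨d⟩ := c.nonempty_restrict_iso (j := U.ι) (Iso.refl (c.twist n))
    exact ⟨(Scheme.Modules.restrictFunctor U.ι).mapIso e₁ ≪≫ d ≪≫ b.symm⟩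
  have hinv : ∀ U : X.Opens, PicF.IsInvertible (L.restrict U.ι) := fun U => by
    obtain ⟨c, ⟨e⟩⟩ := GrothLib.Ample.exists_cocycle hLinv
    obtain ⟨a⟩ := c.nonempty_restrict_iso (j := U.ι) e
    exact (c.comap U.ι).isInvertible_of_iso a
  constructor
  · intro h
    refine ⟨S.affineOpens, fun V => V.1, iSup_affineOpens_eq_top S, fun V => ?_⟩
    obtain ⟨d₀, hd₀, hd⟩ := Groth.Agent.S9710.result (f ∣_ V.1) (L.restrict (f ⁻¹ᵁ V.1).ι) (h.2 V)
    obtain ⟨n, i, hi, hio, ⟨e⟩⟩ := hd d₀ le_rfl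
    obtain ⟨φ⟩ := hiso (f ⁻¹ᵁ V.1) d₀
    exact ⟨d₀, hd₀, n, i, hi, hio, ⟨φ ≪≫ e⟩⟩
  · rintro ⟨ι, V, hV, h⟩
    refine (Groth.Agent.S4380.result f L V hV).mpr fun j => ?_
    obtain ⟨d, hd, hpn⟩ := h j
    obtain ⟨φ⟩ := hiso (f ⁻¹ᵁ V j) d
    exact GrothLib.RelProjK.isRelAmple_of_tensorPow _ (hinv _) hd
      (GrothLib.RelProjK.isRelAmple_of_iso φ.symm
        (GrothLib.RelProjK.isRelAmple_of_isRelVeryAmple _ _ (GrothLib.VA.isRelVeryAmple_of_pn hpn)))

end Groth.Agent.S9695
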