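import Groth.Statements.S9698
import Groth.Agent.Lib.AmpleQA.AffineSpace

set_option autoImplicit false
universe u
open CategoryTheory CategoryTheory.Limits AlgebraicGeometry
open Mor

namespace Groth.Agent.S9698

/-- Let π : X ⟶ S be locally of finite type with X quasi-affine. Then there exist n ≥ 0 and an immersion
i : X ⟶ A^n_S over S (affine n-space on the index type Fin n, lifted to the ambient universe). -/
theorem result {X S : Scheme.{u}} (π : X ⟶ S)
    [LocallyOfFiniteType π] [X.IsQuasiAffine] :
    ∃ (n : ℕ) (i : X ⟶ 𝔸(ULift.{u} (Fin n); S)), IsImmersion i ∧ i ≫ (𝔸(ULift.{u} (Fin n); S) ↘ S) = π := by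
  exact GrothLib.AmpleQA.exists_immersion_affineSpace π

end Groth.Agent.S9698
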