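import Groth.Agent.S9758
import Groth.Agent.Lib.LCI6.Koszul
import Groth.Agent.Lib.LCI6.InLocus
import Groth.Statements.S9699
-- import your own Groth.Agent.* helpers here

set_option autoImplicit false
universe u
open CategoryTheory CategoryTheory.Limits AlgebraicGeometry
open Synt

namespace Groth.Agent.S9699

/-- A smooth morphism of schemes is syntomic (flat, locally of finite presentation, with local complete
intersection fibres, in the affine-local sense of Synt.IsSyntomicMor). -/
theorem result {X S : Scheme.{u}} (f : X ⟶ S) [Smooth f] :
    Synt.IsSyntomicMor f := by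
  exact (Groth.Agent.S9758.result f).1 ⟨inferInstance, fun x =>
    (GrothLib.LCI6.isKoszulAt_iff_inLocus f x).2 (GrothLib.LCI6.inLocus_of_smooth f x)⟩

end Groth.Agent.S9699
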