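import Groth.Statements.S9702
import Groth.Agent.Lib.GenFinite9.Basic

set_option autoImplicit false
universe u
open CategoryTheory CategoryTheory.Limits AlgebraicGeometry
open Mor

namespace Groth.Agent.S9702

/-- Let X, Y be integral and f : X ⟶ Y dominant and locally of finite type, with ξ the generic point of
X (so f ξ is the generic point of Y). Then the following are equivalent: the residue field of ξ is
finite over that of f ξ; some nonempty affine opens U ⊆ X and V ⊆ Y with f(U) ⊆ V have U ⟶ V finite;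
every point of X that f sends to the generic point of Y equals ξ. Under the extra assumption that f
is quasi-compact or separated, these are also equivalent to: f⁻¹(V) ⟶ V is finite for some nonempty
affine open V ⊆ Y. (The published statement also lists transcendence degree 0 of the function field
extension, which for this finitely generated extension is equivalent to finiteness; this row omits
it.) -/
theorem result {X Y : Scheme.{u}} [IsIntegral X] [IsIntegral Y] (f : X ⟶ Y)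
    [IsDominant f] [LocallyOfFiniteType f] :
    let ξ := genericPoint ↥X
    let A := letI := (f.residueFieldMap ξ).hom.toAlgebra
      Module.Finite (Y.residueField (f.base ξ)) (X.residueField ξ)
    let B := ∃ (U : X.Opens) (V : Y.Opens) (hUV : U ≤ f ⁻¹ᵁ V), IsAffineOpen U ∧ IsAffineOpen V ∧
      Nonempty ↥U ∧ IsFinite (f.resLE V U hUV)
    let C := ∀ x : X, f.base x = genericPoint ↥Y → x = ξ
    let D := ∃ V : Y.Opens, IsAffineOpen V ∧ Nonempty ↥V ∧ IsFinite (f ∣_ V)
    (A ↔ B) ∧ (A ↔ C) ∧ (IsSeparated f ∨ QuasiCompact f → (A ↔ D)) := by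
  intro ξ A B C D
  have hη : f ξ = genericPoint ↥Y := by
    refine IsGenericPoint.eq ?_ (genericPoint_spec ↥Y)
    rw [IsGenericPoint, ← Set.univ_subset_iff]
    intro z _
    refine closure_minimal (t := closure {f ξ}) ?_ isClosed_closure (f.denseRange z)
    rintro _ ⟨q, rfl⟩
    exact specializes_iff_mem_closure.mp ((genericPoint_specializes q).map f.continuous)
  have hηgen : closure {genericPoint ↥Y} ∈ irreducibleComponents (Y : Type u) := by
    rw [genericPoint_spec ↥Y, irreducibleComponents_eq_singleton]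
    rfl
  have hξgen : closure {ξ} ∈ irreducibleComponents (X : Type u) := by
    rw [genericPoint_spec ↥X, irreducibleComponents_eq_singleton]
    rfl
  have hgen1 : ∀ z : Y, closure {z} ∈ irreducibleComponents (Y : Type u) → z = genericPoint ↥Y :=
    fun z hz ↦ (GrothLib.MorQ9.eq_of_specializes_generic hz (genericPoint_specializes z)).symm
  have hgen2 : ∀ z : X, closure {z} ∈ irreducibleComponents (X : Type u) → z = ξ :=
    fun z hz ↦ (GrothLib.MorQ9.eq_of_specializes_generic hz (genericPoint_specializes z)).symm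
  have hqC : f.QuasiFiniteAt ξ → C := by
    intro hq x hx
    refine hgen2 x ((Groth.Agent.S9682.result f _ hηgen).2.2 (fun z _ hz ↦ ?_) x hx)
    rw [hgen2 z hz]
    exact hq
  have hCq : C → ∀ x, f x = genericPoint ↥Y → f.QuasiFiniteAt x := by
    intro hC x hx
    refine GrothLib.GenFinite9.quasiFiniteAt_of_finite_fibre f ((Set.finite_singleton ξ).subset ?_)
    exact fun z hz ↦ hC z ((show f z = f x from hz).trans hx)
  have hres : ∀ (Z : Scheme.{u}) [IsIntegral Z] (z : Z), z = genericPoint ↥Z →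
      IsField (Z.presheaf.stalk z) ∧ IsIso (Z.residue z) := by
    rintro Z _ z rfl
    have h : IsField (Z.presheaf.stalk (genericPoint ↥Z)) := Field.toIsField Z.functionField
    refine ⟨h, ?_⟩
    rw [ConcreteCategory.isIso_iff_bijective]
    let := h.toField
    exact ⟨(Z.residue _).hom.injective, Z.residue_surjective _⟩
  obtain ⟨hXf, hXr⟩ := hres X ξ rfl
  obtain ⟨hYf, hYr⟩ := hres Y (f ξ) hη
  have hAfin : A ↔ (f.stalkMap ξ).hom.Finite := by
    have e : f.stalkMap ξ = Y.residue (f ξ) ≫ f.residueFieldMap ξ ≫ inv (X.residue ξ) := by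
      rw [← Category.assoc, Scheme.residue_residueFieldMap, Category.assoc, IsIso.hom_inv_id,
        Category.comp_id]
    rw [e, CommRingCat.hom_comp, CommRingCat.hom_comp]
    refine ⟨fun h ↦ ?_, fun h ↦ ?_⟩
    · exact ((RingHom.Finite.of_surjective _
        (ConcreteCategory.bijective_of_isIso (inv (X.residue ξ))).2).comp h).comp
        (RingHom.Finite.of_surjective _ (ConcreteCategory.bijective_of_isIso (Y.residue _)).2)
    · have h2 := ((RingHom.Finite.of_surjective (X.residue ξ).hom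
        (ConcreteCategory.bijective_of_isIso (X.residue ξ)).2).comp h).comp
        (RingHom.Finite.of_surjective (inv (Y.residue (f ξ))).hom
          (ConcreteCategory.bijective_of_isIso (inv (Y.residue (f ξ)))).2)
      rw [← CommRingCat.hom_comp, ← CommRingCat.hom_comp, ← CommRingCat.hom_comp,
        ← CommRingCat.hom_comp] at h2
      simp only [Category.assoc, IsIso.inv_hom_id, Category.comp_id, IsIso.inv_hom_id_assoc] at h2
      exact h2
  have hAC : A ↔ C := by
    rw [hAfin]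
    refine ⟨fun h ↦ hqC (RingHom.QuasiFinite.of_finite h), fun hC ↦ ?_⟩
    have hq : (f.stalkMap ξ).hom.QuasiFinite := hCq hC ξ hη
    let := hYf.toField
    let := (f.stalkMap ξ).hom.toAlgebra
    have : Algebra.QuasiFinite (Y.presheaf.stalk (f ξ)) (X.presheaf.stalk ξ) := hq
    have : Algebra.EssFiniteType (Y.presheaf.stalk (f ξ)) (X.presheaf.stalk ξ) :=
      LocallyOfFiniteType.stalkMap f ξ
    exact Module.Finite.of_quasiFinite
  have hBC : B → C := by
    rintro ⟨U, V, hUV, -, -, hne, hfin⟩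
    obtain ⟨u⟩ := hne
    have hξU : ξ ∈ U := (genericPoint_specializes u.1).mem_open U.isOpen u.2
    apply hqC
    have h1 : (f.resLE V U hUV ≫ V.ι).QuasiFiniteAt ⟨ξ, hξU⟩ := Scheme.Hom.quasiFiniteAt _ _
    rw [Scheme.Hom.resLE_comp_ι, Scheme.Hom.quasiFiniteAt_comp_iff_of_isOpenImmersion] at h1
    exact h1
  have hCB : C → ∃ (U : X.Opens) (V V' : Y.Opens) (hUV : U ≤ f ⁻¹ᵁ V), IsAffineOpen U ∧
      IsAffineOpen V ∧ V' ≤ V ∧ IsAffineOpen V' ∧ genericPoint ↥Y ∈ V' ∧ ξ ∈ U ∧
      IsFinite (f.resLE V' (U ⊓ f ⁻¹ᵁ V') inf_le_right) := by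
    intro hC
    obtain ⟨V, hV, hηV, -⟩ := exists_isAffineOpen_mem_and_subset
      (TopologicalSpace.Opens.mem_top (genericPoint ↥Y))
    obtain ⟨U, hU, hξU, hUV⟩ := exists_isAffineOpen_mem_and_subset
      (show ξ ∈ f ⁻¹ᵁ V by change f ξ ∈ V; rw [hη]; exact hηV)
    have : IsAffine (U : Scheme.{u}) := hU
    have : IsAffine (V : Scheme.{u}) := hV
    let g := f.resLE V U hUV
    have hgV : g ≫ V.ι = U.ι ≫ f := Scheme.Hom.resLE_comp_ι _ _
    have hval : ∀ u : U, (g u).1 = f u.1 := fun u ↦ by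
      change (g ≫ V.ι) u = (U.ι ≫ f) u
      rw [hgV]
    let ηV : (V : Scheme.{u}) := ⟨_, hηV⟩
    have hfib : g ⁻¹' {ηV} ⊆ {(⟨ξ, hξU⟩ : U)} := fun u hu ↦
      Subtype.ext (hC u.1 ((hval u).symm.trans (congrArg Subtype.val (show g u = ηV from hu))))
    have hηVgen : closure {ηV} ∈ irreducibleComponents ((V : Scheme.{u}) : Type u) := by
      have : IrreducibleSpace (V : Scheme.{u}) :=
        have : Nonempty (V : Scheme.{u}) := ⟨⟨_, hηV⟩⟩
        have := isIntegral_of_isOpenImmersion V.ι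
        irreducibleSpace_of_isIntegral _
      rw [show closure {ηV} = Set.univ from ?_, irreducibleComponents_eq_singleton]
      · rfl
      · refine Set.eq_univ_of_forall fun z ↦ specializes_iff_mem_closure.mp ?_
        exact (subtype_specializes_iff ηV z).mpr (genericPoint_specializes z.1)
    obtain ⟨O, hO, hηO, hfin⟩ := GrothLib.GenFinite9.exists_affine_finite g ηV hηVgen
      ((Set.finite_singleton _).subset hfib)
    refine ⟨U, V, V.ι ''ᵁ O, hUV, hU, hV, V.ι_image_le O, hO.image_of_isOpenImmersion V.ι,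
      ⟨ηV, hηO, rfl⟩, hξU, ?_⟩
    have e : U.ι ''ᵁ (g ⁻¹ᵁ O) = U ⊓ f ⁻¹ᵁ (V.ι ''ᵁ O) := by
      ext x
      constructor
      · rintro ⟨u, hu, rfl⟩
        exact ⟨u.2, g u, hu, hval u⟩
      · rintro ⟨hx, o, ho, hox⟩
        refine ⟨⟨x, hx⟩, ?_, rfl⟩
        change g ⟨x, hx⟩ ∈ O
        rwa [show g ⟨x, hx⟩ = o from Subtype.ext ((hval _).trans hox.symm)]
    have e2 : (U.ι.isoImage (g ⁻¹ᵁ O)).inv ≫ g ∣_ O ≫ (V.ι.isoImage O).hom =
        X.homOfLE e.le ≫ f.resLE (V.ι ''ᵁ O) (U ⊓ f ⁻¹ᵁ (V.ι ''ᵁ O)) inf_le_right := by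
      rw [← cancel_mono (V.ι ''ᵁ O).ι]
      simp only [Category.assoc, Scheme.Hom.isoImage_hom_ι, morphismRestrict_ι_assoc,
        Scheme.Hom.resLE_comp_ι, Scheme.homOfLE_ι_assoc, hgV, Scheme.Hom.isoImage_inv_ι_assoc]
    have hiso : IsIso (X.homOfLE e.le) := by
      refine ⟨X.homOfLE e.ge, ?_, ?_⟩ <;> simp
    have h3 : IsFinite ((U.ι.isoImage (g ⁻¹ᵁ O)).inv ≫ g ∣_ O ≫ (V.ι.isoImage O).hom) := inferInstance
    rw [e2] at h3
    exact (MorphismProperty.cancel_left_of_respectsIso @IsFinite _ _).mp h3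
  have hCB' : C → B := by
    intro hC
    obtain ⟨U, V, V', -, hU, -, -, hV', hηV', hξU, hfin⟩ := hCB hC
    refine ⟨U ⊓ f ⁻¹ᵁ V', V', inf_le_right, ?_, hV', ⟨⟨ξ, hξU, ?_⟩⟩, hfin⟩
    · have : IsAffine (V' : Scheme.{u}) := hV'
      exact isAffine_of_isAffineHom (f.resLE V' (U ⊓ f ⁻¹ᵁ V') inf_le_right)
    · change f ξ ∈ V'
      rw [hη]
      exact hηV'
  refine ⟨⟨fun h ↦ hCB' (hAC.mp h), fun h ↦ hAC.mpr (hBC h)⟩, hAC, fun hf ↦ ⟨fun hA ↦ ?_, ?_⟩⟩
  · rcases hf with hs | hq
    · obtain ⟨U, V, V', -, hU, -, -, hV', hηV', hξU, hfin⟩ := hCB (hAC.mp hA)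
      refine ⟨V', hV', ⟨⟨_, hηV'⟩⟩, ?_⟩
      let j := X.homOfLE (inf_le_right : U ⊓ f ⁻¹ᵁ V' ≤ f ⁻¹ᵁ V')
      have hj : j ≫ f ∣_ V' = f.resLE V' (U ⊓ f ⁻¹ᵁ V') inf_le_right := rfl
      have : IsProper (j ≫ f ∣_ V') := by rw [hj]; infer_instance
      have : IsProper j := IsProper.of_comp j (f ∣_ V')
      have hle : f ⁻¹ᵁ V' ≤ U ⊓ f ⁻¹ᵁ V' := by
        intro p hp
        have hξV' : ξ ∈ f ⁻¹ᵁ V' := by change f ξ ∈ V'; rw [hη]; exact hηV'
        have hs' : (⟨ξ, hξV'⟩ : (f ⁻¹ᵁ V' : X.Opens)) ⤳ ⟨p, hp⟩ :=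
          (subtype_specializes_iff _ _).mpr (genericPoint_specializes p)
        obtain ⟨u, hu⟩ := hs'.mem_closed j.isClosedMap.isClosed_range ⟨⟨ξ, hξU, hξV'⟩, by
          apply (f ⁻¹ᵁ V').ι.isOpenEmbedding.injective
          rw [← Scheme.Hom.comp_apply, Scheme.homOfLE_ι]
          rfl⟩
        have := congrArg (f ⁻¹ᵁ V').ι hu
        rw [← Scheme.Hom.comp_apply, Scheme.homOfLE_ι] at this
        exact (show (U ⊓ f ⁻¹ᵁ V').ι u = p from this) ▸ u.2
      have : IsIso j := by
        refine ⟨X.homOfLE hle, ?_, ?_⟩ <;> simp [j]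
      have h4 : IsFinite (j ≫ f ∣_ V') := by rw [hj]; exact hfin
      exact (MorphismProperty.cancel_left_of_respectsIso @IsFinite _ _).mp h4
    · obtain ⟨O, hO, hfin⟩ := GrothLib.GenFinite9.exists_dense_finite f fun z hz x hx ↦
        hCq (hAC.mp hA) x (hx.trans (hgen1 z hz))
      obtain ⟨o, ho⟩ := hO.nonempty
      obtain ⟨V, hV, hoV, hVO⟩ := exists_isAffineOpen_mem_and_subset ho
      refine ⟨V, hV, ⟨⟨o, hoV⟩⟩, ?_⟩
      have h := IsZariskiLocalAtTarget.restrict (P := @IsFinite) hfin (O.ι ⁻¹ᵁ V)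
      rw [MorphismProperty.arrow_mk_iso_iff @IsFinite (morphismRestrictRestrict f O (O.ι ⁻¹ᵁ V))] at h
      have he : O.ι ''ᵁ (O.ι ⁻¹ᵁ V) = V := by
        rw [Scheme.Hom.image_preimage_eq_opensRange_inf, Scheme.Opens.opensRange_ι, inf_eq_right]
        exact hVO
      rwa [he] at h
  · rintro ⟨V, hV, ⟨v⟩, hfin⟩
    have : IsAffine (V : Scheme.{u}) := hV
    have hξV : ξ ∈ f ⁻¹ᵁ V := by
      change f ξ ∈ V
      rw [hη]
      exact (genericPoint_specializes v.1).mem_open V.isOpen v.2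
    refine hAC.mpr (hBC ⟨f ⁻¹ᵁ V, V, le_rfl, isAffine_of_isAffineHom (f ∣_ V), hV, ⟨⟨ξ, hξV⟩⟩, ?_⟩)
    rw [Scheme.Hom.resLE_eq_morphismRestrict]
    exact hfin

end Groth.Agent.S9702
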