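import Groth.Statements.S9703
import Groth.Agent.Lib.SplitCover9.Basic
import Mathlib.AlgebraicGeometry.Morphisms.FinitePresentation
import Mathlib.AlgebraicGeometry.Morphisms.Flat
import Mathlib.AlgebraicGeometry.Pullbacks

set_option autoImplicit false
universe u
open CategoryTheory CategoryTheory.Limits AlgebraicGeometry
open Mor

namespace Groth.Agent.S9703

/-- Let f : Y ⟶ X be finite with X affine. Then there exist a surjective finite locally free b : X' ⟶ X,
a finite locally free c : Z' ⟶ X' and a closed immersion i of Y' = X' ×_X Y into Z' over X' such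
that Z' is, as a set, the union of finitely many closed subschemes each mapping isomorphically onto
X'. (The published statement also records that Y' ⟶ Y is surjective finite locally free, which
follows by base change; this row omits it.) -/
theorem result {X Y : Scheme.{u}} [IsAffine X] (f : Y ⟶ X)
    [IsFinite f] :
    ∃ (X' : Scheme.{u}) (b : X' ⟶ X) (Z' : Scheme.{u}) (c : Z' ⟶ X') (i : pullback f b ⟶ Z'),
      Mor2.IsFinLocFree b ∧ Surjective b ∧ Mor2.IsFinLocFree c ∧ IsClosedImmersion i ∧
      i ≫ c = pullback.snd f b ∧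
      ∃ (m : ℕ) (Zj : Fin m → Scheme.{u}) (ιj : ∀ j, Zj j ⟶ Z'),
        (∀ j, IsClosedImmersion (ιj j)) ∧ (∀ j, IsIso (ιj j ≫ c)) ∧
        (⋃ j, Set.range (ιj j).base) = Set.univ := by
  classical
  haveI : IsAffine Y := isAffine_of_isAffineHom f
  letI : Algebra Γ(X, ⊤) Γ(Y, ⊤) := f.appTop.hom.toAlgebra
  haveI : Module.Finite Γ(X, ⊤) Γ(Y, ⊤) := by
    have h := f.finite_app ⊤ (isAffineOpen_top X)
    exact h
  obtain ⟨A', _, _, hfree, hfin, hff, C, _, _, hCfree, hCfin, ⟨ψ, hψ⟩, m, σ, hσ⟩ :=
    GrothLib.SplitCover9.exists_cover (Γ(X, ⊤) : Type u) (Γ(Y, ⊤) : Type u)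
  haveI : Module.FinitePresentation Γ(X, ⊤) A' := Module.finitePresentation_of_projective _ _
  haveI : Module.FinitePresentation A' C := Module.finitePresentation_of_projective _ _
  let a : CommRingCat.of (Γ(X, ⊤) : Type u) ⟶ CommRingCat.of A' := CommRingCat.ofHom (algebraMap Γ(X, ⊤) A')
  let c₀ : CommRingCat.of A' ⟶ CommRingCat.of C := CommRingCat.ofHom (algebraMap A' C)
  let b : Spec (CommRingCat.of A') ⟶ X := Spec.map a ≫ X.isoSpec.inv
  have hsq : IsPullback
      (Spec.map (CommRingCat.ofHom (S := TensorProduct Γ(X, ⊤) A' Γ(Y, ⊤)) Algebra.TensorProduct.includeRight.toRingHom) ≫ Y.isoSpec.inv)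
      (Spec.map (CommRingCat.ofHom (S := TensorProduct Γ(X, ⊤) A' Γ(Y, ⊤)) Algebra.TensorProduct.includeLeftRingHom)) f b := by
    have h1 := isPullback_SpecMap_of_isPushout _ _ _ _
      (CommRingCat.isPushout_tensorProduct (Γ(X, ⊤) : Type u) A' (Γ(Y, ⊤) : Type u)).flip
    refine h1.of_iso (Iso.refl _) Y.isoSpec.symm (Iso.refl _) X.isoSpec.symm ?_ ?_ ?_ ?_
    · simp
    · simp
    · show Spec.map f.appTop ≫ X.isoSpec.inv = Y.isoSpec.inv ≫ f
      exact Scheme.isoSpec_inv_naturality f
    · simp [b, a]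
  refine ⟨Spec (CommRingCat.of A'), b, Spec (CommRingCat.of C), Spec.map c₀,
    hsq.isoPullback.inv ≫ Spec.map (CommRingCat.ofHom ψ.toRingHom), ?_, ?_, ?_, ?_, ?_, ?_⟩
  · have h1 : IsFinite (Spec.map a) := (IsFinite.SpecMap_iff _).2 (RingHom.finite_algebraMap.2 hfin)
    have h2 : Flat (Spec.map a) := Flat.SpecMap_iff.2 (RingHom.flat_algebraMap_iff.2 inferInstance)
    have h3 : LocallyOfFinitePresentation (Spec.map a) := (LocallyOfFinitePresentation.SpecMap_iff _).2
      ((RingHom.finitePresentation_algebraMap).2 (Algebra.FinitePresentation.of_finitePresentation _ _))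
    exact ⟨inferInstance, inferInstance, inferInstance⟩
  · haveI : Surjective (Spec.map a) := ⟨PrimeSpectrum.comap_surjective_of_faithfullyFlat⟩
    infer_instance
  · exact ⟨(IsFinite.SpecMap_iff _).2 (RingHom.finite_algebraMap.2 hCfin),
      Flat.SpecMap_iff.2 (RingHom.flat_algebraMap_iff.2 inferInstance),
      (LocallyOfFinitePresentation.SpecMap_iff _).2 ((RingHom.finitePresentation_algebraMap).2 (Algebra.FinitePresentation.of_finitePresentation _ _))⟩
  · haveI := IsClosedImmersion.spec_of_surjective (CommRingCat.ofHom ψ.toRingHom) hψ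
    infer_instance
  · rw [Category.assoc, ← Spec.map_comp, Iso.inv_comp_eq, hsq.isoPullback_hom_snd]
    congr 1
    ext z
    exact ψ.commutes z
  · refine ⟨m, fun _ => Spec (CommRingCat.of A'), fun j => Spec.map (CommRingCat.ofHom (σ j).toRingHom),
      fun j => IsClosedImmersion.spec_of_surjective _ fun z => ⟨algebraMap A' C z, (σ j).commutes z⟩,
      fun j => ?_, ?_⟩
    · show IsIso (Spec.map (CommRingCat.ofHom (σ j).toRingHom) ≫ Spec.map c₀)
      have he : c₀ ≫ CommRingCat.ofHom (σ j).toRingHom = 𝟙 _ := by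
        ext z
        exact (σ j).commutes z
      rw [← Spec.map_comp, he, Spec.map_id]
      infer_instance
    · refine Set.eq_univ_of_forall fun P => ?_
      obtain ⟨j, hj⟩ := hσ P.asIdeal P.2
      refine Set.mem_iUnion.2 ⟨j, ?_⟩
      show P ∈ Set.range (PrimeSpectrum.comap (σ j).toRingHom)
      rw [range_comap_of_surjective _ _ fun z => ⟨algebraMap A' C z, (σ j).commutes z⟩]
      exact hj

end Groth.Agent.S9703
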