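import Groth.Statements.S9705
import Groth.Agent.Lib.ProjQ9.Basic

set_option autoImplicit false
universe u
open CategoryTheory CategoryTheory.Limits AlgebraicGeometry
open Mor

namespace Groth.Agent.S9705

/-- Over a quasi-compact quasi-separated scheme S, a morphism f : X ⟶ S is H-projective if and only if
it is H-quasi-projective and proper. -/
theorem result {X S : Scheme.{u}} [CompactSpace ↥S]
    [QuasiSeparatedSpace ↥S] (f : X ⟶ S) :
    RelProj.IsHProjective f ↔ RelProj.IsHQuasiProjective f ∧ IsProper f := by
  exact ⟨GrothLib.ProjQ9.isHQuasiProjective_of_isHProjective, fun ⟨h, hp⟩ =>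
    haveI := hp
    GrothLib.ProjQ9.isHProjective_of_isHQuasiProjective_of_isProper f h⟩

end Groth.Agent.S9705
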