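import Groth.Statements.S9709


set_option autoImplicit false
universe u
open CategoryTheory CategoryTheory.Limits AlgebraicGeometry
open Mor

namespace Groth.Agent.S9709

/-- Let f : X ⟶ S be an integral morphism. Then every point x of X is closed in its fibre: a point of
f⁻¹(f x) specialising from x equals x. -/
theorem result {X S : Scheme.{u}} (f : X ⟶ S) [IsIntegralHom f] (x : X) :
    closure {x} ∩ f.base ⁻¹' {f.base x} = {x} := by
  refine Set.Subset.antisymm ?_ (fun z hz => by rw [hz]; exact ⟨subset_closure rfl, rfl⟩)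
  rintro y ⟨hy, hfy : f y = f x⟩
  obtain ⟨_, ⟨V, hV, rfl⟩, hyV, -⟩ :=
    S.isBasis_affineOpens.exists_subset_of_mem_open (Set.mem_univ (f y)) isOpen_univ
  have hU : IsAffineOpen (f ⁻¹ᵁ V) := hV.preimage f
  have hxU : x ∈ f ⁻¹ᵁ V := by show f x ∈ V; rw [← hfy]; exact hyV
  have hyU : y ∈ f ⁻¹ᵁ V := hyV
  set q := hU.primeIdealOf ⟨x, hxU⟩
  set p := hU.primeIdealOf ⟨y, hyU⟩
  have hq : hU.fromSpec q = x := hU.fromSpec_primeIdealOf _
  have hp : hU.fromSpec p = y := hU.fromSpec_primeIdealOf _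
  have hqp : q ⤳ p := by
    refine hU.fromSpec.isOpenEmbedding.toIsInducing.specializes_iff.mp ?_
    show hU.fromSpec q ⤳ hU.fromSpec p
    rw [hq, hp]
    exact specializes_iff_mem_closure.mpr hy
  have hle : q.asIdeal ≤ p.asIdeal := (PrimeSpectrum.le_iff_specializes q p).mpr hqp
  by_contra hne
  have hlt : ¬ p.asIdeal ≤ q.asIdeal := fun h => hne (by
    show y = x
    rw [← hp, ← hq, show p = q from PrimeSpectrum.ext (le_antisymm h hle)])
  obtain ⟨b, hb, hbq⟩ := SetLike.not_le_iff_exists.mp hlt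
  letI := (f.app V).hom.toAlgebra
  have hint : IsIntegral Γ(S, V) b := IsIntegralHom.isIntegral_app f V hV b
  have h := Ideal.comap_lt_comap_of_integral_mem_sdiff hle ⟨hb, hbq⟩ hint
  have e1 := IsAffineOpen.comap_primeIdealOf_appLE (f := f) V hV (f ⁻¹ᵁ V) hU le_rfl hxU
  have e2 := IsAffineOpen.comap_primeIdealOf_appLE (f := f) V hV (f ⁻¹ᵁ V) hU le_rfl hyU
  rw [Scheme.Hom.appLE_eq_app] at e1 e2
  refine h.ne (congrArg PrimeSpectrum.asIdeal (e1.trans (Eq.trans ?_ e2.symm)))
  exact congrArg (fun z => hV.primeIdealOf z) (Subtype.ext hfy.symm)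

end Groth.Agent.S9709
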