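import Groth.Statements.S9713
import Groth.Agent.Lib.ProjQ9.Basic

set_option autoImplicit false
universe u
open CategoryTheory CategoryTheory.Limits AlgebraicGeometry
open Mor

namespace Groth.Agent.S9713

/-- A base change of a locally projective morphism (every point of the base has an open neighbourhood U
with f⁻¹(U) ⟶ U projective) is locally projective. Here f⁻¹(U) ⟶ U projective means isomorphic over
U to the relative Proj of a quasi-coherent graded algebra generated by its finite-type degree-one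
part; the published definition uses closed subschemes of P(E) with E of finite type, an equivalent
condition. -/
theorem result {X S S' : Scheme.{u}} (f : X ⟶ S) (hf : RelProj.IsLocallyProjective f)
    (g : S' ⟶ S) : RelProj.IsLocallyProjective (pullback.snd f g) := by
  intro s
  obtain ⟨U, hs, hU⟩ := hf (g s)
  let f' := pullback.snd f g
  refine ⟨g ⁻¹ᵁ U, hs, ?_⟩
  have big : IsPullback ((f' ⁻¹ᵁ (g ⁻¹ᵁ U)).ι ≫ pullback.fst f g) (f' ∣_ (g ⁻¹ᵁ U)) f ((g ⁻¹ᵁ U).ι ≫ g) :=
    (isPullback_morphismRestrict f' (g ⁻¹ᵁ U)).flip.paste_horiz (IsPullback.of_hasPullback f g)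
  have he : (g ∣_ U) ≫ U.ι = (g ⁻¹ᵁ U).ι ≫ g := morphismRestrict_ι g U
  rw [← he] at big
  have hW := (isPullback_morphismRestrict f U).flip
  have w : ((f' ⁻¹ᵁ (g ⁻¹ᵁ U)).ι ≫ pullback.fst f g) ≫ f = ((f' ∣_ (g ⁻¹ᵁ U)) ≫ (g ∣_ U)) ≫ U.ι := by
    rw [big.w, Category.assoc]
  have sq : IsPullback (hW.lift _ _ w) (f' ∣_ (g ⁻¹ᵁ U)) (f ∣_ U) (g ∣_ U) :=
    IsPullback.of_right (by rw [hW.lift_fst]; exact big) (hW.lift_snd _ _ w) hW
  exact GrothLib.VA.isProjective_of_isPullback sq hU

end Groth.Agent.S9713
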