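import Groth.Statements.S9717
import Groth.Agent.Lib.ProjAlg.Projective

set_option autoImplicit false
universe u
open CategoryTheory AlgebraicGeometry
open Mor

namespace Groth.Agent.S9717

/-- An H-projective morphism f : X ⟶ S (a closed immersion into some projective space P^n_S followed by
the projection) is projective. Here projective means that X is isomorphic over S to the relative
Proj of a quasi-coherent graded O_S-algebra generated by its degree-one part, with that part of
finite type; the published definition uses closed subschemes of a projective bundle P(E) with E
quasi-coherent of finite type, an equivalent condition. -/
theorem result {X S : Scheme.{u}} (f : X ⟶ S) (hf : RelProj.IsHProjective f) :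
    RelProj.IsProjective f := by
  exact GrothLib.ProjAlg.isProjective_of_isHProjective hf

end Groth.Agent.S9717
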