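import Groth.Statements.S9719
import Groth.Agent.Lib.VA.ToPn
import Groth.Agent.Lib.VA.Local
import Groth.Agent.Lib.RelProjK.Local

set_option autoImplicit false
universe u
open CategoryTheory CategoryTheory.Limits AlgebraicGeometry
open Mor

namespace Groth.Agent.S9719

/-- (1) ⇒ (2): let f : X ⟶ S be of finite type and L an invertible O_X-module which is very ample
relative to f (isomorphic to the inverse image of O(1) along an S-immersion into the projective
bundle of a quasi-coherent O_S-module). Then there is an open covering of S by opens V such that,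
for each V, the restriction of L to f⁻¹(V) is isomorphic to the inverse image of O(1) along some
immersion of f⁻¹(V) into a projective space P^n_V over V. (The converse implication of the published
statement is not stated here.) -/
theorem result {X S : Scheme.{u}} (f : X ⟶ S)
    [LocallyOfFiniteType f] [QuasiCompact f] (L : X.Modules) (hLinv : PicF.IsInvertible L)
    (hL : RelProj.IsRelVeryAmple f L) :
    ∃ (ι : Type u) (V : ι → S.Opens), (⨆ j, V j) = ⊤ ∧
      ∀ j, RelAmple.IsRelVeryAmplePn (f ∣_ V j) (L.restrict (f ⁻¹ᵁ V j).ι) := by
  haveI := GrothLib.InvExt.isQuasicoherent_of_isInvertible hLinv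
  have hV : (⨆ j : S.affineOpens, (j : S.Opens)) = ⊤ := iSup_affineOpens_eq_top S
  refine ⟨S.affineOpens, fun j => j, hV, fun j => ?_⟩
  haveI : IsAffine ((j : S.Opens) : Scheme.{u}) := j.2
  exact GrothLib.VA.isRelVeryAmplePn_of_isRelVeryAmple _
    (GrothLib.RelProjK.isInvertible_of_iso ((Scheme.Modules.restrictFunctorIsoPullback _).app L)
      (GrothLib.RelProjK.isInvertible_pullback _ hLinv))
    ((GrothLib.VA.isRelVeryAmple_iff_local f L hLinv _ hV).mp hL j)

end Groth.Agent.S9719
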