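import Groth.Statements.S9724
import Groth.Agent.Lib.SmoothDiv6.Main
import Groth.Agent.Lib.SmoothDiv6.Residue
import Groth.Agent.Lib.FibreFlat.Stalk
-- import your own Groth.Agent.* helpers here

set_option autoImplicit false
universe u
open FlatMor

namespace Groth.Agent.S9724

open AlgebraicGeometry CategoryTheory Limits in
/-- Let f : X ⟶ S be a morphism and x a point such that f is smooth on an open neighbourhood of x, the
residue field extension κ(x)/κ(f x) is separable (formally smooth), and x is not the generic point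
of any irreducible component of the fibre over f x, i.e. (the fibre being smooth over a field near
x) the maximal ideal of the local ring of the fibre at x is nonzero. Then there are an affine open U
∋ x and a nonzerodivisor h' of Γ(X, U) vanishing at x such that the closed subscheme V(h') of U, an
effective Cartier divisor through x, is smooth over S. -/
theorem result {X S : Scheme.{u}} (f : X ⟶ S) (x : X)
    (W : X.Opens) (hxW : x ∈ W) (hW : Smooth (W.ι ≫ f))
    (hsep : letI := (f.residueFieldMap x).hom.toAlgebra
      Algebra.FormallySmooth (S.residueField (f x)) (X.residueField x))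
    (hgen : IsLocalRing.maximalIdeal ↑((f.fiber (f x)).presheaf.stalk (f.asFiber x)) ≠ ⊥) :
    ∃ (U : X.Opens) (hU : IsAffineOpen U) (hx : x ∈ U) (h' : Γ(X, U)), h' ∈ nonZeroDivisors Γ(X, U) ∧
      X.presheaf.germ U x hx h' ∈ IsLocalRing.maximalIdeal ↑(X.presheaf.stalk x) ∧
      Smooth (Spec.map (CommRingCat.ofHom (Ideal.Quotient.mk (Ideal.span {h'}))) ≫ hU.fromSpec ≫ f) := by
  letI := (f.stalkMap x).hom.toAlgebra
  let R := S.presheaf.stalk (f x)
  let P := X.presheaf.stalk x
  haveI : IsLocalHom (algebraMap R P) := inferInstanceAs (IsLocalHom (f.stalkMap x).hom)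
  haveI : Algebra.EssFiniteType R P := (GrothLib.SmoothDiv6.stalkMap_formallySmooth f x W hxW hW).2
  obtain ⟨hsurj, hker⟩ := GrothLib.FibreFlat.fiberι_stalkMap' f (f x) (f.asFiber x) x (f.fiberι_asFiber x)
  have hne : ¬ IsLocalRing.maximalIdeal P ≤ (IsLocalRing.maximalIdeal R).map (algebraMap R P) := fun hle => by
    refine hgen ((Submodule.eq_bot_iff _).2 fun z hz => ?_)
    obtain ⟨a, rfl⟩ := hsurj z
    refine RingHom.mem_ker.1 (hker.ge (hle ?_))
    rw [IsLocalRing.mem_maximalIdeal, mem_nonunits_iff] at hz ⊢
    exact fun hu => hz (hu.map _)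
  have hsep' : Algebra.FormallySmooth (IsLocalRing.ResidueField R) (IsLocalRing.ResidueField P) := by
    have h1 : (f.residueFieldMap x).hom.FormallySmooth := hsep
    have h2 : algebraMap (IsLocalRing.ResidueField R) (IsLocalRing.ResidueField P) = (f.residueFieldMap x).hom := by
      refine Ideal.Quotient.ringHom_ext (RingHom.ext fun a => ?_)
      rfl
    exact RingHom.formallySmooth_algebraMap.1 (h2 ▸ h1)
  obtain ⟨h, hm, hd⟩ := GrothLib.SmoothDiv6.exists_mem_differential_ne_zero (R := R) (P := P) hsep' hne
  obtain ⟨U, hU, hx, h', hg, hnz, hsm⟩ := GrothLib.SmoothDiv6.exists_nhd_of_differential f x W hxW hW h hm hd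
  exact ⟨U, hU, hx, h', hnz, hg ▸ hm, hsm⟩

end Groth.Agent.S9724
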