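import Groth.Statements.S9727
import Mathlib.RingTheory.Unramified.LocalStructure
import Mathlib.AlgebraicGeometry.Morphisms.Etale
import Mathlib.AlgebraicGeometry.Fiber
import Mathlib.AlgebraicGeometry.PullbackCarrier
import Mathlib.AlgebraicGeometry.Morphisms.ClosedImmersion

set_option autoImplicit false
universe u
open FlatMor

namespace Groth.Agent.S9727

open CategoryTheory CategoryTheory.Limits AlgebraicGeometry Polynomial TensorProduct

theorem isPullback_comp_mono {C : Type*} [Category C] {P A B S T : C} {p₁ : P ⟶ A} {p₂ : P ⟶ B} {f : A ⟶ S} {g : B ⟶ S}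
    (h : IsPullback p₁ p₂ f g) (j : S ⟶ T) [Mono j] : IsPullback p₁ p₂ (f ≫ j) (g ≫ j) := by
  refine IsPullback.of_isLimit' ⟨by rw [reassoc_of% h.w]⟩
    (PullbackCone.IsLimit.mk _ (fun s => h.lift s.fst s.snd ?_) (fun s => h.lift_fst _ _ _)
      (fun s => h.lift_snd _ _ _) fun s m h1 h2 => h.hom_ext (by rw [h1, h.lift_fst]) (by rw [h2, h.lift_snd]))
  rw [← cancel_mono j, Category.assoc, Category.assoc, s.condition]

/-- Every element of the target is a quotient of two elements coming from the source. -/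
def QuotLoc {A C : Type*} [CommRing A] [CommRing C] (φ : A →+* C) : Prop :=
  ∀ c, ∃ σ a, IsUnit (φ σ) ∧ c * φ σ = φ a

theorem QuotLoc.finset {A C : Type*} [CommRing A] [CommRing C] {φ : A →+* C} (h : QuotLoc φ) (s : Finset C) :
    ∃ σ, IsUnit (φ σ) ∧ ∀ c ∈ s, ∃ a, c * φ σ = φ a := by
  classical
  choose σ a hu he using h
  refine ⟨∏ c ∈ s, σ c, by rw [map_prod]; exact IsUnit.prod_iff.2 fun c _ => hu c,
    fun c hc => ⟨a c * ∏ c' ∈ s.erase c, σ c', ?_⟩⟩
  rw [← Finset.mul_prod_erase s σ hc, map_mul, map_mul, ← mul_assoc, he]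

theorem exists_etale_lift_nhd {A C B : Type u} [CommRing A] [CommRing C] [CommRing B]
    [Algebra A C] [Algebra C B] (hC : QuotLoc (algebraMap A C)) [Algebra.Etale C B] (q : Ideal B) [q.IsPrime] :
    ∃ (h : B) (A' : Type u) (_ : CommRing A') (_ : Algebra A A') (σ : A) (_ : IsLocalization.Away σ A')
      (_ : Algebra A' C) (_ : IsScalarTower A A' C)
      (A'' : Type u) (_ : CommRing A'') (_ : Algebra A' A'') (_ : Algebra.Etale A' A''),
      h ∉ q ∧ Nonempty (C ⊗[A'] A'' ≃ₐ[C] Localization.Away h) := by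
  classical
  obtain ⟨h, hh, hstd⟩ := Algebra.IsEtaleAt.exists_isStandardEtale (R := C) (S := B) (Q := q)
  obtain ⟨P⟩ := Algebra.IsStandardEtale.nonempty_standardEtalePresentation (R := C) (S := Localization.Away h)
  obtain ⟨σ, hσ, hσc⟩ := hC.finset (P.f.coeffs ∪ P.g.coeffs)
  let A' := Localization.Away σ
  let φ : A' →+* C := IsLocalization.Away.lift σ hσ
  letI : Algebra A' C := φ.toAlgebra
  have htow : IsScalarTower A A' C :=
    IsScalarTower.of_algebraMap_eq fun a => (IsLocalization.Away.lift_eq σ hσ a).symm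
  have hrange : ∀ p : C[X], p.coeffs ⊆ P.f.coeffs ∪ P.g.coeffs → p ∈ Polynomial.lifts (algebraMap A' C) := by
    intro p hp
    rw [Polynomial.lifts_iff_coeff_lifts]
    intro n
    by_cases h0 : p.coeff n = 0
    · exact ⟨0, by rw [map_zero, h0]⟩
    · obtain ⟨a, ha⟩ := hσc _ (hp (Polynomial.coeff_mem_coeffs h0))
      refine ⟨algebraMap A A' a * IsLocalization.Away.invSelf σ, ?_⟩
      refine hσ.mul_left_inj.1 ?_
      rw [ha, IsScalarTower.algebraMap_apply A A' C σ, ← map_mul, mul_assoc, mul_comm (IsLocalization.Away.invSelf σ),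
        IsLocalization.Away.mul_invSelf, mul_one, ← IsScalarTower.algebraMap_apply]
  obtain ⟨f, hf, -, hfm⟩ : ∃ f : A'[X], f.map (algebraMap A' C) = P.f ∧ f.natDegree = P.f.natDegree ∧ f.Monic :=
    Polynomial.lifts_and_natDegree_eq_and_monic (hrange _ Finset.subset_union_left) P.monic_f
  obtain ⟨g, hg⟩ := (Polynomial.mem_lifts _).1 (hrange _ Finset.subset_union_right : P.g ∈ _)
  let Q : StandardEtalePair A' :=
    ⟨f, hfm, g * derivative f, g, 0, 1, by rw [mul_zero, add_zero, pow_one, mul_comm]⟩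
  refine ⟨h, A', inferInstance, inferInstance, σ, inferInstance, inferInstance, htow, Q.Ring, inferInstance,
    inferInstance, inferInstance, hh, ?_⟩
  let Q₁ : StandardEtalePresentation A' Q.Ring :=
    ⟨Q, Q.X, Q.hasMap_X, by simpa [StandardEtalePair.lift_X_left] using Function.bijective_id⟩
  let P₂ := Q₁.baseChange (T := C)
  have key : ∀ (T : Type u) [CommRing T] [Algebra C T] (x : T), P₂.P.HasMap x ↔ P.P.HasMap x := by
    intro T _ _ x
    have h1 : P₂.P.f = P.f := hf
    have h2 : P₂.P.g = P.g * derivative P.f := by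
      change (g * derivative f).map (algebraMap A' C) = _
      rw [Polynomial.map_mul, hg, ← derivative_map, hf]
    constructor
    · rintro ⟨a, b⟩
      rw [h1] at a
      rw [h2, map_mul] at b
      exact ⟨a, isUnit_of_mul_isUnit_left b⟩
    · intro h
      refine ⟨h1 ▸ h.1, ?_⟩
      rw [h2, map_mul]
      exact h.2.mul h.isUnit_derivative_f
  let φ' : C ⊗[A'] Q.Ring →ₐ[C] Localization.Away h :=
    (P₂.P.lift P.x ((key _ _).2 P.hasMap)).comp P₂.equivRing.toAlgHom
  let ψ : Localization.Away h →ₐ[C] C ⊗[A'] Q.Ring :=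
    (P.P.lift P₂.x ((key _ _).1 P₂.hasMap)).comp P.equivRing.toAlgHom
  refine ⟨AlgEquiv.ofAlgHom φ' ψ (P.hom_ext ?_) (P₂.hom_ext ?_)⟩
  · simp [φ', ψ, StandardEtalePair.lift_X]
  · simp [φ', ψ, StandardEtalePair.lift_X]

theorem quotLoc_tensor {R A K : Type u} [CommRing R] [CommRing A] [CommRing K] [Algebra R A] [Algebra R K]
    (h : QuotLoc (algebraMap R K)) : QuotLoc (algebraMap A (A ⊗[R] K)) := by
  have hR : ∀ r : R, (algebraMap A (A ⊗[R] K)) (algebraMap R A r) = (1 : A) ⊗ₜ algebraMap R K r := fun r => by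
    rw [Algebra.TensorProduct.algebraMap_apply, Algebra.algebraMap_self_apply, Algebra.algebraMap_eq_smul_one,
      Algebra.algebraMap_eq_smul_one, smul_tmul]
  intro c
  induction c using TensorProduct.induction_on with
  | zero => exact ⟨1, 0, by rw [map_one]; exact isUnit_one, by simp⟩
  | tmul a q =>
    obtain ⟨σ, r, hu, he⟩ := h q
    refine ⟨algebraMap R A σ, a * algebraMap R A r, ?_, ?_⟩
    · rw [hR]; exact hu.map (Algebra.TensorProduct.includeRight : K →ₐ[R] A ⊗[R] K)
    · rw [map_mul, hR, hR, Algebra.TensorProduct.tmul_mul_tmul, he, mul_one, Algebra.TensorProduct.algebraMap_apply,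
        Algebra.algebraMap_self_apply, Algebra.TensorProduct.tmul_mul_tmul, mul_one, one_mul]
  | add x y hx hy =>
    obtain ⟨σ, a, hu, he⟩ := hx
    obtain ⟨τ, b, hv, hf⟩ := hy
    refine ⟨σ * τ, a * τ + b * σ, by rw [map_mul]; exact hu.mul hv, ?_⟩
    rw [map_add, map_mul, map_mul, map_mul, ← he, ← hf]
    ring

theorem exists_affine_residue {S : Scheme.{u}} (s : S) :
    ∃ (R : CommRingCat.{u}) (jS : Spec R ⟶ S) (_ : IsOpenImmersion jS) (ψ : R ⟶ S.residueField s),
      s ∈ Set.range jS ∧ S.fromSpecResidueField s = Spec.map ψ ≫ jS ∧ QuotLoc ψ.hom := by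
  obtain ⟨U, hU, hs, -⟩ := exists_isAffineOpen_mem_and_subset (x := s) (U := ⊤) trivial
  refine ⟨Γ(S, U), hU.fromSpec, inferInstance, S.presheaf.germ U s hs ≫ S.residue s,
    hU.range_fromSpec.ge hs, ?_, ?_⟩
  · rw [Scheme.fromSpecResidueField, Spec.map_comp, Category.assoc]
    congr 1
    rw [← hU.fromSpecStalk_eq_fromSpecStalk hs]
    rfl
  · intro c
    obtain ⟨y, rfl⟩ := S.residue_surjective s c
    letI := TopCat.Presheaf.algebra_section_stalk S.presheaf (⟨s, hs⟩ : U)
    haveI := hU.isLocalization_stalk ⟨s, hs⟩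
    obtain ⟨⟨a, σ⟩, he⟩ := IsLocalization.surj (hU.primeIdealOf ⟨s, hs⟩).asIdeal.primeCompl y
    exact ⟨σ, a, ((IsLocalization.map_units (S.presheaf.stalk s) σ).map (S.residue s).hom),
      (map_mul (S.residue s).hom y _).symm.trans (congrArg (S.residue s).hom he)⟩

/-- An etale scheme over a fibre is Zariski locally the base change of an etale scheme over the total
space. -/
theorem exists_etale_lift_fiber {X S V : Scheme.{u}} (f : X ⟶ S) (s : S) (g : V ⟶ f.fiber s) [Etale g] (v : V) :
    ∃ (U : Scheme.{u}) (p : U ⟶ X) (_ : Etale p) (W₀ : Scheme.{u}) (j : W₀ ⟶ V) (_ : IsOpenImmersion j)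
      (w₀ : W₀) (a : W₀ ⟶ U), j w₀ = v ∧ IsPullback a (j ≫ g) p (f.fiberι s) := by
  obtain ⟨R, jS, _, ψ, hs, hψ, hql⟩ := exists_affine_residue s
  obtain ⟨A, jX, _, ⟨x₀, hx₀⟩, hAR⟩ := AlgebraicGeometry.Scheme.exists_affine_mem_range_and_range_subset
    (x := f.fiberι s (g v)) (U := f ⁻¹ᵁ jS.opensRange) (by
      show f (f.fiberι s (g v)) ∈ Set.range jS
      rw [← Scheme.Hom.comp_apply, f.fiber_fac s, hψ]
      exact ⟨_, rfl⟩)
  obtain ⟨φ, hφ⟩ := Spec.map_surjective (IsOpenImmersion.lift jS (jX ≫ f) (by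
    rintro _ ⟨z, rfl⟩
    exact hAR ⟨z, rfl⟩))
  have hφf : Spec.map φ ≫ jS = jX ≫ f := by rw [hφ, IsOpenImmersion.lift_fac]
  letI : Algebra R A := φ.hom.toAlgebra
  letI : Algebra R (S.residueField s) := ψ.hom.toAlgebra
  let C := A ⊗[R] S.residueField s
  let iA : A ⟶ CommRingCat.of C := CommRingCat.ofHom (algebraMap A C)
  let iK : S.residueField s ⟶ CommRingCat.of C :=
    CommRingCat.ofHom (Algebra.TensorProduct.includeRight (R := R) (A := A) (B := S.residueField s)).toRingHom
  have hbig : IsPullback (Spec.map iA) (Spec.map iK) (jX ≫ f) (S.fromSpecResidueField s) := by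
    rw [← hφf, hψ]
    exact isPullback_comp_mono (isPullback_SpecMap_of_isPushout _ _ _ _
      (CommRingCat.isPushout_tensorProduct R A (S.residueField s))) jS
  have hfib : IsPullback (f.fiberι s) (f.fiberToSpecResidueField s) f (S.fromSpecResidueField s) :=
    IsPullback.of_hasPullback _ _
  let k : Spec (CommRingCat.of C) ⟶ f.fiber s := hfib.lift (Spec.map iA ≫ jX) (Spec.map iK)
    (by rw [Category.assoc]; exact hbig.w)
  have hk1 : k ≫ f.fiberι s = Spec.map iA ≫ jX := hfib.lift_fst _ _ _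
  have hk : IsPullback (Spec.map iA) k jX (f.fiberι s) :=
    IsPullback.of_bot (by rw [hfib.lift_snd]; exact hbig) hk1.symm hfib
  haveI : IsOpenImmersion k := MorphismProperty.of_isPullback hk inferInstance
  obtain ⟨z₀, -, hz₂⟩ := Scheme.exists_preimage_of_isPullback hk x₀ (g v) hx₀
  obtain ⟨w₁, -, hw₂⟩ := Scheme.Pullback.exists_preimage_pullback (f := k) (g := g) z₀ v hz₂
  obtain ⟨B, jW, _, ⟨b, hb⟩, -⟩ := AlgebraicGeometry.Scheme.exists_affine_mem_range_and_range_subset
    (x := w₁) (U := ⊤) (by simp)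
  obtain ⟨α, hα⟩ := Spec.map_surjective (jW ≫ pullback.fst k g)
  have het : α.hom.Etale := by
    rw [← HasRingHomProperty.Spec_iff (P := @Etale), hα]
    infer_instance
  letI : Algebra C B := α.hom.toAlgebra
  haveI : Algebra.Etale C B := het
  obtain ⟨h, A', _, _, σ, _, _, _, A'', _, _, hA, hh, ⟨eA⟩⟩ :=
    exists_etale_lift_nhd (A := A) (C := C) (B := B) (quotLoc_tensor hql) b.asIdeal
  let jσ : Spec (CommRingCat.of A') ⟶ Spec A := Spec.map (CommRingCat.ofHom (algebraMap A A'))
  haveI : IsOpenImmersion jσ := IsOpenImmersion.of_isLocalization σ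
  haveI : Etale (Spec.map (CommRingCat.ofHom (algebraMap A' A''))) := by
    rw [HasRingHomProperty.Spec_iff (P := @Etale)]
    exact RingHom.etale_algebraMap.2 hA
  let jh : Spec (CommRingCat.of (Localization.Away h)) ⟶ Spec B :=
    Spec.map (CommRingCat.ofHom (algebraMap B (Localization.Away h)))
  haveI : IsOpenImmersion jh := IsOpenImmersion.of_isLocalization h
  obtain ⟨b₀, hb₀⟩ : b ∈ Set.range jh := by
    change b ∈ Set.range (PrimeSpectrum.comap (algebraMap B (Localization.Away h)))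
    rw [PrimeSpectrum.localization_away_comap_range (Localization.Away h) h]
    exact hh
  let eS : Spec (CommRingCat.of (Localization.Away h)) ≅ Spec (CommRingCat.of (C ⊗[A'] A'')) :=
    Scheme.Spec.mapIso eA.toRingEquiv.toCommRingCatIso.op
  let a : Spec (CommRingCat.of (Localization.Away h)) ⟶ Spec (CommRingCat.of A'') :=
    eS.hom ≫ Spec.map (CommRingCat.ofHom
      (Algebra.TensorProduct.includeRight (R := A') (A := C) (B := A'')).toRingHom)
  have hpush : IsPullback a (jh ≫ Spec.map α)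
      (Spec.map (CommRingCat.ofHom (algebraMap A' A''))) (Spec.map (CommRingCat.ofHom (algebraMap A' C))) := by
    refine (isPullback_SpecMap_of_isPushout _ _ _ _
      (CommRingCat.isPushout_tensorProduct A' C A'')).flip.of_iso eS.symm (Iso.refl _)
        (Iso.refl _) (Iso.refl _) ?_ ?_ ?_ ?_
    · simp [a]
    · simp only [Iso.symm_hom, Iso.refl_hom, Category.comp_id, jh]
      rw [show eS.inv = Spec.map (CommRingCat.ofHom eA.symm.toRingEquiv.toRingHom) from rfl,
        ← Spec.map_comp, ← Spec.map_comp]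
      congr 1
      refine CommRingCat.hom_ext (RingHom.ext fun r => ?_)
      exact (eA.symm.commutes r).symm
    · simp
    · simp
  have hq := isPullback_comp_mono hpush jσ
  rw [show Spec.map (CommRingCat.ofHom (algebraMap A' C)) ≫ jσ = Spec.map iA by
    rw [← Spec.map_comp, ← CommRingCat.ofHom_comp, ← IsScalarTower.algebraMap_eq A A' C]] at hq
  haveI : Etale ((Spec.map (CommRingCat.ofHom (algebraMap A' A'')) ≫ jσ) ≫ jX) := inferInstance
  refine ⟨_, (Spec.map (CommRingCat.ofHom (algebraMap A' A'')) ≫ jσ) ≫ jX, inferInstance, _,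
    jh ≫ jW ≫ pullback.snd k g, inferInstance, b₀, a, ?_, ?_⟩
  · rw [Scheme.Hom.comp_apply, hb₀, Scheme.Hom.comp_apply, hb, hw₂]
  · have := hq.paste_vert hk
    rw [hα, Category.assoc, Category.assoc, pullback.condition] at this
    simpa only [Category.assoc] using this

open AlgebraicGeometry CategoryTheory Limits in
/-- Let f : X ⟶ S be a morphism, x a point of X with image s, and (V, v) ⟶ (X_s, x) an étale
neighbourhood of x in its fibre. Then there is an étale neighbourhood (U, u) ⟶ (X, x) whose fibre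
U_s over s admits a morphism of étale neighbourhoods (U_s, u) ⟶ (V, v) over X_s which is an open
immersion. -/
theorem result {X S V : Scheme.{u}} (f : X ⟶ S) (x : X)
    (g : V ⟶ f.fiber (f x)) [Etale g] (v : V) (hv : g v = f.asFiber x) :
    ∃ (U : Scheme.{u}) (p : U ⟶ X) (u : U) (m : (p ≫ f).fiber (f x) ⟶ V) (u' : ↑((p ≫ f).fiber (f x))),
      Etale p ∧ p u = x ∧ IsOpenImmersion m ∧ m ≫ g = MoreMor.fiberMap p f (f x) ∧
      (p ≫ f).fiberι (f x) u' = u ∧ m u' = v := by
  obtain ⟨U, p, hp, W₀, j, _, w₀, a, hj, hsq⟩ := exists_etale_lift_fiber f (f x) g v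
  have hfib : IsPullback (f.fiberι (f x)) (f.fiberToSpecResidueField (f x)) f (S.fromSpecResidueField (f x)) :=
    IsPullback.of_hasPullback _ _
  have hbig := hsq.paste_vert hfib
  have hfib' : IsPullback ((p ≫ f).fiberι (f x)) ((p ≫ f).fiberToSpecResidueField (f x)) (p ≫ f)
      (S.fromSpecResidueField (f x)) := IsPullback.of_hasPullback _ _
  let e := hbig.isoIsPullback _ _ hfib'
  refine ⟨U, p, a w₀, e.inv ≫ j, e.hom w₀, hp, ?_, inferInstance, ?_, ?_, ?_⟩
  · rw [← Scheme.Hom.comp_apply, hsq.w, Scheme.Hom.comp_apply, Scheme.Hom.comp_apply, hj, hv]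
    exact f.fiberι_asFiber x
  · refine hfib.hom_ext ?_ ?_
    · simp only [Category.assoc]
      rw [← Category.assoc j g, ← hsq.w, hbig.isoIsPullback_inv_fst_assoc]
      exact (pullback.lift_fst _ _ _).symm
    · simp only [Category.assoc]
      rw [← Category.assoc j g, hbig.isoIsPullback_inv_snd]
      exact (pullback.lift_snd _ _ _).symm
  · rw [← Scheme.Hom.comp_apply, hbig.isoIsPullback_hom_fst]
  · rw [← Scheme.Hom.comp_apply, e.hom_inv_id_assoc, hj]

end Groth.Agent.S9727
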