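import Groth.Statements.S9728
import Groth.Agent.Lib.LCI6.Koszul
-- import your own Groth.Agent.* helpers here

set_option autoImplicit false
universe u
open FlatMor

namespace Groth.Agent.S9728

open AlgebraicGeometry CategoryTheory Limits in
/-- Given S-schemes U, P, P' with P and P' smooth over S, immersions i : U ⟶ P and i' : U ⟶ P'
compatible with the structure maps to S, and a point u of U, some restriction of i to an open
neighbourhood of u is a Koszul-regular immersion exactly when some restriction of i' to an open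
neighbourhood of u is. -/
theorem result {S U P P' : Scheme.{u}} (q : U ⟶ S)
    (p : P ⟶ S) (p' : P' ⟶ S) [Smooth p] [Smooth p'] (i : U ⟶ P) (i' : U ⟶ P') [IsImmersion i] [IsImmersion i']
    (hi : i ≫ p = q) (hi' : i' ≫ p' = q) (u : U) :
    (∃ V : U.Opens, u ∈ V ∧ RegImm.IsRegularImmersion RegImm.Kind.koszul (V.ι ≫ i)) ↔
      (∃ V : U.Opens, u ∈ V ∧ RegImm.IsRegularImmersion RegImm.Kind.koszul (V.ι ≫ i')) := by
  have key : ∀ {R : Scheme.{u}} (r : R ⟶ S) (_ : Smooth r) (j : U ⟶ R) (_ : IsImmersion j) (_ : j ≫ r = q),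
      (∃ V : U.Opens, u ∈ V ∧ RegImm.IsRegularImmersion RegImm.Kind.koszul (V.ι ≫ j)) ↔
        GrothLib.LCI6.InLocus q u := by
    intro R r _ j _ hj
    subst hj
    rw [GrothLib.LCI6.inLocus_smooth_comp_iff]
    constructor
    · rintro ⟨V, huV, hV⟩
      exact (GrothLib.LCI6.inLocus_openImmersion_comp_iff V.ι j (z := ⟨u, huV⟩)).mp
        ((GrothLib.LCI6.isRegularImmersion_iff_inLocus _).mp hV _)
    · intro h
      refine ⟨⟨_, GrothLib.LCI6.isOpen_inLocus j⟩, h, (GrothLib.LCI6.isRegularImmersion_iff_inLocus _).mpr fun z => ?_⟩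
      exact (GrothLib.LCI6.inLocus_openImmersion_comp_iff _ j).mpr z.2
  exact (key p inferInstance i inferInstance hi).trans (key p' inferInstance i' inferInstance hi').symm

end Groth.Agent.S9728
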