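import Groth.Statements.S9733
import Groth.Agent.Lib.UnivThick.Consequences
-- import your own Groth.Agent.* helpers here

set_option autoImplicit false
universe u
open OmegaSh

namespace Groth.Agent.S9733

open AlgebraicGeometry CategoryTheory Limits in
/-- Let h : Z ⟶ X and f : Z ⟶ W make Z the fibre product of g : X ⟶ Y and a formally unramified h' : W ⟶
Y, and let (j : W ⟶ W', k : W' ⟶ Y) be universal first-order thickening data for h'. Then the map Z
⟶ X ×_Y W' with components h and f ≫ j, together with the first projection X ×_Y W' ⟶ X, is a
universal first-order thickening for h. The published statement also asserts that h is formally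
unramified and that the pullback along f of the conormal sheaf of W relative to Y surjects onto the
conormal sheaf of Z relative to X; this row states neither. -/
theorem result {Z X W Y W' : Scheme.{u}} (h : Z ⟶ X) (f : Z ⟶ W) (g : X ⟶ Y) (h' : W ⟶ Y)
    [FormallyUnramified h'] (hc : IsPullback h f g h') (j : W ⟶ W') (k : W' ⟶ Y) (hu : OmegaSh.IsUnivThickening h' j k) :
    OmegaSh.IsUnivThickening h (pullback.lift h (f ≫ j) (hc.w.trans (congrArg (f ≫ ·) hu.2.1).symm)) (pullback.fst g k) := by
  exact GrothLib.UnivThick.univ_baseChange hc hu _

end Groth.Agent.S9733
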