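import Groth.Statements.S9737
import Groth.Agent.Lib.Approx6.Scheme
-- import your own Groth.Agent.* helpers here

set_option autoImplicit false
universe u
open FlatMor

namespace Groth.Agent.S9737

open AlgebraicGeometry CategoryTheory Limits in
/-- Suppose P and Q are classes of morphisms of schemes preserved by arbitrary pullback, and f : X ⟶ S
is a finitely presented morphism of affine schemes. If f arises by pullback from a finite-type
morphism f₁ : X₁ ⟶ S₁ satisfying P, and also from a finite-type morphism f₂ : X₂ ⟶ S₂ satisfying Q,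
where all four schemes are affine and Γ(S₁), Γ(S₂) are finitely generated ℤ-algebras, then f arises
by pullback from a single finite-type morphism f₀ : X₀ ⟶ S₀ of affine schemes, with Γ(S₀) finitely
generated over ℤ, satisfying both P and Q. -/
theorem result (P Q : MorphismProperty Scheme.{u}) [P.IsStableUnderBaseChange] [Q.IsStableUnderBaseChange]
    {X S : Scheme.{u}} (f : X ⟶ S) [IsAffine X] [IsAffine S] [LocallyOfFinitePresentation f]
    {X₁ S₁ X₂ S₂ : Scheme.{u}} [IsAffine X₁] [IsAffine S₁] [IsAffine X₂] [IsAffine S₂]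
    (f₁ : X₁ ⟶ S₁) (g₁ : S ⟶ S₁) (g₁' : X ⟶ X₁) (h₁ : IsPullback g₁' f f₁ g₁)
    (f₂ : X₂ ⟶ S₂) (g₂ : S ⟶ S₂) (g₂' : X ⟶ X₂) (h₂ : IsPullback g₂' f f₂ g₂)
    (hS₁ : Algebra.FiniteType ℤ Γ(S₁, ⊤)) (hS₂ : Algebra.FiniteType ℤ Γ(S₂, ⊤))
    [LocallyOfFiniteType f₁] [LocallyOfFiniteType f₂] (hP : P f₁) (hQ : Q f₂) :
    ∃ (X₀ S₀ : Scheme.{u}) (f₀ : X₀ ⟶ S₀) (g : S ⟶ S₀) (g' : X ⟶ X₀), IsAffine X₀ ∧ IsAffine S₀ ∧ IsPullback g' f f₀ g ∧
      Algebra.FiniteType ℤ Γ(S₀, ⊤) ∧ LocallyOfFiniteType f₀ ∧ P f₀ ∧ Q f₀ := by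
  exact GrothLib.Approx6.noetherian_approximation_combine P Q f f₁ g₁ g₁' h₁ f₂ g₂ g₂' h₂ hS₁ hS₂ hP hQ

end Groth.Agent.S9737
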