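import Groth.Statements.S9744
import Groth.Agent.Lib.RelFPSch6.Perm
-- import your own Groth.Agent.* helpers here

set_option autoImplicit false
universe u
open Flatn

namespace Groth.Agent.S9744

open AlgebraicGeometry CategoryTheory Limits in
/-- Let f : X ⟶ S be locally of finite type and F a quasi-coherent O_X-module of finite presentation
relative to S. For a base change f' : X' ⟶ S' of f along S' ⟶ S with projection g' : X' ⟶ X, the
pullback (g')^*F is of finite presentation relative to S'. -/
theorem result {X S X' S' : Scheme.{u}} (f : X ⟶ S) [LocallyOfFiniteType f] (F : X.Modules) [Coh.IsQCoh F]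
    (g : S' ⟶ S) (f' : X' ⟶ S') (g' : X' ⟶ X) (hc : IsPullback g' f' f g) (hF : Flatn.IsRelFP f F) :
    Flatn.IsRelFP f' ((Scheme.Modules.pullback g').obj F) := by
  exact GrothLib.RelFPSch6.baseChange_sch f F g f' g' hc hF

end Groth.Agent.S9744
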