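import Groth.Statements.S9745
import Groth.Agent.Lib.RelFPSch6.Perm
-- import your own Groth.Agent.* helpers here

set_option autoImplicit false
universe u
open Flatn

namespace Groth.Agent.S9745

open AlgebraicGeometry CategoryTheory Limits in
/-- Let f : X ⟶ Y be locally of finite presentation and g : Y ⟶ S locally of finite type, and let G be a
quasi-coherent O_Y-module that is finitely presented relative to S. Then the pullback f^*G is
finitely presented relative to S along f ≫ g. -/
theorem result {X Y S : Scheme.{u}} (f : X ⟶ Y) (g : Y ⟶ S) [LocallyOfFinitePresentation f] [LocallyOfFiniteType g]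
    (G : Y.Modules) [Coh.IsQCoh G] (hG : Flatn.IsRelFP g G) : Flatn.IsRelFP (f ≫ g) ((Scheme.Modules.pullback f).obj G) := by
  exact GrothLib.RelFPSch6.pullback_lfp f g G hG

end Groth.Agent.S9745
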