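import Groth.Statements.S9746
import Groth.Agent.Lib.RelFPSch6.Perm
-- import your own Groth.Agent.* helpers here

set_option autoImplicit false
universe u
open Flatn

namespace Groth.Agent.S9746

open AlgebraicGeometry CategoryTheory Limits in
/-- Let f : X ⟶ Y be locally of finite type, g : Y ⟶ S locally of finite presentation, and F a
quasi-coherent O_X-module that is finitely presented relative to Y. Then F, viewed over S through
the composite f ≫ g, is finitely presented relative to S. -/
theorem result {X Y S : Scheme.{u}} (f : X ⟶ Y) (g : Y ⟶ S) [LocallyOfFiniteType f] [LocallyOfFinitePresentation g]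
    (F : X.Modules) [Coh.IsQCoh F] (hF : Flatn.IsRelFP f F) : Flatn.IsRelFP (f ≫ g) F := by
  exact GrothLib.RelFPSch6.comp_lfp f g F hF

end Groth.Agent.S9746
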