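import Groth.Statements.S9749
import Groth.Agent.Lib.RelFPSch6.Perm
-- import your own Groth.Agent.* helpers here

set_option autoImplicit false
universe u
open Flatn

namespace Groth.Agent.S9749

open AlgebraicGeometry CategoryTheory Limits in
/-- For f : X ⟶ S locally of finite type and quasi-coherent O_X-modules F, F', relative finite
presentation over S of the biproduct F ⊞ F' implies the same property for each summand. -/
theorem result {X S : Scheme.{u}} (f : X ⟶ S) [LocallyOfFiniteType f] (F F' : X.Modules) [Coh.IsQCoh F] [Coh.IsQCoh F']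
    (h : Flatn.IsRelFP f (F ⊞ F')) : Flatn.IsRelFP f F ∧ Flatn.IsRelFP f F' := by
  haveI := GrothLib.QCoh.isQuasicoherent_X₂ (S := CategoryTheory.ShortComplex.mk (biprod.inl : F ⟶ F ⊞ F') biprod.snd (by simp))
    (CategoryTheory.ShortComplex.Splitting.ofHasBinaryBiproduct F F').shortExact
  exact ⟨GrothLib.RelFPSch6.summand f biprod.inr biprod.fst biprod.snd biprod.inl biprod.inr_snd
      biprod.inl_fst biprod.inr_fst (by rw [add_comm]; exact biprod.total) h,
    GrothLib.RelFPSch6.summand f biprod.inl biprod.snd biprod.fst biprod.inr biprod.inl_fst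
      biprod.inr_snd biprod.inl_snd biprod.total h⟩

end Groth.Agent.S9749
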