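import Groth.Statements.S9750
import Groth.Agent.Lib.RLpsi8.SelfThick

set_option autoImplicit false
universe u
open FlatMor

namespace Groth.Agent.S9750

open AlgebraicGeometry CategoryTheory Limits in
/-- (1) ⇔ (2) ⇔ (3): a morphism f : X ⟶ S is formally étale (unique infinitesimal lifting against
square-zero thickenings of affine schemes) if and only if f is formally unramified and X, through
the identity and f, is its own universal square-zero (first order) thickening relative to f; and,
for f formally unramified with universal first order thickening data (i : X ⟶ X', h' : X' ⟶ S), f is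
formally étale if and only if the conormal sheaf of i (the conormal sheaf of f) is zero. The
published statement also lists a fourth equivalent condition, the vanishing of both the sheaf of
differentials and the conormal sheaf; this row omits it. -/
theorem result {X S : Scheme.{u}} (f : X ⟶ S) :
    (MoreMor.IsFormallyEtaleHom f ↔ FormallyUnramified f ∧ OmegaSh.IsUnivThickening f (𝟙 X) f) ∧
    (∀ {X' : Scheme.{u}} (i : X ⟶ X') (h' : X' ⟶ S) [QuasiCompact i], FormallyUnramified f →
      OmegaSh.IsUnivThickening f i h' → (MoreMor.IsFormallyEtaleHom f ↔ IsZero (Omega.conormal i))) := by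
  refine ⟨⟨fun hf => ⟨GrothLib.RLpsi8.SelfThick.unramified_of_etale hf, GrothLib.RLpsi8.SelfThick.univ_id_of_etale hf⟩,
    fun h => GrothLib.RLpsi8.SelfThick.etale_of_univ_id h.2⟩, ?_⟩
  intro X' i h' _ _ hu
  constructor
  · intro hf
    haveI := GrothLib.RLpsi8.SelfThick.isIso_of_univ hf hu
    exact GrothLib.RLpsi8.SelfThick.isZero_conormal_of_isIso i
  · intro hz
    haveI := GrothLib.RLpsi8.SelfThick.isIso_of_isZero_conormal hu.1 hz
    exact GrothLib.RLpsi8.SelfThick.etale_of_univ_id (GrothLib.RLpsi8.SelfThick.univ_id_of_isIso hu)

end Groth.Agent.S9750
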