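import Groth.Statements.S9755
import Groth.Agent.Lib.BrnchNhd.Fibre

set_option autoImplicit false
set_option backward.isDefEq.respectTransparency false
universe u
open Brnch

namespace Groth.Agent.S9755

open AlgebraicGeometry CategoryTheory Limits in
/-- For f : X ⟶ S and x ∈ X lying over s, the branch number of the fibre X_s at x equals the supremum,
over elementary étale neighbourhoods (U, u) of (X, x) (étale, u ↦ x, trivial residue field
extension), of how many irreducible components of U_s contain the point of U_s above u. -/
theorem result {X S : Scheme.{u}} (f : X ⟶ S) (x : X) :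
    Brnch.numBranchesAt (f.fiber (f x)) (f.asFiber x) = ⨆ (U : Scheme.{u}) (g : U ⟶ X) (u : U) (_ : Hens2.IsEtaleNbhd g u x),
      {Z : Set ↑((g ≫ f).fiber (f x)) | Z ∈ irreducibleComponents ↑((g ≫ f).fiber (f x)) ∧
        ∃ u' ∈ Z, (g ≫ f).fiberι (f x) u' = u}.encard := GrothLib.BrnchNhd.numBranchesAt_fibre_eq f x

end Groth.Agent.S9755
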