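import Groth.Statements.S9756
import Groth.Agent.S1348
import Groth.Agent.Lib.FibreFlat.Stalk
import Groth.Agent.Lib.Depth.Basic
-- import your own Groth.Agent.* helpers here

set_option autoImplicit false
universe u
open FlatMor

namespace Groth.Agent.S9756

open AlgebraicGeometry CategoryTheory Limits in
/-- Let f : X ⟶ S be locally of finite presentation and flat at a point x, and assume the local ring of
the fibre X_{f x} at x has depth at least 1. Then there are an affine open U ∋ x and a
nonzerodivisor h' of Γ(X, U) vanishing at x such that the closed subscheme V(h') of U, an effective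
Cartier divisor through x, is flat and locally of finite presentation over S. The published
statement concludes that V(h') ⟶ S is of finite presentation; this row concludes only that it is
flat and locally of finite presentation, which is what the published argument (slicing by a lift of
a fibrewise nonzerodivisor) yields, and which is equivalent when S is quasi-separated, V(h') being
affine. -/
theorem result {X S : Scheme.{u}} (f : X ⟶ S) [LocallyOfFinitePresentation f] (x : X)
    (hflat : (f.stalkMap x).hom.Flat)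
    (hdepth : 1 ≤ LocCoh.depth ↑((f.fiber (f x)).presheaf.stalk (f.asFiber x)) ↑((f.fiber (f x)).presheaf.stalk (f.asFiber x))) :
    ∃ (U : X.Opens) (hU : IsAffineOpen U) (hx : x ∈ U) (h' : Γ(X, U)), h' ∈ nonZeroDivisors Γ(X, U) ∧
      X.presheaf.germ U x hx h' ∈ IsLocalRing.maximalIdeal ↑(X.presheaf.stalk x) ∧
      Flat (Spec.map (CommRingCat.ofHom (Ideal.Quotient.mk (Ideal.span {h'}))) ≫ hU.fromSpec ≫ f) ∧
      LocallyOfFinitePresentation (Spec.map (CommRingCat.ofHom (Ideal.Quotient.mk (Ideal.span {h'}))) ≫ hU.fromSpec ≫ f) := by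
  let P := X.presheaf.stalk x
  let F := (f.fiber (f x)).presheaf.stalk (f.asFiber x)
  obtain ⟨hsurj, hker⟩ := GrothLib.FibreFlat.fiberι_stalkMap' f (f x) (f.asFiber x) x (f.fiberι_asFiber x)
  let φ : P →+* F := ((X.presheaf.stalkCongr (.of_eq (f.fiberι_asFiber x).symm)).hom ≫
    (f.fiberι (f x)).stalkMap (f.asFiber x)).hom
  have hne : IsLocalRing.maximalIdeal F • (⊤ : Submodule F F) ≠ ⊤ := by
    rw [Ideal.smul_eq_mul, Ideal.mul_top]
    exact (IsLocalRing.maximalIdeal.isMaximal F).ne_top
  obtain ⟨rs, hlen, hmem, hreg⟩ := (GrothLib.Depth.le_idealDepth_iff_exists _ hne 1).1 (by exact_mod_cast hdepth)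
  obtain ⟨r, rfl⟩ := List.length_eq_one_iff.1 hlen
  rw [RingTheory.Sequence.isWeaklyRegular_cons_iff] at hreg
  have hrm := hmem r List.mem_cons_self
  obtain ⟨h, rfl⟩ := hsurj r
  have hm : h ∈ IsLocalRing.maximalIdeal P := by
    rw [IsLocalRing.mem_maximalIdeal, mem_nonunits_iff] at hrm ⊢
    exact fun hu => hrm (hu.map φ)
  let J := Ideal.map (f.stalkMap x).hom (IsLocalRing.maximalIdeal (S.presheaf.stalk (f x)))
  let e : P ⧸ J ≃+* F :=
    (Ideal.quotEquivOfEq hker.symm).trans (RingHom.quotientKerEquivOfSurjective (f := φ) hsurj)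
  have he : e (Ideal.Quotient.mk J h) = φ h := rfl
  have hreg' : Ideal.Quotient.mk J h ∈ nonZeroDivisors (P ⧸ J) := by
    refine mem_nonZeroDivisors_iff_right.2 fun z hz => e.injective ?_
    rw [map_zero]
    refine hreg.1 ?_
    show φ h • e z = φ h • (0 : F)
    rw [smul_zero, smul_eq_mul, ← he, ← map_mul, mul_comm, hz, map_zero]
  obtain ⟨U, hU, hx, h', hg, hnz, hfl, hfp⟩ := Groth.Agent.S1348.result f x hflat h hm hreg'
  exact ⟨U, hU, hx, h', hnz, hg ▸ hm, hfl, hfp⟩

end Groth.Agent.S9756
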