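import Groth.Statements.S9762
import Groth.Agent.Lib.Weight.FiniteIsolated
-- import your own Groth.Agent.* helpers here

set_option autoImplicit false
universe u
open FlatMor

namespace Groth.Agent.S9762

open AlgebraicGeometry CategoryTheory Limits in
/-- For f : X ⟶ S separated and locally of finite type, and a point s of S such that only finitely many
points of the fibre over s are isolated, some elementary étale neighbourhood (U, u) of (S, s) admits
an open and closed V ⊆ U ×_S X, finite over U, such that no point of the fibre over u lying outside
V is isolated in that fibre. The published statement also asserts that the complement of V has empty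
fibre over u when the fibre over s is finite; this row omits that clause. -/
theorem result {X S : Scheme.{u}} (f : X ⟶ S) [LocallyOfFiniteType f] [IsSeparated f] (s : S)
    (hfin : {x : ↑(f.fiber s) | IsOpen ({x} : Set ↑(f.fiber s))}.Finite) :
    ∃ (U : Scheme.{u}) (g : U ⟶ S) (u : U), Hens2.IsEtaleNbhd g u s ∧
      ∃ V : (pullback f g).Opens, IsClopen (V : Set ↑(pullback f g)) ∧ IsFinite (V.ι ≫ pullback.snd f g) ∧
        ∀ w : ↑((pullback.snd f g).fiber u), (pullback.snd f g).fiberι u w ∉ V →
          ¬ IsOpen ({w} : Set ↑((pullback.snd f g).fiber u)) := by
  exact GrothLib.Weight.exists_finite_isolated_part f s hfin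

end Groth.Agent.S9762
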