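import Groth.Statements.S9766
import Groth.Agent.Lib.CMMor6.Mor
-- import your own Groth.Agent.* helpers here

set_option autoImplicit false
universe u
open FlatMor

namespace Groth.Agent.S9766

open AlgebraicGeometry CategoryTheory Limits in
/-- For morphisms f : X ⟶ Y, g : Y ⟶ Z and a point x of X whose fibre under f ≫ g is locally Noetherian,
Cohen–Macaulayness of f at x (flat at x with Cohen–Macaulay local ring of the fibre at x) together
with that of g at f x implies that f ≫ g is Cohen–Macaulay at x. The published statement assumes all
fibres of f, g and g ∘ f locally Noetherian; this row assumes only that the fibre of f ≫ g through x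
is, which is all the argument uses. -/
theorem result {X Y Z : Scheme.{u}} (f : X ⟶ Y) (g : Y ⟶ Z) (x : X)
    (hN : IsLocallyNoetherian ((f ≫ g).fiber (g (f x))))
    (hf : MoreMor.IsCMAt f x) (hg : MoreMor.IsCMAt g (f x)) : MoreMor.IsCMAt (f ≫ g) x := by
    exact GrothLib.CMMor6.isCMAt_comp f g x hN hf hg

end Groth.Agent.S9766
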