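import Groth.Statements.S9769
import Groth.Agent.Lib.CritMod6.Main
-- import your own Groth.Agent.* helpers here

set_option autoImplicit false
universe u
open FlatMor

namespace Groth.Agent.S9769

open AlgebraicGeometry CategoryTheory Limits in
/-- Let f : X ⟶ S be locally of finite presentation and F a finitely presented O_X-module which is flat
over S. Then the formation of the locus of points of X near which F is free (equivalently, for
finitely presented F, where the stalk of F is a free module) commutes with arbitrary base change:
for a cartesian square with g' : X' ⟶ X over S' ⟶ S, the free locus of (g')^*F is the preimage of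
that of F. The published statement also asserts that this locus is open; this row states only that
its formation commutes with base change. -/
theorem result {X S X' S' : Scheme.{u}} (f : X ⟶ S) [LocallyOfFinitePresentation f]
    (F : X.Modules) (hF : CohB1.IsFP F) (hfl : FlatMod.IsFlatOver f F)
    (g : S' ⟶ S) (f' : X' ⟶ S') (g' : X' ⟶ X) (hc : IsPullback g' f' f g) :
    {x' : ↑X' | Module.Free ↑(X'.presheaf.stalk x') ↑(((Scheme.Modules.pullback g').obj F).presheaf.stalk x')} =
      g' ⁻¹' {x : ↑X | Module.Free ↑(X.presheaf.stalk x) ↑(F.presheaf.stalk x)} := by
    haveI : F.IsFinitePresentation := hF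
    haveI : F.IsQuasicoherent := inferInstance
    haveI : LocallyOfFinitePresentation (𝟙 X ≫ f) := by rw [Category.id_comp]; infer_instance
    haveI := GrothLib.FittSheaf.isQuasicoherent_pullback g' F
    ext x'
    show Module.Free _ _ ↔ Module.Free _ _
    rw [← GrothLib.CritMod6.isFlatOverAt_id_iff_free _ (GrothLib.FittSheaf.isFP_pullback g' F hF) x',
      ← GrothLib.CritMod6.isFlatOverAt_id_iff_free F hF (g' x')]
    exact GrothLib.CritMod6.isFlatOverAt_baseChange_iff (𝟙 X) f F hF g g' f' hc g' (𝟙 X')
      (by rw [Category.id_comp, Category.id_comp]; exact hc) (by simp) x'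
      ((GrothLib.FunFlat6.isFlatOverAt_congr_map (Category.id_comp f).symm F _).mp (hfl _))

end Groth.Agent.S9769
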