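import Groth.Statements.S9774
import Groth.Agent.Lib.LCI6.PerfectCancel
-- import your own Groth.Agent.* helpers here

set_option autoImplicit false
universe u
attribute [local instance] HasDerivedCategory.standard
open FlatMor

namespace Groth.Agent.S9774

open AlgebraicGeometry CategoryTheory Limits in
/-- Let S be a locally Noetherian scheme, g : Y ⟶ S locally of finite type, f : X ⟶ Y a perfect morphism
(perfect ring maps on all pairs of affine opens), and assume the composite f ≫ g is Koszul at every
point of X (a local complete intersection morphism). Then f is Koszul at every point of X, and g is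
Koszul at the point f x for each x ∈ X. -/
theorem result {X Y S : Scheme.{u}} (f : X ⟶ Y) (g : Y ⟶ S) [IsLocallyNoetherian S] [LocallyOfFiniteType g]
    (hf : MoreMor.IsPerfectMor f) (h : ∀ x : X, Synt.IsKoszulAt (f ≫ g) x) :
    (∀ x : X, Synt.IsKoszulAt f x) ∧ ∀ x : X, Synt.IsKoszulAt g (f x) := by
  have key := fun x => GrothLib.LCI6.inLocus_of_perfect_comp f g hf
    ((GrothLib.LCI6.isKoszulAt_iff_inLocus (f ≫ g) x).mp (h x))
  exact ⟨fun x => (GrothLib.LCI6.isKoszulAt_iff_inLocus f x).mpr (key x).1,
    fun x => (GrothLib.LCI6.isKoszulAt_iff_inLocus g (f x)).mpr (key x).2⟩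

end Groth.Agent.S9774
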