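import Groth.Statements.S9775
import Groth.Agent.Lib.LCI6.RegularTarget
import Groth.Agent.Lib.LCI6.InLocus
import Groth.Agent.Lib.LCI6.Koszul
-- import your own Groth.Agent.* helpers here

set_option autoImplicit false
universe u
open FlatMor

namespace Groth.Agent.S9775

open AlgebraicGeometry CategoryTheory Limits in
/-- Let S be a locally Noetherian scheme, g : Y ⟶ S locally of finite type with Y regular (all local
rings regular), f : X ⟶ Y a morphism, and assume the composite f ≫ g is Koszul at every point of X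
(a local complete intersection morphism). Then f is Koszul at every point of X, and g is Koszul at
the point f x for each x ∈ X. -/
theorem result {X Y S : Scheme.{u}} (f : X ⟶ Y) (g : Y ⟶ S) [IsLocallyNoetherian S] [LocallyOfFiniteType g]
    (hY : Models.IsRegularScheme Y) (h : ∀ x : X, Synt.IsKoszulAt (f ≫ g) x) :
    (∀ x : X, Synt.IsKoszulAt f x) ∧ ∀ x : X, Synt.IsKoszulAt g (f x) := by
    rw [GrothLib.LCI6.inLocus_iff_of_isKoszul] at h
    simp only [GrothLib.LCI6.isKoszulAt_iff_inLocus]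
    haveI : IsLocallyNoetherian Y := LocallyOfFiniteType.isLocallyNoetherian g
    suffices H : ∀ x : X, GrothLib.LCI6.InLocus f x ∧ GrothLib.LCI6.InLocus g (f x) from
      ⟨fun x => (H x).1, fun x => (H x).2⟩
    intro x
    obtain ⟨W, hW, hz, -⟩ := GrothLib.LCI6.exists_affine_le (x := g (f x)) (O := (⊤ : S.Opens)) trivial
    obtain ⟨V, hV, hy, hVW⟩ := GrothLib.LCI6.exists_affine_le (x := f x) (O := g ⁻¹ᵁ W) hz
    obtain ⟨U, hU, hx, hUV⟩ := GrothLib.LCI6.exists_affine_le (x := x) (O := f ⁻¹ᵁ V) hy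
    have hUW : U ≤ (f ≫ g) ⁻¹ᵁ W := fun z hz => hVW (hUV hz)
    letI := (g.appLE W V hVW).hom.toAlgebra
    letI := (f.appLE V U hUV).hom.toAlgebra
    letI : Algebra Γ(S, W) Γ(X, U) := ((f ≫ g).appLE W U hUW).hom.toAlgebra
    haveI : IsScalarTower Γ(S, W) Γ(Y, V) Γ(X, U) := IsScalarTower.of_algebraMap_eq' (by
      show _ = (f.appLE V U hUV).hom.comp (g.appLE W V hVW).hom
      rw [← CommRingCat.hom_comp, Scheme.Hom.appLE_comp_appLE]
      rfl)
    haveI : IsNoetherianRing Γ(S, W) := IsLocallyNoetherian.component_noetherian ⟨W, hW⟩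
    haveI : IsNoetherianRing Γ(Y, V) := IsLocallyNoetherian.component_noetherian ⟨V, hV⟩
    haveI : IsRegularRing Γ(Y, V) := isRegularRing_iff.mpr fun p hp => by
      have hmem : hV.fromSpec ⟨p, hp⟩ ∈ V := by
        rw [← SetLike.mem_coe, ← hV.range_fromSpec]; exact ⟨_, rfl⟩
      letI := TopCat.Presheaf.algebra_section_stalk Y.presheaf ⟨hV.fromSpec ⟨p, hp⟩, hmem⟩
      haveI : IsLocalization.AtPrime (Y.presheaf.stalk (hV.fromSpec ⟨p, hp⟩)) p :=
        hV.isLocalization_stalk' ⟨p, hp⟩ hmem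
      haveI := hY (hV.fromSpec ⟨p, hp⟩)
      exact IsRegularLocalRing.of_ringEquiv (IsLocalization.algEquiv p.primeCompl
        (Y.presheaf.stalk (hV.fromSpec ⟨p, hp⟩)) (Localization.AtPrime p)).toRingEquiv
    have hAC : LCI.IsLCI Γ(S, W) Γ(X, U) := GrothLib.LCI6.isLCI_of_forall_inLocus (f ≫ g) h U W hU hW hUW
    haveI : Algebra.FiniteType Γ(S, W) Γ(Y, V) := g.finiteType_appLE hW hV hVW
    haveI := hAC.1
    haveI : Algebra.FiniteType Γ(Y, V) Γ(X, U) :=
      Algebra.FiniteType.of_restrictScalars_finiteType Γ(S, W) Γ(Y, V) Γ(X, U)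
    obtain ⟨n, α, hα⟩ := Algebra.FiniteType.iff_quotient_mvPolynomial''.mp
      (inferInstance : Algebra.FiniteType Γ(S, W) Γ(Y, V))
    obtain ⟨m, β, hβ⟩ := Algebra.FiniteType.iff_quotient_mvPolynomial''.mp
      (inferInstance : Algebra.FiniteType Γ(Y, V) Γ(X, U))
    obtain ⟨h1, h2⟩ := GrothLib.LCI6.kRegAt_of_regular_middle hAC α hα β hβ (hU.primeIdealOf ⟨x, hx⟩).asIdeal
    refine ⟨(GrothLib.LCI6.inLocus_iff f hU hV hUV hx rfl β hβ).mpr h2,
      (GrothLib.LCI6.inLocus_iff g hV hW hVW (hUV hx) rfl α hα).mpr ?_⟩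
    have e := congrArg PrimeSpectrum.asIdeal (IsAffineOpen.comap_primeIdealOf_appLE V hV U hU hUV hx)
    rw [← e]
    exact h1

end Groth.Agent.S9775
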