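import Groth.Statements.S9779
import Groth.Agent.S1411
import Groth.Agent.Lib.LocNoeth.Scheme
-- import your own Groth.Agent.* helpers here

set_option autoImplicit false
universe u
open FlatMor

namespace Groth.Agent.S9779

open AlgebraicGeometry CategoryTheory Limits in
/-- Suppose S is locally Noetherian and the morphism f : X ⟶ S is locally of finite type; take x a point
of X closed in its fibre, and U ⊆ X an open subscheme not meeting the fibre through x but with x in
the closure of U. Then there is a closed subscheme Z of X passing through x such that Z ⟶ S is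
quasi-finite at x and Z contains a point z of U specializing to x with f z ≠ f x. -/
theorem result {X S : Scheme.{u}} (f : X ⟶ S) [LocallyOfFiniteType f] [IsLocallyNoetherian S] (x : X)
    (hcl : IsClosed (Subtype.val ⁻¹' {x} : Set ↑(f ⁻¹' {f x}))) (U : X.Opens)
    (hU : ∀ x' ∈ U, f x' ≠ f x) (hxU : x ∈ closure (U : Set ↑X)) :
    ∃ (I : X.IdealSheafData) (z₀ x₀ : ↑I.subscheme), I.subschemeι x₀ = x ∧ (I.subschemeι ≫ f).QuasiFiniteAt x₀ ∧
      I.subschemeι z₀ ∈ U ∧ I.subschemeι z₀ ⤳ x ∧ f (I.subschemeι z₀) ≠ f x := by
  haveI : IsLocallyNoetherian X := LocallyOfFiniteType.isLocallyNoetherian f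
  obtain ⟨u, hu⟩ := GrothLib.LocNoeth.exists_specializes_of_mem_closure_range U.ι
    (show x ∈ closure (Set.range U.ι) by rwa [Scheme.Opens.range_ι])
  exact Groth.Agent.S1411.result f x hcl U ⟨U.ι u, u.2, hu, hU _ u.2⟩

end Groth.Agent.S9779
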