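import Groth.Statements.S9780
import Groth.Agent.Lib.FibModLocus10.FieldExt
import Groth.Agent.Lib.RankStratum9.Basic

set_option autoImplicit false
universe u
open FlatMor

namespace Groth.Agent.S9780

open AlgebraicGeometry CategoryTheory Limits in
/-- Let f : X ⟶ S be locally of finite type, F a quasi-coherent O_X-module of finite type and U ⊆ X an
open subscheme. For a base change f' : X' ⟶ S' of f along S' ⟶ S with projection g' : X' ⟶ X, F' =
(g')^*F and U' = (g')⁻¹(U), and a point s' of S' with image s: the associated points of F on the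
fibre X_s lie in U if and only if the associated points of F' on the fibre X'_{s'} lie in U'. -/
theorem result {X S X' S' : Scheme.{u}} (f : X ⟶ S) [LocallyOfFiniteType f] (F : X.Modules) [Coh.IsQCoh F]
    (hF : CohB1.IsFT F) (U : X.Opens) (g : S' ⟶ S) (f' : X' ⟶ S') (g' : X' ⟶ X) (hc : IsPullback g' f' f g) (s' : S') :
    {x : ↑X | x ∈ MoreMor.relAss f F ∧ f x = g s'} ⊆ (U : Set ↑X) ↔
      {x' : ↑X' | x' ∈ MoreMor.relAss f' ((Scheme.Modules.pullback g').obj F) ∧ f' x' = s'} ⊆ (g' ⁻¹ᵁ U : Set ↑X') := by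
  obtain ⟨i, hi₁, hi⟩ := GrothLib.FibreBC.exists_isPullback_fiber hc s'
  let u := f.fiberToSpecResidueField (g s')
  let u' := f'.fiberToSpecResidueField s'
  haveI : LocallyOfFiniteType u := MorphismProperty.pullback_snd _ _ ‹LocallyOfFiniteType f›
  haveI : LocallyOfFiniteType f' := MorphismProperty.of_isPullback hc ‹LocallyOfFiniteType f›
  haveI : LocallyOfFiniteType u' := MorphismProperty.pullback_snd _ _ ‹LocallyOfFiniteType f'›
  haveI : IsLocallyNoetherian (f.fiber (g s')) := LocallyOfFiniteType.isLocallyNoetherian u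
  haveI : IsLocallyNoetherian (f'.fiber s') := LocallyOfFiniteType.isLocallyNoetherian u'
  let φ := (g.residueFieldMap s').hom
  haveI : Flat (Spec.map (CommRingCat.ofHom φ)) := by
    letI := φ.toAlgebra
    exact Flat.SpecMap_iff.2 (RingHom.flat_algebraMap_iff.2
      (inferInstance : Module.Flat (S.residueField (g s')) (S'.residueField s')))
  haveI : Flat i := MorphismProperty.of_isPullback hi.flip inferInstance
  haveI : Surjective (Spec.map (CommRingCat.ofHom φ)) :=
    ⟨fun p => ⟨(default : PrimeSpectrum (S'.residueField s')), Subsingleton.elim (α := PrimeSpectrum (S.residueField (g s'))) _ _⟩⟩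
  haveI : Surjective i := MorphismProperty.of_isPullback hi.flip inferInstance
  haveI : F.IsQuasicoherent := ‹Coh.IsQCoh F›
  let G := (Scheme.Modules.pullback (f.fiberι (g s'))).obj F
  haveI : G.IsQuasicoherent := GrothLib.FittSheaf.isQuasicoherent_pullback _ F
  have hGc : Coh.IsCoh G := ⟨inferInstance, GrothLib.RankStratum9.isFT_pullback _ F hF⟩
  let O := Coh.structureModule (f'.fiber s')
  have hO : Coh.IsCoh O := GrothLib.Euler.isCoh_of_isInvertible GrothLib.Euler.isInvertible_structure
  have hflat : FlatMod.IsFlatOver i O := fun z => GrothLib.AssPts.isFlatOverAt_structure i z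
  let e' : (Scheme.Modules.pullback i).obj G ≅
      (Scheme.Modules.pullback (f'.fiberι s')).obj ((Scheme.Modules.pullback g').obj F) :=
    (Scheme.Modules.pullbackComp i (f.fiberι (g s'))).app F ≪≫ (Scheme.Modules.pullbackCongr hi₁).app F ≪≫
      ((Scheme.Modules.pullbackComp (f'.fiberι s') g').app F).symm
  have he : AssSch.Ass (GrothLib.AssTensor3.pullTensor i G O) =
      AssSch.Ass ((Scheme.Modules.pullback (f'.fiberι s')).obj ((Scheme.Modules.pullback g').obj F)) :=
    (GrothLib.AssPts.ass_congr (GrothLib.Euler.tFUnitIso ((Scheme.Modules.pullback i).obj G))).trans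
      (GrothLib.AssPts.ass_congr e')
  have hT : ∀ w, f'.fiberι s' w ∈ MoreMor.relAss f' ((Scheme.Modules.pullback g').obj F) ↔
      w ∈ AssSch.Ass (GrothLib.AssTensor3.pullTensor i G O) := fun w => by
    rw [he]
    exact (GrothLib.AssTensor3.fibre_transport f' _ s' w).1.symm
  have hB : ∀ v, f.fiberι (g s') v ∈ MoreMor.relAss f F ↔ v ∈ AssSch.Ass G := fun v =>
    (GrothLib.AssTensor3.fibre_transport f F (g s') v).1.symm
  have hsq : ∀ w, g' (f'.fiberι s' w) = f.fiberι (g s') (i w) := fun w => by
    rw [← Scheme.Hom.comp_apply, ← hi₁]; rfl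
  constructor
  · rintro h x' ⟨hx', hfx'⟩
    obtain ⟨w, rfl⟩ : x' ∈ Set.range (f'.fiberι s') := (f'.range_fiberι s').symm ▸ hfx'
    have h1 := ((GrothLib.AssTensor3.ass_tensor_iff hflat w).1 ((hT w).1 hx')).1
    show g' (f'.fiberι s' w) ∈ U
    rw [hsq]
    exact h ⟨(hB _).2 h1, GrothLib.FibreFlat.fiberι_comp_apply f (g s') (i w)⟩
  · rintro h x ⟨hx, hfx⟩
    obtain ⟨v, rfl⟩ : x ∈ Set.range (f.fiberι (g s')) := (f.range_fiberι (g s')).symm ▸ hfx
    obtain ⟨z, hz⟩ := i.surjective v
    have hsupp : z ∈ CohB1.support O := by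
      obtain ⟨ε⟩ := GrothLib.AssPts.exists_stalk_unit_equiv z
      exact fun hs => not_subsingleton ((f'.fiber s').presheaf.stalk z) (ε.toEquiv.subsingleton)
    obtain ⟨w, hw, -, hiw⟩ := GrothLib.AssTensor3.exists_ass_tensor_over (E := G) (F := O) hGc hO hflat hsupp
      ((hB v).1 hx) (hz ▸ specializes_rfl)
    have h1 := h ⟨(hT w).2 hw, GrothLib.FibreFlat.fiberι_comp_apply f' s' w⟩
    change g' (f'.fiberι s' w) ∈ U at h1
    rw [hsq, hiw] at h1
    exact h1

end Groth.Agent.S9780
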