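import Groth.Statements.S9782
import Groth.Agent.Lib.BrnchNhd.Main

set_option autoImplicit false
set_option backward.isDefEq.respectTransparency false
universe u
open Brnch

namespace Groth.Agent.S9782

open AlgebraicGeometry CategoryTheory Limits in
/-- The local ring of X at x is geometrically unibranch exactly when, for each étale morphism g : U ⟶ X
and each point u over x, the point u lies on a single irreducible component of U. -/
theorem result (X : Scheme.{u}) (x : X) :
    CAlg2.IsGeomUnibranch ↑(X.presheaf.stalk x) ↔ ∀ (U : Scheme.{u}) (g : U ⟶ X) (u : U), Etale g → g u = x →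
      {Z : Set ↑U | Z ∈ irreducibleComponents ↑U ∧ u ∈ Z}.encard = 1 := GrothLib.BrnchNhd.isGeomUnibranch_stalk_iff x

end Groth.Agent.S9782
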