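import Groth.Statements.S9784
import Groth.Agent.Lib.ThickOmega4.TransExact
-- import your own Groth.Agent.* helpers here

set_option autoImplicit false
universe u
open OmegaSh

namespace Groth.Agent.S9784

open AlgebraicGeometry CategoryTheory Limits in
/-- Let i : Z ⟶ Y and b : Y ⟶ X be formally unramified, let (i' : Z ⟶ Z', c) be a first order thickening
over X that is universal for i ≫ b, (j : Y ⟶ Y', d) one universal for b, m : Z' ⟶ Y' the morphism of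
thickenings over X compatible with i, (i'' : Z ⟶ Z'', e) a first order thickening over Y that is
universal for i, and n : Z'' ⟶ Z' the morphism of thickenings over X extending the identity of Z.
Let ψ₁ : i^*C_{Y/Y'} ⟶ C_{Z/Z'} and ψ₂ : C_{Z/Z'} ⟶ C_{Z/Z''} be the canonical maps of conormal
sheaves induced by (i, m) and (id, n). These are the conormal sheaves C_{Y/X}, C_{Z/X}, C_{Z/Y} of
the formally unramified morphisms and the canonical maps between them. Then the sequence i^*C_{Y/X}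
⟶ C_{Z/X} ⟶ C_{Z/Y} ⟶ 0 they form is exact. -/
theorem result {Z Y X Z' Y' Z'' : Scheme.{u}} (i : Z ⟶ Y) (b : Y ⟶ X)
    [FormallyUnramified i] [FormallyUnramified b]
    (i' : Z ⟶ Z') (c : Z' ⟶ X) (hZ' : OmegaSh.IsUnivThickening (i ≫ b) i' c)
    (j : Y ⟶ Y') (d : Y' ⟶ X) (hY' : OmegaSh.IsUnivThickening b j d)
    (m : Z' ⟶ Y') (hm₁ : i' ≫ m = i ≫ j) (hm₂ : m ≫ d = c)
    (i'' : Z ⟶ Z'') (e : Z'' ⟶ Y) (hZ'' : OmegaSh.IsUnivThickening i i'' e)
    (n : Z'' ⟶ Z') (hn₁ : i'' ≫ n = i') (hn₂ : n ≫ c = e ≫ b)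
    (ψ₁ : (Scheme.Modules.pullback i).obj (Omega.conormal j) ⟶ Omega.conormal i') (hψ₁ : OmegaSh.IsConormalMap i' j m i ψ₁)
    (ψ₂ : (Scheme.Modules.pullback (𝟙 Z)).obj (Omega.conormal i') ⟶ Omega.conormal i'') (hψ₂ : OmegaSh.IsConormalMap i'' i' n (𝟙 Z) ψ₂) :
    ∃ w : (Scheme.Modules.pullback (𝟙 Z)).map ψ₁ ≫ ψ₂ = 0, (ShortComplex.mk _ _ w).Exact ∧ Epi ψ₂ := by
  obtain rfl : i'' ≫ n = i' := hn₁
  obtain rfl : i'' ≫ e = i := hZ''.2.1
  have hj' : j ≫ d = b := hY'.2.1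
  haveI : IsClosedImmersion j := hY'.1.1.1
  haveI : IsClosedImmersion i'' := hZ''.1.1.1
  haveI : IsClosedImmersion (i'' ≫ n) := hZ'.1.1.1
  have hnm : n ≫ m = e ≫ j := by
    obtain ⟨a, -, hau⟩ := hY'.2.2 Z Z'' i'' (e ≫ b) (i'' ≫ e) hZ''.1 (Category.assoc _ _ _).symm
    refine (hau (n ≫ m) ⟨?_, ?_⟩).trans (hau (e ≫ j) ⟨?_, ?_⟩).symm
    · rw [← Category.assoc]; exact hm₁
    · rw [Category.assoc, hm₂]; exact hn₂
    · rw [Category.assoc]
    · rw [Category.assoc, hj']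
  have hst := fun z => GrothLib.ThickOmega4.stalk_surjective_and_ker_le z hZ' hZ'' hnm hj' hm₂
  have w₀ := GrothLib.ThickOmega4.comp_unId_eq_zero ψ₁ hψ₁ ψ₂ hψ₂ hnm
  have hex := GrothLib.ThickOmega4.exact_unId ψ₁ hψ₁ ψ₂ hψ₂ hnm
    (fun z => GrothLib.ThickOmega4.ker_stalkMap_sq hZ''.1 z) (fun z => (hst z).2) w₀
  have hepi := GrothLib.ThickOmega4.epi_unId ψ₂ hψ₂ (fun z => (hst z).1)
  let η := Scheme.Modules.pullbackId Z
  have w : (Scheme.Modules.pullback (𝟙 Z)).map ψ₁ ≫ ψ₂ = 0 := by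
    refine (cancel_epi (η.inv.app _)).1 (Eq.trans ?_ comp_zero.symm)
    exact ((Category.assoc _ _ _).symm.trans (congrArg (· ≫ ψ₂) (η.inv.naturality ψ₁).symm)).trans
      ((Category.assoc _ _ _).trans w₀)
  refine ⟨w, ShortComplex.exact_of_iso ?_ hex, ?_⟩
  · refine ShortComplex.isoMk (η.symm.app _) (η.symm.app _) (Iso.refl _) ?_ ?_
    · exact (η.inv.naturality ψ₁).symm
    · exact (Category.comp_id _).symm
  · exact @epi_of_epi _ _ _ _ _ (η.inv.app _) ψ₂ hepi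

end Groth.Agent.S9784
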