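import Groth.Statements.S9785
import Groth.Agent.Lib.ThickOmega4.LciMono
-- import your own Groth.Agent.* helpers here

set_option autoImplicit false
universe u
open OmegaSh

namespace Groth.Agent.S9785

open AlgebraicGeometry CategoryTheory Limits in
/-- Let i : Z ⟶ Y and b : Y ⟶ X be formally unramified, let (i' : Z ⟶ Z', c) be a first order thickening
over X that is universal for i ≫ b, (j : Y ⟶ Y', d) one universal for b, m : Z' ⟶ Y' the morphism of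
thickenings over X compatible with i, (i'' : Z ⟶ Z'', e) a first order thickening over Y that is
universal for i, and n : Z'' ⟶ Z' the morphism of thickenings over X extending the identity of Z.
Let ψ₁ : i^*C_{Y/Y'} ⟶ C_{Z/Z'} and ψ₂ : C_{Z/Z'} ⟶ C_{Z/Z''} be the canonical maps of conormal
sheaves induced by (i, m) and (id, n); these are the conormal sheaves C_{Y/X}, C_{Z/X}, C_{Z/Y} of
the formally unramified morphisms and the canonical maps between them. Assume moreover that i is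
Koszul at every point of Z, i.e. i is lci. Then 0 ⟶ i^*C_{Y/X} ⟶ C_{Z/X} ⟶ C_{Z/Y} ⟶ 0 is a short
exact sequence. -/
theorem result {Z Y X Z' Y' Z'' : Scheme.{u}} (i : Z ⟶ Y) (b : Y ⟶ X)
    [FormallyUnramified i] [FormallyUnramified b]
    (i' : Z ⟶ Z') (c : Z' ⟶ X) (hZ' : OmegaSh.IsUnivThickening (i ≫ b) i' c)
    (j : Y ⟶ Y') (d : Y' ⟶ X) (hY' : OmegaSh.IsUnivThickening b j d)
    (m : Z' ⟶ Y') (hm₁ : i' ≫ m = i ≫ j) (hm₂ : m ≫ d = c)
    (i'' : Z ⟶ Z'') (e : Z'' ⟶ Y) (hZ'' : OmegaSh.IsUnivThickening i i'' e)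
    (n : Z'' ⟶ Z') (hn₁ : i'' ≫ n = i') (hn₂ : n ≫ c = e ≫ b)
    (ψ₁ : (Scheme.Modules.pullback i).obj (Omega.conormal j) ⟶ Omega.conormal i') (hψ₁ : OmegaSh.IsConormalMap i' j m i ψ₁)
    (ψ₂ : (Scheme.Modules.pullback (𝟙 Z)).obj (Omega.conormal i') ⟶ Omega.conormal i'') (hψ₂ : OmegaSh.IsConormalMap i'' i' n (𝟙 Z) ψ₂)
    (hlci : ∀ z : Z, Synt.IsKoszulAt i z) :
    ∃ w : (Scheme.Modules.pullback (𝟙 Z)).map ψ₁ ≫ ψ₂ = 0, (ShortComplex.mk _ _ w).ShortExact := by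
  obtain rfl : i'' ≫ n = i' := hn₁
  obtain rfl : i'' ≫ e = i := hZ''.2.1
  have hj' : j ≫ d = b := hY'.2.1
  haveI : IsClosedImmersion j := hY'.1.1.1
  haveI : IsClosedImmersion i'' := hZ''.1.1.1
  haveI : IsClosedImmersion (i'' ≫ n) := hZ'.1.1.1
  have hnm : n ≫ m = e ≫ j := by
    obtain ⟨a, -, hau⟩ := hY'.2.2 Z Z'' i'' (e ≫ b) (i'' ≫ e) hZ''.1 (Category.assoc _ _ _).symm
    refine (hau (n ≫ m) ⟨?_, ?_⟩).trans (hau (e ≫ j) ⟨?_, ?_⟩).symm
    · rw [← Category.assoc]; exact hm₁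
    · rw [Category.assoc, hm₂]; exact hn₂
    · rw [Category.assoc]
    · rw [Category.assoc, hj']
  have hst := fun z => GrothLib.ThickOmega4.stalk_surjective_and_ker_le z hZ' hZ'' hnm hj' hm₂
  have w₀ := GrothLib.ThickOmega4.comp_unId_eq_zero ψ₁ hψ₁ ψ₂ hψ₂ hnm
  have hex := GrothLib.ThickOmega4.exact_unId ψ₁ hψ₁ ψ₂ hψ₂ hnm
    (fun z => GrothLib.ThickOmega4.ker_stalkMap_sq hZ''.1 z) (fun z => (hst z).2) w₀
  have hepi := GrothLib.ThickOmega4.epi_unId ψ₂ hψ₂ (fun z => (hst z).1)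
  let η := Scheme.Modules.pullbackId Z
  have w : (Scheme.Modules.pullback (𝟙 Z)).map ψ₁ ≫ ψ₂ = 0 := by
    refine (cancel_epi (η.inv.app _)).1 (Eq.trans ?_ comp_zero.symm)
    exact ((Category.assoc _ _ _).symm.trans (congrArg (· ≫ ψ₂) (η.inv.naturality ψ₁).symm)).trans
      ((Category.assoc _ _ _).trans w₀)
  have hmono : Mono ψ₁ := by
    rw [GrothLib.OX.mono_iff]
    intro z
    rw [ModuleCat.mono_iff_injective]
    exact GrothLib.ThickOmega4.stalkLin_fst_injective ψ₁ hψ₁ hZ' hY' hnm hm₂ hlci z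
  haveI : Epi ψ₂ := @epi_of_epi _ _ _ _ _ (η.inv.app _) ψ₂ hepi
  haveI : Mono ((Scheme.Modules.pullback (𝟙 Z)).map ψ₁) := by
    have h : (Scheme.Modules.pullback (𝟙 Z)).map ψ₁ = η.hom.app _ ≫ ψ₁ ≫ η.inv.app _ :=
      (Iso.inv_comp_eq (η.app _)).1 (η.inv.naturality ψ₁).symm
    rw [h]
    exact @mono_comp _ _ _ _ _ _ (IsIso.mono_of_iso (η.hom.app _)) _
      (@mono_comp _ _ _ _ _ _ hmono _ (IsIso.mono_of_iso (η.inv.app _)))
  refine ⟨w, { exact := ShortComplex.exact_of_iso ?_ hex }⟩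
  refine ShortComplex.isoMk (η.symm.app _) (η.symm.app _) (Iso.refl _) ?_ ?_
  · exact (η.inv.naturality ψ₁).symm
  · exact (Category.comp_id _).symm

end Groth.Agent.S9785
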