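import Groth.Statements.S9786
import Groth.Agent.Lib.ThickOmega4.SplitSmooth
import Groth.Agent.S9375
import Groth.Agent.Lib.RegImm12.ConormalSeq
-- import your own Groth.Agent.* helpers here

set_option autoImplicit false
universe u
open OmegaSh

namespace Groth.Agent.S9786

open AlgebraicGeometry CategoryTheory Limits in
/-- Let i : Z ⟶ X be a morphism and p : X ⟶ Y a formally smooth morphism (infinitesimal lifting against
square-zero thickenings of affine schemes) with i and i ≫ p formally unramified. Let (i' : Z ⟶ Z',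
a) be the universal first-order thickening attached to i, (i'' : Z ⟶ Z'', b) the one attached to i ≫
p, and k : Z' ⟶ Z'' the morphism of thickenings (i' ≫ k = i'', k ≫ b = a ≫ p). Let d : O_{Z'} → Ω be
a universal derivation over Z'', ψ : C_{Z/Z''} ⟶ C_{Z/Z'} the canonical map of conormal sheaves
induced by (id, k) and φ : C_{Z/Z'} ⟶ (i')^*Ω the map induced by d. Then 0 ⟶ C_{Z/Z''} ⟶ C_{Z/Z'} ⟶
(i')^*Ω ⟶ 0 is short exact and locally split: every point of Z has an open neighbourhood over which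
ψ admits a left inverse. The published statement concerns the conormal–differential sequence of Z in
X over Y; this row states it on the thickenings Z ⊂ Z' ⟶ Z'', whose terms identify with the
published ones by the definition of the conormal sheaf of a formally unramified morphism and by the
isomorphism of (i')^*Ω_{Z'/S} with i^*Ω_{X/S} for a universal thickening (with Ω_{Z'/Z''} =
Ω_{Z'/Y}, as Z'' ⟶ Y is formally unramified). -/
theorem result {Z X Y Z' Z'' : Scheme.{u}} (i : Z ⟶ X) (p : X ⟶ Y)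
    (hp : MoreMor.IsFormallySmoothHom p) [FormallyUnramified i] [FormallyUnramified (i ≫ p)]
    (i' : Z ⟶ Z') (a : Z' ⟶ X) (hZ' : OmegaSh.IsUnivThickening i i' a)
    (i'' : Z ⟶ Z'') (b : Z'' ⟶ Y) (hZ'' : OmegaSh.IsUnivThickening (i ≫ p) i'' b)
    (k : Z' ⟶ Z'') (hk₁ : i' ≫ k = i'') (hk₂ : k ≫ b = a ≫ p)
    (Ω : Z'.Modules) (d : OmegaSh.Der k Ω) (hd : OmegaSh.IsUniversal d)
    (ψ : (Scheme.Modules.pullback (𝟙 Z)).obj (Omega.conormal i'') ⟶ Omega.conormal i') (hψ : OmegaSh.IsConormalMap i' i'' k (𝟙 Z) ψ)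
    (φ : Omega.conormal i' ⟶ (Scheme.Modules.pullback i').obj Ω) (hφ : OmegaSh.IsConormalDiff i' d φ) :
    ∃ w : ψ ≫ φ = 0, (ShortComplex.mk ψ φ w).ShortExact ∧
      ∀ z : Z, ∃ (U : Z.Opens) (r : (Scheme.Modules.restrictFunctor U.ι).obj (Omega.conormal i') ⟶
          (Scheme.Modules.restrictFunctor U.ι).obj ((Scheme.Modules.pullback (𝟙 Z)).obj (Omega.conormal i''))),
        z ∈ U ∧ (Scheme.Modules.restrictFunctor U.ι).map ψ ≫ r = 𝟙 _ := by
  obtain rfl : i' ≫ k = i'' := hk₁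
  haveI : IsClosedImmersion i' := hZ'.1.1.1
  haveI : IsClosedImmersion (i' ≫ k) := hZ''.1.1.1
  obtain ⟨w, hex, hepi⟩ := Groth.Agent.S9375.result k i' (i' ≫ k) rfl Ω d hd ψ hψ φ hφ
  have hsplit : ∀ z : Z, ∃ (U : Z.Opens) (r : (Scheme.Modules.restrictFunctor U.ι).obj (Omega.conormal i') ⟶
      (Scheme.Modules.restrictFunctor U.ι).obj ((Scheme.Modules.pullback (𝟙 Z)).obj (Omega.conormal (i' ≫ k)))),
      z ∈ U ∧ (Scheme.Modules.restrictFunctor U.ι).map ψ ≫ r = 𝟙 _ := by
    intro z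
    obtain ⟨U'', hU'', hz, -⟩ := exists_isAffineOpen_mem_and_subset (x := (i' ≫ k) z) (U := (⊤ : Z''.Opens)) trivial
    obtain ⟨m, hm, hm'⟩ := GrothLib.ThickOmega4.exists_local_section hp hZ' hZ'' k rfl hk₂ hU''
    obtain ⟨r, hr⟩ := GrothLib.ThickOmega4.exists_split i' k ψ hψ U'' m hm hm'
    exact ⟨(i' ≫ k) ⁻¹ᵁ U'', r, hz, hr⟩
  choose U r hzU hr using hsplit
  have hinj : ∀ (z : Z) (W : Z.Opens), W ≤ U z → Function.Injective (ψ.app W) := by
    intro z W hW
    obtain ⟨O, rfl⟩ : ∃ O, (U z).ι ''ᵁ O = W := ⟨(U z).ι ⁻¹ᵁ W, by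
      rw [Scheme.Hom.image_preimage_eq_opensRange_inf, Scheme.Opens.opensRange_ι, inf_of_le_right hW]⟩
    exact Function.LeftInverse.injective (g := (r z).app O) fun x =>
      ConcreteCategory.congr_hom (congrArg (fun θ => Scheme.Modules.Hom.app θ O) (hr z)) x
  haveI : Mono ψ := ⟨fun {Q} α β hαβ => Scheme.Modules.hom_ext _ _ fun V => ConcreteCategory.hom_ext _ _ fun s => by
    refine GrothLib.Ample.meq_of_cover _ (fun x : V => V ⊓ U x.1) (fun x => inf_le_left)
      (fun y hy => TopologicalSpace.Opens.mem_iSup.2 ⟨⟨y, hy⟩, hy, hzU y⟩) fun x => hinj x.1 _ inf_le_right ?_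
    rw [GrothLib.Ample.app_mres, GrothLib.Ample.app_mres]
    exact congrArg (GrothLib.InvExt.mres _ inf_le_left)
      (ConcreteCategory.congr_hom (congrArg (fun θ => Scheme.Modules.Hom.app θ V) hαβ) s)⟩
  exact ⟨w, { exact := hex, mono_f := inferInstance, epi_g := hepi }, fun z => ⟨U z, r z, hzU z, hr z⟩⟩

end Groth.Agent.S9786
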