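import Groth.Statements.S9787
import Groth.Agent.Lib.BlowPair8.Coords
import Groth.Agent.Lib.BlowUp17.Smooth
import Groth.Agent.Lib.BlowUpBC12.Scheme

set_option autoImplicit false
universe u
open CategoryTheory CategoryTheory.Limits AlgebraicGeometry TopologicalSpace
open FlatMor

namespace Groth.Agent.S9787

/-- For a smooth q : X ⟶ S and a closed immersion i : Z ⟶ X whose composite with q is smooth, any
blowing up b : X' ⟶ X of the ideal sheaf of Z (given by its universal property) is smooth over S,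
and so is its exceptional divisor. The published statement also identifies the exceptional divisor
over Z with the projective bundle of the conormal sheaf, with O(1) the restriction of O_{X'}(−E);
this row proves only the two smoothness claims. -/
theorem result {Z X X' S : Scheme.{u}} (q : X ⟶ S) [Smooth q] (i : Z ⟶ X) [IsClosedImmersion i]
    [Smooth (i ≫ q)] (b : X' ⟶ X) (hb : BlowUp.IsBlowUp b i.ker) :
    Smooth (b ≫ q) ∧ Smooth ((BlowUp.exceptional b i.ker).subschemeι ≫ b ≫ q) := by
  haveI : IsIso i.toImage := inferInstance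
  have hsupp : ∀ x : X, x ∈ i.ker.support ↔ x ∈ Set.range i := fun x => by
    rw [← SetLike.mem_coe, Scheme.Hom.support_ker, i.isClosedEmbedding.isClosed_range.closure_eq]
  have hreg : Mor2.IsRegularClosedImmersion i := by
    refine ⟨inferInstance, fun z => ?_⟩
    obtain ⟨S₀, hS₀, U, hU, e, r, m, ψ, hzU, hψ, hI⟩ := GrothLib.BlowPair8.exists_coords q i z
    letI := (q.appLE S₀ U e).hom.toAlgebra
    refine ⟨U, hU, hzU, List.ofFn fun k => ψ (MvPolynomial.X (Sum.inl k)), ?_, ?_⟩
    · refine ⟨GrothLib.BlowPair8.isWeaklyRegular ψ (RingHom.Smooth.flat (by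
        letI := ψ.toRingHom.toAlgebra
        haveI : Algebra.Etale (MvPolynomial (Fin r ⊕ Fin m) Γ(S, S₀)) Γ(X, U) := hψ
        exact RingHom.smooth_algebraMap.2 inferInstance)), fun htop => ?_⟩
      have h1 : i.ker.ideal ⟨U, hU⟩ = ⊤ := by
        rw [hI]
        have h2 := htop.symm
        rw [Ideal.smul_eq_mul, Ideal.mul_top, Ideal.ofList] at h2
        simpa [List.mem_ofFn, Set.range] using h2
      have h3 : (1 : Γ(X, U)) ∈ RingHom.ker (i.app U).hom := by rw [← Scheme.Hom.ker_apply i ⟨U, hU⟩, h1]; trivial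
      rw [RingHom.mem_ker, map_one] at h3
      have h4 := congrArg (Z.presheaf.germ (i ⁻¹ᵁ U) z hzU).hom h3
      rw [map_one, map_zero] at h4
      exact one_ne_zero h4
    · rw [hI, Ideal.ofList]
      congr 1
      ext x
      simp [List.mem_ofFn]
  constructor
  · suffices key : ∀ p : X', ∃ (W : Scheme.{u}) (j : W ⟶ X'), IsOpenImmersion j ∧ p ∈ Set.range j ∧ Smooth (j ≫ b ≫ q) by
      choose W j hj hp hs using key
      exact IsZariskiLocalAtSource.of_openCover (P := @Smooth)
        (Scheme.Cover.mkOfCovers _ W j (fun x => ⟨x, hp x⟩) hj) fun x => hs x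
    intro p
    by_cases hp : b p ∈ Set.range i
    · obtain ⟨z, hz⟩ := hp
      obtain ⟨S₀, hS₀, U, hU, e, r, m, ψ, hzU, hψ, hI⟩ := GrothLib.BlowPair8.exists_coords q i z
      letI := (q.appLE S₀ U e).hom.toAlgebra
      obtain ⟨k, J, hJ, hJb, hpJ⟩ := GrothLib.BlowUpBC12.exists_chart_mem hb ⟨U, hU⟩
        (fun k => ψ (MvPolynomial.X (Sum.inl k))) hI p (hz ▸ hzU)
      refine ⟨_, J, hJ, hpJ, ?_⟩
      rw [← Category.assoc, hJb, Category.assoc, ← IsAffineOpen.SpecMap_appLE_fromSpec q hS₀ hU e, ← Spec.map_comp_assoc]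
      haveI : Smooth (Spec.map (q.appLE S₀ U e ≫ CommRingCat.ofHom (algebraMap Γ(X, U)
          (GrothLib.BlowUp17.Chart (fun k => ψ (MvPolynomial.X (Sum.inl k))) k)))) :=
        (HasRingHomProperty.Spec_iff (P := @Smooth)).2 (GrothLib.BlowPair8.smooth_chart ψ k hψ)
      infer_instance
    · haveI := GrothLib.BlowUp.isIso_off_center hb
      have hp' : p ∈ b ⁻¹ᵁ i.ker.support.compl := fun h => hp ((hsupp _).1 h)
      refine ⟨_, (b ⁻¹ᵁ i.ker.support.compl).ι, inferInstance, ⟨⟨p, hp'⟩, rfl⟩, ?_⟩
      rw [← morphismRestrict_ι_assoc]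
      infer_instance
  · let g : (BlowUp.exceptional b i.ker).subscheme ⟶ Z :=
      (i.ker.comapIso b).hom ≫ pullback.snd b i.ker.subschemeι ≫ inv i.toImage
    have hg : g ≫ i = (BlowUp.exceptional b i.ker).subschemeι ≫ b := by
      have h1 : inv i.toImage ≫ i = i.ker.subschemeι := by rw [IsIso.inv_comp_eq, Scheme.Hom.toImage_imageι]
      simp only [g, Category.assoc, h1, ← pullback.condition]
      rw [← Category.assoc, Scheme.IdealSheafData.comapIso_hom_fst]
    haveI := GrothLib.BlowUp17.smooth_exceptional i hreg b hb g hg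
    rw [← Category.assoc, ← hg, Category.assoc]
    infer_instance

end Groth.Agent.S9787
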