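import Groth.Statements.S9790
import Groth.Agent.Lib.RelAssDim8.Scheme
import Groth.Agent.Lib.Equidim6.CondTOpen
import Groth.Agent.Lib.AlgSp.FibreDimZero
import Groth.Agent.Lib.FibreDimAt6.Scheme

set_option autoImplicit false
universe u
open FlatMor

namespace Groth.Agent.S9790

open AlgebraicGeometry CategoryTheory Limits in
/-- Let f : X ⟶ S be locally of finite type, F a quasi-coherent O_X-module of finite type and y a point
of the relative assassin of F over S. Let Y ⊆ X be the closure of y with its reduced induced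
(integral) closed subscheme structure. Suppose F is S-flat at every point of Y that is a generic
point of an irreducible component of its fibre over S (e.g. F flat over S everywhere). Then Y ⟶ S
has constant fibre dimension: there is d ≥ 0 with dim_x(Y_{f x}) = d for every point x of Y, i.e. Y
has relative dimension d over the closure of f y. The published statement also contains a part (1),
that such generic points are again relative associated points of F; this row states only part (2),
the relative-dimension clause. -/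
theorem result {X S : Scheme.{u}} (f : X ⟶ S) [LocallyOfFiniteType f] (F : X.Modules) [Coh.IsQCoh F]
    (hF : CohB1.IsFT F) (y : X) (hy : y ∈ MoreMor.relAss f F)
    (hflat : ∀ x : ↑(Scheme.IdealSheafData.vanishingIdeal (TopologicalSpace.Closeds.closure {y})).subscheme,
      (∃ Z ∈ irreducibleComponents ↥(((Scheme.IdealSheafData.vanishingIdeal (TopologicalSpace.Closeds.closure {y})).subschemeι ≫ f).fiber (f ((Scheme.IdealSheafData.vanishingIdeal (TopologicalSpace.Closeds.closure {y})).subschemeι x))),
        IsGenericPoint (((Scheme.IdealSheafData.vanishingIdeal (TopologicalSpace.Closeds.closure {y})).subschemeι ≫ f).asFiber x) Z) →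
      FlatMod.IsFlatOverAt f F ((Scheme.IdealSheafData.vanishingIdeal (TopologicalSpace.Closeds.closure {y})).subschemeι x)) :
    ∃ d : ℕ, ∀ x : ↑(Scheme.IdealSheafData.vanishingIdeal (TopologicalSpace.Closeds.closure {y})).subscheme, FlatMor.fibreDimAt ((Scheme.IdealSheafData.vanishingIdeal (TopologicalSpace.Closeds.closure {y})).subschemeι ≫ f) x = d := by
  haveI : F.IsQuasicoherent := ‹Coh.IsQCoh F›
  let 𝒥 := Scheme.IdealSheafData.vanishingIdeal (TopologicalSpace.Closeds.closure ({y} : Set X))
  let ι := 𝒥.subschemeι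
  let g := ι ≫ f
  have hr : Set.range ι = closure {y} := by
    rw [Scheme.IdealSheafData.range_subschemeι, Scheme.IdealSheafData.coe_support_vanishingIdeal]
    rfl
  obtain ⟨η, hη⟩ : y ∈ Set.range ι := hr ▸ subset_closure rfl
  have hgen : ∀ z, η ⤳ z := fun z => ι.isEmbedding.isInducing.specializes_iff.1
    (by rw [hη]; exact specializes_iff_mem_closure.2 (hr.subset ⟨z, rfl⟩))
  have htr : ∀ z, Dual3.resTrdeg g z = Dual3.resTrdeg f (ι z) := fun z => by
    rw [GrothLib.AlgSp.resTrdeg_comp, GrothLib.AlgSp.resTrdeg_eq_zero_of_lqf ι z, add_zero]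
  obtain ⟨n, hn, hnd⟩ := GrothLib.Equidim6.fibreDimAt_eq_resTrdeg g η
    (fun z _ hz => ι.isEmbedding.injective ((hz.map ι.continuous).antisymm ((hgen z).map ι.continuous)).eq)
  refine ⟨n, fun z => ?_⟩
  obtain ⟨x₀, hx₀, -, hmax, hdim⟩ := GrothLib.Equidim6.exists_fibre_maximal g z
  have hmax' : ∀ w, g w = g x₀ → w ⤳ x₀ → w = x₀ := fun w hw => hmax w (hw.trans hx₀)
  obtain ⟨s, hs, hsd⟩ := GrothLib.Equidim6.fibreDimAt_eq_resTrdeg g x₀ hmax'
  have hflat₀ : FlatMod.IsFlatOverAt f F (ι x₀) := by
    refine hflat x₀ ⟨_, GrothLib.Equidim6.closure_mem_components (η := g.asFiber x₀) fun w hw => ?_, isGenericPoint_closure⟩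
    apply (g.fiberι (g x₀)).isEmbedding.injective
    rw [g.fiberι_asFiber]
    exact hmax' _ ((g.range_fiberι (g x₀)).le ⟨w, rfl⟩)
      ((hw.map (g.fiberι (g x₀)).continuous).trans (specializes_of_eq (g.fiberι_asFiber x₀)))
  have hspec : y ⤳ ι x₀ := specializes_iff_mem_closure.2 (hr.subset ⟨x₀, rfl⟩)
  have h1 : (s : Cardinal) ≤ Dual3.resTrdeg f y :=
    GrothLib.RelAssDim8.resTrdeg_le f F hF hy hspec hflat₀ s (by rw [← htr]; exact hs)
  rw [← hη, ← htr, hn] at h1
  have h2 : FlatMor.fibreDimAt g η ≤ (s : WithBot ℕ∞) :=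
    (hgen x₀).mem_open (GrothLib.FibreDimAt6.isOpen_fibreDimAt_le g s) hsd.le
  rw [hnd] at h2
  have e : n = s := le_antisymm (by exact_mod_cast h2) (by exact_mod_cast h1)
  exact hdim.trans (e ▸ hsd)

end Groth.Agent.S9790
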