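import Groth.Statements.S9791
import Groth.Agent.Lib.NormFac9.Basic
import Groth.Agent.Lib.NormFib.Normal
import Groth.Agent.Lib.UnrMono.SmoothNormal
import Mathlib.AlgebraicGeometry.Morphisms.Smooth
import Mathlib.AlgebraicGeometry.Normalization

set_option autoImplicit false
universe u
open CategoryTheory CategoryTheory.Limits AlgebraicGeometry
open FlatMor

namespace Groth.Agent.S9791

theorem eq_of_specializes {Z : Scheme.{u}} {z z' : Z} (hz : closure {z} ∈ irreducibleComponents Z)
    (h : z' ⤳ z) : z' = z := by
  have h2 : closure ({z'} : Set Z) ⊆ closure {z} :=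
    hz.2 isIrreducible_singleton.closure (h.mem_closed isClosed_closure (subset_closure rfl) |> fun hz' =>
      closure_minimal (Set.singleton_subset_iff.2 hz') isClosed_closure)
  have h3 : z ⤳ z' := by
    rw [specializes_iff_closure_subset]
    exact h2
  exact (h.antisymm h3).eq

theorem eq_genericPoint {Z : Scheme.{u}} [IsIntegral Z] {z : Z}
    (hz : closure {z} ∈ irreducibleComponents Z) : z = genericPoint Z :=
  (eq_of_specializes hz (genericPoint_specializes z)).symm

theorem map_eq_genericPoint_of_flat {Z Y : Scheme.{u}} (g : Z ⟶ Y) [Flat g] [IsIntegral Y] {z : Z}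
    (hz : closure {z} ∈ irreducibleComponents Z) : g z = genericPoint Y := by
  obtain ⟨z', hz', he⟩ := Flat.generalizingMap g (genericPoint_specializes (g z))
  rw [← eq_of_specializes hz hz', he]

variable (X : Scheme.{u}) [IsIntegral X]
    [QuasiCompact (X.fromSpecStalk (genericPoint X))] [QuasiSeparated (X.fromSpecStalk (genericPoint X))]

theorem range_toNormalization :
    Set.range (X.fromSpecStalk (genericPoint X)).toNormalization = {genericPoint (Curv2.normalization X)} := by
  haveI : IsIntegral (Curv2.normalization X) :=
    inferInstanceAs (IsIntegral (X.fromSpecStalk (genericPoint X)).normalization)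
  let t : Spec X.functionField ⟶ Curv2.normalization X := (X.fromSpecStalk (genericPoint X)).toNormalization
  haveI : IsDominant t := inferInstanceAs (IsDominant (X.fromSpecStalk (genericPoint X)).toNormalization)
  haveI : Subsingleton (Spec X.functionField) := inferInstanceAs (Subsingleton (PrimeSpectrum X.functionField))
  obtain ⟨w⟩ : Nonempty (Spec X.functionField) := ⟨IsLocalRing.closedPoint _⟩
  have hw : t w = genericPoint (Curv2.normalization X) := by
    have hd : DenseRange t := t.denseRange
    refine (IsGenericPoint.eq ?_ (genericPoint_spec _))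
    rw [IsGenericPoint, ← dense_iff_closure_eq]
    exact hd.mono (by rintro _ ⟨w', rfl⟩; rw [Subsingleton.elim w' w]; rfl)
  ext y
  exact ⟨fun ⟨w', hw'⟩ => by rw [← hw', Subsingleton.elim w' w]; exact hw, fun hy => ⟨w, hw.trans hy.symm⟩⟩

theorem normalizationι_genericPoint [IsIntegral (Curv2.normalization X)] :
    Curv2.normalizationι X (genericPoint (Curv2.normalization X)) = genericPoint X := by
  haveI : Subsingleton (Spec X.functionField) := inferInstanceAs (Subsingleton (PrimeSpectrum X.functionField))
  obtain ⟨w, hw⟩ := (range_toNormalization X).ge (Set.mem_singleton _)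
  rw [← hw]
  show ((X.fromSpecStalk (genericPoint X)).toNormalization ≫ (X.fromSpecStalk (genericPoint X)).fromNormalization) w = _
  rw [Scheme.Hom.toNormalization_fromNormalization, Subsingleton.elim w (IsLocalRing.closedPoint _)]
  exact Scheme.fromSpecStalk_closedPoint

/-- In the case of integral schemes: let f : X ⟶ Y be a smooth morphism with X and Y integral, and let
X^ν ⟶ X and Y^ν ⟶ Y be the normalizations (in the function fields). Then X^ν is isomorphic over X to
the fibre product X ×_Y Y^ν, and such an isomorphism is unique. (The published statement requires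
only that each quasi-compact open subset of Y meet finitely many irreducible components of Y, and
also derives this for X; this row assumes X and Y integral, the case in which the normalization used
here is defined. The quasi-compactness and quasi-separatedness binders on Spec K(X) → X and Spec
K(Y) → Y always hold and are needed only to form the normalization.) -/
theorem result {X Y : Scheme.{u}} (f : X ⟶ Y) [Smooth f] [IsIntegral X] [IsIntegral Y]
    [QuasiCompact (X.fromSpecStalk (genericPoint X))] [QuasiSeparated (X.fromSpecStalk (genericPoint X))]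
    [QuasiCompact (Y.fromSpecStalk (genericPoint Y))] [QuasiSeparated (Y.fromSpecStalk (genericPoint Y))] :
    ∃! e : Curv2.normalization X ≅ pullback f (Curv2.normalizationι Y),
      e.hom ≫ pullback.fst f (Curv2.normalizationι Y) = Curv2.normalizationι X := by
  haveI : IsIntegral (Curv2.normalization X) :=
    inferInstanceAs (IsIntegral (X.fromSpecStalk (genericPoint X)).normalization)
  haveI : IsIntegral (Curv2.normalization Y) :=
    inferInstanceAs (IsIntegral (Y.fromSpecStalk (genericPoint Y)).normalization)
  let νY := Curv2.normalizationι Y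
  let νX := Curv2.normalizationι X
  have hfη : f (genericPoint X) = genericPoint Y :=
    map_eq_genericPoint_of_flat f (by
      rw [(genericPoint_spec X).def, irreducibleComponents_eq_singleton]; rfl)
  have hNY := GrothLib.NormFib.isNormalScheme_normalization (X := Y)
  have hNX := GrothLib.NormFib.isNormalScheme_normalization (X := X)
  have hNZ : Pi1.IsNormalScheme (pullback f νY) := fun z => by
    haveI := (hNY (pullback.snd f νY z)).1
    haveI := (hNY (pullback.snd f νY z)).2
    exact GrothLib.UnrMono.isNormal_stalk_of_smooth (pullback.snd f νY) z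
  have hdY : ∀ z : ↑(pullback f νY), closure {z} ∈ irreducibleComponents ↑(pullback f νY) →
      (pullback.snd f νY ≫ νY) z = genericPoint Y := fun z hz => by
    rw [Scheme.Hom.comp_apply, map_eq_genericPoint_of_flat (pullback.snd f νY) hz]
    exact normalizationι_genericPoint Y
  have hdX : ∀ z : ↑(pullback f νY), closure {z} ∈ irreducibleComponents ↑(pullback f νY) →
      pullback.fst f νY z = genericPoint X := fun z hz => by
    let t : Spec Y.functionField ⟶ Curv2.normalization Y := (Y.fromSpecStalk (genericPoint Y)).toNormalization
    let i := pullback.fst (pullback.snd f νY) t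
    have ht : t ≫ νY = Y.fromSpecStalk (genericPoint Y) := Scheme.Hom.toNormalization_fromNormalization _
    have hpb : IsPullback (i ≫ pullback.fst f νY) (pullback.snd (pullback.snd f νY) t) f (t ≫ νY) :=
      (IsPullback.of_hasPullback (pullback.snd f νY) t).paste_horiz (IsPullback.of_hasPullback f νY)
    haveI : IsPreimmersion (i ≫ pullback.fst f νY) :=
      MorphismProperty.of_isPullback hpb.flip (by rw [ht]; infer_instance)
    have hz' : z ∈ Set.range i := by
      rw [Scheme.Pullback.range_fst]
      show pullback.snd f νY z ∈ Set.range t
      exact (range_toNormalization Y).ge (map_eq_genericPoint_of_flat (pullback.snd f νY) hz)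
    obtain ⟨w, rfl⟩ := hz'
    obtain ⟨w', hw'⟩ : genericPoint X ∈ Set.range (i ≫ pullback.fst f νY) := by
      let v := IsLocalRing.closedPoint (Y.presheaf.stalk (genericPoint Y))
      obtain ⟨w', hw', -⟩ := Scheme.Pullback.exists_preimage_pullback (f := f) (g := t ≫ νY) (genericPoint X) v
        (by rw [hfη, ht]; exact Scheme.fromSpecStalk_closedPoint.symm)
      refine ⟨hpb.isoPullback.inv w', ?_⟩
      rw [← Scheme.Hom.comp_apply, hpb.isoPullback_inv_fst]
      exact hw'
    have hsp : w' ⤳ w := (i ≫ pullback.fst f νY).isEmbedding.isInducing.specializes_iff.1 (by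
      rw [hw']; exact genericPoint_specializes _)
    have := eq_of_specializes hz (hsp.map i.continuous)
    rw [← hw', Scheme.Hom.comp_apply, this]
  have hdX' : ∀ z : ↑(Curv2.normalization X), closure {z} ∈ irreducibleComponents ↑(Curv2.normalization X) →
      (νX ≫ f) z = genericPoint Y := fun z hz => by
    rw [eq_genericPoint hz, Scheme.Hom.comp_apply]
    show f (Curv2.normalizationι X _) = _
    rw [normalizationι_genericPoint X, hfη]
  have hdXX : ∀ z : ↑(Curv2.normalization X), closure {z} ∈ irreducibleComponents ↑(Curv2.normalization X) →
      νX z = genericPoint X := fun z hz => by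
    rw [eq_genericPoint hz]; exact normalizationι_genericPoint X
  obtain ⟨h, hh, huniq⟩ := GrothLib.NormFac9.existsUnique_fac (pullback.fst f νY) hNZ hdX
  obtain ⟨k₂, hk₂, -⟩ := GrothLib.NormFac9.existsUnique_fac (νX ≫ f) hNX hdX'
  let k : Curv2.normalization X ⟶ pullback f νY := pullback.lift νX k₂ hk₂.symm
  have hhk : k ≫ h = 𝟙 _ :=
    (GrothLib.NormFac9.existsUnique_fac νX hNX hdXX).unique
      (show (k ≫ h) ≫ Curv2.normalizationι X = νX by rw [Category.assoc, hh, pullback.lift_fst])
      (Category.id_comp _)
  have hkh : h ≫ k = 𝟙 _ := by
    refine pullback.hom_ext ?_ ?_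
    · rw [Category.assoc, pullback.lift_fst, Category.id_comp]; exact hh
    · refine (GrothLib.NormFac9.existsUnique_fac (pullback.snd f νY ≫ νY) hNZ hdY).unique ?_ ?_
      · show ((h ≫ k) ≫ pullback.snd f νY) ≫ νY = _
        rw [Category.assoc h k, pullback.lift_snd, Category.assoc, hk₂, ← Category.assoc]
        show (h ≫ Curv2.normalizationι X) ≫ f = _
        rw [hh, pullback.condition]
      · show (𝟙 _ ≫ pullback.snd f νY) ≫ νY = _
        rw [Category.id_comp]
  refine ⟨⟨k, h, hhk, hkh⟩, pullback.lift_fst _ _ _, fun e he => Iso.ext ?_⟩
  have he' : e.inv = h := huniq _ (by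
    show e.inv ≫ Curv2.normalizationι X = pullback.fst f νY
    rw [← he, e.inv_hom_id_assoc])
  calc e.hom = (e.hom ≫ h) ≫ k := by rw [Category.assoc, hkh, Category.comp_id]
    _ = k := by rw [← he', e.hom_inv_id, Category.id_comp]

end Groth.Agent.S9791
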