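import Groth.Statements.S9793
import Mathlib.AlgebraicGeometry.Properties
import Mathlib.RingTheory.Ideal.KrullsHeightTheorem

set_option autoImplicit false
universe u
open CategoryTheory AlgebraicGeometry TopologicalSpace
open Props

namespace Groth.Agent.S9793

/-- Let S be a Noetherian scheme and T a set of points of S. Every point of T is a specialization of
some point of T which admits no non-trivial generization lying in T. -/
theorem result (S : Scheme.{u}) [IsNoetherian S]
    (T : Set S) (t : S) (ht : t ∈ T) :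
    ∃ t₀ ∈ T, (∀ t' ∈ T, t' ⤳ t₀ → t' = t₀) ∧ t₀ ⤳ t := by
  let φ := S.fromSpecStalk t
  have hgen : ∀ z, z ⤳ t → ∃ p, φ p = z := fun z hz => by
    have : z ∈ Set.range φ := by rw [Scheme.range_fromSpecStalk]; exact hz
    exact this
  let P : Set (PrimeSpectrum (S.presheaf.stalk t)) := {p | φ p ∈ T}
  obtain ⟨p₁, hp₁⟩ := hgen t specializes_rfl
  obtain ⟨p, hp, hmin⟩ := (InvImage.wf (fun p : PrimeSpectrum (S.presheaf.stalk t) => p.asIdeal.height)
    wellFounded_lt).has_min P ⟨p₁, by simp [P, hp₁, ht]⟩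
  have hpt : φ p ⤳ t := by
    have : φ p ∈ Set.range φ := ⟨p, rfl⟩
    rwa [Scheme.range_fromSpecStalk] at this
  refine ⟨φ p, hp, fun t' ht' hs => ?_, hpt⟩
  obtain ⟨q, hq⟩ := hgen t' (hs.trans hpt)
  rw [← hq] at hs ⊢
  have hsq : q ⤳ p := φ.isEmbedding.isInducing.specializes_iff.mp hs
  have hle : @LE.le (PrimeSpectrum (S.presheaf.stalk t)) _ q p := (PrimeSpectrum.le_iff_specializes q p).mpr hsq
  rcases eq_or_lt_of_le hle with h | h
  · rw [h]
  · exact absurd (Ideal.height_strict_mono_of_isPrime_of_isPrime h) (hmin q (by simp [P, hq, ht']))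

end Groth.Agent.S9793
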