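import Groth.Statements.S9792
import Groth.Agent.S9793

set_option autoImplicit false
universe u
open CategoryTheory AlgebraicGeometry TopologicalSpace
open Props

namespace Groth.Agent.S9792

/-- In a Noetherian scheme, every infinite set of points contains an infinite subset no two distinct
members of which are related by specialization. -/
theorem result (S : Scheme.{u}) [IsNoetherian S]
    (T : Set S) (hT : T.Infinite) :
    ∃ T' : Set S, T' ⊆ T ∧ T'.Infinite ∧ ∀ a ∈ T', ∀ b ∈ T', a ⤳ b → a = b := by
  let f : ℕ → S := fun n => (hT.natEmbedding T n : S)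
  have hf : Function.Injective f := Subtype.val_injective.comp (hT.natEmbedding T).injective
  haveI : IsTrans S (fun a b : S => a ⤳ b) := ⟨fun _ _ _ h h' => h.trans h'⟩
  haveI : IsTrans S (fun a b : S => b ⤳ a) := ⟨fun _ _ _ h h' => h'.trans h⟩
  obtain ⟨g, hg | hg⟩ := exists_increasing_or_nonincreasing_subseq (fun a b : S => a ⤳ b) f
  · exfalso
    let c : ℕ → TopologicalSpace.Closeds S := fun n => ⟨closure {f (g n)}, isClosed_closure⟩
    obtain ⟨_, ⟨m, rfl⟩, hmin⟩ := (wellFounded_lt (α := TopologicalSpace.Closeds S)).has_min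
      (Set.range c) ⟨c 0, 0, rfl⟩
    refine hmin (c (m + 1)) ⟨m + 1, rfl⟩ (lt_of_le_of_ne ?_ ?_)
    · exact (hg m (m + 1) (Nat.lt_succ_self m)).closure_subset
    · intro h
      have : closure ({f (g (m + 1))} : Set S) = closure {f (g m)} := congrArg SetLike.coe h
      exact absurd (g.injective (hf (inseparable_iff_closure_eq.mpr this).eq)) (Nat.succ_ne_self m)
  · obtain ⟨g', hg' | hg'⟩ := exists_increasing_or_nonincreasing_subseq (fun a b : S => b ⤳ a)
      (fun n => f (g n))
    · exfalso
      obtain ⟨_, ⟨m, rfl⟩, hmax, -⟩ := Groth.Agent.S9793.result S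
        (Set.range fun n => f (g (g' n))) _ ⟨0, rfl⟩
      exact absurd (g'.injective (g.injective (hf (hmax _ ⟨m + 1, rfl⟩
        (hg' m (m + 1) (Nat.lt_succ_self m)))))) (Nat.succ_ne_self m)
    · refine ⟨Set.range fun n => f (g (g' n)), ?_,
        Set.infinite_range_of_injective ((hf.comp g.injective).comp g'.injective), ?_⟩
      · rintro _ ⟨n, rfl⟩; exact (hT.natEmbedding T _).2
      · rintro _ ⟨a, rfl⟩ _ ⟨b, rfl⟩ hab
        rcases lt_trichotomy a b with h | rfl | h
        · exact absurd hab (hg _ _ (g'.strictMono h))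
        · rfl
        · exact absurd hab (hg' b a h)

end Groth.Agent.S9792
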