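import Groth.Statements.S9794
import Mathlib.RingTheory.Ideal.KrullsHeightTheorem

set_option autoImplicit false
universe u
open CategoryTheory AlgebraicGeometry TopologicalSpace
open Props

namespace Groth.Agent.S9794

open TopologicalSpace in
theorem countable_of_generic {Y : Type u} [TopologicalSpace Y] [NoetherianSpace Y] [QuasiSober Y] [T0Space Y]
    (ht : Y → ℕ) (hm : ∀ x y : Y, x ⤳ y → x ≠ y → ht x < ht y) (d : ℕ) (p : Y) (T : Set Y)
    (hTp : T ⊆ closure {p}) (hp : p ∈ closure T) (hd : ∀ t ∈ T, ht t ≤ d) :
    ∃ E ⊆ T, E.Countable ∧ p ∈ closure E := by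
  by_contra h
  push Not at h
  have key : ∀ k : ℕ, ∃ T' ⊆ T, p ∈ closure T' ∧ ∀ q, q ≠ p → ht q ≤ k → ∀ E ⊆ T' ∩ closure {q},
      E.Countable → q ∈ closure E → False := by
    intro k
    induction k with
    | zero =>
      refine ⟨T, subset_rfl, hp, fun q hq hk E hE _ hqE => ?_⟩
      have : q ∈ closure {p} := closure_minimal ((hE.trans Set.inter_subset_left).trans hTp) isClosed_closure hqE
      have := hm p q (specializes_iff_mem_closure.mpr this) hq.symm
      omega
    | succ k ih =>
      obtain ⟨T', hT', hpT', hH⟩ := ih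
      set H := {q : Y | q ≠ p ∧ ht q ≤ k + 1 ∧ ∃ E ⊆ T' ∩ closure {q}, E.Countable ∧ q ∈ closure E}
      have hfin : H.Finite := by
        by_contra hinf
        let s := Set.Infinite.natEmbedding H hinf
        choose E hE hEc hqE using fun n => (s n).2.2.2
        obtain ⟨Z, ⟨N, hN, hZ⟩, hmin⟩ := (wellFounded_lt (α := Closeds Y)).has_min
          {Z : Closeds Y | ∃ N : Set ℕ, N.Infinite ∧ Z = ⟨closure ((fun n => (s n).1) '' N), isClosed_closure⟩}
          ⟨_, Set.univ, Set.infinite_univ, rfl⟩
        have hirr : IsIrreducible (Z : Set Y) := by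
          obtain ⟨n, hn⟩ := hN.nonempty
          refine ⟨⟨(s n).1, by rw [hZ]; exact subset_closure ⟨n, hn, rfl⟩⟩, isPreirreducible_iff_isClosed_union_isClosed.mpr ?_⟩
          intro A B hA hB hAB
          have hcov : N ⊆ {n ∈ N | (s n).1 ∈ A} ∪ {n ∈ N | (s n).1 ∈ B} := fun n hn => by
            rcases hAB (by rw [hZ]; exact subset_closure ⟨n, hn, rfl⟩) with h1 | h1
            · exact Or.inl ⟨hn, h1⟩
            · exact Or.inr ⟨hn, h1⟩
          have : ∀ M ⊆ N, M.Infinite → ∀ A' : Set Y, IsClosed A' → (∀ n ∈ M, (s n).1 ∈ A') → (Z : Set Y) ⊆ A' := by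
            intro M hM hMi A' hA' hMA
            set Z' : Closeds Y := ⟨closure ((fun n => (s n).1) '' M), isClosed_closure⟩
            have hle : Z' ≤ Z := by rw [hZ]; exact closure_mono (Set.image_mono hM)
            have : Z' = Z := by
              by_contra hne
              exact hmin Z' ⟨M, hMi, rfl⟩ (lt_of_le_of_ne hle hne)
            rw [← this]
            exact closure_minimal (by rintro _ ⟨n, hn, rfl⟩; exact hMA n hn) hA'
          rcases Set.infinite_union.mp (hN.mono hcov) with h1 | h1
          · exact Or.inl (this _ (fun n hn => hn.1) h1 A hA fun n hn => hn.2)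
          · exact Or.inr (this _ (fun n hn => hn.1) h1 B hB fun n hn => hn.2)
        obtain ⟨c, hc⟩ := QuasiSober.sober hirr Z.isClosed
        replace hc : closure {c} = (Z : Set Y) := hc
        set E' := ⋃ n ∈ N, E n
        have hE'c : E'.Countable := (Set.to_countable N).biUnion fun n _ => hEc n
        have hE'T : E' ⊆ T' := Set.iUnion₂_subset fun n _ => (hE n).trans Set.inter_subset_left
        have hqc : ∀ n ∈ N, (s n).1 ∈ closure {c} := fun n hn => by
          rw [hc, hZ]; exact subset_closure ⟨n, hn, rfl⟩
        have hE'Z : E' ⊆ closure {c} := Set.iUnion₂_subset fun n hn => (hE n).trans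
          (Set.inter_subset_right.trans (closure_minimal (Set.singleton_subset_iff.mpr (hqc n hn)) isClosed_closure))
        have hcE : c ∈ closure E' := by
          have : (Z : Set Y) ⊆ closure E' := by
            rw [hZ]
            refine closure_minimal ?_ isClosed_closure
            rintro _ ⟨n, hn, rfl⟩
            exact closure_mono (Set.subset_biUnion_of_mem (u := E) hn) (hqE n)
          exact this (hc ▸ subset_closure rfl)
        by_cases hcp : c = p
        · exact h E' (hE'T.trans hT') hE'c (hcp ▸ hcE)
        obtain ⟨n, hn, hne⟩ : ∃ n ∈ N, (s n).1 ≠ c := by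
          by_contra hall
          push Not at hall
          obtain ⟨n, hn⟩ := hN.nonempty
          obtain ⟨m, hm', hmn⟩ := (hN.sdiff (Set.finite_singleton n)).nonempty
          exact hmn (s.injective (Subtype.ext ((hall m hm').trans (hall n hn).symm)))
        have := hm c (s n).1 (specializes_iff_mem_closure.mpr (hqc n hn)) hne.symm
        have := (s n).2.2.1
        exact hH c hcp (by omega) E' (Set.subset_inter hE'T hE'Z) hE'c hcE
      refine ⟨T' \ ⋃ q ∈ H, closure {q}, Set.diff_subset.trans hT', ?_, ?_⟩
      · have hsub : T' ⊆ (T' \ ⋃ q ∈ H, closure {q}) ∪ ⋃ q ∈ H, closure {q} := fun x hx => by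
          by_cases hxH : x ∈ ⋃ q ∈ H, closure {q}
          · exact Or.inr hxH
          · exact Or.inl ⟨hx, hxH⟩
        have hcl : IsClosed (⋃ q ∈ H, closure ({q} : Set Y)) := hfin.isClosed_biUnion fun q _ => isClosed_closure
        have := closure_mono hsub hpT'
        rw [closure_union, hcl.closure_eq] at this
        rcases this with h1 | h1
        · exact h1
        · simp only [Set.mem_iUnion] at h1
          obtain ⟨q, ⟨hqp, -, E, hE, -, hqE⟩, hpq⟩ := h1
          have h2 : q ∈ closure {p} := closure_minimal ((hE.trans Set.inter_subset_left).trans (hT'.trans hTp)) isClosed_closure hqE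
          exact absurd ((specializes_iff_mem_closure.mpr hpq).antisymm (specializes_iff_mem_closure.mpr h2)).eq hqp
      · intro q hqp hk E hE hEc hqE
        have hqH : q ∈ H := ⟨hqp, hk, E, hE.trans (Set.inter_subset_inter_left _ Set.diff_subset), hEc, hqE⟩
        obtain ⟨x, hx⟩ := closure_nonempty_iff.mp ⟨q, hqE⟩
        exact (hE hx).1.2 (Set.mem_biUnion hqH (hE hx).2)
  obtain ⟨T', hT', hpT', hH⟩ := key d
  obtain ⟨t, ht'⟩ := closure_nonempty_iff.mp ⟨p, hpT'⟩
  by_cases htp : t = p
  · exact h {t} (by simpa using hT' ht') (Set.countable_singleton t) (subset_closure htp.symm)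
  · exact hH t htp (hd t (hT' ht')) {t} (by simpa using ⟨ht', subset_closure rfl⟩) (Set.countable_singleton t)
      (subset_closure rfl)

open TopologicalSpace in
theorem countable_closure {Y : Type u} [TopologicalSpace Y] [NoetherianSpace Y] [QuasiSober Y] [T0Space Y]
    (ht : Y → ℕ) (hm : ∀ x y : Y, x ⤳ y → x ≠ y → ht x < ht y) (T : Set Y) :
    ∃ E ⊆ T, E.Countable ∧ T ⊆ closure E := by
  suffices hb : ∀ d : ℕ, ∀ Z : Closeds Y, ∀ S : Set Y, S ⊆ Z → (∀ t ∈ S, ht t ≤ d) →
      ∃ E ⊆ S, E.Countable ∧ S ⊆ closure E by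
    choose E hE hEc hEcl using fun d => hb d ⊤ {t ∈ T | ht t ≤ d} (fun x _ => trivial) fun t h => h.2
    exact ⟨⋃ d, E d, Set.iUnion_subset fun d => (hE d).trans fun t h => h.1, Set.countable_iUnion hEc,
      fun t ht' => closure_mono (Set.subset_iUnion E (ht t)) (hEcl (ht t) ⟨ht', le_rfl⟩)⟩
  intro d Z
  induction Z using (wellFounded_lt (α := Closeds Y)).induction with
  | _ Z ih =>
    intro S hS hd
    set Z' : Closeds Y := ⟨closure S, isClosed_closure⟩
    rcases (show Z' ≤ Z from closure_minimal hS Z.isClosed).lt_or_eq with hlt | heq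
    · exact ih Z' hlt S subset_closure hd
    · by_cases hirr : IsIrreducible (closure S)
      · obtain ⟨p, hp⟩ := QuasiSober.sober hirr isClosed_closure
        replace hp : closure {p} = closure S := hp
        obtain ⟨E, hE, hEc, hpE⟩ := countable_of_generic ht hm d p S (hp ▸ subset_closure) (hp ▸ subset_closure rfl) hd
        refine ⟨E, hE, hEc, subset_closure.trans ?_⟩
        rw [← hp]
        exact closure_minimal (Set.singleton_subset_iff.mpr hpE) isClosed_closure
      · rcases S.eq_empty_or_nonempty with rfl | hne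
        · exact ⟨∅, subset_rfl, Set.countable_empty, Set.empty_subset _⟩
        rw [IsIrreducible, not_and, isPreirreducible_iff_isClosed_union_isClosed] at hirr
        have hirr' := hirr hne.closure
        push Not at hirr'
        obtain ⟨A, B, hA, hB, hAB, hnA, hnB⟩ := hirr'
        have key : ∀ C : Set Y, IsClosed C → ¬ closure S ⊆ C → ∃ E ⊆ S ∩ C, E.Countable ∧ S ∩ C ⊆ closure E := by
          intro C hC hn
          refine ih ⟨closure S ∩ C, isClosed_closure.inter hC⟩ ?_ (S ∩ C)
            (Set.inter_subset_inter_left _ subset_closure) (fun t h => hd t h.1)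
          rw [← heq]
          exact lt_of_le_of_ne (fun x (h : x ∈ closure S ∩ C) => h.1) fun e => hn fun x hx =>
            (show x ∈ closure S ∩ C by rw [show closure S ∩ C = closure S from congrArg (fun Z : Closeds Y => (Z : Set Y)) e]; exact hx).2
        obtain ⟨EA, hEA, hcA, hSA⟩ := key A hA hnA
        obtain ⟨EB, hEB, hcB, hSB⟩ := key B hB hnB
        refine ⟨EA ∪ EB, Set.union_subset (hEA.trans Set.inter_subset_left) (hEB.trans Set.inter_subset_left),
          hcA.union hcB, fun x hx => ?_⟩
        rcases hAB (subset_closure hx) with h1 | h1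
        · exact closure_mono Set.subset_union_left (hSA ⟨hx, h1⟩)
        · exact closure_mono Set.subset_union_right (hSB ⟨hx, h1⟩)

/-- In a Noetherian scheme, an infinite dense set of points contains a countable subset which is dense. -/
theorem result (S : Scheme.{u}) [IsNoetherian S]
    (T : Set S) (hT : T.Infinite) (hd : Dense T) :
    ∃ E : Set S, E ⊆ T ∧ E.Countable ∧ Dense E := by
  have hfin : ∀ x : S, Order.coheight x ≠ ⊤ := by
    intro x hx
    have h1 := ringKrullDim_stalk_eq_coheight x
    rw [hx] at h1
    have : IsNoetherianRing (S.presheaf.stalk x) := inferInstance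
    exact (ringKrullDim_lt_top (R := S.presheaf.stalk x)).ne h1
  have hm : ∀ x y : S, x ⤳ y → x ≠ y → (Order.coheight x).toNat < (Order.coheight y).toNat := by
    intro x y h hne
    have hlt : y < x := lt_of_le_not_ge h fun h' => hne (h.antisymm h').eq
    have := Order.coheight_strictAnti hlt (lt_top_iff_ne_top.mpr (hfin x))
    rw [← ENat.coe_toNat (hfin x), ← ENat.coe_toNat (hfin y)] at this
    exact_mod_cast this
  obtain ⟨E, hE, hEc, hEcl⟩ := countable_closure _ hm T
  exact ⟨E, hE, hEc, dense_iff_closure_eq.mpr (top_le_iff.mp (hd.closure_eq.symm.le.trans (closure_minimal hEcl isClosed_closure)))⟩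

end Groth.Agent.S9794
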