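import Groth.Statements.S9799

set_option autoImplicit false
universe u
open CategoryTheory AlgebraicGeometry TopologicalSpace
open Props

namespace Groth.Agent.S9799

/-- Let X be a normal scheme (all local rings are integrally closed domains) such that every
quasi-compact open subset has finitely many irreducible components. Then the irreducible components
of X are open and pairwise disjoint; hence X is the disjoint union of its irreducible components,
each an open subscheme which is normal and integral. -/
theorem result (X : Scheme.{u})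
    (hfin : ∀ U : X.Opens, IsCompact (U : Set X) → (irreducibleComponents ↥U).Finite)
    (hN : Pi1.IsNormalScheme X) :
    (∀ Z ∈ irreducibleComponents X, IsOpen Z) ∧
      ∀ Z ∈ irreducibleComponents X, ∀ Z' ∈ irreducibleComponents X, Z ≠ Z' → Disjoint Z Z' := by
  have huniq : ∀ Z ∈ irreducibleComponents X, ∀ Z' ∈ irreducibleComponents X, ∀ x, x ∈ Z → x ∈ Z' → Z = Z' := by
    intro Z hZ Z' hZ' x hx hx'
    have : IsDomain (X.presheaf.stalk x) := (hN x).1
    set g := (X.fromSpecStalk x).base ⟨⊥, Ideal.isPrime_bot⟩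
    have key : ∀ W ∈ irreducibleComponents X, x ∈ W → W = closure {g} := by
      intro W hW hxW
      have hcl := isClosed_of_mem_irreducibleComponents W hW
      obtain ⟨η, hη⟩ := QuasiSober.sober hW.1 hcl
      have h1 : η ∈ Set.range (X.fromSpecStalk x) := by
        rw [Scheme.range_fromSpecStalk]
        exact hη.specializes hxW
      obtain ⟨y, rfl⟩ := h1
      have h2 : (⟨⊥, Ideal.isPrime_bot⟩ : PrimeSpectrum (X.presheaf.stalk x)) ⤳ y :=
        (PrimeSpectrum.le_iff_specializes _ _).mp bot_le
      have h3 : g ⤳ (X.fromSpecStalk x).base y := h2.map (X.fromSpecStalk x).continuous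
      have h4 : W ⊆ closure {g} := by
        rw [← show closure {(X.fromSpecStalk x).base y} = W from hη]
        exact closure_minimal (Set.singleton_subset_iff.mpr h3.mem_closure) isClosed_closure
      exact le_antisymm h4 (hW.2 isIrreducible_singleton.closure h4)
    rw [key Z hZ hx, key Z' hZ' hx']
  refine ⟨fun Z hZ => isOpen_iff_forall_mem_open.mpr fun x hx => ?_, fun Z hZ Z' hZ' hne =>
    Set.disjoint_left.mpr fun x h1 h2 => hne (huniq Z hZ Z' hZ' x h1 h2)⟩
  obtain ⟨U, hU, hxU, -⟩ := exists_isAffineOpen_mem_and_subset (X := X) (U := ⊤) (x := x) trivial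
  have hemb : Topology.IsOpenEmbedding (Subtype.val : U → X) := U.2.isOpenEmbedding_subtypeVal
  set C := {W ∈ irreducibleComponents X | W ≠ Z ∧ (W ∩ (U : Set X)).Nonempty}
  have hC : C.Finite := by
    refine Set.Finite.of_finite_image (f := fun W => (Subtype.val ⁻¹' W : Set U)) ((hfin U hU.isCompact).subset ?_) ?_
    · rintro _ ⟨W, ⟨hW, -, w, hw, hwU⟩, rfl⟩
      exact preimage_mem_irreducibleComponents hW hemb ⟨w, hw, ⟨⟨w, hwU⟩, rfl⟩⟩
    · rintro W ⟨hW, -, w, hw, hwU⟩ W' ⟨hW', -, -⟩ e
      have h2 : w ∈ W' := (Set.ext_iff.mp e ⟨w, hwU⟩).mp hw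
      exact huniq W hW W' hW' w hw h2
  refine ⟨(U : Set X) \ ⋃ W ∈ C, W, ?_, U.2.sdiff (hC.isClosed_biUnion fun W hW => isClosed_of_mem_irreducibleComponents W hW.1), ⟨hxU, ?_⟩⟩
  · rintro y ⟨hyU, hy⟩
    by_contra hyZ
    exact hy (Set.mem_biUnion (x := irreducibleComponent y) ⟨irreducibleComponent_mem_irreducibleComponents y,
      fun e => hyZ (e ▸ mem_irreducibleComponent), ⟨y, mem_irreducibleComponent, hyU⟩⟩ mem_irreducibleComponent)
  · simp only [Set.mem_iUnion]
    rintro ⟨W, ⟨hW, hne, -⟩, hxW⟩
    exact hne (huniq W hW Z hZ x hxW hx)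

end Groth.Agent.S9799
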