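import Groth.Statements.S9802
import Groth.Agent.S9835
import Groth.Agent.Lib.N2.Tate
import Groth.Agent.Lib.Euler.AmpleComponents

set_option autoImplicit false
universe u
open CategoryTheory AlgebraicGeometry TopologicalSpace
open Props

namespace Groth.Agent.S9802

/-- A locally Noetherian scheme is Nagata (every affine open has a Nagata coordinate ring) if and only
if every integral closed subscheme is Japanese (every nonempty affine open of it has an N-2
coordinate ring). -/
theorem result (X : Scheme.{u})
    [IsLocallyNoetherian X] :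
    (∀ U : X.Opens, IsAffineOpen U → CAlg.IsNagata Γ(X, U)) ↔
      ∀ (Z : Scheme.{u}) (i : Z ⟶ X) [IsClosedImmersion i] [IsIntegral Z]
        (V : Z.Opens) [Nonempty V], IsAffineOpen V → CAlg.IsN2 Γ(Z, V) := by
  constructor
  · intro hN Z i _ _ V _ hV
    classical
    have hcov : ∀ z : Z, ∃ U : X.Opens, IsAffineOpen U ∧ i z ∈ U := fun z => by
      obtain ⟨U, hU, hz, -⟩ := exists_isAffineOpen_mem_and_subset (x := i z) (U := ⊤) trivial
      exact ⟨U, hU, hz⟩
    choose U hU hzU using hcov
    haveI : ∀ z, Nonempty ((i ⁻¹ᵁ U z : Z.Opens) : Scheme.{u}) := fun z => ⟨⟨z, hzU z⟩⟩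
    refine Groth.Agent.S9835.result Z (fun z => i ⁻¹ᵁ U z)
      (top_unique fun z _ => TopologicalSpace.Opens.mem_iSup.2 ⟨z, hzU z⟩) (fun z => (hU z).preimage i) (fun z => ?_) V hV
    have hs : Function.Surjective (i.app (U z)).hom := i.app_surjective (U z) (hU z)
    haveI : (RingHom.ker (i.app (U z)).hom).IsPrime := RingHom.ker_isPrime _
    exact GrothLib.N2.isN2_of_ringEquiv (RingHom.quotientKerEquivOfSurjective hs) ((hN (U z) (hU z)).2 _)
  · intro h U hU
    refine ⟨IsLocallyNoetherian.component_noetherian ⟨U, hU⟩, fun p hp => ?_⟩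
    let x : X := hU.fromSpec ⟨p, hp⟩
    have hxU : x ∈ U := hU.range_fromSpec.le ⟨_, rfl⟩
    let T : TopologicalSpace.Closeds X := ⟨closure {x}, isClosed_closure⟩
    haveI := GrothLib.Euler.isIntegral_vanishingIdeal T isIrreducible_singleton.closure
    let I := Scheme.IdealSheafData.vanishingIdeal T
    have hI : I.ideal ⟨U, hU⟩ = p := by
      show PrimeSpectrum.vanishingIdeal (hU.fromSpec ⁻¹' closure {x}) = p
      have e : hU.fromSpec ⁻¹' closure {x} = closure {(⟨p, hp⟩ : PrimeSpectrum Γ(X, U))} := by
        rw [hU.fromSpec.isOpenEmbedding.isOpenMap.preimage_closure_eq_closure_preimage hU.fromSpec.continuous]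
        congr 1
        ext q
        exact ⟨fun hq => hU.fromSpec.isOpenEmbedding.injective hq, fun hq => congrArg hU.fromSpec hq⟩
      refine (congrArg PrimeSpectrum.vanishingIdeal e).trans ?_
      rw [PrimeSpectrum.closure_singleton, PrimeSpectrum.vanishingIdeal_zeroLocus_eq_radical]
      exact hp.radical
    let V : I.subscheme.Opens := I.subschemeι ⁻¹ᵁ U
    haveI : Nonempty V := by
      obtain ⟨z, hz⟩ : x ∈ Set.range I.subschemeι := by
        rw [Scheme.IdealSheafData.range_subschemeι, Scheme.IdealSheafData.coe_support_vanishingIdeal]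
        exact subset_closure (Set.mem_singleton x)
      exact ⟨⟨z, show I.subschemeι z ∈ U by rw [hz]; exact hxU⟩⟩
    exact GrothLib.N2.isN2_of_ringEquiv
      ((I.subschemeObjIso ⟨U, hU⟩).commRingCatIsoToRingEquiv.trans (Ideal.quotEquivOfEq hI))
      (h I.subscheme I.subschemeι V (hU.preimage I.subschemeι))

end Groth.Agent.S9802
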