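import Groth.Statements.S9804

set_option autoImplicit false
universe u
open CategoryTheory AlgebraicGeometry TopologicalSpace
open Props

namespace Groth.Agent.S9804

/-- For quasi-affine schemes U and V and an open immersion j : U → V, the scheme U is the fibre product
of the composite U → V → Spec Γ(V, O_V) and the morphism Spec Γ(U, O_U) → Spec Γ(V, O_V) induced by
restriction of sections along j: the square whose sides are the identity of U, the canonical
morphism U → Spec Γ(U, O_U), that composite and that induced morphism is cartesian. -/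
theorem result {U V : Scheme.{u}} (j : U ⟶ V)
    [IsOpenImmersion j] [U.IsQuasiAffine] [V.IsQuasiAffine] :
    IsPullback (𝟙 U) U.toSpecΓ (j ≫ V.toSpecΓ) (Spec.map j.appTop) := by
  refine IsOpenImmersion.isPullback _ _ _ _ ?_ ?_
  · rw [Category.id_comp]; exact (Scheme.toSpecΓ_naturality j).symm
  · apply le_antisymm
    · rintro p ⟨u, hu⟩
      obtain ⟨g, hgsub, hug⟩ : ∃ g : Γ(V, ⊤), (PrimeSpectrum.basicOpen g : Set (PrimeSpectrum Γ(V, ⊤))) ⊆
          Set.range (j ≫ V.toSpecΓ) ∧ (j ≫ V.toSpecΓ).base u ∈ PrimeSpectrum.basicOpen g := by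
        obtain ⟨_, ⟨_, ⟨g, rfl⟩, rfl⟩, h1, h2⟩ := (PrimeSpectrum.isBasis_basic_opens
          (R := Γ(V, ⊤))).exists_subset_of_mem_open (show (j ≫ V.toSpecΓ).base u ∈ Set.range (j ≫ V.toSpecΓ) from ⟨u, rfl⟩)
            (j ≫ V.toSpecΓ).isOpenEmbedding.isOpen_range
        exact ⟨g, h2, h1⟩
      set h := j.appTop g
      have hpre : (j ≫ V.toSpecΓ) ⁻¹ᵁ PrimeSpectrum.basicOpen g = U.basicOpen h := by
        rw [Scheme.Hom.comp_preimage, Scheme.toSpecΓ_preimage_basicOpen, Scheme.preimage_basicOpen_top]
      have haff : IsAffineOpen (U.basicOpen h) := by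
        rw [← hpre, ← Scheme.Hom.isAffineOpen_iff_of_isOpenImmersion (j ≫ V.toSpecΓ)]
        convert! IsAffineOpen.Spec_basicOpen g
        exact SetLike.coe_injective (Set.image_preimage_eq_of_subset hgsub)
      have hp : p ∈ PrimeSpectrum.basicOpen h := by
        have h1 : (Spec.map j.appTop).base p ∈ PrimeSpectrum.basicOpen g := by
          rw [← hu]; exact hug
        exact h1
      have := isLocalization_basicOpen_of_qcqs (X := U) isCompact_univ isQuasiSeparated_univ h
      have hp' : p ∈ Set.range (PrimeSpectrum.comap (algebraMap Γ(U, ⊤) Γ(U, U.basicOpen h))) := by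
        rw [PrimeSpectrum.localization_away_comap_range Γ(U, U.basicOpen h) h]
        exact hp
      obtain ⟨q, hq⟩ := hp'
      obtain ⟨w, hw⟩ := (haff.isoSpec.hom).surjective q
      refine ⟨(U.basicOpen h).ι.base w, ?_⟩
      rw [← hq, ← hw]
      have e := congrArg (fun g => g.base w) (Scheme.Opens.toSpecΓ_SpecMap_presheaf_map_top (U := U.basicOpen h))
      exact e.symm.trans rfl
    · rintro _ ⟨u, rfl⟩
      exact ⟨u, congrArg (fun g => g.base u) (Scheme.toSpecΓ_naturality j)⟩

end Groth.Agent.S9804
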