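import Groth.Statements.S9805
import Groth.Agent.Lib.LocFree8.Tilde
import Groth.Agent.Lib.OX.TildePerfect

set_option autoImplicit false
universe u
open CategoryTheory AlgebraicGeometry TopologicalSpace
open Props

namespace Groth.Agent.S9805

/-- A quasi-coherent module on a scheme is flat and of finite presentation if and only if it is finite
locally free. -/
theorem result (X : Scheme.{u}) (M : X.Modules) (hM : Coh.IsQCoh M) :
    (FlatMod.IsFlat M ∧ CohB1.IsFP M) ↔ FlatMod.IsFinLocFree M := by
    haveI := hM
    rw [GrothLib.LocFree8.isFinLocFree_iff_fp_free M]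
    refine ⟨fun ⟨hf, hp⟩ => ⟨hp, fun x => ?_⟩, fun ⟨hp, hf⟩ => ⟨fun x => ?_, hp⟩⟩
    · haveI : Module.Flat (X.presheaf.stalk x) (M.presheaf.stalk x) := hf x
      haveI := GrothLib.QCoh.stalk_finite M ⟨hM, inferInstance⟩ x
      exact Module.free_of_flat_of_isLocalRing
    · haveI := hf x
      exact Module.Flat.of_free

end Groth.Agent.S9805
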