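import Groth.Statements.S9807
import Groth.Agent.Lib.ArtinTate.Space
import Groth.Agent.Lib.BlowUp17.Generization

set_option autoImplicit false
universe u
open CategoryTheory AlgebraicGeometry TopologicalSpace
open Props

namespace Groth.Agent.S9807

/-- A locally Noetherian scheme is regular (all local rings regular) as soon as its local rings at
closed points are regular, and conversely. -/
theorem result (X : Scheme.{u}) [IsLocallyNoetherian X] :
    (∀ x : X, IsRegularLocalRing (X.presheaf.stalk x)) ↔
      ∀ x : X, IsClosed ({x} : Set X) → IsRegularLocalRing (X.presheaf.stalk x) := by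
    refine ⟨fun h x _ => h x, fun h x => ?_⟩
    obtain ⟨y, hy, hyc⟩ := GrothLib.ArtinTate.exists_isClosed_singleton_of_isClosed
      (isClosed_closure (s := ({x} : Set X))) ⟨x, subset_closure rfl⟩
    haveI := h y hyc
    exact GrothLib.BlowUp17.isRegularLocalRing_of_specializes (specializes_iff_mem_closure.2 hy)

end Groth.Agent.S9807
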