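import Groth.Statements.S9810
import Groth.Agent.Lib.BrnchSum.Basic

set_option autoImplicit false
universe u
open Brnch

namespace Groth.Agent.S9810

theorem minimalPrimes_finite_quotient {A : Type u} [CommRing A] (p : minimalPrimes A) :
    (minimalPrimes (A ⧸ p.1)).Finite := by
  haveI : p.1.IsPrime := p.2.1.1
  exact (IsDomain.minimalPrimes_eq_singleton_bot (A ⧸ p.1)).symm ▸ Set.finite_singleton _

/-- The maximal ideals of the normalization, by components. -/
theorem exists_equiv_maximalSpectrum {A : Type u} [CommRing A] (hfin : (minimalPrimes A).Finite)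
    (e : CAlg2.normRed A ≃+* ∀ p : minimalPrimes A, CAlg2.normRed (A ⧸ p.1)) :
    ∃ E : (Σ p : minimalPrimes A, MaximalSpectrum (CAlg2.normRed (A ⧸ p.1))) ≃
      MaximalSpectrum (CAlg2.normRed A),
      ∀ x, (E x).asIdeal = (x.2.asIdeal.comap (Pi.evalRingHom (fun p : minimalPrimes A => CAlg2.normRed (A ⧸ p.1)) x.1)).comap e.toRingHom := by
  haveI := hfin.fintype
  obtain ⟨E, hE⟩ := GrothLib.BrnchSum.exists_equiv_maximalSpectrum_pi
    fun p : minimalPrimes A => CAlg2.normRed (A ⧸ p.1)
  let F : MaximalSpectrum (∀ p : minimalPrimes A, CAlg2.normRed (A ⧸ p.1)) ≃ MaximalSpectrum (CAlg2.normRed A) :=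
    { toFun := fun m => ⟨m.asIdeal.comap e.toRingHom,
        haveI := m.isMaximal; Ideal.comap_isMaximal_of_surjective _ e.surjective⟩
      invFun := fun m => ⟨m.asIdeal.comap e.symm.toRingHom,
        haveI := m.isMaximal; Ideal.comap_isMaximal_of_surjective _ e.symm.surjective⟩
      left_inv := fun m => MaximalSpectrum.ext (Ideal.ext fun x => by
        show e (e.symm x) ∈ m.asIdeal ↔ _
        rw [e.apply_symm_apply])
      right_inv := fun m => MaximalSpectrum.ext (Ideal.ext fun x => by
        show e.symm (e x) ∈ m.asIdeal ↔ _
        rw [e.symm_apply_apply]) }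
  exact ⟨E.trans F, fun x => by rw [← hE x]; rfl⟩

/-- Branches, in terms of the local ring: for a local ring A with finitely many minimal prime ideals,
the number of branches of A is the sum over the minimal primes p of the numbers of branches of the
local domains A/p. Geometrically: the number of branches of a scheme at a point is the sum of the
numbers of branches at that point of the irreducible components passing through it. -/
theorem result (A : Type u) [CommRing A] [IsLocalRing A]
    (h : (minimalPrimes A).Finite) :
    Brnch.numBranches A =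
      ∑ᶠ p : minimalPrimes A,
        haveI : p.1.IsPrime := p.2.1.1
        Brnch.numBranches (A ⧸ p.1) := by
  classical
  haveI := h.fintype
  obtain ⟨e, -⟩ := GrothLib.BrnchSum.exists_equiv_normRed h
  obtain ⟨E, -⟩ := exists_equiv_maximalSpectrum h e
  rw [finsum_eq_sum_of_fintype, Brnch.numBranches, if_pos h, ← ENat.card_congr E, GrothLib.BrnchSum.enatCard_sigma]
  refine Finset.sum_congr rfl fun p _ => ?_
  rw [Brnch.numBranches, if_pos (minimalPrimes_finite_quotient p)]

end Groth.Agent.S9810
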