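import Groth.Statements.S9814
import Groth.Agent.Lib.VA.SepLoci

set_option autoImplicit false
universe u
open CategoryTheory CategoryTheory.Limits AlgebraicGeometry TopologicalSpace
open Props

namespace Groth.Agent.S9814

/-- Let L be an invertible module on a scheme X. If the opens X_s (s a global section of a positive
tensor power of L) form a basis for the topology, then so do the affine ones among them. -/
theorem result (X : Scheme.{u}) (L : X.Modules) (hL : PicF.IsInvertible L)
    (hB : Opens.IsBasis {U : X.Opens | ∃ (n : ℕ) (s : Coh.structureModule X ⟶ CohB1.tensorPow L (n + 1)),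
      U = CohB1.genLocus _ s}) :
    Opens.IsBasis {U : X.Opens | IsAffineOpen U ∧ ∃ (n : ℕ) (s : Coh.structureModule X ⟶ CohB1.tensorPow L (n + 1)),
      U = CohB1.genLocus _ s} := by
    obtain ⟨c, ⟨e⟩⟩ := GrothLib.Ample.exists_cocycle hL
    rw [Opens.isBasis_iff_nbhd] at hB ⊢
    intro O x hx
    obtain ⟨W, hW, hxW, hWO⟩ := exists_isAffineOpen_mem_and_subset hx
    obtain ⟨U, ⟨n, s, rfl⟩, hxU, hUW⟩ := hB (show x ∈ W from hxW)
    refine ⟨_, ⟨?_, n, s, rfl⟩, hxU, hUW.trans hWO⟩
    obtain ⟨d⟩ := c.nonempty_tensorPow_iso e (n + 1)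
    obtain ⟨a, ha⟩ := c.exists_sect_of_section d s
    rw [← ha] at hUW ⊢
    exact c.isAffineOpen_locus_of_le a hW hUW

end Groth.Agent.S9814
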