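import Groth.Statements.S9817
import Groth.Agent.Lib.GrTilde.OpenAmp

set_option autoImplicit false
universe u
open CategoryTheory CategoryTheory.Limits AlgebraicGeometry TopologicalSpace
open Props

namespace Groth.Agent.S9817

/-- For a quasi-compact scheme X admitting an open immersion j into Proj of a graded ring, some positive
twist O(d) pulls back along j to an ample invertible module on X. -/
theorem result {R A : Type u} [CommRing R] [CommRing A]
    [Algebra R A] (𝒜 : ℕ → Submodule R A) [GradedAlgebra 𝒜] (X : Scheme.{u}) [CompactSpace X]
    (j : X ⟶ Proj 𝒜) [IsOpenImmersion j] :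
    ∃ d : ℕ, 0 < d ∧ CohB1.IsAmple ((Scheme.Modules.pullback j).obj (Twist.twist 𝒜 (d : ℤ))) := by
  exact GrothLib.GrTilde.exists_isAmple_pullback j

end Groth.Agent.S9817
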