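import Groth.Statements.S9818
import Groth.Agent.Lib.QCoh.Qcqs
import Groth.Agent.Lib.QCoh.Extension
import Groth.Agent.Lib.QCoh.Abelian
import Mathlib.CategoryTheory.Abelian.Basic

set_option autoImplicit false
universe u
open CategoryTheory CategoryTheory.Limits AlgebraicGeometry TopologicalSpace Opposite
open Props

namespace Groth.Agent.S9818

/-- For an open subscheme U of a scheme X with quasi-compact inclusion, a quasi-coherent module G on U
with a map to the restriction of a quasi-coherent module F on X extends to a quasi-coherent module H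
on X with a map to F restricting to the given one. Taking F = 0, every quasi-coherent module on U
extends to a quasi-coherent module on X. -/
theorem result {X : Scheme.{u}} (U : X.Opens) [QuasiCompact U.ι]
    (F : X.Modules) [Coh.IsQCoh F] (G : (U : Scheme.{u}).Modules) [Coh.IsQCoh G] (φ : G ⟶ F.restrict U.ι) :
    ∃ (H : X.Modules) (ψ : H ⟶ F) (e : H.restrict U.ι ≅ G), Coh.IsQCoh H ∧
      e.hom ≫ φ = (Scheme.Modules.restrictFunctor U.ι).map ψ := by
  let R := Scheme.Modules.restrictFunctor U.ι
  let P := Scheme.Modules.pushforward U.ι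
  let η : F ⟶ P.obj (R.obj F) := (Scheme.Modules.restrictAdjunction U.ι).unit.app F
  let ε := (Scheme.Modules.restrictAdjunction U.ι).counit
  haveI hG' : (P.obj G).IsQuasicoherent :=
    @GrothLib.QCoh.isQuasicoherent_pushforward _ _ U.ι _ _ G ‹Coh.IsQCoh G›
  haveI hF : F.IsQuasicoherent := ‹Coh.IsQCoh F›
  haveI hFU : (P.obj (R.obj F)).IsQuasicoherent :=
    @GrothLib.QCoh.isQuasicoherent_pushforward _ _ U.ι _ _ (F.restrict U.ι) (inferInstance : (F.restrict U.ι).IsQuasicoherent)
  let H := pullback η (P.map φ)
  haveI : (F ⊞ P.obj G).IsQuasicoherent := by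
    let S := ShortComplex.mk (biprod.inl : F ⟶ F ⊞ P.obj G) (biprod.snd : F ⊞ P.obj G ⟶ P.obj G) biprod.inl_snd
    haveI : S.X₁.IsQuasicoherent := hF
    haveI : S.X₃.IsQuasicoherent := hG'
    exact GrothLib.QCoh.isQuasicoherent_X₂ (S := S)
      ((ShortComplex.Splitting.ofHasBinaryBiproduct F (P.obj G)).shortExact)
  haveI : (kernel (biprod.desc η (-(P.map φ)))).IsQuasicoherent := GrothLib.QCoh.isQuasicoherent_kernel _
  let eH : kernel (biprod.desc η (-(P.map φ))) ≅ H :=
    ((kernelIsKernel (biprod.desc η (-(P.map φ)))).conePointUniqueUpToIso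
      (CategoryTheory.Abelian.PullbackToBiproductIsKernel.isLimitPullbackToBiproduct η (P.map φ)))
  have hHq : H.IsQuasicoherent := GrothLib.QCoh.isQuasicoherent_of_iso eH
  haveI hRη : IsIso (R.map η) := by
    have h := (Scheme.Modules.restrictAdjunction U.ι).left_triangle_components F
    exact IsIso.of_isIso_fac_right h
  have sq : IsPullback (R.map (pullback.fst η (P.map φ))) (R.map (pullback.snd η (P.map φ))) (R.map η) (R.map (P.map φ)) :=
    (IsPullback.of_hasPullback η (P.map φ)).map R
  haveI : IsIso (R.map (pullback.snd η (P.map φ))) := sq.isIso_snd_of_isIso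
  refine ⟨H, pullback.fst η (P.map φ), asIso (R.map (pullback.snd η (P.map φ)) ≫ ε.app G), hHq, ?_⟩
  rw [asIso_hom, Category.assoc]
  erw [← ε.naturality φ]
  show R.map (pullback.snd η (P.map φ)) ≫ R.map (P.map φ) ≫ ε.app (R.obj F) = _
  rw [← Category.assoc, ← sq.w, Category.assoc]
  erw [(Scheme.Modules.restrictAdjunction U.ι).left_triangle_components F]
  exact Category.comp_id _

end Groth.Agent.S9818
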