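import Groth.Statements.S9822
import Mathlib.AlgebraicGeometry.Limits

set_option autoImplicit false
universe u
open CategoryTheory CategoryTheory.Limits AlgebraicGeometry TopologicalSpace Opposite
open Props

namespace Groth.Agent.S9822

/-- A scheme is irreducible if and only if it is nonempty and every nonempty affine open subset is
irreducible. -/
theorem result (X : Scheme.{u}) :
    IrreducibleSpace X ↔ Nonempty X ∧ ∀ U : X.Opens, IsAffineOpen U → (U : Set X).Nonempty → IsIrreducible (U : Set X) := by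
  constructor
  · intro h
    refine ⟨inferInstance, fun U _ hne => ⟨hne, IsPreirreducible.open_subset ?_ U.2 (Set.subset_univ _)⟩⟩
    exact PreirreducibleSpace.isPreirreducible_univ
  · rintro ⟨hne, h⟩
    refine @IrreducibleSpace.mk _ _ ⟨?_⟩ hne
    rintro u v hu hv ⟨a, -, ha⟩ ⟨b, -, hb⟩
    obtain ⟨A, hA, haA, -⟩ := exists_isAffineOpen_mem_and_subset (U := ⊤) (x := a) trivial
    obtain ⟨B, hB, hbB, -⟩ := exists_isAffineOpen_mem_and_subset (U := ⊤) (x := b) trivial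
    by_cases hAB : ((A : Set X) ∩ B).Nonempty
    · obtain ⟨c, hcA, hcB⟩ := hAB
      obtain ⟨z, hz, hzu, hzB⟩ := (h A hA ⟨a, haA⟩).2 u (B : Set X) hu B.2 ⟨a, haA, ha⟩ ⟨c, hcA, hcB⟩
      obtain ⟨w, hw, hwu, hwv⟩ := (h B hB ⟨b, hbB⟩).2 u v hu hv ⟨z, hzB, hzu⟩ ⟨b, hbB, hb⟩
      exact ⟨w, trivial, hwu, hwv⟩
    · exfalso
      have hd : Disjoint A B := by
        rw [disjoint_iff, eq_bot_iff]
        intro x hx
        exact hAB ⟨x, hx⟩
      have hAB' : IsAffineOpen (A ⊔ B) := hA.sup_of_disjoint hB hd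
      obtain ⟨z, -, hzA, hzB⟩ := (h _ hAB' ⟨a, Or.inl haA⟩).2 (A : Set X) (B : Set X) A.2 B.2
        ⟨a, Or.inl haA, haA⟩ ⟨b, Or.inr hbB, hbB⟩
      exact hAB ⟨z, hzA, hzB⟩

end Groth.Agent.S9822
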