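import Groth.Statements.S9823
import Groth.Agent.Lib.FgSupport6.Exists
-- import your own Groth.Agent.* helpers here

set_option autoImplicit false
universe u
open CategoryTheory CategoryTheory.Limits AlgebraicGeometry TopologicalSpace Opposite
open Props

namespace Groth.Agent.S9823

/-- In a quasi-compact quasi-separated scheme, an open subset is quasi-compact exactly when its
complement is the support of some quasi-coherent ideal sheaf of finite type. -/
theorem result (X : Scheme.{u}) [CompactSpace X] [QuasiSeparatedSpace X]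
    (U : X.Opens) :
    IsCompact (U : Set X) ↔
      ∃ I : X.IdealSheafData, (∀ V : X.affineOpens, (I.ideal V).FG) ∧ (I.support : Set X) = (U : Set X)ᶜ := by
  refine ⟨GrothLib.FgSupport6.exists_fg_support_eq U, fun ⟨I, hI, hs⟩ => ?_⟩
  classical
  let 𝒰 := X.affineCover.finiteSubcover
  have hcov : ∀ y : X, ∃ i, y ∈ (𝒰.f i).opensRange := fun y => ⟨_, 𝒰.covers y⟩
  let W : 𝒰.I₀ → X.affineOpens := fun i => ⟨(𝒰.f i).opensRange, isAffineOpen_opensRange _⟩
  choose G hG using fun i => hI (W i)
  have : (U : Set X) = ⋃ i, ⋃ g ∈ G i, (X.basicOpen g : Set X) := by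
    ext x
    simp only [Set.mem_iUnion]
    constructor
    · intro hx
      obtain ⟨i, hi⟩ := hcov x
      have hxs : x ∉ (I.support : Set X) := by rw [hs]; exact not_not.mpr hx
      rw [SetLike.mem_coe, Scheme.IdealSheafData.mem_support_iff_of_mem (U := W i) hi, ← hG i,
        Scheme.zeroLocus_span, Scheme.mem_zeroLocus_iff] at hxs
      push Not at hxs
      obtain ⟨g, hg, hxg⟩ := hxs
      exact ⟨i, g, hg, hxg⟩
    · rintro ⟨i, g, hg, hxg⟩
      by_contra hxU
      have hxs : x ∈ I.support := by
        rw [← SetLike.mem_coe, hs]; exact hxU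
      rw [Scheme.IdealSheafData.mem_support_iff_of_mem (U := W i) (X.basicOpen_le g hxg), ← hG i,
        Scheme.zeroLocus_span, Scheme.mem_zeroLocus_iff] at hxs
      exact hxs g hg hxg
  rw [this]
  exact isCompact_iUnion fun i => (G i).finite_toSet.isCompact_biUnion fun g _ =>
    ((W i).2.basicOpen g).isCompact

end Groth.Agent.S9823
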