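import Mathlib.AlgebraicGeometry.PullbackCarrier
import Groth.Statements.S9830
import Mathlib.AlgebraicGeometry.Morphisms.Immersion
import Mathlib.AlgebraicGeometry.Morphisms.Separated

set_option autoImplicit false
universe u
open CategoryTheory AlgebraicGeometry TopologicalSpace
open Props

namespace Groth.Agent.S9830

open CategoryTheory.Limits

/-- A scheme whose underlying space is Hausdorff is separated. (The published statement assumes X of
dimension zero; a Hausdorff scheme always has dimension at most zero, so this row omits that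
hypothesis.) -/
theorem result (X : Scheme.{u}) [T2Space X] : X.IsSeparated := by
    let t := CategoryTheory.Limits.terminal.from X
    refine ⟨⟨?_⟩⟩
    haveI hI : IsImmersion (pullback.diagonal t) := inferInstance
    haveI : IsPreimmersion (pullback.diagonal t) := hI.toIsPreimmersion
    refine IsClosedImmersion.of_isPreimmersion _ ?_
    rw [← isOpen_compl_iff, isOpen_iff_forall_mem_open]
    intro z hz
    have key : ∀ y, pullback.fst t t (pullback.diagonal t y) = y ∧
        pullback.snd t t (pullback.diagonal t y) = y := fun y =>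
      ⟨by rw [← Scheme.Hom.comp_apply, pullback.diagonal_fst]; rfl,
       by rw [← Scheme.Hom.comp_apply, pullback.diagonal_snd]; rfl⟩
    by_cases hx : pullback.fst t t z = pullback.snd t t z
    · obtain ⟨U, hU, hxU, -⟩ := exists_isAffineOpen_mem_and_subset (U := ⊤) (x := pullback.fst t t z) trivial
      haveI : IsAffine U := hU
      let j : pullback (U.ι ≫ t) (U.ι ≫ t) ⟶ pullback t t :=
        pullback.map _ _ _ _ U.ι U.ι (𝟙 _) (by simp) (by simp)
      have hj : IsOpenImmersion j := inferInstance
      obtain ⟨w, hw⟩ : z ∈ Set.range j := by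
        rw [Scheme.Pullback.range_map]
        refine ⟨?_, ?_⟩ <;> simp only [Set.mem_preimage, Scheme.Opens.range_ι, SetLike.mem_coe]
        · exact hxU
        · exact hx ▸ hxU
      have hd : j ≫ 𝟙 _ = j := Category.comp_id _
      have hnat : pullback.diagonal (U.ι ≫ t) ≫ j = U.ι ≫ pullback.diagonal t := by
        ext1 <;> simp [j, pullback.map, pullback.lift_fst, pullback.lift_snd]
      have hcl : IsClosed (Set.range (pullback.diagonal (U.ι ≫ t))) :=
        (pullback.diagonal (U.ι ≫ t)).isClosedEmbedding.isClosed_range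
      refine ⟨j '' (Set.range (pullback.diagonal (U.ι ≫ t)))ᶜ, ?_,
        j.isOpenEmbedding.isOpenMap _ hcl.isOpen_compl, w, ?_, hw⟩
      · rintro _ ⟨w', hw', rfl⟩ ⟨y, hy⟩
        have hfst : j ≫ pullback.fst t t = pullback.fst _ _ ≫ U.ι := by simp [j, pullback.map, pullback.lift_fst]
        have hy1 : y = U.ι (pullback.fst (U.ι ≫ t) (U.ι ≫ t) w') := by
          rw [← Scheme.Hom.comp_apply, ← hfst, Scheme.Hom.comp_apply, ← hy, (key y).1]
        refine hw' ⟨pullback.fst (U.ι ≫ t) (U.ι ≫ t) w', j.isOpenEmbedding.injective ?_⟩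
        rw [← Scheme.Hom.comp_apply, hnat, Scheme.Hom.comp_apply, ← hy1, hy]
      · rintro ⟨u, rfl⟩
        refine hz ⟨U.ι u, ?_⟩
        rw [← hw, ← Scheme.Hom.comp_apply, ← Scheme.Hom.comp_apply, hnat]
    · obtain ⟨A, B, hA, hB, h1, h2, hAB⟩ := t2_separation hx
      refine ⟨pullback.fst t t ⁻¹' A ∩ pullback.snd t t ⁻¹' B, ?_,
        (hA.preimage (pullback.fst t t).continuous).inter (hB.preimage (pullback.snd t t).continuous), h1, h2⟩
      rintro _ ⟨ha, hb⟩ ⟨y, rfl⟩
      rw [Set.mem_preimage, (key y).1] at ha
      rw [Set.mem_preimage, (key y).2] at hb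
      exact Set.disjoint_left.mp hAB ha hb

end Groth.Agent.S9830
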