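import Groth.Statements.S9831
import Groth.Agent.S10848
import Groth.Agent.Lib.QCoh.Qcqs

set_option autoImplicit false
universe u
open CategoryTheory CategoryTheory.Limits AlgebraicGeometry TopologicalSpace Opposite
open Props

namespace Groth.Agent.S9831

/-- On a quasi-compact quasi-separated scheme, a quasi-coherent module of finite type on a quasi-compact
open U is the restriction of a quasi-coherent module of finite type on the whole scheme. -/
theorem result {X : Scheme.{u}} [CompactSpace X]
    [QuasiSeparatedSpace X] (U : X.Opens) (hU : IsCompact (U : Set X)) (G : (U : Scheme.{u}).Modules)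
    [Coh.IsQCoh G] (hG : CohB1.IsFT G) :
    ∃ G' : X.Modules, Coh.IsQCoh G' ∧ CohB1.IsFT G' ∧ Nonempty (G'.restrict U.ι ≅ G) := by
  haveI : QuasiCompact U.ι := GrothLib.QCoh.quasiCompact_ι_of_forall U fun V hV =>
    QuasiSeparatedSpace.inter_isCompact (V : Set X) (U : Set X) V.2 hV.isCompact U.2 hU
  haveI : ((Scheme.Modules.pushforward U.ι).obj G).IsQuasicoherent :=
    @GrothLib.QCoh.isQuasicoherent_pushforward _ _ U.ι _ _ G ‹Coh.IsQCoh G›
  haveI : Coh.IsQCoh ((Scheme.Modules.pushforward U.ι).obj G) := by assumption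
  obtain ⟨F, i, e, -, h1, h2, -⟩ := Groth.Agent.S10848.result U hU ((Scheme.Modules.pushforward U.ι).obj G) G hG
    (inv ((Scheme.Modules.restrictAdjunction U.ι).counit.app G))
  exact ⟨F, h1, h2, ⟨e⟩⟩

end Groth.Agent.S9831
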