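import Groth.Statements.S9832
import Mathlib
import Groth.Agent.Lib.JacAway4.Basic

set_option autoImplicit false
universe u
open Props

namespace Groth.Agent.S9832

/-- For a Noetherian ring R and an ideal I inside the Jacobson radical of R, the complement of V(I) in
Spec R is a Jacobson topological space. -/
theorem result (R : Type u) [CommRing R] [IsNoetherianRing R]
    (I : Ideal R) (hI : I ≤ (⊥ : Ideal R).jacobson) :
    JacobsonSpace ↥((PrimeSpectrum.zeroLocus (I : Set R))ᶜ) := by
  let U : I → TopologicalSpace.Opens ↥((PrimeSpectrum.zeroLocus (I : Set R))ᶜ) := fun f =>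
    ⟨Subtype.val ⁻¹' (PrimeSpectrum.basicOpen (f : R) : Set (PrimeSpectrum R)),
      (PrimeSpectrum.basicOpen (f : R)).2.preimage continuous_subtype_val⟩
  have hU : TopologicalSpace.IsOpenCover U := by
    rw [TopologicalSpace.IsOpenCover, eq_top_iff]
    rintro x -
    obtain ⟨f, hf, hfx⟩ := Set.not_subset.1 x.2
    exact TopologicalSpace.Opens.mem_iSup.2 ⟨⟨f, hf⟩, hfx⟩
  refine hU.jacobsonSpace_iff.2 fun f => ?_
  haveI := GrothLib.JacAway4.isJacobsonRing_away (f : R) (hI f.2)
  haveI : JacobsonSpace (PrimeSpectrum (Localization.Away (f : R))) :=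
    PrimeSpectrum.isJacobsonRing_iff_jacobsonSpace.1 inferInstance
  haveI : JacobsonSpace ↥(PrimeSpectrum.basicOpen (f : R) : Set (PrimeSpectrum R)) := by
    have h := PrimeSpectrum.localization_away_isOpenEmbedding (Localization.Away (f : R)) (f : R)
    have e := h.isEmbedding.toHomeomorph.trans
      (Homeomorph.setCongr (PrimeSpectrum.localization_away_comap_range (Localization.Away (f : R)) (f : R)))
    exact JacobsonSpace.of_isOpenEmbedding e.symm.isOpenEmbedding
  refine JacobsonSpace.of_isOpenEmbedding (f := fun x : U f => (⟨x.1.1, x.2⟩ :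
    ↥(PrimeSpectrum.basicOpen (f : R) : Set (PrimeSpectrum R)))) ?_
  refine Topology.IsOpenEmbedding.of_comp _ (PrimeSpectrum.basicOpen (f : R)).2.isOpenEmbedding_subtypeVal ?_
  exact (PrimeSpectrum.isClosed_zeroLocus (I : Set R)).isOpen_compl.isOpenEmbedding_subtypeVal.comp
    (U f).2.isOpenEmbedding_subtypeVal

end Groth.Agent.S9832
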