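import Groth.Statements.S9833
import Groth.Agent.Lib.N2.Scheme8

set_option autoImplicit false
universe u
open CategoryTheory AlgebraicGeometry TopologicalSpace
open Props

namespace Groth.Agent.S9833

/-- If a scheme has an affine open covering by spectra of Nagata rings, then the coordinate ring of
every affine open is Nagata. -/
theorem result (X : Scheme.{u}) {ι : Type u} (U : ι → X.Opens)
    (hU : iSup U = ⊤) (haff : ∀ i, IsAffineOpen (U i)) (hN : ∀ i, CAlg.IsNagata Γ(X, U i))
    (V : X.Opens) (hV : IsAffineOpen V) : CAlg.IsNagata Γ(X, V) := by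
    exact GrothLib.N2.isNagata_affineOpen X (fun i => ⟨U i, haff i⟩) hU ⟨V, hV⟩ hN

end Groth.Agent.S9833
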