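import Groth.Statements.S9836
import Groth.Agent.Lib.ClosedPush22.HomO
import Groth.Agent.Lib.StratVanish6.Filtration
import Groth.Agent.Lib.AffHom.Basic

set_option autoImplicit false
set_option backward.isDefEq.respectTransparency false
set_option linter.style.haveILetI false
universe u
open CategoryTheory CategoryTheory.Limits AlgebraicGeometry
open Props

namespace Groth.Agent.S9836

/-- For a closed immersion i : Z → X with ideal sheaf of finite type and a quasi-coherent O_X-module F,
the subsheaf of sections of F annihilated by the ideal, namely i_* Hom(O_Z, F) for the right adjoint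
Hom(O_Z, -) of i_*, is a quasi-coherent O_X-module. -/
theorem result {Z X : Scheme.{u}} (i : Z ⟶ X)
    [IsClosedImmersion i] [LocallyOfFinitePresentation i] [Dual3.HasHomO i] (F : X.Modules) [Coh.IsQCoh F] :
    Coh.IsQCoh ((Scheme.Modules.pushforward i).obj ((Dual3.homO i).obj F)) := by
  haveI : F.IsQuasicoherent := ‹Coh.IsQCoh F›
  let ε := (Dual3.homOAdj i).counit.app F
  let P := GrothLib.QCoh.killed F i.ker
  have hI : BlowUp.IsFiniteTypeIdeal i.ker := fun U => by
    rw [Scheme.Hom.ker_apply]
    have hfp : (i.app U.1).hom.FinitePresentation := by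
      have h := i.finitePresentation_appLE U.2 (U.2.preimage i) le_rfl
      rwa [Scheme.Hom.appLE_eq_app] at h
    letI := (i.app U.1).hom.toAlgebra
    haveI : Algebra.FinitePresentation Γ(X, U.1) Γ(Z, i ⁻¹ᵁ U.1) := hfp
    exact Algebra.FinitePresentation.ker_fG_of_surjective (Algebra.ofId Γ(X, U.1) Γ(Z, i ⁻¹ᵁ U.1)) (i.app_surjective U.1 U.2)
  haveI : P.obj.IsQuasicoherent := GrothLib.StratVanish6.killed_isQuasicoherent_of_fg F i.ker hI
  obtain ⟨g, hg⟩ := GrothLib.ClosedPush22.exists_fac i (GrothLib.QCoh.killed_killedByIdeal F i.ker) P.ι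
  let h : P.obj ⟶ (Scheme.Modules.pushforward i).obj ((Dual3.homO i).obj F) :=
    (Scheme.Modules.pullbackPushforwardAdjunction i).unit.app P.obj ≫ (Scheme.Modules.pushforward i).map g
  have hh : h ≫ ε = P.ι := (Category.assoc _ _ _).trans hg
  have hinj : ∀ U : X.affineOpens, Function.Injective (h.app U.1) := fun U a b hab =>
    P.ι_app_injective U.1 (by
      rw [← hh]
      exact congrArg (ε.app U.1) hab)
  haveI : Mono h := ⟨fun {T} a b hab => GrothLib.AffHom.hom_ext fun U m => hinj U congr($(hab).app U.1 m)⟩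
  haveI : Epi h := ⟨fun {T} a b hab => GrothLib.AffHom.hom_ext fun U m => by
    have hm := ((GrothLib.ClosedPush22.sections_counit i F U).2 (ε.app U.1 m)).1 ⟨m, rfl⟩
    have hs := (GrothLib.QCoh.killed_mem_iff F i.ker U _).2 hm
    have e : h.app U.1 (P.lift _ hs) = m := by
      refine (GrothLib.ClosedPush22.sections_counit i F U).1 ?_
      show (h ≫ ε).app U.1 (P.lift _ hs) = ε.app U.1 m
      rw [hh]
      exact P.ι_app_lift _ hs
    rw [← e]
    exact congr($(hab).app U.1 (P.lift _ hs))⟩
  haveI : IsIso h := isIso_of_mono_of_epi h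
  exact GrothLib.QCoh.isQuasicoherent_of_iso (asIso h)

end Groth.Agent.S9836
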