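import Groth.Statements.S9841
import Groth.Agent.Lib.RedSmooth.Basic

set_option autoImplicit false
open CategoryTheory CategoryTheory.Limits AlgebraicGeometry Opposite
universe u
open Desc

namespace Groth.Agent.S9841

/-- Being reduced is local in the smooth topology: for a jointly surjective family of smooth morphisms f
i : X i ⟶ S, the scheme S is reduced if and only if every X i is reduced. -/
theorem result {ι : Type u} {S : Scheme.{u}} {X : ι → Scheme.{u}} (f : ∀ i, X i ⟶ S)
    (hf : Presieve.ofArrows X f ∈ Scheme.precoverage @Smooth S) :
    IsReduced S ↔ ∀ i, IsReduced (X i) := by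
  rw [Scheme.ofArrows_mem_precoverage_iff] at hf
  constructor
  · intro h i
    have := hf.2 i
    exact GrothLib.RedSmooth.isReduced_of_smooth (f i)
  · exact GrothLib.RedSmooth.isReduced_of_flat_surjective_family f
      (fun i ↦ have := hf.2 i; inferInstance) hf.1

end Groth.Agent.S9841
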