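import Groth.Statements.S9842
import Mathlib.AlgebraicGeometry.Morphisms.UniversallyOpen

set_option autoImplicit false
open CategoryTheory CategoryTheory.Limits AlgebraicGeometry Opposite
universe u
open Desc

namespace Groth.Agent.S9842

/-- Let E/k be a field extension, Y a scheme over k and f : X ⟶ Y a morphism. Writing Y_E = Y ×_k Spec
E, the morphism f is dominant if and only if its base change X ×_Y Y_E ⟶ Y_E is dominant. -/
theorem result {k E : Type u} [Field k] [Field E] [Algebra k E]
    {X Y : Scheme.{u}} (f : X ⟶ Y) (q : Y ⟶ Spec (.of k)) :
    IsDominant f ↔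
      IsDominant (pullback.snd f (pullback.fst q (Spec.map (CommRingCat.ofHom (algebraMap k E))))) := by
  set e := Spec.map (CommRingCat.ofHom (algebraMap k E)) with he
  have hes : Surjective e := ⟨fun x ↦ ⟨default, Subsingleton.elim _ _⟩⟩
  set p := pullback.fst q e with hp
  have hps : Surjective p := inferInstance
  rw [isDominant_iff, isDominant_iff, DenseRange, DenseRange, Scheme.Pullback.range_snd]
  constructor
  · exact fun h ↦ h.preimage p.isOpenMap
  · intro h
    have h2 := (hps.1.denseRange).dense_image p.continuous h
    rw [Set.image_preimage_eq _ hps.1] at h2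
    exact h2

end Groth.Agent.S9842
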