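import Groth.Statements.S9843
import Mathlib.AlgebraicGeometry.Morphisms.UniversallyOpen
import Mathlib.AlgebraicGeometry.Sites.Fpqc

set_option autoImplicit false
open CategoryTheory CategoryTheory.Limits AlgebraicGeometry Opposite
universe u
open Desc

namespace Groth.Agent.S9843

/-- Being dominant is fppf local on the base: for every fppf covering family Y i ⟶ Y (flat, locally of
finite presentation, jointly surjective), a morphism X ⟶ Y is dominant if and only if all its base
changes X ×_Y Y i ⟶ Y i are. -/
theorem result :
    MorphismProperty.IsLocalAtTarget (@IsDominant : MorphismProperty Scheme.{u}) Scheme.fppfPrecoverage := by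
  refine MorphismProperty.IsLocalAtTarget.mk_of_iff fun X Y f R hR ↦ ⟨fun hf U g _ hg ↦ ?_, fun h ↦ ?_⟩
  · obtain ⟨_, _⟩ : Flat g ∧ LocallyOfFinitePresentation g := hR.2 hg
    rw [isDominant_iff, DenseRange, Scheme.Pullback.range_snd]
    exact hf.denseRange.preimage g.isOpenMap
  · rw [isDominant_iff, DenseRange, dense_iff_closure_eq, Set.eq_univ_iff_forall]
    intro y
    obtain ⟨U, g, hg, x, rfl⟩ := Scheme.JointlySurjective.exists_eq (K := Scheme.precoverage _) R hR y
    have hd := (h g hg).denseRange
    rw [DenseRange, Scheme.Pullback.range_snd] at hd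
    exact closure_mono (Set.image_preimage_subset g _)
      (image_closure_subset_closure_image g.continuous ⟨x, hd x, rfl⟩)

end Groth.Agent.S9843
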