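import Groth.Statements.S9844
import Mathlib
import Groth.Agent.Lib.FppfSource.Scheme

set_option autoImplicit false
set_option backward.isDefEq.respectTransparency.types false
open CategoryTheory CategoryTheory.Limits AlgebraicGeometry Opposite
universe u
open Desc

namespace Groth.Agent.S9844

/-- Being locally of finite type is fppf local on the source: for every fppf covering family g i : X i ⟶
X, a morphism f : X ⟶ Y is locally of finite type if and only if every composite g i ≫ f is. -/
theorem result :
    MorphismProperty.IsLocalAtSource (@LocallyOfFiniteType : MorphismProperty Scheme.{u}) Scheme.fppfPrecoverage := by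
  refine MorphismProperty.IsLocalAtSource.mk_of_iff fun {X Y} {f} {R} hR ↦ ⟨fun hf U g hg ↦ ?_, fun h ↦ ?_⟩
  · obtain ⟨_, _⟩ : Flat g ∧ LocallyOfFinitePresentation g := hR.2 hg
    haveI : LocallyOfFiniteType f := hf
    show LocallyOfFiniteType (g ≫ f)
    infer_instance
  · choose U g hg u hu using fun x : X =>
      Scheme.JointlySurjective.exists_eq (K := Scheme.precoverage _) R hR x
    have hp : ∀ x, Flat (g x) ∧ LocallyOfFinitePresentation (g x) := fun x => hR.2 (hg x)
    refine GrothLib.FppfSource.fppfSourceDescends_lft (Limits.Sigma.desc g) f ?_ ?_ ⟨fun x => ?_⟩ ?_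
    · rw [IsZariskiLocalAtSource.iff_of_openCover (P := @Flat) (sigmaOpenCover _)]
      intro i
      change Flat (Limits.Sigma.ι U i ≫ Limits.Sigma.desc g)
      rw [Limits.Sigma.ι_desc]; exact (hp i).1
    · rw [IsZariskiLocalAtSource.iff_of_openCover (P := @LocallyOfFinitePresentation) (sigmaOpenCover _)]
      intro i
      change LocallyOfFinitePresentation (Limits.Sigma.ι U i ≫ Limits.Sigma.desc g)
      rw [Limits.Sigma.ι_desc]; exact (hp i).2
    · refine ⟨Limits.Sigma.ι U x (u x), ?_⟩
      rw [← Scheme.Hom.comp_apply, Limits.Sigma.ι_desc]; exact hu x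
    · rw [IsZariskiLocalAtSource.iff_of_openCover (P := @LocallyOfFiniteType) (sigmaOpenCover _)]
      intro i
      change LocallyOfFiniteType (Limits.Sigma.ι U i ≫ Limits.Sigma.desc g ≫ f)
      rw [Limits.Sigma.ι_desc_assoc]; exact h (hg i)

end Groth.Agent.S9844
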