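import Groth.Statements.S9845
import Groth.Agent.Lib.LocSrc.Basic

set_option autoImplicit false
open CategoryTheory CategoryTheory.Limits AlgebraicGeometry Opposite
universe u
open Desc

namespace Groth.Agent.S9845

/-- Being an open morphism (open underlying map) is fppf local on the source: for every fppf covering
family g i : X i ⟶ X, a morphism f : X ⟶ Y has open underlying map if and only if every composite g
i ≫ f does. -/
theorem result :
    MorphismProperty.IsLocalAtSource (topologically (fun f => IsOpenMap f) : MorphismProperty Scheme.{u})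
      Scheme.fppfPrecoverage := by
  refine MorphismProperty.IsLocalAtSource.mk_of_iff fun {X Y} {f} {R} hR ↦ ⟨fun hf U g hg ↦ ?_, fun h ↦ ?_⟩
  · obtain ⟨_, _⟩ : Flat g ∧ LocallyOfFinitePresentation g := hR.2 hg
    exact (show IsOpenMap f from hf).comp g.isOpenMap
  · intro V hV
    refine isOpen_iff_forall_mem_open.2 ?_
    rintro _ ⟨x, hx, rfl⟩
    obtain ⟨U, g, hg, u, rfl⟩ := Scheme.JointlySurjective.exists_eq (K := Scheme.precoverage _) R hR x
    exact ⟨(g ≫ f) '' (g ⁻¹' V), by rintro _ ⟨w, hw, rfl⟩; exact ⟨g w, hw, rfl⟩,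
      h hg _ (hV.preimage g.continuous), u, hx, rfl⟩

end Groth.Agent.S9845
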