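import Groth.Statements.S9846
import Groth.Agent.Lib.LocSrc.Basic
open CategoryTheory.Limits

set_option autoImplicit false
open CategoryTheory CategoryTheory.Limits AlgebraicGeometry Opposite
universe u
open Desc

namespace Groth.Agent.S9846

/-- Being universally open is fppf local on the source: for every fppf covering family g i : X i ⟶ X, a
morphism f : X ⟶ Y is universally open if and only if every composite g i ≫ f is. -/
theorem result :
    MorphismProperty.IsLocalAtSource (@UniversallyOpen : MorphismProperty Scheme.{u}) Scheme.fppfPrecoverage := by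
  refine MorphismProperty.IsLocalAtSource.mk_of_iff fun {X Y} {f} {R} hR ↦ ⟨fun hf U g hg ↦ ?_, fun h ↦ ?_⟩
  · obtain ⟨_, _⟩ : Flat g ∧ LocallyOfFinitePresentation g := hR.2 hg
    infer_instance
  · refine ⟨MorphismProperty.universally_mk' _ _ fun {T} a _ ↦ ?_⟩
    intro V hV
    refine isOpen_iff_forall_mem_open.2 ?_
    rintro _ ⟨x, hx, rfl⟩
    obtain ⟨U, g, hg, u, hu⟩ := Scheme.JointlySurjective.exists_eq (K := Scheme.precoverage _) R hR (pullback.snd a f x)
    have := h hg
    let m : pullback a (g ≫ f) ⟶ pullback a f := pullback.map a (g ≫ f) a f (𝟙 T) g (𝟙 Y) (by simp) (by simp)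
    obtain ⟨w, hw⟩ : x ∈ Set.range m := by
      rw [Scheme.Pullback.range_map]
      exact ⟨⟨pullback.fst a f x, rfl⟩, ⟨u, hu⟩⟩
    have hm : m ≫ pullback.fst a f = pullback.fst a (g ≫ f) :=
      (pullback.lift_fst _ _ _).trans (Category.comp_id _)
    refine ⟨pullback.fst a (g ≫ f) '' (m ⁻¹' V), ?_,
      (pullback.fst a (g ≫ f)).isOpenMap _ (hV.preimage m.continuous), w, (show m w ∈ V by rw [hw]; exact hx), ?_⟩
    · rintro _ ⟨z, hz, rfl⟩
      exact ⟨m z, hz, by rw [← hm]; rfl⟩
    · rw [← hm, ← hw]; rfl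

end Groth.Agent.S9846
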