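import Groth.Statements.S9847
import Groth.Agent.Lib.AlgSp.SourceDescent
import Groth.Agent.Lib.LocSrc.Basic
open CategoryTheory.Limits

set_option autoImplicit false
open CategoryTheory CategoryTheory.Limits AlgebraicGeometry Opposite
universe u
open Desc

namespace Groth.Agent.S9847

/-- Being etale is etale local on the source: for every etale covering family g i : X i ⟶ X (etale,
jointly surjective), a morphism f : X ⟶ Y is etale if and only if every composite g i ≫ f is. -/
theorem result :
    MorphismProperty.IsLocalAtSource (@Etale : MorphismProperty Scheme.{u}) Scheme.etalePrecoverage := by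
  refine MorphismProperty.IsLocalAtSource.mk_of_iff_of_zeroHypercover fun {X Y} f 𝒰 ↦ ⟨fun _ i ↦ ?_, fun h ↦ ?_⟩
  · have : Etale (𝒰.f i) := Scheme.Cover.map_prop 𝒰 i
    infer_instance
  · choose i y hy using fun x : X => Scheme.Cover.exists_eq (K := Scheme.precoverage @Etale) 𝒰 x
    refine GrothLib.AlgSp.etaleSourceDescends_etale (Sigma.desc fun x => 𝒰.f (i x)) f
      (IsZariskiLocalAtSource.sigmaDesc (P := @Etale) fun x => Scheme.Cover.map_prop 𝒰 (i x))
      ⟨fun x => ?_⟩ ?_
    · refine ⟨Sigma.ι (fun x => 𝒰.X (i x)) x (y x), ?_⟩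
      rw [← Scheme.Hom.comp_apply, Sigma.ι_desc]
      exact hy x
    · refine (IsZariskiLocalAtSource.iff_of_openCover (P := @Etale) (sigmaOpenCover _)).2 fun x => ?_
      change Etale (Sigma.ι (fun x => 𝒰.X (i x)) x ≫ Sigma.desc (fun x => 𝒰.f (i x)) ≫ f)
      rw [Sigma.ι_desc_assoc]
      exact h (i x)

end Groth.Agent.S9847
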