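import Groth.Statements.S9850
import Groth.Agent.S9758
import Groth.Agent.S1128
import Groth.Agent.Lib.CIMor.Open
import Groth.Agent.Lib.FppfSource.Scheme
import Groth.Agent.Lib.SyntLoc.Scheme

set_option autoImplicit false
open CategoryTheory CategoryTheory.Limits AlgebraicGeometry Opposite
universe u
open Desc

namespace Groth.Agent.S9850

/-- Let f : X ⟶ Y be surjective, flat and locally of finite presentation and q : Y ⟶ S a morphism such
that f ≫ q is syntomic. Then q is syntomic, and so is f. -/
theorem result {X Y S : Scheme.{u}} (f : X ⟶ Y) (q : Y ⟶ S)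
    [Surjective f] [Flat f] [LocallyOfFinitePresentation f] (h : Synt.IsSyntomicMor (f ≫ q)) :
    Synt.IsSyntomicMor q ∧ Synt.IsSyntomicMor f := by
  have key : ∀ {A B : Scheme.{u}} (g : A ⟶ B), Flat g → LocallyOfFinitePresentation g →
      (Synt.IsSyntomicMor g ↔ ∀ a : A, Pi1.IsCompleteIntersection (GrothLib.CMMor6.FibQuot g a)) := by
    intro A B g hg hp
    haveI := hg
    haveI := hp
    rw [← Groth.Agent.S9758.result g, and_iff_right hg, GrothLib.LCI6.inLocus_iff_of_isKoszul]
    exact forall_congr' fun a =>
      (GrothLib.CIMor.ci_fiberStalk_iff_inLocus g a).symm.trans (GrothLib.CIMor.ci_fiberStalk_iff g a)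
  haveI : Flat (f ≫ q) := GrothLib.SyntLoc.flat_of_isSyntomicMor h
  haveI : LocallyOfFinitePresentation (f ≫ q) := GrothLib.SyntLoc.lfp_of_isSyntomicMor h
  haveI : Flat q := Groth.Agent.S1128.result f q
  haveI : LocallyOfFinitePresentation q :=
    GrothLib.FppfSource.fppfSourceDescends_lfp f q inferInstance inferInstance inferInstance inferInstance
  have hc := (key (f ≫ q) inferInstance inferInstance).1 h
  refine ⟨(key q inferInstance inferInstance).2 fun y => ?_, (key f inferInstance inferInstance).2 fun x => ?_⟩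
  · obtain ⟨x, rfl⟩ := f.surjective y
    exact ((GrothLib.CIMor.ci_fibQuot_comp_iff f q x).1 (hc x)).1
  · exact ((GrothLib.CIMor.ci_fibQuot_comp_iff f q x).1 (hc x)).2

end Groth.Agent.S9850
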