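import Groth.Statements.S9855
import Groth.Agent.Lib.SchEffective.Local
import Groth.Agent.S9854

set_option autoImplicit false
open CategoryTheory CategoryTheory.Limits AlgebraicGeometry Opposite
universe u
open Desc

namespace Groth.Agent.S9855

/-- Let u i : U i ⟶ S and v j : V j ⟶ S be two families of morphisms with target S and (α, g) a morphism
of families over the identity of S, i.e. g i : U i ⟶ V (α i) with g i ≫ v (α i) = u i. Assume that
for every index j the family of those g i with α i = j is a Zariski covering of V j (jointly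
surjective open immersions). Then the pullback functor from descent data for schemes relative to (v
j) to descent data relative to (u i) is an equivalence of categories. -/
theorem result {ι κ : Type u} {S : Scheme.{u}} {U : ι → Scheme.{u}} {V : κ → Scheme.{u}}
    (u : ∀ i, U i ⟶ S) (v : ∀ j, V j ⟶ S) (α : ι → κ) (g : ∀ i, U i ⟶ V (α i)) (w : ∀ i, g i ≫ v (α i) = u i)
    (hcov : ∀ j, Presieve.ofArrows (fun i : {i // α i = j} => U i.1)
      (fun i => g i.1 ≫ eqToHom (congrArg V i.2)) ∈ Scheme.zariskiPrecoverage (V j)) :
    (Desc.pullDDFam (f := v) (f' := u) (α := α) (p := 𝟙 S) (p' := g) (fun i => (w i).trans (Category.comp_id (u i)).symm)).IsEquivalence := by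
  have hff := Groth.Agent.S9854.result u v α g w fun j => Scheme.zariskiPrecoverage_le_fpqcPrecoverage _ (hcov j)
  refine { full := hff.1, faithful := hff.2, essSurj := ⟨fun D => ?_⟩ }
  have hrep : ∀ j, GrothLib.SchEffective.IsRepOver D (v j) := fun j => by
    have hc := (Scheme.ofArrows_mem_precoverage_iff _).1 (hcov j)
    haveI : ∀ k : {i // α i = j}, IsOpenImmersion (g k.1 ≫ eqToHom (congrArg V k.2)) := hc.2
    refine GrothLib.SchEffective.isRepOver_of_zariski (v j) (fun k : {i // α i = j} => k.1)
      (fun k => g k.1 ≫ eqToHom (congrArg V k.2)) (fun k => ?_) fun z => ?_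
    · obtain ⟨i, rfl⟩ := k
      simp [w]
    · obtain ⟨k, hk⟩ := hc.1 z
      exact ⟨k, hk⟩
  obtain ⟨R⟩ := GrothLib.SchEffective.nonempty_reps D v hrep
  exact ⟨R.dd, ⟨R.compIso w⟩⟩

end Groth.Agent.S9855
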