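import Groth.Statements.S9857
import Groth.Agent.Lib.Dim.Scheme
import Groth.Agent.Lib.LocNoeth.Scheme
import Groth.Agent.Lib.GenMap.Basic
import Mathlib.AlgebraicGeometry.Fiber
import Mathlib.AlgebraicGeometry.Morphisms.UniversallyOpen

set_option autoImplicit false
open CategoryTheory CategoryTheory.Limits AlgebraicGeometry Opposite
universe u
open Desc

namespace Groth.Agent.S9857

/-- The property of a morphism being locally of finite type with relative dimension d may be checked
fpqc locally on the target; the descent direction for the dimension condition, stated for a single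
flat surjective quasi-compact base change g : Y' ⟶ Y of a morphism f : X ⟶ Y locally of finite type
and a cartesian square with base change f' : X' ⟶ Y': if every irreducible component of every fibre
of f' has dimension d, then every irreducible component of every fibre of f has dimension d. (Local
finite type itself descends along g by a separate result; stability under base change is the other
direction.) -/
theorem result {X Y X' Y' : Scheme.{u}} (f : X ⟶ Y) [LocallyOfFiniteType f] (g : Y' ⟶ Y)
    [Flat g] [Surjective g] [QuasiCompact g] (g' : X' ⟶ X) (f' : X' ⟶ Y') (hsq : IsPullback g' f' f g)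
    (d : ℕ) (h : Cyc.HasRelDim f' d) : Cyc.HasRelDim f d := by
  intro y T hT
  obtain ⟨y', rfl⟩ := g.surjective y
  letI : Algebra ↑(Y.residueField (g y')) ↑(Y'.residueField y') := (g.residueFieldMap y').hom.toAlgebra
  let φ : Spec (Y'.residueField y') ⟶ Spec (Y.residueField (g y')) := Spec.map (g.residueFieldMap y')
  let p := f.fiberToSpecResidueField (g y')
  let P := pullback φ p
  let π : P ⟶ f.fiber (g y') := pullback.snd φ p
  let e : f'.fiber y' ≅ P := (isPullback_fiberToSpecResidueField_of_isPullback hsq y').flip.isoPullback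
  haveI : LocallyOfFiniteType p := inferInstanceAs (LocallyOfFiniteType (pullback.snd f _))
  haveI : Subsingleton (Spec (Y.residueField (g y'))) := inferInstanceAs (Subsingleton (PrimeSpectrum _))
  haveI : Subsingleton (Spec (Y'.residueField y')) := inferInstanceAs (Subsingleton (PrimeSpectrum _))
  haveI : IsIntegral (Spec (Y.residueField (g y'))) := inferInstance
  haveI : IsIntegral (Spec (Y'.residueField y')) := inferInstance
  haveI : Surjective φ := ⟨fun x => ⟨IsLocalRing.closedPoint _, Subsingleton.elim _ _⟩⟩
  haveI : Flat φ := inferInstance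
  haveI : Surjective π := MorphismProperty.pullback_snd _ _ inferInstance
  haveI : Flat π := MorphismProperty.pullback_snd _ _ inferInstance
  have hTc : IsClosed T := isClosed_of_mem_irreducibleComponents T hT
  have hξ : IsGenericPoint hT.1.genericPoint T := by
    have h := hT.1.isGenericPoint_genericPoint_closure
    rwa [hTc.closure_eq] at h
  obtain ⟨w, hw⟩ := π.surjective hT.1.genericPoint
  obtain ⟨η, hη, hηw⟩ := GrothLib.LocNoeth.exists_maximal_specializes w
  have hπη : π η = hT.1.genericPoint :=
    GrothLib.GenMap.eq_of_specializes_genericPoint hT hξ (hw ▸ hηw.map π.continuous)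
  -- the component of the preimage
  let W₀ : Set P := closure {η}
  have hsub : W₀ ⊆ π.base ⁻¹' T := by
    refine closure_minimal ?_ (hTc.preimage π.continuous)
    rw [Set.singleton_subset_iff]
    show π η ∈ T
    rw [hπη]; exact hξ.mem
  let W : Set ↥(π.base ⁻¹' T) := Subtype.val ⁻¹' W₀
  have hWim : Subtype.val '' W = W₀ := by
    rw [Subtype.image_preimage_coe, Set.inter_eq_right.2 hsub]
  have hW : W ∈ irreducibleComponents ↥(π.base ⁻¹' T) := by
    refine ⟨⟨⟨⟨η, hsub (subset_closure rfl)⟩, subset_closure rfl⟩, ?_⟩, fun V hV hle => ?_⟩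
    · intro u v hu hv ⟨a, ha, hau⟩ ⟨b, hb, hbv⟩
      obtain ⟨u', hu', rfl⟩ := isOpen_induced_iff.1 hu
      obtain ⟨v', hv', rfl⟩ := isOpen_induced_iff.1 hv
      obtain ⟨z, hz, hzu⟩ := hη.1.isPreirreducible u' v' hu' hv' ⟨a.1, ha, hau⟩ ⟨b.1, hb, hbv⟩
      exact ⟨⟨z, hsub hz⟩, hz, hzu⟩
    · intro v hv
      have h2 : W₀ ⊆ Subtype.val '' V := hWim ▸ Set.image_mono hle
      exact hη.2 (hV.image _ continuous_subtype_val.continuousOn) h2 ⟨v, hv, rfl⟩
  have hdim := GrothLib.Dim.topologicalKrullDim_component_preimage (K := Y.residueField (g y'))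
    (L := Y'.residueField y') p hTc hT.1 W hW
  have hW0dim : topologicalKrullDim W = topologicalKrullDim W₀ :=
    GrothLib.Dim.IsEmbedding.topologicalKrullDim_eq (f := fun a : W => (a.1.1 : P))
      (Topology.IsEmbedding.subtypeVal.comp Topology.IsEmbedding.subtypeVal)
      ((Set.range_comp Subtype.val Subtype.val).trans (by rw [Subtype.range_coe]; exact hWim))
  have hcomp : e.hom.base ⁻¹' W₀ ∈ irreducibleComponents ↥(f'.fiber y') :=
    preimage_mem_irreducibleComponents hη e.hom.isOpenEmbedding
      ⟨η, subset_closure rfl, e.hom.surjective η⟩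
  have hd := h y' _ hcomp
  have heq : topologicalKrullDim (e.hom.base ⁻¹' W₀) = topologicalKrullDim W₀ :=
    GrothLib.Dim.IsEmbedding.topologicalKrullDim_eq (f := fun a : (e.hom.base ⁻¹' W₀) => e.hom a.1)
      (e.hom.isEmbedding.comp Topology.IsEmbedding.subtypeVal)
      ((Set.range_comp e.hom.base Subtype.val).trans (by
        rw [Subtype.range_coe, Set.image_preimage_eq _ e.hom.surjective]))
  exact hdim.symm.trans (hW0dim.trans (heq.symm.trans hd))

end Groth.Agent.S9857
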