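import Groth.Statements.S9860
import Mathlib.AlgebraicGeometry.Sites.BigZariski
open CategoryTheory.Limits

set_option autoImplicit false
open CategoryTheory CategoryTheory.Limits AlgebraicGeometry Opposite
universe u
open Desc

namespace Groth.Agent.S9860

/-- Consider morphisms of schemes f i : X i ⟶ X indexed by i. Suppose that, whenever Y is an affine
scheme and g : Y ⟶ X is a morphism, the sieve on Y obtained by pulling back along g (generated by
the base changes X i ×_X Y ⟶ Y) is effective epimorphic. Then the pulled-back sieve along every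
morphism Y ⟶ X of schemes is effective epimorphic; in other words, within schemes the family forms a
universal effective epimorphism. -/
theorem result {ι : Type u} {X : Scheme.{u}} {Xi : ι → Scheme.{u}} (f : ∀ i, Xi i ⟶ X)
    (h : ∀ (Y : Scheme.{u}) (g : Y ⟶ X), IsAffine Y → ((Sieve.ofArrows Xi f).pullback g).EffectiveEpimorphic)
    {Y : Scheme.{u}} (g : Y ⟶ X) : ((Sieve.ofArrows Xi f).pullback g).EffectiveEpimorphic := by
  have hW : ∀ W : Scheme.{u}, ∀ {Y : Scheme.{u}} (g : Y ⟶ X), IsAffine Y →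
      Presieve.IsSheafFor (yoneda.obj W) ((Sieve.ofArrows Xi f).pullback g).arrows :=
    fun W {Y} g hY => (Sieve.EffectiveEpimorphic.iff_forall_isSheafFor_yoneda _).1 (h Y g hY) W
  rw [Sieve.EffectiveEpimorphic.iff_forall_isSheafFor_yoneda]
  intro W
  set P := yoneda.obj W with hP
  set S := Sieve.ofArrows Xi f with hS
  have hzar : Presieve.IsSheaf Scheme.zariskiTopology P := GrothendieckTopology.Subcanonical.isSheaf_of_isRepresentable P
  -- the affine cover generates a covering sieve
  have hcov : ∀ Y : Scheme.{u}, Sieve.ofArrows Y.affineCover.X Y.affineCover.f ∈ Scheme.zariskiTopology Y :=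
    fun Y => Precoverage.generate_mem_toGrothendieck Y.affineCover.mem₀
  have hsep : ∀ {Y' : Scheme.{u}} (g' : Y' ⟶ X), Presieve.IsSeparatedFor P (S.pullback g').arrows := by
    intro Y' g' x t₁ t₂ h₁ h₂
    refine (hzar.isSeparated _ (hcov Y')).ext ?_
    rintro Z _ ⟨_, k, _, ⟨j⟩, rfl⟩
    have e : P.map (Y'.affineCover.f j).op t₁ = P.map (Y'.affineCover.f j).op t₂ := by
      refine ((hW W (Y'.affineCover.f j ≫ g') inferInstance).isSeparatedFor).ext ?_
      intro T l hl
      have hl' : (S.pullback g') (l ≫ Y'.affineCover.f j) := by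
        show S ((l ≫ Y'.affineCover.f j) ≫ g')
        rw [Category.assoc]; exact hl
      rw [← ConcreteCategory.comp_apply, ← ConcreteCategory.comp_apply, ← Functor.map_comp, ← op_comp]
      exact (h₁ _ hl').trans (h₂ _ hl').symm
    simp only [op_comp, Functor.map_comp, ConcreteCategory.comp_apply, e]
  intro x hx
  let 𝒱 := Y.affineCover
  have congr_x : ∀ {T : Scheme.{u}} (a b : T ⟶ Y) (ha hb), a = b → x a ha = x b hb := by
    rintro T a b ha hb rfl; rfl
  -- restrict the family to the affine pieces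
  let y : ∀ j, Presieve.FamilyOfElements P (S.pullback (𝒱.f j ≫ g)).arrows := fun j T l hl =>
    x (l ≫ 𝒱.f j) (by show S ((l ≫ 𝒱.f j) ≫ g); rw [Category.assoc]; exact hl)
  have hy : ∀ j, (y j).Compatible := fun j T₁ T₂ U g₁ g₂ f₁ f₂ h₁ h₂ e =>
    hx g₁ g₂ _ _ (by rw [reassoc_of% e])
  let t : ∀ j, P.obj (Opposite.op (𝒱.X j)) := fun j => (hW W _ inferInstance).amalgamate (y j) (hy j)
  have ht : ∀ j, (y j).IsAmalgamation (t j) := fun j => (hW W _ inferInstance).isAmalgamation _
  have htc : Presieve.Arrows.Compatible P 𝒱.f t := by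
    intro i j Z gi gj e
    refine (hsep (gi ≫ 𝒱.f i ≫ g)).ext ?_
    intro T l hl
    have hi : (S.pullback (𝒱.f i ≫ g)) (l ≫ gi) := by
      show S ((l ≫ gi) ≫ 𝒱.f i ≫ g); rw [Category.assoc]; exact hl
    have hj : (S.pullback (𝒱.f j ≫ g)) (l ≫ gj) := by
      show S ((l ≫ gj) ≫ 𝒱.f j ≫ g)
      rw [Category.assoc, ← reassoc_of% e]; exact hl
    rw [← ConcreteCategory.comp_apply, ← ConcreteCategory.comp_apply, ← Functor.map_comp, ← Functor.map_comp, ← op_comp, ← op_comp,
      ht i _ hi, ht j _ hj]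
    exact congr_x _ _ _ _ (by simp [e])
  have hYcov : Presieve.IsSheafFor P (Presieve.ofArrows 𝒱.X 𝒱.f) :=
    (Presieve.isSheafFor_iff_generate _).2 (hzar _ (hcov Y))
  obtain ⟨s, hs, -⟩ := (Presieve.isSheafFor_arrows_iff P 𝒱.f).1 hYcov t htc
  refine ⟨s, ?_, fun s' hs' => (hsep g) x s' s hs' ?_⟩
  rotate_left
  all_goals
    intro T k hk
    refine (hzar.isSeparated _ (Scheme.zariskiTopology.pullback_stable k (hcov Y))).ext ?_
    rintro Z l ⟨_, m, _, ⟨j⟩, e⟩
    have hm : (S.pullback (𝒱.f j ≫ g)) m := by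
      show S (m ≫ 𝒱.f j ≫ g)
      rw [reassoc_of% e]
      exact S.downward_closed (show S (k ≫ g) from hk) l
    rw [← ConcreteCategory.comp_apply, ← Functor.map_comp, ← op_comp, ← e, op_comp, Functor.map_comp,
      ConcreteCategory.comp_apply, hs j, ht j m hm]
    simp only [y]
    have := hx (Z := Z) (𝟙 Z) l (show (S.pullback g) (m ≫ 𝒱.f j) by
      show S ((m ≫ 𝒱.f j) ≫ g); rw [Category.assoc]; exact hm) hk (by rw [Category.id_comp, e])
    simpa using this

end Groth.Agent.S9860
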