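import Groth.Statements.S9861
import Groth.Agent.Lib.LocGenDesc.Main

set_option autoImplicit false
open CategoryTheory CategoryTheory.Limits AlgebraicGeometry Opposite
universe u
open Desc

namespace Groth.Agent.S9861

/-- Let F be a quasi-coherent O_X-module, r a natural number and f i : X i ⟶ X an fpqc covering family
such that every pullback (f i)^* F is locally generated by at most r sections. Then F is locally
generated by at most r sections. ('Locally generated by at most r sections' is written as: there are
local generators data for the module, indexed in the universe of the scheme, all of whose generating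
families are indexed by finite types of cardinality at most r.) -/
theorem result {ι : Type u} {X : Scheme.{u}} {Xi : ι → Scheme.{u}} (f : ∀ i, Xi i ⟶ X)
    (hf : Presieve.ofArrows Xi f ∈ Scheme.fpqcPrecoverage X) (F : X.Modules) [F.IsQuasicoherent] (r : ℕ)
    (h : ∀ i, ∃ σ : SheafOfModules.LocalGeneratorsData.{u} (R := (Xi i).ringCatSheaf) ((Scheme.Modules.pullback (f i)).obj F),
      ∀ k, Finite (σ.generators k).I ∧ Nat.card (σ.generators k).I ≤ r) :
    ∃ σ : SheafOfModules.LocalGeneratorsData.{u} (R := X.ringCatSheaf) F,
      ∀ k, Finite (σ.generators k).I ∧ Nat.card (σ.generators k).I ≤ r := by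
  exact GrothLib.LocGenDesc.exists_data f hf F r h

end Groth.Agent.S9861
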