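import Groth.Statements.S9870
import Groth.Agent.Lib.AlgSp.QuotRestrict
-- import your own Groth.Agent.* helpers here

set_option autoImplicit false
universe u
open CategoryTheory CategoryTheory.Limits AlgebraicGeometry
open AlgSp

namespace Groth.Agent.S9870

/-- Let `s, t : R ⟶ U` be a pre-relation on a scheme `U` over `S` which is an equivalence relation (on
`T`-points, for every scheme `T` over `S`), with `s` and `t` surjective, flat and locally of finite
presentation, and let `g : U' ⟶ U` be flat and locally of finite presentation. Let `s', t' : R' ⟶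
U'` be the restriction of the pre-relation to `U'`, i.e. `R'` with `(t', s')` and `R' ⟶ R` is the
fibre product of `U' ×_S U'` and `R` over `U ×_S U`. Then the map of fppf quotient sheaves `U'/R' ⟶
U/R` induced by `g` (the unique map under the quotient maps compatible with `h_g`) is representable
and an open immersion. -/
theorem result (S : Scheme.{u}) {R U R' U' : Over S} (s t : R ⟶ U)
    (g : U' ⟶ U) (s' t' : R' ⟶ U') (r : R' ⟶ R)
    (hsq : IsPullback (prod.lift t' s') r (prod.map g g) (prod.lift t s))
    (hR : AlgSp.IsEqvRel s t)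
    [Surjective s.left] [Flat s.left] [LocallyOfFinitePresentation s.left]
    [Surjective t.left] [Flat t.left] [LocallyOfFinitePresentation t.left]
    [Flat g.left] [LocallyOfFinitePresentation g.left]
    (φ : QuotSh.quot Scheme.fppfPrecoverage s' t' ⟶ QuotSh.quot Scheme.fppfPrecoverage s t)
    (hφ : QuotSh.quotπ Scheme.fppfPrecoverage s' t' ≫ φ = QuotSh.repMap Scheme.fppfPrecoverage g ≫ QuotSh.quotπ Scheme.fppfPrecoverage s t) :
    AlgSp.RepWith @IsOpenImmersion φ := by
  open GrothLib.AlgSp in
  classical
  haveI := isLocallySurjective_yonQuotπ s t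
  haveI := isLocallySurjective_yonQuotπ s' t'
  have hπ := isPullback_yonQuotπ hR
  have hlift : ∀ (V : Over S) (a b : V ⟶ U), (yon S).map a ≫ yonQuotπ s t = (yon S).map b ≫ yonQuotπ s t →
      ∃ r : V ⟶ R, r ≫ t = a ∧ r ≫ s = b := fun V a b h => by
    obtain ⟨r, hr⟩ := (yon S).map_surjective (hπ.lift _ _ h)
    exact ⟨r, (yon S).map_injective (by rw [Functor.map_comp, hr, hπ.lift_fst]),
      (yon S).map_injective (by rw [Functor.map_comp, hr, hπ.lift_snd])⟩
  have hnat : ∀ {V Z : Over S} (f : V ⟶ Z),
      (QuotSh.repIsoUliftYoneda Scheme.fppfPrecoverage V).inv ≫ QuotSh.repMap Scheme.fppfPrecoverage f =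
        (yon S).map f ≫ (QuotSh.repIsoUliftYoneda Scheme.fppfPrecoverage Z).inv := fun f => by
    rw [Iso.inv_comp_eq, ← Category.assoc, Iso.eq_comp_inv]
    exact repIsoUliftYoneda_naturality f
  have hφ' : yonQuotπ s' t' ≫ φ = (yon S).map g ≫ yonQuotπ s t := by
    simp only [yonQuotπ, Category.assoc, hφ]
    rw [← Category.assoc, hnat, Category.assoc]
  have hw' : (yon S).map t' ≫ yonQuotπ s' t' = (yon S).map s' ≫ yonQuotπ s' t' := by
    simp only [yonQuotπ]
    rw [← Category.assoc, ← Category.assoc, ← hnat, ← hnat, Category.assoc, Category.assoc,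
      QuotSh.quot_condition]
  let pU := pullback.fst g t
  let pR := pullback.snd g t
  haveI hsq' : IsPullback pU.left pR.left g.left t.left := (IsPullback.of_hasPullback g t).map (Over.forget S)
  haveI : Flat pR.left := MorphismProperty.of_isPullback hsq' (show Flat g.left from inferInstance)
  haveI : LocallyOfFinitePresentation pR.left :=
    MorphismProperty.of_isPullback hsq' (show LocallyOfFinitePresentation g.left from inferInstance)
  let h := (pR ≫ s).left
  haveI : Flat h := by simp only [h, Over.comp_left]; infer_instance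
  haveI : LocallyOfFinitePresentation h := by simp only [h, Over.comp_left]; infer_instance
  haveI : UniversallyOpen h := UniversallyOpen.of_flat h
  let W : U.left.Opens := ⟨Set.range h, h.isOpenMap.isOpen_range⟩
  let k : (pullback g t).left ⟶ W.toScheme := IsOpenImmersion.lift W.ι h (by simp [W])
  have hk : k ≫ W.ι = h := IsOpenImmersion.lift_fac _ _ _
  have sqk : IsPullback k (𝟙 _) W.ι h := IsPullback.of_vert_isIso_mono ⟨by rw [Category.id_comp, hk]⟩
  haveI : Flat k := MorphismProperty.of_isPullback sqk.flip.flip.flip (show Flat h by infer_instance)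
  haveI : LocallyOfFinitePresentation k :=
    MorphismProperty.of_isPullback sqk.flip.flip.flip (show LocallyOfFinitePresentation h by infer_instance)
  haveI : Surjective k := ⟨fun w => by
    obtain ⟨x, hx⟩ := (w.2 : W.ι w ∈ Set.range h)
    exact ⟨x, W.ι.injective (by rw [← Scheme.Hom.comp_apply, hk, hx]; rfl)⟩⟩
  let W' : Over S := Over.mk (W.ι ≫ U.hom)
  let i : W' ⟶ U := Over.homMk W.ι rfl
  haveI : IsOpenImmersion i.left := inferInstanceAs (IsOpenImmersion W.ι)
  let k' : pullback g t ⟶ W' := Over.homMk k (by
    change k ≫ W.ι ≫ U.hom = _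
    rw [← Category.assoc, hk]
    exact Over.w (pR ≫ s))
  haveI : Sheaf.IsLocallySurjective ((yon S).map k') :=
    isLocallySurjective_yon_map k' (show Flat k by infer_instance) (show LocallyOfFinitePresentation k by infer_instance)
      (show Surjective k by infer_instance)
  refine (repWith_isOpenImmersion_quot_restrict t s g (yonQuotπ s t) (yonQuotπ s' t') φ hφ' hπ.w
    (fun V a b hab => ?_) (fun V a b r hrt hrs => ?_) pU pR (IsPullback.of_hasPullback g t) i k'
    (Over.OverMorphism.ext hk) :)
  · obtain ⟨r, h₁, h₂⟩ := hlift V a b hab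
    exact ⟨V, 𝟙 V, r, by rw [Over.id_left]; infer_instance, by rw [Over.id_left]; infer_instance,
      by rw [Over.id_left]; infer_instance, by rw [h₁, Category.id_comp], by rw [h₂, Category.id_comp]⟩
  · obtain ⟨z, hz₁, hz₂⟩ := hsq.exists_lift (prod.lift a b) r
      (by rw [prod.lift_map, prod.comp_lift, hrt, hrs])
    have h₁ : z ≫ t' = a := by rw [← prod.lift_fst t' s', reassoc_of% hz₁, prod.lift_fst]
    have h₂ : z ≫ s' = b := by rw [← prod.lift_snd t' s', reassoc_of% hz₁, prod.lift_snd]
    rw [← h₁, ← h₂, Functor.map_comp, Functor.map_comp, Category.assoc, Category.assoc, hw']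

end Groth.Agent.S9870
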