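import Groth.Agent.Lib.AlgSp.Rep
import Groth.Statements.S9871
-- import your own Groth.Agent.* helpers here

set_option autoImplicit false
universe u
open CategoryTheory CategoryTheory.Limits AlgebraicGeometry
open AlgSp

namespace Groth.Agent.S9871

theorem etale_second {S : Scheme.{u}} {R U R' U' : Over S} (g : U' ⟶ U) [Etale g.left] (s t : R ⟶ U)
    (s' t' : R' ⟶ U') (r : R' ⟶ R) (hs : Etale s.left) (ht : t' ≫ g = r ≫ t) (hs' : s' ≫ g = r ≫ s)
    (hsq : IsPullback (prod.lift t' s') r (prod.map g g) (prod.lift t s)) : Etale s'.left := by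
  have sq : IsPullback s' (pullback.lift t' r ht) g (pullback.snd g t ≫ s) := by
    refine IsPullback.of_isLimit' ⟨by rw [hs', pullback.lift_snd_assoc]⟩ ?_
    have cond : ∀ c : PullbackCone g (pullback.snd g t ≫ s),
        prod.lift (c.snd ≫ pullback.fst g t) c.fst ≫ prod.map g g =
          (c.snd ≫ pullback.snd g t) ≫ prod.lift t s := by
      intro c
      apply prod.hom_ext <;> simp [c.condition, pullback.condition]
    refine PullbackCone.IsLimit.mk _ (fun c => hsq.lift _ _ (cond c)) (fun c => ?_) (fun c => ?_)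
      (fun c m h1 h2 => ?_)
    · simpa only [Category.assoc, prod.lift_snd] using
        congrArg (fun x => x ≫ Limits.prod.snd) (hsq.lift_fst _ _ (cond c))
    · apply pullback.hom_ext
      · simpa only [Category.assoc, pullback.lift_fst, prod.lift_fst] using
          congrArg (fun x => x ≫ Limits.prod.fst) (hsq.lift_fst _ _ (cond c))
      · simp only [Category.assoc, pullback.lift_snd, IsPullback.lift_snd]
    · apply hsq.hom_ext
      · rw [hsq.lift_fst]
        apply prod.hom_ext
        · simpa only [Category.assoc, pullback.lift_fst, prod.lift_fst] using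
            congrArg (fun x => x ≫ pullback.fst g t) h2
        · simpa only [Category.assoc, prod.lift_snd] using h1
      · rw [hsq.lift_snd]
        simpa only [Category.assoc, pullback.lift_snd] using congrArg (fun x => x ≫ pullback.snd g t) h2
  have : Etale (pullback.snd g t).left :=
    MorphismProperty.of_isPullback (P := @Etale) ((IsPullback.of_hasPullback g t).map (Over.forget S))
      ‹Etale g.left›
  have h2 : Etale (pullback.snd g t ≫ s).left := by
    rw [Over.comp_left]; infer_instance
  exact MorphismProperty.of_isPullback (P := @Etale) (sq.map (Over.forget S)).flip h2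

/-- Let `s, t : R ⟶ U` be an etale equivalence relation on a scheme `U` over `S` and let `g : U' ⟶ U` be
an etale morphism over `S`. Let `s', t' : R' ⟶ U'` be the restriction to `U'`: `R'`, with `(t', s')`
and `R' ⟶ R`, is the fibre product of `U' ×_S U'` and `R` over `U ×_S U`. Then `s', t'` is again an
etale equivalence relation. -/
theorem result (S : Scheme.{u}) {R U R' U' : Over S} (s t : R ⟶ U)
    (g : U' ⟶ U) (s' t' : R' ⟶ U') (r : R' ⟶ R)
    (hsq : IsPullback (prod.lift t' s') r (prod.map g g) (prod.lift t s))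
    (h : AlgSp.IsEtaleEqvRel s t) [Etale g.left] :
    AlgSp.IsEtaleEqvRel s' t' := by
  have ht : t' ≫ g = r ≫ t := by
    simpa only [Category.assoc, prod.lift_map, prod.lift_fst] using congrArg (fun x => x ≫ Limits.prod.fst) hsq.w
  have hs : s' ≫ g = r ≫ s := by
    simpa only [Category.assoc, prod.lift_map, prod.lift_snd] using congrArg (fun x => x ≫ Limits.prod.snd) hsq.w
  have lift' : ∀ {T : Over S} (a b : T ⟶ U') (q : T ⟶ R), q ≫ t = a ≫ g → q ≫ s = b ≫ g →
      ∃ r' : T ⟶ R', r' ≫ t' = a ∧ r' ≫ s' = b := by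
    intro T a b q hqt hqs
    obtain ⟨r', h1, h2⟩ := hsq.exists_lift (prod.lift a b) q (by
      apply prod.hom_ext <;> simp [hqt, hqs])
    exact ⟨r', by simpa only [Category.assoc, prod.lift_fst] using congrArg (fun x => x ≫ Limits.prod.fst) h1,
      by simpa only [Category.assoc, prod.lift_snd] using congrArg (fun x => x ≫ Limits.prod.snd) h1⟩
  refine ⟨⟨?_, fun T => ⟨?_, ?_, ?_⟩⟩, ?_, ?_⟩
  · intro T a b h1 h2
    apply hsq.hom_ext
    · apply prod.hom_ext <;> simp [h1, h2]
    · apply h.injective
      · rw [Category.assoc, Category.assoc, ← ht, ← Category.assoc, h1, Category.assoc]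
      · rw [Category.assoc, Category.assoc, ← hs, ← Category.assoc, h2, Category.assoc]
  · intro a
    obtain ⟨q, hq⟩ := (h.equivalence T).refl (a ≫ g)
    exact lift' a a q hq.1 hq.2
  · rintro a b ⟨q, rfl, rfl⟩
    obtain ⟨q', h1, h2⟩ := (h.equivalence T).symm (x := q ≫ r ≫ t) (y := q ≫ r ≫ s)
      ⟨q ≫ r, Category.assoc _ _ _, Category.assoc _ _ _⟩
    exact lift' _ _ q' (by rw [h1, Category.assoc, hs]) (by rw [h2, Category.assoc, ht])
  · rintro a b c ⟨q, rfl, rfl⟩ ⟨p, hp, rfl⟩
    obtain ⟨q', h1, h2⟩ := (h.equivalence T).trans (x := q ≫ r ≫ t) (y := q ≫ r ≫ s) (z := p ≫ r ≫ s)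
      ⟨q ≫ r, Category.assoc _ _ _, Category.assoc _ _ _⟩
      ⟨p ≫ r, by rw [Category.assoc, ← ht, reassoc_of% hp, hs], Category.assoc _ _ _⟩
    exact lift' _ _ q' (by rw [h1, Category.assoc, ht]) (by rw [h2, Category.assoc, hs])
  · exact etale_second g s t s' t' r h.etale_left ht hs hsq
  · refine etale_second g t s t' s' r h.etale_right hs ht ?_
    refine IsPullback.of_iso hsq (Iso.refl _) (prod.braiding U' U') (Iso.refl _) (prod.braiding U U)
      ?_ (by simp) ?_ ?_ <;> apply prod.hom_ext <;>
      simp only [Category.assoc, prod.lift_fst, prod.lift_snd, prod.map_fst, prod.map_snd, prod.map_fst_assoc, prod.map_snd_assoc, prod.braiding_hom, Iso.refl_hom, Category.id_comp, Category.comp_id, prod.lift_fst_assoc, prod.lift_snd_assoc]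

end Groth.Agent.S9871
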