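import Groth.Agent.Lib.AlgSp.Quotient
import Groth.Statements.S9873
-- import your own Groth.Agent.* helpers here

set_option autoImplicit false
universe u
open CategoryTheory CategoryTheory.Limits AlgebraicGeometry
open AlgSp

namespace Groth.Agent.S9873

/-- Let `X` be an algebraic space over `S`, `F` an fppf sheaf of sets over `S`, and `f : X ⟶ F` a map of
sheaves which is representable by schemes, etale and surjective (in the representable sense). Then
`F` is an algebraic space over `S`; in particular an fppf sheaf receiving a representable etale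
surjective map from a scheme is an algebraic space. -/
theorem result (S : Scheme.{u}) (X : AlgSp.Space S) (F : AlgSp.Sp S)
    (f : X.obj ⟶ F) (he : AlgSp.RepWith @Etale f) (hs : AlgSp.RepWith @Surjective f) :
    AlgSp.IsAlgSpace F := by
  obtain ⟨U, q, qe, qs⟩ := X.property.atlas
  have pe : RepWith @Etale (q ≫ f) := GrothLib.AlgSp.repWith_comp qe he
  have ps : RepWith @Surjective (q ≫ f) := GrothLib.AlgSp.repWith_comp qs hs
  have := GrothLib.AlgSp.chart_isLocallySurjective pe ps
  obtain ⟨R, t, s, sq⟩ := GrothLib.AlgSp.exists_isPullback_of_representable pe.1 (q ≫ f)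
  obtain ⟨t, rfl⟩ := (yon S).map_surjective t
  exact (GrothLib.AlgSp.isAlgSpace_of_kernelPair sq (pe.2 _ _ _ sq) (pe.2 _ _ _ sq.flip)).1

end Groth.Agent.S9873
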