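import Groth.Agent.Lib.AlgSp.Space
import Groth.Statements.S9875
-- import your own Groth.Agent.* helpers here

set_option autoImplicit false
universe u
open CategoryTheory CategoryTheory.Limits AlgebraicGeometry
open AlgSp

namespace Groth.Agent.S9875

/-- The category of algebraic spaces over `S` has fibre products, and the inclusion functor into fppf
sheaves of sets over `S` preserves them (the fibre product of sheaves of two algebraic spaces over a
third is an algebraic space and is their fibre product as algebraic spaces). -/
theorem result (S : Scheme.{u}) :
    HasPullbacks (AlgSp.Space S) ∧
      PreservesLimitsOfShape WalkingCospan (ObjectProperty.ι (AlgSp.IsAlgSpace (S := S))) := by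
  have key : ∀ F : WalkingCospan ⥤ AlgSp.Space S,
      CreatesLimit F (ObjectProperty.ι (AlgSp.IsAlgSpace (S := S))) := fun F =>
    createsLimitFullSubcategoryInclusion' F (limit.isLimit _)
      (GrothLib.AlgSp.isAlgSpace_pullback (F.obj WalkingCospan.one).property.diag
        (F.obj WalkingCospan.left).property (F.obj WalkingCospan.right).property
        (IsPullback.of_isLimit_cone (limit.isLimit (F ⋙ ObjectProperty.ι _))))
  constructor
  · exact ⟨fun F => by
      have := key F
      exact hasLimit_of_created F (ObjectProperty.ι _)⟩
  · exact ⟨fun {F} => by
      have := key F
      exact preservesLimit_of_createsLimit_and_hasLimit _ _⟩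

end Groth.Agent.S9875
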