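import Groth.Agent.Lib.AlgSp.Coproduct
import Groth.Statements.S9878
-- import your own Groth.Agent.* helpers here

set_option autoImplicit false
universe u
open CategoryTheory CategoryTheory.Limits AlgebraicGeometry
open AlgSp

namespace Groth.Agent.S9878

/-- Let `F`, `G` be fppf sheaves of sets over `S` and let `F ⨿ G` be their coproduct in sheaves (any
colimit binary cofan). Then the coprojection `F ⟶ F ⨿ G` is representable by schemes, by morphisms
that are both open immersions and closed immersions. -/
theorem result (S : Scheme.{u}) (F G : AlgSp.Sp S) (c : BinaryCofan F G)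
    (hc : IsColimit c) :
    AlgSp.RepWith (@IsOpenImmersion ⊓ @IsClosedImmersion) c.inl := by
  let X : ULift.{u} Bool → AlgSp.Sp S := fun b => if b.down then F else G
  let c' : Cofan X := Cofan.mk c.pt fun b => match b with
    | ⟨true⟩ => c.inl
    | ⟨false⟩ => c.inr
  have hc' : IsColimit c' := mkCofanColimit c'
    (fun s => (BinaryCofan.IsColimit.desc' hc (s.inj ⟨true⟩) (s.inj ⟨false⟩)).1)
    (fun s b => by
      obtain ⟨b⟩ := b
      cases b
      · exact (BinaryCofan.IsColimit.desc' hc (s.inj ⟨true⟩) (s.inj ⟨false⟩)).2.2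
      · exact (BinaryCofan.IsColimit.desc' hc (s.inj ⟨true⟩) (s.inj ⟨false⟩)).2.1)
    (fun s m hm => by
      refine BinaryCofan.IsColimit.hom_ext hc ?_ ?_
      · exact (hm ⟨true⟩).trans (BinaryCofan.IsColimit.desc' hc (s.inj ⟨true⟩) (s.inj ⟨false⟩)).2.1.symm
      · exact (hm ⟨false⟩).trans (BinaryCofan.IsColimit.desc' hc (s.inj ⟨true⟩) (s.inj ⟨false⟩)).2.2.symm)
  exact GrothLib.AlgSp.repWith_inj hc' ⟨true⟩

end Groth.Agent.S9878
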