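import Groth.Agent.Lib.AlgSp.Coproduct
import Groth.Statements.S9879
-- import your own Groth.Agent.* helpers here

set_option autoImplicit false
universe u
open CategoryTheory CategoryTheory.Limits AlgebraicGeometry
open AlgSp

namespace Groth.Agent.S9879

/-- Let `U` be a scheme over `S` and `F_i` a family of fppf sheaves of sets over `S` whose coproduct in
sheaves is isomorphic to `h_U`. Then each `F_i` is representable by a scheme `V_i` over `S` such
that `V_i ⟶ U` (the morphism inducing `h_{V_i} ≅ F_i ⟶ ∐ F_i ≅ h_U`) is an open and closed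
immersion, and `U` is the coproduct of the `V_i` in schemes. -/
theorem result (S : Scheme.{u}) (U : Over S) {ι : Type u}
    (F : ι → AlgSp.Sp S) (c : Cofan F) (hc : IsColimit c) (e : c.pt ≅ (AlgSp.yon S).obj U) :
    ∃ (V : ι → Over S) (g : ∀ i, V i ⟶ U) (ei : ∀ i, (AlgSp.yon S).obj (V i) ≅ F i),
      (∀ i, IsOpenImmersion (g i).left ∧ IsClosedImmersion (g i).left) ∧
      (∀ i, (ei i).hom ≫ c.inj i ≫ e.hom = (AlgSp.yon S).map (g i)) ∧
      Nonempty (IsColimit (Cofan.mk U.left (fun i => (g i).left))) := by
  choose V fst g sq ho hr using fun i => GrothLib.AlgSp.exists_isPullback_inj hc i e.inv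
  have : ∀ i, IsIso (fst i) := fun i => (sq i).isIso_fst_of_isIso
  refine ⟨V, g, fun i => asIso (fst i), fun i => ⟨ho i, ?_⟩, fun i => ?_, ?_⟩
  · have := ho i
    exact IsClosedImmersion.of_isPreimmersion (g i).left (hr i ▸ GrothLib.AlgSp.isClosed_compSet hc e.inv i)
  · rw [asIso_hom, ← Category.assoc, (sq i).w, Category.assoc, e.inv_hom_id, Category.comp_id]
  · refine nonempty_isColimit_cofanMk_of _ ?_ ?_
    · ext x
      simp only [TopologicalSpace.Opens.coe_iSup, TopologicalSpace.Opens.coe_top, Set.mem_iUnion,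
        Set.mem_univ, iff_true]
      obtain ⟨i, hi⟩ := GrothLib.AlgSp.exists_lift_inj hc e.inv x
      refine ⟨i, ?_⟩
      change x ∈ Set.range (g i).left
      rw [hr i]; exact hi
    · intro i j hij
      have h := GrothLib.AlgSp.disjoint_compSet hc e.inv hij
      rw [← hr i, ← hr j] at h
      rw [Function.onFun_apply, disjoint_iff, TopologicalSpace.Opens.ext_iff]
      simpa [Set.disjoint_iff_inter_eq_empty] using h

end Groth.Agent.S9879
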