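import Groth.Agent.Lib.AlgSp.Space
import Groth.Statements.S9886
-- import your own Groth.Agent.* helpers here

set_option autoImplicit false
universe u
open CategoryTheory CategoryTheory.Limits AlgebraicGeometry
open AlgSp

namespace Groth.Agent.S9886

/-- Let `F` be an fppf sheaf of sets over `S` and `P` a property of morphisms of schemes stable under
base change. Assume that for all schemes `U`, `V` over `S` and all `a : h_U ⟶ F`, `b : h_V ⟶ F` the
fibre product `h_U ×_F h_V` is represented by some scheme `W` over `S` with its projections induced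
by morphisms `W ⟶ U`, `W ⟶ V`, and that for every such represented fibre product the morphism `W ⟶ U
×_S V` has `P`. Then the diagonal `F ⟶ F × F` is representable by schemes and has `P`. (The
published statement is for a presheaf of sets `F` and a property `P` that is also fppf local on the
base; this row takes `F` an fppf sheaf and `P` only stable under base change.) -/
theorem result (S : Scheme.{u}) (F : AlgSp.Sp S) (P : MorphismProperty Scheme.{u})
    [P.IsStableUnderBaseChange]
    (h₁ : ∀ ⦃U V : Over S⦄ (a : (AlgSp.yon S).obj U ⟶ F) (b : (AlgSp.yon S).obj V ⟶ F),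
      ∃ (W : Over S) (fst : W ⟶ U) (snd : W ⟶ V), IsPullback ((AlgSp.yon S).map fst) ((AlgSp.yon S).map snd) a b)
    (h₂ : ∀ ⦃U V W : Over S⦄ (a : (AlgSp.yon S).obj U ⟶ F) (b : (AlgSp.yon S).obj V ⟶ F) (fst : W ⟶ U)
      (snd : W ⟶ V), IsPullback ((AlgSp.yon S).map fst) ((AlgSp.yon S).map snd) a b → P (prod.lift fst snd).left) :
    AlgSp.RepWith P (Limits.diag F) := by
  have : P.RespectsIso := MorphismProperty.IsStableUnderBaseChange.respectsIso
  apply GrothLib.AlgSp.repWith_mk
  intro T g
  obtain ⟨W, fst, snd, sq⟩ := h₁ (g ≫ Limits.prod.fst) (g ≫ Limits.prod.snd)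
  have hP := h₂ _ _ fst snd sq
  have hd : ∀ {W' : Over S} (c : W' ⟶ pullback (prod.lift fst snd) (Limits.diag T)),
      c ≫ pullback.fst _ _ ≫ fst = c ≫ pullback.snd _ _ ∧
        c ≫ pullback.fst _ _ ≫ snd = c ≫ pullback.snd _ _ := by
    intro W' c
    constructor
    · simpa only [Category.assoc, prod.lift_fst, Category.comp_id] using congrArg (fun x => c ≫ x ≫ Limits.prod.fst)
        (pullback.condition (f := prod.lift fst snd) (g := Limits.diag T))
    · simpa only [Category.assoc, prod.lift_snd, Category.comp_id] using congrArg (fun x => c ≫ x ≫ Limits.prod.snd)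
        (pullback.condition (f := prod.lift fst snd) (g := Limits.diag T))
  obtain ⟨e1, e2⟩ := hd (𝟙 _)
  rw [Category.id_comp, Category.id_comp] at e1 e2
  refine ⟨pullback (prod.lift fst snd) (Limits.diag T), (AlgSp.yon S).map (pullback.snd _ _) ≫ g ≫ Limits.prod.fst,
    pullback.snd (prod.lift fst snd) (Limits.diag T), ?_, ?_⟩
  · refine GrothLib.AlgSp.isPullback_of_yon ?_ fun W' a b hab => ?_
    · apply prod.hom_ext
      · simp only [Category.assoc, prod.lift_fst, Category.comp_id]
      · simp only [Category.assoc, prod.lift_snd, Category.comp_id]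
        conv_lhs => rw [← e1, Functor.map_comp, Category.assoc, sq.w, ← Functor.map_comp_assoc, e2]
    · obtain ⟨t, rfl⟩ := (AlgSp.yon S).map_surjective b
      have f1 : a = (AlgSp.yon S).map t ≫ g ≫ Limits.prod.fst := by
        simpa only [Category.assoc, prod.lift_fst, Category.comp_id] using congrArg (fun x => x ≫ Limits.prod.fst) hab
      have f2 : a = (AlgSp.yon S).map t ≫ g ≫ Limits.prod.snd := by
        simpa only [Category.assoc, prod.lift_snd, Category.comp_id] using congrArg (fun x => x ≫ Limits.prod.snd) hab
      let w : W' ⟶ W := (AlgSp.yon S).preimage (sq.lift ((AlgSp.yon S).map t) ((AlgSp.yon S).map t) (f1.symm.trans f2))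
      have w1 : w ≫ fst = t := (AlgSp.yon S).map_injective (by simp [w])
      have w2 : w ≫ snd = t := (AlgSp.yon S).map_injective (by simp [w])
      refine ⟨(AlgSp.yon S).map (pullback.lift w t (by
        apply prod.hom_ext <;> simp only [Category.assoc, prod.lift_fst, prod.lift_snd, Category.comp_id, w1, w2])),
        ⟨?_, ?_⟩, ?_⟩
      · rw [← Functor.map_comp_assoc, pullback.lift_snd, f1]
      · rw [← Functor.map_comp, pullback.lift_snd]
      · rintro c ⟨-, hc⟩
        obtain ⟨c, rfl⟩ := (AlgSp.yon S).map_surjective c
        rw [← Functor.map_comp] at hc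
        have hc' := (AlgSp.yon S).map_injective hc
        congr 1
        apply pullback.hom_ext
        · rw [pullback.lift_fst]
          apply (AlgSp.yon S).map_injective
          apply sq.hom_ext <;> rw [← Functor.map_comp, ← Functor.map_comp, Category.assoc]
          · rw [(hd c).1, hc', w1]
          · rw [(hd c).2, hc', w2]
        · rw [pullback.lift_snd, hc']
  · exact P.of_isPullback ((IsPullback.of_hasPullback _ _).map (Over.forget S)) hP

end Groth.Agent.S9886
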