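import Groth.Statements.S9890
import Groth.Agent.Lib.AlgSp.FreeActionSep
-- import your own Groth.Agent.* helpers here

set_option autoImplicit false
universe u
open CategoryTheory CategoryTheory.Limits AlgebraicGeometry
open AlgSp

namespace Groth.Agent.S9890

/-- Let a finite group `G` act freely (no non-identity element fixes a point together with its residue
field) by `S`-automorphisms on a scheme `U` over `S`, and let `s, t : R = ∐_{g ∈ G} U ⟶ U` be the
identity and the action. When `U ⟶ S` is quasi-separated, so is the quotient sheaf `U/G = U/R` over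
`S`; when `U ⟶ S` is separated, `U/G` is also separated over `S`. -/
theorem result (S : Scheme.{u}) (U : Over S) (G : Type u) [Group G] [Finite G]
    (ρ : G →* Aut U)
    (hfree : ∀ (g : G) (x : U.left), g ≠ 1 →
      U.left.fromSpecResidueField x ≫ (ρ g).hom.left ≠ U.left.fromSpecResidueField x)
    (c : Cofan (fun _ : G => U)) (hc : IsColimit c) (s t : c.pt ⟶ U)
    (hs : ∀ g, c.inj g ≫ s = 𝟙 U) (ht : ∀ g, c.inj g ≫ t = (ρ g).hom) :
    (QuasiSeparated U.hom → AlgSp.IsQuasiSeparatedSp (QuotSh.quot Scheme.fppfPrecoverage s t)) ∧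
      (IsSeparated U.hom → AlgSp.IsSeparatedSp (QuotSh.quot Scheme.fppfPrecoverage s t)) := by
  have heq := GrothLib.AlgSp.isEtaleEqvRel_of_free ρ hfree hc s t hs ht
  have sq := GrothLib.AlgSp.isPullback_yonQuotπ heq.toIsEqvRel
  haveI := GrothLib.AlgSp.isLocallySurjective_yonQuotπ s t
  obtain ⟨hX, pe, ps⟩ := GrothLib.AlgSp.isAlgSpace_of_kernelPair sq heq.etale_left heq.etale_right
  haveI := GrothLib.AlgSp.mono_prodLift_of_isEqvRel heq.toIsEqvRel
  constructor
  · intro h
    exact GrothLib.AlgSp.repWith_diag_of_chart GrothLib.AlgSp.fppfDescends_quasiCompact hX.1 pe ps sq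
      (GrothLib.AlgSp.quasiCompact_prodLift hc s t hs GrothLib.AlgSp.snd_left_quasiSeparated)
  · intro h
    exact GrothLib.AlgSp.repWith_diag_of_chart GrothLib.AlgSp.fppfDescends_isClosedImmersion hX.1 pe ps sq
      (GrothLib.AlgSp.isClosedImmersion_prodLift hc s t hs GrothLib.AlgSp.snd_left_isSeparated)

end Groth.Agent.S9890
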