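import Groth.Statements.S9891
-- import your own Groth.Agent.* helpers here

set_option autoImplicit false
universe u
open CategoryTheory CategoryTheory.Limits AlgebraicGeometry
open AlgSp

namespace Groth.Agent.S9891

/-- Let `a : F ⟶ G` be a map of presheaves of sets on schemes over `S` which is representable by
schemes. Then the relative diagonal `F ⟶ F ×_G F` is representable by schemes. -/
theorem result (S : Scheme.{u}) (F G : AlgSp.PSp S) (a : F ⟶ G)
    (ha : (AlgSp.pyon S).relativelyRepresentable a) :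
    (AlgSp.pyon S).relativelyRepresentable (pullback.diagonal a) := by
  intro T ξ
  let g := ξ ≫ pullback.fst a a ≫ a
  let s₁ : T ⟶ ha.pullback g := ha.lift (ξ ≫ pullback.fst a a) (𝟙 T) (by simp [g])
  let s₂ : T ⟶ ha.pullback g := ha.lift (ξ ≫ pullback.snd a a) (𝟙 T) (by simp [g, pullback.condition])
  have h₁ : (pyon S).map s₁ ≫ ha.fst g = ξ ≫ pullback.fst a a := ha.lift_fst _ _ _
  have h₂ : (pyon S).map s₂ ≫ ha.fst g = ξ ≫ pullback.snd a a := ha.lift_fst _ _ _
  have h₁' : s₁ ≫ ha.snd g = 𝟙 T := ha.lift_snd _ _ _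
  have h₂' : s₂ ≫ ha.snd g = 𝟙 T := ha.lift_snd _ _ _
  let e := equalizer.ι s₁ s₂
  have hlim := isLimitForkMapOfIsLimit (pyon S) (equalizer.condition s₁ s₂) (equalizerIsEqualizer s₁ s₂)
  have w : ((pyon S).map e ≫ ξ ≫ pullback.fst a a) ≫ pullback.diagonal a = (pyon S).map e ≫ ξ := by
    apply pullback.hom_ext
    · simp
    · simp only [Category.assoc, pullback.diagonal_snd, Category.comp_id]
      rw [← h₁, ← h₂, ← Functor.map_comp_assoc, ← Functor.map_comp_assoc, equalizer.condition]
  refine ⟨equalizer s₁ s₂, e, (pyon S).map e ≫ ξ ≫ pullback.fst a a, ⟨⟨w⟩, ⟨?_⟩⟩⟩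
  have key : ∀ c : PullbackCone (pullback.diagonal a) ξ, c.snd ≫ (pyon S).map s₁ = c.snd ≫ (pyon S).map s₂ := by
    intro c
    apply (ha.isPullback g).hom_ext
    · rw [Category.assoc, Category.assoc, h₁, h₂, ← Category.assoc, ← c.condition, Category.assoc,
        pullback.diagonal_fst, ← Category.assoc c.snd, ← c.condition, Category.assoc, pullback.diagonal_snd]
    · rw [Category.assoc, Category.assoc, ← Functor.map_comp, ← Functor.map_comp, h₁', h₂']
  refine PullbackCone.IsLimit.mk w (fun c => Fork.IsLimit.lift hlim c.snd (key c)) (fun c => ?_) (fun c => ?_)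
    (fun c m hm₁ hm₂ => ?_)
  · rw [← Category.assoc]
    erw [Fork.IsLimit.lift_ι' hlim]
    rw [← Category.assoc, ← c.condition, Category.assoc, pullback.diagonal_fst, Category.comp_id]
  · exact Fork.IsLimit.lift_ι' hlim _ _
  · apply Fork.IsLimit.hom_ext hlim
    refine hm₂.trans ?_
    exact (Fork.IsLimit.lift_ι' hlim _ _).symm

end Groth.Agent.S9891
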