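import Groth.Statements.S9894
import Groth.Agent.Lib.AlgSp.EffectiveDescent
-- import your own Groth.Agent.* helpers here

set_option autoImplicit false
universe u
open CategoryTheory CategoryTheory.Limits AlgebraicGeometry
open AlgSp GrothLib.AlgSp
set_option backward.isDefEq.respectTransparency false

namespace Groth.Agent.S9894

/-- Let `P` be a property of morphisms of schemes which is stable under base change, fppf local on the
base, and such that morphisms of type `P` satisfy descent: for every surjective, flat, locally
finitely presented `p : X' ⟶ S'` every descent datum relative to `p` whose scheme has structure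
morphism in `P` is effective (descent is asked along single fppf covers, the case the argument
uses). Let `F` be an algebraic space over `S`, `G` an fppf sheaf of sets with a map `f : G ⟶ F`, and
`q : h_U ⟶ F` representable etale and surjective such that the base change of `f` along `q` is
represented by a scheme `V` over `S` with `g : V ⟶ U` having `P`. Then `G` is an algebraic space
over `S` and `f` is representable by schemes with property `P`. -/
theorem result (S : Scheme.{u}) (P : MorphismProperty Scheme.{u})
    [P.IsStableUnderBaseChange] [P.IsLocalAtTarget Scheme.fppfPrecoverage]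
    (hdesc : ∀ ⦃X' S' : Scheme.{u}⦄ (p : X' ⟶ S'), Surjective p → Flat p → LocallyOfFinitePresentation p →
      ∀ D : Desc.SchDD p, P D.obj.hom → (Desc.toDD p).essImage D)
    (F : AlgSp.Space S) (G : AlgSp.Sp S) (f : G ⟶ F.obj) {U V : Over S} (q : (AlgSp.yon S).obj U ⟶ F.obj)
    (hqe : AlgSp.RepWith @Etale q) (hqs : AlgSp.RepWith @Surjective q) (fst : (AlgSp.yon S).obj V ⟶ G)
    (g : V ⟶ U) (sq : IsPullback fst ((AlgSp.yon S).map g) f q) (hP : P g.left) :
    AlgSp.IsAlgSpace G ∧ AlgSp.RepWith P f := by
  haveI : P.RespectsIso := MorphismProperty.IsStableUnderBaseChange.respectsIso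
  have hf : AlgSp.RepWith P f := repWith_mk fun T g' => by
    obtain ⟨T', c, l, sqT⟩ := exists_isPullback_yon F.property.diag g' q
    have hce : Etale c.left := hqe.2 g' _ _ sqT.flip
    have hcs : Surjective c.left := hqs.2 g' _ _ sqT.flip
    obtain ⟨W, v, w, sqW⟩ : ∃ (W : Over S) (v : W ⟶ V) (w : W ⟶ T'), IsPullback v w g l :=
      ⟨_, _, _, IsPullback.of_hasPullback g l⟩
    have hPw : P w.left := MorphismProperty.of_isPullback (isPullback_left sqW) hP
    have sq₃ : IsPullback ((AlgSp.yon S).map v ≫ fst) ((AlgSp.yon S).map w) f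
        ((AlgSp.yon S).map c ≫ g') := by
      rw [sqT.w]
      exact (isPullback_yon sqW).paste_horiz sq
    obtain ⟨GT, π₁, π₂, sq₂⟩ : ∃ (GT : AlgSp.Sp S) (π₁ : GT ⟶ G) (π₂ : GT ⟶ (AlgSp.yon S).obj T),
        IsPullback π₁ π₂ f g' := ⟨_, _, _, IsPullback.of_hasPullback f g'⟩
    let pr := sq₂.lift ((AlgSp.yon S).map v ≫ fst) ((AlgSp.yon S).map w ≫ (AlgSp.yon S).map c)
      (by rw [sq₃.w, Category.assoc])
    have sq₄ : IsPullback pr ((AlgSp.yon S).map w) π₂ ((AlgSp.yon S).map c) :=
      IsPullback.of_right (by simpa only [pr, IsPullback.lift_fst] using sq₃)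
        (by simp only [pr, IsPullback.lift_snd]) sq₂
    obtain ⟨T₀, u₀, e, i, sq₀, hi⟩ := exists_iso_yon_of_effective sq₄
      (hdesc c.left hcs inferInstance inferInstance (sheafDD sq₄) hPw)
    refine ⟨T₀, i.hom ≫ π₁, u₀, sq₂.of_iso i.symm (Iso.refl _) (Iso.refl _) (Iso.refl _)
      (by simp) (by simp [← hi]) (by simp) (by simp), ?_⟩
    exact fppfDescends_of_isLocalAtTarget P _ _ _ _ (isPullback_left sq₀) inferInstance inferInstance hcs hPw
  exact ⟨isAlgSpace_of_representable F.property hf.1, hf⟩

end Groth.Agent.S9894
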