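import Groth.Statements.S9895
import Groth.Agent.Lib.AlgSp.FreeActionSep
import Groth.Agent.Lib.AlgSp.ValExt

set_option autoImplicit false
set_option backward.isDefEq.respectTransparency false

universe u
open CategoryTheory CategoryTheory.Limits AlgebraicGeometry
open AlgSp

namespace Groth.Agent.S9895

open GrothLib.AlgSp

/-- A field point hitting `x` factors through the residue field of `x`. -/
private theorem exists_residue_factor {X : Scheme.{u}} {K : Type u} [Field K] (q : Spec (CommRingCat.of K) ⟶ X)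
    (x : ↥X) (hx : q (IsLocalRing.closedPoint K) = x) :
    ∃ φ : X.residueField x ⟶ CommRingCat.of K, Spec.map φ ≫ X.fromSpecResidueField x = q := by
  subst hx
  exact ⟨_, (X.SpecToEquivOfField K).symm_apply_apply q⟩


/-- Let a group `G` act freely (no non-identity element fixes a point together with its residue field)
by `S`-automorphisms on a scheme `U` over `S`, let `s, t : R = ∐_{g ∈ G} U ⟶ U` be the identity and
the action, and let `ξ : h_{Spec k} ⟶ U/R` be a morphism from the spectrum of a field `k` over `S`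
to the quotient sheaf. Then one can find a finite Galois extension `k'/k` together with a finite
subgroup `H ⊆ G`, a group isomorphism `e : H ≅ Gal(k'/k)` and a morphism `x' : Spec k' ⟶ U` over `S`
which is `H`-equivariant (with `h ∈ H` acting on `Spec k'` through `Spec` of `(e h)⁻¹`) and whose
composite with `U ⟶ U/R` is the restriction of `ξ` to `Spec k'`. (The published statement also
asserts that such data determine a morphism from `Spec k` to the quotient; this row states only the
direction above.) -/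
theorem result (S : Scheme.{u}) (U : Over S) (G : Type u) [Group G]
    (ρ : G →* Aut U)
    (hfree : ∀ (g : G) (x : U.left), g ≠ 1 →
      U.left.fromSpecResidueField x ≫ (ρ g).hom.left ≠ U.left.fromSpecResidueField x)
    (c : Cofan (fun _ : G => U)) (hc : IsColimit c) (s t : c.pt ⟶ U)
    (hs : ∀ g, c.inj g ≫ s = 𝟙 U) (ht : ∀ g, c.inj g ≫ t = (ρ g).hom)
    (k : Type u) [Field k] (σ : Spec (CommRingCat.of k) ⟶ S)
    (ξ : (AlgSp.yon S).obj (Over.mk σ) ⟶ QuotSh.quot Scheme.fppfPrecoverage s t) :
    ∃ (k' : Type u) (_ : Field k') (_ : Algebra k k') (_ : FiniteDimensional k k') (_ : IsGalois k k')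
      (H : Subgroup G) (_ : Finite H) (e : H ≃* (k' ≃ₐ[k] k'))
      (x' : Over.mk (Spec.map (CommRingCat.ofHom (algebraMap k k')) ≫ σ) ⟶ U),
      (∀ h : H, Spec.map (CommRingCat.ofHom (e h).symm.toRingEquiv.toRingHom) ≫ x'.left =
        x'.left ≫ (ρ (h : G)).hom.left) ∧
      (AlgSp.yon S).map x' ≫ (QuotSh.repIsoUliftYoneda Scheme.fppfPrecoverage U).inv ≫ QuotSh.quotπ Scheme.fppfPrecoverage s t =
        (AlgSp.yon S).map (Over.homMk (Spec.map (CommRingCat.ofHom (algebraMap k k'))) :
          Over.mk (Spec.map (CommRingCat.ofHom (algebraMap k k')) ≫ σ) ⟶ Over.mk σ) ≫ ξ := by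
  have heq := isEtaleEqvRel_of_free ρ hfree hc s t hs ht
  have sq := isPullback_yonQuotπ heq.toIsEqvRel
  haveI := isLocallySurjective_yonQuotπ s t
  obtain ⟨hX, pe, ps⟩ := isAlgSpace_of_kernelPair sq heq.etale_left heq.etale_right
  set π := yonQuotπ s t with hπ
  let K₀ : Over S := Over.mk σ
  obtain ⟨P, fst, snd, sqP⟩ := exists_isPullback_of_representable pe.1 ξ
  have hsnd : Etale snd.left := pe.2 _ fst snd sqP
  have hsnds : Surjective snd.left := ps.2 _ fst snd sqP
  obtain ⟨fst, rfl⟩ := (AlgSp.yon S).map_surjective fst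
  have hρπ : ∀ g, (AlgSp.yon S).map (ρ g).hom ≫ π = π := fun g => by
    rw [← ht g, Functor.map_comp, Category.assoc, sq.w, ← Category.assoc, ← Functor.map_comp, hs,
      CategoryTheory.Functor.map_id, Category.id_comp]
  -- the action on the torsor
  have hγex : ∀ g, ∃ γ : P ⟶ P, γ ≫ fst = fst ≫ (ρ g).hom ∧ γ ≫ snd = snd := by
    intro g
    obtain ⟨l, h₁, h₂⟩ := sqP.exists_lift ((AlgSp.yon S).map (fst ≫ (ρ g).hom)) ((AlgSp.yon S).map snd) (by
      rw [Functor.map_comp, Category.assoc, hρπ, sqP.w])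
    obtain ⟨l, rfl⟩ := (AlgSp.yon S).map_surjective l
    rw [← Functor.map_comp] at h₁ h₂
    exact ⟨l, (AlgSp.yon S).map_injective h₁, (AlgSp.yon S).map_injective h₂⟩
  choose γ hγ₁ hγ₂ using hγex
  have hPext : ∀ {T : Over S} (a b : T ⟶ P), a ≫ fst = b ≫ fst → a ≫ snd = b ≫ snd → a = b := fun a b h₁ h₂ =>
    (AlgSp.yon S).map_injective (sqP.hom_ext (by rw [← Functor.map_comp, ← Functor.map_comp, h₁])
      (by rw [← Functor.map_comp, ← Functor.map_comp, h₂]))
  have hγmul : ∀ g g', γ (g * g') = γ g' ≫ γ g := fun g g' => hPext _ _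
    (by rw [hγ₁, Category.assoc, hγ₁, ← Category.assoc, hγ₁, hom_ρ_mul, Category.assoc])
    (by rw [hγ₂, Category.assoc, hγ₂, hγ₂])
  have hγone : γ 1 = 𝟙 P := hPext _ _ (by rw [hγ₁, hom_ρ_one, Category.comp_id, Category.id_comp])
    (by rw [hγ₂, Category.id_comp])
  -- transitivity on field points
  have htrans : ∀ {Ω : Type u} [Field Ω] (a b : Spec (CommRingCat.of Ω) ⟶ P.left),
      a ≫ snd.left = b ≫ snd.left → ∃ g, b = a ≫ (γ g).left := by
    intro Ω _ a b hab
    let T : Over S := Over.mk (a ≫ P.hom)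
    let aT : T ⟶ P := Over.homMk a
    let bT : T ⟶ P := Over.homMk b (by
      change b ≫ P.hom = a ≫ P.hom
      rw [← Over.w snd, ← Category.assoc, ← hab, Category.assoc])
    have habT : aT ≫ snd = bT ≫ snd := Over.OverMorphism.ext hab
    obtain ⟨r, hr₁, hr₂⟩ := sq.exists_lift ((AlgSp.yon S).map (bT ≫ fst)) ((AlgSp.yon S).map (aT ≫ fst)) (by
      rw [Functor.map_comp, Functor.map_comp, Category.assoc, Category.assoc, sqP.w, ← Functor.map_comp_assoc,
        ← Functor.map_comp_assoc, habT])
    obtain ⟨r, rfl⟩ := (AlgSp.yon S).map_surjective r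
    rw [← Functor.map_comp] at hr₁ hr₂
    replace hr₁ := (AlgSp.yon S).map_injective hr₁
    replace hr₂ := (AlgSp.yon S).map_injective hr₂
    obtain ⟨g, hg⟩ := cofan_inj_cover hc (r.left (IsLocalRing.closedPoint Ω))
    haveI : Subsingleton ↥(Spec (CommRingCat.of Ω)) := inferInstanceAs (Subsingleton (PrimeSpectrum Ω))
    have h := (factor_of_mem ρ hc s t hs ht r g ⊤ (fun z _ => by
      rwa [show z = IsLocalRing.closedPoint Ω from @Subsingleton.elim ↥(Spec (CommRingCat.of Ω)) _ _ _])).2
    rw [hr₁, hr₂] at h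
    haveI : IsIso (⊤ : T.left.Opens).ι := inferInstanceAs (IsIso T.left.topIso.hom)
    have h' : bT ≫ fst = aT ≫ fst ≫ (ρ g).hom := Over.OverMorphism.ext
      ((cancel_epi (⊤ : T.left.Opens).ι).1 (by rw [h]; simp only [Over.comp_left, Category.assoc]))
    refine ⟨g, congrArg (fun z : T ⟶ P => z.left) (hPext bT (aT ≫ γ g) ?_ ?_)⟩
    · rw [Category.assoc, hγ₁, h']
    · rw [Category.assoc, hγ₂, habT]
  -- a point and its residue field
  obtain ⟨v, -⟩ := hsnds.surj (IsLocalRing.closedPoint k : ↥K₀.left)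
  let k' : Type u := P.left.residueField v
  let v' : Spec (CommRingCat.of k') ⟶ P.left := P.left.fromSpecResidueField v
  let pt : ↥(Spec (CommRingCat.of k')) := IsLocalRing.closedPoint k'
  let ψ : CommRingCat.of k ⟶ CommRingCat.of k' := Spec.preimage (v' ≫ snd.left)
  have hψ : Spec.map ψ = v' ≫ snd.left := Spec.map_preimage _
  letI : Algebra k k' := ψ.hom.toAlgebra
  haveI : Etale (X := P.left) (Y := Spec (CommRingCat.of k)) snd.left := hsnd
  obtain ⟨L, iL, ψL, p, hsep, hp, hpv⟩ := exists_finite_separable_point (W := P.left) (K := k) snd.left v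
  letI : Algebra k L := ψL.toAlgebra
  haveI : Module.Finite k L := hsep.1
  haveI : Algebra.IsSeparable k L := hsep.2
  obtain ⟨φ, hφ⟩ := exists_residue_factor p v hpv
  let ιL : k' →ₐ[k] L :=
    { φ.hom with
      commutes' := fun c => by
        have : ψ ≫ φ = CommRingCat.ofHom ψL := by
          apply Spec.map_injective
          rw [Spec.map_comp, hψ, ← Category.assoc]
          exact (congrArg (· ≫ snd.left) hφ).trans hp
        exact congrArg (fun z => z.hom c) this }
  haveI : FiniteDimensional k k' := Module.Finite.of_injective ιL.toLinearMap ιL.toRingHom.injective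
  haveI : Algebra.IsSeparable k k' := Algebra.IsSeparable.of_algHom k L ιL
  -- the stabilizer of the point
  let H : Subgroup G :=
    { carrier := {g | (γ g).left v = v}
      one_mem' := by
        change (γ 1).left v = v
        rw [hγone]
        rfl
      mul_mem' := fun {g g'} hg hg' => by
        change (γ (g * g')).left v = v
        rw [hγmul, Over.comp_left, Scheme.Hom.comp_apply, hg', hg]
      inv_mem' := fun {g} (hg : (γ g).left v = v) => by
        change (γ g⁻¹).left v = v
        conv_lhs => rw [← hg]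
        rw [← Scheme.Hom.comp_apply, ← Over.comp_left, ← hγmul, inv_mul_cancel, hγone]
        rfl }
  haveI hmono : Mono v' := by
    haveI : IsPreimmersion v' := inferInstanceAs (IsPreimmersion (P.left.fromSpecResidueField v))
    infer_instance
  have hv' : ∀ z, v' z = v := fun z => P.left.fromSpecResidueField_apply v z
  have hθex : ∀ h : H, ∃ θ : k' →ₐ[k] k', Spec.map (CommRingCat.ofHom θ.toRingHom) ≫ v' = v' ≫ (γ (h : G)).left := by
    intro h
    obtain ⟨φ, hφ⟩ := exists_residue_factor (K := k') (v' ≫ (γ (h : G)).left) v (by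
      rw [Scheme.Hom.comp_apply]
      exact (congrArg (γ (h : G)).left (hv' _)).trans h.2)
    refine ⟨{ φ.hom with commutes' := fun c => ?_ }, hφ⟩
    have : ψ ≫ φ = ψ := by
      apply Spec.map_injective
      rw [Spec.map_comp, hψ, ← Category.assoc]
      refine (congrArg (· ≫ snd.left) hφ).trans ?_
      simp only [Category.assoc]
      rw [← Over.comp_left, hγ₂]
    exact congrArg (fun z => z.hom c) this
  choose θ hθ using hθex
  have hθmul : ∀ h h' : H, θ (h * h') = (θ h').comp (θ h) := by
    intro h h'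
    refine AlgHom.coe_ringHom_injective ?_
    refine congrArg CommRingCat.Hom.hom (Spec.map_injective ((cancel_mono v').1 ?_) :
      CommRingCat.ofHom (θ (h * h')).toRingHom = CommRingCat.ofHom ((θ h').comp (θ h)).toRingHom)
    rw [hθ, show CommRingCat.ofHom ((θ h').comp (θ h)).toRingHom =
      CommRingCat.ofHom (θ h).toRingHom ≫ CommRingCat.ofHom (θ h').toRingHom from rfl, Spec.map_comp,
      Category.assoc, hθ, ← Category.assoc, hθ, Category.assoc, Subgroup.coe_mul, hγmul, Over.comp_left]
  let E : H → (k' ≃ₐ[k] k') := fun h => AlgEquiv.ofBijective (θ h) (AlgHom.bijective (θ h))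
  let eHom : H →* (k' ≃ₐ[k] k') := MonoidHom.mk' (fun h => (E h)⁻¹) (fun h h' => by
    have : E (h * h') = E h' * E h := AlgEquiv.ext fun x => DFunLike.congr_fun (hθmul h h') x
    rw [this, mul_inv_rev])
  let x' : Over.mk (Spec.map (CommRingCat.ofHom (algebraMap k k')) ≫ σ) ⟶ U :=
    Over.homMk (v' ≫ fst.left) (by
      change (v' ≫ fst.left) ≫ U.hom = Spec.map ψ ≫ σ
      rw [hψ, Category.assoc, Category.assoc, Over.w fst]
      exact congrArg (v' ≫ ·) (Over.w snd).symm)
  -- embeddings into an algebraic closure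
  let Ω : Type u := AlgebraicClosure k
  let ι : k' →ₐ[k] Ω := IsAlgClosed.lift
  have hemb : ∀ τ : k' →ₐ[k] Ω, ∃ h : H, ι.comp (θ h) = τ := by
    intro τ
    have hk : ∀ τ : k' →ₐ[k] Ω, (Spec.map (CommRingCat.ofHom τ.toRingHom) ≫ v') ≫ snd.left =
        Spec.map (CommRingCat.ofHom (algebraMap k Ω)) := by
      intro τ
      rw [Category.assoc, ← hψ, ← Spec.map_comp]
      congr 1
      ext c
      exact τ.commutes c
    obtain ⟨g, hg⟩ := htrans _ _ ((hk ι).trans (hk τ).symm)
    have hgH : (γ g).left v = v := by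
      have h1 := congrArg (fun z : Spec (CommRingCat.of Ω) ⟶ P.left => z (IsLocalRing.closedPoint Ω)) hg
      simp only [Scheme.Hom.comp_apply] at h1
      exact ((congrArg (γ g).left (hv' _)).symm.trans h1.symm).trans (hv' _)
    refine ⟨⟨g, hgH⟩, AlgHom.coe_ringHom_injective ?_⟩
    refine congrArg CommRingCat.Hom.hom (Spec.map_injective ((cancel_mono v').1 ?_) :
      CommRingCat.ofHom (ι.comp (θ ⟨g, hgH⟩)).toRingHom = CommRingCat.ofHom τ.toRingHom)
    rw [show CommRingCat.ofHom (ι.comp (θ ⟨g, hgH⟩)).toRingHom =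
      CommRingCat.ofHom (θ ⟨g, hgH⟩).toRingHom ≫ CommRingCat.ofHom ι.toRingHom from rfl, Spec.map_comp,
      Category.assoc, hθ, hg, Category.assoc]
  have hinj : Function.Injective eHom := by
    intro h h' hh
    have hθeq : θ h = θ h' := AlgHom.ext fun x => DFunLike.congr_fun (inv_injective hh) x
    have h1 : (v' ≫ fst.left) ≫ (ρ (h : G)).hom.left = (v' ≫ fst.left) ≫ (ρ (h' : G)).hom.left := by
      have h2 : ∀ g : H, (v' ≫ fst.left) ≫ (ρ (g : G)).hom.left =
          (Spec.map (CommRingCat.ofHom (θ g).toRingHom) ≫ v') ≫ fst.left := fun g => by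
        rw [hθ, Category.assoc, Category.assoc, ← Over.comp_left, ← Over.comp_left, hγ₁]
      rw [h2, h2, hθeq]
    exact Subtype.ext (eq_of_field_point ρ hfree _ h1)
  haveI : Finite H := Finite.of_injective eHom hinj
  have hAut : Function.Bijective (fun f : k' ≃ₐ[k] k' => ι.comp f.toAlgHom) := by
    refine ⟨fun f f' hff => AlgEquiv.ext fun x => ι.toRingHom.injective (DFunLike.congr_fun hff x), fun τ => ?_⟩
    obtain ⟨h, hh⟩ := hemb τ
    exact ⟨E h, hh⟩
  haveI : IsGalois k k' := by
    refine IsGalois.of_card_aut_eq_finrank k k' ?_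
    rw [Nat.card_eq_of_bijective _ hAut, Nat.card_eq_fintype_card, AlgHom.card k k' Ω]
  have hsurj : Function.Surjective eHom := by
    intro f
    obtain ⟨h, hh⟩ := hemb (ι.comp f.symm.toAlgHom)
    refine ⟨h, ?_⟩
    change (E h)⁻¹ = f
    rw [inv_eq_iff_eq_inv]
    exact AlgEquiv.ext fun x => ι.toRingHom.injective (DFunLike.congr_fun hh x)
  refine ⟨k', inferInstance, inferInstance, inferInstance, inferInstance, H, inferInstance,
    MulEquiv.ofBijective eHom ⟨hinj, hsurj⟩, x', fun h => ?_, ?_⟩
  · change Spec.map (CommRingCat.ofHom (θ h).toRingHom) ≫ v' ≫ fst.left = (v' ≫ fst.left) ≫ (ρ (h : G)).hom.left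
    rw [reassoc_of% (hθ h), Category.assoc, ← Over.comp_left, ← Over.comp_left, hγ₁]
  · let vT : Over.mk (Spec.map (CommRingCat.ofHom (algebraMap k k')) ≫ σ) ⟶ P := Over.homMk v' (by
      change v' ≫ P.hom = Spec.map ψ ≫ σ
      rw [hψ, Category.assoc]
      exact congrArg (v' ≫ ·) (Over.w snd).symm)
    have e1 : x' = vT ≫ fst := Over.OverMorphism.ext rfl
    have e2 : (Over.homMk (Spec.map (CommRingCat.ofHom (algebraMap k k'))) :
        Over.mk (Spec.map (CommRingCat.ofHom (algebraMap k k')) ≫ σ) ⟶ Over.mk σ) = vT ≫ snd :=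
      Over.OverMorphism.ext hψ
    rw [e1, e2, Functor.map_comp, Functor.map_comp, Category.assoc, Category.assoc]
    exact congrArg ((AlgSp.yon S).map vT ≫ ·) sqP.w

end Groth.Agent.S9895
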