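import Groth.Agent.Lib.AlgSp.PointsUniv
import Groth.Statements.S9910
-- import your own Groth.Agent.* helpers here

set_option autoImplicit false
universe u
open CategoryTheory CategoryTheory.Limits AlgebraicGeometry
open AlgSp

namespace Groth.Agent.S9910

/-- (4) ⇒ (1): universal openness of a morphism of algebraic spaces descends along a surjective etale
base change from a scheme. -/
theorem result {S : Scheme.{u}} {X Y : AlgSp.Space S} (f : X ⟶ Y) (V : Over S)
    (p : (AlgSp.yon S).obj V ⟶ Y.obj) (hp : AlgSp.RepWith @Etale p) (hps : AlgSp.RepWith @Surjective p)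
    {P : AlgSp.Sp S} (fst : P ⟶ X.obj) (snd : P ⟶ (AlgSp.yon S).obj V) (sq : IsPullback fst snd f.hom p)
    (h : AlgSp.IsUnivOpenMor snd) : AlgSp.IsUnivOpenMor f.hom := by
  intro Z Z' hZ g fst' snd' sqZ
  have hC := GrothLib.AlgSp.isAlgSpace_pullback' Y.property hZ (IsAlgSpace.yon_obj V) g p
  obtain ⟨W, r, re, rs⟩ := hC.atlas
  have hre : RepWith @Etale (r ≫ pullback.fst g p) :=
    GrothLib.AlgSp.repWith_comp re (GrothLib.AlgSp.repWith_of_isPullback (IsPullback.of_hasPullback g p).flip hp)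
  have hrs : RepWith @Surjective (r ≫ pullback.fst g p) :=
    GrothLib.AlgSp.repWith_comp rs (GrothLib.AlgSp.repWith_of_isPullback (IsPullback.of_hasPullback g p).flip hps)
  obtain ⟨Q, q₁, q₂, sq₁, sq₂⟩ := GrothLib.AlgSp.exists_isPullback_along sqZ (r ≫ pullback.fst g p)
  refine GrothLib.AlgSp.isOpenMap_of_charts (ι := PUnit.{u + 1}) (W := fun _ => W)
    (fun _ => r ≫ pullback.fst g p) (fun A hA =>
      (GrothLib.AlgSp.isOpenQuotientMap_ofPt hre hrs).isQuotientMap.isOpen_preimage.1 (hA ⟨⟩)) fun _ => ?_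
  have e : (r ≫ pullback.fst g p) ≫ g = (r ≫ pullback.snd g p) ≫ p := by
    rw [Category.assoc, pullback.condition, Category.assoc]
  rw [e] at sq₂
  refine ⟨Q, q₁, q₂, sq₁, h (IsAlgSpace.yon_obj W) (r ≫ pullback.snd g p)
    (sq.lift (q₁ ≫ fst') (q₂ ≫ r ≫ pullback.snd g p) (by rw [sq₂.w]; simp only [Category.assoc])) q₂ ?_⟩
  exact IsPullback.of_right (by rw [sq.lift_fst]; exact sq₂) (by rw [sq.lift_snd]) sq

end Groth.Agent.S9910
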