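import Groth.Agent.Lib.AlgSp.PointsUniv
import Groth.Agent.Lib.AlgSp.FieldBase
import Groth.Statements.S9911
-- import your own Groth.Agent.* helpers here

set_option autoImplicit false
universe u
open CategoryTheory CategoryTheory.Limits AlgebraicGeometry
open AlgSp

namespace Groth.Agent.S9911

/-- A morphism from an algebraic space to the spectrum of a field is universally open. -/
theorem result {S : Scheme.{u}} (X : AlgSp.Space S) {k : Type u} [Field k]
    (str : Spec (CommRingCat.of k) ⟶ S) (p : X ⟶ (AlgSp.ofScheme S).obj (Over.mk str)) :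
    AlgSp.IsUnivOpenMor p.hom := by
  suffices ∀ (p' : X.obj ⟶ (yon S).obj (Over.mk str)), IsUnivOpenMor p' from this p.hom
  intro p'
  refine GrothLib.AlgSp.isUnivOpenMor_of_affine fun T _ g P fst snd sq => ?_
  obtain ⟨U, q, qe, qs⟩ := X.property.atlas
  obtain ⟨φ, rfl⟩ := (yon S).map_surjective g
  obtain ⟨α, hα⟩ := (yon S).map_surjective (q ≫ p')
  have sqW := IsPullback.of_hasPullback α φ
  have sqY := GrothLib.AlgSp.isPullback_yon sqW
  let m : (yon S).obj (pullback α φ) ⟶ P := sq.lift ((yon S).map (pullback.fst α φ) ≫ q)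
    ((yon S).map (pullback.snd α φ)) (by rw [Category.assoc, ← hα, sqY.w])
  have sqm : IsPullback ((yon S).map (pullback.fst α φ)) m q fst := by
    refine IsPullback.of_bot ?_ (sq.lift_fst _ _ _).symm sq
    rw [sq.lift_snd, ← hα]
    exact sqY
  have ms : RepWith @Surjective m := GrothLib.AlgSp.repWith_of_isPullback sqm qs
  have hα' : UniversallyOpen α.left := GrothLib.AlgSp.universallyOpen_to_field α.left
  have ho : UniversallyOpen (pullback.snd α φ).left :=
    MorphismProperty.of_isPullback (GrothLib.AlgSp.isPullback_left sqW) hα'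
  intro A hA
  have e : Points.map snd '' A = Points.map ((yon S).map (pullback.snd α φ)) ''
      (Points.map m ⁻¹' A) := by
    conv_lhs => rw [← (GrothLib.AlgSp.surjective_map_of_repWith ms).image_preimage A, ← Set.image_comp]
    refine Set.image_congr fun x _ => ?_
    simp only [Function.comp]
    rw [← Points.map_comp, sq.lift_snd]
  rw [e]
  exact (GrothLib.AlgSp.isOpenMap_map_yon_iff _).2 (pullback.snd α φ).left.isOpenMap _ (hA.preimage (Points.continuous_map m))

end Groth.Agent.S9911
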