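import Groth.Agent.Lib.AlgSp.OpenSub
import Groth.Agent.Lib.AlgSp.PointsUniv
import Groth.Agent.Lib.AlgSp.LocPPoints
import Groth.Agent.Lib.AlgSp.FlatMono
import Groth.Statements.S9913
-- import your own Groth.Agent.* helpers here

set_option autoImplicit false
universe u
open CategoryTheory CategoryTheory.Limits AlgebraicGeometry
open AlgSp

namespace Groth.Agent.S9913

/-- For a quasi-compact morphism of algebraic spaces, the induced map on points pulls quasi-compact
opens back to quasi-compact subsets. -/
theorem result {S : Scheme.{u}} {X Y : AlgSp.Space S} (f : X ⟶ Y)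
    (hf : AlgSp.IsQuasiCompactMor f.hom) (V : Set (AlgSp.Points Y.obj)) (hV : IsOpen V) (hVc : IsCompact V) :
    IsCompact (AlgSp.Points.map f.hom ⁻¹' V) := by
  let O := GrothLib.AlgSp.openSub Y.obj V
  let j : O ⟶ Y.obj := GrothLib.AlgSp.openSubι Y.obj V
  have : Mono j := GrothLib.AlgSp.mono_openSubι Y.obj V
  have hO : AlgSp.IsAlgSpace O := GrothLib.AlgSp.isAlgSpace_openSub Y.property hV
  have hje : AlgSp.LocP @Etale j := GrothLib.AlgSp.EtLocal.etale.locP_of_repWith Y.property
    (GrothLib.AlgSp.repWith_mono (GrothLib.AlgSp.repWith_openSubι hV) fun _ _ g (hg : IsOpenImmersion g) =>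
      (inferInstance : Etale g))
  have hemb : Topology.IsInducing (AlgSp.Points.map j) :=
    (Topology.IsOpenEmbedding.of_continuous_injective_isOpenMap (Points.continuous_map j)
      (GrothLib.AlgSp.injective_map_of_mono j)
      (GrothLib.AlgSp.isOpenMap_map_of_locP (fun _ _ h hh => by have : Etale h := hh; exact h.isOpenMap)
        hO Y.property hje)).isInducing
  have hr : Set.range (AlgSp.Points.map j) = V := GrothLib.AlgSp.range_openSubι
  have : CompactSpace (AlgSp.Points O) := ⟨hemb.isCompact_iff.2 (by rw [Set.image_univ, hr]; exact hVc)⟩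
  have sq := IsPullback.of_hasPullback f.hom j
  have := GrothLib.AlgSp.compactSpace_points_of_isQuasiCompactSp
    (hf hO (GrothLib.AlgSp.isQuasiCompactSp_of_compactSpace_points hO) j _ _ sq)
  have e : AlgSp.Points.map f.hom ⁻¹' V = Set.range (AlgSp.Points.map (pullback.fst f.hom j)) := by
    refine Set.Subset.antisymm (fun x hx => ?_) ?_
    · obtain ⟨o, ho⟩ := hr.superset hx
      obtain ⟨z, hz, -⟩ := GrothLib.AlgSp.exists_of_isPullback sq (x := x) (y := o) ho.symm
      exact ⟨z, hz⟩
    · rintro _ ⟨z, rfl⟩
      show _ ∈ V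
      rw [← Points.map_comp, sq.w, Points.map_comp]
      exact hr.subset ⟨_, rfl⟩
  rw [e]
  exact isCompact_range (Points.continuous_map _)

end Groth.Agent.S9913
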