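import Groth.Agent.Lib.AlgSp.PointsUniv
import Groth.Statements.S9915
-- import your own Groth.Agent.* helpers here

set_option autoImplicit false
universe u
open CategoryTheory CategoryTheory.Limits AlgebraicGeometry
open AlgSp

namespace Groth.Agent.S9915

/-- In a commutative triangle of algebraic spaces with f : X -> Y surjective, if X -> Z is quasi-compact
then Y -> Z is quasi-compact. -/
theorem result {S : Scheme.{u}} {X Y Z : AlgSp.Space S} (f : X ⟶ Y)
    (p : X ⟶ Z) (q : Y ⟶ Z) (comm : f ≫ q = p) (hf : AlgSp.IsSurjectiveMor f.hom)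
    (hp : AlgSp.IsQuasiCompactMor p.hom) : AlgSp.IsQuasiCompactMor q.hom := by
  intro W W' hW hWc g fst snd sq
  have hc : f.hom ≫ q.hom = p.hom := by rw [← comm]; rfl
  have sqX := IsPullback.of_hasPullback f.hom fst
  have sq' := sqX.paste_vert sq
  rw [hc] at sq'
  have := GrothLib.AlgSp.compactSpace_points_of_isQuasiCompactSp (hp hW hWc g _ _ sq')
  have : CompactSpace (Points W') := Function.Surjective.compactSpace (Points.continuous_map _)
    (GrothLib.AlgSp.surjective_map_of_isPullback sqX hf)
  exact GrothLib.AlgSp.isQuasiCompactSp_of_compactSpace_points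
    (GrothLib.AlgSp.isAlgSpace_pullback Z.property.diag Y.property hW sq)

end Groth.Agent.S9915
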