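import Groth.Agent.Lib.AlgSp.PointsUniv
import Groth.Statements.S9916
-- import your own Groth.Agent.* helpers here

set_option autoImplicit false
universe u
open CategoryTheory CategoryTheory.Limits AlgebraicGeometry
open AlgSp

namespace Groth.Agent.S9916

/-- Quasi-compactness of a morphism of algebraic spaces descends along a universally open surjective
base change. -/
theorem result {S : Scheme.{u}} {X Y Y' X' : AlgSp.Space S}
    (f : X ⟶ Y) (g : Y' ⟶ Y) (fst : X' ⟶ X) (f' : X' ⟶ Y') (sq : IsPullback fst.hom f'.hom f.hom g.hom)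
    (hg : AlgSp.IsUnivOpenMor g.hom) (hgs : AlgSp.IsSurjectiveMor g.hom) (hf' : AlgSp.IsQuasiCompactMor f'.hom) :
    AlgSp.IsQuasiCompactMor f.hom := by
  intro W W' hW hWc g' fst' snd' sq'
  have := GrothLib.AlgSp.compactSpace_points_of_isQuasiCompactSp hWc
  have hC := GrothLib.AlgSp.isAlgSpace_pullback' Y.property hW Y'.property g' g.hom
  obtain ⟨C, c, ce, cs⟩ := hC.atlas
  -- `C ⟶ W` is open and surjective on points
  have hop : IsOpenMap (fun x : ↥C.left => Points.map (pullback.fst g' g.hom) (Points.ofPt c x)) :=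
    (hg hW g' _ _ (IsPullback.of_hasPullback g' g.hom).flip).comp
      (GrothLib.AlgSp.isOpenMap_ofPt_of_etale ce)
  have hsur : Function.Surjective (fun x : ↥C.left => Points.map (pullback.fst g' g.hom) (Points.ofPt c x)) :=
    (GrothLib.AlgSp.surjective_map_of_isPullback (IsPullback.of_hasPullback g' g.hom).flip hgs).comp
      (GrothLib.AlgSp.surjective_ofPt_of_repWith cs)
  let 𝒰 := C.left.affineCover
  obtain ⟨s, hs⟩ := isCompact_univ.elim_finite_subcover
    (fun i => (fun x : ↥C.left => Points.map (pullback.fst g' g.hom) (Points.ofPt c x)) '' Set.range (𝒰.f i))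
    (fun i => hop _ (𝒰.f i).isOpenEmbedding.isOpen_range) (fun x _ => by
      obtain ⟨u, rfl⟩ := hsur x
      obtain ⟨i, w, rfl⟩ := 𝒰.exists_eq u
      exact Set.mem_iUnion.2 ⟨i, _, ⟨w, rfl⟩, rfl⟩)
  let T : Over S := Over.mk ((Sigma.desc fun i : s => 𝒰.f i.1) ≫ C.hom)
  let j : T ⟶ C := Over.homMk (Sigma.desc fun i : s => 𝒰.f i.1) rfl
  have hT : CompactSpace ↥T.left := inferInstanceAs (CompactSpace ↥(∐ fun i : s => 𝒰.X i.1))
  let r : (AlgSp.yon S).obj T ⟶ W := ((AlgSp.yon S).map j ≫ c) ≫ pullback.fst g' g.hom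
  have hr : Function.Surjective (Points.map r) := fun x => by
    obtain ⟨i, hi, _, ⟨w, rfl⟩, hx⟩ := Set.mem_iUnion₂.1 (hs (Set.mem_univ x))
    refine ⟨Points.ofScheme T (Sigma.ι (fun i : s => 𝒰.X i.1) ⟨i, hi⟩ w), ?_⟩
    rw [← Points.ofPt_eq_map_ofScheme, ← hx]
    change Points.ofPt (((AlgSp.yon S).map j ≫ c) ≫ _) _ = _
    rw [← Points.map_ofPt, GrothLib.AlgSp.ofPt_map_comp]
    congr 2
    change (Sigma.desc fun i : s => 𝒰.f i.1) _ = _
    rw [← Scheme.Hom.comp_apply, Sigma.ι_desc]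
  obtain ⟨Q, q₁, q₂, sq₁, sq₂⟩ := GrothLib.AlgSp.exists_isPullback_along sq' r
  have e : r ≫ g' = (((AlgSp.yon S).map j ≫ c) ≫ pullback.snd g' g.hom) ≫ g.hom := by
    rw [Category.assoc, pullback.condition, Category.assoc, Category.assoc, Category.assoc]
  rw [e] at sq₂
  have hQ := hf' (IsAlgSpace.yon_obj T) (GrothLib.AlgSp.isQuasiCompactSp_yon T)
    (((AlgSp.yon S).map j ≫ c) ≫ pullback.snd g' g.hom)
    (sq.lift (q₁ ≫ fst') (q₂ ≫ ((AlgSp.yon S).map j ≫ c) ≫ pullback.snd g' g.hom)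
      (by rw [sq₂.w]; simp only [Category.assoc])) q₂
    (IsPullback.of_right (by rw [sq.lift_fst]; exact sq₂) (by rw [sq.lift_snd]) sq)
  have := GrothLib.AlgSp.compactSpace_points_of_isQuasiCompactSp hQ
  have : CompactSpace (Points W') := Function.Surjective.compactSpace (Points.continuous_map _)
    (GrothLib.AlgSp.surjective_map_of_isPullback sq₁.flip hr)
  exact GrothLib.AlgSp.isQuasiCompactSp_of_compactSpace_points
    (GrothLib.AlgSp.isAlgSpace_pullback Y.property.diag X.property hW sq')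

end Groth.Agent.S9916
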