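import Groth.Agent.Lib.AlgSp.LocPPoints
import Groth.Agent.S9916
import Groth.Statements.S9918
-- import your own Groth.Agent.* helpers here

set_option autoImplicit false
universe u
open CategoryTheory CategoryTheory.Limits AlgebraicGeometry
open AlgSp

namespace Groth.Agent.S9918

/-- (5) ⇒ (1): quasi-compactness of a morphism of algebraic spaces descends along a surjective etale
base change of algebraic spaces. -/
theorem result {S : Scheme.{u}} {X Y Y' X' : AlgSp.Space S}
    (f : X ⟶ Y) (g : Y' ⟶ Y) (fst : X' ⟶ X) (f' : X' ⟶ Y') (sq : IsPullback fst.hom f'.hom f.hom g.hom)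
    (hg : AlgSp.IsEtaleMor g.hom) (hgs : AlgSp.IsSurjectiveMor g.hom) (hf' : AlgSp.IsQuasiCompactMor f'.hom) :
    AlgSp.IsQuasiCompactMor f.hom := by
  refine Groth.Agent.S9916.result f g fst f' sq ?_ hgs hf'
  exact GrothLib.AlgSp.isUnivOpenMor_of_locP GrothLib.AlgSp.EtLocal.etale
    (fun _ _ k (_ : Etale k) => k.isOpenMap) Y'.property Y.property
    (GrothLib.AlgSp.locP_of_isEtaleMor Y.property hg)

end Groth.Agent.S9918
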