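import Groth.Agent.Lib.AlgSp.PointsUniv
import Groth.Agent.Lib.AlgSp.Diag
import Groth.Statements.S9919
-- import your own Groth.Agent.* helpers here

set_option autoImplicit false
universe u
open CategoryTheory CategoryTheory.Limits AlgebraicGeometry
open AlgSp

namespace Groth.Agent.S9919

/-- For morphisms f : X -> Y and g : Y -> Z of algebraic spaces, quasi-compactness of the composite
together with quasi-separatedness of g forces f to be quasi-compact. -/
theorem result {S : Scheme.{u}} {X Y Z : AlgSp.Space S} (f : X ⟶ Y)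
    (g : Y ⟶ Z) (hgf : AlgSp.IsQuasiCompactMor (f ≫ g).hom) (hg : AlgSp.IsQuasiSeparatedMor g.hom) :
    AlgSp.IsQuasiCompactMor f.hom := by
  let s : X.obj ⟶ pullback (f.hom ≫ g.hom) g.hom := pullback.lift (𝟙 _) f.hom (Category.id_comp _)
  have hP := GrothLib.AlgSp.isAlgSpace_pullback' Z.property X.property Y.property (f.hom ≫ g.hom) g.hom
  rw [show f.hom = s ≫ pullback.snd _ _ from (pullback.lift_snd _ _ _).symm]
  refine GrothLib.AlgSp.isQuasiCompactMor_comp X.property hP Y.property
    (GrothLib.AlgSp.isQuasiCompactMor_of_repWith ?_) ?_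
  · refine GrothLib.AlgSp.repWith_section (pullback.fst _ _) s (pullback.lift_fst _ _ _) ?_
    exact GrothLib.AlgSp.repWith_of_isPullback
      (GrothLib.AlgSp.isPullback_diagonal_of_isPullback (IsPullback.of_hasPullback (f.hom ≫ g.hom) g.hom).flip) hg
  · intro W W' hW hWc k fst snd sq
    exact hgf hW hWc (k ≫ g.hom) (fst ≫ pullback.fst _ _) snd
      (sq.paste_horiz (IsPullback.of_hasPullback (f.hom ≫ g.hom) g.hom))

end Groth.Agent.S9919
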