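import Groth.Agent.S9920
import Groth.Agent.Lib.AlgSp.DiagChart
import Groth.Agent.Lib.AlgSp.Diag
import Groth.Agent.Lib.AlgSp.Space
import Groth.Statements.S9921
-- import your own Groth.Agent.* helpers here

set_option autoImplicit false
universe u
open CategoryTheory CategoryTheory.Limits AlgebraicGeometry
open AlgSp

namespace Groth.Agent.S9921

/-- Over a base scheme with quasi-separated underlying space, a fibre product of algebraic spaces that
are quasi-compact and quasi-separated over S is again quasi-compact and quasi-separated over S. (The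
published statement takes quasi-separatedness in the absolute sense; this row takes it over S and
assumes S quasi-separated.) -/
theorem result {S : Scheme.{u}} [QuasiSeparatedSpace ↥S] {X Y Z P : AlgSp.Space S}
    (f : X ⟶ Y) (g : Z ⟶ Y) (fst : P ⟶ X) (snd : P ⟶ Z) (sq : IsPullback fst.hom snd.hom f.hom g.hom)
    (hX : AlgSp.IsQuasiCompactSp X.obj ∧ AlgSp.IsQuasiSeparatedSp X.obj)
    (hY : AlgSp.IsQuasiCompactSp Y.obj ∧ AlgSp.IsQuasiSeparatedSp Y.obj)
    (hZ : AlgSp.IsQuasiCompactSp Z.obj ∧ AlgSp.IsQuasiSeparatedSp Z.obj) :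
    AlgSp.IsQuasiCompactSp P.obj ∧ AlgSp.IsQuasiSeparatedSp P.obj := by
  refine ⟨Groth.Agent.S9920.result f hX.1 hY.2 Z.property hZ.1 g.hom fst.hom snd.hom sq, ?_⟩
  let b := prod.lift (pullback.fst f.hom f.hom) (pullback.snd f.hom f.hom)
  have : Mono b := ⟨fun u v h => by
    apply pullback.hom_ext
    · have := congrArg (fun x => x ≫ prod.fst) h
      simp only [b, Category.assoc, prod.lift_fst] at this
      exact this
    · have := congrArg (fun x => x ≫ prod.snd) h
      simp only [b, Category.assoc, prod.lift_snd] at this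
      exact this⟩
  have hf : AlgSp.IsQuasiSeparatedMor f.hom := by
    refine GrothLib.AlgSp.repWith_of_comp_diagonal (pullback.diagonal f.hom) b ?_ ?_
    · exact GrothLib.AlgSp.repWith_iso _
    · have e : pullback.diagonal f.hom ≫ b = Limits.diag X.obj := by
        apply prod.hom_ext <;> simp [b]
      rw [e]
      exact hX.2
  refine GrothLib.AlgSp.isQuasiSeparatedSp_of_mor (f := snd.hom) ?_ hZ.2
  exact GrothLib.AlgSp.repWith_of_isPullback (GrothLib.AlgSp.isPullback_diagonal_of_isPullback sq) hf

end Groth.Agent.S9921
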