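import Groth.Agent.Lib.AlgSp.Diag
import Groth.Statements.S9927
-- import your own Groth.Agent.* helpers here

set_option autoImplicit false
universe u
open CategoryTheory CategoryTheory.Limits AlgebraicGeometry
open AlgSp

namespace Groth.Agent.S9927

/-- (4) ⇒ (1): being a monomorphism descends along a surjective etale base change from a scheme. -/
theorem result {S : Scheme.{u}} {X Y : AlgSp.Space S} (f : X ⟶ Y) (V : Over S)
    (p : (AlgSp.yon S).obj V ⟶ Y.obj) (hp : AlgSp.RepWith @Etale p) (hps : AlgSp.RepWith @Surjective p)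
    {P : AlgSp.Sp S} (fst : P ⟶ X.obj) (snd : P ⟶ (AlgSp.yon S).obj V) (sq : IsPullback fst snd f.hom p)
    [Mono snd] : Mono f.hom := by
  refine GrothLib.AlgSp.mono_of_yon fun T a b hab => ?_
  obtain ⟨T', c', c, sqT⟩ := GrothLib.AlgSp.exists_isPullback_of_representable hp.1 (a ≫ f.hom)
  have : Sheaf.IsLocallySurjective ((AlgSp.yon S).map c) :=
    GrothLib.AlgSp.chart_isLocallySurjective (GrothLib.AlgSp.repWith_of_isPullback sqT hp)
      (GrothLib.AlgSp.repWith_of_isPullback sqT hps)
  have : Epi ((AlgSp.yon S).map c) := Sheaf.epi_of_isLocallySurjective _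
  rw [← cancel_epi ((AlgSp.yon S).map c)]
  have ha : ((AlgSp.yon S).map c ≫ a) ≫ f.hom = c' ≫ p := by rw [Category.assoc, sqT.w]
  have hb : ((AlgSp.yon S).map c ≫ b) ≫ f.hom = c' ≫ p := by rw [Category.assoc, ← hab, sqT.w]
  rw [← sq.lift_fst _ _ ha, ← sq.lift_fst _ _ hb,
    (cancel_mono snd).1 ((sq.lift_snd _ _ ha).trans (sq.lift_snd _ _ hb).symm)]

end Groth.Agent.S9927
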