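import Groth.Agent.Lib.AlgSp.PointsUniv
import Groth.Statements.S9930
-- import your own Groth.Agent.* helpers here

set_option autoImplicit false
universe u
open CategoryTheory CategoryTheory.Limits AlgebraicGeometry
open AlgSp

namespace Groth.Agent.S9930

/-- For a morphism of algebraic spaces representable by schemes, representable universal submersiveness
is equivalent to |Z x_Y X| -> |Z| being a quotient map after every base change along a morphism of
algebraic spaces. -/
theorem result {S : Scheme.{u}} {X Y : AlgSp.Space S} (f : X ⟶ Y)
    (hf : AlgSp.Representable f.hom) :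
    AlgSp.RepWith SGA1.UnivSubmersive f.hom ↔ AlgSp.IsUnivSubmersiveMor f.hom := by
  have : (topologically fun {α β : Type u} [TopologicalSpace α] [TopologicalSpace β] (k : α → β) =>
      Topology.IsQuotientMap k).RespectsIso :=
    topologically_respectsIso _ (fun e => e.isQuotientMap) fun k l hk hl => hl.comp hk
  rw [GrothLib.AlgSp.repWith_universally_iff (P := SGA1.UnivSubmersive) rfl (Q := AlgSp.IsSubmersiveMor)
    (fun φ => GrothLib.AlgSp.isQuotientMap_map_yon_iff φ) hf]
  refine ⟨fun h => GrothLib.AlgSp.isUnivSubmersiveMor_of_affine fun T _ g P fst snd sq => ?_,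
    fun h T g V fst snd sq => h (IsAlgSpace.yon_obj T) g _ _ sq⟩
  refine GrothLib.AlgSp.forall_affine_of_representable hf
    (fun {A B} k => Topology.IsQuotientMap (Points.map k)) (fun e k hk => ?_) h T g P fst snd sq
  rw [show Points.map (e.hom ≫ k) = Points.map k ∘ Points.map e.hom from funext (Points.map_comp _ _)]
  exact hk.comp (Homeomorph.isQuotientMap ⟨⟨Points.map e.hom, Points.map e.inv,
    fun x => by rw [← Points.map_comp]; simp, fun x => by rw [← Points.map_comp]; simp⟩,
    Points.continuous_map _, Points.continuous_map _⟩)

end Groth.Agent.S9930
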