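import Groth.Agent.Lib.AlgSp.Diag
import Groth.Statements.S9933
-- import your own Groth.Agent.* helpers here

set_option autoImplicit false
universe u
open CategoryTheory CategoryTheory.Limits AlgebraicGeometry
open AlgSp

namespace Groth.Agent.S9933

/-- Permanence for Z -> Y -> X: the five representable finiteness/separation properties of Z -> X pass
to Z -> Y, and a closed immersion Z -> X with Y -> X separated gives a closed immersion Z -> Y. -/
theorem result {S : Scheme.{u}} {Z Y X : AlgSp.Space S} (a : Z ⟶ Y) (b : Y ⟶ X) :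
    ((AlgSp.Representable (a ≫ b).hom ∧ AlgSp.RepWith @LocallyOfFiniteType (a ≫ b).hom ∧
        AlgSp.RepWith (@LocallyQuasiFinite ⊓ @LocallyOfFiniteType) (a ≫ b).hom ∧
        AlgSp.RepWith @IsSeparated (a ≫ b).hom ∧
        AlgSp.RepWith (MorphismProperty.monomorphisms Scheme.{u}) (a ≫ b).hom) →
      (AlgSp.Representable a.hom ∧ AlgSp.RepWith @LocallyOfFiniteType a.hom ∧
        AlgSp.RepWith (@LocallyQuasiFinite ⊓ @LocallyOfFiniteType) a.hom ∧
        AlgSp.RepWith @IsSeparated a.hom ∧
        AlgSp.RepWith (MorphismProperty.monomorphisms Scheme.{u}) a.hom)) ∧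
    (AlgSp.RepWith @IsClosedImmersion (a ≫ b).hom → AlgSp.IsSeparatedMor b.hom →
      AlgSp.RepWith @IsClosedImmersion a.hom) := by
  open GrothLib.AlgSp in
  refine ⟨fun ⟨_, h1, h2, h3, h4⟩ => ?_, fun h hb => repWith_of_comp_diagonal a.hom b.hom hb h⟩
  open GrothLib.AlgSp in
  exact ⟨(repWith_of_comp_diagonal a.hom b.hom (repWith_diagonal b.hom (repWith_diag_lft Y.property)) h1).1,
    repWith_of_comp_diagonal a.hom b.hom (repWith_diagonal b.hom (repWith_diag_lft Y.property)) h1,
    repWith_inf_iff.2 ⟨repWith_of_comp_diagonal a.hom b.hom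
      (repWith_diagonal b.hom (repWith_diag_lqf Y.property)) (repWith_inf_iff.1 h2).1,
      repWith_of_comp_diagonal a.hom b.hom (repWith_diagonal b.hom (repWith_diag_lft Y.property))
        (repWith_inf_iff.1 h2).2⟩,
    repWith_of_comp_diagonal a.hom b.hom (repWith_diagonal b.hom (repWith_diag_separated Y.property)) h3,
    repWith_of_comp_diagonal a.hom b.hom (repWith_diagonal b.hom (repWith_diag_mono Y.property)) h4⟩

end Groth.Agent.S9933
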