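import Groth.Agent.Lib.AlgSp.PointsUniv
import Groth.Statements.S9934
-- import your own Groth.Agent.* helpers here

set_option autoImplicit false
universe u
open CategoryTheory CategoryTheory.Limits AlgebraicGeometry
open AlgSp

namespace Groth.Agent.S9934

/-- An immersion of algebraic spaces is a closed immersion exactly when its image on points is closed. -/
theorem result {S : Scheme.{u}} {Z X : AlgSp.Space S} (i : Z ⟶ X)
    (hi : AlgSp.RepWith @IsImmersion i.hom) :
    AlgSp.RepWith @IsClosedImmersion i.hom ↔ IsClosed (Set.range (AlgSp.Points.map i.hom)) := by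
  have key : ∀ (T : Over S) (g : (AlgSp.yon S).obj T ⟶ X.obj) (V : Over S)
      (fst : (AlgSp.yon S).obj V ⟶ Z.obj) (snd : V ⟶ T), IsPullback fst ((AlgSp.yon S).map snd) i.hom g →
      Points.ofPt g ⁻¹' Set.range (Points.map i.hom) = Set.range snd.left := by
    intro T g V fst snd sq
    ext t
    constructor
    · rintro ⟨x, hx⟩
      rw [Points.ofPt_eq_map_ofScheme] at hx
      obtain ⟨p, -, hp⟩ := GrothLib.AlgSp.exists_of_isPullback sq hx
      obtain ⟨v, rfl⟩ := (Points.schemeEquiv V).surjective p
      exact ⟨v, (Points.schemeEquiv T).injective ((GrothLib.AlgSp.map_yon_ofPt snd v).symm.trans hp)⟩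
    · rintro ⟨v, rfl⟩
      exact ⟨Points.ofPt fst v, by rw [Points.map_ofPt, sq.w, GrothLib.AlgSp.ofPt_map_comp]⟩
  constructor
  · refine fun h => isOpen_compl_iff.1 (Points.isOpen_iff.2 fun T g => ?_)
    obtain ⟨V, fst, snd, sq⟩ := GrothLib.AlgSp.exists_isPullback_of_representable h.1 g
    have : IsClosedImmersion snd.left := h.2 _ _ _ sq
    rw [Set.preimage_compl, key T g V fst snd sq]
    exact snd.left.isClosedEmbedding.isClosed_range.isOpen_compl
  · refine fun h => ⟨hi.1, fun T V g fst snd sq => ?_⟩
    have : IsImmersion snd.left := hi.2 _ _ _ sq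
    change IsClosedImmersion snd.left
    exact IsClosedImmersion.of_isPreimmersion _
      (key T g V fst snd sq ▸ h.preimage (Points.continuous_ofPt g))

end Groth.Agent.S9934
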