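import Groth.Statements.S9935
import Groth.Agent.Lib.AlgSp.SchImage
import Groth.Agent.Lib.AlgSp.ImmersionDescent
import Groth.Agent.Lib.AlgSp.ClosedSub
-- import your own Groth.Agent.* helpers here

set_option autoImplicit false
universe u
open CategoryTheory CategoryTheory.Limits AlgebraicGeometry
open AlgSp GrothLib.AlgSp
set_option backward.isDefEq.respectTransparency false

namespace Groth.Agent.S9935

/-- A quasi-compact immersion of algebraic spaces factors as an open immersion followed by a closed
immersion. -/
theorem result {S : Scheme.{u}} {Z X : AlgSp.Space S}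
    (i : Z ⟶ X) (hi : AlgSp.RepWith @IsImmersion i.hom) (hq : AlgSp.IsQuasiCompactMor i.hom) :
    ∃ (Zbar : AlgSp.Space S) (j : Z ⟶ Zbar) (c : Zbar ⟶ X), j ≫ c = i ∧
      AlgSp.RepWith @IsOpenImmersion j.hom ∧ AlgSp.RepWith @IsClosedImmersion c.hom := by
  obtain ⟨U, a, hae, has⟩ := X.property.atlas
  obtain ⟨W, p, g, sq⟩ := exists_isPullback_of_representable hi.1 a
  haveI : IsImmersion g.left := hi.2 _ _ _ sq
  haveI : QuasiCompact g.left := by
    rw [quasiCompact_iff_forall_isAffineOpen]
    intro O hO
    let ι : Over.mk (O.ι ≫ U.hom) ⟶ U := Over.homMk O.ι rfl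
    haveI : IsAffine (Over.mk (O.ι ≫ U.hom)).left := hO
    have sq' := isPullback_stack sq (IsPullback.of_hasPullback g ι)
    have h1 : IsQuasiCompactSp ((yon S).obj (pullback g ι)) :=
      hq (IsAlgSpace.yon_obj _) (isQuasiCompactSp_yon _) ((yon S).map ι ≫ a) _ _ sq'
    haveI := compactSpace_points_of_isQuasiCompactSp h1
    haveI : CompactSpace ↥(pullback g ι).left := (Points.schemeHomeo (pullback g ι)).symm.compactSpace
    have e : Set.range (pullback.fst g ι).left = g.left ⁻¹' (O : Set U.left) := by
      rw [range_snd_of_isPullback (isPullback_left (IsPullback.of_hasPullback g ι)).flip]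
      exact congrArg _ (Scheme.Opens.range_ι O)
    have := isCompact_range (pullback.fst g ι).left.continuous
    rw [e] at this
    exact this
  haveI : Sheaf.IsLocallySurjective p :=
    chart_isLocallySurjective (repWith_of_isPullback sq.flip hae) (repWith_of_isPullback sq.flip has)
  have hinv : IsInvariantIdeal a g.left.ker :=
    isInvariantIdeal_ker hae sq (w := 𝟙 _) (repWith_iso _) (repWith_iso _) (Category.id_comp _)
  obtain ⟨Z', c, pC, hZ', hc, sqC⟩ := exists_isSchImage_chart X.property hae has sq.w
  haveI : Mono c := mono_of_closedImmersion hc.1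
  obtain ⟨j, hj⟩ := hc.2.1
  refine ⟨⟨Z', hZ'⟩, ObjectProperty.homMk j, ObjectProperty.homMk c, ObjectProperty.hom_ext _ hj, ?_, hc.1⟩
  -- the map on the chart
  obtain ⟨n, hn⟩ := (yon S).map_surjective (sqC.lift (p ≫ j) ((yon S).map g) (by rw [Category.assoc, hj, sq.w]))
  have hn₁ : (yon S).map n ≫ pC = p ≫ j := by rw [hn, sqC.lift_fst]
  have hn₂ : n.left ≫ (schIdeal a g).subschemeι = g.left := by
    have : n ≫ (Over.homMk (schIdeal a g).subschemeι rfl :
        Over.mk ((schIdeal a g).subschemeι ≫ U.hom) ⟶ U) = g :=
      (yon S).map_injective (by rw [Functor.map_comp, hn, sqC.lift_snd])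
    exact congrArg (fun m : W ⟶ U => m.left) this
  have sqn : IsPullback p ((yon S).map n) j pC := by
    refine IsPullback.of_bot ?_ hn₁.symm sqC
    rw [hj, hn, sqC.lift_snd]
    exact sq
  haveI : IsOpenImmersion n.left := by
    have hker := schIdeal_eq_ker hinv
    let O := g.left.coborderRange
    let P0 := pullback (schIdeal a g).subschemeι O.ι
    let m : W.left ⟶ P0 := pullback.lift n.left g.left.liftCoborder
      (by rw [hn₂, g.left.liftCoborder_ι])
    have hm : m ≫ pullback.fst _ _ = n.left := pullback.lift_fst _ _ _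
    have H : IsPullback (𝟙 W.left) g.left.liftCoborder g.left O.ι := by
      refine ⟨⟨by rw [Category.id_comp, g.left.liftCoborder_ι]⟩, ⟨PullbackCone.IsLimit.mk _ (fun s => s.fst)
        (fun s => by simp) (fun s => ?_) (fun s l h₁ _ => by simpa using h₁)⟩⟩
      rw [← cancel_mono O.ι, Category.assoc, g.left.liftCoborder_ι]
      exact s.condition
    have sqm : IsPullback (𝟙 W.left) m n.left (pullback.fst _ _) := by
      refine IsPullback.of_bot ?_ (by rw [Category.id_comp, hm]) (IsPullback.of_hasPullback _ _)
      rw [hn₂, pullback.lift_snd]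
      exact H
    haveI : IsSchemeTheoreticallyDominant n.left := by
      haveI : IsSchemeTheoreticallyDominant g.left.toImage := by
        refine ⟨Scheme.IdealSheafData.ext_of_iSup_eq_top
          (fun O : U.left.affineOpens => ⟨_, O.2.preimage g.left.imageι⟩) (top_le_iff.1 fun x _ => ?_) fun O => ?_⟩
        · obtain ⟨O, hO, hx, -⟩ :=
            exists_isAffineOpen_mem_and_subset (U := (⊤ : U.left.Opens)) (x := g.left.imageι x) trivial
          exact TopologicalSpace.Opens.mem_iSup.2 ⟨⟨O, hO⟩, hx⟩
        · rw [Scheme.Hom.ker_apply, Scheme.IdealSheafData.ideal_bot, Pi.bot_apply,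
            ← RingHom.injective_iff_ker_eq_bot]
          exact g.left.toImage_app_injective O
      let i₁ := Scheme.IdealSheafData.inclusion hker.le
      let i₂ := Scheme.IdealSheafData.inclusion hker.ge
      have h12 : i₁ ≫ i₂ = 𝟙 _ := by rw [← cancel_mono (g.left.ker).subschemeι]; simp [i₁, i₂]
      have h21 : i₂ ≫ i₁ = 𝟙 _ := by rw [← cancel_mono (schIdeal a g).subschemeι]; simp [i₁, i₂]
      haveI : IsIso i₁ := ⟨i₂, h12, h21⟩
      have : n.left = g.left.toImage ≫ i₁ := by
        rw [← cancel_mono (schIdeal a g).subschemeι, hn₂]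
        simp [i₁]
      rw [this]
      infer_instance
    haveI : QuasiCompact n.left := by
      haveI : QuasiCompact (n.left ≫ (schIdeal a g).subschemeι) := by rw [hn₂]; infer_instance
      exact QuasiCompact.of_comp n.left (schIdeal a g).subschemeι
    haveI : Flat (pullback.fst (schIdeal a g).subschemeι O.ι) := inferInstance
    haveI : IsSchemeTheoreticallyDominant m := IsSchemeTheoreticallyDominant.of_isPullback sqm
    haveI : IsClosedImmersion m := by
      haveI : IsClosedImmersion (m ≫ pullback.snd (schIdeal a g).subschemeι O.ι) := by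
        rw [pullback.lift_snd]; infer_instance
      exact IsClosedImmersion.of_comp m (pullback.snd (schIdeal a g).subschemeι O.ι)
    haveI : IsIso m := IsClosedImmersion.isIso_iff_ker_eq_bot.2 m.ker_eq_bot
    rw [← hm]
    infer_instance
  haveI : Sheaf.IsLocallySurjective pC :=
    chart_isLocallySurjective (repWith_of_isPullback sqC.flip hae) (repWith_of_isPullback sqC.flip has)
  have hn' : RepWith @IsOpenImmersion ((yon S).map n) := (repWith_yon_map_iff _ _).2 ‹_›
  exact repWith_of_base (representable_of_base_isImmersion pC sqn (repWith_mono hn' fun _ _ h (hh : IsOpenImmersion h) => inferInstance))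
    pC sqn (fppfDescends_of_descendsAlong _) hn'

end Groth.Agent.S9935
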