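import Groth.Agent.Lib.AlgSp.Diag
import Groth.Statements.S9937
-- import your own Groth.Agent.* helpers here

set_option autoImplicit false
universe u
open CategoryTheory CategoryTheory.Limits AlgebraicGeometry
open AlgSp

namespace Groth.Agent.S9937

/-- Closed immersions between algebraic spaces are separated morphisms. -/
theorem result {S : Scheme.{u}} {X Y : AlgSp.Space S} (f : X ⟶ Y)
    (hf : AlgSp.RepWith @IsClosedImmersion f.hom) : AlgSp.IsSeparatedMor f.hom := by
  exact (GrothLib.AlgSp.isSeparatedMor_iff_repWith hf.1).2
    (GrothLib.AlgSp.repWith_mono hf fun _ _ g (_ : IsClosedImmersion g) => inferInstance)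

end Groth.Agent.S9937
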