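import Groth.Agent.Lib.AlgSp.PointsUniv
import Groth.Statements.S9939
-- import your own Groth.Agent.* helpers here

set_option autoImplicit false
universe u
open CategoryTheory CategoryTheory.Limits AlgebraicGeometry
open AlgSp

namespace Groth.Agent.S9939

/-- For a morphism of algebraic spaces representable by schemes, representable universal injectivity is
equivalent to injectivity on K-valued points for every field K. -/
theorem result {S : Scheme.{u}} {X Y : AlgSp.Space S} (f : X ⟶ Y)
    (hf : AlgSp.Representable f.hom) :
    AlgSp.RepWith @UniversallyInjective f.hom ↔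
      ∀ (K : Type u) [Field K] (str : Spec (CommRingCat.of K) ⟶ S),
        Function.Injective (fun a : (AlgSp.yon S).obj (Over.mk str) ⟶ X.obj => a ≫ f.hom) := by
  constructor
  · intro h K _ str a b hab
    obtain ⟨V, fst, snd, sq⟩ := GrothLib.AlgSp.exists_isPullback_of_representable hf (a ≫ f.hom)
    let α : Over.mk str ⟶ V := (AlgSp.yon S).preimage (sq.lift a (𝟙 _) (by simp))
    let β : Over.mk str ⟶ V := (AlgSp.yon S).preimage (sq.lift b (𝟙 _) (by simpa using hab.symm))
    have e : α ≫ snd = β ≫ snd := (AlgSp.yon S).map_injective (by simp [α, β])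
    have : UniversallyInjective snd.left := h.2 _ _ _ sq
    have hinj : ∀ (K : Type u) [Field K], Function.Injective fun k : Spec (.of K) ⟶ V.left => k ≫ snd.left :=
      ((tfae_universallyInjective snd.left).out 0 1).1 this
    have e' : α = β := Over.OverMorphism.ext (hinj K (congrArg (fun k => k.left) e))
    have := congrArg (fun k => (AlgSp.yon S).map k ≫ fst) e'
    simpa [α, β] using this
  · intro h
    refine ⟨hf, fun T V g fst snd sq => ?_⟩
    have key : ∀ (K : Type u) [Field K], Function.Injective fun k : Spec (.of K) ⟶ V.left => k ≫ snd.left := by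
      intro K _ a b hab
      let a' : Over.mk (a ≫ V.hom) ⟶ V := Over.homMk a rfl
      let b' : Over.mk (a ≫ V.hom) ⟶ V := Over.homMk b (by
        change b ≫ V.hom = a ≫ V.hom
        rw [← Over.w snd, ← Category.assoc, ← Category.assoc]
        exact congrArg (· ≫ T.hom) hab.symm)
      have hsn : a' ≫ snd = b' ≫ snd := Over.OverMorphism.ext hab
      have hfst : (AlgSp.yon S).map a' ≫ fst = (AlgSp.yon S).map b' ≫ fst := h K (a ≫ V.hom) (by
        change ((AlgSp.yon S).map a' ≫ fst) ≫ f.hom = ((AlgSp.yon S).map b' ≫ fst) ≫ f.hom
        rw [Category.assoc, Category.assoc, sq.w, ← Functor.map_comp_assoc, ← Functor.map_comp_assoc, hsn])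
      have := (AlgSp.yon S).map_injective
        (sq.hom_ext hfst (by rw [← Functor.map_comp, ← Functor.map_comp, hsn]))
      exact congrArg (fun k => k.left) this
    exact ((tfae_universallyInjective snd.left).out 1 0).1 key

end Groth.Agent.S9939
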