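import Groth.Agent.Lib.AlgSp.PointsUniv
import Groth.Statements.S9940
-- import your own Groth.Agent.* helpers here

set_option autoImplicit false
universe u
open CategoryTheory CategoryTheory.Limits AlgebraicGeometry
open AlgSp

namespace Groth.Agent.S9940

/-- (4) ⇒ (1): universal injectivity of a morphism of algebraic spaces descends along a surjective base
change from a scheme. -/
theorem result {S : Scheme.{u}} {X Y : AlgSp.Space S} (f : X ⟶ Y)
    (Z : Over S) (g : (AlgSp.yon S).obj Z ⟶ Y.obj) (hg : AlgSp.IsSurjectiveMor g) {P : AlgSp.Sp S}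
    (fst : P ⟶ X.obj) (snd : P ⟶ (AlgSp.yon S).obj Z) (sq : IsPullback fst snd f.hom g)
    (h : AlgSp.IsUnivInjectiveMor snd) : AlgSp.IsUnivInjectiveMor f.hom := by
  refine GrothLib.AlgSp.isUnivInjectiveMor_of_affine fun T _ g' P' fst' snd' sq' x y hxy => ?_
  have hC := GrothLib.AlgSp.isAlgSpace_pullback' Y.property (IsAlgSpace.yon_obj T) (IsAlgSpace.yon_obj Z) g' g
  obtain ⟨z, hz⟩ := GrothLib.AlgSp.surjective_map_of_isPullback (IsPullback.of_hasPullback g' g).flip hg
    (Points.map snd' x)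
  obtain ⟨Q, q₁, q₂, sq₁, sq₂⟩ := GrothLib.AlgSp.exists_isPullback_along sq' (pullback.fst g' g)
  obtain ⟨x', rfl, hx⟩ := GrothLib.AlgSp.exists_of_isPullback sq₁ hz.symm
  obtain ⟨y', rfl, hy⟩ := GrothLib.AlgSp.exists_of_isPullback sq₁ (hxy.symm.trans hz.symm)
  rw [pullback.condition] at sq₂
  have hinj := h hC (pullback.snd g' g)
    (sq.lift (q₁ ≫ fst') (q₂ ≫ pullback.snd g' g) (by rw [sq₂.w, Category.assoc])) q₂
    (IsPullback.of_right (by rw [sq.lift_fst]; exact sq₂) (by rw [sq.lift_snd]) sq)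
  rw [hinj (hx.trans hy.symm)]

end Groth.Agent.S9940
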