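import Groth.Agent.Lib.AlgSp.AffineMor
import Groth.Statements.S9942
-- import your own Groth.Agent.* helpers here

set_option autoImplicit false
universe u
open CategoryTheory CategoryTheory.Limits AlgebraicGeometry
open AlgSp

namespace Groth.Agent.S9942

/-- (3) ⇒ (2): if X x_Y V is an affine scheme for every affine scheme V etale over Y, then f : X -> Y is
affine. -/
theorem result {S : Scheme.{u}} {X Y : AlgSp.Space S} (f : X ⟶ Y)
    (h : ∀ (V : Over S), IsAffine V.left → ∀ (b : (AlgSp.yon S).obj V ⟶ Y.obj), AlgSp.RepWith @Etale b →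
      ∀ (P : AlgSp.Sp S) (fst : P ⟶ X.obj) (snd : P ⟶ (AlgSp.yon S).obj V), IsPullback fst snd f.hom b →
      ∃ (W : Over S), IsAffine W.left ∧ Nonempty ((AlgSp.yon S).obj W ≅ P)) :
    AlgSp.IsAffineMor f.hom := by
  obtain ⟨U, p, pe, ps⟩ := Y.property.atlas
  have := GrothLib.AlgSp.chart_isLocallySurjective pe ps
  have key : ∀ i, ∃ (W : Over S) (w : W ⟶ GrothLib.AlgSp.affPiece U i) (fst : (yon S).obj W ⟶ X.obj),
      IsPullback fst ((yon S).map w) f.hom ((yon S).map (GrothLib.AlgSp.affPieceι U i) ≫ p) ∧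
        IsAffineHom w.left := by
    intro i
    have hV : IsAffine (GrothLib.AlgSp.affPiece U i).left := inferInstanceAs (IsAffine (U.left.affineCover.X i))
    have hb : RepWith @Etale ((yon S).map (GrothLib.AlgSp.affPieceι U i) ≫ p) :=
      GrothLib.AlgSp.repWith_comp
        ((repWith_yon_map_iff _ _).2 (inferInstanceAs (Etale (U.left.affineCover.f i)))) pe
    obtain ⟨W, hW, ⟨e⟩⟩ := h _ hV _ hb _ _ _ (IsPullback.of_hasPullback f.hom _)
    refine ⟨W, (yon S).preimage (e.hom ≫ pullback.snd _ _), e.hom ≫ pullback.fst _ _, ?_, ?_⟩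
    · refine (IsPullback.of_hasPullback f.hom _).of_iso e.symm (Iso.refl _) (Iso.refl _) (Iso.refl _)
        ?_ ?_ ?_ ?_ <;> simp
    · exact isAffineHom_of_isAffine _
  obtain ⟨W, w, fst, sq⟩ := GrothLib.AlgSp.exists_isPullback_of_affineCover p
    fun i => let ⟨W, w, fst, sq, _⟩ := key i; ⟨W, w, fst, sq⟩
  exact GrothLib.AlgSp.isAffineMor_iff.2 (GrothLib.AlgSp.repWith_of_base_isAffineHom p sq le_rfl
    GrothLib.AlgSp.fppfDescends_isAffineHom
    ((repWith_yon_map_iff _ w).2 (GrothLib.AlgSp.prop_snd_of_affineCover sq key)))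

end Groth.Agent.S9942
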