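import Groth.Agent.Lib.AlgSp.DimZero
import Groth.Agent.Lib.AlgSp.AffineMor
import Groth.Agent.Lib.AlgSp.DiagAffine
import Groth.Statements.S9945
-- import your own Groth.Agent.* helpers here

set_option autoImplicit false
universe u
open CategoryTheory CategoryTheory.Limits AlgebraicGeometry
open AlgSp

namespace Groth.Agent.S9945

/-- Over a base scheme with quasi-separated underlying space, every morphism from the spectrum of an
Artinian ring to an algebraic space quasi-separated over S is affine. (The published statement
assumes X quasi-separated in the absolute sense over any base; this row assumes the base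
quasi-separated and X quasi-separated over it, which on such bases is the same condition.) -/
theorem result {S : Scheme.{u}} [QuasiSeparatedSpace ↥S] (X : AlgSp.Space S)
    (hX : AlgSp.IsQuasiSeparatedSp X.obj) (A : Type u) [CommRing A] [IsArtinianRing A]
    (str : Spec (CommRingCat.of A) ⟶ S) (a : (AlgSp.yon S).obj (Over.mk str) ⟶ X.obj) :
    AlgSp.IsAffineMor a := by
  obtain ⟨U, p, hp, hs⟩ := X.property.atlas
  haveI := GrothLib.AlgSp.chart_isLocallySurjective hp hs
  obtain ⟨R, t, s, sq⟩ := GrothLib.AlgSp.exists_isPullback_yon X.property.diag a p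
  haveI : IsArtinianRing (CommRingCat.of A) := ‹IsArtinianRing A›
  haveI : IsLocallyArtinian (Over.mk str).left := (inferInstance : IsLocallyArtinian (Spec (CommRingCat.of A)))
  haveI : CompactSpace ↥(Over.mk str).left := inferInstanceAs (CompactSpace (PrimeSpectrum A))
  have hdisc : ∀ (Y : Scheme.{u}) [DiscreteTopology ↥Y] [QuasiSeparatedSpace ↥Y] (V : Y.Opens),
      IsCompact (V : Set ↥Y) → IsAffineOpen V := fun Y _ _ V hV =>
    GrothLib.AlgSp.isAffineOpen_of_isCompact_dim_zero (fun {x y} h => h.eq) V hV
  haveI : IsAffineHom (Over.mk str).hom := ⟨fun W hW =>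
    haveI : Finite ↥(Over.mk str).left := finite_of_compact_of_discrete
    haveI : QuasiSeparatedSpace ↥(Over.mk str).left := ⟨fun K₁ K₂ _ _ _ _ => (Set.toFinite _).isCompact⟩
    hdisc _ _ (Set.toFinite _).isCompact⟩
  haveI : QuasiCompact (prod.lift t s).left := GrothLib.AlgSp.prop_prodLift_of_repWith_diag hX sq
  haveI : IsAffineHom (prod.snd : Over.mk str ⨯ U ⟶ U).left := by
    rw [← Over.prodLeftIsoPullback_hom_snd, MorphismProperty.cancel_left_of_respectsIso @IsAffineHom]
    exact MorphismProperty.pullback_snd _ _ inferInstance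
  haveI : Etale t.left := hp.2 _ _ _ sq.flip
  haveI : LocallyQuasiFinite t.left := GrothLib.AlgSp.locallyQuasiFinite_of_unramified _
  haveI : IsLocallyArtinian R.left := .of_locallyQuasiFinite t.left
  haveI : IsAffineHom s.left := by
    haveI : QuasiCompact ((prod.lift t s).left ≫ (prod.snd : Over.mk str ⨯ U ⟶ U).left) := inferInstance
    rw [← Over.comp_left, prod.lift_snd] at this
    refine ⟨fun W hW => ?_⟩
    let P : R.left.Opens := s.left ⁻¹ᵁ W
    haveI : CompactSpace ↥P.toScheme := isCompact_iff_compactSpace.mp (QuasiCompact.isCompact_preimage _ W.2 hW.isCompact)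
    haveI : Finite ↥P.toScheme := finite_of_compact_of_discrete
    haveI : QuasiSeparatedSpace ↥P.toScheme := ⟨fun K₁ K₂ _ _ _ _ => (Set.toFinite _).isCompact⟩
    have h := (hdisc P.toScheme ⊤ isCompact_univ).image_of_isOpenImmersion P.ι
    rwa [Scheme.Hom.image_top_eq_opensRange, Scheme.Opens.opensRange_ι] at h
  exact GrothLib.AlgSp.isAffineMor_iff.2 (GrothLib.AlgSp.repWith_of_base
    (GrothLib.AlgSp.representable_of_source_scheme X.property a) p sq GrothLib.AlgSp.fppfDescends_isAffineHom
    ((AlgSp.repWith_yon_map_iff _ _).2 ‹IsAffineHom s.left›))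

end Groth.Agent.S9945
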