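import Groth.Agent.Lib.AlgSp.FppfCover
import Groth.Statements.S9946
-- import your own Groth.Agent.* helpers here

set_option autoImplicit false
universe u
open CategoryTheory CategoryTheory.Limits AlgebraicGeometry
open AlgSp

namespace Groth.Agent.S9946

/-- (3) ⇒ (1): if the base change of f along a surjective etale map from a scheme is quasi-affine, then
f is representable by schemes and quasi-affine. -/
theorem result {S : Scheme.{u}} {X Y : AlgSp.Space S} (f : X ⟶ Y)
    (V : Over S) (p : (AlgSp.yon S).obj V ⟶ Y.obj) (hp : AlgSp.RepWith @Etale p) (hps : AlgSp.RepWith @Surjective p)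
    {P : AlgSp.Sp S} (fst : P ⟶ X.obj) (snd : P ⟶ (AlgSp.yon S).obj V) (sq : IsPullback fst snd f.hom p)
    (h : AlgSp.IsQuasiAffineMor snd) : AlgSp.Representable f.hom ∧ AlgSp.IsQuasiAffineMor f.hom := by
  have h' := GrothLib.AlgSp.fpqcLoc_of_atlas GrothLib.AlgSp.baseChanges_quasiAffine X.property Y.property (GrothLib.AlgSp.repWith_mono hp fun _ _ e (_ : Etale e) => inferInstance) (GrothLib.AlgSp.repWith_mono hp fun _ _ e (_ : Etale e) => inferInstance) hps sq h
  exact ⟨GrothLib.AlgSp.representable_of_fpqcLoc_quasiAffine X.property Y.property h', GrothLib.AlgSp.isQuasiAffineMor_of_fpqcLoc X.property Y.property h'⟩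

end Groth.Agent.S9946
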