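import Groth.Agent.Lib.AlgSp.LocP
import Groth.Statements.S9949
-- import your own Groth.Agent.* helpers here

set_option autoImplicit false
universe u
open CategoryTheory CategoryTheory.Limits AlgebraicGeometry
open AlgSp

namespace Groth.Agent.S9949

/-- (5) ⇒ (1): being locally of finite type descends along a surjective etale base change from a scheme. -/
theorem result {S : Scheme.{u}} {X Y : AlgSp.Space S} (f : X ⟶ Y) (V : Over S)
    (p : (AlgSp.yon S).obj V ⟶ Y.obj) (hp : AlgSp.RepWith @Etale p) (hps : AlgSp.RepWith @Surjective p)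
    {P : AlgSp.Sp S} (fst : P ⟶ X.obj) (snd : P ⟶ (AlgSp.yon S).obj V) (sq : IsPullback fst snd f.hom p)
    (h : AlgSp.LocP @LocallyOfFiniteType snd) : AlgSp.LocP @LocallyOfFiniteType f.hom := by
  obtain ⟨U, a, α, ae, ha, has⟩ := GrothLib.AlgSp.exists_chart_over
    (GrothLib.AlgSp.isAlgSpace_pullback Y.property.diag X.property (IsAlgSpace.yon_obj V) sq)
    (IsAlgSpace.yon_obj V) snd (𝟙 _) (repWith_id _ V)
  rw [Category.comp_id] at ha
  refine GrothLib.AlgSp.EtLocal.lft.locP_of_chart (a := a ≫ fst) (b := p) (h := α) ?_ ?_ hp ?_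
    (h a (𝟙 _) α ae (repWith_id _ V) (by rw [Category.comp_id]; exact ha))
  · exact GrothLib.AlgSp.repWith_comp ae (GrothLib.AlgSp.repWith_of_isPullback sq.flip hp)
  · exact GrothLib.AlgSp.repWith_comp (has (repWith_id _ V))
      (GrothLib.AlgSp.repWith_of_isPullback sq.flip hps)
  · rw [Category.assoc, sq.w, ← Category.assoc, ha]

end Groth.Agent.S9949
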