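import Groth.Agent.Lib.AlgSp.LocP
import Groth.Statements.S9951
-- import your own Groth.Agent.* helpers here

set_option autoImplicit false
universe u
open CategoryTheory CategoryTheory.Limits AlgebraicGeometry
open AlgSp

namespace Groth.Agent.S9951

/-- The source of a morphism locally of finite type with locally Noetherian target is locally
Noetherian. -/
theorem result {S : Scheme.{u}} {X Y : AlgSp.Space S} (f : X ⟶ Y)
    (hf : AlgSp.LocP @LocallyOfFiniteType f.hom) (hY : AlgSp.IsLocNoethSp Y.obj) : AlgSp.IsLocNoethSp X.obj := by
  obtain ⟨V, q, qe, qs, hV⟩ := hY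
  obtain ⟨U, p, α, pe, hp, hps⟩ := GrothLib.AlgSp.exists_chart_over X.property Y.property f.hom q qe
  have : LocallyOfFiniteType α.left := hf p q α pe qe hp
  have : IsLocallyNoetherian V.left := hV
  exact ⟨U, p, pe, hps qs, LocallyOfFiniteType.isLocallyNoetherian α.left⟩

end Groth.Agent.S9951
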