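import Groth.Statements.S9954
import Groth.Agent.Lib.AlgSp.LocP
import Groth.Agent.Lib.AlgSp.PointsUniv
import Groth.Prelude.Def_AlgSpDec
import Mathlib.AlgebraicGeometry.AlgClosed.Basic
-- import your own Groth.Agent.* helpers here

set_option autoImplicit false
universe u
open CategoryTheory CategoryTheory.Limits AlgebraicGeometry
open AlgSp

namespace Groth.Agent.S9954

/-- A morphism locally of finite type is surjective if and only if it is surjective on k-valued points
for every algebraically closed field k over the base. -/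
theorem result {S : Scheme.{u}} {X Y : AlgSp.Space S} (f : X ⟶ Y)
    (hf : AlgSp.LocP @LocallyOfFiniteType f.hom) :
    AlgSp.IsSurjectiveMor f.hom ↔
      ∀ (k : Type u) [Field k] [IsAlgClosed k] (str : Spec (CommRingCat.of k) ⟶ S)
        (y : (AlgSp.yon S).obj (Over.mk str) ⟶ Y.obj),
        ∃ x : (AlgSp.yon S).obj (Over.mk str) ⟶ X.obj, x ≫ f.hom = y := by
  constructor
  · intro hs k _ _ str y
    have sq := IsPullback.of_hasPullback f.hom y
    have hP := GrothLib.AlgSp.isAlgSpace_pullback' Y.property X.property (AlgSp.IsAlgSpace.yon_obj _) f.hom y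
    obtain ⟨z, -⟩ := GrothLib.AlgSp.surjective_map_of_isPullback sq hs
      (AlgSp.Points.ofScheme (Over.mk str) (IsLocalRing.closedPoint k))
    obtain ⟨W, p, pe, ps⟩ := hP.atlas
    obtain ⟨w₀, -⟩ := GrothLib.AlgSp.surjective_ofPt_of_repWith ps z
    obtain ⟨α, hα⟩ := (AlgSp.yon S).map_surjective (p ≫ pullback.snd f.hom y)
    haveI hl : LocallyOfFiniteType α.left := GrothLib.AlgSp.EtLocal.locP_of_isPullback GrothLib.AlgSp.EtLocal.lft
      X.property Y.property (AlgSp.IsAlgSpace.yon_obj _) sq hf p (𝟙 _) α pe (AlgSp.repWith_id _ _)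
      (by rw [Category.comp_id, hα])
    let g : W.left ⟶ Spec (CommRingCat.of k) := α.left
    haveI : LocallyOfFiniteType g := hl
    haveI : JacobsonSpace W.left := LocallyOfFiniteType.jacobsonSpace g
    obtain ⟨w, -, hw⟩ := nonempty_inter_closedPoints (X := W.left) (Z := Set.univ) ⟨w₀, trivial⟩ isOpen_univ.isLocallyClosed
    have hpt := pointOfClosedPoint_comp g w hw
    let x : Over.mk str ⟶ W := Over.homMk (pointOfClosedPoint g w hw) (by
      change pointOfClosedPoint g w hw ≫ W.hom = str
      rw [← Over.w α]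
      change pointOfClosedPoint g w hw ≫ g ≫ str = str
      rw [← Category.assoc, hpt, Category.id_comp])
    refine ⟨(AlgSp.yon S).map x ≫ p ≫ pullback.fst f.hom y, ?_⟩
    rw [Category.assoc, Category.assoc, pullback.condition, ← Category.assoc p, ← hα, ← Functor.map_comp_assoc,
      show x ≫ α = 𝟙 _ from Over.OverMorphism.ext hpt, CategoryTheory.Functor.map_id, Category.id_comp]
  · intro h z
    induction z using AlgSp.Points.ind with
    | h q =>
      let str : Spec (CommRingCat.of (AlgebraicClosure q.K)) ⟶ S :=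
        Spec.map (CommRingCat.ofHom (algebraMap q.K (AlgebraicClosure q.K))) ≫ q.str
      let c : Over.mk str ⟶ q.pt := Over.homMk (Spec.map (CommRingCat.ofHom (algebraMap q.K (AlgebraicClosure q.K)))) rfl
      obtain ⟨x, hx⟩ := h (AlgebraicClosure q.K) str ((AlgSp.yon S).map c ≫ q.toHom)
      refine ⟨AlgSp.Points.ofPt x (IsLocalRing.closedPoint (AlgebraicClosure q.K)), ?_⟩
      rw [AlgSp.Points.map_ofPt, hx, GrothLib.AlgSp.ofPt_map_comp]
      exact AlgSp.Points.ofPt_toHom q _

end Groth.Agent.S9954
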