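import Groth.Agent.Lib.AlgSp.DiagChart
import Groth.Agent.Lib.AlgSp.PointsUniv
import Groth.Agent.Lib.AlgSp.LocP
import Groth.Statements.S9957
-- import your own Groth.Agent.* helpers here

set_option autoImplicit false
universe u
open CategoryTheory CategoryTheory.Limits AlgebraicGeometry
open AlgSp

namespace Groth.Agent.S9957

/-- The source of a morphism of finite presentation whose target is Noetherian is itself Noetherian,
Noetherian meaning quasi-compact, quasi-separated over S and locally Noetherian. (The published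
statement uses quasi-separatedness in the absolute sense; this row uses quasi-separatedness over S
in hypothesis and conclusion.) -/
theorem result {S : Scheme.{u}} {X Y : AlgSp.Space S} (f : X ⟶ Y)
    (hf : AlgSp.IsFinitePresentationMor f.hom)
    (hY : AlgSp.IsQuasiCompactSp Y.obj ∧ AlgSp.IsQuasiSeparatedSp Y.obj ∧ AlgSp.IsLocNoethSp Y.obj) :
    AlgSp.IsQuasiCompactSp X.obj ∧ AlgSp.IsQuasiSeparatedSp X.obj ∧ AlgSp.IsLocNoethSp X.obj := by
  obtain ⟨hlfp, hqc, hqs⟩ := hf
  obtain ⟨h₁, h₂, h₃⟩ := hY
  refine ⟨hqc Y.property h₁ (𝟙 _) (𝟙 _) f.hom IsPullback.of_id_fst, GrothLib.AlgSp.isQuasiSeparatedSp_of_mor hqs h₂, ?_⟩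
  obtain ⟨V, q, qe, qs, hV⟩ := h₃
  obtain ⟨U, p, α, pe, hp, hps⟩ := GrothLib.AlgSp.exists_chart_over X.property Y.property f.hom q qe
  have : LocallyOfFinitePresentation α.left := hlfp p q α pe qe hp
  have : IsLocallyNoetherian V.left := hV
  exact ⟨U, p, pe, hps qs, LocallyOfFiniteType.isLocallyNoetherian α.left⟩

end Groth.Agent.S9957
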