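import Groth.Agent.Lib.AlgSp.LocP
import Groth.Statements.S9958
-- import your own Groth.Agent.* helpers here

set_option autoImplicit false
universe u
open CategoryTheory CategoryTheory.Limits AlgebraicGeometry
open AlgSp

namespace Groth.Agent.S9958

/-- Over a locally Noetherian algebraic space, locally of finite type implies locally of finite
presentation. -/
theorem result {S : Scheme.{u}} {X Y : AlgSp.Space S} (f : X ⟶ Y)
    (hY : AlgSp.IsLocNoethSp Y.obj) (hf : AlgSp.LocP @LocallyOfFiniteType f.hom) :
    AlgSp.LocP @LocallyOfFinitePresentation f.hom := by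
  obtain ⟨V, q, qe, qs, hV⟩ := hY
  obtain ⟨U, p, α, pe, hp, hps⟩ := GrothLib.AlgSp.exists_chart_over X.property Y.property f.hom q qe
  have : LocallyOfFiniteType α.left := hf p q α pe qe hp
  have : IsLocallyNoetherian V.left := hV
  exact GrothLib.AlgSp.EtLocal.lfp.locP_of_chart pe (hps qs) qe hp
    (inferInstance : LocallyOfFinitePresentation α.left)

end Groth.Agent.S9958
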