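import Groth.Agent.Lib.AlgSp.DiagChart
import Groth.Agent.Lib.AlgSp.UnivClosed
import Groth.Statements.S9960
-- import your own Groth.Agent.* helpers here

set_option autoImplicit false
universe u
open CategoryTheory CategoryTheory.Limits AlgebraicGeometry
open AlgSp

namespace Groth.Agent.S9960

/-- The diagonal of a morphism locally of finite type is locally of finite presentation, and of finite
presentation when the morphism is also quasi-separated. -/
theorem result {S : Scheme.{u}} {X Y : AlgSp.Space S} (f : X ⟶ Y)
    (hf : AlgSp.LocP @LocallyOfFiniteType f.hom) :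
    AlgSp.LocP @LocallyOfFinitePresentation (pullback.diagonal f.hom) ∧
    (AlgSp.IsQuasiSeparatedMor f.hom → AlgSp.IsFinitePresentationMor (pullback.diagonal f.hom)) := by
  refine ⟨GrothLib.AlgSp.locP_lfp_diagonal X.property Y.property hf, fun hq => ⟨GrothLib.AlgSp.locP_lfp_diagonal X.property Y.property hf,
    GrothLib.AlgSp.isQuasiCompactMor_of_repWith hq, ?_⟩⟩
  exact GrothLib.AlgSp.isQuasiSeparatedMor_of_isSeparatedMor ((GrothLib.AlgSp.isSeparatedMor_iff_repWith hq.1).2
    (GrothLib.AlgSp.repWith_diagonal f.hom (GrothLib.AlgSp.repWith_diag_separated X.property)))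

end Groth.Agent.S9960
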