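import Groth.Agent.Lib.AlgSp.LocPPoints
import Groth.Statements.S9962
-- import your own Groth.Agent.* helpers here

set_option autoImplicit false
universe u
open CategoryTheory CategoryTheory.Limits AlgebraicGeometry
open AlgSp

namespace Groth.Agent.S9962

/-- A flat morphism locally of finite presentation between algebraic spaces is universally open. -/
theorem result {S : Scheme.{u}} {X Y : AlgSp.Space S} (f : X ⟶ Y)
    (hfl : AlgSp.LocP @Flat f.hom) (hfp : AlgSp.LocP @LocallyOfFinitePresentation f.hom) :
    AlgSp.IsUnivOpenMor f.hom := by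
  refine GrothLib.AlgSp.isUnivOpenMor_of_locP (GrothLib.AlgSp.EtLocal.flat.inf GrothLib.AlgSp.EtLocal.lfp)
    ?_ X.property Y.property (fun U V a b h ha hb w => ⟨hfl a b h ha hb w, hfp a b h ha hb w⟩)
  rintro A B h ⟨h1, h2⟩
  have : Flat h := h1
  have : LocallyOfFinitePresentation h := h2
  exact h.isOpenMap

end Groth.Agent.S9962
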