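import Groth.Agent.Lib.AlgSp.PointsUniv
import Groth.Agent.Lib.AlgSp.UnivClosed
import Groth.Statements.S9963
-- import your own Groth.Agent.* helpers here

set_option autoImplicit false
universe u
open CategoryTheory CategoryTheory.Limits AlgebraicGeometry
open AlgSp

namespace Groth.Agent.S9963

open GrothLib.AlgSp in
theorem quotient {S : Scheme.{u}} {X Y : AlgSp.Sp S} (hX : AlgSp.IsAlgSpace X) (hY : AlgSp.IsAlgSpace Y)
    (f : X ⟶ Y) (hfl : AlgSp.LocP @Flat f) (hqc : AlgSp.IsQuasiCompactMor f)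
    (hs : Function.Surjective (AlgSp.Points.map f)) : Topology.IsQuotientMap (AlgSp.Points.map f) := by
  refine (Topology.isQuotientMap_iff _).2 ⟨.of_isOpen_preimage_iff_isOpen fun A => ⟨fun hA => ?_,
    fun hA => hA.preimage (Points.continuous_map f)⟩, hs⟩
  obtain ⟨V, q, qe, qs⟩ := hY.atlas
  rw [← (isOpenQuotientMap_ofPt qe qs).isQuotientMap.isOpen_preimage, isOpen_iff_forall_mem_open]
  intro v hv
  obtain ⟨O, hO, hvO, -⟩ := exists_isAffineOpen_mem_and_subset (U := (⊤ : V.left.Opens)) (x := v) trivial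
  let T : Over S := Over.mk (O.ι ≫ V.hom)
  let i : T ⟶ V := Over.homMk O.ι rfl
  have : IsAffine T.left := hO
  have hT : RepWith @Etale ((yon S).map i ≫ q) :=
    repWith_comp ((repWith_yon_map_iff @Etale i).2 (inferInstanceAs (Etale O.ι))) qe
  have sq := IsPullback.of_hasPullback f ((yon S).map i ≫ q)
  obtain ⟨U, r, re, rs, hU⟩ := hqc (IsAlgSpace.yon_obj T) (isQuasiCompactSp_yon T) _ _ _ sq
  obtain ⟨α, hα⟩ := (yon S).map_surjective (r ≫ pullback.snd f ((yon S).map i ≫ q))
  have hre : RepWith @Etale (r ≫ pullback.fst f ((yon S).map i ≫ q)) :=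
    repWith_comp re (repWith_of_isPullback sq.flip hT)
  have comm : (r ≫ pullback.fst f ((yon S).map i ≫ q)) ≫ f = (yon S).map α ≫ (yon S).map i ≫ q := by
    rw [hα, Category.assoc, Category.assoc, sq.w]
  have : Flat α.left := hfl _ _ α hre hT comm
  have : CompactSpace ↥U.left := hU
  have : QuasiCompact α.left := (quasiCompact_iff_compactSpace _).2 this
  have : Surjective α.left := ⟨fun t => by
    obtain ⟨x, hx⟩ := hs (Points.ofPt ((yon S).map i ≫ q) t)
    obtain ⟨p, -, hp⟩ := exists_of_isPullback sq (x := x) (y := Points.schemeHomeo T t)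
      (hx.trans (Points.ofPt_eq_map_ofScheme _ t))
    obtain ⟨w, rfl⟩ := surjective_ofPt_of_repWith rs p
    refine ⟨w, (Points.schemeHomeo T).injective ?_⟩
    rw [← hp, Points.map_ofPt, ← hα, Points.ofPt_eq_map_ofScheme, map_yon_ofPt]
    rfl⟩
  have hopen : IsOpen (Points.ofPt ((yon S).map i ≫ q) ⁻¹' A) := by
    rw [← (Flat.isQuotientMap_of_surjective α.left).isOpen_preimage]
    have e : α.left ⁻¹' (Points.ofPt ((yon S).map i ≫ q) ⁻¹' A) =
        Points.ofPt (r ≫ pullback.fst f ((yon S).map i ≫ q)) ⁻¹' (Points.map f ⁻¹' A) := by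
      ext w
      simp only [Set.mem_preimage]
      rw [Points.map_ofPt, comm]
      simp only [ofPt_map_comp]
    rw [e]
    exact hA.preimage (Points.continuous_ofPt _)
  refine ⟨O.ι '' (Points.ofPt ((yon S).map i ≫ q) ⁻¹' A), ?_, O.ι.isOpenEmbedding.isOpenMap _ hopen,
    ⟨v, hvO⟩, ?_, rfl⟩
  · rintro _ ⟨t, ht, rfl⟩
    show Points.ofPt q _ ∈ A
    rw [Set.mem_preimage, ofPt_map_comp] at ht
    exact ht
  · show Points.ofPt _ _ ∈ A
    rw [ofPt_map_comp]
    exact hv

/-- A morphism of algebraic spaces that is flat, quasi-compact and surjective is submersive, and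
universally submersive. -/
theorem result {S : Scheme.{u}} {X Y : AlgSp.Space S} (f : X ⟶ Y)
    (hfl : AlgSp.LocP @Flat f.hom) (hqc : AlgSp.IsQuasiCompactMor f.hom) (hs : AlgSp.IsSurjectiveMor f.hom) :
    AlgSp.IsSubmersiveMor f.hom ∧ AlgSp.IsUnivSubmersiveMor f.hom := by
  refine ⟨quotient X.property Y.property f.hom hfl hqc hs, fun Z Z' hZ g fst snd sq => ?_⟩
  exact quotient (GrothLib.AlgSp.isAlgSpace_pullback Y.property.diag X.property hZ sq) hZ snd
    (GrothLib.AlgSp.EtLocal.flat.locP_of_isPullback X.property Y.property hZ sq hfl)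
    (fun W W' hW hWc k a b sq' => hqc hW hWc (k ≫ g) (a ≫ fst) b (sq'.paste_horiz sq))
    (GrothLib.AlgSp.surjective_of_pullback sq hs)

end Groth.Agent.S9963
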