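import Groth.Statements.S9967
import Groth.Agent.Lib.AlgSp.SchDenseSp
-- import your own Groth.Agent.* helpers here

set_option autoImplicit false
universe u
open CategoryTheory CategoryTheory.Limits AlgebraicGeometry
open AlgSp

namespace Groth.Agent.S9967

/-- For a separated f : X -> Y and a section s of f over a quasi-compact open V of Y, the scheme
theoretic image of s maps isomorphically to Y over V. -/
theorem result {S : Scheme.{u}} {X Y V Y' : AlgSp.Space S} (f : X ⟶ Y) (j : V ⟶ Y)
    (hj : AlgSp.RepWith @IsOpenImmersion j.hom) (hjq : AlgSp.IsQuasiCompactMor j.hom) (hf : AlgSp.IsSeparatedMor f.hom)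
    (s : V ⟶ X) (hs : s ≫ f = j) (c : Y' ⟶ X) (hc : AlgSp.IsSchImage s.hom c.hom)
    {P : AlgSp.Sp S} (fst : P ⟶ Y'.obj) (snd : P ⟶ V.obj) (sq : IsPullback fst snd (c ≫ f).hom j.hom) :
    IsIso snd := by
  have hjm : Mono j.hom := GrothLib.AlgSp.mono_of_openImmersion hj
  have hsf : s.hom ≫ f.hom = j.hom := congrArg (fun z => z.hom) hs
  have sqX := IsPullback.of_hasPullback f.hom j.hom
  have hXV := GrothLib.AlgSp.isAlgSpace_pullback' Y.property X.property V.property f.hom j.hom
  let sV : V.obj ⟶ pullback f.hom j.hom := pullback.lift s.hom (𝟙 _) (by rw [hsf, Category.id_comp])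
  have hsV : sV ≫ pullback.snd f.hom j.hom = 𝟙 _ := pullback.lift_snd _ _ _
  have hsV₁ : sV ≫ pullback.fst f.hom j.hom = s.hom := pullback.lift_fst _ _ _
  have sqF : IsPullback (𝟙 V.obj) sV s.hom (pullback.fst f.hom j.hom) := by
    refine (IsPullback.of_right (h₁₂ := pullback.snd f.hom j.hom) (h₂₂ := f.hom) (v₁₃ := j.hom) ?_ ?_ sqX.flip).flip
    · rw [hsV, hsf]
      exact IsKernelPair.id_of_mono j.hom
    · rw [hsV₁, Category.id_comp]
  let m : P ⟶ pullback f.hom j.hom := pullback.lift (fst ≫ c.hom) snd (by rw [Category.assoc]; exact sq.w)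
  have hm₁ : m ≫ pullback.fst f.hom j.hom = fst ≫ c.hom := pullback.lift_fst _ _ _
  have hm₂ : m ≫ pullback.snd f.hom j.hom = snd := pullback.lift_snd _ _ _
  have sqZ : IsPullback fst m c.hom (pullback.fst f.hom j.hom) := by
    refine IsPullback.of_bot (v₂₁ := pullback.snd f.hom j.hom) (v₂₂ := f.hom) (h₃₁ := j.hom) ?_ hm₁.symm sqX
    rw [hm₂]
    exact sq
  have hfl : AlgSp.LocP @Flat (pullback.fst f.hom j.hom) :=
    GrothLib.AlgSp.EtLocal.locP_of_repWith GrothLib.AlgSp.EtLocal.flat X.property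
      (GrothLib.AlgSp.repWith_mono (GrothLib.AlgSp.repWith_of_isPullback sqX.flip hj)
        fun A B g (_ : IsOpenImmersion g) => inferInstance)
  have hqs : AlgSp.IsQuasiCompactMor s.hom :=
    GrothLib.AlgSp.isQuasiCompactMor_of_comp V.property X.property Y.property (hsf ▸ hjq)
      (GrothLib.AlgSp.isQuasiSeparatedMor_of_isSeparatedMor hf)
  have him := GrothLib.AlgSp.isSchImage_of_flat_baseChange V.property X.property hXV hqs hfl sqF hc sqZ
  have hci : RepWith @IsClosedImmersion sV := GrothLib.AlgSp.repWith_section _ sV hsV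
    (GrothLib.AlgSp.repWith_of_isPullback (GrothLib.AlgSp.isPullback_diagonal_of_isPullback sqX) hf)
  obtain ⟨k, hk⟩ := him.2.2 sV V.property hci ⟨𝟙 _, Category.id_comp _⟩
  obtain ⟨f', hf'⟩ := him.2.1
  have hks : snd = k := by rw [← hm₂, ← hk, Category.assoc, hsV, Category.comp_id]
  haveI : Mono m := GrothLib.AlgSp.mono_of_closedImmersion him.1
  rw [hks]
  refine ⟨f', ?_, ?_⟩
  · rw [← cancel_mono m, Category.assoc, hf', hk, Category.id_comp]
  · haveI : Mono sV := GrothLib.AlgSp.mono_of_closedImmersion hci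
    rw [← cancel_mono sV, Category.assoc, hk, hf', Category.id_comp]

end Groth.Agent.S9967
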