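import Groth.Statements.S9968
import Groth.Agent.Lib.AlgSp.SchDenseSp
-- import your own Groth.Agent.* helpers here

set_option autoImplicit false
universe u
open CategoryTheory CategoryTheory.Limits AlgebraicGeometry
open AlgSp

namespace Groth.Agent.S9968

/-- (2) ⇒ (1): if an open subspace is scheme theoretically dense on one surjective etale scheme chart
then its inverse image on every etale scheme chart is scheme theoretically dense. (Density is read
as schematic density of the inverse image open, on both sides; the test objects are scheme charts.) -/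
theorem result {S : Scheme.{u}} {U X : AlgSp.Space S} (j : U ⟶ X)
    (hj : AlgSp.IsSchDense j.hom) (V : Over S) (φ : (AlgSp.yon S).obj V ⟶ X.obj) (hφ : AlgSp.RepWith @Etale φ)
    (W : V.left.Opens) (fst : (AlgSp.yon S).obj (Over.mk (W.ι ≫ V.hom)) ⟶ U.obj)
    (sq : IsPullback fst ((AlgSp.yon S).map (Over.homMk W.ι rfl : Over.mk (W.ι ≫ V.hom) ⟶ V)) j.hom φ) :
    CInt.IsSchematicallyDense W := by
  exact GrothLib.AlgSp.isSchematicallyDense_of_chart hj hφ sq

end Groth.Agent.S9968
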