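import Groth.Statements.S9969
import Groth.Agent.Lib.AlgSp.SchDenseSp
-- import your own Groth.Agent.* helpers here

set_option autoImplicit false
universe u
open CategoryTheory CategoryTheory.Limits AlgebraicGeometry
open AlgSp

namespace Groth.Agent.S9969

/-- For a quasi-compact open subspace, scheme theoretic density is equivalent to the scheme theoretic
closure being everything. -/
theorem result {S : Scheme.{u}} {U X : AlgSp.Space S} (j : U ⟶ X)
    (hj : AlgSp.RepWith @IsOpenImmersion j.hom) (hq : AlgSp.IsQuasiCompactMor j.hom) :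
    AlgSp.IsSchDense j.hom ↔ AlgSp.IsSchImage j.hom (𝟙 X.obj) := by
  have key : ∀ {T : Over S} {a : (AlgSp.yon S).obj T ⟶ X.obj}, RepWith @Etale a → RepWith @Surjective a →
      ∀ {W : T.left.Opens} {fst : (AlgSp.yon S).obj (Over.mk (W.ι ≫ T.hom)) ⟶ U.obj}
        (sq : IsPullback fst ((AlgSp.yon S).map (Over.homMk W.ι rfl : Over.mk (W.ι ≫ T.hom) ⟶ T)) j.hom a),
      AlgSp.IsSchImage j.hom (𝟙 X.obj) ↔ CInt.IsSchematicallyDense W := by
    intro T a ae as W fst sq
    haveI : QuasiCompact W.ι := (GrothLib.AlgSp.repWith_quasiCompact_of_isQuasiCompactMor hj.1 hq).2 _ _ _ sq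
    haveI : QuasiCompact (Over.homMk W.ι rfl : Over.mk (W.ι ≫ T.hom) ⟶ T).left := ‹QuasiCompact W.ι›
    have hinv := GrothLib.AlgSp.isInvariantIdeal_ker ae sq (GrothLib.AlgSp.repWith_iso (𝟙 _))
      (GrothLib.AlgSp.repWith_iso (𝟙 _)) (Category.id_comp _)
    obtain ⟨hb, hbl⟩ := GrothLib.AlgSp.chart_fst X.property sq ae as (GrothLib.AlgSp.repWith_iso (𝟙 _))
      (GrothLib.AlgSp.repWith_iso (𝟙 _)) (Category.id_comp _)
    haveI := hbl
    have hid : RepWith @IsClosedImmersion (𝟙 X.obj) := GrothLib.AlgSp.repWith_iso _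
    obtain ⟨J, p, -, sqJ⟩ := GrothLib.AlgSp.exists_chart_ideal hid a
    have hJ : J = ⊥ := by
      refine (Scheme.isIso_subschemeι_iff_eq_bot J).1 ?_
      have h : RepWith (MorphismProperty.isomorphisms Scheme.{u}) (𝟙 X.obj) := GrothLib.AlgSp.repWith_iso _
      exact h.2 _ _ _ sqJ
    rw [GrothLib.AlgSp.isSchematicallyDense_iff_ker]
    constructor
    · intro h
      have := (GrothLib.AlgSp.eq_schIdeal_of_isSchImage X.property ae as hb h sqJ).symm.trans hJ
      rwa [GrothLib.AlgSp.schIdeal_eq_ker hinv] at this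
    · intro h
      refine GrothLib.AlgSp.isSchImage_of_eq_schIdeal ae as hb hid sqJ ?_
      rw [hJ, GrothLib.AlgSp.schIdeal_eq_ker hinv]
      exact h.symm
  constructor
  · rintro ⟨-, T, a, W, fst, ae, as, sq, hd⟩
    exact (key ae as sq).2 hd
  · intro h
    obtain ⟨T, a, ae, as⟩ := X.property.atlas
    obtain ⟨W, fst, sq⟩ := GrothLib.AlgSp.exists_opens_chart hj a
    exact ⟨hj, T, a, W, fst, ae, as, sq, (key ae as sq).1 h⟩

end Groth.Agent.S9969
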