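import Groth.Statements.S9970
import Groth.Agent.Lib.AlgSp.SchDenseSp
-- import your own Groth.Agent.* helpers here

set_option autoImplicit false
universe u
open CategoryTheory CategoryTheory.Limits AlgebraicGeometry
open AlgSp

namespace Groth.Agent.S9970

/-- The intersection of two scheme theoretically dense open subspaces is scheme theoretically dense. -/
theorem result {S : Scheme.{u}} {U V X P : AlgSp.Space S} (jU : U ⟶ X) (jV : V ⟶ X)
    (hU : AlgSp.IsSchDense jU.hom) (hV : AlgSp.IsSchDense jV.hom) (fst : P ⟶ U) (snd : P ⟶ V)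
    (sq : IsPullback fst.hom snd.hom jU.hom jV.hom) : AlgSp.IsSchDense (fst ≫ jU).hom := by
  obtain ⟨hUo, T, φ, W₁, fst₁, φe, φs, sq₁, hd₁⟩ := hU
  obtain ⟨W₂, fst₂, sq₂⟩ := GrothLib.AlgSp.exists_opens_chart hV.1 φ
  have hd₂ := GrothLib.AlgSp.isSchematicallyDense_of_chart hV φe sq₂
  have hfst : RepWith @IsOpenImmersion fst.hom := GrothLib.AlgSp.repWith_of_isPullback sq.flip hV.1
  have hcomp : RepWith @IsOpenImmersion (fst ≫ jU).hom := GrothLib.AlgSp.repWith_comp hfst hUo
  obtain ⟨W, fst₃, sq₃⟩ := GrothLib.AlgSp.exists_opens_chart hcomp φ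
  have hW : W = W₁ ⊓ W₂ := by
    refine TopologicalSpace.Opens.ext ?_
    rw [TopologicalSpace.Opens.coe_inf, GrothLib.AlgSp.coe_opens_chart sq₁, GrothLib.AlgSp.coe_opens_chart sq₂,
      GrothLib.AlgSp.coe_opens_chart sq₃, ← Set.preimage_inter]
    congr 1
    ext x
    constructor
    · rintro ⟨p, rfl⟩
      refine ⟨⟨Points.map fst.hom p, (Points.map_comp _ _ _).symm⟩, Points.map snd.hom p, ?_⟩
      rw [← Points.map_comp, ← sq.w, Points.map_comp]
      exact (Points.map_comp _ _ _).symm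
    · rintro ⟨⟨y, hy⟩, z, hz⟩
      obtain ⟨p, hp, -⟩ := GrothLib.AlgSp.exists_of_isPullback sq (hy.trans hz.symm)
      exact ⟨p, (Points.map_comp _ _ _).trans ((congrArg _ hp).trans hy)⟩
  refine ⟨hcomp, T, φ, W, fst₃, φe, φs, sq₃, ?_⟩
  subst hW
  intro O
  rw [injective_iff_map_eq_zero]
  intro s hs
  refine (injective_iff_map_eq_zero _).1 (hd₁ O) s ((injective_iff_map_eq_zero _).1 (hd₂ (O ⊓ W₁)) _ ?_)
  have h := congrArg (T.left.presheaf.map (homOfLE (inf_assoc O W₁ W₂).le).op) hs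
  rw [map_zero] at h
  erw [GrothLib.SchDensePull.res_res] at h
  erw [GrothLib.SchDensePull.res_res]
  exact h

end Groth.Agent.S9970
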