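import Groth.Statements.S9971
import Groth.Agent.Lib.AlgSp.SchDenseSp
import Groth.Agent.Lib.AlgSp.ImmersionDescent
-- import your own Groth.Agent.* helpers here

set_option autoImplicit false
universe u
open CategoryTheory CategoryTheory.Limits AlgebraicGeometry
open AlgSp

namespace Groth.Agent.S9971

/-- A quasi-compact (or reduced-source) immersion is a scheme theoretically dense, topologically dense
open immersion into its scheme theoretic image. -/
theorem result {S : Scheme.{u}} {Z X Zbar : AlgSp.Space S} (h : Z ⟶ X)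
    (hh : AlgSp.RepWith @IsImmersion h.hom) (hq : AlgSp.IsQuasiCompactMor h.hom ∨ AlgSp.IsReducedSp Z.obj)
    (c : Zbar ⟶ X) (hc : AlgSp.IsSchImage h.hom c.hom) (h' : Z ⟶ Zbar) (fac : h' ≫ c = h) :
    AlgSp.RepWith @IsOpenImmersion h'.hom ∧ AlgSp.IsSchDense h'.hom ∧
      Dense (Set.range (AlgSp.Points.map h'.hom)) := by
  obtain ⟨T, a, ae, as⟩ := X.property.atlas
  haveI : Mono c.hom := GrothLib.AlgSp.mono_of_closedImmersion hc.1
  obtain ⟨W, fst, g, sqW⟩ := GrothLib.AlgSp.exists_isPullback_of_representable hh.1 a
  haveI : IsImmersion g.left := hh.2 _ _ _ sqW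
  obtain ⟨hb, hbl⟩ := GrothLib.AlgSp.chart_fst X.property sqW ae as (GrothLib.AlgSp.repWith_iso (𝟙 _))
    (GrothLib.AlgSp.repWith_iso (𝟙 _)) (Category.id_comp _)
  haveI := hbl
  obtain ⟨J, p, -, sqJ⟩ := GrothLib.AlgSp.exists_chart_ideal hc.1 a
  have hJ := GrothLib.AlgSp.eq_schIdeal_of_isSchImage X.property ae as hb hc sqJ
  have hle : J ≤ g.left.ker := hJ ▸ GrothLib.AlgSp.schIdeal_le _ _
  obtain ⟨l, hl⟩ := (GrothLib.AlgSp.exists_factor_subscheme_iff J g).2 hle
  have sql : IsPullback fst ((AlgSp.yon S).map l) h'.hom p := by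
    refine IsPullback.of_bot (h₃₁ := a) (v₂₁ := (AlgSp.yon S).map (Over.homMk J.subschemeι rfl)) (v₂₂ := c.hom) ?_ ?_ sqJ
    · rw [← Functor.map_comp, hl, show h'.hom ≫ c.hom = h.hom from congrArg (fun z => z.hom) fac]
      exact sqW
    · rw [← cancel_mono c.hom, Category.assoc, Category.assoc, sqJ.w, ← Functor.map_comp_assoc, hl,
        show h'.hom ≫ c.hom = h.hom from congrArg (fun z => z.hom) fac]
      exact sqW.w
  haveI : IsImmersion (l.left ≫ J.subschemeι) := by
    rw [show l.left ≫ J.subschemeι = g.left from congrArg (fun z => z.left) hl]; infer_instance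
  haveI : IsImmersion l.left := IsImmersion.of_comp l.left J.subschemeι
  have key : ∃ _ : IsOpenImmersion l.left, CInt.IsSchematicallyDense l.left.opensRange ∧ DenseRange l.left := by
    rcases hq with hq | hr
    · haveI : QuasiCompact g.left :=
        (GrothLib.AlgSp.repWith_quasiCompact_of_isQuasiCompactMor hh.1 hq).2 _ _ _ sqW
      obtain rfl : J = g.left.ker := hJ.trans (GrothLib.AlgSp.schIdeal_eq_ker
        (GrothLib.AlgSp.isInvariantIdeal_ker ae sqW (GrothLib.AlgSp.repWith_iso (𝟙 _))
          (GrothLib.AlgSp.repWith_iso (𝟙 _)) (Category.id_comp _)))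
      have hlt : l.left = g.left.toImage := by
        rw [← cancel_mono g.left.ker.subschemeι, g.left.toImage_imageι]
        exact congrArg (fun z => z.left) hl
      haveI : IsOpenImmersion l.left := by rw [hlt]; infer_instance
      haveI : QuasiCompact l.left := by rw [hlt]; infer_instance
      have hk : g.left.toImage.ker = ⊥ := by
        refine le_bot_iff.1 ?_
        intro V
        rw [Scheme.Hom.ker_apply]
        have hinj : Function.Injective (g.left.toImage.app V) := by
          intro s t hst
          refine TopCat.Presheaf.section_ext (g.left.image).sheaf _ _ _ fun x hx => ?_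
          refine g.left.stalkFunctor_toImage_injective x ?_
          erw [TopCat.Presheaf.stalkFunctor_map_germ_apply, TopCat.Presheaf.stalkFunctor_map_germ_apply]
          exact congrArg _ hst
        rw [(RingHom.injective_iff_ker_eq_bot _).1 hinj]
        exact bot_le
      have hdr : DenseRange l.left := by rw [hlt]; exact g.left.toImage.denseRange
      haveI : QuasiCompact l.left.opensRange.ι := by
        rw [← MorphismProperty.cancel_left_of_respectsIso @QuasiCompact l.left.isoOpensRange.hom,
          Scheme.Hom.isoOpensRange_hom_ι]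
        infer_instance
      refine ⟨inferInstance, (GrothLib.AlgSp.isSchematicallyDense_iff_ker _).2 ?_, hdr⟩
      rw [← hk, ← hlt, ← Scheme.Hom.ker_comp_of_isIso l.left.isoOpensRange.hom l.left.opensRange.ι,
        Scheme.Hom.isoOpensRange_hom_ι]
    · have hri := GrothLib.AlgSp.isRedInduced_of_isSchImage Z.property X.property Zbar.property hr hc
      haveI : IsReduced J.subscheme := GrothLib.AlgSp.etaleLocally_chart (Q := fun T => IsReduced T)
        (fun A B k => GrothLib.AlgSp.isReduced_of_etale k) (fun A B k => GrothLib.AlgSp.isReduced_desc k) hri.2.2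
        p (GrothLib.AlgSp.repWith_of_isPullback sqJ.flip ae)
      have hrange : Set.range J.subschemeι = closure (Set.range g.left) := by
        rw [← GrothLib.AlgSp.preimage_range_map sqW,
          ← (GrothLib.AlgSp.isOpenMap_ofPt_of_etale ae).preimage_closure_eq_closure_preimage
            (Points.continuous_ofPt a), ← hri.2.1]
        exact (GrothLib.AlgSp.preimage_range_map sqJ).symm
      have hlr : Set.range l.left = J.subschemeι ⁻¹' Set.range g.left := by
        rw [show g.left = l.left ≫ J.subschemeι from (congrArg (fun z => z.left) hl).symm,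
          Scheme.Hom.comp_base, TopCat.coe_comp, Set.range_comp,
          Set.preimage_image_eq _ J.subschemeι.isEmbedding.injective]
      have hopen : IsOpen (Set.range l.left) := by
        have hlc : IsLocallyClosed (Set.range g.left) := g.left.isLocallyClosed_range
        have e : Set.range l.left = J.subschemeι ⁻¹' coborder (Set.range g.left) := by
          rw [hlr]
          ext x
          refine ⟨fun hx => subset_coborder hx, fun hx => ?_⟩
          have hx' : J.subschemeι x ∈ closure (Set.range g.left) := hrange ▸ ⟨x, rfl⟩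
          exact (coborder_inter_closure (s := Set.range g.left)).le ⟨hx, hx'⟩
        rw [e]
        exact hlc.isOpen_coborder.preimage J.subschemeι.continuous
      haveI : IsReduced (Over.mk (J.subschemeι ≫ T.hom)).left := ‹IsReduced J.subscheme›
      haveI : IsOpenImmersion l.left := GrothLib.RedSub.isOpenImmersion_of_isOpen_range l.left hopen
      have hdr : DenseRange l.left := by
        rw [DenseRange, dense_iff_closure_eq, hlr, J.subschemeι.isEmbedding.closure_eq_preimage_closure_image,
          Set.image_preimage_eq_of_subset (hrange ▸ subset_closure), ← hrange, Set.preimage_range]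
      refine ⟨inferInstance, fun O => (injective_iff_map_eq_zero _).2 fun s hs => ?_, hdr⟩
      refine eq_zero_of_basicOpen_eq_bot s (TopologicalSpace.Opens.ext (Set.eq_empty_iff_forall_notMem.2 fun x hx => ?_))
      obtain ⟨y, hy₁, hy₂⟩ := hdr.inter_open_nonempty _ (J.subscheme.basicOpen s).2 ⟨x, hx⟩
      have h0 : J.subscheme.basicOpen s ⊓ l.left.opensRange = ⊥ := by
        have := J.subscheme.basicOpen_res s (homOfLE (inf_le_left : O ⊓ l.left.opensRange ≤ O)).op
        erw [hs, Scheme.basicOpen_zero] at this
        refine le_bot_iff.1 (le_of_le_of_eq ?_ this.symm)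
        exact le_inf (le_inf (inf_le_left.trans (J.subscheme.basicOpen_le s)) inf_le_right) inf_le_left
      exact (h0.le ⟨hy₁, hy₂⟩ : _)
  obtain ⟨hlo, hsd, hdr⟩ := key
  haveI : Sheaf.IsLocallySurjective p := GrothLib.AlgSp.chart_isLocallySurjective
    (GrothLib.AlgSp.repWith_of_isPullback sqJ.flip ae) (GrothLib.AlgSp.repWith_of_isPullback sqJ.flip as)
  have hopen : RepWith @IsOpenImmersion h'.hom := GrothLib.AlgSp.repWith_of_base_isImmersion p sql
    (GrothLib.AlgSp.le_isImmersion_of_cases (Or.inr (Or.inl rfl))).1
    (GrothLib.AlgSp.le_isImmersion_of_cases (Or.inr (Or.inl rfl))).2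
    ((AlgSp.repWith_yon_map_iff _ _).2 hlo)
  obtain ⟨Wc, fstc, sqc⟩ := GrothLib.AlgSp.exists_opens_chart hopen p
  have hWc : Wc = l.left.opensRange := TopologicalSpace.Opens.ext
    ((GrothLib.AlgSp.coe_opens_chart sqc).trans (GrothLib.AlgSp.preimage_range_map sql))
  have ps := GrothLib.AlgSp.repWith_of_isPullback sqJ.flip as
  refine ⟨hopen, ⟨hopen, _, p, Wc, fstc, GrothLib.AlgSp.repWith_of_isPullback sqJ.flip ae, ps, sqc, hWc ▸ hsd⟩,
    fun z => ?_⟩
  obtain ⟨x, rfl⟩ := GrothLib.AlgSp.surjective_ofPt_of_repWith ps z
  refine map_mem_closure (Points.continuous_ofPt p) (hdr x) ?_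
  rintro _ ⟨y, rfl⟩
  exact ⟨_, GrothLib.AlgSp.map_ofPt_fst sql y⟩

end Groth.Agent.S9971
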