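import Groth.Statements.S9972
import Groth.Agent.Lib.AlgSp.SchImage
import Groth.Agent.Lib.AlgSp.UnivClosed
-- import your own Groth.Agent.* helpers here

set_option autoImplicit false
universe u
open CategoryTheory CategoryTheory.Limits AlgebraicGeometry
open AlgSp

namespace Groth.Agent.S9972

/-- Two morphisms to an algebraic space separated over B that agree on an open subspace whose scheme
theoretic closure is everything are equal. -/
theorem result {S : Scheme.{u}} {U X Y B : AlgSp.Space S} (q : Y ⟶ B)
    (hq : AlgSp.IsSeparatedMor q.hom) (f g : X ⟶ Y) (hfg : f ≫ q = g ≫ q) (j : U ⟶ X)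
    (hj : AlgSp.RepWith @IsOpenImmersion j.hom) (hcl : AlgSp.IsSchImage j.hom (𝟙 X.obj)) (heq : j ≫ f = j ≫ g) :
    f = g := by
  have hP := GrothLib.AlgSp.isAlgSpace_pullback' B.property Y.property Y.property q.hom q.hom
  let φ : X.obj ⟶ pullback q.hom q.hom := pullback.lift f.hom g.hom (congrArg (fun z => z.hom) hfg)
  have sq := IsPullback.of_hasPullback (pullback.diagonal q.hom) φ
  have hE : AlgSp.IsAlgSpace (pullback (pullback.diagonal q.hom) φ) :=
    GrothLib.AlgSp.isAlgSpace_pullback' hP Y.property X.property _ φ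
  obtain ⟨k, hk⟩ := hcl.2.2 (pullback.snd (pullback.diagonal q.hom) φ) hE
    (GrothLib.AlgSp.repWith_of_isPullback sq hq)
    ⟨sq.lift (j.hom ≫ f.hom) j.hom (by
      have h := congrArg (fun z => z.hom) heq
      apply pullback.hom_ext
      · rw [Category.assoc, pullback.diagonal_fst, Category.comp_id, Category.assoc,
          show φ ≫ pullback.fst q.hom q.hom = f.hom from pullback.lift_fst _ _ _]
      · rw [Category.assoc, pullback.diagonal_snd, Category.comp_id, Category.assoc,
          show φ ≫ pullback.snd q.hom q.hom = g.hom from pullback.lift_snd _ _ _]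
        exact h), sq.lift_snd _ _ _⟩
  have e := k ≫= sq.w
  rw [reassoc_of% hk] at e
  have e₁ := e =≫ pullback.fst q.hom q.hom
  have e₂ := e =≫ pullback.snd q.hom q.hom
  simp only [Category.assoc, pullback.diagonal_fst, pullback.diagonal_snd, Category.comp_id, Category.id_comp,
    show (𝟙 X : X ⟶ X).hom = 𝟙 X.obj from rfl, show φ ≫ pullback.fst q.hom q.hom = f.hom from pullback.lift_fst _ _ _,
    show φ ≫ pullback.snd q.hom q.hom = g.hom from pullback.lift_snd _ _ _] at e₁ e₂
  exact ObjectProperty.hom_ext _ (e₁.symm.trans e₂)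

end Groth.Agent.S9972
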