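import Groth.Statements.S9973
import Groth.Agent.Lib.AlgSp.SchDenseSp
-- import your own Groth.Agent.* helpers here

set_option autoImplicit false
universe u
open CategoryTheory CategoryTheory.Limits AlgebraicGeometry
open AlgSp

namespace Groth.Agent.S9973

/-- The inverse image of a quasi-compact scheme theoretically dense open under a flat morphism of
algebraic spaces is scheme theoretically dense. -/
theorem result {S : Scheme.{u}} {X Y V V' : AlgSp.Space S} (f : X ⟶ Y)
    (hf : AlgSp.LocP @Flat f.hom) (j : V ⟶ Y) (hj : AlgSp.IsSchDense j.hom) (hjq : AlgSp.IsQuasiCompactMor j.hom)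
    (fst : V' ⟶ V) (jX : V' ⟶ X) (sq : IsPullback fst.hom jX.hom j.hom f.hom) : AlgSp.IsSchDense jX.hom := by
  obtain ⟨hjo, T, φ, W, fst₀, φe, φs, sq₀, hd⟩ := hj
  obtain ⟨T', a', γ, ae', hγ, as'⟩ := GrothLib.AlgSp.exists_chart_over X.property Y.property f.hom φ φe
  haveI : Flat γ.left := hf a' φ γ ae' φe hγ
  haveI : QuasiCompact W.ι := (GrothLib.AlgSp.repWith_quasiCompact_of_isQuasiCompactMor hjo.1 hjq).2 _ _ _ sq₀
  obtain ⟨W', fst', sq'⟩ := GrothLib.AlgSp.exists_opens_chart (GrothLib.AlgSp.repWith_of_isPullback sq hjo) a'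
  refine ⟨GrothLib.AlgSp.repWith_of_isPullback sq hjo, T', a', W', fst', ae', as' φs, sq', ?_⟩
  have hW : W' = γ.left ⁻¹ᵁ W :=
    GrothLib.AlgSp.preimage_opens_chart hγ.symm sq₀ (sq'.paste_horiz sq)
  rw [hW]
  exact GrothLib.AlgSp.isSchematicallyDense_preimage_of_qc γ.left W hd

end Groth.Agent.S9973
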