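import Groth.Statements.S9978
import Groth.Agent.Lib.BlowUpProper.Basic
import Groth.Agent.Lib.AlgSp.Space
-- import your own Groth.Agent.* helpers here

set_option autoImplicit false
universe u
open CategoryTheory CategoryTheory.Limits AlgebraicGeometry
open AlgSp GrothLib.AlgSp
set_option backward.isDefEq.respectTransparency false

namespace Groth.Agent.S9978

/-- An algebraic space locally of finite type over a Nagata algebraic space is Nagata. -/
theorem result {S : Scheme.{u}} {X Y : AlgSp.Space S} (f : X ⟶ Y)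
    (hf : AlgSp.LocP @LocallyOfFiniteType f.hom)
    (hY : AlgSp.EtaleLocally (fun U => ∀ V : U.Opens, IsAffineOpen V → CAlg.IsNagata ↑Γ(U, V)) Y.obj) :
    AlgSp.EtaleLocally (fun U => ∀ V : U.Opens, IsAffineOpen V → CAlg.IsNagata ↑Γ(U, V)) X.obj := by
  obtain ⟨V, q, qe, qs, hV⟩ := hY
  obtain ⟨U, p, α, pe, hp, hps⟩ := GrothLib.AlgSp.exists_chart_over X.property Y.property f.hom q qe
  haveI : LocallyOfFiniteType α.left := hf p q α pe qe hp
  exact ⟨U, p, pe, hps qs, fun W hW =>
    GrothLib.BlowUpProper.isNagata_of_locallyOfFiniteType α.left (fun V' => hV V'.1 V'.2) ⟨W, hW⟩⟩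

end Groth.Agent.S9978
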