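import Groth.Statements.S9979
import Groth.Agent.Lib.AlgSp.SchImage
import Groth.Agent.Lib.AlgSp.Valuative
import Groth.Agent.Lib.DVRDom.Scheme
-- import your own Groth.Agent.* helpers here

set_option autoImplicit false
universe u
open CategoryTheory CategoryTheory.Limits AlgebraicGeometry
open AlgSp

namespace Groth.Agent.S9979

/-- Every point of the scheme theoretic image of a quasi-compact morphism is reached by a valuation ring
whose generic point lifts to the source. -/
theorem result {S : Scheme.{u}} {X Y Z : AlgSp.Space S} (f : X ⟶ Y) (i : Z ⟶ Y)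
    (hq : AlgSp.IsQuasiCompactMor f.hom) (hZ : AlgSp.IsSchImage f.hom i.hom) (z : AlgSp.Points Z.obj) :
    ∃ (A : Type u) (_ : CommRing A) (_ : IsDomain A) (_ : ValuationRing A) (str : Spec (CommRingCat.of A) ⟶ S)
      (a : (AlgSp.yon S).obj (Over.mk str) ⟶ Z.obj)
      (x : (AlgSp.yon S).obj (Over.mk (Spec.map (CommRingCat.ofHom (algebraMap A (FractionRing A))) ≫ str)) ⟶ X.obj),
      AlgSp.Points.ofPt a (IsLocalRing.closedPoint A) = z ∧
      x ≫ f.hom = (AlgSp.yon S).map (Over.homMk (Spec.map (CommRingCat.ofHom (algebraMap A (FractionRing A)))) rfl) ≫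
        a ≫ i.hom := by
  obtain ⟨U, W, a, w, g, hae, has, we, ws, hgw, hgq, hinv⟩ :=
    GrothLib.AlgSp.exists_qc_chart X.property Y.property hq
  haveI := hgq
  obtain ⟨J, p, -, sqJ⟩ := GrothLib.AlgSp.exists_chart_ideal hZ.1 a
  obtain ⟨hb, hbl⟩ := GrothLib.AlgSp.chart_fst Y.property (IsPullback.of_hasPullback f.hom a) hae has we ws hgw
  haveI := hbl
  obtain rfl : J = g.left.ker :=
    (GrothLib.AlgSp.eq_schIdeal_of_isSchImage Y.property hae has hb hZ sqJ).trans
      (GrothLib.AlgSp.schIdeal_eq_ker hinv)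
  obtain ⟨c, rfl⟩ := GrothLib.AlgSp.surjective_ofPt_of_repWith
    (GrothLib.AlgSp.repWith_of_isPullback sqJ.flip has) z
  obtain ⟨u, hu⟩ := GrothLib.DVRDom.exists_specializes_of_denseRange g.left.toImage
    g.left.toImage.denseRange c
  obtain ⟨A, σ, hσ, hgen⟩ := GrothLib.AlgSp.exists_valuation_point (L := ↥(W.left.residueField u))
    (W.left.fromSpecResidueField u ≫ g.left.toImage) c
    (by rw [Scheme.Hom.comp_apply, Scheme.fromSpecResidueField_apply]; exact hu)
  let e := FractionRing.algEquiv A ↥(W.left.residueField u)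
  have he : Spec.map (CommRingCat.ofHom e.symm.toRingEquiv.toRingHom) ≫
      Spec.map (CommRingCat.ofHom (algebraMap A ↥(W.left.residueField u))) =
      Spec.map (CommRingCat.ofHom (algebraMap A (FractionRing A))) := by
    rw [← Spec.map_comp]
    exact congrArg Spec.map (CommRingCat.hom_ext (RingHom.ext fun x => e.symm.commutes x))
  let str : Spec (CommRingCat.of A) ⟶ S := σ ≫ g.left.ker.subschemeι ≫ U.hom
  let s : Over.mk str ⟶ Over.mk (g.left.ker.subschemeι ≫ U.hom) := Over.homMk σ rfl
  let x₀ : Over.mk (Spec.map (CommRingCat.ofHom (algebraMap A (FractionRing A))) ≫ str) ⟶ W :=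
    Over.homMk (Spec.map (CommRingCat.ofHom e.symm.toRingEquiv.toRingHom) ≫ W.left.fromSpecResidueField u) (by
      change _ = Spec.map _ ≫ σ ≫ g.left.ker.subschemeι ≫ U.hom
      rw [← he, Category.assoc, Category.assoc, reassoc_of% hgen, g.left.toImage_imageι_assoc, Over.w])
  refine ⟨A, inferInstance, inferInstance, inferInstance, str, (AlgSp.yon S).map s ≫ p,
    (AlgSp.yon S).map x₀ ≫ w ≫ pullback.fst f.hom a, ?_, ?_⟩
  · rw [GrothLib.AlgSp.ofPt_map_comp]
    exact congrArg _ hσ
  · rw [Category.assoc ((AlgSp.yon S).map x₀), hb, Category.assoc ((AlgSp.yon S).map s), sqJ.w,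
      ← Functor.map_comp_assoc, ← Functor.map_comp_assoc, ← Functor.map_comp_assoc]
    congr 2
    apply Over.OverMorphism.ext
    change (Spec.map _ ≫ _) ≫ g.left = (Spec.map _ ≫ σ) ≫ g.left.ker.subschemeι
    rw [← he, Category.assoc, Category.assoc, Category.assoc, reassoc_of% hgen, g.left.toImage_imageι]

end Groth.Agent.S9979
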