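import Groth.Statements.S9980
import Groth.Agent.Lib.AlgSp.FtPoints
import Groth.Agent.Lib.AlgSp.MonoPoint
import Groth.Agent.Lib.AlgSp.Quotient
import Groth.Agent.Lib.AlgSp.SingletonSpace
import Groth.Agent.Lib.AlgSp.LocP
import Mathlib.CategoryTheory.Sites.Subsheaf
-- import your own Groth.Agent.* helpers here

set_option autoImplicit false
universe u
open CategoryTheory CategoryTheory.Limits AlgebraicGeometry
open AlgSp GrothLib.AlgSp
set_option backward.isDefEq.respectTransparency false

namespace Groth.Agent.S9980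

/-- Characterizations of finite type points via one-point algebraic spaces locally of finite type over X
and via monomorphisms from quotients of spectra of fields. -/
theorem result {S : Scheme.{u}} (X : AlgSp.Space S) (x : AlgSp.Points X.obj) :
    ((∃ (k : Type u) (_ : Field k) (str : Spec (CommRingCat.of k) ⟶ S) (ξ : (AlgSp.yon S).obj (Over.mk str) ⟶ X.obj),
        AlgSp.LocP @LocallyOfFiniteType ξ ∧ AlgSp.Points.ofPt ξ (IsLocalRing.closedPoint k) = x) ↔
      ∃ (Z : AlgSp.Space S) (f : Z ⟶ X), Nonempty (Unique (AlgSp.Points Z.obj)) ∧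
        AlgSp.LocP @LocallyOfFiniteType f.hom ∧ Set.range (AlgSp.Points.map f.hom) = {x}) ∧
    ((∃ (k : Type u) (_ : Field k) (str : Spec (CommRingCat.of k) ⟶ S) (ξ : (AlgSp.yon S).obj (Over.mk str) ⟶ X.obj),
        AlgSp.LocP @LocallyOfFiniteType ξ ∧ AlgSp.Points.ofPt ξ (IsLocalRing.closedPoint k) = x) ↔
      ∃ (Z : AlgSp.Space S) (f : Z ⟶ X) (k : Type u) (_ : Field k) (str : Spec (CommRingCat.of k) ⟶ S)
        (z : (AlgSp.yon S).obj (Over.mk str) ⟶ Z.obj), AlgSp.RepWith @Etale z ∧ AlgSp.RepWith @Surjective z ∧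
        AlgSp.LocP @LocallyOfFiniteType f.hom ∧ Mono f.hom ∧
        AlgSp.Points.ofPt (z ≫ f.hom) (IsLocalRing.closedPoint k) = x) := by
  refine ⟨⟨?_, ?_⟩, ⟨?_, ?_⟩⟩
  · rintro ⟨k, _, str, ξ, hξ, hx⟩
    let Z : AlgSp.Space S := ⟨(yon S).obj (Over.mk str), IsAlgSpace.yon_obj _⟩
    haveI : Unique ↥(Over.mk str).left := inferInstanceAs (Unique (PrimeSpectrum k))
    let e := Points.schemeEquiv (S := S) (Over.mk str)
    refine ⟨Z, ObjectProperty.homMk ξ, ⟨e.symm.unique⟩, hξ, ?_⟩
    ext y
    constructor
    · rintro ⟨z, rfl⟩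
      obtain ⟨v, rfl⟩ := e.surjective z
      rw [← hx, Subsingleton.elim v (IsLocalRing.closedPoint k)]
      exact (Points.ofPt_eq_map_ofScheme ξ _).symm
    · rintro rfl
      exact ⟨e (IsLocalRing.closedPoint k), (Points.ofPt_eq_map_ofScheme ξ _).symm.trans hx⟩
  · rintro ⟨Z, f, ⟨hu⟩, hf, hr⟩
    obtain ⟨z, -, k, _, str, ξ, hξ, hz⟩ := exists_ftPoint_of_isLocallyClosed Z.property
      isOpen_univ.isLocallyClosed ⟨hu.default, Set.mem_univ _⟩
    refine ⟨k, inferInstance, str, ξ ≫ f.hom,
      EtLocal.locP_comp .lft (IsAlgSpace.yon_obj _) Z.property X.property hξ hf, ?_⟩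
    rw [← Points.map_ofPt, hz]
    exact hr.subset ⟨z, rfl⟩
  · intro hx
    obtain ⟨U, φ, u, hφ, hu, he⟩ := (isFtPoint_iff X.property x).1 hx
    let q := FieldPt.ofPt φ u
    let c : q.pt ⟶ U := Over.homMk (U.left.fromSpecResidueField u) rfl
    have hq : q.toHom = (yon S).map c ≫ φ := FieldPt.toHom_ofPt φ u
    obtain ⟨R, t, s, sq⟩ := exists_isPullback_yon X.property.diag φ φ
    obtain ⟨P, a', a, sqP⟩ := exists_isPullback_yon X.property.diag q.toHom q.toHom
    haveI : Mono c.left := inferInstanceAs (Mono (U.left.fromSpecResidueField u))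
    haveI : IsClosedImmersion c.left := isClosed_singleton_iff_isClosedImmersion.mp hu
    haveI hs : Etale s.left := hφ.2 _ _ _ sq
    have ht : Etale t.left := hφ.2 _ _ _ sq.flip
    have key : ∀ {P : Over S} {a a' : P ⟶ q.pt}, IsPullback ((yon S).map a') ((yon S).map a) q.toHom q.toHom →
        Etale a.left := by
      intro P a a' sqP
      haveI := (pair_point_facts hφ sq u u sqP).1
      obtain ⟨m, hm₁, hm₂⟩ : ∃ m : P ⟶ R, m ≫ t = a' ≫ c ∧ m ≫ s = a ≫ c := by
        refine ⟨(yon S).preimage (sq.lift ((yon S).map (a' ≫ c)) ((yon S).map (a ≫ c)) ?_), ?_, ?_⟩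
        · have := sqP.w
          rw [hq] at this
          simpa only [Functor.map_comp, Category.assoc] using this
        all_goals apply (yon S).map_injective; simp
      haveI : Mono c := Over.mono_of_mono_left c
      haveI : Mono m := ⟨fun g h e => (yon S).map_injective (sqP.hom_ext
        (by rw [← Functor.map_comp, ← Functor.map_comp]; congr 1
            rw [← cancel_mono c, Category.assoc, Category.assoc, ← hm₁, reassoc_of% e])
        (by rw [← Functor.map_comp, ← Functor.map_comp]; congr 1
            rw [← cancel_mono c, Category.assoc, Category.assoc, ← hm₂, reassoc_of% e]))⟩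
      haveI : Mono m.left := inferInstanceAs (Mono ((Over.forget S).map m))
      haveI : IsOpenImmersion (pullback.diagonal m.left) := inferInstance
      haveI : FormallyUnramified m.left := inferInstance
      haveI : FormallyUnramified s.left := inferInstance
      haveI : FormallyUnramified (a.left ≫ c.left) := by
        rw [← Over.comp_left, ← hm₂, Over.comp_left]
        exact MorphismProperty.comp_mem _ m.left s.left ‹_› ‹_›
      haveI : FormallyUnramified a.left := FormallyUnramified.of_comp a.left c.left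
      haveI : IsLocallyNoetherian q.pt.left :=
        inferInstanceAs (IsLocallyNoetherian (Spec (CommRingCat.of (U.left.residueField u))))
      haveI : Flat a.left := GrothLib.AlgSp.flat_of_isField_stalk _ fun b =>
        isField_stalk_of_discrete (W := Spec (CommRingCat.of (U.left.residueField u))) b
      haveI : LocallyOfFinitePresentation a.left := inferInstance
      exact Etale.of_formallyUnramified_of_flat _
    have hae := key sqP
    have ha'e := key sqP.flip
    haveI : Sheaf.IsLocallySurjective (Sheaf.toImage q.toHom) := inferInstance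
    have sqI : IsPullback ((yon S).map a') ((yon S).map a) (Sheaf.toImage q.toHom) (Sheaf.toImage q.toHom) := by
      have : IsKernelPair (Sheaf.toImage q.toHom ≫ Sheaf.imageι q.toHom) ((yon S).map a') ((yon S).map a) := by
        rw [Sheaf.toImage_ι]
        exact sqP
      exact IsKernelPair.cancel_right_of_mono this
    obtain ⟨hZ, hze, hzs⟩ := isAlgSpace_of_kernelPair sqI hae ha'e
    refine ⟨⟨Sheaf.image q.toHom, hZ⟩, ObjectProperty.homMk (Sheaf.imageι q.toHom), _, inferInstance,
      _, Sheaf.toImage q.toHom, hze, hzs, ?_, inferInstanceAs (Mono (Sheaf.imageι q.toHom)), ?_⟩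
    · exact EtLocal.locP_of_chart .lft hze hzs hφ (by rw [← hq]; exact Sheaf.toImage_ι _) (inferInstance : LocallyOfFiniteType c.left)
    · show Points.ofPt (Sheaf.toImage q.toHom ≫ Sheaf.imageι q.toHom) _ = x
      rw [Sheaf.toImage_ι]
      exact (Points.ofPt_toHom q _).trans he
  · rintro ⟨Z, f, k, _, str, z, hze, -, hf, -, hx⟩
    exact ⟨k, inferInstance, str, z ≫ f.hom, EtLocal.locP_comp .lft (IsAlgSpace.yon_obj _) Z.property X.property
      (locP_mono (P := @Etale) (Q := @LocallyOfFiniteType) (fun _ _ g (hg : Etale g) => (inferInstance : LocallyOfFiniteType g)) (EtLocal.locP_of_repWith .etale Z.property hze)) hf, hx⟩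

end Groth.Agent.S9980
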