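import Groth.Statements.S9982
import Groth.Agent.Lib.AlgSp.Constructible
import Groth.Agent.Lib.AlgSp.Strata
import Groth.Agent.Lib.AlgSp.PointsUniv
import Groth.Agent.Lib.AlgSp.LocP
-- import your own Groth.Agent.* helpers here

set_option autoImplicit false
universe u
open CategoryTheory CategoryTheory.Limits AlgebraicGeometry
open AlgSp GrothLib.AlgSp
set_option backward.isDefEq.respectTransparency false

namespace Groth.Agent.S9982

/-- A quasi-compact morphism locally of finite presentation between algebraic spaces maps etale locally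
constructible sets to etale locally constructible sets. -/
theorem result {S : Scheme.{u}} {X Y : AlgSp.Space S} (f : X ⟶ Y)
    (hq : AlgSp.IsQuasiCompactMor f.hom) (hfp : AlgSp.LocP @LocallyOfFinitePresentation f.hom)
    (E : Set (AlgSp.Points X.obj))
    (hE : (∀ (U : Over S) (φ : (AlgSp.yon S).obj U ⟶ X.obj), AlgSp.RepWith @Etale φ →
        Topology.IsLocallyConstructible (AlgSp.Points.ofPt φ ⁻¹' E))) :
    (∀ (U : Over S) (φ : (AlgSp.yon S).obj U ⟶ Y.obj), AlgSp.RepWith @Etale φ →
        Topology.IsLocallyConstructible (AlgSp.Points.ofPt φ ⁻¹' (AlgSp.Points.map f.hom '' E))) := by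
  intro U φ hφ
  refine Topology.IsLocallyConstructible.of_isOpenCover
    (U := fun O : U.left.affineOpens => (O.1 : U.left.Opens)) ?_ fun O => ?_
  · exact iSup_affineOpens_eq_top U.left
  let O' : Over S := Over.mk (O.1.ι ≫ U.hom)
  let ι' : O' ⟶ U := Over.homMk O.1.ι rfl
  let ψ : (yon S).obj O' ⟶ Y.obj := (yon S).map ι' ≫ φ
  have hψ : RepWith @Etale ψ :=
    repWith_comp ((repWith_yon_map_iff _ _).2 (inferInstanceAs (Etale O.1.ι))) hφ
  haveI : IsAffine O'.left := O.2
  suffices h : Topology.IsLocallyConstructible (Points.ofPt ψ ⁻¹' (Points.map f.hom '' E)) by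
    have e : Points.ofPt ψ = Points.ofPt φ ∘ O.1.ι := funext fun o => ofPt_map_comp ι' φ o
    rw [e] at h
    exact h
  have sq := IsPullback.of_hasPullback f.hom ψ
  have hP := isAlgSpace_pullback' Y.property X.property (IsAlgSpace.yon_obj O') f.hom ψ
  obtain ⟨W, a, hW, ha, has⟩ := exists_affine_surjective_chart hP
    (hq (IsAlgSpace.yon_obj O') (isQuasiCompactSp_yon O') ψ _ _ sq)
  have hb : RepWith @Etale (a ≫ pullback.fst f.hom ψ) :=
    repWith_comp ha (repWith_of_isPullback sq.flip hψ)
  obtain ⟨h, hh⟩ := (yon S).map_surjective (a ≫ pullback.snd f.hom ψ)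
  haveI : LocallyOfFinitePresentation h.left :=
    hfp (a ≫ pullback.fst f.hom ψ) ψ h hb hψ (by rw [hh, Category.assoc, Category.assoc, sq.w])
  haveI : IsAffine W.left := hW
  haveI : QuasiCompact h.left := HasAffineProperty.iff_of_isAffine.mpr (inferInstanceAs (CompactSpace W.left))
  have key := h.left.isLocallyConstructible_image (hE W _ hb)
  convert key using 1
  ext o
  constructor
  · rintro ⟨x, hx, e⟩
    rw [Points.ofPt_eq_map_ofScheme ψ] at e
    obtain ⟨p, hp₁, hp₂⟩ := exists_of_isPullback sq e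
    obtain ⟨w, rfl⟩ := surjective_ofPt_of_repWith has p
    rw [Points.map_ofPt, ← hh, Points.ofPt_eq_map_ofScheme, map_yon_ofPt] at hp₂
    refine ⟨w, ?_, (Points.schemeEquiv O').injective hp₂⟩
    rw [Points.map_ofPt] at hp₁
    rw [Set.mem_preimage, hp₁]
    exact hx
  · rintro ⟨w, hw, rfl⟩
    refine ⟨_, hw, ?_⟩
    rw [Points.map_ofPt, Category.assoc, sq.w, ← Category.assoc, ← hh, ofPt_map_comp]

end Groth.Agent.S9982
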