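import Groth.Statements.S9986
import Groth.Agent.S9968
-- import your own Groth.Agent.* helpers here

set_option autoImplicit false
universe u
open CategoryTheory CategoryTheory.Limits AlgebraicGeometry
open AlgSp GrothLib.AlgSp
set_option backward.isDefEq.respectTransparency false

namespace Groth.Agent.S9986

theorem map_injective_iff_of_eq {X : Scheme.{u}} {A B B' : X.Opens} (e : B = B') (i : B ⟶ A) (i' : B' ⟶ A) :
    Function.Injective (X.presheaf.map i.op) ↔ Function.Injective (X.presheaf.map i'.op) := by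
  subst e; rw [Subsingleton.elim i i']

theorem bijective_appLE {P V : Scheme.{u}} (g : P ⟶ V) [IsOpenImmersion g] (W : V.Opens) (h : W = g ''ᵁ ⊤)
    (hW : ⊤ ≤ g ⁻¹ᵁ W) : Function.Bijective (g.appLE W ⊤ hW) := by
  subst h
  haveI : IsIso (g.appLE (g ''ᵁ ⊤) ⊤ hW) := by rw [← g.appIso_hom' ⊤]; infer_instance
  exact ConcreteCategory.bijective_of_isIso _

theorem appTop_injective_iff {P V : Scheme.{u}} (g : P ⟶ V) [IsOpenImmersion g] :
    Function.Injective g.appTop ↔
      Function.Injective (V.presheaf.map (homOfLE (le_top : g.opensRange ≤ ⊤)).op) := by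
  have hle : ⊤ ≤ g ⁻¹ᵁ g.opensRange := fun z _ => ⟨z, rfl⟩
  have e : ∀ c, g.appTop c = g.appLE g.opensRange ⊤ hle (V.presheaf.map (homOfLE (le_top : g.opensRange ≤ ⊤)).op c) := by
    intro c
    erw [← CommRingCat.comp_apply, Scheme.Hom.map_appLE, Scheme.Hom.appLE_eq_app]
  have hi := (bijective_appLE g _ (by simp) hle).1
  exact ⟨fun h a b hab => h (by rw [e, e, hab]), fun h a b hab => h (hi (by rwa [← e, ← e]))⟩

theorem injective_appTop_of_schDense {P V : Scheme.{u}} (g : P ⟶ V) [IsOpenImmersion g]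
    (h : CInt.IsSchematicallyDense g.opensRange) : Function.Injective g.appTop :=
  (appTop_injective_iff g).2 ((map_injective_iff_of_eq (top_inf_eq g.opensRange) _ _).1 (h ⊤))

theorem injective_restrict_of_appTop {V P : Scheme.{u}} (O W : V.Opens) (g : P ⟶ O) [IsOpenImmersion g]
    (hW : ∀ z : ↥(O : Scheme.{u}), z ∈ g.opensRange ↔ O.ι z ∈ W) (h : Function.Injective g.appTop) :
    Function.Injective (V.presheaf.map (homOfLE (inf_le_left : O ⊓ W ≤ O)).op) := by
  have hO : ⊤ ≤ O.ι ⁻¹ᵁ O := fun z _ => z.2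
  have hbij := bijective_appLE O.ι O (by simp) hO
  have hle : ⊤ ≤ (g ≫ O.ι) ⁻¹ᵁ (O ⊓ W) := fun z _ => show O.ι (g z) ∈ O ⊓ W from ⟨(g z).2, (hW (g z)).1 ⟨z, rfl⟩⟩
  have key : ∀ c, g.appTop (O.ι.appLE O ⊤ hO c) =
      (g ≫ O.ι).appLE (O ⊓ W) ⊤ hle (V.presheaf.map (homOfLE (inf_le_left : O ⊓ W ≤ O)).op c) := by
    intro c
    have e1 : O.ι.appLE O ⊤ hO ≫ g.appTop = (g ≫ O.ι).appLE O ⊤ (fun z _ => (g z).2) := by
      rw [show g.appTop = g.appLE ⊤ ⊤ le_top from (Scheme.Hom.appLE_eq_app g).symm, Scheme.Hom.appLE_comp_appLE]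
    have e2 : V.presheaf.map (homOfLE (inf_le_left : O ⊓ W ≤ O)).op ≫ (g ≫ O.ι).appLE (O ⊓ W) ⊤ hle =
        (g ≫ O.ι).appLE O ⊤ (fun z _ => (g z).2) := Scheme.Hom.map_appLE _ _ _
    exact congrArg (fun m : Γ(V, O) ⟶ Γ(P, ⊤) => m c) (e1.trans e2.symm)
  intro a b hab
  exact hbij.1 (h (by rw [key, key, hab]))

/-- For an open immersion j : U -> X of algebraic spaces, U is scheme theoretically dense in X exactly
when the comparison map from O_X to j_* O_U on the small etale site of X is a monomorphism of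
sheaves of rings. -/
theorem result {S : Scheme.{u}} {U X : AlgSp.Space S} (j : U ⟶ X)
    (hj : AlgSp.RepWith @IsOpenImmersion j.hom) :
    AlgSp.IsSchDense j.hom ↔ Mono (AlgSp.bcRingHom hj.1) := by
  have hchart : ∀ (E : EtOver X.obj), ∃ (W : E.obj.left.left.Opens)
      (fst : (yon S).obj (Over.mk (W.ι ≫ E.obj.left.hom)) ⟶ U.obj),
      W = @Scheme.Hom.opensRange _ _ (hj.1.snd E.obj.hom).left (hj.2 _ _ _ (hj.1.isPullback E.obj.hom)) ∧
      IsPullback fst ((yon S).map (Over.homMk W.ι rfl : Over.mk (W.ι ≫ E.obj.left.hom) ⟶ E.obj.left)) j.hom E.obj.hom := by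
    intro E
    haveI : IsOpenImmersion (hj.1.snd E.obj.hom).left := hj.2 _ _ _ (hj.1.isPullback E.obj.hom)
    let g := (hj.1.snd E.obj.hom).left
    let e : Over.mk (g.opensRange.ι ≫ E.obj.left.hom) ≅ hj.1.pullback E.obj.hom :=
      (Over.isoMk g.isoOpensRange (by
        change g.isoOpensRange.hom ≫ g.opensRange.ι ≫ E.obj.left.hom = _
        rw [Scheme.Hom.isoOpensRange_hom_ι_assoc, Over.w])).symm
    refine ⟨g.opensRange, (yon S).map e.hom ≫ hj.1.fst E.obj.hom, rfl, ?_⟩
    refine (hj.1.isPullback E.obj.hom).of_iso ((yon S).mapIso e).symm (Iso.refl _) (Iso.refl _) (Iso.refl _) ?_ ?_ (by simp) (by simp)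
    · rw [Iso.refl_hom, Category.comp_id]
      simp only [Iso.symm_hom, Functor.mapIso_inv, ← Category.assoc, ← Functor.map_comp, Iso.inv_hom_id,
        CategoryTheory.Functor.map_id, Category.id_comp]
    · rw [Iso.refl_hom, Category.comp_id, Iso.symm_hom, Functor.mapIso_inv, ← Functor.map_comp]
      congr 1
      exact Over.OverMorphism.ext (Scheme.Hom.isoOpensRange_hom_ι g).symm
  constructor
  · intro hd
    apply (sheafToPresheaf _ _).mono_of_mono_map
    haveI : ∀ E, Mono ((bcRingHom hj.1).hom.app E) := fun E => by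
      obtain ⟨W, fst, hW, sq⟩ := hchart E.unop
      haveI : IsOpenImmersion (hj.1.snd E.unop.obj.hom).left := hj.2 _ _ _ (hj.1.isPullback E.unop.obj.hom)
      have h1 := injective_appTop_of_schDense (hj.1.snd E.unop.obj.hom).left
        (hW ▸ Groth.Agent.S9968.result j hd E.unop.obj.left E.unop.obj.hom E.unop.property W fst sq)
      refine ConcreteCategory.mono_of_injective _ fun a b hab => ULift.ext _ _ (h1 ?_)
      exact congrArg ULift.down hab
    exact NatTrans.mono_of_mono_app (bcRingHom hj.1).hom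
  · intro hm
    obtain ⟨V, φ, hφ, hφs⟩ := X.property.atlas
    let E₀ := EtOver.mk φ hφ
    obtain ⟨W, fst, hW, sq⟩ := hchart E₀
    refine ⟨hj, V, φ, W, fst, hφ, hφs, sq, fun O => ?_⟩
    let E := EtOver.mk ((yon S).map (Over.homMk O.ι rfl : Over.mk (O.ι ≫ V.hom) ⟶ V) ≫ φ)
      (repWith_comp ((repWith_yon_map_iff _ _).2 (inferInstanceAs (Etale O.ι))) hφ)
    have hmono : Mono ((bcRingHom hj.1).hom.app (Opposite.op E)) := by
      haveI := hm
      haveI : Mono ((sheafToPresheaf (etTop X.obj) RingCat.{u + 1}).map (bcRingHom hj.1)) := inferInstance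
      exact (NatTrans.mono_iff_mono_app _).1 this _
    haveI : IsOpenImmersion (hj.1.snd E.obj.hom).left := hj.2 _ _ _ (hj.1.isPullback E.obj.hom)
    have hinj : Function.Injective (hj.1.snd E.obj.hom).left.appTop := fun a b hab =>
      by
      haveI := hmono
      exact congrArg ULift.down (ConcreteCategory.injective_of_mono_of_preservesPullback ((bcRingHom hj.1).hom.app (Opposite.op E))
        (ULift.ext (ULift.up _) (ULift.up _) hab) (a₁ := ULift.up a) (a₂ := ULift.up b))
    obtain ⟨W', fst', hW', sq'⟩ := hchart E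
    have hWW : ∀ z : ↥(O : Scheme.{u}), z ∈ W' ↔ O.ι z ∈ W := by
      intro z
      constructor
      · intro hz
        obtain ⟨p, -, hp⟩ := exists_of_isPullback sq
          (x := Points.map fst' (Points.schemeHomeo (Over.mk (W'.ι ≫ E.obj.left.hom)) (⟨z, hz⟩ : W')))
          (y := Points.schemeHomeo V (O.ι z)) (by
            rw [← Points.map_comp, sq'.w, Points.map_comp, Points.map_yon_map_apply]
            change Points.map ((yon S).map _ ≫ φ) _ = _
            rw [Points.map_comp]
            erw [Points.map_yon_map_apply]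
            rfl)
        obtain ⟨w, rfl⟩ := (Points.schemeHomeo _).surjective p
        rw [Points.map_yon_map_apply] at hp
        rw [← (Points.schemeHomeo V).injective hp]
        exact w.2
      · intro hz
        obtain ⟨p, -, hp⟩ := exists_of_isPullback sq'
          (x := Points.map fst (Points.schemeHomeo (Over.mk (W.ι ≫ E₀.obj.left.hom)) (⟨O.ι z, hz⟩ : W)))
          (y := Points.schemeHomeo E.obj.left z) (by
            rw [← Points.map_comp, sq.w, Points.map_comp, Points.map_yon_map_apply]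
            change _ = Points.map ((yon S).map _ ≫ φ) _
            rw [Points.map_comp]
            erw [Points.map_yon_map_apply]
            rfl)
        obtain ⟨w, rfl⟩ := (Points.schemeHomeo _).surjective p
        rw [Points.map_yon_map_apply] at hp
        rw [← (Points.schemeHomeo E.obj.left).injective hp]
        exact w.2
    exact injective_restrict_of_appTop O W (hj.1.snd E.obj.hom).left (fun z => by rw [← hW']; exact hWW z) hinj
end Groth.Agent.S9986
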