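import Groth.Statements.S9990
import Groth.Agent.Lib.AlgSp.QCohPushAff
import Groth.Agent.Lib.AlgSp.ClosedPushDense
import Groth.Agent.S9987
import Groth.Agent.Lib.AlgSp.QCohAbelian
-- import your own Groth.Agent.* helpers here

set_option autoImplicit false
universe u
open CategoryTheory CategoryTheory.Limits AlgebraicGeometry Opposite
open AlgSp GrothLib.AlgSp GrothLib.AlgSp.QCohEt
set_option backward.isDefEq.respectTransparency false

namespace Groth.Agent.S9990

variable {S : Scheme.{u}} {Z X : AlgSp.Space S} (i : Z ⟶ X) (hi : AlgSp.RepWith @IsClosedImmersion i.hom)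

theorem faithful_pushMod : (AlgSp.pushModEt hi.1).Faithful := by
  haveI := isCoverDense_bc i hi
  haveI := isLocallyFull_bc i hi
  haveI : (SheafOfModules.toSheaf.{u + 1} (AlgSp.OEtRing Z.obj) ⋙ (AlgSp.EtOver.bc hi.1).sheafPushforwardContinuous
      AddCommGrpCat.{u + 1} (AlgSp.etTop X.obj) (AlgSp.etTop Z.obj)).Faithful := inferInstance
  exact Functor.Faithful.of_comp_eq (F := AlgSp.pushModEt hi.1) (G := SheafOfModules.toSheaf.{u + 1} _)
    (H := SheafOfModules.toSheaf.{u + 1} (AlgSp.OEtRing Z.obj) ⋙ (AlgSp.EtOver.bc hi.1).sheafPushforwardContinuous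
      AddCommGrpCat.{u + 1} (AlgSp.etTop X.obj) (AlgSp.etTop Z.obj)) rfl

/-- The components of a map of underlying sheaves. -/
noncomputable def phiAt {T : AlgSp.Sp S} {G G' : AlgSp.ModEt T}
    (φ : (SheafOfModules.toSheaf.{u + 1} _).obj G ⟶ (SheafOfModules.toSheaf.{u + 1} _).obj G') (B : AlgSp.EtOver T) :
    Sec (O := OEt T) G B →+ Sec (O := OEt T) G' B :=
  (φ.hom.app (op B)).hom

/-- Maps of underlying sheaves which are linear after base change are linear. -/
theorem linear_of_bc {G G' : AlgSp.ModEt Z.obj}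
    (φ : (SheafOfModules.toSheaf.{u + 1} _).obj G ⟶ (SheafOfModules.toSheaf.{u + 1} _).obj G')
    (ψ : (AlgSp.pushModEt hi.1).obj G ⟶ (AlgSp.pushModEt hi.1).obj G')
    (h : ∀ (M : AlgSp.EtOver X.obj) (x : Sec (O := OEt Z.obj) G (AlgSp.EtOver.bcObj hi.1 M)),
      phiAt φ (AlgSp.EtOver.bcObj hi.1 M) x = app (O := OEt X.obj) ψ M x)
    (B : AlgSp.EtOver Z.obj) (r : Ob (OEt Z.obj) B) (x : Sec (O := OEt Z.obj) G B) :
    phiAt φ B (r • x) = r • phiAt φ B x := by
  haveI := isCoverDense_bc i hi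
  have nat : ∀ {B B' : AlgSp.EtOver Z.obj} (b : B' ⟶ B) (y : Sec (O := OEt Z.obj) G B),
      mres (O := OEt Z.obj) G' b (phiAt φ B y) = phiAt φ B' (mres (O := OEt Z.obj) G b y) :=
    fun b y => (ConcreteCategory.congr_hom (φ.hom.naturality b.op) y).symm
  refine sec_ext (O := OEt Z.obj) G' ((AlgSp.EtOver.bc hi.1).is_cover_of_isCoverDense (AlgSp.etTop Z.obj) B) fun B' b hb => ?_
  obtain ⟨⟨M, b₁, b₂, rfl⟩⟩ := hb
  suffices hM : ∀ (r' : Ob (OEt Z.obj) (AlgSp.EtOver.bcObj hi.1 M))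
      (y : Sec (O := OEt Z.obj) G (AlgSp.EtOver.bcObj hi.1 M)),
      phiAt φ (AlgSp.EtOver.bcObj hi.1 M) (r' • y) = r' • phiAt φ (AlgSp.EtOver.bcObj hi.1 M) y by
    rw [mres_comp, mres_comp]
    refine congrArg (mres (O := OEt Z.obj) G' b₁) ?_
    rw [nat, mres_smul, mres_smul, nat]
    exact hM _ _
  intro r' y
  haveI := Groth.Agent.S9987.result i hi
  have hS := bc_covering (Y' := Z.obj) hi.1
    (Presheaf.imageSieve_mem (AlgSp.etTop X.obj) (AlgSp.bcRingHom hi.1).hom (U := op M) r')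
  refine sec_ext (O := OEt Z.obj) G' hS fun B'' c hc => ?_
  obtain ⟨M', g, c₁, ⟨a, ha⟩, rfl⟩ := hc
  rw [mres_comp, mres_comp]
  refine congrArg (mres (O := OEt Z.obj) G' c₁) ?_
  show mres (O := OEt Z.obj) G' (AlgSp.EtOver.bcMap hi.1 g) (phiAt φ (AlgSp.EtOver.bcObj hi.1 M) (r' • y)) =
    mres (O := OEt Z.obj) G' (AlgSp.EtOver.bcMap hi.1 g) (r' • phiAt φ (AlgSp.EtOver.bcObj hi.1 M) y)
  rw [nat, mres_smul, mres_smul, nat]
  have ha' : res (OEt Z.obj) (AlgSp.EtOver.bcMap hi.1 g) r' = bcF hi.1 M' a := ha.symm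
  rw [ha', h, h]
  exact map_smul (app (O := OEt X.obj) ψ M') a _

theorem full_pushMod : (AlgSp.pushModEt hi.1).Full := by
  haveI := isCoverDense_bc i hi
  haveI := isLocallyFull_bc i hi
  refine ⟨fun {G G'} ψ => ?_⟩
  obtain ⟨φ, hφ⟩ := ((AlgSp.EtOver.bc hi.1).sheafPushforwardContinuous AddCommGrpCat.{u + 1}
    (AlgSp.etTop X.obj) (AlgSp.etTop Z.obj)).map_surjective
      (X := (SheafOfModules.toSheaf.{u + 1} _).obj G) (Y := (SheafOfModules.toSheaf.{u + 1} _).obj G')
      ((SheafOfModules.toSheaf.{u + 1} _).map ψ)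
  have h : ∀ (M : AlgSp.EtOver X.obj) (x : Sec (O := OEt Z.obj) G (AlgSp.EtOver.bcObj hi.1 M)),
      phiAt φ (AlgSp.EtOver.bcObj hi.1 M) x = app (O := OEt X.obj) ψ M x := fun M x =>
    ConcreteCategory.congr_hom (congrArg (fun t => t.hom.app (op M)) hφ :) x
  refine ⟨⟨PresheafOfModules.homMk φ.hom fun B r x => linear_of_bc i hi φ ψ h B.unop r x⟩, ?_⟩
  refine SheafOfModules.hom_ext (PresheafOfModules.hom_ext fun M => ModuleCat.hom_ext (LinearMap.ext fun x => ?_))
  exact h M.unop x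


/-- For a closed immersion i : Z ⟶ X of algebraic spaces over S and any O_Z-module G on the small etale
site, the counit i^* i_* G ⟶ G of the adjunction between i^* and i_* is invertible, so that i^* is
left inverse to i_*. -/
theorem result {S : Scheme.{u}} {Z X : AlgSp.Space S} (i : Z ⟶ X)
    (hi : AlgSp.RepWith @IsClosedImmersion i.hom)
    [(SheafOfModules.pushforward.{u + 1} (AlgSp.bcRingHom hi.1)).IsRightAdjoint] (G : AlgSp.ModEt Z.obj) :
    IsIso ((AlgSp.pullPushAdjModEt hi.1).counit.app G) := by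
  haveI := isCoverDense_bc i hi
  haveI := isLocallyFull_bc i hi
  haveI := faithful_pushMod i hi
  haveI := full_pushMod i hi
  infer_instance

end Groth.Agent.S9990
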