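import Groth.Statements.S9992
import Groth.Agent.Lib.AlgSp.QCohSub
-- import your own Groth.Agent.* helpers here

set_option autoImplicit false
universe u
open CategoryTheory CategoryTheory.Limits AlgebraicGeometry Opposite
open AlgSp GrothLib.AlgSp GrothLib.AlgSp.QCohEt
set_option backward.isDefEq.respectTransparency false

namespace Groth.Agent.S9992

/-- Morphisms vanishing on affine objects vanish. -/
theorem hom_eq_zero {S : Scheme.{u}} {X : AlgSp.Sp S} {M N : AlgSp.ModEt X} (φ : M ⟶ N)
    (h : ∀ E : AlgSp.EtOver X, IsAffine E.obj.left.left → ∀ x, app (O := OEt X) φ E x = 0) : φ = 0 := by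
  have key : ∀ (V : AlgSp.EtOver X) (x : Sec (O := OEt X) M V), app (O := OEt X) φ V x = 0 := by
    intro V x
    obtain ⟨T, hT, hT'⟩ := affCovers_affEt (X := X) V
    refine sec_ext (O := OEt X) N hT fun Z z hz => ?_
    obtain ⟨W, a, b, hW, rfl⟩ := hT' z hz
    rw [map_zero, mres_comp, ← app_mres, h W hW, map_zero]
  ext1
  refine PresheafOfModules.hom_ext fun V => ModuleCat.hom_ext (LinearMap.ext fun x => key V.unop x)


/-- For a quasi-coherent O_X-module F on the small etale site of an algebraic space X and a submodule G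
of F, there is a quasi-coherent submodule G' of G through which every map from a quasi-coherent
module to G factors uniquely; G' is the largest quasi-coherent submodule of F contained in G (it is
unique up to isomorphism over G, which is formal and not restated). -/
theorem result {S : Scheme.{u}} (X : AlgSp.Space S) (F G : AlgSp.ModEt X.obj)
    [F.IsQuasicoherent] (ι : G ⟶ F) [Mono ι] :
    ∃ (G' : AlgSp.ModEt X.obj) (κ : G' ⟶ G), Mono κ ∧ G'.IsQuasicoherent ∧
      ∀ H : AlgSp.ModEt X.obj, H.IsQuasicoherent → Function.Bijective (fun φ : H ⟶ G' => φ ≫ κ) := by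
  classical
  let R := {Q : SubFam (O := OEt X.obj) F (affEt X.obj) //
    ∀ E : AlgSp.EtOver X.obj, IsAffine E.obj.left.left → Q.P E ≤ LinearMap.range (app (O := OEt X.obj) ι E)}
  let P : SubFam (O := OEt X.obj) F (affEt X.obj) :=
    { P := fun E => ⨆ Q : R, Q.1.P E
      map_mem := fun {E W} w hE hW s hs => by
        refine Submodule.iSup_induction (fun Q : R => Q.1.P E)
          (motive := fun s => mres F w s ∈ ⨆ Q : R, Q.1.P W) hs
          (fun Q y hy => Submodule.mem_iSup_of_mem Q (Q.1.map_mem w hE hW y hy)) ?_ ?_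
        · rw [map_zero]; exact zero_mem _
        · intro a b ha hb
          rw [map_add]
          exact add_mem ha hb
      gen := fun {E W} w hE hW => iSup_le fun Q => (Q.1.gen w hE hW).trans (Submodule.span_mono
        (Set.image_mono fun y hy => Submodule.mem_iSup_of_mem Q hy)) }
  obtain ⟨G', ι', hm, hrange, hgood, hfac⟩ := exists_submodule P fun E hE => good_of_isQuasicoherent F hE
  have h0 : ι' ≫ cokernel.π ι = 0 := hom_eq_zero _ fun E hE x => by
    rw [app_comp]
    obtain ⟨y, hy⟩ : app (O := OEt X.obj) ι' E x ∈ LinearMap.range (app (O := OEt X.obj) ι E) :=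
      ((iSup_le fun Q : R => Q.2 E hE) : P.P E ≤ _) ((hrange E hE).le ⟨x, rfl⟩)
    rw [← hy, ← app_comp, cokernel.condition]
    rfl
  let κ : G' ⟶ G := Abelian.monoLift ι ι' h0
  have hκ : κ ≫ ι = ι' := Abelian.monoLift_comp ι ι' h0
  haveI : Mono κ := mono_of_mono_fac hκ
  refine ⟨G', κ, inferInstance, isQuasicoherent_of_good G' hgood, fun H hH =>
    ⟨fun a b hab => (cancel_mono κ).1 hab, fun φ => ?_⟩⟩
  haveI := hH
  let Q : R := ⟨famOfHom (φ ≫ ι) fun E hE => good_of_isQuasicoherent H hE, fun E _ => by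
    rintro _ ⟨x, rfl⟩
    exact ⟨app (O := OEt X.obj) φ E x, rfl⟩⟩
  obtain ⟨ψ, hψ⟩ := hfac (φ ≫ ι) fun E _ x => Submodule.mem_iSup_of_mem Q ⟨x, rfl⟩
  exact ⟨ψ, (cancel_mono ι).1 (by rw [Category.assoc, hκ, hψ])⟩

end Groth.Agent.S9992
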