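import Groth.Agent.Lib.AlgSp.Immersion
import Groth.Statements.S9994
-- import your own Groth.Agent.* helpers here

set_option autoImplicit false
universe u
open CategoryTheory CategoryTheory.Limits AlgebraicGeometry
open AlgSp

namespace Groth.Agent.S9994

/-- A morphism f : X ⟶ Y of algebraic spaces has P etale locally on the source and target if and only if
it has P at every point of |X| in the neighbourhood sense (some chart diagram through the point
whose top arrow has P on an open neighbourhood of the chosen point). -/
theorem result {S : Scheme.{u}} (P : MorphismProperty Scheme.{u})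
    (hP : P = @LocallyOfFiniteType ∨ P = @LocallyOfFinitePresentation ∨ P = @Flat ∨ P = @Smooth ∨ P = @Etale ∨
      (∀ ⦃A B : Scheme.{u}⦄ (g : A ⟶ B), P g ↔ (LocallyQuasiFinite g ∧ LocallyOfFiniteType g)) ∨
      (∀ ⦃A B : Scheme.{u}⦄ (g : A ⟶ B), P g ↔ (LocallyOfFiniteType g ∧ FormallyUnramified g)))
    {X Y : AlgSp.Space S} (f : X ⟶ Y) :
    AlgSp.LocP P f.hom ↔
      ∀ x : AlgSp.Points X.obj, AlgSp.HasAtMor (fun U _ h u => ∃ W : U.Opens, u ∈ W ∧ P (W.ι ≫ h)) f.hom x := by
  have hloc := GrothLib.AlgSp.isZariskiLocalAtSource_of_cases hP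
  have hl := GrothLib.AlgSp.EtLocal.of_cases hP
  constructor
  · intro h x
    exact GrothLib.AlgSp.hasAtMor_of_locP X.property Y.property (j := GrothLib.AlgSp.openSubι X.obj Set.univ)
      (GrothLib.AlgSp.isAlgSpace_openSub X.property isOpen_univ)
      (GrothLib.AlgSp.repWith_mono (GrothLib.AlgSp.repWith_openSubι isOpen_univ)
        fun A B g (hg : IsOpenImmersion g) => (inferInstance : Etale g))
      (fun U V a b h' ha hb comm => h (a ≫ GrothLib.AlgSp.openSubι _ _) b h'
        (GrothLib.AlgSp.repWith_comp ha (GrothLib.AlgSp.repWith_mono (GrothLib.AlgSp.repWith_openSubι isOpen_univ)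
          fun A B g (hg : IsOpenImmersion g) => (inferInstance : Etale g))) hb (by rw [Category.assoc, comm]))
      ((Set.ext_iff.1 GrothLib.AlgSp.range_openSubι x).2 trivial)
  · exact fun h => GrothLib.AlgSp.locP_of_open_cover X.property fun x =>
      GrothLib.AlgSp.exists_open_locP_of_hasAtMor hl X.property (h x)

end Groth.Agent.S9994
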