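import Groth.Statements.S9996
import Groth.Agent.Lib.AlgSp.UnionPushout

set_option autoImplicit false
set_option backward.isDefEq.respectTransparency false
universe u
open CategoryTheory CategoryTheory.Limits AlgebraicGeometry Opposite
open AlgSp

namespace Groth.Agent.S9996

/-- For closed subspaces Y, Z of an algebraic space X with scheme theoretic union W (cut out by the
intersection of the two ideal sheaves) and scheme theoretic intersection V (cut out by their sum),
the inclusions Y ⟶ W and Z ⟶ W are closed immersions and the square V ⟶ Y, V ⟶ Z, Y ⟶ W, Z ⟶ W is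
cocartesian among algebraic spaces over S (W = Y ⨿_V Z). (The published statement also gives the
short exact sequence 0 → O_W → O_Y × O_Z → O_V → 0; that clause is not stated here.) -/
theorem result {S : Scheme.{u}} {X Y Z W V : AlgSp.Space S} (iY : Y ⟶ X) (iZ : Z ⟶ X)
    (w : W ⟶ X) (v : V ⟶ X) (I J K : AlgSp.IdealEt X.obj) (hI : I.IsQCoh) (hJ : J.IsQCoh)
    (hK : ∀ (E : AlgSp.EtOver X.obj) (hE : IsAffine E.obj.left.left), K.ideal E hE = I.ideal E hE ⊓ J.ideal E hE)
    (hY : AlgSp.IsCutOutBy I iY.hom) (hZ : AlgSp.IsCutOutBy J iZ.hom) (hW : AlgSp.IsCutOutBy K w.hom)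
    (hV : AlgSp.IsCutOutBy (I ⊔ J) v.hom) (a : Y ⟶ W) (b : Z ⟶ W) (c : V ⟶ Y) (d : V ⟶ Z)
    (ha : a ≫ w = iY) (hb : b ≫ w = iZ) (hc : c ≫ iY = v) (hd : d ≫ iZ = v) :
    AlgSp.RepWith @IsClosedImmersion a.hom ∧ AlgSp.RepWith @IsClosedImmersion b.hom ∧ IsPushout c d a b := by
  obtain ⟨hYc, hYI⟩ := hY
  obtain ⟨hZc, hZJ⟩ := hZ
  obtain ⟨hWc, hWK⟩ := hW
  obtain ⟨hVc, hVS⟩ := hV
  have haw : a.hom ≫ w.hom = iY.hom := congrArg (fun z => z.hom) ha
  have hbw : b.hom ≫ w.hom = iZ.hom := congrArg (fun z => z.hom) hb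
  have hcv : c.hom ≫ iY.hom = v.hom := congrArg (fun z => z.hom) hc
  have hdv : d.hom ≫ iZ.hom = v.hom := congrArg (fun z => z.hom) hd
  haveI := GrothLib.AlgSp.mono_of_closedImmersion hWc
  have clo : ∀ {A : AlgSp.Sp S} (j : A ⟶ W.obj) (f : A ⟶ X.obj), j ≫ w.hom = f →
      AlgSp.RepWith @IsClosedImmersion f → AlgSp.RepWith @IsClosedImmersion j := by
    intro A j f hj hf
    have sq : IsPullback j (𝟙 A) w.hom f := ⟨⟨by rw [hj, Category.id_comp]⟩,
      ⟨PullbackCone.IsLimit.mk (by rw [hj, Category.id_comp]) (fun s => s.snd)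
        (fun s => by rw [← cancel_mono w.hom, Category.assoc, hj]; exact s.condition.symm)
        (fun s => Category.comp_id _) (fun s m _ h₂ => by rw [← h₂]; exact (Category.comp_id m).symm)⟩⟩
    exact GrothLib.AlgSp.repWith_of_isPullback sq.flip hf
  refine ⟨clo _ _ haw ⟨hYc.1, hYc.2⟩, clo _ _ hbw ⟨hZc.1, hZc.2⟩, ?_⟩
  have hcomm : c ≫ a = d ≫ b := by
    ext1
    change c.hom ≫ a.hom = d.hom ≫ b.hom
    rw [← cancel_mono w.hom, Category.assoc, Category.assoc, haw, hbw, hcv, hdv]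
  have main : ∀ s : PushoutCocone c d, ∃! h : W.obj ⟶ s.pt.obj, a.hom ≫ h = s.inl.hom ∧ b.hom ≫ h = s.inr.hom :=
    fun s => GrothLib.AlgSp.UnionPushout.existsUnique_hom X.property W.property s.pt.property hYc hZc hWc hVc
      (fun E hE => by rw [hWK, hYI, hZJ]; exact hK E hE) (fun E hE => by rw [hVS, hYI, hZJ]; rfl)
      a.hom b.hom c.hom d.hom haw hbw hcv hdv s.inl.hom s.inr.hom (congrArg (fun z => z.hom) s.condition)
  choose h hh hu using main
  exact IsPushout.of_isColimit (PushoutCocone.IsColimit.mk hcomm (fun s => ⟨h s⟩)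
    (fun s => by ext1; exact (hh s).1) (fun s => by ext1; exact (hh s).2)
    (fun s m h₁ h₂ => by
      ext1
      exact hu s m.hom ⟨congrArg (fun z => z.hom) h₁, congrArg (fun z => z.hom) h₂⟩))

end Groth.Agent.S9996
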