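import Groth.Statements.S9999
import Groth.Agent.Lib.AlgSp.ClosedPushEssImage
import Groth.Agent.Lib.AlgSp.QCohSub
import Groth.Agent.Lib.AlgSp.QCohColimit
import Groth.Agent.S9990
import Mathlib.CategoryTheory.Adjunction.Comma
-- import your own Groth.Agent.* helpers here

set_option autoImplicit false
universe u
open CategoryTheory CategoryTheory.Limits AlgebraicGeometry Opposite
open AlgSp GrothLib.AlgSp GrothLib.AlgSp.QCohEt
set_option backward.isDefEq.respectTransparency false

namespace Groth.Agent.S9999

open TensorProduct in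
/-- Images of sections of good modules are generated by images on a bigger affine object. -/
theorem app_mem_span {C : Type (u + 1)} [Category.{u} C] {J : GrothendieckTopology C}
    {O : Sheaf J CommRingCat.{u + 1}} [HasSheafify J AddCommGrpCat.{u + 1}]
    [J.WEqualsLocallyBijective AddCommGrpCat.{u + 1}] {M F : SheafOfModules.{u + 1} (RR O)} (A : AffSite O)
    (f : M ⟶ F) {E W : C} (w : W ⟶ E) (hW : A.Aff W) (h : Good M A E) (y : Sec M W) {P : Set (Sec F E)}
    (hP : ∀ m, app f E m ∈ P) : app f W y ∈ Submodule.span (Ob O W) (mres F w '' P) := by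
  obtain ⟨c, rfl⟩ := (h (Over.mk w) hW).2 y
  induction c using TensorProduct.induction_on with
  | zero => rw [map_zero, map_zero]; exact zero_mem _
  | add a b ha hb => rw [map_add, map_add]; exact add_mem ha hb
  | tmul b m =>
    rw [theta_tmul, LinearMap.id_apply]
    refine (map_smul (app f W) _ _).symm ▸ Submodule.smul_mem _ _ (Submodule.subset_span ⟨_, hP m, ?_⟩)
    exact (app_mres f w m).symm

variable {S : Scheme.{u}} {Z X : AlgSp.Space S} (i : Z ⟶ X) (hi : AlgSp.RepWith @IsClosedImmersion i.hom)

include hi in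
/-- The universal quasi-coherent module with a map from its direct image to a given one. -/
theorem exists_universal
    (hq : ∀ G : AlgSp.ModEt Z.obj, G.IsQuasicoherent → ((AlgSp.pushModEt hi.1).obj G).IsQuasicoherent)
    (F : AlgSp.ModEt X.obj) [F.IsQuasicoherent] :
    ∃ (G : AlgSp.ModEt Z.obj) (_ : G.IsQuasicoherent) (e : (AlgSp.pushModEt hi.1).obj G ⟶ F),
      ∀ H : AlgSp.ModEt Z.obj, H.IsQuasicoherent → ∀ f : (AlgSp.pushModEt hi.1).obj H ⟶ F,
        ∃! h : H ⟶ G, (AlgSp.pushModEt hi.1).map h ≫ e = f := by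
  classical
  let push := AlgSp.pushModEt hi.1
  have add : ∀ {E : AlgSp.EtOver X.obj} {H H' : AlgSp.ModEt Z.obj}, H.IsQuasicoherent → H'.IsQuasicoherent →
      ∀ (f : push.obj H ⟶ F) (f' : push.obj H' ⟶ F) y y',
      ∃ (K : AlgSp.ModEt Z.obj) (_ : K.IsQuasicoherent) (g : push.obj K ⟶ F) (z : Sec (O := OEt X.obj) (push.obj K) E),
        app (O := OEt X.obj) g E z = app (O := OEt X.obj) f E y + app (O := OEt X.obj) f' E y' := by
    intro E H H' hH hH' f f' y y'
    let D : ULift.{u} Bool → AlgSp.ModEt Z.obj := fun b => if b.down then H else H'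
    let p : ∐ D ⟶ H := Sigma.desc fun b => if h : b = ⟨true⟩ then eqToHom (by subst h; rfl) else 0
    let p' : ∐ D ⟶ H' := Sigma.desc fun b => if h : b = ⟨false⟩ then eqToHom (by subst h; rfl) else 0
    let j : H ⟶ ∐ D := Sigma.ι D ⟨true⟩
    let j' : H' ⟶ ∐ D := Sigma.ι D ⟨false⟩
    have hK : (∐ D).IsQuasicoherent := isQuasicoherent_of_good _ fun B hB =>
      good_sigma (affEt Z.obj) D hB fun b => by
        rcases b with ⟨⟨⟩⟩
        · exact @good_of_isQuasicoherent _ _ H' hH' _ hB
        · exact @good_of_isQuasicoherent _ _ H hH _ hB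
    have e1 : j ≫ p = 𝟙 H := (Sigma.ι_desc _ _).trans (by simp; rfl)
    have e2 : j ≫ p' = 0 := (Sigma.ι_desc _ _).trans (by simp)
    have e3 : j' ≫ p = 0 := (Sigma.ι_desc _ _).trans (by simp)
    have e4 : j' ≫ p' = 𝟙 H' := (Sigma.ι_desc _ _).trans (by simp; rfl)
    refine ⟨∐ D, hK, push.map p ≫ f + push.map p' ≫ f',
      app (O := OEt X.obj) (push.map j) E y + app (O := OEt X.obj) (push.map j') E y', ?_⟩
    have h1 : push.map j ≫ (push.map p ≫ f + push.map p' ≫ f') = f := by
      rw [Preadditive.comp_add, ← Category.assoc, ← Category.assoc, ← Functor.map_comp, ← Functor.map_comp, e1, e2,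
        CategoryTheory.Functor.map_id, Functor.map_zero, Category.id_comp, zero_comp, add_zero]
    have h2 : push.map j' ≫ (push.map p ≫ f + push.map p' ≫ f') = f' := by
      rw [Preadditive.comp_add, ← Category.assoc, ← Category.assoc, ← Functor.map_comp, ← Functor.map_comp, e3, e4,
        CategoryTheory.Functor.map_id, Functor.map_zero, Category.id_comp, zero_comp, zero_add]
    rw [map_add, ← app_comp, ← app_comp, h1, h2]
  let P : SubFam (O := OEt X.obj) F (affEt X.obj) :=
    { P := fun E =>
        { carrier := {x | ∃ (H : AlgSp.ModEt Z.obj) (_ : H.IsQuasicoherent) (f : push.obj H ⟶ F) (y : _),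
            app (O := OEt X.obj) f E y = x}
          add_mem' := by
            rintro a b ⟨H, hH, f, y, rfl⟩ ⟨H', hH', f', y', rfl⟩
            exact add hH hH' f f' y y'
          zero_mem' := by
            let D : ULift.{u} Empty → AlgSp.ModEt Z.obj := fun e => e.down.elim
            exact ⟨∐ D, isQuasicoherent_of_good _ fun B hB => good_sigma (affEt Z.obj) D hB fun e => e.down.elim,
              0, 0, rfl⟩
          smul_mem' := by
            rintro a x ⟨H, hH, f, y, rfl⟩
            exact ⟨H, hH, f, a • y, map_smul _ a y⟩ }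
      map_mem := by
        rintro E W w - - s ⟨H, hH, f, y, rfl⟩
        exact ⟨H, hH, f, mres (O := OEt X.obj) (push.obj H) w y, app_mres f w y⟩
      gen := by
        rintro E W w hE hW s ⟨H, hH, f, y, rfl⟩
        haveI := hq H hH
        exact app_mem_span (O := OEt X.obj) (affEt X.obj) f w hW (good_of_isQuasicoherent (push.obj H) hE) y
          fun m => ⟨H, hH, f, m, rfl⟩ }
  obtain ⟨Q, ι, hι, hrange, hgood, hfac⟩ := exists_submodule P fun E hE => good_of_isQuasicoherent F hE
  haveI : Mono ι := hι
  haveI : Q.IsQuasicoherent := isQuasicoherent_of_good Q hgood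
  have hkill : Killed i hi Q := fun E hE s a ha => by
    rw [AlgSp.mem_annSect_iff]
    apply app_injective (O := OEt X.obj) ι E
    rw [map_zero, map_smul]
    obtain ⟨H, hH, f, y, hy⟩ : app (O := OEt X.obj) ι E s ∈ P.P E := hrange E hE ▸ LinearMap.mem_range_self _ s
    rw [← hy, ← map_smul]
    have hk := (AlgSp.mem_annSect_iff (M := push.obj H) (E := E) y a).1 (killed_push i hi H E hE y ha)
    exact (congrArg (app (O := OEt X.obj) f E) hk).trans (map_zero _)
  obtain ⟨G, ⟨φ⟩⟩ := exists_push_iso (i := i) (hi := hi) (F := Q) hkill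
  refine ⟨G, isQuasicoherent_of_push i hi G φ, φ.hom ≫ ι, fun H hH f => ?_⟩
  obtain ⟨ψ, hψ⟩ := hfac f fun E _ x => ⟨H, hH, f, x, rfl⟩
  haveI := Groth.Agent.S9990.full_pushMod i hi
  haveI := Groth.Agent.S9990.faithful_pushMod i hi
  refine ⟨push.preimage (ψ ≫ φ.inv), ?_, fun h hh => push.map_injective ?_⟩
  · show push.map _ ≫ _ = _
    rw [Functor.map_preimage, Category.assoc, φ.inv_hom_id_assoc, hψ]
  · rw [Functor.map_preimage, ← cancel_mono φ.hom, ← cancel_mono ι, Category.assoc, Category.assoc, hh,
      Category.assoc, φ.inv_hom_id_assoc, hψ]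


/-- For a closed immersion i : Z ⟶ X of algebraic spaces over S, the direct image functor i_* from
quasi-coherent O_Z-modules to quasi-coherent O_X-modules (on the small etale sites; that i_*
preserves quasi-coherence is taken as a hypothesis) has a right adjoint. -/
theorem result {S : Scheme.{u}} {Z X : AlgSp.Space S} (i : Z ⟶ X)
    (hi : AlgSp.RepWith @IsClosedImmersion i.hom)
    (hq : ∀ G : AlgSp.ModEt Z.obj, G.IsQuasicoherent → ((AlgSp.pushModEt hi.1).obj G).IsQuasicoherent) :
    ((SheafOfModules.isQuasicoherent (AlgSp.OEtRing X.obj)).lift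
        ((SheafOfModules.isQuasicoherent (AlgSp.OEtRing Z.obj)).ι ⋙ AlgSp.pushModEt hi.1)
        (fun G => hq G.obj G.property)).IsLeftAdjoint := by
  haveI : ∀ F, HasTerminal (CostructuredArrow
      ((SheafOfModules.isQuasicoherent (AlgSp.OEtRing X.obj)).lift
        ((SheafOfModules.isQuasicoherent (AlgSp.OEtRing Z.obj)).ι ⋙ AlgSp.pushModEt hi.1)
        (fun G => hq G.obj G.property)) F) := fun F => by
    haveI : F.obj.IsQuasicoherent := F.property
    obtain ⟨G, hG, e, he⟩ := exists_universal i hi hq F.obj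
    let t : CostructuredArrow ((SheafOfModules.isQuasicoherent (AlgSp.OEtRing X.obj)).lift
        ((SheafOfModules.isQuasicoherent (AlgSp.OEtRing Z.obj)).ι ⋙ AlgSp.pushModEt hi.1)
        (fun G => hq G.obj G.property)) F :=
      @CostructuredArrow.mk _ _ _ _ F (⟨G, hG⟩ : (SheafOfModules.isQuasicoherent (AlgSp.OEtRing Z.obj)).FullSubcategory) _
        (ObjectProperty.homMk (show ((AlgSp.pushModEt hi.1).obj G) ⟶ F.obj from e))
    refine IsTerminal.hasTerminal (X := t) (IsTerminal.ofUniqueHom
      (fun T => CostructuredArrow.homMk (ObjectProperty.homMk (he T.left.obj T.left.property T.hom.hom).exists.choose)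
        (ObjectProperty.hom_ext _ (he T.left.obj T.left.property T.hom.hom).exists.choose_spec)) fun T m => ?_)
    refine CostructuredArrow.hom_ext _ _ (ObjectProperty.hom_ext _ ?_)
    exact (he T.left.obj T.left.property T.hom.hom).unique (congrArg (fun k => k.hom) (CostructuredArrow.w m))
      (he T.left.obj T.left.property T.hom.hom).exists.choose_spec
  exact isLeftAdjoint_of_costructuredArrowTerminals _

end Groth.Agent.S9999
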